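import Mathlib

set_option autoImplicit false

namespace Cfsg.Agent.Helper4

open QuaternionGroup

variable {G : Type*} [Group G] {n : ℕ}

/-- Powers of `u` indexed by `ZMod (2n)`. -/
def zpw (n : ℕ) (u : G) (i : ZMod (2 * n)) : G := u ^ i.val

theorem zpw_add [NeZero n] (u : G) (hu : u ^ (2 * n) = 1) (i j : ZMod (2 * n)) :
    zpw n u (i + j) = zpw n u i * zpw n u j := by
  unfold zpw
  rw [ZMod.val_add, ← pow_add, ← pow_eq_pow_mod _ hu]

theorem zpw_zero (u : G) : zpw n u 0 = 1 := by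
  unfold zpw
  rw [ZMod.val_zero, pow_zero]

theorem zpw_sub [NeZero n] (u : G) (hu : u ^ (2 * n) = 1) (i j : ZMod (2 * n)) :
    zpw n u (j - i) = (zpw n u i)⁻¹ * zpw n u j := by
  have h := zpw_add u hu i (j - i)
  rw [add_sub_cancel] at h
  rw [h, inv_mul_cancel_left]

theorem zpw_natCast [NeZero n] (u : G) : zpw n u ((n : ℕ) : ZMod (2 * n)) = u ^ n := by
  unfold zpw
  rw [ZMod.val_natCast, Nat.mod_eq_of_lt]
  have := NeZero.pos n
  omega

theorem pow_mul_eq_mul_inv_pow (u J : G) (h : u * J * u = J) (k : ℕ) :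
    u ^ k * J = J * (u ^ k)⁻¹ := by
  induction k with
  | zero => simp
  | succ k ih =>
    have h1 : u * J = J * u⁻¹ := by
      calc u * J = u * J * u * u⁻¹ := by group
        _ = J * u⁻¹ := by rw [h]
    calc u ^ (k + 1) * J = u ^ k * (u * J) := by rw [pow_succ, mul_assoc]
      _ = u ^ k * (J * u⁻¹) := by rw [h1]
      _ = (u ^ k * J) * u⁻¹ := by rw [mul_assoc]
      _ = J * (u ^ k)⁻¹ * u⁻¹ := by rw [ih]
      _ = J * (u ^ (k + 1))⁻¹ := by rw [pow_succ', mul_inv_rev, mul_assoc]

/-- The homomorphism from the dicyclic group determined by `u` and `J`. -/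
def dicyclicHom [NeZero n] (u J : G) (hu : u ^ (2 * n) = 1) (hJ : J * J = u ^ n)
    (huJ : u * J * u = J) : QuaternionGroup n →* G where
  toFun
    | a i => zpw n u i
    | xa i => J * zpw n u i
  map_one' := by
    change zpw n u 0 = 1
    exact zpw_zero u
  map_mul' := by
    rintro (i | i) (j | j)
    · exact zpw_add u hu i j
    · change J * zpw n u (j - i) = zpw n u i * (J * zpw n u j)
      rw [zpw_sub u hu, ← mul_assoc, ← mul_assoc]
      congr 1
      exact (pow_mul_eq_mul_inv_pow u J huJ _).symm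
    · change J * zpw n u (i + j) = J * zpw n u i * zpw n u j
      rw [zpw_add u hu, mul_assoc]
    · change zpw n u ((n : ZMod (2 * n)) + j - i) = J * zpw n u i * (J * zpw n u j)
      have e : ((n : ZMod (2 * n)) + j - i) = (n : ZMod (2 * n)) + (j - i) := by ring
      rw [e, zpw_add u hu, zpw_natCast, zpw_sub u hu, ← hJ]
      have h1 := pow_mul_eq_mul_inv_pow u J huJ (i.val)
      change zpw n u i * J = J * (zpw n u i)⁻¹ at h1
      calc J * J * ((zpw n u i)⁻¹ * zpw n u j) = J * (J * (zpw n u i)⁻¹) * zpw n u j := by group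
        _ = J * (zpw n u i * J) * zpw n u j := by rw [h1]
        _ = J * zpw n u i * (J * zpw n u j) := by group

theorem dicyclicHom_a [NeZero n] (u J : G) (hu : u ^ (2 * n) = 1) (hJ : J * J = u ^ n)
    (huJ : u * J * u = J) (i : ZMod (2 * n)) : dicyclicHom u J hu hJ huJ (a i) = u ^ i.val := rfl

theorem dicyclicHom_xa [NeZero n] (u J : G) (hu : u ^ (2 * n) = 1) (hJ : J * J = u ^ n)
    (huJ : u * J * u = J) (i : ZMod (2 * n)) :
    dicyclicHom u J hu hJ huJ (xa i) = J * u ^ i.val := rfl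

theorem dicyclicHom_injective [NeZero n] (u J : G) (hu : u ^ (2 * n) = 1) (hJ : J * J = u ^ n)
    (huJ : u * J * u = J) (hord : ∀ k : ℕ, 0 < k → k < 2 * n → u ^ k ≠ 1)
    (hJu : ∀ k : ℕ, J * u ^ k ≠ 1) : Function.Injective (dicyclicHom u J hu hJ huJ) := by
  rw [injective_iff_map_eq_one]
  rintro (i | i) h
  · rw [dicyclicHom_a] at h
    have hlt : i.val < 2 * n := ZMod.val_lt i
    by_cases h0 : i.val = 0
    · rw [ZMod.val_eq_zero] at h0
      rw [h0]; rfl
    · exact absurd h (hord i.val (Nat.pos_of_ne_zero h0) hlt)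
  · rw [dicyclicHom_xa] at h
    exact absurd h (hJu _)

end Cfsg.Agent.Helper4
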