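import Mathlib

set_option autoImplicit false

namespace Cfsg.Agent.Helper4

/-- The index of the centralizer of `x` is the size of the conjugacy class of `x`. -/
theorem index_centralizer_eq_card_conj {G : Type*} [Group G] (x : G) :
    (Subgroup.centralizer ({x} : Set G)).index = Nat.card {y : G // IsConj x y} := by
  have h0 := congrArg Subgroup.index (Subgroup.centralizer_eq_comap_stabilizer x)
  have h1 : (Subgroup.comap (ConjAct.toConjAct (G := G)).toMonoidHom
      (MulAction.stabilizer (ConjAct G) x)).index = (MulAction.stabilizer (ConjAct G) x).index := by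
    apply Subgroup.index_comap_of_surjective
    exact (ConjAct.toConjAct (G := G)).surjective
  have h2 := MulAction.index_stabilizer (ConjAct G) x
  have h3 : (MulAction.orbit (ConjAct G) x).ncard = Nat.card {y : G // IsConj x y} := by
    rw [← Nat.card_coe_set_eq]
    apply Nat.card_congr
    refine Equiv.subtypeEquivRight ?_
    intro y
    rw [ConjAct.mem_orbit_conjAct, isConj_comm]
  exact h0.trans (h1.trans (h2.trans h3))

theorem index_centralizer_eq_card_carrier {G : Type*} [Group G] (x : G) :
    (Subgroup.centralizer ({x} : Set G)).index = Nat.card (ConjClasses.mk x).carrier := by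
  rw [index_centralizer_eq_card_conj]
  apply Nat.card_congr
  refine Equiv.subtypeEquivRight ?_
  intro y
  rw [ConjClasses.mem_carrier_iff_mk_eq, ConjClasses.mk_eq_mk_iff_isConj, isConj_comm]

end Cfsg.Agent.Helper4
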