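import Mathlib
import Cfsg.Agent.Helper4.ClassSize

set_option autoImplicit false

namespace Cfsg.Agent.Helper4

/-- Order of the preimage of a subgroup of a quotient. -/
theorem card_comap_mk' {G : Type*} [Group G] [Finite G] (N : Subgroup G) [N.Normal]
    (K : Subgroup (G ⧸ N)) :
    Nat.card (K.comap (QuotientGroup.mk' N)) = Nat.card N * Nat.card K := by
  have h1 := (K.comap (QuotientGroup.mk' N)).card_mul_index
  have h2 : (K.comap (QuotientGroup.mk' N)).index = K.index :=
    Subgroup.index_comap_of_surjective _ (QuotientGroup.mk'_surjective N)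
  have h3 := K.card_mul_index
  have h4 : Nat.card G = Nat.card (G ⧸ N) * Nat.card N :=
    Subgroup.card_eq_card_quotient_mul_card_subgroup N
  have hpos : 0 < K.index := Nat.pos_of_ne_zero Subgroup.index_ne_zero_of_finite
  apply Nat.eq_of_mul_eq_mul_right hpos
  rw [h2] at h1
  rw [h1, h4, ← h3]
  ring

/-- The key equivalence for one element `g`. -/
theorem camina_at_iff {G : Type*} [Group G] [Finite G] (N : Subgroup G) [N.Normal] (g : G) :
    (∀ n ∈ N, ∃ x : G, x * g * x⁻¹ = g * n) ↔
      Nat.card (Subgroup.centralizer ({g} : Set G)) =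
        Nat.card (Subgroup.centralizer ({(QuotientGroup.mk g : G ⧸ N)} : Set (G ⧸ N))) := by
  classical
  set C := Subgroup.centralizer ({g} : Set G) with hC
  set Cbar := Subgroup.centralizer ({(QuotientGroup.mk g : G ⧸ N)} : Set (G ⧸ N)) with hCbar
  set D := Cbar.comap (QuotientGroup.mk' N) with hD
  have hcardD : Nat.card D = Nat.card N * Nat.card Cbar := card_comap_mk' N Cbar
  have hmemD : ∀ x : G, x ∈ D ↔ g⁻¹ * (x * g * x⁻¹) ∈ N := by
    intro x
    rw [hD, Subgroup.mem_comap, hCbar, Subgroup.mem_centralizer_singleton_iff]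
    rw [← QuotientGroup.eq_one_iff]
    simp only [QuotientGroup.mk'_apply, QuotientGroup.mk_mul, QuotientGroup.mk_inv]
    rw [inv_mul_eq_one, eq_mul_inv_iff_mul_eq]
    exact eq_comm
  have hCD : C ≤ D := by
    intro x hx
    rw [hmemD]
    rw [hC, Subgroup.mem_centralizer_singleton_iff] at hx
    rw [hx, mul_inv_cancel_right, inv_mul_cancel]
    exact N.one_mem
  have hgD : g ∈ D := hCD (by rw [hC, Subgroup.mem_centralizer_singleton_iff])
  -- class of g inside D
  have hidx := index_centralizer_eq_card_conj (G := D) ⟨g, hgD⟩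
  have hcent : Subgroup.centralizer ({(⟨g, hgD⟩ : D)} : Set D) = C.subgroupOf D := by
    ext x
    rw [Subgroup.mem_centralizer_singleton_iff, Subgroup.mem_subgroupOf, hC,
      Subgroup.mem_centralizer_singleton_iff]
    constructor
    · intro h; exact congrArg Subtype.val h
    · intro h; exact Subtype.ext h
  have hcardC : Nat.card (C.subgroupOf D) = Nat.card C :=
    Nat.card_congr (Subgroup.subgroupOfEquivOfLe hCD).toEquiv
  have hDeq : Nat.card D = Nat.card C * Nat.card {y : D // IsConj (⟨g, hgD⟩ : D) y} := by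
    rw [← hidx, hcent, ← hcardC]
    exact ((C.subgroupOf D).card_mul_index).symm
  -- the injection of the class into N
  have hι : ∀ y : {y : D // IsConj (⟨g, hgD⟩ : D) y}, g⁻¹ * (y.1 : G) ∈ N := by
    intro y
    obtain ⟨x, hx⟩ := isConj_iff.mp y.2
    have : (y.1 : G) = x * g * x⁻¹ := by
      rw [← hx]; rfl
    rw [this]
    exact (hmemD x).mp x.2
  set ι : {y : D // IsConj (⟨g, hgD⟩ : D) y} → N := fun y => ⟨g⁻¹ * (y.1 : G), hι y⟩ with hιdef
  have hinj : Function.Injective ι := by
    intro y z h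
    have h1 : g⁻¹ * (y.1 : G) = g⁻¹ * (z.1 : G) := congrArg Subtype.val h
    exact Subtype.ext (Subtype.ext (mul_left_cancel h1))
  have hsurj_iff : Function.Surjective ι ↔ ∀ n ∈ N, ∃ x : G, x * g * x⁻¹ = g * n := by
    constructor
    · intro hs n hn
      obtain ⟨y, hy⟩ := hs ⟨n, hn⟩
      obtain ⟨x, hx⟩ := isConj_iff.mp y.2
      refine ⟨x, ?_⟩
      have h1 : g⁻¹ * (y.1 : G) = n := congrArg Subtype.val hy
      have h2 : (y.1 : G) = x * g * (x : G)⁻¹ := by rw [← hx]; rfl
      rw [← h2, ← h1, mul_inv_cancel_left]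
    · intro hcam n
      obtain ⟨x, hx⟩ := hcam n.1 n.2
      have hxD : x ∈ D := by
        rw [hmemD, hx, inv_mul_cancel_left]; exact n.2
      refine ⟨⟨⟨x * g * x⁻¹, D.mul_mem (D.mul_mem hxD hgD) (D.inv_mem hxD)⟩, ?_⟩, ?_⟩
      · rw [isConj_iff]
        exact ⟨⟨x, hxD⟩, rfl⟩
      · apply Subtype.ext
        show g⁻¹ * (x * g * x⁻¹) = n
        rw [hx, inv_mul_cancel_left]
  have hNpos : 0 < Nat.card N := Nat.card_pos
  have hCpos : 0 < Nat.card C := Nat.card_pos
  rw [← hsurj_iff]
  constructor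
  · intro hs
    have hbij : Function.Bijective ι := ⟨hinj, hs⟩
    have hcard := Nat.card_eq_of_bijective ι hbij
    rw [hcard, hcardD, mul_comm] at hDeq
    exact (Nat.eq_of_mul_eq_mul_right hNpos hDeq).symm
  · intro heq
    have hcard : Nat.card {y : D // IsConj (⟨g, hgD⟩ : D) y} = Nat.card N := by
      rw [hcardD, ← heq, mul_comm] at hDeq
      exact (Nat.eq_of_mul_eq_mul_left hCpos hDeq).symm
    exact ((Nat.bijective_iff_injective_and_card ι).mpr ⟨hinj, hcard⟩).2

end Cfsg.Agent.Helper4
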