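import Mathlib
import Cfsg.Prelude.Def_Local

set_option autoImplicit false

namespace Cfsg.Agent.Helper4

variable {G : Type*} [Group G]

theorem relIndex_dvd_of_le_right_normal (H K L : Subgroup G) [H.Normal] (hKL : K ≤ L) :
    H.relIndex K ∣ H.relIndex L := by
  rw [← Subgroup.relIndex_sup_right (H := K) (K := H), ← Subgroup.relIndex_sup_right (H := L) (K := H)]
  have h1 : H ≤ K ⊔ H := le_sup_right
  have h2 : K ⊔ H ≤ L ⊔ H := sup_le_sup_right hKL H
  exact Dvd.intro _ (Subgroup.relIndex_mul_relIndex H (K ⊔ H) (L ⊔ H) h1 h2)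

/-- In a `p`-solvable group, between two normal subgroups `Y < X` there is a normal `W` with
`Y < W ≤ X` and `W/Y` a `p`-group or a `p'`-group. -/
theorem exists_normal_section_of_isPSolvable {p : ℕ} [hp : Fact p.Prime]
    (hG : Cfsg.IsPSolvable p G) (X Y : Subgroup G) [hX : X.Normal] [hY : Y.Normal] (hYX : Y < X) :
    ∃ W : Subgroup G, W.Normal ∧ Y < W ∧ W ≤ X ∧
      ((∃ m : ℕ, Y.relIndex W = p ^ m) ∨ (Y.relIndex W).Coprime p) := by
  classical
  obtain ⟨n, H, h0, hlast, hmono, hnorm, hfac⟩ := hG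
  have hex : ∃ k : ℕ, ∃ hk : k < n + 1, Y ⊔ (X ⊓ H ⟨k, hk⟩) ≠ Y := by
    refine ⟨n, Nat.lt_succ_self n, ?_⟩
    have : (⟨n, Nat.lt_succ_self n⟩ : Fin (n + 1)) = Fin.last n := rfl
    rw [this, hlast, inf_top_eq, sup_of_le_right hYX.le]
    exact hYX.ne'
  set k₀ := Nat.find hex with hk₀
  obtain ⟨hk₀lt, hk₀ne⟩ := Nat.find_spec hex
  have hk₀pos : k₀ ≠ 0 := by
    intro h
    apply hk₀ne
    have : (⟨k₀, hk₀lt⟩ : Fin (n + 1)) = 0 := by
      apply Fin.ext; exact h
    rw [this, h0, inf_bot_eq, sup_bot_eq]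
  obtain ⟨j, hj⟩ : ∃ j, k₀ = j + 1 := ⟨k₀ - 1, by omega⟩
  have hjn : j < n := by omega
  have hjmin : Y ⊔ (X ⊓ H ⟨j, by omega⟩) = Y := by
    by_contra hne
    have := Nat.find_min' hex ⟨(by omega : j < n + 1), hne⟩
    omega
  set i : Fin n := ⟨j, hjn⟩ with hi
  have hcs : i.castSucc = ⟨j, by omega⟩ := rfl
  have hsc : i.succ = ⟨k₀, hk₀lt⟩ := by
    apply Fin.ext
    change j + 1 = k₀
    omega
  set A := H i.castSucc with hA
  set B := H i.succ with hB
  have hAn : A.Normal := hnorm _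
  have hBn : B.Normal := hnorm _
  have hAB : A ≤ B := hmono (Fin.castSucc_le_succ i)
  have hXA : X ⊓ A ≤ Y := by
    have h1 : X ⊓ A ≤ Y ⊔ (X ⊓ A) := le_sup_right
    rw [hA, hcs, hjmin] at h1
    rw [hA, hcs]
    exact h1
  have hWne : Y ⊔ (X ⊓ B) ≠ Y := by
    rw [hB, hsc]; exact hk₀ne
  have hdvd : Y.relIndex (Y ⊔ (X ⊓ B)) ∣ A.relIndex B := by
    rw [Subgroup.relIndex_sup_left]
    have h1 : Y.relIndex (X ⊓ B) ∣ (X ⊓ A).relIndex (X ⊓ B) :=
      Subgroup.relIndex_dvd_of_le_left (X ⊓ B) hXA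
    have h2 : (X ⊓ A).relIndex (X ⊓ B) = A.relIndex (X ⊓ B) := by
      rw [← Subgroup.inf_relIndex_right (X ⊓ A) (X ⊓ B), ← Subgroup.inf_relIndex_right A (X ⊓ B)]
      congr 1
      apply le_antisymm
      · exact le_inf (inf_le_left.trans inf_le_right) inf_le_right
      · exact le_inf (le_inf (inf_le_right.trans inf_le_left) inf_le_left) inf_le_right
    have h3 : A.relIndex (X ⊓ B) ∣ A.relIndex B :=
      relIndex_dvd_of_le_right_normal A (X ⊓ B) B inf_le_right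
    exact h1.trans (h2 ▸ h3)
  refine ⟨Y ⊔ (X ⊓ B), inferInstance, lt_of_le_of_ne le_sup_left hWne.symm,
    sup_le hYX.le inf_le_left, ?_⟩
  rcases hfac i with ⟨m, hm⟩ | hc
  · left
    rw [← hA, ← hB] at hm
    rw [hm] at hdvd
    obtain ⟨m', _, hm'⟩ := (Nat.dvd_prime_pow hp.out).mp hdvd
    exact ⟨m', hm'⟩
  · right
    rw [← hA, ← hB] at hc
    exact Nat.Coprime.coprime_dvd_left hdvd hc

/-- Quotients of `p`-solvable groups are `p`-solvable. -/
theorem isPSolvable_quotient {p : ℕ} [hp : Fact p.Prime] (hG : Cfsg.IsPSolvable p G)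
    (N : Subgroup G) [N.Normal] : Cfsg.IsPSolvable p (G ⧸ N) := by
  obtain ⟨n, H, h0, hlast, hmono, hnorm, hfac⟩ := hG
  refine ⟨n, fun i => (H i).map (QuotientGroup.mk' N), ?_, ?_, ?_, ?_, ?_⟩
  · change (H 0).map _ = ⊥
    rw [h0, Subgroup.map_bot]
  · change (H (Fin.last n)).map _ = ⊤
    rw [hlast]; exact Subgroup.map_top_of_surjective _ (QuotientGroup.mk'_surjective N)
  · intro i j hij; exact Subgroup.map_mono (hmono hij)
  · intro i; exact (hnorm i).map _ (QuotientGroup.mk'_surjective N)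
  · intro i
    have hdvd : ((H i.castSucc).map (QuotientGroup.mk' N)).relIndex
        ((H i.succ).map (QuotientGroup.mk' N)) ∣ (H i.castSucc).relIndex (H i.succ) := by
      rw [← Subgroup.relIndex_comap, Subgroup.comap_map_eq, QuotientGroup.ker_mk']
      exact Subgroup.relIndex_dvd_of_le_left _ le_sup_left
    rcases hfac i with ⟨m, hm⟩ | hc
    · left
      rw [hm] at hdvd
      obtain ⟨m', _, hm'⟩ := (Nat.dvd_prime_pow hp.out).mp hdvd
      exact ⟨m', hm'⟩
    · right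
      exact Nat.Coprime.coprime_dvd_left hdvd hc

end Cfsg.Agent.Helper4
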