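import Mathlib

set_option autoImplicit false

namespace Cfsg.Agent.Helper4

/-- A central `p`-element lies in every Sylow `p`-subgroup. -/
theorem central_pelement_mem_sylow {K : Type*} [Group K] {p : ℕ} [Fact p.Prime]
    (P : Sylow p K) (z : K) (hz : z ∈ Subgroup.center K) (n : ℕ) (hzn : z ^ (p ^ n) = 1) :
    z ∈ P := by
  have hnorm : (Subgroup.zpowers z).Normal := by
    constructor
    intro x hx g
    obtain ⟨k, rfl⟩ := Subgroup.mem_zpowers_iff.mp hx
    have hc : g * z ^ k = z ^ k * g :=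
      ((Subgroup.mem_center_iff.mp (Subgroup.zpow_mem _ hz k)) g)
    rw [hc, mul_inv_cancel_right]
    exact Subgroup.zpow_mem _ (Subgroup.mem_zpowers z) k
  have hpg : IsPGroup p (Subgroup.zpowers z) := by
    intro x
    obtain ⟨k, hk⟩ := Subgroup.mem_zpowers_iff.mp x.2
    refine ⟨n, Subtype.ext ?_⟩
    rw [Subgroup.coe_pow, ← hk, ← zpow_natCast, ← zpow_mul, mul_comm, zpow_mul, zpow_natCast, hzn,
      one_zpow]
    rfl
  exact (hpg.le_sylow_of_normal P) (Subgroup.mem_zpowers z)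

/-- If two Sylow subgroups have the same image modulo a central subgroup, then one is contained
in the other. -/
theorem sylow_le_of_map_eq {K : Type*} [Group K] {p : ℕ} [Fact p.Prime]
    (Z : Subgroup K) [Z.Normal] (hZ : Z ≤ Subgroup.center K) (P Q : Sylow p K)
    (h : (Q : Subgroup K).map (QuotientGroup.mk' Z) ≤ (P : Subgroup K).map (QuotientGroup.mk' Z)) :
    (Q : Subgroup K) ≤ P := by
  intro x hx
  have hx' : QuotientGroup.mk' Z x ∈ (P : Subgroup K).map (QuotientGroup.mk' Z) :=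
    h (Subgroup.mem_map_of_mem _ hx)
  obtain ⟨y, hy, hyx⟩ := Subgroup.mem_map.mp hx'
  have hzZ : y⁻¹ * x ∈ Z := by
    rw [← QuotientGroup.eq]
    exact hyx
  have hzc : y⁻¹ * x ∈ Subgroup.center K := hZ hzZ
  obtain ⟨a, ha⟩ := Q.2 ⟨x, hx⟩
  obtain ⟨b, hb⟩ := P.2 ⟨y, hy⟩
  have hxa : x ^ (p ^ a) = 1 := by simpa using congrArg Subtype.val ha
  have hyb : y ^ (p ^ b) = 1 := by simpa using congrArg Subtype.val hb
  have hcomm : Commute y⁻¹ x := by
    have h1 := Subgroup.mem_center_iff.mp hzc y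
    -- y * (y⁻¹ * x) = (y⁻¹ * x) * y
    have h2 : x = y⁻¹ * x * y := by
      rw [← h1, mul_inv_cancel_left]
    show y⁻¹ * x = x * y⁻¹
    calc y⁻¹ * x = y⁻¹ * x * y * y⁻¹ := by group
      _ = x * y⁻¹ := by rw [← h2]
  have hzpow : (y⁻¹ * x) ^ (p ^ (a + b)) = 1 := by
    have e1 : x ^ (p ^ (a + b)) = 1 := by rw [pow_add, pow_mul, hxa, one_pow]
    have e2 : y ^ (p ^ (a + b)) = 1 := by rw [pow_add, mul_comm, pow_mul, hyb, one_pow]
    rw [hcomm.mul_pow, inv_pow, e1, e2, inv_one, one_mul]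
  have hzP := central_pelement_mem_sylow P (y⁻¹ * x) hzc (a + b) hzpow
  have : x = y * (y⁻¹ * x) := by group
  rw [this]
  exact (P : Subgroup K).mul_mem hy hzP

theorem card_sylow_quotient_central {K : Type*} [Group K] [Finite K] (p : ℕ) [Fact p.Prime]
    (Z : Subgroup K) [Z.Normal] (hZ : Z ≤ Subgroup.center K) :
    Nat.card (Sylow p (K ⧸ Z)) = Nat.card (Sylow p K) := by
  have hsurj := QuotientGroup.mk'_surjective Z
  symm
  apply Nat.card_eq_of_bijective (Sylow.mapSurjective hsurj : Sylow p K → Sylow p (K ⧸ Z))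
  refine ⟨?_, Sylow.mapSurjective_surjective hsurj p⟩
  intro P Q hPQ
  have h : (P : Subgroup K).map (QuotientGroup.mk' Z) = (Q : Subgroup K).map (QuotientGroup.mk' Z) := by
    have := congrArg (fun R : Sylow p (K ⧸ Z) => (R : Subgroup (K ⧸ Z))) hPQ
    simpa using this
  apply Sylow.ext
  exact le_antisymm (sylow_le_of_map_eq Z hZ Q P h.le) (sylow_le_of_map_eq Z hZ P Q h.ge)

/-- Every Sylow `p`-subgroup lies in a normal subgroup of index prime to `p`. -/
theorem sylow_le_normal_of_not_dvd_index {G : Type*} [Group G] [Finite G] (p : ℕ) [Fact p.Prime]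
    (H : Subgroup G) [H.Normal] (hp : ¬ p ∣ H.index) (P : Sylow p G) : (P : Subgroup G) ≤ H := by
  intro x hx
  obtain ⟨a, ha⟩ := P.2 ⟨x, hx⟩
  have hxa : x ^ (p ^ a) = 1 := by simpa using congrArg Subtype.val ha
  rw [← QuotientGroup.eq_one_iff]
  have h1 : (QuotientGroup.mk x : G ⧸ H) ^ (p ^ a) = 1 := by
    rw [← QuotientGroup.mk_pow, hxa]; rfl
  have h2 : (QuotientGroup.mk x : G ⧸ H) ^ H.index = 1 := by
    rw [Subgroup.index_eq_card]; exact pow_card_eq_one'
  have hcop : Nat.Coprime (p ^ a) H.index :=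
    Nat.Coprime.pow_left a ((Nat.Prime.coprime_iff_not_dvd Fact.out).mpr hp)
  have := (pow_gcd_eq_one (a := (QuotientGroup.mk x : G ⧸ H))).mpr ⟨h1, h2⟩
  rwa [hcop.gcd_eq_one, pow_one] at this

theorem card_sylow_of_normal_of_not_dvd_index {G : Type*} [Group G] [Finite G] (p : ℕ)
    [Fact p.Prime] (H : Subgroup G) [H.Normal] (hp : ¬ p ∣ H.index) :
    Nat.card (Sylow p H) = Nat.card (Sylow p G) := by
  symm
  have hle := sylow_le_normal_of_not_dvd_index p H hp
  apply Nat.card_eq_of_bijective (fun P : Sylow p G => P.subtype (hle P))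
  constructor
  · intro P Q h
    exact Sylow.subtype_injective h
  · intro Q
    obtain ⟨P, hP⟩ := Q.exists_comap_subtype_eq
    refine ⟨P, ?_⟩
    apply Sylow.ext
    rw [Sylow.coe_subtype]
    exact hP

end Cfsg.Agent.Helper4
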