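import Mathlib
import Cfsg.Agent.Helper4.SylowCount

set_option autoImplicit false

namespace Cfsg.Agent.Helper4

/-- Isomorphic groups have the same number of Sylow `p`-subgroups. -/
theorem card_sylow_congr {A B : Type*} [Group A] [Group B] (p : ℕ) (e : A ≃* B) :
    Nat.card (Sylow p A) = Nat.card (Sylow p B) := by
  have hr1 : e.symm.toMonoidHom.range = ⊤ := MonoidHom.range_eq_top.mpr e.symm.surjective
  have hr2 : e.toMonoidHom.range = ⊤ := MonoidHom.range_eq_top.mpr e.surjective
  apply Nat.card_congr
  refine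
    { toFun := fun P => P.comapOfInjective e.symm.toMonoidHom e.symm.injective
        (by rw [hr1]; exact le_top)
      invFun := fun Q => Q.comapOfInjective e.toMonoidHom e.injective
        (by rw [hr2]; exact le_top)
      left_inv := ?_
      right_inv := ?_ }
  · intro P
    apply Sylow.ext
    ext x
    simp [Sylow.coe_comapOfInjective, Subgroup.mem_comap]
  · intro Q
    apply Sylow.ext
    ext x
    simp [Sylow.coe_comapOfInjective, Subgroup.mem_comap]

/-- `n_p(L)` as a relative index: if `N_G(P) ≤ L` then `n_p(L) = [L : N_G(P)]`. -/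
theorem card_sylow_subgroup_eq_relIndex {G : Type*} [Group G] [Finite G] {p : ℕ} [Fact p.Prime]
    (P : Sylow p G) (L : Subgroup G) (hPL : (P : Subgroup G) ≤ L) :
    Nat.card (Sylow p L) = (Subgroup.normalizer ((P : Subgroup G) : Set G)).relIndex L := by
  have h2 : Nat.card (Sylow p L) =
      (Subgroup.normalizer (((P.subtype hPL : Sylow p L) : Subgroup L) : Set L)).index :=
    (P.subtype hPL).card_eq_index_normalizer
  have h3 : (Subgroup.normalizer (((P.subtype hPL : Sylow p L) : Subgroup L) : Set L)) =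
      (Subgroup.normalizer ((P : Subgroup G) : Set G)).subgroupOf L := by
    rw [Sylow.coe_subtype, Subgroup.subgroupOf_normalizer_eq hPL]
  rw [h2, h3]
  rfl

/-- `n_p(G) = n_p(G/N) * n_p(PN)`. -/
theorem card_sylow_eq_mul {G : Type*} [Group G] [Finite G] {p : ℕ} [Fact p.Prime]
    (N : Subgroup G) [N.Normal] (P : Sylow p G) :
    Nat.card (Sylow p G) =
      Nat.card (Sylow p (G ⧸ N)) * Nat.card (Sylow p ↥((P : Subgroup G) ⊔ N)) := by
  set L := Subgroup.normalizer ((((P : Subgroup G) ⊔ N : Subgroup G)) : Set G) with hL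
  set N₀ := Subgroup.normalizer ((P : Subgroup G) : Set G) with hN₀
  have hsurj := QuotientGroup.mk'_surjective N
  -- N₀ ≤ L
  have hN₀L : N₀ ≤ L := by
    intro g hg
    rw [hL, Subgroup.mem_normalizer_iff]
    have hmap : ∀ g : G, g ∈ N₀ → ∀ x : G, x ∈ (P : Subgroup G) ⊔ N →
        g * x * g⁻¹ ∈ (P : Subgroup G) ⊔ N := by
      intro g hg x hx
      have hx' : x ∈ (((P : Subgroup G) ⊔ N : Subgroup G) : Set G) := hx
      rw [Subgroup.mul_normal] at hx'
      obtain ⟨a, ha, b, hb, rfl⟩ := Set.mem_mul.mp hx'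
      have e : g * (a * b) * g⁻¹ = (g * a * g⁻¹) * (g * b * g⁻¹) := by group
      rw [e]
      apply Subgroup.mul_mem
      · apply Subgroup.mem_sup_left
        exact (Subgroup.mem_normalizer_iff.mp hg a).mp ha
      · apply Subgroup.mem_sup_right
        exact ‹N.Normal›.conj_mem b hb g
    intro x
    constructor
    · exact hmap g hg x
    · intro hx
      have := hmap g⁻¹ (N₀.inv_mem hg) _ hx
      simpa [mul_assoc] using this
  have hPL : (P : Subgroup G) ≤ L := Subgroup.le_normalizer.trans hN₀L
  -- n_p(G/N) = [G : L]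
  have hb : Nat.card (Sylow p (G ⧸ N)) = L.index := by
    have h1 : Nat.card (Sylow p (G ⧸ N)) = (Subgroup.normalizer
        (((P : Subgroup G).map (QuotientGroup.mk' N) : Subgroup (G ⧸ N)) : Set (G ⧸ N))).index :=
      (P.mapSurjective hsurj).card_eq_index_normalizer
    rw [h1, ← Subgroup.index_comap_of_surjective _ hsurj,
      Subgroup.comap_normalizer_eq_of_surjective _ hsurj,
      Subgroup.comap_map_eq, QuotientGroup.ker_mk']
  -- n_p(G) = [G:N₀] = [L:N₀][G:L]
  have hc : Nat.card (Sylow p G) = N₀.relIndex L * L.index := by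
    rw [Subgroup.relIndex_mul_index hN₀L]
    exact P.card_eq_index_normalizer
  have hd := card_sylow_subgroup_eq_relIndex P L hPL
  -- n_p(L) = n_p(PN ∩ L)
  have hnorm : (((P : Subgroup G) ⊔ N).subgroupOf L).Normal := by
    rw [hL]; exact Subgroup.normal_in_normalizer
  have hle : (P : Subgroup G) ⊔ N ≤ L := Subgroup.le_normalizer
  have hidx : ¬ p ∣ (((P : Subgroup G) ⊔ N).subgroupOf L).index := by
    intro hdiv
    have h1 : (((P : Subgroup G) ⊔ N).subgroupOf L).index ∣ ((P : Subgroup G) ⊔ N).index :=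
      Subgroup.relIndex_dvd_index_of_le hle
    have h2 : ((P : Subgroup G) ⊔ N).index ∣ (P : Subgroup G).index :=
      Subgroup.index_dvd_of_le le_sup_left
    exact P.not_dvd_index (hdiv.trans (h1.trans h2))
  have he := card_sylow_of_normal_of_not_dvd_index p (((P : Subgroup G) ⊔ N).subgroupOf L) hidx
  have hf := card_sylow_congr p (Subgroup.subgroupOfEquivOfLe hle)
  rw [hc, hb, ← hd, ← he, hf, mul_comm]

/-- Quotienting by a normal `p`-subgroup does not change the number of Sylow `p`-subgroups. -/
theorem card_sylow_quotient_pgroup {G : Type*} [Group G] [Finite G] {p : ℕ} [Fact p.Prime]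
    (R : Subgroup G) [R.Normal] (hR : IsPGroup p R) :
    Nat.card (Sylow p (G ⧸ R)) = Nat.card (Sylow p G) := by
  obtain ⟨P⟩ : Nonempty (Sylow p G) := inferInstance
  have h1 := card_sylow_eq_mul R P
  have hRP : R ≤ (P : Subgroup G) := by
    have h2 : IsPGroup p ((P : Subgroup G) ⊔ R : Subgroup G) :=
      IsPGroup.to_sup_of_normal_right P.isPGroup' hR
    have h3 := P.is_maximal' h2 le_sup_left
    rw [← h3]; exact le_sup_right
  have h4 : (P : Subgroup G) ⊔ R = P := sup_eq_left.mpr hRP
  have h5 : Nat.card (Sylow p ↥((P : Subgroup G) ⊔ R)) = 1 := by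
    rw [h4]
    have : Subsingleton (Sylow p ↥(P : Subgroup G)) := by
      have hp : IsPGroup p ↥(P : Subgroup G) := P.isPGroup'
      constructor
      intro A B
      apply Sylow.ext
      have hA := A.is_maximal' (Q := ⊤) (by
        intro x; obtain ⟨k, hk⟩ := hp x.1; exact ⟨k, by
          apply Subtype.ext; simpa using hk⟩) le_top
      have hB := B.is_maximal' (Q := ⊤) (by
        intro x; obtain ⟨k, hk⟩ := hp x.1; exact ⟨k, by
          apply Subtype.ext; simpa using hk⟩) le_top
      rw [← hA, ← hB]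
    exact Nat.card_unique
  rw [h1, h5, mul_one]

end Cfsg.Agent.Helper4
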