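import Mathlib
import Cfsg.Agent.Helper4.SylowProduct
import Cfsg.Agent.Lead.SylowLemmas

set_option autoImplicit false

namespace Cfsg.Agent.Helper4

theorem card_mul_relIndex' {G : Type*} [Group G] {A B : Subgroup G} (h : A ≤ B) :
    Nat.card A * A.relIndex B = Nat.card B := by
  have h1 := (A.subgroupOf B).card_mul_index
  have h2 : Nat.card (A.subgroupOf B) = Nat.card A :=
    Nat.card_congr (Subgroup.subgroupOfEquivOfLe h).toEquiv
  rw [h2] at h1
  exact h1

/-- For `K` normal, `[HK : H] = [K : H ∩ K]`. -/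
theorem relIndex_sup_of_normal {G : Type*} [Group G] [Finite G] (H K : Subgroup G) [K.Normal] :
    H.relIndex (H ⊔ K) = H.relIndex K := by
  have e1 := card_mul_relIndex' (inf_le_left : H ⊓ K ≤ H)
  have e2 := card_mul_relIndex' (inf_le_right : H ⊓ K ≤ K)
  have e3 := card_mul_relIndex' (le_sup_left : H ≤ H ⊔ K)
  have e4 := card_mul_relIndex' (le_sup_right : K ≤ H ⊔ K)
  rw [Subgroup.inf_relIndex_left] at e1
  rw [Subgroup.inf_relIndex_right] at e2
  rw [Subgroup.relIndex_sup_right] at e4
  have hpos : 0 < Nat.card ↥(H ⊓ K) := Nat.card_pos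
  have hpos2 : 0 < K.relIndex H := by
    rcases Nat.eq_zero_or_pos (K.relIndex H) with h | h
    · rw [h, mul_zero] at e1
      have : 0 < Nat.card H := Nat.card_pos
      omega
    · exact h
  have : Nat.card ↥(H ⊓ K) * K.relIndex H * H.relIndex (H ⊔ K) =
      Nat.card ↥(H ⊓ K) * K.relIndex H * H.relIndex K := by
    rw [e1, e3, ← e4, ← e2, ← e1]; ring
  exact Nat.eq_of_mul_eq_mul_left (Nat.mul_pos hpos hpos2) this

/-- `n_p(K)` as a relative index of the normalizer of a subgroup of `p`-part order. -/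
theorem card_sylow_eq_relIndex_of_card {G : Type*} [Group G] [Finite G] {p : ℕ} [Fact p.Prime]
    (K T : Subgroup G) (hTK : T ≤ K) (hcard : Nat.card T = p ^ (Nat.card K).factorization p) :
    Nat.card (Sylow p K) = (Subgroup.normalizer (T : Set G)).relIndex K := by
  have hc : Nat.card (T.subgroupOf K) = p ^ (Nat.card K).factorization p := by
    rw [← hcard]
    exact Nat.card_congr (Subgroup.subgroupOfEquivOfLe hTK).toEquiv
  have h2 : Nat.card (Sylow p K) =
      (Subgroup.normalizer (((T.subgroupOf K : Subgroup K)) : Set K)).index :=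
    (Sylow.ofCard (T.subgroupOf K) hc).card_eq_index_normalizer
  rw [h2, ← Subgroup.subgroupOf_normalizer_eq hTK]
  rfl

end Cfsg.Agent.Helper4
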