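import Mathlib
import Cfsg.Prelude.Def_Local
import Cfsg.Prelude.Def_CaseTheorems
import Cfsg.Agent.Helper4.PSolvable
import Cfsg.Agent.Helper4.SylowProduct2
import Cfsg.Agent.Helper5.Cores
import Cfsg.Agent.Helper5.PPrimeCore
import Cfsg.Agent.Helper1.FrattiniAct
import Cfsg.Agent.Helper4.Camina

set_option autoImplicit false

namespace Cfsg.Agent.Helper4

variable {G : Type*} [Group G]

/-- Hall–Higman Lemma 1.2.3: in a `p`-solvable group with `O_{p'}(G) = 1`, the subgroup `O_p(G)`
contains its centralizer. -/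
theorem centralizer_pCore_le_of_isPSolvable [Finite G] {p : ℕ} [hp : Fact p.Prime]
    (hG : Cfsg.IsPSolvable p G) (hO : Cfsg.pPrimeCore p G = ⊥) :
    Subgroup.centralizer (Cfsg.pCore p G : Set G) ≤ Cfsg.pCore p G := by
  by_contra hnot
  set P := Cfsg.pCore p G with hP
  set C := Subgroup.centralizer (P : Set G) with hC
  have hPp : IsPGroup p P := Cfsg.Agent.Helper5.isPGroup_pCore p
  have hZC : C ⊓ P < C := by
    refine lt_of_le_of_ne inf_le_left ?_
    intro h
    apply hnot
    rw [← h]; exact inf_le_right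
  obtain ⟨W, hWn, hZW, hWC, hcase⟩ := exists_normal_section_of_isPSolvable hG C (C ⊓ P) hZC
  have hcardW := card_mul_relIndex' hZW.le
  have hZp : IsPGroup p ↥(C ⊓ P) := hPp.to_le inf_le_right
  obtain ⟨a, ha⟩ := IsPGroup.iff_card.mp hZp
  rcases hcase with ⟨m, hm⟩ | hcop
  · -- W is a normal p-subgroup
    have hWp : IsPGroup p W := by
      apply IsPGroup.of_card (n := a + m)
      rw [← hcardW, ha, hm, pow_add]
    have hWP : W ≤ P := Cfsg.Agent.Helper5.le_pCore hWn hWp
    exact absurd (le_inf hWC hWP) (not_le_of_gt hZW)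
  · -- Schur–Zassenhaus
    set Z' := (C ⊓ P).subgroupOf W with hZ'
    have hZ'n : Z'.Normal := by
      rw [hZ']; infer_instance
    have hZ'card : Nat.card Z' = p ^ a := by
      rw [← ha]
      exact Nat.card_congr (Subgroup.subgroupOfEquivOfLe hZW.le).toEquiv
    have hZ'idx : Z'.index = (C ⊓ P).relIndex W := rfl
    have hcop' : Nat.Coprime (Nat.card Z') Z'.index := by
      rw [hZ'card, hZ'idx]
      exact Nat.Coprime.pow_left a hcop.symm
    obtain ⟨Q', hQ'⟩ := Subgroup.exists_left_complement'_of_coprime hcop'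
    set Q := Q'.map W.subtype with hQ
    have hQcard : Nat.card Q = (C ⊓ P).relIndex W := by
      have h1 : Nat.card Q = Nat.card Q' :=
        Nat.card_congr (Q'.equivMapOfInjective W.subtype W.subtype_injective).symm.toEquiv
      have h2 := hQ'.card_mul_card
      have h3 := Z'.card_mul_index
      rw [h1, ← hZ'idx]
      have hpos : 0 < Nat.card Z' := Nat.card_pos
      apply Nat.eq_of_mul_eq_mul_right hpos
      rw [h2, mul_comm, h3]
    -- Q is normal in G
    have hQn : Q.Normal := by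
      constructor
      intro q hq g
      obtain ⟨q', hq'Q, rfl⟩ := Subgroup.mem_map.mp hq
      have hconjW : g * (W.subtype q') * g⁻¹ ∈ W := hWn.conj_mem _ q'.2 g
      obtain ⟨⟨⟨q₁, hq₁⟩, ⟨z₁, hz₁⟩⟩, hqz, -⟩ :=
        (Subgroup.isComplement_iff_existsUnique.mp hQ') ⟨g * (W.subtype q') * g⁻¹, hconjW⟩
      have hqz' : (q₁ : G) * (z₁ : G) = g * (q' : G) * g⁻¹ := congrArg Subtype.val hqz
      -- z₁ is central in W and has order prime to... so trivial
      set mm := (C ⊓ P).relIndex W with hmm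
      have hz₁CP : (z₁ : G) ∈ C ⊓ P := hz₁
      have hq₁C : (q₁ : G) ∈ C := hWC q₁.2
      have hcomm : Commute (q₁ : G) (z₁ : G) := by
        have := (Subgroup.mem_centralizer_iff.mp hq₁C) (z₁ : G) hz₁CP.2
        exact this.symm
      have hq₁pow : (q₁ : G) ^ mm = 1 := by
        have h1 : (⟨q₁, hq₁⟩ : Q') ^ Nat.card Q' = 1 := pow_card_eq_one'
        have h2 : Nat.card Q' = mm := by
          rw [← hQcard]
          exact Nat.card_congr (Q'.equivMapOfInjective W.subtype W.subtype_injective).toEquiv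
        rw [h2] at h1
        have h3 := congrArg (fun x : Q' => ((x : W) : G)) h1
        simpa using h3
      have hq'pow : (g * (q' : G) * g⁻¹) ^ mm = 1 := by
        have h1 : (⟨q', hq'Q⟩ : Q') ^ Nat.card Q' = 1 := pow_card_eq_one'
        have h2 : Nat.card Q' = mm := by
          rw [← hQcard]
          exact Nat.card_congr (Q'.equivMapOfInjective W.subtype W.subtype_injective).toEquiv
        rw [h2] at h1
        have h3 : (q' : G) ^ mm = 1 := by
          have h3 := congrArg (fun x : Q' => ((x : W) : G)) h1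
          simpa using h3
        rw [conj_pow, h3, mul_one, mul_inv_cancel]
      have hz₁pow : (z₁ : G) ^ mm = 1 := by
        have := hcomm.mul_pow mm
        rw [hqz', hq'pow, hq₁pow, one_mul] at this
        exact this.symm
      have hz₁one : (z₁ : G) = 1 := by
        have h1 : orderOf (z₁ : G) ∣ mm := orderOf_dvd_of_pow_eq_one hz₁pow
        obtain ⟨k, hk⟩ := IsPGroup.iff_orderOf.mp hZp ⟨(z₁ : G), hz₁CP⟩
        rw [Subgroup.orderOf_mk] at hk
        have h2 : orderOf (z₁ : G) ∣ p ^ k := by rw [hk]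
        have h3 : Nat.Coprime mm (p ^ k) := Nat.Coprime.pow_right k hcop
        have h4 := Nat.dvd_gcd h1 h2
        rw [h3] at h4
        exact orderOf_eq_one_iff.mp (Nat.dvd_one.mp h4)
      rw [hz₁one, mul_one] at hqz'
      change g * (q' : G) * g⁻¹ ∈ Q
      rw [← hqz']
      exact Subgroup.mem_map.mpr ⟨q₁, hq₁, rfl⟩
    have hQle : Q ≤ Cfsg.pPrimeCore p G :=
      Cfsg.Agent.Helper5.le_pPrimeCore hQn (by rw [hQcard]; exact hcop)
    rw [hO, le_bot_iff] at hQle
    have h1 : Nat.card Q = 1 := by rw [hQle]; exact Subgroup.card_bot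
    rw [hQcard, Subgroup.relIndex_eq_one] at h1
    exact absurd h1 (not_le_of_gt hZW)

/-- The quotient by `O_{p'}` has trivial `O_{p'}`. -/
theorem pPrimeCore_quotient_eq_bot [Finite G] (p : ℕ) [hp : Fact p.Prime] :
    Cfsg.pPrimeCore p (G ⧸ Cfsg.pPrimeCore p G) = ⊥ := by
  set N₀ := Cfsg.pPrimeCore p G with hN₀
  set Kbar := Cfsg.pPrimeCore p (G ⧸ N₀) with hKbar
  have h1 : (Nat.card Kbar).Coprime p := Cfsg.Agent.Helper5.coprime_card_pPrimeCore p
  have h2 : (Nat.card N₀).Coprime p := Cfsg.Agent.Helper5.coprime_card_pPrimeCore p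
  have h3 := card_comap_mk' N₀ Kbar
  have h4 : (Nat.card (Kbar.comap (QuotientGroup.mk' N₀))).Coprime p := by
    rw [h3]; exact Nat.Coprime.mul_left h2 h1
  have h5 : Kbar.comap (QuotientGroup.mk' N₀) ≤ N₀ :=
    Cfsg.Agent.Helper5.le_pPrimeCore inferInstance h4
  rw [eq_bot_iff]
  intro x hx
  obtain ⟨y, rfl⟩ := QuotientGroup.mk'_surjective N₀ x
  have hy : y ∈ Kbar.comap (QuotientGroup.mk' N₀) := hx
  rw [Subgroup.mem_bot]
  exact (QuotientGroup.eq_one_iff y).mpr (h5 hy)

/-- In a `p`-solvable group with `O_{p'} = 1`, an element acting trivially on the Frattini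
quotient of `O_p` lies in `O_p`. -/
theorem mem_pCore_of_commutator_mem_frattini [Finite G] {p : ℕ} [hp : Fact p.Prime]
    (hG : Cfsg.IsPSolvable p G) (hO : Cfsg.pPrimeCore p G = ⊥) (g : G)
    (hg : ∀ k ∈ Cfsg.pCore p G, g * k * g⁻¹ * k⁻¹ ∈
      (frattini ↥(Cfsg.pCore p G)).map (Cfsg.pCore p G).subtype) :
    g ∈ Cfsg.pCore p G := by
  classical
  set P := Cfsg.pCore p G with hP
  set Φ := (frattini ↥P).map P.subtype with hΦ
  have hPp : IsPGroup p P := Cfsg.Agent.Helper5.isPGroup_pCore p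
  have hPn : P.Normal := inferInstance
  have hΦP : Φ ≤ P := Subgroup.map_subtype_le _
  have hΦn : Φ.Normal := by
    have h1 := Cfsg.Agent.Helper1.le_normalizer_map_of_characteristic P (frattini ↥P)
    rw [Subgroup.normalizer_eq_top_iff.mpr hPn] at h1
    exact Subgroup.normalizer_eq_top_iff.mp (top_le_iff.mp h1)
  -- the subgroup of elements acting trivially on P/Φ
  let Cf : Subgroup G :=
    { carrier := {a | ∀ k ∈ P, a * k * a⁻¹ * k⁻¹ ∈ Φ}
      one_mem' := by
        intro k _
        have : (1 : G) * k * 1⁻¹ * k⁻¹ = 1 := by group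
        rw [this]; exact Φ.one_mem
      mul_mem' := by
        intro a b ha hb k hk
        have h1 : a * b * k * (a * b)⁻¹ * k⁻¹ =
            a * (b * k * b⁻¹ * k⁻¹) * a⁻¹ * (a * k * a⁻¹ * k⁻¹) := by group
        rw [h1]
        exact Φ.mul_mem (hΦn.conj_mem _ (hb k hk) a) (ha k hk)
      inv_mem' := by
        intro a ha k hk
        have hk' : a⁻¹ * k * a ∈ P := by
          have := hPn.conj_mem k hk a⁻¹
          rwa [inv_inv] at this
        have h1 := ha _ hk'
        have h2 : a⁻¹ * k * a⁻¹⁻¹ * k⁻¹ = (a * (a⁻¹ * k * a) * a⁻¹ * (a⁻¹ * k * a)⁻¹)⁻¹ := by group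
        rw [h2]
        exact Φ.inv_mem h1 }
  have hCf_mem : ∀ a : G, a ∈ Cf ↔ ∀ k ∈ P, a * k * a⁻¹ * k⁻¹ ∈ Φ := fun a => Iff.rfl
  have hCfn : Cf.Normal := by
    constructor
    intro a ha t k hk
    have hk' : t⁻¹ * k * t ∈ P := by
      have := hPn.conj_mem k hk t⁻¹
      rwa [inv_inv] at this
    have h1 := ha _ hk'
    have h2 : t * a * t⁻¹ * k * (t * a * t⁻¹)⁻¹ * k⁻¹ =
        t * (a * (t⁻¹ * k * t) * a⁻¹ * (t⁻¹ * k * t)⁻¹) * t⁻¹ := by group
    rw [h2]
    exact hΦn.conj_mem _ h1 t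
  -- elements of Cf of order prime to p are trivial
  have hpprime : ∀ c ∈ Cf, (orderOf c).Coprime p → c = 1 := by
    intro c hc hcop
    have hA : Subgroup.zpowers c ≤ Cf := by
      rw [Subgroup.zpowers_le]; exact hc
    have hAN : Subgroup.zpowers c ≤ Subgroup.normalizer (P : Set G) := by
      rw [Subgroup.normalizer_eq_top_iff.mpr hPn]; exact le_top
    have hcopA : (Nat.card (Subgroup.zpowers c)).Coprime (Nat.card (frattini ↥P)) := by
      rw [Nat.card_zpowers]
      have hfp : IsPGroup p (frattini ↥P) := IsPGroup.to_subgroup hPp _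
      obtain ⟨j, hj⟩ := IsPGroup.iff_card.mp hfp
      rw [hj]
      exact Nat.Coprime.pow_right j hcop
    have hcent := Cfsg.Agent.Helper1.frattini_coprime_trivial (Subgroup.zpowers c) P hAN hcopA
      (fun a ha k hk => hA ha k hk)
    have hcP : c ∈ P := centralizer_pCore_le_of_isPSolvable hG hO
      (hcent (Subgroup.mem_zpowers c))
    obtain ⟨j, hj⟩ := IsPGroup.iff_orderOf.mp hPp ⟨c, hcP⟩
    rw [Subgroup.orderOf_mk] at hj
    rw [hj] at hcop
    have : orderOf c = 1 := by
      rw [hj]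
      by_cases hj0 : j = 0
      · rw [hj0, pow_zero]
      · exfalso
        have h1 : p ∣ p ^ j := dvd_pow_self p hj0
        have h2 := Nat.Coprime.coprime_dvd_left h1 hcop
        rw [Nat.coprime_self] at h2
        exact hp.out.one_lt.ne' h2
    exact orderOf_eq_one_iff.mp this
  -- hence Cf is a p-group
  have hCfp : IsPGroup p Cf := by
    have hcard : ∀ q : ℕ, q.Prime → q ∣ Nat.card Cf → q = p := by
      intro q hq hqd
      by_contra hne
      haveI : Fact q.Prime := ⟨hq⟩
      obtain ⟨c, hc⟩ := exists_prime_orderOf_dvd_card' q hqd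
      have hc' : orderOf (c : G) = q := by rw [Subgroup.orderOf_coe]; exact hc
      have hcop : (orderOf (c : G)).Coprime p := by
        rw [hc']
        exact (Nat.coprime_primes hq hp.out).mpr hne
      have := hpprime (c : G) c.2 hcop
      rw [this, orderOf_one] at hc'
      exact hq.one_lt.ne hc'
    have hpos : Nat.card Cf ≠ 0 := Nat.card_pos.ne'
    have := Nat.eq_prime_pow_of_unique_prime_dvd hpos (fun {d} hd hdd => hcard d hd hdd)
    exact IsPGroup.of_card this
  have hCfP : Cf ≤ P := Cfsg.Agent.Helper5.le_pCore hCfn hCfp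
  exact hCfP hg

end Cfsg.Agent.Helper4
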