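import Mathlib
import Cfsg.Prelude.Def_Solvable
import Cfsg.Prelude.Def_Transfer

set_option autoImplicit false

namespace Cfsg.Agent.Helper4

/-- a group whose `p'`-core is trivial has an element of order the exponent -/
def SectionGood (p : ℕ) (X : Type*) [Group X] : Prop :=
  Cfsg.pPrimeCore p X = ⊥ → ∃ k : X, orderOf k = Monoid.exponent X

/-- every section is good -/
def SectionHyp (p : ℕ) (G : Type*) [Group G] : Prop :=
  ∀ (H : Subgroup G) (N : Subgroup H) [N.Normal], SectionGood p (H ⧸ N)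

theorem pPrimeCore_eq_bot_of_mulEquiv {p : ℕ} {X Y : Type*} [Group X] [Group Y] (e : X ≃* Y)
    (h : Cfsg.pPrimeCore p Y = ⊥) : Cfsg.pPrimeCore p X = ⊥ := by
  rw [eq_bot_iff]
  apply sSup_le
  rintro N ⟨hNn, hNc⟩
  have h1 : N.map e.toMonoidHom ≤ Cfsg.pPrimeCore p Y := by
    apply le_sSup
    refine ⟨hNn.map _ e.surjective, ?_⟩
    rw [← Nat.card_congr (N.equivMapOfInjective e.toMonoidHom e.injective).toEquiv]
    exact hNc
  rw [h] at h1
  intro x hx
  have h2 : e x ∈ N.map e.toMonoidHom := ⟨x, hx, rfl⟩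
  have h3 := h1 h2
  rw [Subgroup.mem_bot] at h3 ⊢
  exact e.injective (h3.trans (map_one e).symm)

theorem SectionGood.of_mulEquiv {p : ℕ} {X Y : Type*} [Group X] [Group Y] (e : X ≃* Y)
    (h : SectionGood p X) : SectionGood p Y := by
  intro hY
  obtain ⟨k, hk⟩ := h (pPrimeCore_eq_bot_of_mulEquiv e hY)
  refine ⟨e k, ?_⟩
  rw [MulEquiv.orderOf_eq, hk, Monoid.exponent_eq_of_mulEquiv e]

/-- the hypothesis passes to subgroups -/
theorem SectionHyp.subgroup {p : ℕ} {G : Type*} [Group G] (h : SectionHyp p G) (L : Subgroup G) :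
    SectionHyp p L := by
  intro H₁ N₁ hN₁
  obtain ⟨e, he⟩ : ∃ e : H₁ ≃* (H₁.map L.subtype), e = H₁.equivMapOfInjective L.subtype
    (Subgroup.subtype_injective L) := ⟨_, rfl⟩
  obtain ⟨N, hNdef⟩ : ∃ N : Subgroup (H₁.map L.subtype), N = N₁.map e.toMonoidHom := ⟨_, rfl⟩
  haveI hNn : N.Normal := by rw [hNdef]; exact hN₁.map _ e.surjective
  have e2 : H₁ ⧸ N₁ ≃* (H₁.map L.subtype) ⧸ N := QuotientGroup.congr N₁ N e hNdef.symm
  exact (h (H₁.map L.subtype) N).of_mulEquiv e2.symm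

/-- the hypothesis passes to quotients -/
theorem SectionHyp.quotient {p : ℕ} {G : Type*} [Group G] (h : SectionHyp p G) (M : Subgroup G)
    [M.Normal] : SectionHyp p (G ⧸ M) := by
  intro H₁ N₁ hN₁
  obtain ⟨H, hHdef⟩ : ∃ H : Subgroup G, H = H₁.comap (QuotientGroup.mk' M) := ⟨_, rfl⟩
  have hmem : ∀ x : H, QuotientGroup.mk' M (x : G) ∈ H₁ := by
    intro x
    have h1 : (x : G) ∈ H₁.comap (QuotientGroup.mk' M) := hHdef ▸ x.2
    exact h1
  let φ : H →* H₁ := ((QuotientGroup.mk' M).comp H.subtype).codRestrict H₁ hmem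
  have hφ : Function.Surjective φ := by
    rintro ⟨y, hy⟩
    obtain ⟨x, rfl⟩ := QuotientGroup.mk'_surjective M y
    have hx : x ∈ H := by rw [hHdef]; exact hy
    exact ⟨⟨x, hx⟩, rfl⟩
  let ψ : H →* H₁ ⧸ N₁ := (QuotientGroup.mk' N₁).comp φ
  have hψ : Function.Surjective ψ := (QuotientGroup.mk'_surjective N₁).comp hφ
  have e : H ⧸ ψ.ker ≃* H₁ ⧸ N₁ := QuotientGroup.quotientKerEquivOfSurjective ψ hψ
  exact (h H ψ.ker).of_mulEquiv e

/-- the hypothesis gives goodness of the group itself -/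
theorem SectionHyp.good {p : ℕ} {G : Type*} [Group G] (h : SectionHyp p G) : SectionGood p G := by
  have e : (⊤ : Subgroup G) ⧸ (⊥ : Subgroup (⊤ : Subgroup G)) ≃* G :=
    QuotientGroup.quotientBot.trans Subgroup.topEquiv
  exact (h ⊤ ⊥).of_mulEquiv e

/-- a finite `p`-group has an element whose order is the exponent -/
theorem exists_orderOf_eq_exponent_of_pgroup {p : ℕ} [hp : Fact p.Prime] {X : Type*} [Group X]
    [Finite X] (hX : IsPGroup p X) : ∃ k : X, orderOf k = Monoid.exponent X := by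
  obtain ⟨g, hg⟩ := hp.out.exists_orderOf_eq_pow_factorization_exponent X
  refine ⟨g, ?_⟩
  obtain ⟨n, hn⟩ := IsPGroup.iff_card.1 hX
  have hdvd : Monoid.exponent X ∣ p ^ n := hn ▸ Group.exponent_dvd_nat_card
  obtain ⟨i, _, hi⟩ := (Nat.dvd_prime_pow hp.out).1 hdvd
  rw [hg, hi, hp.out.factorization_pow, Finsupp.single_eq_same]

end Cfsg.Agent.Helper4
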