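import Mathlib
import Cfsg.Prelude.Def_Local
import Cfsg.Agent.Helper4.HallHigman
import Cfsg.Agent.Helper4.PSolvable
import Cfsg.Agent.Helper4.PNilpSectionA

set_option autoImplicit false

namespace Cfsg.Agent.Helper4

universe u

variable {G : Type u} [Group G]

theorem upperPSeries_succ_of_even (p : ℕ) (n : ℕ) (hn : Even n) :
    (Cfsg.upperPSeries p G (n + 1)).1 =
      (Cfsg.pPrimeCore p (G ⧸ (Cfsg.upperPSeries p G n).1)).comap (QuotientGroup.mk' _) := by
  rw [Cfsg.upperPSeries]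
  simp only [if_pos hn]

theorem upperPSeries_succ_of_not_even (p : ℕ) (n : ℕ) (hn : ¬ Even n) :
    (Cfsg.upperPSeries p G (n + 1)).1 =
      (Cfsg.pCore p (G ⧸ (Cfsg.upperPSeries p G n).1)).comap (QuotientGroup.mk' _) := by
  rw [Cfsg.upperPSeries]
  simp only [if_neg hn]

/-- `O_{p'}` of the quotient by an odd-position term of the upper `p`-series is trivial -/
theorem pPrimeCore_quotient_upperPSeries_odd [Finite G] (p : ℕ) [hp : Fact p.Prime] (k : ℕ) :
    Cfsg.pPrimeCore p (G ⧸ (Cfsg.upperPSeries p G (2 * k + 1)).1) = ⊥ := by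
  obtain ⟨N, hN⟩ : ∃ N : Subgroup G, N = (Cfsg.upperPSeries p G (2 * k)).1 := ⟨_, rfl⟩
  haveI hNn : N.Normal := by rw [hN]; infer_instance
  obtain ⟨M, hM⟩ : ∃ M : Subgroup G, M = (Cfsg.upperPSeries p G (2 * k + 1)).1 := ⟨_, rfl⟩
  haveI hMn : M.Normal := by rw [hM]; infer_instance
  have hMeq : M = (Cfsg.pPrimeCore p (G ⧸ N)).comap (QuotientGroup.mk' N) := by
    rw [hM, upperPSeries_succ_of_even p (2 * k) (even_two_mul k)]
    subst hN
    rfl
  have hNM : N ≤ M := by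
    rw [hMeq]
    intro x hx
    rw [Subgroup.mem_comap]
    have : QuotientGroup.mk' N x = 1 := (QuotientGroup.eq_one_iff x).2 hx
    rw [this]
    exact Subgroup.one_mem _
  have hmap : M.map (QuotientGroup.mk' N) = Cfsg.pPrimeCore p (G ⧸ N) := by
    rw [hMeq]
    exact Subgroup.map_comap_eq_self_of_surjective (QuotientGroup.mk'_surjective N) _
  have e1 : (G ⧸ N) ⧸ M.map (QuotientGroup.mk' N) ≃* G ⧸ M :=
    QuotientGroup.quotientQuotientEquivQuotient N M hNM
  have e2 : (G ⧸ N) ⧸ M.map (QuotientGroup.mk' N) ≃* (G ⧸ N) ⧸ Cfsg.pPrimeCore p (G ⧸ N) :=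
    QuotientGroup.quotientMulEquivOfEq hmap
  have h1 : Cfsg.pPrimeCore p ((G ⧸ N) ⧸ Cfsg.pPrimeCore p (G ⧸ N)) = ⊥ :=
    pPrimeCore_quotient_eq_bot p
  have e3 : G ⧸ M ≃* G ⧸ (Cfsg.upperPSeries p G (2 * k + 1)).1 :=
    QuotientGroup.quotientMulEquivOfEq hM
  exact pPrimeCore_eq_bot_of_mulEquiv ((e3.symm.trans e1.symm).trans e2) h1

/-- Hall–Higman 1.2.3 along the upper `p`-series -/
theorem centralizer_upperPSeries_le [Finite G] {p : ℕ} [hp : Fact p.Prime]
    (hsol : Cfsg.IsPSolvable p G) (k : ℕ) :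
    Subgroup.centralizer ((((Cfsg.upperPSeries p G (2 * k + 2)).1.map
      (QuotientGroup.mk' (Cfsg.upperPSeries p G (2 * k + 1)).1)) :
        Subgroup (G ⧸ (Cfsg.upperPSeries p G (2 * k + 1)).1)) :
        Set (G ⧸ (Cfsg.upperPSeries p G (2 * k + 1)).1)) ≤
      (Cfsg.upperPSeries p G (2 * k + 2)).1.map
        (QuotientGroup.mk' (Cfsg.upperPSeries p G (2 * k + 1)).1) := by
  have hodd : ¬ Even (2 * k + 1) := by
    rw [Nat.not_even_iff_odd]
    exact odd_two_mul_add_one k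
  have h1 : (Cfsg.upperPSeries p G (2 * k + 2)).1 =
      (Cfsg.pCore p (G ⧸ (Cfsg.upperPSeries p G (2 * k + 1)).1)).comap (QuotientGroup.mk' _) :=
    upperPSeries_succ_of_not_even p (2 * k + 1) hodd
  rw [h1, Subgroup.map_comap_eq_self_of_surjective (QuotientGroup.mk'_surjective _)]
  exact centralizer_pCore_le_of_isPSolvable (isPSolvable_quotient hsol _)
    (pPrimeCore_quotient_upperPSeries_odd p k)

end Cfsg.Agent.Helper4
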