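import Mathlib
import Cfsg.Agent.Helper4.UpperPSeries

set_option autoImplicit false

namespace Cfsg.Agent.Helper4

universe u

variable {G : Type u} [Group G]

theorem pPrimeCore_map_le {p : ℕ} {A : Type*} {B : Type*} [Group A] [Group B] (f : A ≃* B) :
    (Cfsg.pPrimeCore p A).map f.toMonoidHom ≤ Cfsg.pPrimeCore p B := by
  rw [Subgroup.map_le_iff_le_comap]
  unfold Cfsg.pPrimeCore
  apply sSup_le
  rintro N ⟨hNn, hNc⟩
  rw [← Subgroup.map_le_iff_le_comap]
  apply le_sSup
  refine ⟨hNn.map _ f.surjective, ?_⟩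
  rw [← Nat.card_congr (N.equivMapOfInjective f.toMonoidHom f.injective).toEquiv]
  exact hNc

theorem pPrimeCore_map_mulEquiv {p : ℕ} {X : Type*} {Y : Type*} [Group X] [Group Y] (e : X ≃* Y) :
    (Cfsg.pPrimeCore p X).map e.toMonoidHom = Cfsg.pPrimeCore p Y := by
  apply le_antisymm (pPrimeCore_map_le e)
  intro y hy
  have h1 := pPrimeCore_map_le e.symm (Subgroup.mem_map_of_mem e.symm.toMonoidHom hy)
  refine ⟨e.symm y, h1, ?_⟩
  exact e.apply_symm_apply y

theorem pCore_map_le {p : ℕ} {A : Type*} {B : Type*} [Group A] [Group B] (f : A ≃* B) :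
    (Cfsg.pCore p A).map f.toMonoidHom ≤ Cfsg.pCore p B := by
  rw [Subgroup.map_le_iff_le_comap]
  unfold Cfsg.pCore
  apply sSup_le
  rintro N ⟨hNn, hNc⟩
  rw [← Subgroup.map_le_iff_le_comap]
  apply le_sSup
  exact ⟨hNn.map _ f.surjective, hNc.map _⟩

theorem pCore_map_mulEquiv {p : ℕ} {X : Type*} {Y : Type*} [Group X] [Group Y] (e : X ≃* Y) :
    (Cfsg.pCore p X).map e.toMonoidHom = Cfsg.pCore p Y := by
  apply le_antisymm (pCore_map_le e)
  intro y hy
  have h1 := pCore_map_le e.symm (Subgroup.mem_map_of_mem e.symm.toMonoidHom hy)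
  refine ⟨e.symm y, h1, ?_⟩
  exact e.apply_symm_apply y

/-- the canonical isomorphism `G ⧸ W ≃* (G ⧸ N) ⧸ W̄` for `W` the preimage of `W̄` -/
theorem exists_quotient_equiv (N : Subgroup G) [N.Normal] (Wb : Subgroup (G ⧸ N)) [Wb.Normal]
    (W : Subgroup G) [W.Normal] (hW : W = Wb.comap (QuotientGroup.mk' N)) :
    ∃ e : G ⧸ W ≃* (G ⧸ N) ⧸ Wb, ∀ g : G,
      e (QuotientGroup.mk' W g) = QuotientGroup.mk' Wb (QuotientGroup.mk' N g) := by
  have hsurj : Function.Surjective ((QuotientGroup.mk' Wb).comp (QuotientGroup.mk' N)) :=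
    (QuotientGroup.mk'_surjective Wb).comp (QuotientGroup.mk'_surjective N)
  have hker : W = ((QuotientGroup.mk' Wb).comp (QuotientGroup.mk' N)).ker := by
    rw [hW]
    ext g
    rw [Subgroup.mem_comap, MonoidHom.mem_ker, MonoidHom.comp_apply, QuotientGroup.mk'_apply,
      QuotientGroup.mk'_apply, QuotientGroup.eq_one_iff]
  refine ⟨(QuotientGroup.quotientMulEquivOfEq hker).trans
    (QuotientGroup.quotientKerEquivOfSurjective _ hsurj), ?_⟩
  intro g
  rfl

/-- preimages of `O_{p'}` match along the canonical isomorphism -/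
theorem comap_pPrimeCore_quotient (p : ℕ) (N : Subgroup G) [N.Normal] (Wb : Subgroup (G ⧸ N))
    [Wb.Normal] (W : Subgroup G) [W.Normal] (hW : W = Wb.comap (QuotientGroup.mk' N)) :
    ((Cfsg.pPrimeCore p ((G ⧸ N) ⧸ Wb)).comap (QuotientGroup.mk' Wb)).comap (QuotientGroup.mk' N) =
      (Cfsg.pPrimeCore p (G ⧸ W)).comap (QuotientGroup.mk' W) := by
  obtain ⟨e, he⟩ := exists_quotient_equiv N Wb W hW
  ext g
  rw [Subgroup.mem_comap, Subgroup.mem_comap, Subgroup.mem_comap, ← he g,
    ← pPrimeCore_map_mulEquiv e]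
  constructor
  · rintro ⟨x, hx, hxe⟩
    have : x = QuotientGroup.mk' W g := e.injective hxe
    rw [← this]; exact hx
  · intro h
    exact ⟨_, h, rfl⟩

theorem comap_pCore_quotient (p : ℕ) (N : Subgroup G) [N.Normal] (Wb : Subgroup (G ⧸ N))
    [Wb.Normal] (W : Subgroup G) [W.Normal] (hW : W = Wb.comap (QuotientGroup.mk' N)) :
    ((Cfsg.pCore p ((G ⧸ N) ⧸ Wb)).comap (QuotientGroup.mk' Wb)).comap (QuotientGroup.mk' N) =
      (Cfsg.pCore p (G ⧸ W)).comap (QuotientGroup.mk' W) := by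
  obtain ⟨e, he⟩ := exists_quotient_equiv N Wb W hW
  ext g
  rw [Subgroup.mem_comap, Subgroup.mem_comap, Subgroup.mem_comap, ← he g,
    ← pCore_map_mulEquiv e]
  constructor
  · rintro ⟨x, hx, hxe⟩
    have : x = QuotientGroup.mk' W g := e.injective hxe
    rw [← this]; exact hx
  · intro h
    exact ⟨_, h, rfl⟩

/-- the upper `p`-series of `G ⧸ O_{p',p}(G)` is the shifted upper `p`-series of `G` -/
theorem upperPSeries_add_two (p : ℕ) (n : ℕ) :
    (Cfsg.upperPSeries p G (n + 2)).1 =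
      (Cfsg.upperPSeries p (G ⧸ (Cfsg.upperPSeries p G 2).1) n).1.comap
        (QuotientGroup.mk' (Cfsg.upperPSeries p G 2).1) := by
  induction n with
  | zero =>
    show (Cfsg.upperPSeries p G 2).1 = (⊥ : Subgroup _).comap _
    rw [MonoidHom.comap_bot, QuotientGroup.ker_mk']
  | succ n ih =>
    by_cases hn : Even n
    · have hn2 : Even (n + 2) := by
        rw [Nat.even_add]; simp [hn]
      rw [upperPSeries_succ_of_even p (n + 2) hn2, upperPSeries_succ_of_even p n hn]
      exact (comap_pPrimeCore_quotient p _ _ _ ih).symm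
    · have hn2 : ¬ Even (n + 2) := by
        rw [Nat.even_add]; simp [hn]
      rw [upperPSeries_succ_of_not_even p (n + 2) hn2, upperPSeries_succ_of_not_even p n hn]
      exact (comap_pCore_quotient p _ _ _ ih).symm

end Cfsg.Agent.Helper4
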