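import Mathlib

set_option autoImplicit false

namespace Cfsg.Agent.Helper4

variable {G : Type*} [Group G]

/-- A Frobenius-like group `Q X` acting on an abelian normal subgroup `V` with all nonidentity
elements of `Q` and of `X` fixed-point-free and `X` fixed-point-free on `Q`: then `V` has exponent
dividing `|Q|`. -/
theorem pow_card_eq_one_of_frobenius_action [Finite G] (V Q X : Subgroup G) [hVn : V.Normal]
    (hVc : ∀ a ∈ V, ∀ b ∈ V, a * b = b * a)
    (hXQ : ∀ y ∈ X, ∀ g ∈ Q, y * g * y⁻¹ ∈ Q)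
    (h1 : ∀ g ∈ Q, g ≠ 1 → ∀ v ∈ V, g * v * g⁻¹ = v → v = 1)
    (h2 : ∀ y ∈ X, y ≠ 1 → ∀ v ∈ V, y * v * y⁻¹ = v → v = 1)
    (h3 : ∀ y ∈ X, y ≠ 1 → ∀ g ∈ Q, y * g * y⁻¹ = g → g = 1)
    (hQ : Q ≠ ⊥) (hX : X ≠ ⊥) : ∀ v ∈ V, v ^ Nat.card Q = 1 := by
  classical
  let instC : CommGroup V :=
    { (inferInstance : Group V) with mul_comm := fun a b => Subtype.ext (hVc a a.2 b b.2) }
  have hfQ : Fintype Q := Fintype.ofFinite Q
  have hfX : Fintype X := Fintype.ofFinite X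
  obtain ⟨c, hc⟩ : ∃ c : G →* MulAut V, ∀ g (v : V), ((c g v : V) : G) = g * v * g⁻¹ :=
    ⟨MulAut.conjNormal, fun g v => MulAut.conjNormal_apply g v⟩
  -- norms over a subgroup are fixed
  have hnorm_fixed : ∀ (S : Subgroup G) [Fintype S] (v : V) (h : S),
      c (h : G) (∏ g : S, c (g : G) v) = ∏ g : S, c (g : G) v := by
    intro S _ v h
    rw [map_prod]
    have : ∀ g : S, c (h : G) (c (g : G) v) = c (((h * g : S)) : G) v := by
      intro g
      rw [Subgroup.coe_mul, map_mul, MulAut.mul_apply]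
    simp_rw [this]
    exact Fintype.prod_equiv (Equiv.mulLeft h) _ _ (fun g => rfl)
  obtain ⟨g₀, hg₀Q, hg₀1⟩ : ∃ g₀ ∈ Q, g₀ ≠ 1 := by
    by_contra hno
    push Not at hno
    exact hQ ((Subgroup.eq_bot_iff_forall Q).2 hno)
  obtain ⟨y₀, hy₀X, hy₀1⟩ : ∃ y₀ ∈ X, y₀ ≠ 1 := by
    by_contra hno
    push Not at hno
    exact hX ((Subgroup.eq_bot_iff_forall X).2 hno)
  have hNQ : ∀ v : V, ∏ g : Q, c (g : G) v = 1 := by
    intro v
    have hfix := hnorm_fixed Q v ⟨g₀, hg₀Q⟩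
    have h4 := h1 g₀ hg₀Q hg₀1 _ (∏ g : Q, c (g : G) v).2 (by rw [← hc, hfix])
    exact Subtype.ext h4
  have hNX : ∀ v : V, ∏ y : X, c (y : G) v = 1 := by
    intro v
    have hfix := hnorm_fixed X v ⟨y₀, hy₀X⟩
    have h4 := h2 y₀ hy₀X hy₀1 _ (∏ y : X, c (y : G) v).2 (by rw [← hc, hfix])
    exact Subtype.ext h4
  intro v₀ hv₀
  obtain ⟨v, hv⟩ : ∃ v : V, (v : G) = v₀ := ⟨⟨v₀, hv₀⟩, rfl⟩
  -- the double product
  have hD : ∏ g : Q, ∏ y : X, c ((g : G) * y * (g : G)⁻¹) v = 1 := by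
    apply Finset.prod_eq_one
    intro g _
    have : ∀ y : X, c ((g : G) * y * (g : G)⁻¹) v = c (g : G) (c (y : G) (c (g : G)⁻¹ v)) := by
      intro y
      rw [map_mul, map_mul, MulAut.mul_apply, MulAut.mul_apply]
    simp_rw [this]
    rw [← map_prod, hNX, map_one]
  -- for fixed y ≠ 1 the inner product over Q is trivial
  have hE : ∀ y : X, y ≠ 1 → ∏ g : Q, c ((g : G) * y * (g : G)⁻¹) v = 1 := by
    intro y hy
    have hy1 : (y : G) ≠ 1 := fun h => hy (Subtype.ext h)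
    -- ψ g = g * (y g⁻¹ y⁻¹) is a bijection of Q
    let ψ : Q → Q := fun g => ⟨(g : G) * ((y : G) * (g : G)⁻¹ * (y : G)⁻¹),
      Q.mul_mem g.2 (hXQ y y.2 _ (Q.inv_mem g.2))⟩
    have hψinj : Function.Injective ψ := by
      intro g h hgh
      have h5 : (g : G) * ((y : G) * (g : G)⁻¹ * (y : G)⁻¹) =
          (h : G) * ((y : G) * (h : G)⁻¹ * (y : G)⁻¹) := congrArg Subtype.val hgh
      have h6 : (y : G) * ((h : G)⁻¹ * g) * (y : G)⁻¹ = (h : G)⁻¹ * g := by
        have e1 : (y : G) * ((h : G)⁻¹ * g) * (y : G)⁻¹ =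
            ((y : G) * (h : G)⁻¹ * (y : G)⁻¹) * ((y : G) * (g : G)⁻¹ * (y : G)⁻¹)⁻¹ := by group
        have e2 : (y : G) * (g : G)⁻¹ * (y : G)⁻¹ =
            (g : G)⁻¹ * ((h : G) * ((y : G) * (h : G)⁻¹ * (y : G)⁻¹)) := by
          rw [← h5]; group
        rw [e1, e2]; group
      have h7 := h3 y y.2 hy1 _ (Q.mul_mem (Q.inv_mem h.2) g.2) h6
      apply Subtype.ext
      exact (inv_mul_eq_one.1 h7).symm
    have hψbij : Function.Bijective ψ := ⟨hψinj, Finite.surjective_of_injective hψinj⟩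
    have hrew : ∀ g : Q, c ((g : G) * y * (g : G)⁻¹) v = c ((ψ g : Q) : G) (c (y : G) v) := by
      intro g
      rw [← MulAut.mul_apply, ← map_mul]
      congr 2
      simp only [ψ]
      group
    simp_rw [hrew]
    rw [Fintype.prod_bijective ψ hψbij (fun g => c ((ψ g : Q) : G) (c (y : G) v))
      (fun g => c (g : G) (c (y : G) v)) (fun g => rfl)]
    exact hNQ _
  rw [Finset.prod_comm] at hD
  rw [← Finset.mul_prod_erase Finset.univ _ (Finset.mem_univ (1 : X))] at hD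
  have hrest : ∏ y ∈ Finset.univ.erase (1 : X), ∏ g : Q, c ((g : G) * y * (g : G)⁻¹) v = 1 := by
    apply Finset.prod_eq_one
    intro y hy
    exact hE y (Finset.ne_of_mem_erase hy)
  rw [hrest, mul_one] at hD
  have hone : ∀ g : Q, c ((g : G) * ((1 : X) : G) * (g : G)⁻¹) v = v := by
    intro g
    rw [Subgroup.coe_one, mul_one, mul_inv_cancel, map_one, MulAut.one_apply]
  simp_rw [hone] at hD
  rw [Finset.prod_const, Finset.card_univ, ← Nat.card_eq_fintype_card] at hD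
  rw [← hv]
  have := congrArg Subtype.val hD
  simpa using this

end Cfsg.Agent.Helper4
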