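import Mathlib
import Cfsg.Agent.Helper4.FrobActionA

set_option autoImplicit false

namespace Cfsg.Agent.Helper4

variable {G : Type*} [Group G]

/-- `Ω₁(Z(P))` as a subgroup of `G` -/
def omegaCenter (P : Subgroup G) (p : ℕ) : Subgroup G where
  carrier := {z | z ∈ P ∧ (∀ y ∈ P, y * z = z * y) ∧ z ^ p = 1}
  one_mem' := ⟨P.one_mem, fun y _ => by rw [mul_one, one_mul], one_pow p⟩
  mul_mem' := by
    rintro a b ⟨haP, hac, hap⟩ ⟨hbP, hbc, hbp⟩
    refine ⟨P.mul_mem haP hbP, fun y hy => ?_, ?_⟩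
    · rw [← mul_assoc, hac y hy, mul_assoc, hbc y hy, mul_assoc]
    · have hcomm : Commute a b := (hac b hbP).symm
      rw [hcomm.mul_pow, hap, hbp, one_mul]
  inv_mem' := by
    rintro a ⟨haP, hac, hap⟩
    refine ⟨P.inv_mem haP, fun y hy => ?_, by rw [inv_pow, hap, inv_one]⟩
    have := hac y hy
    calc y * a⁻¹ = a⁻¹ * (a * y) * a⁻¹ := by group
      _ = a⁻¹ * (y * a) * a⁻¹ := by rw [this]
      _ = a⁻¹ * y := by group

theorem mem_omegaCenter {P : Subgroup G} {p : ℕ} {z : G} :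
    z ∈ omegaCenter P p ↔ z ∈ P ∧ (∀ y ∈ P, y * z = z * y) ∧ z ^ p = 1 := Iff.rfl

theorem omegaCenter_normal (P : Subgroup G) [hP : P.Normal] (p : ℕ) : (omegaCenter P p).Normal := by
  constructor
  rintro z ⟨hzP, hzc, hzp⟩ g
  refine ⟨hP.conj_mem z hzP g, fun y hy => ?_, ?_⟩
  · have h1 : g⁻¹ * y * g⁻¹⁻¹ ∈ P := hP.conj_mem y hy g⁻¹
    have h2 := hzc _ h1
    calc y * (g * z * g⁻¹) = g * ((g⁻¹ * y * g⁻¹⁻¹) * z) * g⁻¹ := by group
      _ = g * (z * (g⁻¹ * y * g⁻¹⁻¹)) * g⁻¹ := by rw [h2]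
      _ = g * z * g⁻¹ * y := by group
  · rw [conj_pow, hzp]; group

theorem omegaCenter_comm (P : Subgroup G) (p : ℕ) :
    ∀ a ∈ omegaCenter P p, ∀ b ∈ omegaCenter P p, a * b = b * a := by
  rintro a ⟨haP, -, -⟩ b ⟨-, hbc, -⟩
  exact hbc a haP

theorem omegaCenter_ne_bot [Finite G] (P : Subgroup G) (p : ℕ) [hp : Fact p.Prime]
    (hP : IsPGroup p P) (hP1 : P ≠ ⊥) : omegaCenter P p ≠ ⊥ := by
  have hnt : Nontrivial P := (Subgroup.nontrivial_iff_ne_bot P).2 hP1
  have hcn : Nontrivial (Subgroup.center P) := hP.center_nontrivial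
  have hcp : IsPGroup p (Subgroup.center P) := hP.to_subgroup _
  obtain ⟨k, hk⟩ := IsPGroup.iff_card.1 hcp
  have hk0 : k ≠ 0 := by
    rintro rfl
    rw [pow_zero] at hk
    have := (Finite.one_lt_card_iff_nontrivial (α := Subgroup.center P)).2 hcn
    omega
  have hdvd : p ∣ Nat.card (Subgroup.center P) := by rw [hk]; exact dvd_pow_self p hk0
  obtain ⟨z, hz⟩ := exists_prime_orderOf_dvd_card' p hdvd
  have hzo : orderOf (((z : P)) : G) = p := by
    rw [Subgroup.orderOf_coe, Subgroup.orderOf_coe]; exact hz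
  intro hbot
  have hmem : (((z : P)) : G) ∈ omegaCenter P p := by
    refine ⟨(z : P).2, fun y hy => ?_, ?_⟩
    · have h1 := Subgroup.mem_center_iff.1 z.2 ⟨y, hy⟩
      exact congrArg Subtype.val h1
    · rw [← hzo]; exact pow_orderOf_eq_one _
  rw [hbot, Subgroup.mem_bot] at hmem
  rw [hmem, orderOf_one] at hzo
  exact hp.out.one_lt.ne hzo

/-- an element of prime-power order `≠ 1` has a power of prime order commuting with everything that
commutes with it -/
theorem exists_pow_orderOf_eq_prime {q : ℕ} (hq : q.Prime) (g : G) (hg : g ≠ 1) (k : ℕ)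
    (hk : orderOf g = q ^ k) : ∃ n : ℕ, orderOf (g ^ n) = q := by
  have hk0 : k ≠ 0 := by
    rintro rfl
    rw [pow_zero, orderOf_eq_one_iff] at hk
    exact hg hk
  refine ⟨orderOf g / q, orderOf_pow_orderOf_div ?_ ?_⟩
  · rw [hk]; exact pow_ne_zero _ hq.ne_zero
  · rw [hk]; exact dvd_pow_self q hk0

theorem exists_orderOf_eq_mul_of_commute {a b : G} {m n : ℕ} (hab : a * b = b * a)
    (ha : orderOf a = m) (hb : orderOf b = n) (hmn : m.Coprime n) :
    ∃ x : G, orderOf x = m * n := by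
  refine ⟨a * b, ?_⟩
  have hc : Commute a b := hab
  rw [hc.orderOf_mul_eq_mul_orderOf_of_coprime (by rw [ha, hb]; exact hmn), ha, hb]

end Cfsg.Agent.Helper4
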