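import Mathlib
import Cfsg.Agent.Helper4.FrobActionB

set_option autoImplicit false

namespace Cfsg.Agent.Helper4

variable {G : Type*} [Group G]

theorem exists_orderOf_mul_of_frobenius_chain [Finite G] {p q r : ℕ} (hp : p.Prime) (hq : q.Prime)
    (hr : r.Prime) (hpq : p ≠ q) (hpr : p ≠ r) (hqr : q ≠ r)
    (P : Subgroup G) [hPn : P.Normal] (hP : IsPGroup p P) (hP1 : P ≠ ⊥)
    (Q : Subgroup G) (hQ : IsPGroup q Q) (hQ1 : Q ≠ ⊥)
    (x : G) (hx : orderOf x = r) (hxQ : x ∈ Subgroup.normalizer (Q : Set G)) :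
    (∃ y : G, orderOf y = p * q) ∨ (∃ y : G, orderOf y = p * r) ∨ (∃ y : G, orderOf y = q * r) := by
  by_contra hno
  push Not at hno
  obtain ⟨n1, n2, n3⟩ := hno
  have hpF : Fact p.Prime := ⟨hp⟩
  have hqF : Fact q.Prime := ⟨hq⟩
  have hVn : (omegaCenter P p).Normal := omegaCenter_normal P p
  have hV1 := omegaCenter_ne_bot P p hP hP1
  have hVc := omegaCenter_comm P p
  have hcpq : p.Coprime q := (Nat.coprime_primes hp hq).2 hpq
  have hcpr : p.Coprime r := (Nat.coprime_primes hp hr).2 hpr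
  have hcqr : q.Coprime r := (Nat.coprime_primes hq hr).2 hqr
  have hordV : ∀ v ∈ omegaCenter P p, v ≠ 1 → orderOf v = p := by
    intro v hv hv1
    exact orderOf_eq_prime hv.2.2 hv1
  have hordQ : ∀ g ∈ Q, g ≠ 1 → ∃ n : ℕ, orderOf (g ^ n) = q := by
    intro g hg hg1
    obtain ⟨k, hk⟩ := hQ ⟨g, hg⟩
    have h1 : g ^ (q ^ k) = 1 := by
      have := congrArg Subtype.val hk
      simpa using this
    obtain ⟨j, -, hj⟩ := (Nat.dvd_prime_pow hq).1 (orderOf_dvd_of_pow_eq_one h1)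
    exact exists_pow_orderOf_eq_prime hq g hg1 j hj
  have hordX : ∀ y ∈ Subgroup.zpowers x, y ≠ 1 → orderOf y = r := by
    intro y hy hy1
    have h1 : orderOf y ∣ r := by rw [← hx]; exact orderOf_dvd_of_mem_zpowers hy
    rcases (Nat.dvd_prime hr).1 h1 with h | h
    · exact absurd (orderOf_eq_one_iff.1 h) hy1
    · exact h
  have hXle : Subgroup.zpowers x ≤ Subgroup.normalizer (Q : Set G) := Subgroup.zpowers_le.2 hxQ
  have hXQ : ∀ y ∈ Subgroup.zpowers x, ∀ g ∈ Q, y * g * y⁻¹ ∈ Q := by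
    intro y hy g hg
    exact (Subgroup.mem_normalizer_iff.1 (hXle hy) g).1 hg
  have comm_of_conj : ∀ a b : G, a * b * a⁻¹ = b → a * b = b * a := by
    intro a b h
    calc a * b = a * b * a⁻¹ * a := by group
      _ = b * a := by rw [h]
  have h1 : ∀ g ∈ Q, g ≠ 1 → ∀ v ∈ omegaCenter P p, g * v * g⁻¹ = v → v = 1 := by
    intro g hg hg1 v hv hgv
    by_contra hv1
    obtain ⟨n, hn⟩ := hordQ g hg hg1
    have hc : Commute g v := comm_of_conj g v hgv
    obtain ⟨y, hy⟩ := exists_orderOf_eq_mul_of_commute (hc.pow_left n).eq.symm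
      (hordV v hv hv1) hn hcpq
    exact n1 y hy
  have h2 : ∀ y ∈ Subgroup.zpowers x, y ≠ 1 → ∀ v ∈ omegaCenter P p, y * v * y⁻¹ = v → v = 1 := by
    intro y hy hy1 v hv hyv
    by_contra hv1
    have hc : Commute y v := comm_of_conj y v hyv
    obtain ⟨w, hw⟩ := exists_orderOf_eq_mul_of_commute hc.eq.symm
      (hordV v hv hv1) (hordX y hy hy1) hcpr
    exact n2 w hw
  have h3 : ∀ y ∈ Subgroup.zpowers x, y ≠ 1 → ∀ g ∈ Q, y * g * y⁻¹ = g → g = 1 := by
    intro y hy hy1 g hg hyg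
    by_contra hg1
    obtain ⟨n, hn⟩ := hordQ g hg hg1
    have hc : Commute y g := comm_of_conj y g hyg
    obtain ⟨w, hw⟩ := exists_orderOf_eq_mul_of_commute (hc.pow_right n).eq.symm
      hn (hordX y hy hy1) hcqr
    exact n3 w hw
  have hX1 : Subgroup.zpowers x ≠ ⊥ := by
    intro h
    have : x ∈ (⊥ : Subgroup G) := by rw [← h]; exact Subgroup.mem_zpowers x
    rw [Subgroup.mem_bot] at this
    rw [this, orderOf_one] at hx
    exact hr.one_lt.ne hx
  have hpow := pow_card_eq_one_of_frobenius_action (omegaCenter P p) Q (Subgroup.zpowers x)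
    hVc hXQ h1 h2 h3 hQ1 hX1
  apply hV1
  rw [Subgroup.eq_bot_iff_forall]
  intro v hv
  obtain ⟨j, hj⟩ := IsPGroup.iff_card.1 hQ
  have e1 : orderOf v ∣ p := orderOf_dvd_of_pow_eq_one hv.2.2
  have e2 : orderOf v ∣ q ^ j := by rw [← hj]; exact orderOf_dvd_of_pow_eq_one (hpow v hv)
  have e3 : orderOf v ∣ Nat.gcd p (q ^ j) := Nat.dvd_gcd e1 e2
  have e4 : Nat.gcd p (q ^ j) = 1 := Nat.Coprime.pow_right j hcpq
  rw [e4] at e3
  exact orderOf_eq_one_iff.1 (Nat.dvd_one.1 e3)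

end Cfsg.Agent.Helper4
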