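import Mathlib
import Cfsg.Agent.Helper4.FrobActionC

set_option autoImplicit false

namespace Cfsg.Agent.Helper4

universe u

theorem exists_orderOf_mul_of_normal_series : ∀ (n : ℕ) (G : Type u) [Group G] [Finite G],
    Nat.card G = n → ∀ (K M : Subgroup G) [K.Normal] [M.Normal], K ≤ M →
    ∀ (p q r : ℕ), p.Prime → q.Prime → r.Prime → p ≠ q → p ≠ r → q ≠ r →
    p ∣ Nat.card K → q ∣ K.relIndex M → r ∣ M.index →
    (∃ x : G, orderOf x = p * q) ∨ (∃ x : G, orderOf x = p * r) ∨
      (∃ x : G, orderOf x = q * r) := by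
  intro n
  induction n using Nat.strong_induction_on with
  | _ n ih =>
  intro G _ _ hcard K M hKn hMn hKM p q r hp hq hr hpq hpr hqr hpK hqM hrG
  have hpF : Fact p.Prime := ⟨hp⟩
  have hqF : Fact q.Prime := ⟨hq⟩
  have hrF : Fact r.Prime := ⟨hr⟩
  obtain ⟨P⟩ : Nonempty (Sylow p K) := inferInstance
  obtain ⟨P', hP'⟩ : ∃ P' : Subgroup G, P' = (P : Subgroup K).map K.subtype := ⟨_, rfl⟩
  have hP'p : IsPGroup p P' := by rw [hP']; exact P.isPGroup'.map _
  have hP'1 : P' ≠ ⊥ := by
    rw [hP']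
    intro h
    rw [Subgroup.map_eq_bot_iff_of_injective _ K.subtype_injective] at h
    exact P.ne_bot_of_dvd_card hpK h
  have hP'K : P' ≤ K := by
    rw [hP']; exact Subgroup.map_subtype_le _
  have hfrat : Subgroup.normalizer (P' : Set G) ⊔ K = ⊤ := by
    rw [hP']; exact Sylow.normalizer_sup_eq_top P
  by_cases hN : Subgroup.normalizer (P' : Set G) = ⊤
  · have hP'n : P'.Normal := Subgroup.normalizer_eq_top_iff.1 hN
    have hqcard : q ∣ Nat.card M := hqM.trans (Subgroup.relIndex_dvd_card K M)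
    obtain ⟨Q⟩ : Nonempty (Sylow q M) := inferInstance
    obtain ⟨Q', hQ'⟩ : ∃ Q' : Subgroup G, Q' = (Q : Subgroup M).map M.subtype := ⟨_, rfl⟩
    have hQ'q : IsPGroup q Q' := by rw [hQ']; exact Q.isPGroup'.map _
    have hQ'1 : Q' ≠ ⊥ := by
      rw [hQ']
      intro h
      rw [Subgroup.map_eq_bot_iff_of_injective _ M.subtype_injective] at h
      exact Q.ne_bot_of_dvd_card hqcard h
    have hfrat2 : Subgroup.normalizer (Q' : Set G) ⊔ M = ⊤ := by
      rw [hQ']; exact Sylow.normalizer_sup_eq_top Q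
    have hrN : r ∣ Nat.card (Subgroup.normalizer (Q' : Set G)) := by
      have h1 : M.index = M.relIndex (Subgroup.normalizer (Q' : Set G)) := by
        rw [← Subgroup.relIndex_top_right, ← hfrat2, Subgroup.relIndex_sup_right]
      rw [h1] at hrG
      exact hrG.trans (Subgroup.relIndex_dvd_card _ _)
    obtain ⟨x, hx⟩ := exists_prime_orderOf_dvd_card' r hrN
    exact exists_orderOf_mul_of_frobenius_chain hp hq hr hpq hpr hqr P' hP'p hP'1 Q' hQ'q hQ'1
      (x : G) (by rw [Subgroup.orderOf_coe]; exact hx) x.2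
  · obtain ⟨N₁, hN₁⟩ : ∃ N₁ : Subgroup G, N₁ = Subgroup.normalizer (P' : Set G) := ⟨_, rfl⟩
    rw [← hN₁] at hN hfrat
    have hlt : Nat.card N₁ < n := by
      rw [← hcard]
      have h1 := N₁.card_mul_index
      have h2 : N₁.index ≠ 1 := fun h => hN (Subgroup.index_eq_one.1 h)
      have h3 : N₁.index ≠ 0 := Subgroup.index_ne_zero_of_finite
      have h4 : 0 < Nat.card N₁ := Nat.card_pos
      have h5 : 2 ≤ N₁.index := by omega
      nlinarith
    have hP'N : P' ≤ N₁ := by rw [hN₁]; exact Subgroup.le_normalizer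
    have hKM₁ : K.subgroupOf N₁ ≤ M.subgroupOf N₁ := Subgroup.comap_mono hKM
    -- p divides the order of K ∩ N₁
    have hp₁ : p ∣ Nat.card (K.subgroupOf N₁) := by
      have hnt : Nontrivial P' := (Subgroup.nontrivial_iff_ne_bot P').2 hP'1
      obtain ⟨k, hk⟩ := IsPGroup.iff_card.1 hP'p
      have hk0 : k ≠ 0 := by
        rintro rfl
        rw [pow_zero] at hk
        have := (Finite.one_lt_card_iff_nontrivial (α := P')).2 hnt
        omega
      have hd : p ∣ Nat.card P' := by rw [hk]; exact dvd_pow_self p hk0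
      obtain ⟨z, hz⟩ := exists_prime_orderOf_dvd_card' p hd
      have hzN : (z : G) ∈ N₁ := hP'N z.2
      have hzK : (⟨(z : G), hzN⟩ : N₁) ∈ K.subgroupOf N₁ := by
        rw [Subgroup.mem_subgroupOf]; exact hP'K z.2
      have hord : orderOf (⟨⟨(z : G), hzN⟩, hzK⟩ : K.subgroupOf N₁) = p := by
        rw [← Subgroup.orderOf_coe, ← Subgroup.orderOf_coe]
        simp only
        rw [Subgroup.orderOf_coe]; exact hz
      rw [← hord]; exact orderOf_dvd_natCard _
    -- M = (M ⊓ N₁) ⊔ K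
    have hM : M = (M ⊓ N₁) ⊔ K := by
      apply le_antisymm
      · intro m hm
        have hmtop : m ∈ N₁ ⊔ K := by rw [hfrat]; trivial
        obtain ⟨y, hy, z, hz, rfl⟩ := Subgroup.mem_sup_of_normal_right.1 hmtop
        apply Subgroup.mem_sup_of_normal_right.2
        refine ⟨y, ⟨?_, hy⟩, z, hz, rfl⟩
        have : y = y * z * z⁻¹ := by group
        rw [this]
        exact M.mul_mem hm (M.inv_mem (hKM hz))
      · exact sup_le inf_le_left hKM
    have hq₁ : q ∣ (K.subgroupOf N₁).relIndex (M.subgroupOf N₁) := by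
      rw [← Subgroup.inf_subgroupOf_right M N₁, Subgroup.relIndex_subgroupOf inf_le_right]
      have : K.relIndex M = K.relIndex (M ⊓ N₁) := by
        conv_lhs => rw [hM]
        exact Subgroup.relIndex_sup_right (H := M ⊓ N₁) (K := K)
      rw [← this]; exact hqM
    have hr₁ : r ∣ (M.subgroupOf N₁).index := by
      have h1 : M.index = M.relIndex N₁ := by
        have htop : N₁ ⊔ M = ⊤ := by
          rw [eq_top_iff, ← hfrat]
          exact sup_le_sup_left hKM _
        rw [← Subgroup.relIndex_top_right, ← htop, Subgroup.relIndex_sup_right]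
      rw [h1] at hrG
      exact hrG
    rcases ih (Nat.card N₁) hlt N₁ rfl (K.subgroupOf N₁) (M.subgroupOf N₁) hKM₁ p q r hp hq hr
      hpq hpr hqr hp₁ hq₁ hr₁ with ⟨x, hx⟩ | ⟨x, hx⟩ | ⟨x, hx⟩
    · exact Or.inl ⟨(x : G), by rw [Subgroup.orderOf_coe]; exact hx⟩
    · exact Or.inr (Or.inl ⟨(x : G), by rw [Subgroup.orderOf_coe]; exact hx⟩)
    · exact Or.inr (Or.inr ⟨(x : G), by rw [Subgroup.orderOf_coe]; exact hx⟩)

end Cfsg.Agent.Helper4
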