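import Mathlib
import Cfsg.Agent.Helper4.FrobActionD

set_option autoImplicit false

namespace Cfsg.Agent.Helper4

open scoped commutatorElement

variable {G : Type*} [Group G]

theorem exists_orderOf_eq_of_dvd_orderOf [Finite G] (c : G) (m : ℕ) (hm : m ∣ orderOf c) :
    ∃ d : G, orderOf d = m :=
  ⟨c ^ (orderOf c / m), orderOf_pow_orderOf_div (orderOf_pos c).ne' hm⟩

theorem exists_orderOf_mul_of_abelian_quotient [Finite G] (K : Subgroup G) [hKn : K.Normal]
    {x y : ℕ} (hx : x.Prime) (hy : y.Prime) (hxy : x ≠ y)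
    (hxK : x ∣ Nat.card K) (hyK : y ∣ Nat.card K) (hx' : ¬ x ∣ Nat.card (⁅K, K⁆ : Subgroup G))
    (hy' : ¬ y ∣ Nat.card (⁅K, K⁆ : Subgroup G)) : ∃ c : G, orderOf c = x * y := by
  have hxF : Fact x.Prime := ⟨hx⟩
  have hyF : Fact y.Prime := ⟨hy⟩
  obtain ⟨K', hK'⟩ : ∃ K' : Subgroup G, K' = ⁅K, K⁆ := ⟨_, rfl⟩
  have hK'n : K'.Normal := by rw [hK']; infer_instance
  have hK'K : K' ≤ K := by
    rw [hK']
    exact (Subgroup.commutator_le_inf K K).trans inf_le_left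
  rw [← hK'] at hx' hy'
  obtain ⟨φ, hφ⟩ : ∃ φ : K →* G ⧸ K', φ = (QuotientGroup.mk' K').comp K.subtype := ⟨_, rfl⟩
  have hφapp : ∀ k : K, φ k = QuotientGroup.mk' K' (k : G) := by intro k; rw [hφ]; rfl
  have hkereq : φ.ker = K'.subgroupOf K := by
    ext k
    rw [MonoidHom.mem_ker, hφapp, Subgroup.mem_subgroupOf, QuotientGroup.mk'_apply,
      QuotientGroup.eq_one_iff]
  have hker : Nat.card φ.ker = Nat.card K' := by
    rw [hkereq]
    exact Nat.card_congr (Subgroup.subgroupOfEquivOfLe hK'K).toEquiv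
  have hcard : Nat.card K' * Nat.card φ.range = Nat.card K := by
    rw [← hker, ← Subgroup.index_ker, Subgroup.card_mul_index]
  have hxr : x ∣ Nat.card φ.range := by
    rw [← hcard] at hxK
    exact ((Nat.Prime.dvd_mul hx).1 hxK).resolve_left hx'
  have hyr : y ∣ Nat.card φ.range := by
    rw [← hcard] at hyK
    exact ((Nat.Prime.dvd_mul hy).1 hyK).resolve_left hy'
  obtain ⟨a, ha⟩ := exists_prime_orderOf_dvd_card' x hxr
  obtain ⟨b, hb⟩ := exists_prime_orderOf_dvd_card' y hyr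
  have hcomm : (a : G ⧸ K') * (b : G ⧸ K') = (b : G ⧸ K') * (a : G ⧸ K') := by
    obtain ⟨a₀, ha₀⟩ := a.2
    obtain ⟨b₀, hb₀⟩ := b.2
    rw [← ha₀, ← hb₀, hφapp, hφapp, ← map_mul, ← map_mul, QuotientGroup.mk'_apply,
      QuotientGroup.mk'_apply, QuotientGroup.eq]
    have : ((a₀ : G) * (b₀ : G))⁻¹ * ((b₀ : G) * (a₀ : G)) = ⁅(b₀ : G)⁻¹, (a₀ : G)⁻¹⁆ := by
      rw [commutatorElement_def]; group
    rw [this, hK']
    exact Subgroup.commutator_mem_commutator (K.inv_mem b₀.2) (K.inv_mem a₀.2)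
  have hoa : orderOf (a : G ⧸ K') = x := by rw [Subgroup.orderOf_coe]; exact ha
  have hob : orderOf (b : G ⧸ K') = y := by rw [Subgroup.orderOf_coe]; exact hb
  obtain ⟨cq, hcq⟩ := exists_orderOf_eq_mul_of_commute hcomm hoa hob
    ((Nat.coprime_primes hx hy).2 hxy)
  obtain ⟨c, hc⟩ := QuotientGroup.mk'_surjective K' cq
  have hdvd : x * y ∣ orderOf c := by
    rw [← hcq, ← hc]
    exact orderOf_map_dvd _ c
  exact exists_orderOf_eq_of_dvd_orderOf c _ hdvd

end Cfsg.Agent.Helper4
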