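import Mathlib
import Cfsg.Agent.Helper4.PrimeGraphSolvA

set_option autoImplicit false

namespace Cfsg.Agent.Helper4

open scoped commutatorElement

universe u

variable {G : Type u} [Group G]

theorem card_commutator_lt [Finite G] (K : Subgroup G) (hK : Group.IsSolvable K) (hK1 : K ≠ ⊥) :
    Nat.card (⁅K, K⁆ : Subgroup G) < Nat.card K := by
  have hnt : Nontrivial K := (Subgroup.nontrivial_iff_ne_bot K).2 hK1
  have hlt := Group.IsSolvable.commutator_lt_top_of_nontrivial K
  rw [← Subgroup.map_subtype_commutator, Subgroup.card_map_of_injective K.subtype_injective]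
  have h1 := (commutator K).card_mul_index
  have h2 : (commutator K).index ≠ 1 := fun h => hlt.ne (Subgroup.index_eq_one.1 h)
  have h3 : (commutator K).index ≠ 0 := Subgroup.index_ne_zero_of_finite
  have h4 : 0 < Nat.card (commutator K) := Nat.card_pos
  have h5 : 2 ≤ (commutator K).index := by omega
  nlinarith

theorem isSolvable_commutator_subgroup (K : Subgroup G) [hKn : K.Normal] (hK : Group.IsSolvable K) :
    Group.IsSolvable (⁅K, K⁆ : Subgroup G) := by
  have hle : (⁅K, K⁆ : Subgroup G) ≤ K := (Subgroup.commutator_le_inf K K).trans inf_le_left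
  exact Group.isSolvable_of_isSolvable_injective (f := Subgroup.inclusion hle)
    (Subgroup.inclusion_injective hle)

/-- Pairwise non-adjacent primes (at least three of them, all dividing `|G|`): at most one of them
divides the order of a solvable normal subgroup. -/
theorem prime_graph_solvable_normal [Finite G] (ρ : Finset ℕ) (hρ : 3 ≤ ρ.card)
    (hprime : ∀ r ∈ ρ, r.Prime ∧ r ∣ Nat.card G)
    (hnon : ∀ r ∈ ρ, ∀ s ∈ ρ, r ≠ s → ¬ ∃ x : G, orderOf x = r * s) :
    ∀ (n : ℕ) (K : Subgroup G) [K.Normal], Nat.card K = n → Group.IsSolvable K →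
      ∀ a ∈ ρ, ∀ b ∈ ρ, a ≠ b → a ∣ Nat.card K → b ∣ Nat.card K → False := by
  intro n
  induction n using Nat.strong_induction_on with
  | _ n ih =>
  intro K hKn hcard hK a ha b hb hab haK hbK
  have hK1 : K ≠ ⊥ := by
    rintro rfl
    rw [Subgroup.card_bot] at haK
    exact (hprime a ha).1.one_lt.ne' (Nat.dvd_one.1 haK)
  have hlt : Nat.card (⁅K, K⁆ : Subgroup G) < n := by rw [← hcard]; exact card_commutator_lt K hK hK1
  have hK'sol := isSolvable_commutator_subgroup K hK
  have hK'le : (⁅K, K⁆ : Subgroup G) ≤ K := (Subgroup.commutator_le_inf K K).trans inf_le_left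
  -- no two distinct primes of ρ divide |K'|
  have hH : ∀ r ∈ ρ, ∀ s ∈ ρ, r ≠ s → r ∣ Nat.card (⁅K, K⁆ : Subgroup G) →
      ¬ s ∣ Nat.card (⁅K, K⁆ : Subgroup G) := by
    intro r hr s hs hrs hrK' hsK'
    exact ih _ hlt ⁅K, K⁆ rfl hK'sol r hr s hs hrs hrK' hsK'
  -- a third prime
  obtain ⟨c, hc, hca, hcb⟩ : ∃ c ∈ ρ, c ≠ a ∧ c ≠ b := by
    have h1 : 1 ≤ ((ρ.erase a).erase b).card := by
      have e1 : (ρ.erase a).card = ρ.card - 1 := Finset.card_erase_of_mem ha
      have e2 : b ∈ ρ.erase a := Finset.mem_erase.2 ⟨hab.symm, hb⟩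
      have e3 : ((ρ.erase a).erase b).card = (ρ.erase a).card - 1 := Finset.card_erase_of_mem e2
      omega
    obtain ⟨c, hc⟩ := Finset.card_pos.1 h1
    rw [Finset.mem_erase, Finset.mem_erase] at hc
    exact ⟨c, hc.2.2, hc.2.1, hc.1⟩
  -- the asymmetric step
  have step : ∀ a ∈ ρ, ∀ b ∈ ρ, ∀ c ∈ ρ, a ≠ b → c ≠ a → c ≠ b → a ∣ Nat.card K →
      b ∣ Nat.card K → a ∣ Nat.card (⁅K, K⁆ : Subgroup G) → False := by
    intro a ha b hb c hc hab hca hcb haK hbK haK'
    have hbK' : ¬ b ∣ Nat.card (⁅K, K⁆ : Subgroup G) := hH a ha b hb hab haK'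
    have hcK' : ¬ c ∣ Nat.card (⁅K, K⁆ : Subgroup G) := hH a ha c hc hca.symm haK'
    by_cases hcK : c ∣ Nat.card K
    · exact hnon b hb c hc hcb.symm (exists_orderOf_mul_of_abelian_quotient K (hprime b hb).1
        (hprime c hc).1 hcb.symm hbK hcK hbK' hcK')
    · have hcidx : c ∣ K.index := by
        have h1 := (hprime c hc).2
        rw [← K.card_mul_index] at h1
        exact ((Nat.Prime.dvd_mul (hprime c hc).1).1 h1).resolve_left hcK
      have hbrel : b ∣ (⁅K, K⁆ : Subgroup G).relIndex K := by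
        have e1 := ((⁅K, K⁆ : Subgroup G).subgroupOf K).card_mul_index
        rw [Nat.card_congr (Subgroup.subgroupOfEquivOfLe hK'le).toEquiv] at e1
        have e2 : b ∣ Nat.card (⁅K, K⁆ : Subgroup G) * (⁅K, K⁆ : Subgroup G).relIndex K := by
          rw [Subgroup.relIndex, e1]; exact hbK
        exact ((Nat.Prime.dvd_mul (hprime b hb).1).1 e2).resolve_left hbK'
      rcases exists_orderOf_mul_of_normal_series (Nat.card G) G rfl ⁅K, K⁆ K hK'le a b c
        (hprime a ha).1 (hprime b hb).1 (hprime c hc).1 hab hca.symm hcb.symm haK' hbrel hcidx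
        with h | h | h
      · exact hnon a ha b hb hab h
      · exact hnon a ha c hc hca.symm h
      · exact hnon b hb c hc hcb.symm h
  by_cases haK' : a ∣ Nat.card (⁅K, K⁆ : Subgroup G)
  · exact step a ha b hb c hc hab hca hcb haK hbK haK'
  · by_cases hbK' : b ∣ Nat.card (⁅K, K⁆ : Subgroup G)
    · exact step b hb a ha c hc hab.symm hcb hca hbK haK hbK'
    · exact hnon a ha b hb hab (exists_orderOf_mul_of_abelian_quotient K (hprime a ha).1
        (hprime b hb).1 hab haK hbK haK' hbK')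

end Cfsg.Agent.Helper4
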