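import Mathlib
import Cfsg.Prelude.Def_Solvable

set_option autoImplicit false

namespace Cfsg.Agent.Helper4

/-- A normal `p`-subgroup is contained in every Sylow `p`-subgroup. -/
theorem normal_pgroup_le_sylow {G : Type*} [Group G] {p : ℕ} (N : Subgroup G) [N.Normal]
    (hN : IsPGroup p N) (Q : Sylow p G) : N ≤ (Q : Subgroup G) := by
  have h1 : IsPGroup p (N ⊔ (Q : Subgroup G) : Subgroup G) := hN.to_sup_of_normal_left Q.isPGroup'
  have h2 := Q.is_maximal' h1 le_sup_right
  calc N ≤ N ⊔ (Q : Subgroup G) := le_sup_left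
    _ = Q := h2

/-- `O_p(G)` is contained in every Sylow `p`-subgroup. -/
theorem pCore_le_sylow {G : Type*} [Group G] {p : ℕ} (Q : Sylow p G) :
    Cfsg.pCore p G ≤ (Q : Subgroup G) := by
  unfold Cfsg.pCore
  apply sSup_le
  rintro N ⟨hNn, hNp⟩
  have := hNn
  exact normal_pgroup_le_sylow N hNp Q

/-- `O_p(G)` is a `p`-group when `G` has a Sylow `p`-subgroup (always). -/
theorem pCore_isPGroup {G : Type*} [Group G] {p : ℕ} [Fact p.Prime] : IsPGroup p (Cfsg.pCore p G) := by
  obtain ⟨Q⟩ := (inferInstance : Nonempty (Sylow p G))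
  exact Q.isPGroup'.to_le (pCore_le_sylow Q)

/-- `O_p(G)` is normal. -/
theorem pCore_normal {G : Type*} [Group G] {p : ℕ} : (Cfsg.pCore p G).Normal := by
  unfold Cfsg.pCore
  exact Subgroup.sSup_normal _ (fun H hH => hH.1)

/-- A normal `p`-subgroup is contained in `O_p(G)`. -/
theorem le_pCore {G : Type*} [Group G] {p : ℕ} (N : Subgroup G) (hNn : N.Normal)
    (hN : IsPGroup p N) : N ≤ Cfsg.pCore p G := le_sSup ⟨hNn, hN⟩

end Cfsg.Agent.Helper4
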