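import Mathlib

set_option autoImplicit false

namespace Cfsg.Agent.Helper4

open MulAction

/-- Burnside's lemma in `Nat.card` form. -/
theorem burnside_natCard {G X : Type*} [Group G] [MulAction G X] [Fintype G] [Finite X] :
    ∑ g : G, Nat.card (fixedBy X g) = Nat.card (orbitRel.Quotient G X) * Nat.card G := by
  classical
  have : Fintype X := Fintype.ofFinite X
  have : Fintype (orbitRel.Quotient G X) := Fintype.ofFinite _
  have : ∀ g : G, Fintype (fixedBy X g) := fun g => Fintype.ofFinite _
  have h := sum_card_fixedBy_eq_card_orbits_mul_card_group G X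
  simp only [Nat.card_eq_fintype_card]
  convert h

/-- For a transitive action on a nonempty set, the sum of fixed point counts is the group order. -/
theorem burnside_transitive {G X : Type*} [Group G] [MulAction G X] [Fintype G] [Finite X]
    [IsPretransitive G X] [Nonempty X] :
    ∑ g : G, Nat.card (fixedBy X g) = Nat.card G := by
  rw [burnside_natCard]
  have : Nat.card (orbitRel.Quotient G X) = 1 := by
    have h1 : Subsingleton (orbitRel.Quotient G X) :=
      (pretransitive_iff_subsingleton_quotient G X).mp inferInstance
    have h2 : Nonempty (orbitRel.Quotient G X) := by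
      obtain ⟨x⟩ := (inferInstance : Nonempty X)
      exact ⟨Quotient.mk'' x⟩
    exact Nat.card_unique
  rw [this, one_mul]

/-- Jordan: a transitive action of a finite group on a finite set with at least two points
has a derangement. -/
theorem exists_derangement {G X : Type*} [Group G] [MulAction G X] [Finite G] [Finite X]
    [IsPretransitive G X] (h2 : 2 ≤ Nat.card X) : ∃ g : G, ∀ x : X, g • x ≠ x := by
  classical
  have : Fintype G := Fintype.ofFinite G
  have hne : Nonempty X := by
    have : 0 < Nat.card X := by omega
    exact (Nat.card_pos_iff.mp this).1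
  by_contra hcon
  push Not at hcon
  have hge : ∀ g : G, 1 ≤ Nat.card (fixedBy X g) := by
    intro g
    obtain ⟨x, hx⟩ := hcon g
    have : Nonempty (fixedBy X g) := ⟨⟨x, hx⟩⟩
    exact Nat.card_pos
  have h1 : Nat.card (fixedBy X (1 : G)) = Nat.card X := by
    apply Nat.card_congr
    exact Equiv.subtypeUnivEquiv (fun x => by simp [mem_fixedBy])
  have hsum := burnside_transitive (G := G) (X := X)
  have : ∑ g : G, Nat.card (fixedBy X g) ≥ ∑ g : G, (if g = 1 then 2 else 1) := by
    apply Finset.sum_le_sum
    intro g _
    split_ifs with hg
    · rw [hg, h1]; exact h2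
    · exact hge g
  rw [hsum] at this
  have h3 : ∑ g : G, (if g = 1 then 2 else 1) = Fintype.card G + 1 := by
    have : ∀ g : G, (if g = 1 then 2 else 1) = 1 + (if g = 1 then 1 else 0) := by
      intro g; split_ifs <;> rfl
    simp_rw [this, Finset.sum_add_distrib]
    simp
  rw [h3, Nat.card_eq_fintype_card] at this
  omega

end Cfsg.Agent.Helper4
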