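import Mathlib
import Cfsg.Agent.Helper4.Burnside

set_option autoImplicit false

namespace Cfsg.Agent.Helper4

open MulAction

/-- Counting: if every nonidentity element has at most one fixed point, then for each orbit `O`,
`|O| + #{k ≠ 1 with a fixed point in O} = |K|`. -/
theorem card_orbit_add_card_fixing {K Ω : Type*} [Group K] [MulAction K Ω] [Fintype K] [Finite Ω]
    [DecidableEq K]
    (hU : ∀ k : K, k ≠ 1 → ∀ a b : Ω, k • a = a → k • b = b → a = b) (ω : Ω)
    [DecidablePred (fun k : K => k ≠ 1 ∧ ∃ ω' ∈ orbit K ω, k • ω' = ω')] :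
    Nat.card (orbit K ω) +
      (Finset.univ.filter (fun k : K => k ≠ 1 ∧ ∃ ω' ∈ orbit K ω, k • ω' = ω')).card
      = Nat.card K := by
  classical
  have hne0 : Nonempty (orbit K ω) := ⟨⟨ω, mem_orbit_self ω⟩⟩
  have hB := burnside_transitive (G := K) (X := orbit K ω)
  rw [← hB]
  have key : ∀ k : K, Nat.card (fixedBy (orbit K ω) k) =
      (if k = 1 then Nat.card (orbit K ω) else 0) +
      (if (k ≠ 1 ∧ ∃ ω' ∈ orbit K ω, k • ω' = ω') then 1 else 0) := by
    intro k
    by_cases hk : k = 1
    · subst hk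
      simp only [if_true, ne_eq, not_true_eq_false, false_and, if_false, add_zero]
      apply Nat.card_congr
      exact Equiv.subtypeUnivEquiv (fun x => by simp)
    · rw [if_neg hk, zero_add]
      have hsub : Subsingleton (fixedBy (orbit K ω) k) := by
        constructor
        rintro ⟨a, ha⟩ ⟨b, hb⟩
        rw [mem_fixedBy] at ha hb
        have ha' : k • (a : Ω) = a := by
          have := congrArg (Subtype.val) ha
          simpa using this
        have hb' : k • (b : Ω) = b := by
          have := congrArg (Subtype.val) hb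
          simpa using this
        have := hU k hk _ _ ha' hb'
        exact Subtype.ext (Subtype.ext this)
      by_cases hA : (k ≠ 1 ∧ ∃ ω' ∈ orbit K ω, k • ω' = ω')
      · rw [if_pos hA]
        obtain ⟨_, ω', hω', hfix⟩ := hA
        have hne : Nonempty (fixedBy (orbit K ω) k) := by
          refine ⟨⟨⟨ω', hω'⟩, ?_⟩⟩
          rw [mem_fixedBy]
          exact Subtype.ext hfix
        exact Nat.card_eq_one_iff_unique.mpr ⟨hsub, hne⟩
      · rw [if_neg hA]
        have : IsEmpty (fixedBy (orbit K ω) k) := by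
          constructor
          rintro ⟨⟨a, ha⟩, hfa⟩
          apply hA
          refine ⟨hk, a, ha, ?_⟩
          rw [mem_fixedBy] at hfa
          have := congrArg (Subtype.val) hfa
          simpa using this
        exact Nat.card_of_isEmpty
  simp_rw [key]
  rw [Finset.sum_add_distrib]
  rw [Finset.sum_ite_eq' Finset.univ (1 : K)]
  simp only [Finset.mem_univ, if_true]
  rw [Finset.card_filter]

theorem two_mul_card_orbit_le {K Ω : Type*} [Group K] [MulAction K Ω] [Finite K]
    (ω : Ω) (k : K) (hk : k ≠ 1) (hfix : k • ω = ω) :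
    2 * Nat.card (orbit K ω) ≤ Nat.card K := by
  have h1 : (stabilizer K ω).index = Nat.card (orbit K ω) := by
    rw [index_stabilizer, Nat.card_coe_set_eq]
  have h2 := (stabilizer K ω).card_mul_index
  have h3 : 2 ≤ Nat.card (stabilizer K ω) := by
    have : Nontrivial (stabilizer K ω) := by
      refine ⟨⟨⟨k, hfix⟩, 1, ?_⟩⟩
      intro h
      apply hk
      exact congrArg Subtype.val h
    exact Finite.one_lt_card
  rw [← h2, ← h1]
  nlinarith

/-- A finite group acting on a nonempty finite set such that every nonidentity element has exactly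
one fixed point has a global fixed point. -/
theorem exists_global_fixed_point {K Ω : Type*} [Group K] [MulAction K Ω] [Finite K] [Finite Ω]
    [Nonempty Ω]
    (hE : ∀ k : K, k ≠ 1 → ∃ a : Ω, k • a = a)
    (hU : ∀ k : K, k ≠ 1 → ∀ a b : Ω, k • a = a → k • b = b → a = b) :
    ∃ ω : Ω, ∀ k : K, k • ω = ω := by
  classical
  have : Fintype K := Fintype.ofFinite K
  by_cases htriv : ∀ k : K, k = 1
  · obtain ⟨ω⟩ := (inferInstance : Nonempty Ω)
    refine ⟨ω, fun k => ?_⟩
    rw [htriv k, one_smul]
  push Not at htriv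
  obtain ⟨k₀, hk₀⟩ := htriv
  obtain ⟨ω₀, hω₀⟩ := hE k₀ hk₀
  by_contra hcon
  push Not at hcon
  set A : Ω → Finset K := fun ω =>
    Finset.univ.filter (fun k : K => k ≠ 1 ∧ ∃ ω' ∈ orbit K ω, k • ω' = ω') with hA
  have hc0 := card_orbit_add_card_fixing hU ω₀
  have ho0 := two_mul_card_orbit_le ω₀ k₀ hk₀ hω₀
  -- there is k₁ ≠ 1 whose fixed point is outside the orbit of ω₀
  have hex : ∃ k₁ : K, k₁ ≠ 1 ∧ k₁ ∉ A ω₀ := by
    by_contra hno
    push Not at hno
    -- all nonidentity elements in A ω₀, so |A ω₀| = |K| - 1, so orbit is a singleton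
    have hAeq : A ω₀ = Finset.univ.erase 1 := by
      ext k
      simp only [Finset.mem_erase, Finset.mem_univ, and_true]
      constructor
      · intro hk
        rw [hA] at hk
        simp only [Finset.mem_filter, Finset.mem_univ, true_and] at hk
        exact hk.1
      · intro hk; exact hno k hk
    have hcard : (A ω₀).card = Nat.card K - 1 := by
      rw [hAeq, Finset.card_erase_of_mem (Finset.mem_univ _), Finset.card_univ,
        Nat.card_eq_fintype_card]
    have hKpos : 0 < Nat.card K := Nat.card_pos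
    have horb1 : Nat.card (orbit K ω₀) = 1 := by
      have : Nat.card (orbit K ω₀) + (A ω₀).card = Nat.card K := hc0
      omega
    obtain ⟨k, hk⟩ := hcon ω₀
    have hsub : Subsingleton (orbit K ω₀) := by
      have := Nat.card_eq_one_iff_unique.mp horb1
      exact this.1
    have h1 : (⟨k • ω₀, mem_orbit ω₀ k⟩ : orbit K ω₀) = ⟨ω₀, mem_orbit_self ω₀⟩ :=
      Subsingleton.elim _ _
    exact hk (congrArg Subtype.val h1)
  obtain ⟨k₁, hk₁, hk₁A⟩ := hex
  obtain ⟨ω₁, hω₁⟩ := hE k₁ hk₁
  have hω₁notin : ω₁ ∉ orbit K ω₀ := by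
    intro hin
    apply hk₁A
    rw [hA]
    simp only [Finset.mem_filter, Finset.mem_univ, true_and]
    exact ⟨hk₁, ω₁, hin, hω₁⟩
  have hc1 := card_orbit_add_card_fixing hU ω₁
  have ho1 := two_mul_card_orbit_le ω₁ k₁ hk₁ hω₁
  have hdisj : Disjoint (A ω₀) (A ω₁) := by
    rw [Finset.disjoint_left]
    intro k hk0 hk1
    rw [hA] at hk0 hk1
    simp only [Finset.mem_filter, Finset.mem_univ, true_and] at hk0 hk1
    obtain ⟨hkne, a, ha, hfa⟩ := hk0
    obtain ⟨_, b, hb, hfb⟩ := hk1
    have hab := hU k hkne a b hfa hfb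
    subst hab
    apply hω₁notin
    -- ω₁ ∈ orbit a = orbit ω₀
    have e0 : orbit K a = orbit K ω₀ := orbit_eq_iff.mpr ha
    have e1 : orbit K a = orbit K ω₁ := orbit_eq_iff.mpr hb
    rw [← e0, e1]
    exact mem_orbit_self ω₁
  have hunion : (A ω₀ ∪ A ω₁) ⊆ Finset.univ.erase 1 := by
    intro k hk
    rw [Finset.mem_union] at hk
    simp only [Finset.mem_erase, Finset.mem_univ, and_true]
    rcases hk with hk | hk <;>
    · rw [hA] at hk
      simp only [Finset.mem_filter, Finset.mem_univ, true_and] at hk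
      exact hk.1
  have hle := Finset.card_le_card hunion
  rw [Finset.card_union_of_disjoint hdisj, Finset.card_erase_of_mem (Finset.mem_univ _),
    Finset.card_univ, ← Nat.card_eq_fintype_card] at hle
  have hKpos : 0 < Nat.card K := Nat.card_pos
  have h0 : Nat.card (orbit K ω₀) + (A ω₀).card = Nat.card K := hc0
  have h1 : Nat.card (orbit K ω₁) + (A ω₁).card = Nat.card K := hc1
  omega

end Cfsg.Agent.Helper4
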