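import Mathlib
import Cfsg.Agent.Helper4.UniqueFixedPoint
import Cfsg.Agent.Helper4.ClassSize

set_option autoImplicit false

namespace Cfsg.Agent.Helper4

open MulAction

/-- the hypotheses of a sharply 2-transitive action -/
structure SharpTwo (H α : Type*) [Group H] [MulAction H α] : Prop where
  trans : ∀ a b c d : α, a ≠ b → c ≠ d → ∃ g : H, g • a = c ∧ g • b = d
  sharp : ∀ g : H, ∀ a b : α, a ≠ b → g • a = a → g • b = b → g = 1

variable {H α : Type*} [Group H] [MulAction H α]

theorem SharpTwo.isPretransitive (h : SharpTwo H α) : IsPretransitive H α := by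
  constructor
  intro c d
  by_cases hcd : c = d
  · exact ⟨1, by rw [one_smul, hcd]⟩
  · obtain ⟨g, hg, -⟩ := h.trans c d d c hcd (Ne.symm hcd)
    exact ⟨g, hg⟩

theorem SharpTwo.card_stabilizer [Fintype α] [DecidableEq α] (h : SharpTwo H α) (a b : α)
    (hab : a ≠ b) : Nat.card (stabilizer H a) = Fintype.card α - 1 := by
  have hne : ∀ g : stabilizer H a, (g : H) • b ≠ a := by
    intro g hg
    have h1 : (g : H) • a = a := g.2
    have : (g : H) • b = (g : H) • a := hg.trans h1.symm
    exact hab (MulAction.injective (g : H) this).symm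
  have hbij : Function.Bijective (fun g : stabilizer H a => (⟨(g : H) • b, hne g⟩ : {c : α // c ≠ a})) := by
    constructor
    · intro g g' hgg
      have h1 : (g : H) • b = (g' : H) • b := congrArg Subtype.val hgg
      have h2 : ((g' : H)⁻¹ * (g : H)) • b = b := by
        rw [mul_smul, h1, inv_smul_smul]
      have h3 : ((g' : H)⁻¹ * (g : H)) • a = a := by
        rw [mul_smul, (g.2 : (g : H) • a = a), inv_smul_eq_iff]
        exact (g'.2 : (g' : H) • a = a).symm
      have h4 := h.sharp _ a b hab h3 h2
      apply Subtype.ext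
      exact (inv_mul_eq_one.1 h4).symm
    · rintro ⟨c, hc⟩
      obtain ⟨g, hga, hgb⟩ := h.trans a b a c hab (Ne.symm hc)
      exact ⟨⟨g, hga⟩, Subtype.ext hgb⟩
  rw [Nat.card_congr (Equiv.ofBijective _ hbij), Nat.card_eq_fintype_card]
  exact Set.card_ne_eq a

theorem SharpTwo.card_group [Finite H] [Fintype α] [DecidableEq α] (h : SharpTwo H α) (a b : α)
    (hab : a ≠ b) : Nat.card H = Fintype.card α * (Fintype.card α - 1) := by
  haveI := h.isPretransitive
  have h1 := Subgroup.card_mul_index (stabilizer H a)
  rw [MulAction.index_stabilizer, MulAction.orbit_eq_univ, Set.ncard_univ,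
    Nat.card_eq_fintype_card (α := α), h.card_stabilizer a b hab] at h1
  rw [← h1, mul_comm]

/-- the set of the identity and the fixed-point-free elements -/
def fpfSet (H α : Type*) [Group H] [MulAction H α] : Set H :=
  {g | g = 1 ∨ ∀ a : α, g • a ≠ a}

theorem SharpTwo.ncard_fpfSet [Finite H] [Fintype α] [DecidableEq α] (h : SharpTwo H α) (a b : α)
    (hab : a ≠ b) : (fpfSet H α).ncard = Fintype.card α := by
  classical
  haveI := h.isPretransitive
  have : Fintype H := Fintype.ofFinite H
  have hU : ∀ k : H, k ≠ 1 → ∀ c d : α, k • c = c → k • d = d → c = d := by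
    intro k hk c d hc hd
    by_contra hcd
    exact hk (h.sharp k c d hcd hc hd)
  have hcount := card_orbit_add_card_fixing hU a
  have hsplit := Finset.card_filter_add_card_filter_not
    (s := (Finset.univ : Finset H))
    (fun k : H => k ≠ 1 ∧ ∃ ω' ∈ orbit H a, k • ω' = ω')
  have horb : Nat.card (orbit H a) = Fintype.card α := by
    rw [MulAction.orbit_eq_univ, Nat.card_coe_set_eq, Set.ncard_univ,
      Nat.card_eq_fintype_card (α := α)]
  have hset : fpfSet H α = ((Finset.univ.filter
      (fun k : H => ¬ (k ≠ 1 ∧ ∃ ω' ∈ orbit H a, k • ω' = ω')) : Finset H) : Set H) := by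
    ext g
    simp only [fpfSet, Set.mem_ofPred_eq, Finset.coe_filter, Finset.mem_univ, true_and,
      MulAction.orbit_eq_univ, Set.mem_univ, ne_eq, not_and, not_exists]
    constructor
    · rintro (h1 | h1)
      · intro h2; exact absurd h1 h2
      · intro _ x; exact h1 x
    · intro h1
      by_cases hg : g = 1
      · exact Or.inl hg
      · exact Or.inr (h1 hg)
  rw [hset, Set.ncard_coe_finset]
  rw [Finset.card_univ, ← Nat.card_eq_fintype_card (α := H)] at hsplit
  omega

end Cfsg.Agent.Helper4
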