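import Mathlib
import Cfsg.Agent.Helper4.SharpTwoA

set_option autoImplicit false

namespace Cfsg.Agent.Helper4

open MulAction

variable {H α : Type*} [Group H] [MulAction H α]

theorem mem_fpfSet_conj {g : H} (hg : g ∈ fpfSet H α) (c : H) : c * g * c⁻¹ ∈ fpfSet H α := by
  rcases hg with rfl | hg
  · left; group
  · right
    intro a ha
    apply hg (c⁻¹ • a)
    rw [mul_smul, mul_smul] at ha
    exact (smul_eq_iff_eq_inv_smul c).1 ha

/-- an element centralizing a fixed-point-free element and fixing a point is trivial -/
theorem SharpTwo.eq_one_of_commute_of_fixed (h : SharpTwo H α) {x g : H} (hx : ∀ a : α, x • a ≠ a)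
    (hcomm : g * x = x * g) (b : α) (hb : g • b = b) : g = 1 := by
  apply h.sharp g b (x • b) (hx b).symm hb
  rw [← mul_smul, hcomm, mul_smul, hb]

theorem SharpTwo.centralizer_subset_fpfSet (h : SharpTwo H α) {x : H} (hx : ∀ a : α, x • a ≠ a) :
    (Subgroup.centralizer ({x} : Set H) : Set H) ⊆ fpfSet H α := by
  intro g hg
  have hg' : g ∈ Subgroup.centralizer ({x} : Set H) := hg
  rw [Subgroup.mem_centralizer_iff] at hg'
  have hcomm : g * x = x * g := (hg' x rfl).symm
  by_cases h1 : ∀ a : α, g • a ≠ a
  · exact Or.inr h1
  · push Not at h1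
    obtain ⟨b, hb⟩ := h1
    exact Or.inl (h.eq_one_of_commute_of_fixed hx hcomm b hb)

/-- the centralizer of a fixed-point-free element is the set of fixed-point-free elements and `1` -/
theorem SharpTwo.centralizer_eq_fpfSet [Finite H] [Fintype α] [DecidableEq α] (h : SharpTwo H α)
    (a b : α) (hab : a ≠ b) {x : H} (hx : ∀ a : α, x • a ≠ a) :
    (Subgroup.centralizer ({x} : Set H) : Set H) = fpfSet H α := by
  classical
  have hn := h.ncard_fpfSet a b hab
  have hcard := h.card_group a b hab
  have hx1 : x ≠ 1 := by
    intro h1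
    exact hx a (by rw [h1, one_smul])
  -- the class of x has at most n - 1 elements
  have hclass : (Subgroup.centralizer ({x} : Set H)).index ≤ Fintype.card α - 1 := by
    rw [index_centralizer_eq_card_conj]
    have hsub : {y : H | IsConj x y} ⊆ fpfSet H α \ {1} := by
      intro y hy
      have hy' : IsConj x y := hy
      rw [isConj_iff] at hy'
      obtain ⟨c, rfl⟩ := hy'
      refine ⟨mem_fpfSet_conj (Or.inr hx) c, ?_⟩
      rw [Set.mem_singleton_iff]
      intro h1
      apply hx1
      have : x = c⁻¹ * (c * x * c⁻¹) * c := by group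
      rw [this, h1]; group
    have h1 : Nat.card {y : H // IsConj x y} = {y : H | IsConj x y}.ncard :=
      (Nat.card_coe_set_eq _)
    rw [h1]
    have h2 := Set.ncard_le_ncard hsub (Set.toFinite _)
    have h3 : (fpfSet H α \ {1}).ncard = (fpfSet H α).ncard - 1 :=
      Set.ncard_sdiff_singleton_of_mem (Or.inl rfl)
    omega
  have hmul := Subgroup.card_mul_index (Subgroup.centralizer ({x} : Set H))
  have hidxpos : 0 < (Subgroup.centralizer ({x} : Set H)).index :=
    Nat.pos_of_ne_zero Subgroup.index_ne_zero_of_finite
  have hge : Fintype.card α ≤ Nat.card (Subgroup.centralizer ({x} : Set H)) := by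
    by_contra hlt
    push Not at hlt
    have h1 : Nat.card (Subgroup.centralizer ({x} : Set H)) *
        (Subgroup.centralizer ({x} : Set H)).index <
        Fintype.card α * (Fintype.card α - 1) := by
      calc Nat.card (Subgroup.centralizer ({x} : Set H)) *
            (Subgroup.centralizer ({x} : Set H)).index
          ≤ Nat.card (Subgroup.centralizer ({x} : Set H)) * (Fintype.card α - 1) :=
            Nat.mul_le_mul_left _ hclass
        _ < Fintype.card α * (Fintype.card α - 1) := by
            apply Nat.mul_lt_mul_of_pos_right hlt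
            omega
    rw [hmul, hcard] at h1
    exact lt_irrefl _ h1
  apply Set.eq_of_subset_of_ncard_le (h.centralizer_subset_fpfSet hx) _ (Set.toFinite _)
  rw [hn]
  have : ((Subgroup.centralizer ({x} : Set H) : Subgroup H) : Set H).ncard =
      Nat.card (Subgroup.centralizer ({x} : Set H)) := (Nat.card_coe_set_eq _).symm
  rw [this]
  exact hge

end Cfsg.Agent.Helper4
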