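import Mathlib
import Cfsg.Agent.Helper4.SharpTwoB
import Cfsg.Agent.Helper4.PCore

set_option autoImplicit false

namespace Cfsg.Agent.Helper4

open MulAction

variable {H α : Type*} [Group H] [MulAction H α]

theorem SharpTwo.exists_fpf [Finite H] [Fintype α] [DecidableEq α] (h : SharpTwo H α) (a b : α)
    (hab : a ≠ b) : ∃ x : H, ∀ c : α, x • c ≠ c := by
  have hn := h.ncard_fpfSet a b hab
  have h2 : 1 < Fintype.card α := Fintype.one_lt_card_iff.2 ⟨a, b, hab⟩
  by_contra hno
  push Not at hno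
  have hsub : fpfSet H α ⊆ {1} := by
    intro g hg
    rcases hg with rfl | hg
    · rfl
    · obtain ⟨c, hc⟩ := hno g
      exact absurd hc (hg c)
  have h3 := Set.ncard_le_ncard hsub (Set.finite_singleton _)
  rw [Set.ncard_singleton, hn] at h3
  omega

theorem SharpTwo.fpf_of_mem_fpfSet {y : H} (hy : y ∈ fpfSet H α) (hy1 : y ≠ 1) :
    ∀ c : α, y • c ≠ c := by
  rcases hy with h1 | h1
  · exact absurd h1 hy1
  · exact h1

/-- the Frobenius kernel of a sharply 2-transitive group -/
theorem SharpTwo.exists_kernel [Finite H] [Fintype α] [DecidableEq α] (h : SharpTwo H α) (a b : α)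
    (hab : a ≠ b) :
    ∃ (N : Subgroup H) (x₀ : H), x₀ ∈ N ∧ x₀ ≠ 1 ∧ (N : Set H) = fpfSet H α ∧ N.Normal ∧
      (∀ y ∈ N, ∀ z ∈ N, y * z = z * y) ∧ Nat.card N = Fintype.card α ∧
      (∀ y ∈ N, y ≠ 1 → IsConj x₀ y) := by
  classical
  obtain ⟨x₀, hx₀⟩ := h.exists_fpf a b hab
  have hx1 : x₀ ≠ 1 := fun h1 => hx₀ a (by rw [h1, one_smul])
  have hN := h.centralizer_eq_fpfSet a b hab hx₀
  have hn := h.ncard_fpfSet a b hab
  have hcardN : Nat.card (Subgroup.centralizer ({x₀} : Set H)) = Fintype.card α := by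
    rw [← hn, ← hN]
    exact Nat.card_coe_set_eq _
  refine ⟨Subgroup.centralizer {x₀}, x₀, ?_, hx1, hN, ?_, ?_, hcardN, ?_⟩
  · rw [Subgroup.mem_centralizer_iff]
    intro y hy
    rw [Set.mem_singleton_iff.1 hy]
  · constructor
    intro n hn g
    have h1 : n ∈ fpfSet H α := by rw [← hN]; exact hn
    have h2 := mem_fpfSet_conj h1 g
    rw [← hN] at h2
    exact h2
  · intro y hy z hz
    by_cases hy1 : y = 1
    · rw [hy1, one_mul, mul_one]
    · have hyf : ∀ c : α, y • c ≠ c := by
        apply SharpTwo.fpf_of_mem_fpfSet _ hy1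
        rw [← hN]; exact hy
      have hNy := h.centralizer_eq_fpfSet a b hab hyf
      have h1 : z ∈ (Subgroup.centralizer ({y} : Set H) : Set H) := by
        rw [hNy, ← hN]; exact hz
      rw [SetLike.mem_coe, Subgroup.mem_centralizer_iff] at h1
      exact h1 y rfl
  · -- the class of x₀ is everything
    have hcard := h.card_group a b hab
    have hmul := Subgroup.card_mul_index (Subgroup.centralizer ({x₀} : Set H))
    rw [hcardN, hcard] at hmul
    have hnpos : 0 < Fintype.card α := Fintype.card_pos_iff.2 ⟨a⟩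
    have hidx : (Subgroup.centralizer ({x₀} : Set H)).index = Fintype.card α - 1 :=
      Nat.eq_of_mul_eq_mul_left hnpos hmul
    rw [index_centralizer_eq_card_conj] at hidx
    have hsub : {y : H | IsConj x₀ y} ⊆ fpfSet H α \ {1} := by
      intro y hy
      have hy' : IsConj x₀ y := hy
      rw [isConj_iff] at hy'
      obtain ⟨c, rfl⟩ := hy'
      refine ⟨mem_fpfSet_conj (Or.inr hx₀) c, ?_⟩
      rw [Set.mem_singleton_iff]
      intro h1
      apply hx1
      have : x₀ = c⁻¹ * (c * x₀ * c⁻¹) * c := by group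
      rw [this, h1]; group
    have h1 : Nat.card {y : H // IsConj x₀ y} = {y : H | IsConj x₀ y}.ncard :=
      (Nat.card_coe_set_eq _)
    have h3 : (fpfSet H α \ {1}).ncard = (fpfSet H α).ncard - 1 :=
      Set.ncard_sdiff_singleton_of_mem (Or.inl rfl)
    have heq : {y : H | IsConj x₀ y} = fpfSet H α \ {1} := by
      apply Set.eq_of_subset_of_ncard_le hsub _ (Set.toFinite _)
      rw [h3, hn, ← h1, hidx]
    intro y hy hy1
    have : y ∈ fpfSet H α \ {1} := by
      refine ⟨?_, hy1⟩
      rw [← hN]; exact hy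
    rw [← heq] at this
    exact this

end Cfsg.Agent.Helper4
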