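import Mathlib
import Cfsg.Prelude.Def_Perm
import Cfsg.Agent.Helper4.SharpTwoC

set_option autoImplicit false

namespace Cfsg.Agent.Helper4

open MulAction Cfsg

/-- Data extracted from a sharply doubly transitive group with chosen points `a0` ("zero") and
`a1` ("one"): the regular abelian normal subgroup `N` with its parametrisation `τ`, and the
parametrisation `μ` of the stabiliser of `a0`. -/
structure NFData (H α : Type*) [Group H] [MulAction H α] (a0 a1 : α) where
  N : Subgroup H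
  hNn : N.Normal
  τ : α → H
  μ : α → H
  hτN : ∀ x, τ x ∈ N
  hτ : ∀ x, τ x • a0 = x
  hτuniq : ∀ n ∈ N, ∀ x, n • a0 = x → n = τ x
  hμ0 : ∀ y, μ y • a0 = a0
  hμ1 : ∀ y, y ≠ a0 → μ y • a1 = y
  hμuniq : ∀ m : H, m • a0 = a0 → ∀ y, m • a1 = y → m = μ y
  h01 : a0 ≠ a1

variable {H α : Type*} [Group H] [MulAction H α]

theorem SharpTwo.exists_nfData [Finite H] [Fintype α] [DecidableEq α] (h : SharpTwo H α)
    (a0 a1 : α) (h01 : a0 ≠ a1) : Nonempty (NFData H α a0 a1) := by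
  classical
  obtain ⟨N, x₀, -, -, hN, hNn, -, hNcard, -⟩ := h.exists_kernel a0 a1 h01
  have hinj : Function.Injective (fun n : N => (n : H) • a0) := by
    intro n n' hnn
    have h1 : (n : H) • a0 = (n' : H) • a0 := hnn
    have h2 : ((n' : H)⁻¹ * (n : H)) • a0 = a0 := by rw [mul_smul, h1, inv_smul_smul]
    have h3 : (n' : H)⁻¹ * (n : H) ∈ fpfSet H α := by
      rw [← hN]; exact N.mul_mem (N.inv_mem n'.2) n.2
    rcases h3 with h4 | h4
    · apply Subtype.ext
      exact (inv_mul_eq_one.1 h4).symm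
    · exact absurd h2 (h4 a0)
  have hbij : Function.Bijective (fun n : N => (n : H) • a0) := by
    apply hinj.bijective_of_nat_card_le
    rw [hNcard, Nat.card_eq_fintype_card]
  have hτex : ∀ x : α, ∃ n : H, n ∈ N ∧ n • a0 = x := by
    intro x
    obtain ⟨n, hn⟩ := hbij.2 x
    exact ⟨n, n.2, hn⟩
  have hμex : ∀ y : α, ∃ m : H, m • a0 = a0 ∧ (y ≠ a0 → m • a1 = y) := by
    intro y
    by_cases hy : y = a0
    · exact ⟨1, one_smul _ _, fun h => absurd hy h⟩
    · obtain ⟨g, hg0, hg1⟩ := h.trans a0 a1 a0 y h01 (Ne.symm hy)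
      exact ⟨g, hg0, fun _ => hg1⟩
  refine ⟨{ N := N, hNn := hNn, τ := fun x => Classical.choose (hτex x),
            μ := fun y => Classical.choose (hμex y), hτN := ?_, hτ := ?_, hτuniq := ?_,
            hμ0 := ?_, hμ1 := ?_, hμuniq := ?_, h01 := h01 }⟩
  · intro x; exact (Classical.choose_spec (hτex x)).1
  · intro x; exact (Classical.choose_spec (hτex x)).2
  · intro n hn x hx
    have h1 := (Classical.choose_spec (hτex x)).1
    have h2 := (Classical.choose_spec (hτex x)).2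
    have := hinj (a₁ := ⟨n, hn⟩) (a₂ := ⟨_, h1⟩) (by show n • a0 = _ • a0; rw [hx, h2])
    exact congrArg Subtype.val this
  · intro y; exact (Classical.choose_spec (hμex y)).1
  · intro y hy; exact (Classical.choose_spec (hμex y)).2 hy
  · intro m hm0 y hm1
    have hy : y ≠ a0 := by
      intro hy
      rw [hy, ← hm0] at hm1
      exact h01 (MulAction.injective m hm1).symm
    have h1 := (Classical.choose_spec (hμex y)).1
    have h2 := (Classical.choose_spec (hμex y)).2 hy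
    have h3 : ((Classical.choose (hμex y))⁻¹ * m) • a0 = a0 := by
      rw [mul_smul, hm0, inv_smul_eq_iff, h1]
    have h4 : ((Classical.choose (hμex y))⁻¹ * m) • a1 = a1 := by
      rw [mul_smul, hm1, inv_smul_eq_iff, h2]
    have h5 := h.sharp _ a0 a1 h01 h3 h4
    exact (inv_mul_eq_one.1 h5).symm

namespace NFData

variable {a0 a1 : α} (D : NFData H α a0 a1) [DecidableEq α]

/-- addition -/
def add (x y : α) : α := D.τ y • x
/-- negation -/
def neg (x : α) : α := (D.τ x)⁻¹ • a0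
/-- multiplication -/
def mul (x y : α) : α := if y = a0 then a0 else D.μ y • x

omit [DecidableEq α] in
theorem τ_zero : D.τ a0 = 1 := (D.hτuniq 1 D.N.one_mem a0 (one_smul _ _)).symm

omit [DecidableEq α] in
theorem τ_add (x y : α) : D.τ (D.τ y • x) = D.τ y * D.τ x :=
  (D.hτuniq (D.τ y * D.τ x) (D.N.mul_mem (D.hτN y) (D.hτN x)) _
    (by rw [mul_smul, D.hτ x])).symm

omit [DecidableEq α] in
theorem μ_one : D.μ a1 = 1 := (D.hμuniq 1 (one_smul _ _) a1 (one_smul _ _)).symm

omit [DecidableEq α] in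
theorem μ_ne (z y : α) (hy : y ≠ a0) : D.μ z • y ≠ a0 := by
  intro h
  have h1 : D.μ z • y = D.μ z • a0 := by rw [h, D.hμ0]
  exact hy (MulAction.injective _ h1)

omit [DecidableEq α] in
theorem μ_mul (y z : α) (hy : y ≠ a0) : D.μ (D.μ z • y) = D.μ z * D.μ y :=
  (D.hμuniq (D.μ z * D.μ y) (by rw [mul_smul, D.hμ0, D.hμ0]) _
    (by rw [mul_smul, D.hμ1 y hy])).symm

omit [DecidableEq α] in
theorem μ_inv_zero (c : α) : (D.μ c)⁻¹ • a0 = a0 := by
  rw [inv_smul_eq_iff, D.hμ0]

omit [DecidableEq α] in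
theorem conj_τ (c y : α) : D.μ c * D.τ y * (D.μ c)⁻¹ = D.τ (D.μ c • y) :=
  D.hτuniq _ (D.hNn.conj_mem _ (D.hτN y) _) _
    (by rw [mul_smul, mul_smul, D.μ_inv_zero, D.hτ])

omit [DecidableEq α] in
theorem add_assoc (x y z : α) : D.add (D.add x y) z = D.add x (D.add y z) := by
  unfold add
  rw [D.τ_add, mul_smul]

omit [DecidableEq α] in
theorem zero_add (y : α) : D.add a0 y = y := D.hτ y

omit [DecidableEq α] in
theorem neg_add (x : α) : D.add (D.neg x) x = a0 := by
  unfold add neg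
  rw [smul_inv_smul]

theorem mul_zero (x : α) : D.mul x a0 = a0 := by
  unfold mul; rw [if_pos rfl]

theorem mul_of_ne (x : α) {y : α} (hy : y ≠ a0) : D.mul x y = D.μ y • x := by
  unfold mul; rw [if_neg hy]

theorem zero_mul (y : α) : D.mul a0 y = a0 := by
  by_cases hy : y = a0
  · rw [hy, D.mul_zero]
  · rw [D.mul_of_ne _ hy, D.hμ0]

theorem one_mul (y : α) : D.mul a1 y = y := by
  by_cases hy : y = a0
  · rw [hy, D.mul_zero]
  · rw [D.mul_of_ne _ hy, D.hμ1 y hy]

theorem mul_one (x : α) : D.mul x a1 = x := by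
  rw [D.mul_of_ne _ (Ne.symm D.h01), D.μ_one, one_smul]

theorem mul_assoc (x y z : α) : D.mul (D.mul x y) z = D.mul x (D.mul y z) := by
  by_cases hz : z = a0
  · rw [hz, D.mul_zero, D.mul_zero, D.mul_zero]
  · by_cases hy : y = a0
    · rw [hy, D.mul_zero, D.zero_mul, D.mul_zero]
    · rw [D.mul_of_ne y hz, D.mul_of_ne x (D.μ_ne z y hy), D.μ_mul y z hy, mul_smul,
        D.mul_of_ne x hy, D.mul_of_ne _ hz]

theorem right_distrib (x y c : α) : D.mul (D.add x y) c = D.add (D.mul x c) (D.mul y c) := by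
  by_cases hc : c = a0
  · rw [hc, D.mul_zero, D.mul_zero, D.mul_zero, D.zero_add]
  · rw [D.mul_of_ne _ hc, D.mul_of_ne _ hc, D.mul_of_ne _ hc]
    unfold add
    rw [← D.conj_τ, mul_smul, mul_smul, inv_smul_smul]

theorem exists_inv (a : α) (ha : a ≠ a0) : ∃ b : α, D.mul a b = a1 ∧ D.mul b a = a1 := by
  have hb : (D.μ a)⁻¹ • a1 ≠ a0 := by
    intro h
    rw [inv_smul_eq_iff, D.hμ0] at h
    exact D.h01 h.symm
  have hμb : D.μ ((D.μ a)⁻¹ • a1) = (D.μ a)⁻¹ :=
    (D.hμuniq _ (D.μ_inv_zero a) _ rfl).symm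
  refine ⟨(D.μ a)⁻¹ • a1, ?_, ?_⟩
  · rw [D.mul_of_ne _ hb, hμb, inv_smul_eq_iff, D.hμ1 a ha]
  · rw [D.mul_of_ne _ ha, smul_inv_smul]

theorem affine' (a b : α) (ha : a ≠ a0) (x : α) :
    (D.τ b * D.μ a) • x = D.add (D.mul x a) b := by
  rw [D.mul_of_ne _ ha]
  unfold add
  rw [mul_smul]

theorem affine (g : H) : ∃ a b : α, a ≠ a0 ∧ ∀ x, g • x = D.add (D.mul x a) b := by
  have h0 : ((D.τ (g • a0))⁻¹ * g) • a0 = a0 := by
    rw [mul_smul, inv_smul_eq_iff, D.hτ]
  have ha : ((D.τ (g • a0))⁻¹ * g) • a1 ≠ a0 := by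
    intro h
    have h1 : ((D.τ (g • a0))⁻¹ * g) • a1 = ((D.τ (g • a0))⁻¹ * g) • a0 := by rw [h, h0]
    exact D.h01 (MulAction.injective _ h1).symm
  have hμ := D.hμuniq _ h0 _ rfl
  refine ⟨((D.τ (g • a0))⁻¹ * g) • a1, g • a0, ha, ?_⟩
  intro x
  rw [← D.affine' _ _ ha, ← hμ, mul_inv_cancel_left]

/-- the near-field structure -/
noncomputable def nearField : Cfsg.NearField α :=
  letI : Add α := ⟨D.add⟩
  letI : Zero α := ⟨a0⟩
  letI : Neg α := ⟨D.neg⟩
  { AddGroup.ofLeftAxioms D.add_assoc D.zero_add D.neg_add with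
    mul := D.mul
    one := a1
    mul_assoc := D.mul_assoc
    one_mul := D.one_mul
    mul_one := D.mul_one
    right_distrib := D.right_distrib
    mul_zero := D.mul_zero
    zero_ne_one := D.h01
    exists_inv := D.exists_inv }

end NFData

end Cfsg.Agent.Helper4
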