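import Mathlib

set_option autoImplicit false

namespace Cfsg.Agent.Helper4

/-- An elementary abelian `q`-group (`q` odd) with a "quaternion" action has square order. -/
theorem isSquare_card_of_quaternion_action_prime {B : Type*} [AddCommGroup B] [Finite B] (q : ℕ)
    [hq : Fact q.Prime] (hq2 : q ≠ 2) (hB : ∀ b : B, q • b = 0)
    (α β : B →+ B) (hα : ∀ b, α (α b) = -b) (hβ : ∀ b, β (β b) = -b)
    (hαβ : ∀ b, α (β b) = -(β (α b))) : IsSquare (Nat.card B) := by
  obtain ⟨s, t, -, -, hst⟩ := Nat.sq_add_sq_modEq q (q - 1)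
  have hqpos : 0 < q := hq.out.pos
  have hdvd : q ∣ s * s + t * t + 1 := by
    have h1 : s ^ 2 + t ^ 2 + 1 ≡ q - 1 + 1 [MOD q] := Nat.ModEq.add_right 1 hst
    have h2 : q - 1 + 1 = q := by omega
    rw [h2] at h1
    have h3 : s ^ 2 + t ^ 2 + 1 ≡ 0 [MOD q] := h1.trans (Nat.modEq_zero_iff_dvd.2 dvd_rfl)
    have := (Nat.modEq_zero_iff_dvd.1 h3)
    rwa [sq, sq] at this
  obtain ⟨c, hc⟩ := hdvd
  -- γ = s α + t β squares to the identity
  obtain ⟨γ, hγ⟩ : ∃ γ : B →+ B, ∀ b, γ b = s • α b + t • β b :=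
    ⟨s • α + t • β, fun b => rfl⟩
  have hβα : ∀ b, β (α b) = -(α (β b)) := by
    intro b; rw [hαβ, neg_neg]
  have hγγ : ∀ b, γ (γ b) = b := by
    intro b
    have h1 : γ (γ b) = -((s * s + t * t) • b) := by
      rw [hγ, hγ]
      simp only [map_add, map_nsmul, hα, hβ, hαβ]
      module
    have h2 : (s * s + t * t + 1) • b = 0 := by
      rw [hc, mul_comm, mul_smul, hB, smul_zero]
    rw [h1]
    have h3 : (s * s + t * t + 1) • b = (s * s + t * t) • b + b := by
      rw [add_smul, one_smul]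
    rw [h3] at h2
    exact neg_eq_iff_add_eq_zero.2 h2
  -- δ = α β anticommutes with γ
  have hδδ : ∀ b, α (β (α (β b))) = -b := by
    intro b
    rw [hβα, map_neg, hα, hβ, neg_neg]
  have hγδ : ∀ b, γ (α (β b)) = -(α (β (γ b))) := by
    intro b
    rw [hγ, hγ]
    simp only [map_add, map_nsmul, hα, hβ, hαβ, map_neg, neg_neg]
    module
  -- the two eigen-subgroups
  obtain ⟨φ, hφ⟩ : ∃ φ : B →+ B, ∀ b, φ b = γ b - b := ⟨γ - AddMonoidHom.id B, fun b => rfl⟩
  obtain ⟨ψ, hψ⟩ : ∃ ψ : B →+ B, ∀ b, ψ b = γ b + b := ⟨γ + AddMonoidHom.id B, fun b => rfl⟩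
  have hmemφ : ∀ b, b ∈ φ.ker ↔ γ b = b := by
    intro b; rw [AddMonoidHom.mem_ker, hφ, sub_eq_zero]
  have hmemψ : ∀ b, b ∈ ψ.ker ↔ γ b = -b := by
    intro b; rw [AddMonoidHom.mem_ker, hψ, add_eq_zero_iff_eq_neg]
  -- range φ = ker ψ
  have hq_odd : Odd q := hq.out.odd_of_ne_two hq2
  obtain ⟨h, hh⟩ := hq_odd
  have hrange : φ.range = ψ.ker := by
    ext c
    rw [hmemψ, AddMonoidHom.mem_range]
    constructor
    · rintro ⟨b, rfl⟩
      rw [hφ, map_sub, hγγ, neg_sub]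
    · intro hc
      refine ⟨-((h + 1) • c), ?_⟩
      rw [hφ, map_neg, map_nsmul, hc]
      have h1 : (2 * h + 1) • c = 0 := by rw [← hh]; exact hB c
      have h2 : -((h + 1) • -c) - -((h + 1) • c) = (2 * h + 1) • c + c := by module
      rw [h2, h1, zero_add]
  have hcard1 : Nat.card B = Nat.card φ.ker * Nat.card ψ.ker := by
    rw [← hrange, ← AddSubgroup.index_ker, AddSubgroup.card_mul_index]
  -- δ swaps the two
  have hδinj : Function.Injective (fun b : B => α (β b)) := by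
    intro b b' hbb
    have h1 : α (β (α (β b))) = α (β (α (β b'))) := by
      have : α (β b) = α (β b') := hbb
      rw [this]
    rw [hδδ, hδδ] at h1
    exact neg_injective h1
  have hle1 : Nat.card φ.ker ≤ Nat.card ψ.ker := by
    apply Nat.card_le_card_of_injective
      (fun b : φ.ker => (⟨α (β (b : B)), by
        rw [hmemψ, hγδ, (hmemφ _).1 b.2]⟩ : ψ.ker))
    intro b b' hbb
    exact Subtype.ext (hδinj (congrArg Subtype.val hbb))
  have hle2 : Nat.card ψ.ker ≤ Nat.card φ.ker := by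
    apply Nat.card_le_card_of_injective
      (fun b : ψ.ker => (⟨α (β (b : B)), by
        rw [hmemφ, hγδ, (hmemψ _).1 b.2, map_neg, map_neg, neg_neg]⟩ : φ.ker))
    intro b b' hbb
    exact Subtype.ext (hδinj (congrArg Subtype.val hbb))
  exact ⟨Nat.card φ.ker, by rw [hcard1, le_antisymm hle2 hle1]⟩

end Cfsg.Agent.Helper4

namespace Cfsg.Agent.Helper4

universe u

/-- A finite abelian group of odd order with a "quaternion" action has square order. -/
theorem isSquare_card_of_quaternion_action : ∀ (n : ℕ) (A : Type u) [AddCommGroup A] [Finite A],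
    Nat.card A = n → Odd n → ∀ (α β : A →+ A), (∀ b, α (α b) = -b) → (∀ b, β (β b) = -b) →
    (∀ b, α (β b) = -(β (α b))) → IsSquare n := by
  intro n
  induction n using Nat.strong_induction_on with
  | _ n ih =>
  intro A _ _ hcard hodd α β hα hβ hαβ
  by_cases hn1 : n = 1
  · subst hn1; exact ⟨1, rfl⟩
  obtain ⟨q, hqp, hqd⟩ := Nat.exists_prime_and_dvd hn1
  have hqF : Fact q.Prime := ⟨hqp⟩
  have hq2 : q ≠ 2 := by
    rintro rfl
    rcases hodd with ⟨k, hk⟩
    omega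
  obtain ⟨μ, hμ⟩ : ∃ μ : A →+ A, ∀ x, μ x = q • x := ⟨nsmulAddMonoidHom q, fun x => rfl⟩
  have hαker : ∀ x ∈ μ.ker, α x ∈ μ.ker := by
    intro x hx
    rw [AddMonoidHom.mem_ker, hμ] at *
    rw [← map_nsmul, hx, map_zero]
  have hβker : ∀ x ∈ μ.ker, β x ∈ μ.ker := by
    intro x hx
    rw [AddMonoidHom.mem_ker, hμ] at *
    rw [← map_nsmul, hx, map_zero]
  have hαran : ∀ x ∈ μ.range, α x ∈ μ.range := by
    rintro _ ⟨x, rfl⟩
    exact ⟨α x, by rw [hμ, hμ, map_nsmul]⟩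
  have hβran : ∀ x ∈ μ.range, β x ∈ μ.range := by
    rintro _ ⟨x, rfl⟩
    exact ⟨β x, by rw [hμ, hμ, map_nsmul]⟩
  obtain ⟨αK, hαK⟩ : ∃ αK : μ.ker →+ μ.ker, ∀ x, ((αK x : μ.ker) : A) = α x :=
    ⟨(α.comp μ.ker.subtype).codRestrict μ.ker (fun x => hαker x x.2), fun x => rfl⟩
  obtain ⟨βK, hβK⟩ : ∃ βK : μ.ker →+ μ.ker, ∀ x, ((βK x : μ.ker) : A) = β x :=
    ⟨(β.comp μ.ker.subtype).codRestrict μ.ker (fun x => hβker x x.2), fun x => rfl⟩
  obtain ⟨αR, hαR⟩ : ∃ αR : μ.range →+ μ.range, ∀ x, ((αR x : μ.range) : A) = α x :=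
    ⟨(α.comp μ.range.subtype).codRestrict μ.range (fun x => hαran x x.2), fun x => rfl⟩
  obtain ⟨βR, hβR⟩ : ∃ βR : μ.range →+ μ.range, ∀ x, ((βR x : μ.range) : A) = β x :=
    ⟨(β.comp μ.range.subtype).codRestrict μ.range (fun x => hβran x x.2), fun x => rfl⟩
  have hsqK : IsSquare (Nat.card μ.ker) := by
    apply isSquare_card_of_quaternion_action_prime q hq2 _ αK βK
    · intro b; apply Subtype.ext; rw [hαK, hαK, hα]; rfl
    · intro b; apply Subtype.ext; rw [hβK, hβK, hβ]; rfl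
    · intro b; apply Subtype.ext; rw [hαK, hβK, hαβ, AddSubgroup.coe_neg, hβK, hαK]
    · intro b
      apply Subtype.ext
      have := b.2
      rw [AddMonoidHom.mem_ker, hμ] at this
      rw [AddSubgroup.coe_nsmul, this]; rfl
  have hcardmul : Nat.card μ.ker * Nat.card μ.range = n := by
    rw [← hcard, ← AddSubgroup.index_ker, AddSubgroup.card_mul_index]
  have hker1 : 1 < Nat.card μ.ker := by
    obtain ⟨x, hx⟩ := exists_prime_addOrderOf_dvd_card' q (hcard ▸ hqd)
    have hxker : x ∈ μ.ker := by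
      rw [AddMonoidHom.mem_ker, hμ, ← hx]; exact addOrderOf_nsmul_eq_zero x
    have hx0 : x ≠ 0 := by
      rintro rfl
      rw [addOrderOf_zero] at hx
      exact hqp.one_lt.ne hx
    rw [Finite.one_lt_card_iff_nontrivial]
    exact ⟨⟨⟨x, hxker⟩, 0, fun h => hx0 (congrArg Subtype.val h)⟩⟩
  have hRpos : 0 < Nat.card μ.range := Nat.card_pos
  have hRlt : Nat.card μ.range < n := by nlinarith
  have hRodd : Odd (Nat.card μ.range) := Odd.of_dvd_nat hodd (Dvd.intro_left _ hcardmul)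
  have hsqR : IsSquare (Nat.card μ.range) := by
    apply ih _ hRlt μ.range rfl hRodd αR βR
    · intro b; apply Subtype.ext; rw [hαR, hαR, hα]; rfl
    · intro b; apply Subtype.ext; rw [hβR, hβR, hβ]; rfl
    · intro b; apply Subtype.ext; rw [hαR, hβR, hαβ, AddSubgroup.coe_neg, hβR, hαR]
  rw [← hcardmul]
  exact hsqK.mul hsqR

end Cfsg.Agent.Helper4
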