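import Mathlib
import Cfsg.Agent.Helper4.QuatSquareA
import Cfsg.Agent.Helper1.FrobEven

set_option autoImplicit false

namespace Cfsg.Agent.Helper4

universe u

/-- multiplicative version of `isSquare_card_of_quaternion_action` -/
theorem isSquare_card_of_quaternion_action_mul {K : Type u} [Group K] [Finite K]
    (hcomm : ∀ a b : K, a * b = b * a) (hodd : Odd (Nat.card K)) (f g : K →* K)
    (hf : ∀ x, f (f x) = x⁻¹) (hg : ∀ x, g (g x) = x⁻¹) (hfg : ∀ x, f (g x) = (g (f x))⁻¹) :
    IsSquare (Nat.card K) := by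
  let instC : CommGroup K := { (inferInstance : Group K) with mul_comm := hcomm }
  have hfin : Finite (Additive K) := ‹Finite K›
  exact isSquare_card_of_quaternion_action (Nat.card K) (Additive K) rfl hodd
    (MonoidHom.toAdditive f) (MonoidHom.toAdditive g) hf hg hfg

variable {L : Type u} [Group L]

theorem odd_and_isSquare_card_of_quaternion [Finite L] (N : Subgroup L) [hNn : N.Normal]
    (u v z : L) (hu : u * u = z) (hv : v * v = z) (hz1 : z ≠ 1) (hz2 : z * z = 1)
    (hvu : v * u = z * u * v) (hfpf : N ⊓ Subgroup.centralizer {z} = ⊥) :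
    Odd (Nat.card N) ∧ IsSquare (Nat.card N) := by
  have h2F : Fact (2 : ℕ).Prime := ⟨Nat.prime_two⟩
  have hzord : orderOf z = 2 := orderOf_eq_prime (by rw [sq]; exact hz2) hz1
  have hinv := Cfsg.Agent.Helper1.involution_inverts_of_fpf N z hzord hfpf
  have hcomm : ∀ a b : N, a * b = b * a := by
    intro a b
    apply Subtype.ext
    have h1 := hinv _ (N.mul_mem a.2 b.2)
    have h2 := hinv _ a.2
    have h3 := hinv _ b.2
    have h4 : z * ((a : L) * b) * z⁻¹ = (z * a * z⁻¹) * (z * b * z⁻¹) := by group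
    rw [h4, h2, h3] at h1
    have h5 : ((a : L) * b)⁻¹ = (b : L)⁻¹ * (a : L)⁻¹ := mul_inv_rev _ _
    rw [h5] at h1
    have h6 : ((a : L)⁻¹ * (b : L)⁻¹)⁻¹ = ((b : L)⁻¹ * (a : L)⁻¹)⁻¹ := by rw [h1]
    rw [mul_inv_rev, mul_inv_rev, inv_inv, inv_inv] at h6
    exact h6.symm
  have hodd : Odd (Nat.card N) := by
    rw [← Nat.not_even_iff_odd, even_iff_two_dvd]
    intro h2
    obtain ⟨t, ht⟩ := exists_prime_orderOf_dvd_card' 2 h2
    have ht2 : (t : L) * t = 1 := by
      have := pow_orderOf_eq_one t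
      rw [ht, sq] at this
      exact congrArg Subtype.val this
    have htinv : (t : L)⁻¹ = t := inv_eq_of_mul_eq_one_left ht2
    have h1 := hinv _ t.2
    rw [htinv] at h1
    have hmem : (t : L) ∈ N ⊓ Subgroup.centralizer {z} := by
      refine Subgroup.mem_inf.2 ⟨t.2, ?_⟩
      rw [Subgroup.mem_centralizer_singleton_iff]
      calc (t : L) * z = (z * t * z⁻¹) * z := by rw [h1]
        _ = z * t := by group
    rw [hfpf, Subgroup.mem_bot] at hmem
    have : t = 1 := Subtype.ext hmem
    rw [this, orderOf_one] at ht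
    omega
  refine ⟨hodd, ?_⟩
  have hf : ∀ x : N, (MulAut.conjNormal u : MulAut N).toMonoidHom
      ((MulAut.conjNormal u : MulAut N).toMonoidHom x) = x⁻¹ := by
    intro x
    apply Subtype.ext
    have h1 := hinv _ x.2
    simp only [MulEquiv.coe_toMonoidHom, MulAut.conjNormal_apply, InvMemClass.coe_inv]
    rw [← h1, ← hu]; group
  have hg : ∀ x : N, (MulAut.conjNormal v : MulAut N).toMonoidHom
      ((MulAut.conjNormal v : MulAut N).toMonoidHom x) = x⁻¹ := by
    intro x
    apply Subtype.ext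
    have h1 := hinv _ x.2
    simp only [MulEquiv.coe_toMonoidHom, MulAut.conjNormal_apply, InvMemClass.coe_inv]
    rw [← h1, ← hv]; group
  have hfg : ∀ x : N, (MulAut.conjNormal u : MulAut N).toMonoidHom
      ((MulAut.conjNormal v : MulAut N).toMonoidHom x) =
      ((MulAut.conjNormal v : MulAut N).toMonoidHom
        ((MulAut.conjNormal u : MulAut N).toMonoidHom x))⁻¹ := by
    intro x
    apply Subtype.ext
    have hmem : u * (v * x * v⁻¹) * u⁻¹ ∈ N := hNn.conj_mem _ (hNn.conj_mem _ x.2 v) u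
    have h1 := hinv _ hmem
    simp only [MulEquiv.coe_toMonoidHom, MulAut.conjNormal_apply, InvMemClass.coe_inv]
    have h2 : v * (u * x * u⁻¹) * v⁻¹ = z * (u * (v * x * v⁻¹) * u⁻¹) * z⁻¹ := by
      have : v * (u * x * u⁻¹) * v⁻¹ = (v * u) * x * (v * u)⁻¹ := by group
      rw [this, hvu]; group
    rw [h2, h1, inv_inv]
  exact isSquare_card_of_quaternion_action_mul hcomm hodd _ _ hf hg hfg

end Cfsg.Agent.Helper4
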