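import Mathlib
import Cfsg.Agent.Helper4.QuatSquareB
import Cfsg.Agent.S0040
import Cfsg.Agent.Helper6.FrobThm

set_option autoImplicit false

namespace Cfsg.Agent.Helper4

open QuaternionGroup in
theorem quaternion_exists_uvz (m' : ℕ) (hm' : 0 < m') :
    ∃ u v z : QuaternionGroup (2 * m'), u * u = z ∧ v * v = z ∧ z ≠ 1 ∧ z * z = 1 ∧
      v * u = z * u * v := by
  have hne : NeZero (2 * m') := ⟨by omega⟩
  refine ⟨a (m' : ZMod (2 * (2 * m'))), xa 0, a ((2 * m' : ℕ) : ZMod (2 * (2 * m'))), ?_, ?_, ?_, ?_, ?_⟩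
  · rw [a_mul_a]; congr 1; push_cast; ring
  · rw [xa_mul_xa]; congr 1; push_cast; ring
  · rw [one_def]
    intro h
    have h1 := a.inj h
    rw [ZMod.natCast_eq_zero_iff] at h1
    have := Nat.le_of_dvd (by omega) h1
    omega
  · rw [a_mul_a, one_def]; congr 1
    have : ((2 * m' : ℕ) : ZMod (2 * (2 * m'))) + ((2 * m' : ℕ) : ZMod (2 * (2 * m'))) =
        ((2 * (2 * m') : ℕ) : ZMod (2 * (2 * m'))) := by push_cast; ring
    rw [this, ZMod.natCast_self]
  · rw [xa_mul_a, a_mul_a, a_mul_xa]; congr 1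
    have h0 : ((2 * (2 * m') : ℕ) : ZMod (2 * (2 * m'))) = 0 := ZMod.natCast_self _
    push_cast at h0 ⊢
    linear_combination h0

universe u

open scoped Pointwise

variable {L : Type u} [Group L]

theorem frobenius_fpf (H N : Subgroup L) (hH : Cfsg.IsFrobeniusComplement H)
    (hN : (N : Set L) = Cfsg.frobeniusKernel H) (h : L) (hh : h ∈ H) (hh1 : h ≠ 1) :
    N ⊓ Subgroup.centralizer {h} = ⊥ := by
  rw [eq_bot_iff]
  intro x hx
  rw [Subgroup.mem_bot]
  obtain ⟨hxN, hxC⟩ := Subgroup.mem_inf.1 hx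
  have hxK : x ∈ Cfsg.frobeniusKernel H := by rw [← hN]; exact hxN
  rcases hxK with h1 | h1
  · exact h1
  · exfalso
    rw [Subgroup.mem_centralizer_singleton_iff] at hxC
    have hconj : h ∈ MulAut.conj x • H := by
      rw [Subgroup.mem_pointwise_smul_iff_inv_smul_mem]
      have : (MulAut.conj x)⁻¹ • h = x⁻¹ * h * x := by simp [MulAut.smul_def]
      rw [this]
      have : x⁻¹ * h * x = h := by
        calc x⁻¹ * h * x = x⁻¹ * (h * x) := by group
          _ = x⁻¹ * (x * h) := by rw [hxC]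
          _ = h := by group
      rw [this]; exact hh
    have hxH : x ∈ H := Cfsg.Agent.Helper1.mem_of_frobenius hH hh1 hh hconj
    apply h1 1
    rw [map_one, one_smul]
    exact hxH

end Cfsg.Agent.Helper4
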