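import Mathlib

set_option autoImplicit false

/-!
Permutations of the projective line over `ZMod p`, used to recognise `PSL(2, p)` from its action on the
Sylow `p`-subgroups.
-/

namespace Cfsg.Agent.Helper4.L2p

/-- The projective line over `ZMod p`. -/
abbrev Pt (p : ℕ) := Option (ZMod p)

variable {p : ℕ} [hp : Fact p.Prime]

/-- The affine map `x ↦ s x + c` fixing the point at infinity (the identity when `s = 0`). -/
noncomputable def aff (s c : ZMod p) : Equiv.Perm (Pt p) :=
  if hs : s = 0 then 1 else Equiv.optionCongr ((Equiv.mulLeft₀ s hs).trans (Equiv.addRight c))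

theorem aff_none {s : ZMod p} (c : ZMod p) : aff s c none = none := by
  unfold aff
  split_ifs with hs
  · rfl
  · rfl

theorem aff_some {s : ZMod p} (hs : s ≠ 0) (c x : ZMod p) : aff s c (some x) = some (s * x + c) := by
  unfold aff
  rw [dif_neg hs]
  rfl

theorem aff_mul {s s' : ZMod p} (hs : s ≠ 0) (hs' : s' ≠ 0) (c c' : ZMod p) :
    aff s c * aff s' c' = aff (s * s') (s * c' + c) := by
  apply Equiv.ext
  intro x
  rw [Equiv.Perm.mul_apply]
  cases x with
  | none => rw [aff_none, aff_none, aff_none]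
  | some x =>
    rw [aff_some hs', aff_some hs, aff_some (mul_ne_zero hs hs')]
    congr 1
    ring

theorem aff_one_zero : aff (1 : ZMod p) 0 = 1 := by
  apply Equiv.ext
  intro x
  cases x with
  | none => rw [aff_none]; rfl
  | some x => rw [aff_some one_ne_zero, one_mul, add_zero]; rfl

theorem aff_inj {s s' : ZMod p} (hs : s ≠ 0) (hs' : s' ≠ 0) {c c' : ZMod p}
    (h : aff s c = aff s' c') : s = s' ∧ c = c' := by
  have h0 := congrArg (fun f : Equiv.Perm (Pt p) => f (some 0)) h
  have h1 := congrArg (fun f : Equiv.Perm (Pt p) => f (some 1)) h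
  simp only [aff_some hs, aff_some hs', mul_zero, zero_add, mul_one, Option.some.injEq] at h0 h1
  subst h0
  exact ⟨add_right_cancel h1, rfl⟩

theorem aff_inv {s : ZMod p} (hs : s ≠ 0) (c : ZMod p) : (aff s c)⁻¹ = aff s⁻¹ (-(s⁻¹ * c)) := by
  apply inv_eq_of_mul_eq_one_right
  rw [aff_mul hs (inv_ne_zero hs), mul_inv_cancel₀ hs]
  have : s * -(s⁻¹ * c) + c = 0 := by
    rw [mul_neg, ← mul_assoc, mul_inv_cancel₀ hs, one_mul, neg_add_cancel]
  rw [this, aff_one_zero]

theorem aff_pow_zero {s : ZMod p} (hs : s ≠ 0) (n : ℕ) : (aff s 0) ^ n = aff (s ^ n) 0 := by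
  induction n with
  | zero => rw [pow_zero, pow_zero, aff_one_zero]
  | succ n ih =>
    rw [pow_succ, ih, aff_mul (pow_ne_zero n hs) hs, pow_succ, mul_zero, add_zero]

theorem aff_pow {s : ZMod p} (hs : s ≠ 0) (c : ZMod p) (n : ℕ) :
    ∃ c' : ZMod p, (aff s c) ^ n = aff (s ^ n) c' := by
  induction n with
  | zero => exact ⟨0, by rw [pow_zero, pow_zero, aff_one_zero]⟩
  | succ n ih =>
    obtain ⟨c', hc'⟩ := ih
    exact ⟨s ^ n * c + c', by rw [pow_succ, hc', aff_mul (pow_ne_zero n hs) hs, pow_succ]⟩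

theorem pow_sub_two_eq_inv {x : ZMod p} (hx : x ≠ 0) : x ^ (p - 2) = x⁻¹ := by
  have h2 : 2 ≤ p := hp.out.two_le
  apply eq_inv_of_mul_eq_one_left
  rw [← pow_succ]
  have : p - 2 + 1 = p - 1 := by omega
  rw [this]
  exact ZMod.pow_card_sub_one_eq_one hx

/-- The map `x ↦ c / x`, exchanging `0` and the point at infinity. -/
def fT (c : ZMod p) : Pt p → Pt p
  | none => some 0
  | some x => if x = 0 then none else some (c * x ^ (p - 2))

theorem fT_some {c x : ZMod p} (hx : x ≠ 0) : fT c (some x) = some (c * x⁻¹) := by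
  show (if x = 0 then none else some (c * x ^ (p - 2))) = _
  rw [if_neg hx, pow_sub_two_eq_inv hx]

theorem fT_zero (c : ZMod p) : fT c (some 0) = none := by
  show (if (0 : ZMod p) = 0 then none else some (c * (0 : ZMod p) ^ (p - 2))) = _
  rw [if_pos rfl]

theorem fT_invol {c : ZMod p} (hc : c ≠ 0) : Function.Involutive (fT c) := by
  intro x
  cases x with
  | none => show fT c (some 0) = none; exact fT_zero c
  | some x =>
    by_cases hx : x = 0
    · subst hx
      rw [fT_zero]
      rfl
    · rw [fT_some hx, fT_some (mul_ne_zero hc (inv_ne_zero hx))]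
      congr 1
      field_simp

/-- The involution `x ↦ c / x` (the identity when `c = 0`). -/
noncomputable def permT (c : ZMod p) : Equiv.Perm (Pt p) :=
  if hc : c = 0 then 1 else (fT_invol hc).toPerm

theorem permT_apply {c : ZMod p} (hc : c ≠ 0) (x : Pt p) : permT c x = fT c x := by
  unfold permT
  rw [dif_neg hc]
  rfl

theorem permT_inv {c : ZMod p} (hc : c ≠ 0) : (permT c)⁻¹ = permT c := by
  apply inv_eq_of_mul_eq_one_right
  apply Equiv.ext
  intro x
  rw [Equiv.Perm.mul_apply, permT_apply hc, permT_apply hc, fT_invol hc]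
  rfl

/-- Conjugating `x ↦ c / x` by `x ↦ s x`. -/
theorem aff_conj_permT {s c : ZMod p} (hs : s ≠ 0) (hc : c ≠ 0) :
    aff s 0 * permT c * (aff s 0)⁻¹ = permT (s * s * c) := by
  have hssc : s * s * c ≠ 0 := mul_ne_zero (mul_ne_zero hs hs) hc
  rw [aff_inv hs, mul_zero, neg_zero]
  apply Equiv.ext
  intro x
  rw [Equiv.Perm.mul_apply, Equiv.Perm.mul_apply, permT_apply hc, permT_apply hssc]
  cases x with
  | none =>
    rw [aff_none]
    show aff s 0 (some 0) = some 0
    rw [aff_some hs, mul_zero, add_zero]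
  | some x =>
    rw [aff_some (inv_ne_zero hs), add_zero]
    by_cases hx : x = 0
    · subst hx
      rw [mul_zero, fT_zero, fT_zero, aff_none]
    · rw [fT_some (mul_ne_zero (inv_ne_zero hs) hx), fT_some hx, aff_some hs, add_zero]
      congr 1
      field_simp

/-- The candidate maps: `x ↦ c / x` on the `m`-th roots of unity and `x ↦ d / x` elsewhere. -/
def Tcd (p m : ℕ) (c d : ZMod p) : Pt p → Pt p
  | none => some 0
  | some x => if x = 0 then none else if x ^ m = 1 then some (c * x ^ (p - 2)) else some (d * x ^ (p - 2))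

theorem Tcd_self (m : ℕ) (c : ZMod p) : Tcd p m c c = fT c := by
  funext x
  cases x with
  | none => rfl
  | some x =>
    show (if x = 0 then none else if x ^ m = 1 then some (c * x ^ (p - 2)) else some (c * x ^ (p - 2)))
      = (if x = 0 then none else some (c * x ^ (p - 2)))
    split_ifs <;> rfl

/-- A permutation exchanging `0` and infinity, of order two, inverting `x ↦ k x`, is one of the candidate
maps. -/
theorem eq_Tcd {m : ℕ} {k : ZMod p} (hm : p = 2 * m + 1) (hmodd : Odd m) (hk0 : k ≠ 0)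
    (hroots : ∀ s : ZMod p, s ^ m = 1 → ∃ e : ℕ, e < m ∧ s = k ^ e)
    (T : Equiv.Perm (Pt p)) (h0 : T none = some 0) (hI : ∀ x, T (T x) = x)
    (hB : ∀ x, T (aff k 0 x) = (aff k 0)⁻¹ (T x)) :
    ∃ c d : ZMod p, c ≠ 0 ∧ d ≠ 0 ∧ ⇑T = Tcd p m c d := by
  have hT0 : T (some 0) = none := by
    have := hI none
    rwa [h0] at this
  have key : ∀ x : ZMod p, x ≠ 0 → ∃ y : ZMod p, y ≠ 0 ∧ T (some x) = some y := by
    intro x hx
    cases hTx : T (some x) with
    | none =>
      exfalso
      have h1 := hI (some x)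
      rw [hTx, h0] at h1
      exact hx (Option.some.inj h1).symm
    | some y =>
      refine ⟨y, ?_, rfl⟩
      rintro rfl
      have h1 := hI (some x)
      rw [hTx, hT0] at h1
      exact absurd h1 (by simp)
  have step : ∀ (e : ℕ) (x y : ZMod p), T (some x) = some y →
      T (some (k ^ e * x)) = some ((k ^ e)⁻¹ * y) := by
    intro e
    induction e with
    | zero => intro x y hxy; rw [pow_zero, one_mul, inv_one, one_mul]; exact hxy
    | succ e ih =>
      intro x y hxy
      have h1 := ih x y hxy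
      have h2 := hB (some (k ^ e * x))
      rw [aff_some hk0, add_zero, h1, aff_inv hk0, mul_zero, neg_zero, aff_some (inv_ne_zero hk0),
        add_zero] at h2
      rw [pow_succ, mul_comm (k ^ e) k, mul_assoc, h2, mul_inv, mul_assoc]
  obtain ⟨c, hc0, hc⟩ := key 1 one_ne_zero
  obtain ⟨d', hd0, hd'⟩ := key (-1) (neg_ne_zero.2 one_ne_zero)
  refine ⟨c, -d', hc0, neg_ne_zero.2 hd0, ?_⟩
  funext x
  cases x with
  | none => exact h0
  | some x =>
    show T (some x) = (if x = 0 then none else if x ^ m = 1 then some (c * x ^ (p - 2))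
      else some (-d' * x ^ (p - 2)))
    by_cases hx : x = 0
    · rw [if_pos hx, hx]; exact hT0
    · rw [if_neg hx, pow_sub_two_eq_inv hx]
      by_cases hxm : x ^ m = 1
      · rw [if_pos hxm]
        obtain ⟨e, -, rfl⟩ := hroots x hxm
        have h1 := step e 1 c hc
        rw [mul_one] at h1
        rw [h1, mul_comm]
      · rw [if_neg hxm]
        have hsq : x ^ m * x ^ m = 1 := by
          rw [← pow_add, ← two_mul]
          have : 2 * m = p - 1 := by omega
          rw [this]
          exact ZMod.pow_card_sub_one_eq_one hx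
        have hneg : x ^ m = -1 := by
          rcases mul_self_eq_one_iff.1 hsq with h | h
          · exact absurd h hxm
          · exact h
        have hnx : (-x) ^ m = 1 := by rw [hmodd.neg_pow, hneg, neg_neg]
        obtain ⟨e, -, he⟩ := hroots (-x) hnx
        have hx' : x = k ^ e * (-1) := by rw [mul_neg_one, ← he, neg_neg]
        have h1 := step e (-1) d' hd'
        rw [← hx'] at h1
        rw [h1]
        congr 1
        rw [hx', mul_inv, inv_neg_one]
        ring

/-- The model group inside the symmetric group of the projective line. -/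
noncomputable def H0 (p : ℕ) [Fact p.Prime] (k c₀ : ZMod p) : Subgroup (Equiv.Perm (Pt p)) :=
  Subgroup.closure {aff 1 1, aff k 0, permT c₀}

theorem closure_conj_eq {X : Type*} [Group X] (A B T W : X)
    (hW : W ∈ Subgroup.closure ({A, B} : Set X)) :
    Subgroup.closure ({A, B, W * T * W⁻¹} : Set X) = Subgroup.closure {A, B, T} := by
  have hAB : ∀ T' : X, Subgroup.closure ({A, B} : Set X) ≤ Subgroup.closure {A, B, T'} := by
    intro T'
    apply Subgroup.closure_mono
    intro x hx
    rcases hx with rfl | rfl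
    · simp
    · simp
  apply le_antisymm
  · rw [Subgroup.closure_le]
    intro x hx
    rcases hx with rfl | rfl | rfl
    · exact Subgroup.subset_closure (by simp)
    · exact Subgroup.subset_closure (by simp)
    · have hW' := hAB T hW
      have hT' : T ∈ Subgroup.closure ({A, B, T} : Set X) := Subgroup.subset_closure (by simp)
      exact Subgroup.mul_mem _ (Subgroup.mul_mem _ hW' hT') (Subgroup.inv_mem _ hW')
  · rw [Subgroup.closure_le]
    intro x hx
    rcases hx with rfl | rfl | rfl
    · exact Subgroup.subset_closure (by simp)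
    · exact Subgroup.subset_closure (by simp)
    · have hW' := hAB (W * x * W⁻¹) hW
      have hT' : W * x * W⁻¹ ∈ Subgroup.closure ({A, B, W * x * W⁻¹} : Set X) :=
        Subgroup.subset_closure (by simp)
      have h1 := Subgroup.mul_mem _ (Subgroup.mul_mem _ (Subgroup.inv_mem _ hW') hT') hW'
      have e : W⁻¹ * (W * x * W⁻¹) * W = x := by group
      rw [e] at h1
      exact h1

/-- The classification hypothesis, checked by computation for each prime. -/
def ClassHyp (p m : ℕ) (k c₀ : ZMod p) : Prop :=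
  ∀ c d : ZMod p, c ≠ 0 → d ≠ 0 → (∀ x, Tcd p m c d (Tcd p m c d x) = x) →
    (∀ x, Tcd p m c d x ≠ x) → (c = d ∧ ∃ i : ℕ, i < m ∧ c = k ^ i * k ^ i * c₀)

theorem closure_of_conditions {m : ℕ} {k c₀ : ZMod p} (hm : p = 2 * m + 1) (hmodd : Odd m)
    (hk0 : k ≠ 0) (hc₀ : c₀ ≠ 0)
    (hroots : ∀ s : ZMod p, s ^ m = 1 → ∃ e : ℕ, e < m ∧ s = k ^ e)
    (hclass : ClassHyp p m k c₀)
    (T : Equiv.Perm (Pt p)) (h0 : T none = some 0) (hI : ∀ x, T (T x) = x)
    (hB : ∀ x, T (aff k 0 x) = (aff k 0)⁻¹ (T x)) (hfix : ∀ x, T x ≠ x) :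
    Subgroup.closure {aff 1 1, aff k 0, T} = H0 p k c₀ := by
  obtain ⟨c, d, hc, hd, hT⟩ := eq_Tcd hm hmodd hk0 hroots T h0 hI hB
  have h1 : ∀ x, Tcd p m c d (Tcd p m c d x) = x := by
    intro x
    rw [← hT]
    exact hI x
  have h2 : ∀ x, Tcd p m c d x ≠ x := by
    intro x
    rw [← hT]
    exact hfix x
  obtain ⟨rfl, i, -, hci⟩ := hclass c d hc hd h1 h2
  have hki : k ^ i ≠ 0 := pow_ne_zero i hk0
  have hTeq : T = aff (k ^ i) 0 * permT c₀ * (aff (k ^ i) 0)⁻¹ := by
    rw [aff_conj_permT hki hc₀, ← hci]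
    apply Equiv.ext
    intro x
    rw [permT_apply hc, hT, Tcd_self]
  rw [hTeq]
  unfold H0
  apply closure_conj_eq
  rw [← aff_pow_zero hk0]
  exact Subgroup.pow_mem _ (Subgroup.subset_closure (by simp)) i

theorem aff_one_one_ne_one : aff (1 : ZMod p) 1 ≠ 1 := by
  intro h
  have h1 := congrArg (fun f : Equiv.Perm (Pt p) => f (some 0)) h
  simp only [aff_some one_ne_zero, mul_zero, zero_add, Equiv.Perm.coe_one, id_eq,
    Option.some.injEq] at h1
  exact one_ne_zero h1

theorem card_Pt : Nat.card (Pt p) = p + 1 := by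
  rw [Nat.card_eq_fintype_card, Fintype.card_option, ZMod.card]

end Cfsg.Agent.Helper4.L2p
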