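import Mathlib
import Cfsg.Agent.Helper2.SmallOrder
import Cfsg.Agent.Helper2.SylowExact

set_option autoImplicit false

namespace Cfsg.Agent.Helper4.Ord168

open Subgroup Cfsg.Agent.Helper2.SmallOrder Cfsg.Agent.Helper2.SylowExact

variable {G : Type*} [Group G]

theorem fact7 : Fact (Nat.Prime 7) := ⟨by norm_num⟩

attribute [local instance] fact7

/-- Burnside: in a simple group a nontrivial proper Sylow subgroup is not central in its
normalizer. -/
theorem not_normalizer_le_centralizer [Finite G] [IsSimpleGroup G] {p : ℕ} [Fact p.Prime]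
    (P : Sylow p G) (h1 : Nat.card P ≠ 1) (h2 : Nat.card P ≠ Nat.card G) :
    ¬ (normalizer ((P : Subgroup G) : Set G) ≤ centralizer ((P : Subgroup G) : Set G)) := by
  intro h
  have hc := MonoidHom.ker_transferSylow_isComplement' P h
  have hcard := hc.card_mul
  rcases (MonoidHom.normal_ker (MonoidHom.transferSylow P h)).eq_bot_or_eq_top with hb | ht
  · rw [hb, Subgroup.card_bot, one_mul] at hcard
    exact h2 hcard
  · rw [ht, Subgroup.card_top] at hcard
    have hpos : 0 < Nat.card G := Nat.card_pos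
    have : Nat.card (P : Subgroup G) = 1 := by
      have h3 : Nat.card G * Nat.card (P : Subgroup G) = Nat.card G * 1 := by rw [hcard, mul_one]
      exact Nat.eq_of_mul_eq_mul_left hpos h3
    exact h1 this

theorem num7 (n : ℕ) (h1 : n ∣ 24) (h2 : n ≡ 1 [MOD 7]) : n = 1 ∨ n = 8 := by
  have := Nat.le_of_dvd (by norm_num) h1
  unfold Nat.ModEq at h2
  interval_cases n <;> omega

theorem num3 (n : ℕ) (h1 : n ∣ 56) (h2 : n ≡ 1 [MOD 3]) : n = 1 ∨ n = 4 ∨ n = 7 ∨ n = 28 := by
  have := Nat.le_of_dvd (by norm_num) h1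
  unfold Nat.ModEq at h2
  interval_cases n <;> omega

theorem num2 (n : ℕ) (h1 : n ∣ 21) (h2 : n ≡ 1 [MOD 2]) : n = 1 ∨ n = 3 ∨ n = 7 ∨ n = 21 := by
  have := Nat.le_of_dvd (by norm_num) h1
  unfold Nat.ModEq at h2
  interval_cases n <;> omega

section

variable [Finite G] (h : Nat.card G = 168)
include h

theorem card_syl7 (P : Sylow 7 G) : Nat.card P = 7 :=
  card_sylow_of_exact (s := 7) (m := 24) (by rw [h]) (by norm_num) P

theorem card_syl3 (Q : Sylow 3 G) : Nat.card Q = 3 :=
  card_sylow_of_exact (s := 3) (m := 56) (by rw [h]) (by norm_num) Q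

theorem card_syl2 (T : Sylow 2 G) : Nat.card T = 8 := by
  rw [Sylow.card_eq_multiplicity, h, show (168 : ℕ) = 2 ^ 3 * 21 by norm_num,
    Nat.factorization_mul (by norm_num) (by norm_num), Finsupp.add_apply,
    Nat.Prime.factorization_pow Nat.prime_two,
    Nat.factorization_eq_zero_of_not_dvd (by norm_num : ¬ 2 ∣ 21)]
  simp

theorem index_syl7 (P : Sylow 7 G) : (P : Subgroup G).index = 24 := by
  have := (P : Subgroup G).card_mul_index
  rw [card_syl7 h P, h] at this
  omega

theorem index_syl3 (Q : Sylow 3 G) : (Q : Subgroup G).index = 56 := by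
  have := (Q : Subgroup G).card_mul_index
  rw [card_syl3 h Q, h] at this
  omega

theorem index_syl2 (T : Sylow 2 G) : (T : Subgroup G).index = 21 := by
  have := (T : Subgroup G).card_mul_index
  rw [card_syl2 h T, h] at this
  omega

variable [IsSimpleGroup G]

theorem card_sylow7 : Nat.card (Sylow 7 G) = 8 := by
  obtain ⟨P⟩ : Nonempty (Sylow 7 G) := inferInstance
  have hP := card_syl7 h P
  have h1 : Nat.card (Sylow 7 G) ∣ 24 := by
    have := P.card_dvd_index
    rwa [index_syl7 h P] at this
  have h2 := card_sylow_modEq_one 7 G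
  rcases num7 _ h1 h2 with h3 | h3
  · exact absurd h3 (card_sylow_ne_one P (by rw [hP]; norm_num) (by rw [hP, h]; norm_num))
  · exact h3

theorem card_normalizer_syl7 (P : Sylow 7 G) :
    Nat.card (normalizer ((P : Subgroup G) : Set G)) = 21 := by
  have := card_normalizer_mul_card_sylow P
  rw [card_sylow7 h, h] at this
  omega

/-- An element of order 3 generates a Sylow 3-subgroup. -/
theorem exists_sylow3_eq_zpowers (x : G) (hx : orderOf x = 3) :
    ∃ Q : Sylow 3 G, (Q : Subgroup G) = zpowers x := by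
  have hp : IsPGroup 3 (zpowers x) :=
    IsPGroup.of_card (n := 1) (by rw [Nat.card_zpowers, hx]; norm_num)
  obtain ⟨Q, hQ⟩ := hp.exists_le_sylow
  refine ⟨Q, ?_⟩
  symm
  apply Subgroup.eq_of_le_of_card_ge hQ
  rw [card_syl3 h Q, Nat.card_zpowers, hx]

theorem card_sylow3_ne_seven : Nat.card (Sylow 3 G) ≠ 7 := by
  intro h7
  obtain ⟨P⟩ : Nonempty (Sylow 7 G) := inferInstance
  have hP : Nat.card P = 7 := card_syl7 h P
  have hN := card_normalizer_syl7 h P
  obtain ⟨x, hx⟩ := exists_prime_orderOf_dvd_card'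
    (G := ↥(normalizer ((P : Subgroup G) : Set G))) 3 (by rw [hN]; norm_num)
  have hx3 : orderOf (x : G) = 3 := by rw [Subgroup.orderOf_coe]; exact hx
  obtain ⟨Q, hQeq⟩ := exists_sylow3_eq_zpowers h (x : G) hx3
  have hQN : (Q : Subgroup G) ≤ normalizer ((P : Subgroup G) : Set G) := by
    rw [hQeq, zpowers_le]; exact x.2
  have hNQ : ∀ Q' : Sylow 3 G, Nat.card (normalizer ((Q' : Subgroup G) : Set G)) = 24 := by
    intro Q'
    have := card_normalizer_mul_card_sylow Q'
    rw [h7, h] at this
    omega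
  let f : ↥(P : Subgroup G) → Sylow 3 G := fun y => (y : G) • Q
  have hf : Function.Injective f := by
    intro y y' hyy
    have h1 : ((y' : G)⁻¹ * (y : G)) • Q = Q := by
      rw [mul_smul]
      show (y' : G)⁻¹ • f y = Q
      rw [hyy]
      show (y' : G)⁻¹ • (y' : G) • Q = Q
      rw [inv_smul_smul]
    rw [Sylow.smul_eq_iff_mem_normalizer] at h1
    replace h1 : (y' : G)⁻¹ * (y : G) ∈ normalizer ((Q : Subgroup G) : Set G) := h1
    by_contra hne
    have hz1 : (y' : G)⁻¹ * (y : G) ≠ 1 := by
      intro h0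
      apply hne
      ext
      rw [inv_mul_eq_one] at h0
      exact h0.symm
    have hzP : (y' : G)⁻¹ * (y : G) ∈ (P : Subgroup G) := mul_mem (inv_mem y'.2) y.2
    have hz7 : orderOf ((y' : G)⁻¹ * (y : G)) = 7 := by
      have hdvd : orderOf ((y' : G)⁻¹ * (y : G)) ∣ 7 := by
        have := Subgroup.orderOf_dvd_natCard (P : Subgroup G) hzP
        rwa [hP] at this
      rcases (Nat.dvd_prime (by norm_num : Nat.Prime 7)).1 hdvd with h0 | h0
      · exact absurd (orderOf_eq_one_iff.1 h0) hz1
      · exact h0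
    have := Subgroup.orderOf_dvd_natCard _ h1
    rw [hz7, hNQ Q] at this
    omega
  have hbij : Function.Bijective f :=
    (Nat.bijective_iff_injective_and_card f).2 ⟨hf, by rw [hP, h7]⟩
  have hall : ∀ Q' : Sylow 3 G, (Q' : Subgroup G) ≤ normalizer ((P : Subgroup G) : Set G) := by
    intro Q'
    obtain ⟨y, rfl⟩ := hbij.2 Q'
    exact Sylow.smul_le hQN (⟨(y : G), le_normalizer y.2⟩ : normalizer ((P : Subgroup G) : Set G))
  have hncl : normalClosure ((Q : Subgroup G) : Set G) ≤
      normalizer ((P : Subgroup G) : Set G) := by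
    rw [normalClosure, closure_le]
    intro z hz
    rw [Group.mem_conjugatesOfSet_iff] at hz
    obtain ⟨a, ha, haz⟩ := hz
    rw [isConj_iff] at haz
    obtain ⟨c, rfl⟩ := haz
    apply hall (c • Q)
    rw [Sylow.coe_subgroup_smul]
    have := Subgroup.smul_mem_pointwise_smul a (MulAut.conj c) (Q : Subgroup G) ha
    simpa [MulAut.smul_def] using this
  rcases (normalClosure_normal (s := ((Q : Subgroup G) : Set G))).eq_bot_or_eq_top with hb | ht
  · have hle : (Q : Subgroup G) ≤ normalClosure ((Q : Subgroup G) : Set G) := le_normalClosure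
    rw [hb, le_bot_iff] at hle
    have := card_syl3 h Q
    rw [hle, Subgroup.card_bot] at this
    omega
  · rw [ht, top_le_iff] at hncl
    rw [hncl, Subgroup.card_top, h] at hN
    omega

theorem card_sylow3 : Nat.card (Sylow 3 G) = 28 := by
  obtain ⟨Q⟩ : Nonempty (Sylow 3 G) := inferInstance
  have hQ := card_syl3 h Q
  have h1 : Nat.card (Sylow 3 G) ∣ 56 := by
    have := Q.card_dvd_index
    rwa [index_syl3 h Q] at this
  have h2 := card_sylow_modEq_one 3 G
  rcases num3 _ h1 h2 with h3 | h3 | h3 | h3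
  · exact absurd h3 (card_sylow_ne_one Q (by rw [hQ]; norm_num) (by rw [hQ, h]; norm_num))
  · exfalso
    have hidx : Nat.card (Sylow 3 G) = (normalizer ((Q : Subgroup G) : Set G)).index :=
      Sylow.card_eq_index_normalizer Q
    rw [h3] at hidx
    have hne : normalizer ((Q : Subgroup G) : Set G) ≠ ⊤ := by
      intro ht
      rw [ht, Subgroup.index_top] at hidx
      omega
    have := card_dvd_factorial_index _ hne
    rw [← hidx, h] at this
    revert this
    decide
  · exact absurd h3 (card_sylow3_ne_seven h)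
  · exact h3

theorem card_normalizer_syl3 (Q : Sylow 3 G) :
    Nat.card (normalizer ((Q : Subgroup G) : Set G)) = 6 := by
  have := card_normalizer_mul_card_sylow Q
  rw [card_sylow3 h, h] at this
  omega

/-- The centralizer of a Sylow 3-subgroup has odd order. -/
theorem not_two_dvd_card_centralizer_syl3 (Q : Sylow 3 G) :
    ¬ 2 ∣ Nat.card (centralizer ((Q : Subgroup G) : Set G)) := by
  intro h2
  have hQ := card_syl3 h Q
  have hN := card_normalizer_syl3 h Q
  have hle : centralizer ((Q : Subgroup G) : Set G) ≤ normalizer ((Q : Subgroup G) : Set G) :=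
    centralizer_le_normalizer _
  have hQc : (Q : Subgroup G) ≤ centralizer ((Q : Subgroup G) : Set G) := by
    haveI : Fact (Nat.Prime (Nat.card (Q : Subgroup G))) := ⟨by rw [hQ]; norm_num⟩
    haveI : IsCyclic (Q : Subgroup G) := isCyclic_of_prime_card rfl
    haveI : IsMulCommutative (Q : Subgroup G) := IsCyclic.commutative
    intro a ha b hb
    exact setLike_mul_comm (s := (Q : Subgroup G)) hb ha
  have h3 : 3 ∣ Nat.card (centralizer ((Q : Subgroup G) : Set G)) := by
    have := Subgroup.card_dvd_of_le hQc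
    rwa [hQ] at this
  have h6 : 6 ∣ Nat.card (centralizer ((Q : Subgroup G) : Set G)) :=
    Nat.Coprime.mul_dvd_of_dvd_of_dvd (by norm_num : Nat.Coprime 2 3) h2 h3
  have hd : Nat.card (centralizer ((Q : Subgroup G) : Set G)) ∣ 6 := by
    have := Subgroup.card_dvd_of_le hle
    rwa [hN] at this
  have heq : centralizer ((Q : Subgroup G) : Set G) = normalizer ((Q : Subgroup G) : Set G) := by
    apply Subgroup.eq_of_le_of_card_ge hle
    rw [hN]
    exact Nat.le_of_dvd Nat.card_pos h6
  exact not_normalizer_le_centralizer Q (by rw [hQ]; norm_num) (by rw [hQ, h]; norm_num)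
    heq.ge

theorem card_sylow2_ne_seven : Nat.card (Sylow 2 G) ≠ 7 := by
  intro h7
  obtain ⟨T⟩ : Nonempty (Sylow 2 G) := inferInstance
  have hT : Nat.card T = 8 := card_syl2 h T
  have hN : Nat.card (normalizer ((T : Subgroup G) : Set G)) = 24 := by
    have := card_normalizer_mul_card_sylow T
    rw [h7, h] at this
    omega
  obtain ⟨x, hx⟩ := exists_prime_orderOf_dvd_card'
    (G := ↥(normalizer ((T : Subgroup G) : Set G))) 3 (by rw [hN]; norm_num)
  have hx3 : orderOf (x : G) = 3 := by rw [Subgroup.orderOf_coe]; exact hx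
  have hxxx : (x : G) * (x : G) * (x : G) = 1 := by
    have := pow_orderOf_eq_one (x : G)
    rw [hx3, pow_succ, pow_succ, pow_one] at this
    exact this
  have hxT : ∀ t : G, t ∈ (T : Subgroup G) → (x : G) * t * (x : G)⁻¹ ∈ (T : Subgroup G) :=
    fun t ht => (mem_normalizer_iff.1 x.2 t).1 ht
  classical
  haveI : Fintype ↥(T : Subgroup G) := Fintype.ofFinite _
  let f : Function.End ↥(T : Subgroup G) := fun t => ⟨(x : G) * t * (x : G)⁻¹, hxT t t.2⟩
  have hf : f ^ 3 ^ 1 = 1 := by
    rw [pow_one, pow_succ, pow_succ, pow_one]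
    funext t
    apply Subtype.ext
    show (x : G) * ((x : G) * ((x : G) * (t : G) * (x : G)⁻¹) * (x : G)⁻¹) * (x : G)⁻¹ = t
    calc (x : G) * ((x : G) * ((x : G) * (t : G) * (x : G)⁻¹) * (x : G)⁻¹) * (x : G)⁻¹
        = ((x : G) * (x : G) * (x : G)) * t * ((x : G) * (x : G) * (x : G))⁻¹ := by group
      _ = t := by rw [hxxx]; group
  have hmod := Equiv.Perm.card_fixedPoints_modEq (p := 3) (n := 1) hf
  have hcardT : Fintype.card ↥(T : Subgroup G) = 8 := by
    rw [← Nat.card_eq_fintype_card]; exact hT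
  rw [hcardT] at hmod
  have h1F : (1 : ↥(T : Subgroup G)) ∈ Function.fixedPoints f := by
    show f 1 = 1
    apply Subtype.ext
    show (x : G) * ((1 : ↥(T : Subgroup G)) : G) * (x : G)⁻¹ = 1
    simp
  have hex : ∃ t ∈ Function.fixedPoints f, t ≠ 1 := by
    by_contra hcon
    push Not at hcon
    have : Fintype.card (Function.fixedPoints f) = 1 :=
      Fintype.card_eq_one_iff.2 ⟨⟨1, h1F⟩, fun y => Subtype.ext (hcon y y.2)⟩
    rw [this] at hmod
    unfold Nat.ModEq at hmod
    omega
  obtain ⟨t, htF, ht1⟩ := hex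
  have htx : (x : G) * (t : G) * (x : G)⁻¹ = t := congrArg Subtype.val htF
  have hcomm : (x : G) * (t : G) = (t : G) * (x : G) := by
    calc (x : G) * (t : G) = ((x : G) * (t : G) * (x : G)⁻¹) * (x : G) := by group
      _ = (t : G) * (x : G) := by rw [htx]
  obtain ⟨Q, hQeq⟩ := exists_sylow3_eq_zpowers h (x : G) hx3
  apply not_two_dvd_card_centralizer_syl3 h Q
  have htC : (t : G) ∈ centralizer ((Q : Subgroup G) : Set G) := by
    rw [hQeq, mem_centralizer_iff]
    intro g hg
    obtain ⟨k, rfl⟩ := mem_zpowers_iff.1 hg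
    exact (Commute.zpow_left (show Commute (x : G) (t : G) from hcomm) k).eq
  have ho : orderOf (t : G) ∣ 2 ^ 3 := by
    have := Subgroup.orderOf_dvd_natCard (T : Subgroup G) t.2
    rwa [hT] at this
  obtain ⟨m, hm, hmo⟩ := (Nat.dvd_prime_pow Nat.prime_two).1 ho
  have hm0 : m ≠ 0 := by
    rintro rfl
    rw [pow_zero, orderOf_eq_one_iff] at hmo
    exact ht1 (Subtype.ext hmo)
  have h2o : 2 ∣ orderOf (t : G) := by
    rw [hmo]; exact dvd_pow_self 2 hm0
  exact h2o.trans (Subgroup.orderOf_dvd_natCard _ htC)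

theorem card_sylow2 : Nat.card (Sylow 2 G) = 21 := by
  obtain ⟨T⟩ : Nonempty (Sylow 2 G) := inferInstance
  have hT := card_syl2 h T
  have h1 : Nat.card (Sylow 2 G) ∣ 21 := by
    have := T.card_dvd_index
    rwa [index_syl2 h T] at this
  have h2 := card_sylow_modEq_one 2 G
  rcases num2 _ h1 h2 with h3 | h3 | h3 | h3
  · exact absurd h3 (card_sylow_ne_one T (by rw [hT]; norm_num) (by rw [hT, h]; norm_num))
  · exfalso
    have hidx : Nat.card (Sylow 2 G) = (normalizer ((T : Subgroup G) : Set G)).index :=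
      Sylow.card_eq_index_normalizer T
    rw [h3] at hidx
    have hne : normalizer ((T : Subgroup G) : Set G) ≠ ⊤ := by
      intro ht
      rw [ht, Subgroup.index_top] at hidx
      omega
    have := card_dvd_factorial_index _ hne
    rw [← hidx, h] at this
    revert this
    decide
  · exact absurd h3 (card_sylow2_ne_seven h)
  · exact h3

end

end Cfsg.Agent.Helper4.Ord168
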