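import Mathlib
import Cfsg.Agent.Helper4.L2pPerm
import Cfsg.Agent.Helper4.Ord168A

set_option autoImplicit false

/-!
A simple group of order `p (p² - 1) / 2` with `p + 1` Sylow `p`-subgroups, `p ≡ 3 (mod 4)` and `(p - 1) / 2` a
prime power, embeds in the symmetric group of the projective line over `ZMod p` with a fixed image.
-/

namespace Cfsg.Agent.Helper4.L2p

open Subgroup Cfsg.Agent.Helper2.SmallOrder Cfsg.Agent.Helper2.SylowExact

/-- Numerical data for the recognition argument. -/
structure Params (p m : ℕ) [Fact p.Prime] (k c₀ : ZMod p) (r er : ℕ) : Prop where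
  hm : p = 2 * m + 1
  hmodd : Odd m
  hk0 : k ≠ 0
  hk1 : k ≠ 1
  hkord : orderOf k = m
  hroots : ∀ s : ZMod p, s ^ m = 1 → ∃ e : ℕ, e < m ∧ s = k ^ e
  hcardroots : Fintype.card {s : ZMod p // s ^ m = 1} = m
  hjj : ∀ j : ℕ, j < m → k ^ (j * j) = k → k ^ j = k ∨ k ^ j * k = 1
  hc₀ : c₀ ≠ 0
  hr : r.Prime
  hmr : m = r ^ er
  hrp : ¬ r ∣ p * (p + 1)
  hclass : ClassHyp p m k c₀

variable {G : Type*} [Group G]

theorem exists_pow_eq_of_mem_zpowers' [Finite G] (a x : G) (hx : x ∈ zpowers a) :
    ∃ n : ℕ, n < orderOf a ∧ a ^ n = x := by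
  rw [← mem_powers_iff_mem_zpowers] at hx
  obtain ⟨n, rfl⟩ := (Submonoid.mem_powers_iff _ _).1 hx
  exact ⟨n % orderOf a, Nat.mod_lt _ (orderOf_pos a), pow_mod_orderOf a n⟩

theorem sylow_coe_smul {q : ℕ} (g : G) (P : Sylow q G) :
    ((g • P : Sylow q G) : Subgroup G) = (P : Subgroup G).map (MulAut.conj g).toMonoidHom := rfl

/-- Data produced by the first half of the argument: a labelling of the Sylow `p`-subgroups by the
projective line for which a Sylow normalizer acts by affine maps. -/
structure Labelled (p m : ℕ) [Fact p.Prime] (k : ZMod p) (G : Type*) [Group G] where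
  /-- the permutation representation -/
  φ : G →* Equiv.Perm (Pt p)
  /-- translation -/
  a : G
  /-- multiplication by `k` -/
  b : G
  inj : Function.Injective φ
  φa : φ a = aff 1 1
  φb : φ b = aff k 0
  aff_of_fix : ∀ g : G, φ g none = none → ∃ s c : ZMod p, s ≠ 0 ∧ s ^ m = 1 ∧ φ g = aff s c
  trans : ∀ x : Pt p, ∃ g : G, φ g none = x
  pow_stab : ∀ (x : Pt p) (g : G), φ g x = x → g ^ (p * m) = 1

variable [Finite G] [IsSimpleGroup G] {p m : ℕ} [hp : Fact p.Prime] {k c₀ : ZMod p} {r er : ℕ}

theorem exists_labelled' (hm : p = 2 * m + 1) (hmpos : 0 < m) (hkord : orderOf k = m)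
    (hcardroots : Fintype.card {s : ZMod p // s ^ m = 1} = m)
    (hcard : Nat.card G = p * m * (p + 1))
    (hsyl : Nat.card (Sylow p G) = p + 1) : Nonempty (Labelled p m k G) := by
  classical
  have hp2 : 2 ≤ p := hp.out.two_le
  -- an element of order p and its Sylow subgroup
  obtain ⟨a, ha⟩ := exists_prime_orderOf_dvd_card' (G := G) p (by rw [hcard, mul_assoc]; exact dvd_mul_right _ _)
  have hndvd : ¬ p ∣ m * (p + 1) := by
    intro h
    rcases (Nat.Prime.dvd_mul hp.out).1 h with h1 | h1
    · have := Nat.le_of_dvd hmpos h1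
      omega
    · have h2 : p ∣ 1 := (Nat.dvd_add_right (dvd_refl p)).1 h1
      have := Nat.le_of_dvd one_pos h2
      omega
  have hsylcard : ∀ P' : Sylow p G, Nat.card (P' : Subgroup G) = p := fun P' =>
    card_sylow_of_exact (s := p) (m := m * (p + 1)) (by rw [hcard, mul_assoc]) hndvd P'
  have hpg : IsPGroup p (zpowers a) :=
    IsPGroup.of_card (n := 1) (by rw [Nat.card_zpowers, ha, pow_one])
  obtain ⟨P, hPle⟩ := hpg.exists_le_sylow
  have hP : (P : Subgroup G) = zpowers a := by
    symm
    apply Subgroup.eq_of_le_of_card_ge hPle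
    rw [hsylcard P, Nat.card_zpowers, ha]
  have hN : ∀ P' : Sylow p G, Nat.card (normalizer ((P' : Subgroup G) : Set G)) = p * m := by
    intro P'
    have h1 := card_normalizer_mul_card_sylow P'
    rw [hsyl, hcard] at h1
    exact Nat.eq_of_mul_eq_mul_right (Nat.succ_pos p) h1
  have haP : a ∈ (P : Subgroup G) := by rw [hP]; exact mem_zpowers a
  have smul_eq_of_le : ∀ (g : G) (P1 P2 : Sylow p G),
      ((g • P1 : Sylow p G) : Subgroup G) ≤ (P2 : Subgroup G) → g • P1 = P2 := by
    intro g P1 P2 hle
    apply Sylow.ext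
    apply Subgroup.eq_of_le_of_card_ge hle
    rw [hsylcard P2, hsylcard (g • P1)]
  have hPfix : ∀ x ∈ (P : Subgroup G), x • P = P := by
    intro x hx
    have hxN : x ∈ normalizer ((P : Subgroup G) : Set G) := le_normalizer hx
    exact Sylow.smul_eq_iff_mem_normalizer.2 hxN
  have hfixP : ∀ x ∈ (P : Subgroup G), x ≠ 1 → ∀ P' : Sylow p G, x • P' = P' → P' = P := by
    intro x hx hx1 P' hfix
    have hxo : orderOf x = p := by
      have hd := Subgroup.orderOf_dvd_natCard _ hx
      rw [hsylcard P] at hd
      rcases (Nat.Prime.eq_one_or_self_of_dvd hp.out _ hd) with h1 | h7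
      · exact absurd (orderOf_eq_one_iff.1 h1) hx1
      · exact h7
    have hzx : zpowers x = (P : Subgroup G) :=
      Subgroup.eq_of_le_of_card_ge (zpowers_le.2 hx)
        (by rw [hsylcard P, Nat.card_zpowers, hxo])
    have hpg' : IsPGroup p (zpowers x) := by rw [hzx]; exact P.isPGroup'
    have hmem : P' ∈ MulAction.fixedPoints (zpowers x) (Sylow p G) := by
      rintro ⟨y, hy⟩
      show y • P' = P'
      have hxN : x ∈ normalizer ((P' : Subgroup G) : Set G) :=
        Sylow.smul_eq_iff_mem_normalizer.1 hfix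
      have hyN : y ∈ normalizer ((P' : Subgroup G) : Set G) := (zpowers_le.2 hxN) hy
      exact Sylow.smul_eq_iff_mem_normalizer.2 hyN
    have hle := hpg'.sylow_mem_fixedPoints_iff.1 hmem
    rw [hzx] at hle
    symm
    apply Sylow.ext
    exact Subgroup.eq_of_le_of_card_ge hle (by rw [hsylcard P', hsylcard P])
  -- powers of a indexed by ZMod p
  set pw : ZMod p → G := fun i => a ^ i.val with hpw
  have pw_add : ∀ i j : ZMod p, pw (i + j) = pw i * pw j := by
    intro i j
    show a ^ (i + j).val = a ^ i.val * a ^ j.val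
    have := pow_mod_orderOf a (i.val + j.val)
    rw [ha] at this
    rw [ZMod.val_add, this, pow_add]
  have pw_mem : ∀ i, pw i ∈ (P : Subgroup G) := fun i => pow_mem haP _
  have pw_zero : pw 0 = 1 := by
    show a ^ (0 : ZMod p).val = 1
    rw [ZMod.val_zero, pow_zero]
  have pw_one : pw 1 = a := by
    show a ^ (1 : ZMod p).val = a
    have : (1 : ZMod p).val = 1 := by
      haveI : Fact (1 < p) := ⟨by omega⟩
      exact ZMod.val_one p
    rw [this, pow_one]
  have pw_ne_one : ∀ i, i ≠ 0 → pw i ≠ 1 := by
    intro i hi h1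
    have hd := orderOf_dvd_of_pow_eq_one h1
    rw [ha] at hd
    have hlt := ZMod.val_lt i
    have h0 : i.val = 0 := Nat.eq_zero_of_dvd_of_lt hd hlt
    exact hi ((ZMod.val_eq_zero i).1 h0)
  -- a second Sylow subgroup and the labelling
  obtain ⟨P1, hP1⟩ : ∃ P1 : Sylow p G, P1 ≠ P := by
    haveI : Nontrivial (Sylow p G) := by
      rw [← Finite.one_lt_card_iff_nontrivial, hsyl]
      omega
    exact exists_ne P
  set e : Pt p → Sylow p G := fun x => x.elim P (fun i => pw i • P1) with he
  have e_some_ne : ∀ i, pw i • P1 ≠ P := by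
    intro i hi
    apply hP1
    have h1 : (pw i)⁻¹ • P = P := hPfix _ (inv_mem (pw_mem i))
    rw [← h1, ← hi, inv_smul_smul]
  have e_inj : Function.Injective e := by
    intro x y hxy
    cases x with
    | none =>
      cases y with
      | none => rfl
      | some j => exact absurd hxy.symm (e_some_ne j)
    | some i =>
      cases y with
      | none => exact absurd hxy (e_some_ne i)
      | some j =>
        by_contra hne
        have hij : i - j ≠ 0 := fun h0 => hne (by rw [sub_eq_zero.1 h0])
        have h1 : pw i = pw (i - j) * pw j := by rw [← pw_add, sub_add_cancel]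
        have hxy' : pw i • P1 = pw j • P1 := hxy
        have h2 : pw (i - j) • (pw j • P1) = pw j • P1 := by rw [← mul_smul, ← h1, hxy']
        exact e_some_ne j (hfixP _ (pw_mem _) (pw_ne_one _ hij) _ h2)
  have e_bij : Function.Bijective e :=
    e_inj.bijective_of_nat_card_le (by rw [hsyl, card_Pt])
  set E : Pt p ≃ Sylow p G := Equiv.ofBijective e e_bij with hE
  set φ : G →* Equiv.Perm (Pt p) :=
    (E.symm.permCongrHom.toMonoidHom).comp (MulAction.toPermHom G (Sylow p G)) with hφdef
  have hφ : ∀ g x, E (φ g x) = g • E x := by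
    intro g x
    show E (E.symm (g • E x)) = g • E x
    exact E.apply_symm_apply _
  have hφ' : ∀ g x y, g • E x = E y → φ g x = y :=
    fun g x y hxy => E.injective ((hφ g x).trans hxy)
  have E_none : E none = P := rfl
  have E_some : ∀ i, E (some i) = pw i • P1 := fun i => rfl
  have φpw : ∀ c : ZMod p, φ (pw c) = aff 1 c := by
    intro c
    apply Equiv.ext
    intro x
    apply hφ'
    cases x with
    | none =>
      rw [aff_none, E_none]
      exact hPfix _ (pw_mem c)
    | some i =>
      rw [aff_some one_ne_zero, one_mul, add_comm, E_some, E_some, pw_add, mul_smul]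
  have φa : φ a = aff 1 1 := by rw [← pw_one]; exact φpw 1
  have hinj : Function.Injective φ := by
    rw [← MonoidHom.ker_eq_bot_iff]
    rcases (MonoidHom.normal_ker φ).eq_bot_or_eq_top with hk | hk
    · exact hk
    · exfalso
      have hak : a ∈ φ.ker := by rw [hk]; exact mem_top a
      rw [MonoidHom.mem_ker, φa] at hak
      exact aff_one_one_ne_one hak
  -- elements of the normalizer act by affine maps
  have haff : ∀ g : G, g • P = P → ∃ s c : ZMod p, s ≠ 0 ∧ s ^ m = 1 ∧ φ g = aff s c := by
    intro g hg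
    have hgN : g ∈ normalizer ((P : Subgroup G) : Set G) := Sylow.smul_eq_iff_mem_normalizer.1 hg
    have hmem : g * a * g⁻¹ ∈ zpowers a := by
      rw [← hP]
      exact (mem_normalizer_iff.1 hgN a).1 haP
    obtain ⟨n, hn, han⟩ := exists_pow_eq_of_mem_zpowers' a _ hmem
    rw [ha] at hn
    have hconj : ∀ x : ZMod p, g * pw x * g⁻¹ = pw ((n : ZMod p) * x) := by
      intro x
      show g * a ^ x.val * g⁻¹ = a ^ ((n : ZMod p) * x).val
      rw [← conj_pow, ← han, ← pow_mul, ZMod.val_mul, ZMod.val_natCast_of_lt hn]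
      have := pow_mod_orderOf a (n * x.val)
      rw [ha] at this
      rw [this]
    have hn0 : (n : ZMod p) ≠ 0 := by
      intro h0
      have h1 := hconj 1
      rw [h0, zero_mul, pw_zero, pw_one] at h1
      have h2 : a = 1 := conj_eq_one_iff.1 h1
      rw [h2, orderOf_one] at ha
      omega
    have hg0 : φ g none = none := by
      apply hφ'
      rw [E_none]
      exact hg
    obtain ⟨c, hc⟩ : ∃ c : ZMod p, φ g (some 0) = some c := by
      cases hx : φ g (some 0) with
      | none =>
        exfalso
        have := (φ g).injective (hx.trans hg0.symm)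
        exact absurd this (by simp)
      | some c => exact ⟨c, rfl⟩
    have hgP1 : g • P1 = pw c • P1 := by
      have h1 := hφ g (some 0)
      rw [hc, E_some, E_some, pw_zero, one_smul] at h1
      exact h1.symm
    have hφg : φ g = aff (n : ZMod p) c := by
      apply Equiv.ext
      intro x
      apply hφ'
      cases x with
      | none =>
        rw [aff_none, E_none]
        exact hg
      | some i =>
        rw [aff_some hn0, E_some, E_some, pw_add, mul_smul, ← hgP1, ← mul_smul, ← mul_smul, ← hconj,
          inv_mul_cancel_right]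
    refine ⟨(n : ZMod p), c, hn0, ?_, hφg⟩
    have hgpow : g ^ (p * m) = 1 := by
      have h1 : (⟨g, hgN⟩ : normalizer ((P : Subgroup G) : Set G)) ^ (p * m) = 1 := by
        rw [← hN P]
        exact pow_card_eq_one'
      exact congrArg Subtype.val h1
    obtain ⟨c', hc'⟩ := aff_pow hn0 c (p * m)
    have h2 : aff ((n : ZMod p) ^ (p * m)) c' = aff 1 0 := by
      rw [← hc', ← hφg, ← map_pow, hgpow, map_one, aff_one_zero]
    have h3 := (aff_inj (pow_ne_zero _ hn0) one_ne_zero h2).1
    rw [pow_mul, ZMod.pow_card] at h3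
    exact h3
  -- counting gives an element acting as multiplication by k
  have hb : ∃ b : G, b • P = P ∧ φ b = aff k 0 := by
    let Nsub := normalizer ((P : Subgroup G) : Set G)
    have hch : ∀ g : Nsub, ∃ q : {q : ZMod p × ZMod p // q.1 ^ m = 1},
        q.1.1 ≠ 0 ∧ φ (g : G) = aff q.1.1 q.1.2 := by
      intro g
      have hg : (g : G) • P = P := Sylow.smul_eq_iff_mem_normalizer.2 g.2
      obtain ⟨s, c, hs, hsm, hsc⟩ := haff g hg
      exact ⟨⟨(s, c), hsm⟩, hs, hsc⟩
    choose f hf0 hf using hch
    have f_inj : Function.Injective f := by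
      intro g g' hgg
      apply Subtype.ext
      apply hinj
      rw [hf g, hf g', hgg]
    have hcardcod : Nat.card {q : ZMod p × ZMod p // q.1 ^ m = 1} = p * m := by
      rw [Nat.card_congr (Equiv.prodSubtypeFstEquivSubtypeProd (p := fun s : ZMod p => s ^ m = 1)),
        Nat.card_prod, Nat.card_eq_fintype_card, hcardroots, Nat.card_eq_fintype_card, ZMod.card,
        mul_comm]
    have f_bij : Function.Bijective f :=
      f_inj.bijective_of_nat_card_le (by rw [hcardcod, hN P])
    have hkm : k ^ m = 1 := by rw [← hkord]; exact pow_orderOf_eq_one k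
    obtain ⟨g, hg⟩ := f_bij.2 ⟨(k, 0), hkm⟩
    refine ⟨(g : G), Sylow.smul_eq_iff_mem_normalizer.2 g.2, ?_⟩
    rw [hf g, hg]
  obtain ⟨b, hbP, φb⟩ := hb
  have haff' : ∀ g : G, φ g none = none → ∃ s c : ZMod p, s ≠ 0 ∧ s ^ m = 1 ∧ φ g = aff s c := by
    intro g hg
    apply haff
    have h1 := hφ g none
    rw [hg] at h1
    exact h1.symm
  have htrans : ∀ x : Pt p, ∃ g : G, φ g none = x := by
    intro x
    obtain ⟨g, hg⟩ := MulAction.exists_smul_eq G P (E x)
    exact ⟨g, hφ' g none x hg⟩
  have hcs : ∀ (x : Pt p) (g : G), φ g x = x → g ^ (p * m) = 1 := by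
    intro x g hgx
    have h1 : g • E x = E x := by
      have h2 := hφ g x
      rw [hgx] at h2
      exact h2.symm
    have hgN : g ∈ normalizer (((E x : Sylow p G) : Subgroup G) : Set G) :=
      Sylow.smul_eq_iff_mem_normalizer.1 h1
    have h3 : (⟨g, hgN⟩ : normalizer (((E x : Sylow p G) : Subgroup G) : Set G)) ^ (p * m) = 1 := by
      rw [← hN (E x)]
      exact pow_card_eq_one'
    exact congrArg Subtype.val h3
  exact ⟨⟨φ, a, b, hinj, φa, φb, haff', htrans, hcs⟩⟩

theorem exists_labelled (hpar : Params p m k c₀ r er) (hcard : Nat.card G = p * m * (p + 1))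
    (hsyl : Nat.card (Sylow p G) = p + 1) : Nonempty (Labelled p m k G) :=
  exists_labelled' hpar.hm hpar.hmodd.pos hpar.hkord hpar.hcardroots hcard hsyl

theorem aff_one_pow (n : ℕ) : (aff (1 : ZMod p) 1) ^ n = aff 1 (n : ZMod p) := by
  induction n with
  | zero => rw [pow_zero, Nat.cast_zero, aff_one_zero]
  | succ n ih =>
    rw [pow_succ, ih, aff_mul one_ne_zero one_ne_zero, one_mul, Nat.cast_succ, add_comm]

/-- The second half: the image of the permutation representation is the model group. -/
theorem range_eq_H0 (hpar : Params p m k c₀ r er) (hcard : Nat.card G = p * m * (p + 1))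
    (L : Labelled p m k G) : L.φ.range = H0 p k c₀ := by
  classical
  obtain ⟨φ, a, b, hinj, φa, φb, haff, htrans, hps⟩ := L
  show φ.range = H0 p k c₀
  have hp2 : 2 ≤ p := hp.out.two_le
  have hmpos : 0 < m := hpar.hmodd.pos
  have hm := hpar.hm
  have hk0 := hpar.hk0
  have hkm : k ^ m = 1 := by rw [← hpar.hkord]; exact pow_orderOf_eq_one k
  have φapow : ∀ c : ZMod p, φ (a ^ c.val) = aff 1 c := by
    intro c
    rw [map_pow, φa, aff_one_pow, ZMod.natCast_zmod_val]
  have φbpow : ∀ n : ℕ, φ (b ^ n) = aff (k ^ n) 0 := by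
    intro n
    rw [map_pow, φb, aff_pow_zero hk0]
  have hbm : b ^ m = 1 := by
    apply hinj
    rw [φbpow, hkm, aff_one_zero, map_one]
  have hbpow_none : ∀ n : ℕ, φ (b ^ n) none = none := fun n => by rw [φbpow, aff_none]
  have hbpow_zero : ∀ n : ℕ, φ (b ^ n) (some 0) = some 0 := fun n => by
    rw [φbpow, aff_some (pow_ne_zero n hk0), mul_zero, add_zero]
  -- two-point stabilizer
  have TPS : ∀ g : G, φ g none = none → φ g (some 0) = some 0 → ∃ e : ℕ, g = b ^ e := by
    intro g h1 h2
    obtain ⟨s, c, hs, hsm, hsc⟩ := haff g h1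
    rw [hsc, aff_some hs, mul_zero, zero_add] at h2
    have hc : c = 0 := Option.some.inj h2
    obtain ⟨e, -, rfl⟩ := hpar.hroots s hsm
    refine ⟨e, hinj ?_⟩
    rw [hsc, hc, φbpow]
  -- an element exchanging the two base points
  obtain ⟨g₁, hg₁⟩ := htrans (some 0)
  obtain ⟨x', hx'⟩ : ∃ x' : ZMod p, φ g₁ (some x') = none := by
    obtain ⟨w, hw⟩ := (φ g₁).surjective none
    cases w with
    | none =>
      rw [hg₁] at hw
      exact absurd hw (by simp)
    | some x' => exact ⟨x', hw⟩
  set g : G := g₁ * a ^ x'.val with hg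
  have hg_none : φ g none = some 0 := by
    rw [hg, map_mul, Equiv.Perm.mul_apply, φapow, aff_none, hg₁]
  have hg_zero : φ g (some 0) = none := by
    rw [hg, map_mul, Equiv.Perm.mul_apply, φapow, aff_some one_ne_zero, mul_zero, zero_add, hx']
  have hginv_none : φ g⁻¹ none = some 0 := by
    rw [map_inv, Equiv.Perm.inv_eq_iff_eq]
    exact hg_zero.symm
  have hginv_zero : φ g⁻¹ (some 0) = none := by
    rw [map_inv, Equiv.Perm.inv_eq_iff_eq]
    exact hg_none.symm
  obtain ⟨e₂, he₂⟩ : ∃ e₂ : ℕ, g * g = b ^ e₂ := by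
    apply TPS
    · rw [map_mul, Equiv.Perm.mul_apply, hg_none, hg_zero]
    · rw [map_mul, Equiv.Perm.mul_apply, hg_zero, hg_none]
  obtain ⟨j, hj⟩ : ∃ j : ℕ, g * b * g⁻¹ = b ^ j := by
    apply TPS
    · rw [map_mul, map_mul, Equiv.Perm.mul_apply, Equiv.Perm.mul_apply, hginv_none, φb,
        aff_some hk0, mul_zero, add_zero, hg_zero]
    · rw [map_mul, map_mul, Equiv.Perm.mul_apply, Equiv.Perm.mul_apply, hginv_zero, φb,
        aff_none, hg_none]
  obtain ⟨m', hm'⟩ := hpar.hmodd
  set t : G := b ^ (e₂ * m') * g with ht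
  have hgm : g ^ m = t := by
    rw [hm', pow_succ, pow_mul, pow_two, he₂, ← pow_mul]
  have htt : t * t = 1 := by
    rw [← hgm, ← pow_add, ← two_mul, pow_mul, pow_two, he₂, ← pow_mul, mul_comm e₂ m, pow_mul, hbm,
      one_pow]
  have ht_none : φ t none = some 0 := by
    rw [ht, map_mul, Equiv.Perm.mul_apply, hg_none, hbpow_zero]
  have ht_zero : φ t (some 0) = none := by
    rw [ht, map_mul, Equiv.Perm.mul_apply, hg_zero, hbpow_none]
  have htinv : t⁻¹ = t := inv_eq_of_mul_eq_one_left htt
  have htb : t * b * t⁻¹ = b ^ (j % m) := by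
    rw [← pow_eq_pow_mod j hbm, ← hj, ht, mul_inv_rev]
    have hc1 : Commute (b ^ (e₂ * m')) (g * b * g⁻¹) := by
      rw [hj]
      exact (Commute.refl b).pow_pow _ _
    calc b ^ (e₂ * m') * g * b * (g⁻¹ * (b ^ (e₂ * m'))⁻¹)
        = b ^ (e₂ * m') * (g * b * g⁻¹) * (b ^ (e₂ * m'))⁻¹ := by group
      _ = g * b * g⁻¹ := by rw [hc1.eq, mul_inv_cancel_right]
  have hJ : j % m < m := Nat.mod_lt _ hmpos
  set J := j % m with hJdef
  have hbJJ : b = b ^ (J * J) := by
    have h1 : t * (t * b * t⁻¹) * t⁻¹ = b := by
      rw [htinv]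
      calc t * (t * b * t) * t = (t * t) * b * (t * t) := by group
        _ = b := by rw [htt, one_mul, mul_one]
    rw [htb, ← conj_pow, htb, ← pow_mul] at h1
    exact h1.symm
  have hkJJ : k ^ (J * J) = k := by
    have h1 := congrArg φ hbJJ
    rw [φbpow, φb] at h1
    exact ((aff_inj hk0 (pow_ne_zero _ hk0) h1).1).symm
  have hfixB : ∀ x : Pt p, φ b x = x → x = none ∨ x = some 0 := by
    intro x hx
    cases x with
    | none => left; rfl
    | some y =>
      right
      rw [φb, aff_some hk0, add_zero] at hx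
      have h1 : k * y = y := Option.some.inj hx
      have h2 : (k - 1) * y = 0 := by rw [sub_mul, one_mul, h1, sub_self]
      rcases mul_eq_zero.1 h2 with h3 | h3
      · exact absurd (sub_eq_zero.1 h3) hpar.hk1
      · rw [h3]
  -- t inverts b
  have htb' : t * b * t⁻¹ = b⁻¹ := by
    rcases hpar.hjj J hJ hkJJ with hcase | hcase
    · exfalso
      have hcomm : t * b * t⁻¹ = b := by
        apply hinj
        rw [htb, φbpow, hcase, φb]
      have hcomm' : Commute t b := by
        have h1 : t * b = b * t := by
          calc t * b = t * b * t⁻¹ * t := by group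
            _ = b * t := by rw [hcomm]
        exact h1
      -- the order of b
      have hbord : orderOf b = m := by
        rw [← hpar.hkord]
        rw [orderOf_eq_orderOf_iff]
        intro n
        constructor
        · intro h1
          have h2 := congrArg φ h1
          rw [φbpow, map_one, ← aff_one_zero] at h2
          exact (aff_inj (pow_ne_zero _ hk0) one_ne_zero h2).1
        · intro h1
          apply hinj
          rw [φbpow, h1, aff_one_zero, map_one]
      haveI : Fact r.Prime := ⟨hpar.hr⟩
      have hpg : IsPGroup r (zpowers b) :=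
        IsPGroup.of_card (n := er) (by rw [Nat.card_zpowers, hbord, hpar.hmr])
      obtain ⟨R, hRle⟩ := hpg.exists_le_sylow
      have hRcard : Nat.card (R : Subgroup G) = m := by
        rw [Sylow.card_eq_multiplicity, hcard]
        have hpp : p * (p + 1) ≠ 0 := by positivity
        have e1 : p * m * (p + 1) = r ^ er * (p * (p + 1)) := by rw [hpar.hmr]; ring
        rw [e1, Nat.factorization_mul (pow_ne_zero _ hpar.hr.ne_zero) hpp, Finsupp.add_apply,
          hpar.hr.factorization_pow, Finsupp.single_eq_same,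
          Nat.factorization_eq_zero_of_not_dvd hpar.hrp, add_zero, ← hpar.hmr]
      have hR : (R : Subgroup G) = zpowers b := by
        symm
        apply Subgroup.eq_of_le_of_card_ge hRle
        rw [hRcard, Nat.card_zpowers, hbord]
      have hm1 : m ≠ 1 := by
        intro h1
        have h2 := hkm
        rw [h1, pow_one] at h2
        exact hpar.hk1 h2
      have hle : normalizer ((R : Subgroup G) : Set G) ≤ centralizer ((R : Subgroup G) : Set G) := by
        rw [hR]
        intro u hu
        have hu' : u⁻¹ ∈ normalizer ((zpowers b : Subgroup G) : Set G) := inv_mem hu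
        have hcu : Commute u⁻¹ b := by
          have hmem : u * b * u⁻¹ ∈ zpowers b :=
            (mem_normalizer_iff.1 hu b).1 (mem_zpowers b)
          obtain ⟨n, -, hn⟩ := exists_pow_eq_of_mem_zpowers' b _ hmem
          have hmap : ∀ x : Pt p, φ b x = x → φ b (φ u⁻¹ x) = φ u⁻¹ x := by
            intro x hx
            have h1 : b * u⁻¹ = u⁻¹ * (u * b * u⁻¹) := by group
            have h2 : φ (b ^ n) x = x := by
              rw [map_pow]
              exact Equiv.Perm.pow_apply_eq_self_of_apply_eq_self hx n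
            calc φ b (φ u⁻¹ x) = φ (b * u⁻¹) x := by rw [map_mul]; rfl
              _ = φ (u⁻¹ * (u * b * u⁻¹)) x := by rw [h1]
              _ = φ u⁻¹ (φ (b ^ n) x) := by rw [map_mul, hn]; rfl
              _ = φ u⁻¹ x := by rw [h2]
          have hb_none : φ b none = none := by rw [φb, aff_none]
          have hb_zero : φ b (some 0) = some 0 := by rw [φb, aff_some hk0, mul_zero, add_zero]
          have h1 := hfixB _ (hmap none hb_none)
          have h2 := hfixB _ (hmap (some 0) hb_zero)
          have hne : φ u⁻¹ none ≠ φ u⁻¹ (some 0) := fun h => by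
            have := (φ u⁻¹).injective h
            exact absurd this (by simp)
          rcases h1 with h1 | h1
          · rcases h2 with h2 | h2
            · exact absurd (h1.trans h2.symm) hne
            · obtain ⟨e, he⟩ := TPS u⁻¹ h1 h2
              rw [he]
              exact (Commute.refl b).pow_left e
          · rcases h2 with h2 | h2
            · obtain ⟨e, he⟩ := TPS (t * u⁻¹)
                (by rw [map_mul, Equiv.Perm.mul_apply, h1, ht_zero])
                (by rw [map_mul, Equiv.Perm.mul_apply, h2, ht_none])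
              have h3 : u⁻¹ = t * b ^ e := by
                rw [← he, ← mul_assoc, htt, one_mul]
              rw [h3]
              exact hcomm'.mul_left ((Commute.refl b).pow_left e)
            · exact absurd (h1.trans h2.symm) hne
        have hcu' : Commute u b := by
          have := hcu.inv_left
          rwa [inv_inv] at this
        rw [mem_centralizer_iff]
        intro h hh
        obtain ⟨z, rfl⟩ := mem_zpowers_iff.1 hh
        exact ((hcu'.zpow_right z).eq).symm
      refine Cfsg.Agent.Helper4.Ord168.not_normalizer_le_centralizer R ?_ ?_ hle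
      · rw [hRcard]; exact hm1
      · rw [hRcard, hcard]
        intro h1
        have h2 : m * 1 = m * (p * (p + 1)) := by rw [mul_one]; exact h1.trans (by ring)
        have h3 := Nat.eq_of_mul_eq_mul_left hmpos h2
        nlinarith
    · apply hinj
      rw [htb, φbpow, map_inv, φb, aff_inv hk0, mul_zero, neg_zero]
      congr 1
      exact eq_inv_of_mul_eq_one_left hcase
  -- the conditions on the image of t
  have hTI : ∀ x, φ t (φ t x) = x := by
    intro x
    have h1 : φ t * φ t = 1 := by rw [← map_mul, htt, map_one]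
    calc φ t (φ t x) = (φ t * φ t) x := rfl
      _ = x := by rw [h1]; rfl
  have hTB : ∀ x, φ t (aff k 0 x) = (aff k 0)⁻¹ (φ t x) := by
    intro x
    have h1 : t * b = b⁻¹ * t := by rw [← htb', inv_mul_cancel_right]
    have h2 : φ t * φ b = (φ b)⁻¹ * φ t := by rw [← map_inv, ← map_mul, ← map_mul, h1]
    rw [← φb]
    exact congrArg (fun q : Equiv.Perm (Pt p) => q x) h2
  have hTfix : ∀ x, φ t x ≠ x := by
    intro x hx
    have h1 := hps x t hx
    have hodd : Odd (p * m) := by
      apply Nat.odd_mul.2
      exact ⟨⟨m, hm⟩, hpar.hmodd⟩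
    obtain ⟨q, hq⟩ := hodd
    rw [hq, pow_succ, pow_mul, pow_two, htt, one_pow, one_mul] at h1
    rw [h1, map_one] at ht_none
    exact absurd ht_none (by simp)
  have hcl := closure_of_conditions hm hpar.hmodd hk0 hpar.hc₀ hpar.hroots hpar.hclass (φ t) ht_none hTI
    hTB hTfix
  -- generation
  have hgen : closure ({a, b, t} : Set G) = ⊤ := by
    rw [eq_top_iff]
    intro u _
    have ha' : a ∈ closure ({a, b, t} : Set G) := subset_closure (by simp)
    have hb' : b ∈ closure ({a, b, t} : Set G) := subset_closure (by simp)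
    have ht' : t ∈ closure ({a, b, t} : Set G) := subset_closure (by simp)
    have NK : ∀ v : G, φ v none = none → v ∈ closure ({a, b, t} : Set G) := by
      intro v hv
      obtain ⟨s, c, hs, hsm, hsc⟩ := haff v hv
      obtain ⟨e, -, rfl⟩ := hpar.hroots s hsm
      have h1 : v = a ^ c.val * b ^ e := by
        apply hinj
        rw [hsc, map_mul, φapow, φbpow, aff_mul one_ne_zero (pow_ne_zero _ hk0), one_mul, one_mul,
          zero_add]
      rw [h1]
      exact mul_mem (pow_mem ha' _) (pow_mem hb' _)
    cases hx : φ u none with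
    | none => exact NK u hx
    | some i =>
      have h1 : φ (a ^ i.val * t) none = some i := by
        rw [map_mul, Equiv.Perm.mul_apply, ht_none, φapow, aff_some one_ne_zero, mul_zero, zero_add]
      have h2 : φ ((a ^ i.val * t)⁻¹ * u) none = none := by
        rw [map_mul, Equiv.Perm.mul_apply, hx, map_inv, Equiv.Perm.inv_eq_iff_eq]
        exact h1.symm
      have h3 := NK _ h2
      have h4 : u = (a ^ i.val * t) * ((a ^ i.val * t)⁻¹ * u) := by group
      rw [h4]
      exact mul_mem (mul_mem (pow_mem ha' _) ht') h3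
  rw [MonoidHom.range_eq_map, ← hgen, MonoidHom.map_closure, Set.image_insert_eq,
    Set.image_insert_eq, Set.image_singleton, φa, φb]
  exact hcl

/-- The recognition theorem. -/
theorem exists_equiv_H0 (hpar : Params p m k c₀ r er) (hcard : Nat.card G = p * m * (p + 1))
    (hsyl : Nat.card (Sylow p G) = p + 1) : Nonempty (G ≃* H0 p k c₀) := by
  obtain ⟨L⟩ := exists_labelled hpar hcard hsyl
  have hrange := range_eq_H0 hpar hcard L
  exact ⟨(MonoidHom.ofInjective L.inj).trans (MulEquiv.subgroupCongr hrange)⟩

end Cfsg.Agent.Helper4.L2p
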