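import Mathlib
import Cfsg.Agent.Helper7.PSLSimple
import Cfsg.Agent.S0243

set_option autoImplicit false

/-!
`PSL(2, F)` is simple when `F` has an element `x ≠ 0` with `x² ≠ 1`; its order over a prime field.
-/

namespace Cfsg.Agent.Helper4.L2p

open Matrix Matrix.SpecialLinearGroup MulAction Cfsg.Agent.Helper7.Transv
open scoped MatrixGroups LinearAlgebra.Projectivization

variable {F : Type*} [Field F]

theorem commutator_SL2_eq_top (h : ∃ x : F, x ≠ 0 ∧ x ^ 2 ≠ 1) :
    commutator (SpecialLinearGroup (Fin 2) F) = ⊤ := by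
  obtain ⟨x, hx0, hx1⟩ := h
  rw [eq_top_iff]
  intro M _
  refine transvection_induction (fun M => M ∈ commutator (SpecialLinearGroup (Fin 2) F)) ?_ ?_ M
  · intro i j hij a
    rw [commutator_eq_closure]
    exact Subgroup.subset_closure (transvection_mem_commutatorSet_two hx0 hx1 hij a)
  · intro A B hA hB
    exact Subgroup.mul_mem _ hA hB

theorem commutator_PSL2_eq_top (h : ∃ x : F, x ≠ 0 ∧ x ^ 2 ≠ 1) :
    commutator (Matrix.ProjectiveSpecialLinearGroup (Fin 2) F) = ⊤ := by
  have : Group.IsPerfect (SpecialLinearGroup (Fin 2) F) := ⟨commutator_SL2_eq_top h⟩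
  have : Group.IsPerfect (Matrix.ProjectiveSpecialLinearGroup (Fin 2) F) := inferInstance
  exact this.commutator_eq_top

/-- `PSL₂(F)` is simple when `F` has more than three elements. -/
theorem isSimpleGroup_PSL2 (h : ∃ x : F, x ≠ 0 ∧ x ^ 2 ≠ 1) :
    IsSimpleGroup (Matrix.ProjectiveSpecialLinearGroup (Fin 2) F) :=
  MulAction.IwasawaStructure.isSimpleGroup (commutator_PSL2_eq_top h) iwasawaPSL inferInstance

end Cfsg.Agent.Helper4.L2p
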