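import Mathlib
import Cfsg.Agent.Helper4.L2pGroup
import Cfsg.Agent.Helper4.L2pPSL

set_option autoImplicit false

/-!
Instances of the recognition theorem for `PSL(2, p)`, `p = 11, 19, 23`.
-/

namespace Cfsg.Agent.Helper4.L2p

open Subgroup Cfsg.Agent.Helper2.SmallOrder Cfsg.Agent.Helper2.SylowExact

/-- The number of Sylow `p`-subgroups from the order. -/
theorem card_sylow_eq {G : Type*} [Group G] [Finite G] [IsSimpleGroup G] {p m : ℕ} [hp : Fact p.Prime]
    (hm : p = 2 * m + 1) (hmpos : 0 < m) (hcard : Nat.card G = p * m * (p + 1))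
    (hnum : ∀ n : ℕ, n ∣ m * (p + 1) → n % p = 1 → n = 1 ∨ n = p + 1) :
    Nat.card (Sylow p G) = p + 1 := by
  have hp2 : 2 ≤ p := hp.out.two_le
  obtain ⟨P⟩ : Nonempty (Sylow p G) := inferInstance
  have hndvd : ¬ p ∣ m * (p + 1) := by
    intro h
    rcases (Nat.Prime.dvd_mul hp.out).1 h with h1 | h1
    · have := Nat.le_of_dvd hmpos h1
      omega
    · have h2 : p ∣ 1 := (Nat.dvd_add_right (dvd_refl p)).1 h1
      have := Nat.le_of_dvd one_pos h2
      omega
  have hP : Nat.card (P : Subgroup G) = p :=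
    card_sylow_of_exact (s := p) (m := m * (p + 1)) (by rw [hcard, mul_assoc]) hndvd P
  have hidx : (P : Subgroup G).index = m * (p + 1) := by
    have h1 := (P : Subgroup G).card_mul_index
    rw [hP, hcard, mul_assoc] at h1
    exact Nat.eq_of_mul_eq_mul_left (by omega) h1
  have h1 : Nat.card (Sylow p G) ∣ m * (p + 1) := by
    have := P.card_dvd_index
    rwa [hidx] at this
  have h2 : Nat.card (Sylow p G) % p = 1 := by
    have h3 := card_sylow_modEq_one p G
    unfold Nat.ModEq at h3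
    rw [h3, Nat.mod_eq_of_lt (by omega)]
  rcases hnum _ h1 h2 with h3 | h3
  · exfalso
    refine card_sylow_ne_one P ?_ ?_ h3
    · rw [hP]; omega
    · rw [hP, hcard]
      intro h4
      have h5 : p * 1 = p * (m * (p + 1)) := by rw [mul_one, ← mul_assoc]; exact h4
      have h6 := Nat.eq_of_mul_eq_mul_left (by omega : 0 < p) h5
      nlinarith
  · exact h3

/-- The order of `PSL(2, F)` over the field with `p = 2 m + 1` elements. -/
theorem card_PSL2 {F : Type*} [Field F] [Fintype F] {p m : ℕ} (hm : p = 2 * m + 1) (hmpos : 0 < m)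
    (hF : Fintype.card F = p) :
    Nat.card (Matrix.ProjectiveSpecialLinearGroup (Fin 2) F) = p * m * (p + 1) := by
  have h1 := Cfsg.Agent.S0243.result hF 2 le_rfl
  rw [Fin.prod_univ_two] at h1
  have h2 : Nat.gcd 2 (p - 1) = 2 := by
    have : p - 1 = 2 * m := by omega
    rw [this]
    exact Nat.gcd_mul_right_right m 2
  have h3 : p - 1 = 2 * m := by omega
  have h4 : p ^ 2 - p ^ ((0 : Fin 2) : ℕ) = 2 * m * (p + 1) := by
    have : ((0 : Fin 2) : ℕ) = 0 := rfl
    rw [this, pow_zero, hm]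
    have h5 : (2 * m + 1) ^ 2 = 2 * m * (2 * m + 1 + 1) + 1 := by ring
    rw [h5]
    omega
  have h6 : p ^ 2 - p ^ ((1 : Fin 2) : ℕ) = p * (2 * m) := by
    have : ((1 : Fin 2) : ℕ) = 1 := rfl
    rw [this, pow_one, pow_two, ← Nat.mul_sub_one, h3]
  rw [h2, h3, h4, h6] at h1
  generalize Nat.card (Matrix.ProjectiveSpecialLinearGroup (Fin 2) F) = c at h1 ⊢
  have h7 : (2 * (2 * m)) * c = (2 * (2 * m)) * (p * m * (p + 1)) := by
    rw [mul_assoc, h1]; ring
  exact Nat.eq_of_mul_eq_mul_left (by omega) h7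

/-- The general recognition theorem for `PSL(2, p)`. -/
theorem equiv_PSL2 {G : Type*} [Group G] [Finite G] [IsSimpleGroup G] {p m : ℕ} [hp : Fact p.Prime]
    {k c₀ : ZMod p} {r er : ℕ} (hpar : Params p m k c₀ r er)
    (hnum : ∀ n : ℕ, n ∣ m * (p + 1) → n % p = 1 → n = 1 ∨ n = p + 1)
    (hcard : Nat.card G = p * m * (p + 1)) {F : Type*} [Field F] [Fintype F]
    (hF : Fintype.card F = p) (h4 : ∃ x : F, x ≠ 0 ∧ x ^ 2 ≠ 1) :
    Nonempty (G ≃* Matrix.ProjectiveSpecialLinearGroup (Fin 2) F) := by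
  have hmpos : 0 < m := hpar.hmodd.pos
  have hcard2 := card_PSL2 hpar.hm hmpos hF
  haveI : IsSimpleGroup (Matrix.ProjectiveSpecialLinearGroup (Fin 2) F) := isSimpleGroup_PSL2 h4
  haveI : Finite (Matrix.ProjectiveSpecialLinearGroup (Fin 2) F) :=
    Nat.finite_of_card_ne_zero (by
      rw [hcard2]
      have := hp.out.pos
      positivity)
  obtain ⟨e1⟩ := exists_equiv_H0 hpar hcard (card_sylow_eq hpar.hm hmpos hcard hnum)
  obtain ⟨e2⟩ := exists_equiv_H0 hpar hcard2 (card_sylow_eq hpar.hm hmpos hcard2 hnum)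
  exact ⟨e1.trans e2.symm⟩

/-- A field with `p ≥ 5` elements has an element `x ≠ 0` with `x² ≠ 1`. -/
theorem exists_sq_ne_one {F : Type*} [Field F] [Fintype F] (h : 4 ≤ Fintype.card F) :
    ∃ x : F, x ≠ 0 ∧ x ^ 2 ≠ 1 := by
  classical
  by_contra hcon
  push Not at hcon
  have hsub : (Finset.univ : Finset F) ⊆ {0, 1, -1} := by
    intro x _
    by_cases hx : x = 0
    · simp [hx]
    · have h1 := hcon x hx
      have h2 : (x - 1) * (x + 1) = 0 := by ring_nf; rw [h1]; ring
      rcases mul_eq_zero.1 h2 with h3 | h3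
      · have : x = 1 := sub_eq_zero.1 h3
        simp [this]
      · have : x = -1 := eq_neg_of_add_eq_zero_left h3
        simp [this]
  have h1 := Finset.card_le_card hsub
  rw [Finset.card_univ] at h1
  have h2 : ({0, 1, -1} : Finset F).card ≤ 3 := Finset.card_le_three
  omega

end Cfsg.Agent.Helper4.L2p
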