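import Mathlib

set_option autoImplicit false

namespace Cfsg.Agent.Helper4

universe u

variable {G : Type u} [Group G]

/-- `H` is a Hall `p`-complement: `p`-power index and order prime to `p` -/
def IsPCompl (p : ℕ) (H : Subgroup G) : Prop :=
  (∃ k, H.index = p ^ k) ∧ (Nat.card H).Coprime p

theorem isPCompl_iff [Finite G] {p : ℕ} (hp : p.Prime) (H : Subgroup G) :
    IsPCompl p H ↔ H.index = p ^ (Nat.card G).factorization p := by
  have hmul := Subgroup.card_mul_index H
  have hcH : Nat.card H ≠ 0 := Nat.card_pos.ne'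
  have hiH : H.index ≠ 0 := Subgroup.index_ne_zero_of_finite
  have hfac : (Nat.card G).factorization p =
      (Nat.card H).factorization p + H.index.factorization p := by
    rw [← hmul, Nat.factorization_mul hcH hiH]
    rfl
  constructor
  · rintro ⟨⟨k, hk⟩, hc⟩
    have h0 : (Nat.card H).factorization p = 0 := by
      apply Nat.factorization_eq_zero_of_not_dvd
      exact (Nat.Prime.coprime_iff_not_dvd hp).1 hc.symm
    rw [hfac, h0, zero_add, hk, hp.factorization_pow, Finsupp.single_eq_same]
  · intro h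
    refine ⟨⟨_, h⟩, ?_⟩
    have h1 : H.index.factorization p = (Nat.card G).factorization p := by
      rw [h, hp.factorization_pow, Finsupp.single_eq_same]
    have h0 : (Nat.card H).factorization p = 0 := by omega
    rcases (Nat.factorization_eq_zero_iff _ _).1 h0 with h2 | h2 | h2
    · exact absurd hp h2
    · exact ((Nat.Prime.coprime_iff_not_dvd hp).2 h2).symm
    · exact absurd h2 hcH

/-- every prime has a Hall complement -/
def HasPCompls (G : Type*) [Group G] : Prop :=
  ∀ p : ℕ, p.Prime → ∃ H : Subgroup G, IsPCompl p H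

theorem index_inf_of_coprime [Finite G] (H K : Subgroup G) (h : Nat.Coprime H.index K.index) :
    (H ⊓ K).index = H.index * K.index := by
  apply Nat.dvd_antisymm
  · have h1 : (H ⊓ K).index ≤ H.index * K.index := Subgroup.index_inf_le
    have h2 : H.index * K.index ∣ (H ⊓ K).index :=
      Nat.Coprime.mul_dvd_of_dvd_of_dvd h (Subgroup.index_dvd_of_le inf_le_left)
        (Subgroup.index_dvd_of_le inf_le_right)
    have h3 : (H ⊓ K).index ≠ 0 := Subgroup.index_ne_zero_of_finite
    have h4 := Nat.le_of_dvd (Nat.pos_of_ne_zero h3) h2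
    have h5 : (H ⊓ K).index = H.index * K.index := le_antisymm h1 h4
    rw [h5]
  · exact Nat.Coprime.mul_dvd_of_dvd_of_dvd h (Subgroup.index_dvd_of_le inf_le_left)
      (Subgroup.index_dvd_of_le inf_le_right)

theorem relIndex_of_coprime_index [Finite G] (H K : Subgroup G)
    (h : Nat.Coprime H.index K.index) : K.relIndex H = K.index := by
  have h1 : (H ⊓ K).relIndex H * H.index = (H ⊓ K).index :=
    Subgroup.relIndex_mul_index inf_le_left
  rw [index_inf_of_coprime H K h, Subgroup.inf_relIndex_left] at h1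
  have hiH : 0 < H.index := Nat.pos_of_ne_zero Subgroup.index_ne_zero_of_finite
  rw [mul_comm H.index] at h1
  exact Nat.eq_of_mul_eq_mul_right hiH h1

/-- a Hall complement inherits Hall complements -/
theorem HasPCompls.of_isPCompl [Finite G] (hG : HasPCompls G) {p₁ : ℕ} (hp₁ : p₁.Prime)
    (H₁ : Subgroup G) (hH₁ : IsPCompl p₁ H₁) : HasPCompls H₁ := by
  intro r hr
  by_cases hrp : r = p₁
  · subst hrp
    refine ⟨⊤, ⟨0, by rw [Subgroup.index_top, pow_zero]⟩, ?_⟩
    rw [Subgroup.card_top]
    exact hH₁.2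
  · obtain ⟨Hr, ⟨k, hk⟩, hc⟩ := hG r hr
    obtain ⟨⟨k₁, hk₁⟩, hc₁⟩ := hH₁
    have hcop : Nat.Coprime H₁.index Hr.index := by
      rw [hk₁, hk]
      exact Nat.Coprime.pow _ _ ((Nat.coprime_primes hp₁ hr).2 (Ne.symm hrp))
    refine ⟨Hr.subgroupOf H₁, ⟨k, ?_⟩, ?_⟩
    · have := relIndex_of_coprime_index H₁ Hr hcop
      rw [← hk, ← this]
      rfl
    · have hdvd : Nat.card (Hr.subgroupOf H₁) ∣ Nat.card Hr := by
        have e : Nat.card (Hr.subgroupOf H₁) = Nat.card (Hr ⊓ H₁ : Subgroup G) := by
          rw [← Subgroup.inf_subgroupOf_right]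
          exact Nat.card_congr (Subgroup.subgroupOfEquivOfLe inf_le_right).toEquiv
        rw [e]
        exact Subgroup.card_dvd_of_le inf_le_left
      exact Nat.Coprime.coprime_dvd_left hdvd hc

/-- quotients inherit Hall complements -/
theorem HasPCompls.quotient [Finite G] (hG : HasPCompls G) (N : Subgroup G) [N.Normal] :
    HasPCompls (G ⧸ N) := by
  intro p hp
  obtain ⟨H, ⟨k, hk⟩, hc⟩ := hG p hp
  refine ⟨H.map (QuotientGroup.mk' N), ?_, ?_⟩
  · have hdvd : (H.map (QuotientGroup.mk' N)).index ∣ H.index :=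
      Subgroup.index_map_dvd H (QuotientGroup.mk'_surjective N)
    rw [hk] at hdvd
    obtain ⟨i, _, hi⟩ := (Nat.dvd_prime_pow hp).1 hdvd
    exact ⟨i, hi⟩
  · exact Nat.Coprime.coprime_dvd_left (Subgroup.card_map_dvd H _) hc

/-- conjugates of Hall complements are Hall complements -/
theorem IsPCompl.conj [Finite G] {p : ℕ} {H : Subgroup G} (hH : IsPCompl p H) (g : G) :
    IsPCompl p (H.map (MulAut.conj g).toMonoidHom) := by
  obtain ⟨⟨k, hk⟩, hc⟩ := hH
  refine ⟨⟨k, ?_⟩, ?_⟩
  · rw [← hk]
    exact Subgroup.index_map_equiv H (MulAut.conj g)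
  · rw [← Nat.card_congr (H.equivMapOfInjective (MulAut.conj g).toMonoidHom
      (MulAut.conj g).injective).toEquiv]
    exact hc

end Cfsg.Agent.Helper4
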