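import Mathlib
import Cfsg.Agent.Helper4.HallConverseA
import Cfsg.Agent.Lead.SylowLemmas

set_option autoImplicit false

namespace Cfsg.Agent.Helper4

universe u

variable {G : Type u} [Group G]

open scoped commutatorElement

/-- subgroups of coprime index factorize the group -/
theorem exists_mul_of_coprime_index [Finite G] (H K : Subgroup G)
    (h : Nat.Coprime H.index K.index) (g : G) : ∃ a ∈ K, ∃ b ∈ H, g = a * b := by
  classical
  have hstab : MulAction.stabilizer K ((1 : G) : G ⧸ H) = H.subgroupOf K := by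
    ext a
    rw [MulAction.mem_stabilizer_iff, Subgroup.mem_subgroupOf]
    show (((a : G) * 1 : G) : G ⧸ H) = ((1 : G) : G ⧸ H) ↔ (a : G) ∈ H
    rw [mul_one, QuotientGroup.eq, mul_one, inv_mem_iff]
  have hidx : (MulAction.stabilizer K ((1 : G) : G ⧸ H)).index = H.index := by
    rw [hstab]
    exact relIndex_of_coprime_index K H h.symm
  rw [MulAction.index_stabilizer] at hidx
  have huniv : MulAction.orbit K ((1 : G) : G ⧸ H) = Set.univ := by
    rw [Set.eq_univ_iff_ncard, hidx, Subgroup.index_eq_card]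
  have hg : ((g : G) : G ⧸ H) ∈ MulAction.orbit K ((1 : G) : G ⧸ H) := by
    rw [huniv]; exact Set.mem_univ _
  obtain ⟨a, ha⟩ := hg
  have ha' : (((a : G) * 1 : G) : G ⧸ H) = ((g : G) : G ⧸ H) := ha
  rw [mul_one, QuotientGroup.eq] at ha'
  exact ⟨a, a.2, (a : G)⁻¹ * g, ha', by group⟩

/-- a nontrivial finite solvable group has a nontrivial normal `r`-subgroup for some prime `r` -/
theorem exists_normal_pgroup_of_isSolvable (X : Type u) [Group X] [Finite X] [Nontrivial X]
    [hs : Group.IsSolvable X] :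
    ∃ (r : ℕ) (_ : r.Prime) (N : Subgroup X), N.Normal ∧ N ≠ ⊥ ∧ ∀ x ∈ N, x ^ r = 1 := by
  classical
  obtain ⟨n, hn⟩ := hs.solvable
  have hex : ∃ n, derivedSeries X n = ⊥ := ⟨n, hn⟩
  obtain ⟨m, hm⟩ : ∃ m, Nat.find hex = m + 1 := by
    cases hfind : Nat.find hex with
    | zero =>
      exfalso
      have h0 := Nat.find_spec hex
      rw [hfind, derivedSeries_zero] at h0
      exact top_ne_bot h0
    | succ m => exact ⟨m, rfl⟩
  have hA1 : derivedSeries X m ≠ ⊥ := by
    intro h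
    have := Nat.find_min' hex h
    omega
  have hA2 : derivedSeries X (m + 1) = ⊥ := hm ▸ Nat.find_spec hex
  obtain ⟨A, hAdef⟩ : ∃ A : Subgroup X, A = derivedSeries X m := ⟨_, rfl⟩
  have hAn : A.Normal := by rw [hAdef]; infer_instance
  have hAcomm : ∀ a ∈ A, ∀ b ∈ A, a * b = b * a := by
    intro a ha b hb
    have h1 : ⁅a, b⁆ ∈ derivedSeries X (m + 1) := by
      rw [derivedSeries_succ, ← hAdef]
      exact Subgroup.commutator_mem_commutator ha hb
    rw [hA2, Subgroup.mem_bot, commutatorElement_eq_one_iff_mul_comm] at h1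
    exact h1
  have hAne : A ≠ ⊥ := hAdef ▸ hA1
  have hcard : 1 < Nat.card A := (Subgroup.one_lt_card_iff_ne_bot A).2 hAne
  obtain ⟨r, hr, hrd⟩ := Nat.exists_prime_and_dvd hcard.ne'
  haveI : Fact r.Prime := ⟨hr⟩
  obtain ⟨a₀, ha₀⟩ := exists_prime_orderOf_dvd_card' r hrd
  let N : Subgroup X :=
    { carrier := {x | x ∈ A ∧ x ^ r = 1}
      mul_mem' := by
        rintro x y ⟨hx, hx1⟩ ⟨hy, hy1⟩
        refine ⟨A.mul_mem hx hy, ?_⟩
        have hc : Commute x y := hAcomm x hx y hy
        rw [hc.mul_pow, hx1, hy1, one_mul]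
      one_mem' := ⟨A.one_mem, one_pow _⟩
      inv_mem' := by
        rintro x ⟨hx, hx1⟩
        exact ⟨A.inv_mem hx, by rw [inv_pow, hx1, inv_one]⟩ }
  refine ⟨r, hr, N, ?_, ?_, fun x hx => hx.2⟩
  · constructor
    rintro x ⟨hx, hx1⟩ g
    refine ⟨hAn.conj_mem x hx g, ?_⟩
    rw [conj_pow, hx1, mul_one, mul_inv_cancel]
  · intro hbot
    have hmem : (a₀ : X) ∈ N := by
      refine ⟨a₀.2, ?_⟩
      have h1 : a₀ ^ r = 1 := by rw [← ha₀]; exact pow_orderOf_eq_one a₀
      have := congrArg Subtype.val h1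
      simpa using this
    rw [hbot, Subgroup.mem_bot] at hmem
    have h1 : a₀ = 1 := Subtype.ext hmem
    rw [h1, orderOf_one] at ha₀
    exact hr.one_lt.ne ha₀

end Cfsg.Agent.Helper4
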