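import Mathlib
import Cfsg.Prelude.Def_Local
import Cfsg.Agent.Helper4.HallConverseB

set_option autoImplicit false

/-!
A finite solvable group is `p`-solvable (in the sense of `Cfsg.IsPSolvable`) for every prime `p`.
-/

namespace Cfsg.Agent.Helper4.SolvPSolv

universe u

/-- extension: `N` normal of `p`-power order or of order prime to `p`, and `G/N` `p`-solvable. -/
theorem isPSolvable_of_quotient {G : Type u} [Group G] {p : ℕ} (N : Subgroup G) [N.Normal]
    (hN : (∃ m : ℕ, Nat.card N = p ^ m) ∨ (Nat.card N).Coprime p)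
    (hQ : Cfsg.IsPSolvable p (G ⧸ N)) : Cfsg.IsPSolvable p G := by
  obtain ⟨n, H, h0, hlast, hmono, hnormal, hfac⟩ := hQ
  have hsurj := QuotientGroup.mk'_surjective N
  refine ⟨n + 1, Fin.cons ⊥ (fun i => (H i).comap (QuotientGroup.mk' N)), ?_, ?_, ?_, ?_, ?_⟩
  · rfl
  · rw [show Fin.last (n + 1) = (Fin.last n).succ from rfl, Fin.cons_succ, hlast]
    exact Subgroup.comap_top _
  · rw [Fin.monotone_iff_le_succ]
    intro i
    refine Fin.cases ?_ (fun j => ?_) i
    · rw [Fin.castSucc_zero, Fin.cons_zero]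
      exact bot_le
    · rw [← Fin.succ_castSucc, Fin.cons_succ, Fin.cons_succ]
      exact Subgroup.comap_mono (hmono (Fin.castSucc_le_succ j))
  · intro i
    refine Fin.cases ?_ (fun j => ?_) i
    · rw [Fin.cons_zero]; infer_instance
    · rw [Fin.cons_succ]
      haveI := hnormal j
      infer_instance
  · intro i
    refine Fin.cases ?_ (fun j => ?_) i
    · rw [Fin.castSucc_zero, Fin.cons_zero, Fin.cons_succ, h0, MonoidHom.comap_bot,
        QuotientGroup.ker_mk', Subgroup.relIndex_bot_left]
      exact hN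
    · rw [← Fin.succ_castSucc, Fin.cons_succ, Fin.cons_succ, Subgroup.relIndex_comap,
        Subgroup.map_comap_eq_self_of_surjective hsurj]
      exact hfac j

theorem isPSolvable_of_isSolvable_aux (p : ℕ) [hp : Fact p.Prime] :
    ∀ n : ℕ, ∀ (G : Type u) [Group G] [Finite G], Nat.card G = n → Group.IsSolvable G →
      Cfsg.IsPSolvable p G := by
  intro n
  induction n using Nat.strong_induction_on with
  | _ n ih =>
    intro G _ _ hn hsol
    by_cases hsub : Subsingleton G
    · refine ⟨0, fun _ => ⊥, rfl, Subsingleton.elim _ _, fun _ _ _ => le_rfl,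
        fun _ => inferInstance, fun i => i.elim0⟩
    rw [not_subsingleton_iff_nontrivial] at hsub
    obtain ⟨r, hr, N, hNn, hNne, hNr⟩ := Cfsg.Agent.Helper4.exists_normal_pgroup_of_isSolvable G
    haveI : Fact r.Prime := ⟨hr⟩
    have hNp : IsPGroup r N := by
      intro x
      refine ⟨1, ?_⟩
      rw [pow_one]
      apply Subtype.ext
      simpa using hNr x.1 x.2
    obtain ⟨k, hk⟩ := IsPGroup.iff_card.mp hNp
    have hlt : Nat.card (G ⧸ N) < n := by
      rw [← hn, Subgroup.card_eq_card_quotient_mul_card_subgroup N]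
      have h1 : 1 < Nat.card N := (Subgroup.one_lt_card_iff_ne_bot N).2 hNne
      have h2 : 0 < Nat.card (G ⧸ N) := Nat.card_pos
      nlinarith
    have hQ := ih _ hlt (G ⧸ N) rfl inferInstance
    apply isPSolvable_of_quotient N _ hQ
    by_cases hrp : r = p
    · left; exact ⟨k, by rw [hk, hrp]⟩
    · right
      rw [hk]
      exact Nat.Coprime.pow_left _ ((Nat.coprime_primes hr hp.out).2 hrp)

/-- A finite solvable group is `p`-solvable. -/
theorem isPSolvable_of_isSolvable {G : Type u} [Group G] [Finite G] (p : ℕ) [Fact p.Prime]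
    (h : Group.IsSolvable G) : Cfsg.IsPSolvable p G :=
  isPSolvable_of_isSolvable_aux p _ G rfl h

end Cfsg.Agent.Helper4.SolvPSolv
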