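import Mathlib
import Cfsg.Agent.Helper4.Burnside

set_option autoImplicit false

namespace Cfsg.Agent.Helper4

/-- A finite group is not the union of the conjugates of a proper subgroup. -/
theorem exists_not_mem_conj {G : Type*} [Group G] [Finite G] (H : Subgroup G) (hH : H ≠ ⊤) :
    ∃ g : G, ∀ x : G, x⁻¹ * g * x ∉ H := by
  have h2 : 2 ≤ Nat.card (G ⧸ H) := by
    have h1 : H.index ≠ 1 := fun h => hH (Subgroup.index_eq_one.mp h)
    have h0 : H.index ≠ 0 := Subgroup.index_ne_zero_of_finite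
    change 2 ≤ H.index
    omega
  obtain ⟨g, hg⟩ := exists_derangement (G := G) (X := G ⧸ H) h2
  refine ⟨g, fun x hx => hg (QuotientGroup.mk x) ?_⟩
  change (QuotientGroup.mk (g * x) : G ⧸ H) = QuotientGroup.mk x
  rw [QuotientGroup.eq]
  have : (g * x)⁻¹ * x = (x⁻¹ * g * x)⁻¹ := by group
  rw [this]
  exact H.inv_mem hx

end Cfsg.Agent.Helper4
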