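import Mathlib
import Cfsg.Prelude.Def_Local
import Cfsg.Agent.Helper4.PSolvable

set_option autoImplicit false

namespace Cfsg.Agent.Helper4

section PSolv

variable {G : Type*} [Group G]

theorem isPSolvable_subgroup {p : ℕ} [hp : Fact p.Prime] (hG : Cfsg.IsPSolvable p G)
    (C : Subgroup G) : Cfsg.IsPSolvable p C := by
  obtain ⟨n, H, h0, hlast, hmono, hnorm, hfac⟩ := hG
  refine ⟨n, fun i => (H i).subgroupOf C, ?_, ?_, ?_, ?_, ?_⟩
  · show (H 0).subgroupOf C = ⊥
    rw [h0]; exact Subgroup.bot_subgroupOf C
  · show (H (Fin.last n)).subgroupOf C = ⊤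
    rw [hlast]; exact Subgroup.top_subgroupOf C
  · intro i j hij
    exact Subgroup.subgroupOf_mono C (hmono hij)
  · intro i
    have := hnorm i
    exact Subgroup.normal_subgroupOf
  · intro i
    have hN : (H i.castSucc).Normal := hnorm _
    have hdvd : ((H i.castSucc).subgroupOf C).relIndex ((H i.succ).subgroupOf C) ∣
        (H i.castSucc).relIndex (H i.succ) := by
      rw [← Subgroup.inf_subgroupOf_right (H i.succ) C,
        Subgroup.relIndex_subgroupOf (inf_le_right : H i.succ ⊓ C ≤ C)]
      exact relIndex_dvd_of_le_right_normal (H i.castSucc) (H i.succ ⊓ C) (H i.succ) inf_le_left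
    rcases hfac i with ⟨m, hm⟩ | hc
    · left
      rw [hm] at hdvd
      obtain ⟨j, -, hj⟩ := (Nat.dvd_prime_pow hp.out).1 hdvd
      exact ⟨j, hj⟩
    · right
      exact Nat.Coprime.coprime_dvd_left hdvd hc

end PSolv

section Rep

variable {k V H : Type*} [Field k] [AddCommGroup V] [Module k V] [Group H]

/-- the stabilizer of a vector -/
def repStabilizer (ρ : Representation k H V) (a : V) : Subgroup H where
  carrier := {h | ρ h a = a}
  one_mem' := by simp
  mul_mem' := by
    intro g h hg hh
    show ρ (g * h) a = a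
    rw [map_mul, Module.End.mul_apply, hh, hg]
  inv_mem' := by
    intro g hg
    show ρ g⁻¹ a = a
    have hg' : ρ g a = a := hg
    calc ρ g⁻¹ a = ρ g⁻¹ (ρ g a) := by rw [hg']
      _ = (ρ g⁻¹ * ρ g) a := rfl
      _ = a := by rw [← map_mul, inv_mul_cancel, map_one, Module.End.one_apply]

theorem mem_repStabilizer (ρ : Representation k H V) (a : V) (h : H) :
    h ∈ repStabilizer ρ a ↔ ρ h a = a := Iff.rfl

theorem index_repStabilizer (ρ : Representation k H V) (a : V) :
    (repStabilizer ρ a).index = Nat.card {u : V | ∃ h : H, ρ h a = u} := by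
  let inst : MulAction H V := MulAction.compHom V (ρ : H →* Module.End k V)
  have h1 : repStabilizer ρ a = MulAction.stabilizer H a := by
    ext h; rfl
  rw [h1, MulAction.index_stabilizer, ← Nat.card_coe_set_eq]
  rfl

end Rep

end Cfsg.Agent.Helper4
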