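import Cfsg.Agent.Helper4.AffSLB

set_option autoImplicit false

namespace Cfsg.Agent.Helper4

open Matrix

universe u

/-- every finite group has an isomorphic copy in `Type` -/
theorem exists_type_zero_copy (K : Type u) [Group K] [Finite K] :
    ∃ (H : Type) (_ : Group H) (_ : Finite H), Nonempty (H ≃* K) := by
  obtain ⟨m, ⟨e⟩⟩ := Finite.exists_equiv_fin K
  exact ⟨Fin m, e.symm.group, inferInstance, ⟨@Equiv.mulEquiv _ _ e.symm _⟩⟩

section

variable {F : Type u} [Field F] [CharP F 2]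

theorem sl2_center_eq_bot :
    Subgroup.center (Matrix.SpecialLinearGroup (Fin 2) F) = ⊥ := by
  have h2 : (2 : F) = 0 := two_eq_zero_F
  rw [eq_bot_iff]
  intro A hA
  rw [Matrix.SpecialLinearGroup.mem_center_iff] at hA
  obtain ⟨r, hr, hrA⟩ := hA
  rw [Fintype.card_fin] at hr
  have hr1 : r = 1 := by
    have : (r - 1) ^ 2 = 0 := by linear_combination hr + (1 - r) * h2
    have := pow_eq_zero_iff (two_ne_zero) |>.1 this
    exact sub_eq_zero.1 this
  rw [Subgroup.mem_bot]
  apply Subtype.ext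
  rw [← hrA, hr1, map_one, Matrix.SpecialLinearGroup.coe_one]

theorem psl2_equiv_sl2 : Nonempty (Matrix.ProjectiveSpecialLinearGroup (Fin 2) F ≃*
    Matrix.SpecialLinearGroup (Fin 2) F) :=
  ⟨(QuotientGroup.quotientMulEquivOfEq sl2_center_eq_bot).trans QuotientGroup.quotientBot⟩

theorem two_dvd_card_sl2 [Finite F] : 2 ∣ Nat.card (Matrix.SpecialLinearGroup (Fin 2) F) := by
  have h2 : (2 : F) = 0 := two_eq_zero_F
  obtain ⟨u, hu⟩ : ∃ u : Matrix.SpecialLinearGroup (Fin 2) F, u.val = !![1, 1; 0, 1] :=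
    ⟨⟨!![1, 1; 0, 1], by rw [Matrix.det_fin_two_of]; ring⟩, rfl⟩
  have hu2 : u ^ 2 = 1 := by
    apply sl2_sq_eq_one_of_trace_zero
    rw [hu]
    simp only [Matrix.of_apply, Matrix.cons_val', Matrix.cons_val_zero, Matrix.cons_val_one,
      Matrix.cons_val_fin_one]
    linear_combination h2
  have hu1 : u ≠ 1 := by
    intro h
    have := congrArg (fun m : Matrix.SpecialLinearGroup (Fin 2) F => m.val 0 1) h
    simp only [hu, Matrix.SpecialLinearGroup.coe_one] at this
    simp at this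
  have hf : Fact (Nat.Prime 2) := ⟨Nat.prime_two⟩
  have h3 : orderOf u = 2 := orderOf_eq_prime hu2 hu1
  have h4 := orderOf_dvd_natCard u
  rwa [h3] at h4

end

end Cfsg.Agent.Helper4
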