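import Mathlib
import Cfsg.Prelude.Def_Characters
import Cfsg.Agent.Helper6.PermChar
import Cfsg.Agent.Helper6.ClassInner

set_option autoImplicit false

namespace Cfsg.Agent.Helper4

open scoped ComplexConjugate
open MulAction

universe u v

/-- Burnside's lemma in inner-product form. -/
theorem classInner_one_permChar {K : Type u} [Group K] [Fintype K] (X : Type v) [MulAction K X]
    [Finite X] :
    Cfsg.classInner (fun _ : K => (1 : ℂ)) (fun k : K => (Nat.card (fixedBy X k) : ℂ)) =
      (Nat.card (orbitRel.Quotient K X) : ℂ) := by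
  classical
  have : Fintype X := Fintype.ofFinite X
  have : Fintype (orbitRel.Quotient K X) := Fintype.ofFinite _
  have hB := MulAction.sum_card_fixedBy_eq_card_orbits_mul_card_group K X
  rw [Cfsg.Agent.Helper6.classInner_def]
  have h1 : ∑ g : K, (1 : ℂ) * conj ((Nat.card (fixedBy X g) : ℂ)) =
      ((∑ g : K, Fintype.card (fixedBy X g) : ℕ) : ℂ) := by
    rw [Nat.cast_sum]
    apply Finset.sum_congr rfl
    intro g _
    rw [one_mul, Complex.conj_natCast, Nat.card_eq_fintype_card]
  rw [h1, hB, Nat.cast_mul, Nat.card_eq_fintype_card, Nat.card_eq_fintype_card]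
  have hK : (Fintype.card K : ℂ) ≠ 0 := by
    have : 0 < Fintype.card K := Fintype.card_pos
    exact_mod_cast this.ne'
  field_simp

/-- The degree of the permutation character on cosets. -/
theorem indFun_one_apply_one {G : Type u} [Group G] [Fintype G] (H : Subgroup G) :
    Cfsg.indFun H (fun _ => (1 : ℂ)) 1 = (H.index : ℂ) := by
  classical
  rw [Cfsg.Agent.Helper6.indFun_apply]
  have h1 : ∀ x : G, Cfsg.extendByZero H (fun _ => (1 : ℂ)) (x⁻¹ * 1 * x) = 1 := by
    intro x
    have : x⁻¹ * 1 * x = 1 := by group
    rw [this]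
    exact Cfsg.Agent.Helper6.extendByZero_mem H _ H.one_mem
  simp_rw [h1]
  rw [Finset.sum_const, Finset.card_univ, nsmul_eq_mul, mul_one, ← Nat.card_eq_fintype_card,
    ← H.index_mul_card, Nat.cast_mul]
  have hH : (Nat.card H : ℂ) ≠ 0 := by
    have : 0 < Nat.card H := Nat.card_pos
    exact_mod_cast this.ne'
  field_simp

/-- A point stabilizer of a 2-transitive action on at least two points has exactly two orbits. -/
theorem card_orbits_stabilizer_of_two_pretransitive {G : Type u} [Group G] {Ω : Type v}
    [MulAction G Ω] [Finite Ω] (h2 : IsMultiplyPretransitive G Ω 2) (a b : Ω) (hab : a ≠ b) :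
    Nat.card (orbitRel.Quotient (stabilizer G a) Ω) = 2 := by
  rw [is_two_pretransitive_iff] at h2
  rw [Nat.card_eq_two_iff]
  refine ⟨Quotient.mk'' a, Quotient.mk'' b, ?_, ?_⟩
  · intro h
    rw [Quotient.eq''] at h
    obtain ⟨k, hk⟩ := h
    apply hab
    have : (k : G) • b = a := hk
    have hk' : (k : G) • a = a := k.2
    exact (smul_left_cancel (k : G) (this.trans hk'.symm)).symm
  · rw [Set.eq_univ_iff_forall]
    intro q
    induction q using Quotient.inductionOn' with
    | _ x =>
      by_cases hx : x = a
      · left; rw [hx]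
      · right
        rw [Set.mem_singleton_iff, Quotient.eq'']
        obtain ⟨g, hg1, hg2⟩ := h2 hab (Ne.symm hx)
        exact ⟨⟨g, hg1⟩, hg2⟩

end Cfsg.Agent.Helper4
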