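import Mathlib
import Cfsg.Agent.Helper4.Burnside

set_option autoImplicit false

namespace Cfsg.Agent.Helper4

open MulAction

/-- Key counting fact: let `G` act transitively on a finite nonempty set and let `D` be a subgroup
containing all derangements.  Then `D` is transitive and every element outside `D` has
exactly one fixed point. -/
theorem derangement_subgroup_aux {G Ω : Type*} [Group G] [Finite G] [MulAction G Ω] [Finite Ω]
    [Nonempty Ω] [IsPretransitive G Ω] (D : Subgroup G)
    (hD : ∀ g : G, (∀ ω : Ω, g • ω ≠ ω) → g ∈ D) :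
    IsPretransitive D Ω ∧ ∀ g : G, g ∉ D → Nat.card (fixedBy Ω g) = 1 := by
  classical
  have : Fintype G := Fintype.ofFinite G
  have hA : ∑ g : G, Nat.card (fixedBy Ω g) = Nat.card G := burnside_transitive
  have hB : ∑ d : D, Nat.card (fixedBy Ω d) = Nat.card (orbitRel.Quotient D Ω) * Nat.card D :=
    burnside_natCard
  have hB' : ∑ d : D, Nat.card (fixedBy Ω d) =
      ∑ g ∈ Finset.univ.filter (fun g : G => g ∈ D), Nat.card (fixedBy Ω g) := by
    have h := Finset.sum_subtype (p := fun g : G => g ∈ D) (F := inferInstance)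
      (Finset.univ.filter (fun g : G => g ∈ D)) (by simp) (fun g => Nat.card (fixedBy Ω g))
    rw [h]
    apply Finset.sum_congr
    · ext; simp
    · intro x _; rfl
  have hsplit : ∑ g : G, Nat.card (fixedBy Ω g) =
      ∑ g ∈ Finset.univ.filter (fun g : G => g ∈ D), Nat.card (fixedBy Ω g) +
      ∑ g ∈ Finset.univ.filter (fun g : G => g ∉ D), Nat.card (fixedBy Ω g) :=
    (Finset.sum_filter_add_sum_filter_not _ _ _).symm
  have hge : ∀ g : G, g ∉ D → 1 ≤ Nat.card (fixedBy Ω g) := by
    intro g hg
    have : ¬ ∀ ω : Ω, g • ω ≠ ω := fun h => hg (hD g h)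
    push Not at this
    obtain ⟨ω, hω⟩ := this
    have : Nonempty (fixedBy Ω g) := ⟨⟨ω, hω⟩⟩
    exact Nat.card_pos
  have hout : ∑ g ∈ Finset.univ.filter (fun g : G => g ∉ D), 1 ≤
      ∑ g ∈ Finset.univ.filter (fun g : G => g ∉ D), Nat.card (fixedBy Ω g) := by
    apply Finset.sum_le_sum
    intro g hg
    exact hge g (Finset.mem_filter.mp hg).2
  have hcount : (Finset.univ.filter (fun g : G => g ∈ D)).card +
      (Finset.univ.filter (fun g : G => g ∉ D)).card = Fintype.card G := by
    rw [Finset.card_filter_add_card_filter_not, Finset.card_univ]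
  have hcardD : (Finset.univ.filter (fun g : G => g ∈ D)).card = Nat.card D := by
    rw [Nat.card_eq_fintype_card, Fintype.card_subtype]
  have hk : 1 ≤ Nat.card (orbitRel.Quotient D Ω) := by
    obtain ⟨x⟩ := (inferInstance : Nonempty Ω)
    have : Nonempty (orbitRel.Quotient D Ω) := ⟨Quotient.mk'' x⟩
    exact Nat.card_pos
  have hDpos : 0 < Nat.card D := Nat.card_pos
  rw [Finset.sum_const, smul_eq_mul, mul_one] at hout
  rw [Nat.card_eq_fintype_card (α := G)] at hA
  set k := Nat.card (orbitRel.Quotient D Ω) with hkdef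
  set S := ∑ g ∈ Finset.univ.filter (fun g : G => g ∉ D), Nat.card (fixedBy Ω g) with hS
  have hmain : k * Nat.card D + S = Fintype.card G := by
    rw [← hB, hB', ← hsplit, hA]
  have hk1 : k = 1 := by
    by_contra hne
    have : 2 ≤ k := by omega
    have : 2 * Nat.card D ≤ k * Nat.card D := Nat.mul_le_mul_right _ this
    omega
  constructor
  · rw [pretransitive_iff_subsingleton_quotient]
    exact (Nat.card_eq_one_iff_unique.mp hk1).1
  · have hSeq : S = ∑ g ∈ Finset.univ.filter (fun g : G => g ∉ D), 1 := by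
      rw [Finset.sum_const, smul_eq_mul, mul_one]
      rw [hk1] at hmain
      omega
    intro g hg
    have := (Finset.sum_eq_sum_iff_of_le (s := Finset.univ.filter (fun g : G => g ∉ D))
      (f := fun _ => 1) (g := fun g => Nat.card (fixedBy Ω g))
      (fun i hi => hge i (Finset.mem_filter.mp hi).2)).mp hSeq.symm
    exact (this g (Finset.mem_filter.mpr ⟨Finset.mem_univ g, hg⟩)).symm

end Cfsg.Agent.Helper4
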