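import Mathlib
import Cfsg.Agent.Helper4.DerangementSubgroup

set_option autoImplicit false

namespace Cfsg.Agent.Helper4

open MulAction

theorem card_fixedBy_prod {G Ω : Type*} [Group G] [MulAction G Ω] (g : G) :
    Nat.card (fixedBy (Ω × Ω) g) = Nat.card (fixedBy Ω g) ^ 2 := by
  rw [sq, ← Nat.card_prod]
  apply Nat.card_congr
  refine ⟨fun x => ⟨⟨x.1.1, ?_⟩, ⟨x.1.2, ?_⟩⟩, fun y => ⟨(y.1.1, y.2.1), ?_⟩, ?_, ?_⟩
  · have := x.2
    rw [mem_fixedBy, Prod.smul_def] at this
    exact congrArg Prod.fst this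
  · have := x.2
    rw [mem_fixedBy, Prod.smul_def] at this
    exact congrArg Prod.snd this
  · rw [mem_fixedBy, Prod.smul_def]
    exact Prod.ext y.1.2 y.2.2
  · intro x; rfl
  · intro y; rfl

theorem sum_eq_sum_subgroup_add {G : Type*} [Group G] [Fintype G] (D : Subgroup G)
    [DecidablePred (· ∈ D)] [Fintype D] (F : G → ℕ) :
    ∑ g : G, F g = ∑ d : D, F d + ∑ g ∈ Finset.univ.filter (fun g : G => g ∉ D), F g := by
  classical
  have hB' : ∑ d : D, F d = ∑ g ∈ Finset.univ.filter (fun g : G => g ∈ D), F g := by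
    have h := Finset.sum_subtype (p := fun g : G => g ∈ D) (F := inferInstance)
      (Finset.univ.filter (fun g : G => g ∈ D)) (by simp) F
    rw [h]
  rw [hB']
  exact (Finset.sum_filter_add_sum_filter_not _ _ _).symm

theorem rank_formula_aux {G Ω : Type*} [Group G] [Finite G] [MulAction G Ω] [Finite Ω]
    [Nonempty Ω] [IsPretransitive G Ω] (D : Subgroup G)
    (hD : ∀ g : G, (∀ ω : Ω, g • ω ≠ ω) → g ∈ D) :
    Nat.card (orbitRel.Quotient D (Ω × Ω)) - 1 =
      (Nat.card (orbitRel.Quotient G (Ω × Ω)) - 1) * D.index := by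
  classical
  have : Fintype G := Fintype.ofFinite G
  obtain ⟨hDtrans, hfix⟩ := derangement_subgroup_aux (G := G) (Ω := Ω) D hD
  have h1 : ∑ g : G, Nat.card (fixedBy Ω g) = Nat.card G := burnside_transitive
  have h2 : ∑ d : D, Nat.card (fixedBy Ω d) = Nat.card D := burnside_transitive
  have h3 : ∑ g : G, Nat.card (fixedBy (Ω × Ω) g) =
      Nat.card (orbitRel.Quotient G (Ω × Ω)) * Nat.card G := burnside_natCard
  have h4 : ∑ d : D, Nat.card (fixedBy (Ω × Ω) d) =
      Nat.card (orbitRel.Quotient D (Ω × Ω)) * Nat.card D := burnside_natCard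
  have h2' : ∑ d : D, Nat.card (fixedBy Ω (d : G)) = Nat.card D := h2
  have h4' : ∑ d : D, Nat.card (fixedBy (Ω × Ω) (d : G)) =
      Nat.card (orbitRel.Quotient D (Ω × Ω)) * Nat.card D := h4
  rw [sum_eq_sum_subgroup_add D, h2'] at h1
  rw [sum_eq_sum_subgroup_add D, h4'] at h3
  have hN : ∑ g ∈ Finset.univ.filter (fun g : G => g ∉ D), Nat.card (fixedBy (Ω × Ω) g) =
      ∑ g ∈ Finset.univ.filter (fun g : G => g ∉ D), Nat.card (fixedBy Ω g) := by
    apply Finset.sum_congr rfl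
    intro g hg
    rw [card_fixedBy_prod, hfix g (Finset.mem_filter.mp hg).2, one_pow]
  rw [hN] at h3
  set N := ∑ g ∈ Finset.univ.filter (fun g : G => g ∉ D), Nat.card (fixedBy Ω g)
  have hrG : 1 ≤ Nat.card (orbitRel.Quotient G (Ω × Ω)) := by
    obtain ⟨x⟩ := (inferInstance : Nonempty Ω)
    have : Nonempty (orbitRel.Quotient G (Ω × Ω)) := ⟨Quotient.mk'' (x, x)⟩
    exact Nat.card_pos
  have hrD : 1 ≤ Nat.card (orbitRel.Quotient D (Ω × Ω)) := by
    obtain ⟨x⟩ := (inferInstance : Nonempty Ω)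
    have : Nonempty (orbitRel.Quotient D (Ω × Ω)) := ⟨Quotient.mk'' (x, x)⟩
    exact Nat.card_pos
  generalize Nat.card (orbitRel.Quotient G (Ω × Ω)) = rG at *
  generalize Nat.card (orbitRel.Quotient D (Ω × Ω)) = rD at *
  obtain ⟨a, rfl⟩ := Nat.exists_eq_add_of_le' hrG
  obtain ⟨b, rfl⟩ := Nat.exists_eq_add_of_le' hrD
  simp only [Nat.add_sub_cancel]
  have hidx : D.index * Nat.card D = Nat.card G := D.index_mul_card
  have hDpos : 0 < Nat.card D := Nat.card_pos
  have key : a * Nat.card G = b * Nat.card D := by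
    have e1 : (a + 1) * Nat.card G = a * Nat.card G + Nat.card G := by ring
    have e2 : (b + 1) * Nat.card D = b * Nat.card D + Nat.card D := by ring
    omega
  rw [← hidx, ← mul_assoc] at key
  exact (Nat.eq_of_mul_eq_mul_right hDpos key).symm

end Cfsg.Agent.Helper4
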