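import Mathlib
import Cfsg.Prelude.Def_FusionComponents

set_option autoImplicit false

/-!
Transport of structure for fusion systems, part A: the graph of a partial isomorphism
`e : ↥W ≃* ↥W'` between subgroups of two ambient groups, images of subgroups, and the relation
"the homomorphism `φ'` is induced by `φ`".
-/

namespace Cfsg.Agent.Helper4.FusTr

open Cfsg Cfsg.FusionSystem

variable {Ω : Type*} [Group Ω] {Ω' : Type*} [Group Ω'] {W : Subgroup Ω} {W' : Subgroup Ω'}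

/-- The graph of the partial isomorphism `e`. -/
def rel (e : ↥W ≃* ↥W') (x : Ω) (y : Ω') : Prop :=
  ∃ hx : x ∈ W, ((e ⟨x, hx⟩ : ↥W') : Ω') = y

theorem rel_mk (e : ↥W ≃* ↥W') (x : ↥W) : rel e (x : Ω) ((e x : ↥W') : Ω') := ⟨x.2, rfl⟩

theorem rel_of_mem (e : ↥W ≃* ↥W') {x : Ω} (hx : x ∈ W) : rel e x ((e ⟨x, hx⟩ : ↥W') : Ω') :=
  ⟨hx, rfl⟩

theorem rel.mem_left {e : ↥W ≃* ↥W'} {x : Ω} {y : Ω'} (h : rel e x y) : x ∈ W := h.1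

theorem rel.mem_right {e : ↥W ≃* ↥W'} {x : Ω} {y : Ω'} (h : rel e x y) : y ∈ W' := by
  obtain ⟨hx, rfl⟩ := h
  exact (e ⟨x, hx⟩).2

theorem rel_symm (e : ↥W ≃* ↥W') {x : Ω} {y : Ω'} : rel e.symm y x ↔ rel e x y := by
  constructor
  · rintro ⟨hy, rfl⟩
    refine ⟨(e.symm ⟨y, hy⟩).2, ?_⟩
    have : (⟨((e.symm ⟨y, hy⟩ : ↥W) : Ω), (e.symm ⟨y, hy⟩).2⟩ : ↥W) = e.symm ⟨y, hy⟩ := rfl
    rw [this, MulEquiv.apply_symm_apply]
  · rintro ⟨hx, rfl⟩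
    refine ⟨(e ⟨x, hx⟩).2, ?_⟩
    have : (⟨((e ⟨x, hx⟩ : ↥W') : Ω'), (e ⟨x, hx⟩).2⟩ : ↥W') = e ⟨x, hx⟩ := rfl
    rw [this, MulEquiv.symm_apply_apply]

theorem rel.symm {e : ↥W ≃* ↥W'} {x : Ω} {y : Ω'} (h : rel e x y) : rel e.symm y x :=
  (rel_symm e).mpr h

theorem rel.of_symm {e : ↥W ≃* ↥W'} {x : Ω} {y : Ω'} (h : rel e.symm y x) : rel e x y :=
  (rel_symm e).mp h

theorem rel.unique_right {e : ↥W ≃* ↥W'} {x : Ω} {y₁ y₂ : Ω'} (h₁ : rel e x y₁)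
    (h₂ : rel e x y₂) : y₁ = y₂ := by
  obtain ⟨hx, rfl⟩ := h₁
  obtain ⟨hx', rfl⟩ := h₂
  rfl

theorem rel.unique_left {e : ↥W ≃* ↥W'} {x₁ x₂ : Ω} {y : Ω'} (h₁ : rel e x₁ y)
    (h₂ : rel e x₂ y) : x₁ = x₂ :=
  rel.unique_right h₁.symm h₂.symm

theorem rel_one (e : ↥W ≃* ↥W') : rel e (1 : Ω) (1 : Ω') := by
  refine ⟨W.one_mem, ?_⟩
  have : (⟨1, W.one_mem⟩ : ↥W) = 1 := rfl
  rw [this, map_one]
  rfl

theorem rel.mul {e : ↥W ≃* ↥W'} {x₁ x₂ : Ω} {y₁ y₂ : Ω'} (h₁ : rel e x₁ y₁)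
    (h₂ : rel e x₂ y₂) : rel e (x₁ * x₂) (y₁ * y₂) := by
  obtain ⟨hx₁, rfl⟩ := h₁
  obtain ⟨hx₂, rfl⟩ := h₂
  refine ⟨W.mul_mem hx₁ hx₂, ?_⟩
  have : (⟨x₁ * x₂, W.mul_mem hx₁ hx₂⟩ : ↥W) = ⟨x₁, hx₁⟩ * ⟨x₂, hx₂⟩ := rfl
  rw [this, map_mul]
  rfl

theorem rel.inv {e : ↥W ≃* ↥W'} {x : Ω} {y : Ω'} (h : rel e x y) : rel e x⁻¹ y⁻¹ := by
  obtain ⟨hx, rfl⟩ := h
  refine ⟨W.inv_mem hx, ?_⟩
  have : (⟨x⁻¹, W.inv_mem hx⟩ : ↥W) = ⟨x, hx⟩⁻¹ := rfl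
  rw [this, map_inv]
  rfl

theorem rel.conj {e : ↥W ≃* ↥W'} {g x : Ω} {g' y : Ω'} (hg : rel e g g') (h : rel e x y) :
    rel e (g * x * g⁻¹) (g' * y * g'⁻¹) :=
  (hg.mul h).mul hg.inv

theorem rel.pow {e : ↥W ≃* ↥W'} {x : Ω} {y : Ω'} (h : rel e x y) (n : ℕ) :
    rel e (x ^ n) (y ^ n) := by
  induction n with
  | zero => simpa using rel_one e
  | succ n ih => rw [pow_succ, pow_succ]; exact ih.mul h

theorem rel.eq_one_iff {e : ↥W ≃* ↥W'} {x : Ω} {y : Ω'} (h : rel e x y) : x = 1 ↔ y = 1 := by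
  constructor
  · rintro rfl
    exact rel.unique_right h (rel_one e)
  · rintro rfl
    exact rel.unique_left h (rel_one e)

theorem exists_rel_right (e : ↥W ≃* ↥W') {x : Ω} (hx : x ∈ W) : ∃ y, rel e x y :=
  ⟨_, rel_of_mem e hx⟩

theorem exists_rel_left (e : ↥W ≃* ↥W') {y : Ω'} (hy : y ∈ W') : ∃ x, rel e x y := by
  obtain ⟨x, hx⟩ := exists_rel_right e.symm hy
  exact ⟨x, hx.of_symm⟩

/-! ### Images of subgroups -/

/-- The image of (the part inside `W` of) a subgroup under the partial isomorphism. -/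
def mapS (e : ↥W ≃* ↥W') (P : Subgroup Ω) : Subgroup Ω' :=
  (P.subgroupOf W).map (W'.subtype.comp e.toMonoidHom)

theorem mapS_eq_imageAlong (e : ↥W ≃* ↥W') (P : Subgroup Ω) :
    mapS e P = imageAlong (W'.subtype.comp e.toMonoidHom) P := rfl

theorem mem_mapS (e : ↥W ≃* ↥W') (P : Subgroup Ω) (y : Ω') :
    y ∈ mapS e P ↔ ∃ x ∈ P, rel e x y := by
  unfold mapS
  constructor
  · rintro ⟨m, hm, rfl⟩
    rw [SetLike.mem_coe, Subgroup.mem_subgroupOf] at hm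
    exact ⟨m.1, hm, m.2, rfl⟩
  · rintro ⟨x, hx, hxW, rfl⟩
    refine ⟨⟨x, hxW⟩, ?_, rfl⟩
    rw [SetLike.mem_coe, Subgroup.mem_subgroupOf]
    exact hx

theorem mapS_le (e : ↥W ≃* ↥W') (P : Subgroup Ω) : mapS e P ≤ W' := by
  intro y hy
  obtain ⟨x, -, hxy⟩ := (mem_mapS e P y).mp hy
  exact hxy.mem_right

theorem mapS_mono (e : ↥W ≃* ↥W') {P Q : Subgroup Ω} (h : P ≤ Q) : mapS e P ≤ mapS e Q := by
  intro y hy
  obtain ⟨x, hx, hxy⟩ := (mem_mapS e P y).mp hy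
  exact (mem_mapS e Q y).mpr ⟨x, h hx, hxy⟩

theorem mapS_symm_mapS (e : ↥W ≃* ↥W') {P : Subgroup Ω} (hP : P ≤ W) :
    mapS e.symm (mapS e P) = P := by
  ext x
  rw [mem_mapS]
  constructor
  · rintro ⟨y, hy, hyx⟩
    obtain ⟨x₂, hx₂, hxy⟩ := (mem_mapS e P y).mp hy
    rw [rel.unique_left hyx.of_symm hxy]
    exact hx₂
  · intro hx
    obtain ⟨y, hy⟩ := exists_rel_right e (hP hx)
    exact ⟨y, (mem_mapS e P y).mpr ⟨x, hx, hy⟩, hy.symm⟩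

theorem mapS_mapS_symm (e : ↥W ≃* ↥W') {P' : Subgroup Ω'} (hP' : P' ≤ W') :
    mapS e (mapS e.symm P') = P' := by
  ext y
  rw [mem_mapS]
  constructor
  · rintro ⟨x, hx, hxy⟩
    obtain ⟨y₂, hy₂, hyx⟩ := (mem_mapS e.symm P' x).mp hx
    rw [rel.unique_right hxy hyx.of_symm]
    exact hy₂
  · intro hy
    obtain ⟨x, hx⟩ := exists_rel_left e (hP' hy)
    exact ⟨x, (mem_mapS e.symm P' x).mpr ⟨y, hy, hx.symm⟩, hx⟩

theorem mapS_le_mapS_iff (e : ↥W ≃* ↥W') {P Q : Subgroup Ω} (hP : P ≤ W) (hQ : Q ≤ W) :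
    mapS e P ≤ mapS e Q ↔ P ≤ Q := by
  constructor
  · intro h
    have := mapS_mono e.symm h
    rwa [mapS_symm_mapS e hP, mapS_symm_mapS e hQ] at this
  · exact mapS_mono e

theorem mapS_injective (e : ↥W ≃* ↥W') {P Q : Subgroup Ω} (hP : P ≤ W) (hQ : Q ≤ W)
    (h : mapS e P = mapS e Q) : P = Q := by
  rw [← mapS_symm_mapS e hP, h, mapS_symm_mapS e hQ]

theorem mapS_self (e : ↥W ≃* ↥W') : mapS e W = W' := by
  apply le_antisymm (mapS_le e W)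
  intro y hy
  obtain ⟨x, hx⟩ := exists_rel_left e hy
  exact (mem_mapS e W y).mpr ⟨x, hx.mem_left, hx⟩

theorem mapS_bot (e : ↥W ≃* ↥W') : mapS e ⊥ = ⊥ := by
  rw [eq_bot_iff]
  intro y hy
  obtain ⟨x, hx, hxy⟩ := (mem_mapS e ⊥ y).mp hy
  rw [Subgroup.mem_bot] at hx ⊢
  exact hxy.eq_one_iff.mp hx

theorem mapS_eq_bot_iff (e : ↥W ≃* ↥W') {P : Subgroup Ω} (hP : P ≤ W) :
    mapS e P = ⊥ ↔ P = ⊥ := by
  constructor
  · intro h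
    apply mapS_injective e hP bot_le
    rw [h, mapS_bot]
  · rintro rfl
    exact mapS_bot e

theorem mapS_sup (e : ↥W ≃* ↥W') {P Q : Subgroup Ω} (hP : P ≤ W) (hQ : Q ≤ W) :
    mapS e (P ⊔ Q) = mapS e P ⊔ mapS e Q := by
  apply le_antisymm
  · have h1 : P ≤ mapS e.symm (mapS e P ⊔ mapS e Q) := by
      have := mapS_mono e.symm (le_sup_left : mapS e P ≤ mapS e P ⊔ mapS e Q)
      rwa [mapS_symm_mapS e hP] at this
    have h2 : Q ≤ mapS e.symm (mapS e P ⊔ mapS e Q) := by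
      have := mapS_mono e.symm (le_sup_right : mapS e Q ≤ mapS e P ⊔ mapS e Q)
      rwa [mapS_symm_mapS e hQ] at this
    have h3 := mapS_mono e (sup_le h1 h2)
    rwa [mapS_mapS_symm e (sup_le (mapS_le e P) (mapS_le e Q))] at h3
  · exact sup_le (mapS_mono e le_sup_left) (mapS_mono e le_sup_right)

theorem mapS_inf (e : ↥W ≃* ↥W') (P Q : Subgroup Ω) :
    mapS e (P ⊓ Q) = mapS e P ⊓ mapS e Q := by
  apply le_antisymm
  · exact le_inf (mapS_mono e inf_le_left) (mapS_mono e inf_le_right)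
  · intro y hy
    obtain ⟨hy1, hy2⟩ := Subgroup.mem_inf.mp hy
    obtain ⟨x, hx, hxy⟩ := (mem_mapS e P y).mp hy1
    obtain ⟨x₂, hx₂, hxy₂⟩ := (mem_mapS e Q y).mp hy2
    have : x₂ = x := rel.unique_left hxy₂ hxy
    subst this
    exact (mem_mapS e _ y).mpr ⟨x₂, Subgroup.mem_inf.mpr ⟨hx, hx₂⟩, hxy⟩

theorem mem_mapS_of_rel (e : ↥W ≃* ↥W') {P : Subgroup Ω} {x : Ω} {y : Ω'} (h : rel e x y)
    (hx : x ∈ P) : y ∈ mapS e P :=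
  (mem_mapS e P y).mpr ⟨x, hx, h⟩

theorem mem_of_rel_of_mem_mapS (e : ↥W ≃* ↥W') {P : Subgroup Ω} {x : Ω} {y : Ω'}
    (h : rel e x y) (hy : y ∈ mapS e P) : x ∈ P := by
  obtain ⟨x₂, hx₂, hxy₂⟩ := (mem_mapS e P y).mp hy
  rw [rel.unique_left h hxy₂]
  exact hx₂

theorem mapS_centralizerIn (e : ↥W ≃* ↥W') {S T : Subgroup Ω} (hS : S ≤ W) (hT : T ≤ W) :
    mapS e (centralizerIn S T) = centralizerIn (mapS e S) (mapS e T) := by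
  ext y
  unfold centralizerIn
  rw [mem_mapS, Subgroup.mem_inf, Subgroup.mem_centralizer_iff]
  constructor
  · rintro ⟨x, hx, hxy⟩
    obtain ⟨hxS, hxc⟩ := Subgroup.mem_inf.mp hx
    rw [Subgroup.mem_centralizer_iff] at hxc
    refine ⟨mem_mapS_of_rel e hxy hxS, fun t' ht' => ?_⟩
    obtain ⟨t, ht, htt'⟩ := (mem_mapS e T t').mp ht'
    have h1 := htt'.mul hxy
    have h2 := hxy.mul htt'
    rw [hxc t ht] at h1
    exact rel.unique_right h1 h2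
  · rintro ⟨hyS, hyc⟩
    obtain ⟨x, hx, hxy⟩ := (mem_mapS e S y).mp hyS
    refine ⟨x, Subgroup.mem_inf.mpr ⟨hx, ?_⟩, hxy⟩
    rw [Subgroup.mem_centralizer_iff]
    intro t ht
    obtain ⟨t', htt'⟩ := exists_rel_right e (hT ht)
    have h1 := htt'.mul hxy
    have h2 := hxy.mul htt'
    rw [hyc t' (mem_mapS_of_rel e htt' ht)] at h1
    exact rel.unique_left h1 h2

/-! ### The induced isomorphism between a subgroup and its image -/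

/-- The isomorphism `P ≃ P'` induced by `e`, for `P ≤ W` and `P' = e(P)`. -/
noncomputable def pe (e : ↥W ≃* ↥W') {P : Subgroup Ω} (hP : P ≤ W) {P' : Subgroup Ω'}
    (h : P' = mapS e P) : ↥P ≃* ↥P' :=
  MulEquiv.ofBijective
    (((W'.subtype.comp e.toMonoidHom).comp (Subgroup.inclusion hP)).codRestrict P'
      (fun x => by
        rw [h]
        exact mem_mapS_of_rel e (rel_of_mem e (hP x.2)) x.2))
    (by
      constructor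
      · intro a b hab
        have h0 := congrArg Subtype.val hab
        have h1 : ((e ⟨a, hP a.2⟩ : ↥W') : Ω') = ((e ⟨b, hP b.2⟩ : ↥W') : Ω') := h0
        have h2 : (⟨(a : Ω), hP a.2⟩ : ↥W) = ⟨(b : Ω), hP b.2⟩ := e.injective (Subtype.ext h1)
        have h3 := congrArg Subtype.val h2
        exact Subtype.ext h3
      · rintro ⟨y, hy⟩
        have hy' := hy
        rw [h] at hy'
        obtain ⟨x, hx, hxW, hxy⟩ := (mem_mapS e P y).mp hy'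
        exact ⟨⟨x, hx⟩, Subtype.ext hxy⟩)

theorem rel_pe (e : ↥W ≃* ↥W') {P : Subgroup Ω} (hP : P ≤ W) {P' : Subgroup Ω'}
    (h : P' = mapS e P) (x : ↥P) : rel e (x : Ω) ((pe e hP h x : ↥P') : Ω') :=
  ⟨hP x.2, rfl⟩

theorem rel_pe_symm (e : ↥W ≃* ↥W') {P : Subgroup Ω} (hP : P ≤ W) {P' : Subgroup Ω'}
    (h : P' = mapS e P) (y : ↥P') : rel e (((pe e hP h).symm y : ↥P) : Ω) (y : Ω') := by
  have := rel_pe e hP h ((pe e hP h).symm y)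
  rwa [MulEquiv.apply_symm_apply] at this

theorem pe_eq_iff (e : ↥W ≃* ↥W') {P : Subgroup Ω} (hP : P ≤ W) {P' : Subgroup Ω'}
    (h : P' = mapS e P) (x : ↥P) (y : ↥P') : pe e hP h x = y ↔ rel e (x : Ω) (y : Ω') := by
  constructor
  · rintro rfl
    exact rel_pe e hP h x
  · intro hxy
    exact Subtype.ext (rel.unique_right (rel_pe e hP h x) hxy)

theorem exists_rel_of_eq_mapS (e : ↥W ≃* ↥W') {P : Subgroup Ω} (hP : P ≤ W) {P' : Subgroup Ω'}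
    (h : P' = mapS e P) (x : ↥P) : ∃ y : ↥P', rel e (x : Ω) (y : Ω') :=
  ⟨pe e hP h x, rel_pe e hP h x⟩

theorem exists_rel_of_eq_mapS' (e : ↥W ≃* ↥W') {P : Subgroup Ω} (hP : P ≤ W) {P' : Subgroup Ω'}
    (h : P' = mapS e P) (y : ↥P') : ∃ x : ↥P, rel e (x : Ω) (y : Ω') :=
  ⟨(pe e hP h).symm y, rel_pe_symm e hP h y⟩

/-! ### Induced homomorphisms -/

/-- `φ'`, with source `P' = e(P)`, is the homomorphism induced by `φ` through `e`. -/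
structure Ind (e : ↥W ≃* ↥W') {P : Subgroup Ω} (φ : ↥P →* Ω) {P' : Subgroup Ω'}
    (φ' : ↥P' →* Ω') : Prop where
  le : P ≤ W
  eq : P' = mapS e P
  app' : ∀ (x : ↥P) (y : ↥P'), rel e (x : Ω) (y : Ω') → rel e (φ x) (φ' y)

theorem Ind.symm {e : ↥W ≃* ↥W'} {P : Subgroup Ω} {φ : ↥P →* Ω} {P' : Subgroup Ω'}
    {φ' : ↥P' →* Ω'} (h : Ind e φ φ') : Ind e.symm φ' φ := by
  obtain ⟨hP, hP', hrel⟩ := h
  refine ⟨hP' ▸ mapS_le e P, ?_, fun y x hyx => (hrel x y hyx.of_symm).symm⟩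
  rw [hP', mapS_symm_mapS e hP]

theorem Ind.of_symm {e : ↥W ≃* ↥W'} {P : Subgroup Ω} {φ : ↥P →* Ω} {P' : Subgroup Ω'}
    {φ' : ↥P' →* Ω'} (h : Ind e.symm φ' φ) : Ind e φ φ' := by
  obtain ⟨hP', hP, hrel⟩ := h
  refine ⟨hP ▸ mapS_le e.symm P', ?_, fun x y hxy => (hrel y x hxy.symm).of_symm⟩
  rw [hP, mapS_mapS_symm e hP']

theorem Ind.src_le {e : ↥W ≃* ↥W'} {P : Subgroup Ω} {φ : ↥P →* Ω} {P' : Subgroup Ω'}
    {φ' : ↥P' →* Ω'} (h : Ind e φ φ') : P ≤ W := h.1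

theorem Ind.src_eq {e : ↥W ≃* ↥W'} {P : Subgroup Ω} {φ : ↥P →* Ω} {P' : Subgroup Ω'}
    {φ' : ↥P' →* Ω'} (h : Ind e φ φ') : P' = mapS e P := h.eq

theorem Ind.src_eq' {e : ↥W ≃* ↥W'} {P : Subgroup Ω} {φ : ↥P →* Ω} {P' : Subgroup Ω'}
    {φ' : ↥P' →* Ω'} (h : Ind e φ φ') : P = mapS e.symm P' := h.symm.eq

theorem Ind.app {e : ↥W ≃* ↥W'} {P : Subgroup Ω} {φ : ↥P →* Ω} {P' : Subgroup Ω'}
    {φ' : ↥P' →* Ω'} (h : Ind e φ φ') {x : ↥P} {y : ↥P'} (hxy : rel e (x : Ω) (y : Ω')) :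
    rel e (φ x) (φ' y) := h.app' x y hxy

theorem Ind.map_mem_left {e : ↥W ≃* ↥W'} {P : Subgroup Ω} {φ : ↥P →* Ω} {P' : Subgroup Ω'}
    {φ' : ↥P' →* Ω'} (h : Ind e φ φ') (x : ↥P) : φ x ∈ W := by
  obtain ⟨y, hy⟩ := exists_rel_of_eq_mapS e h.1 h.eq x
  exact (h.app hy).mem_left

theorem Ind.map_mem_right {e : ↥W ≃* ↥W'} {P : Subgroup Ω} {φ : ↥P →* Ω} {P' : Subgroup Ω'}
    {φ' : ↥P' →* Ω'} (h : Ind e φ φ') (y : ↥P') : φ' y ∈ W' :=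
  h.symm.map_mem_left y

/-- Existence of the induced homomorphism. -/
theorem Ind.exists (e : ↥W ≃* ↥W') {P : Subgroup Ω} (φ : ↥P →* Ω) (hP : P ≤ W)
    (hφ : ∀ x : ↥P, φ x ∈ W) {P' : Subgroup Ω'} (h : P' = mapS e P) :
    ∃ φ' : ↥P' →* Ω', Ind e φ φ' := by
  refine ⟨(W'.subtype.comp e.toMonoidHom).comp
    ((φ.codRestrict W hφ).comp (pe e hP h).symm.toMonoidHom), hP, h, fun x y hxy => ?_⟩
  have hx : (pe e hP h).symm y = x := by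
    rw [MulEquiv.symm_apply_eq, eq_comm, pe_eq_iff]
    exact hxy
  show rel e (φ x) ((e ⟨φ ((pe e hP h).symm y), hφ _⟩ : ↥W') : Ω')
  rw [hx]
  exact rel_of_mem e (hφ x)

theorem Ind.unique_right {e : ↥W ≃* ↥W'} {P : Subgroup Ω} {φ : ↥P →* Ω} {P' : Subgroup Ω'}
    {φ'₁ φ'₂ : ↥P' →* Ω'} (h₁ : Ind e φ φ'₁) (h₂ : Ind e φ φ'₂) : φ'₁ = φ'₂ := by
  ext y
  obtain ⟨x, hx⟩ := exists_rel_of_eq_mapS' e h₁.1 h₁.eq y
  exact rel.unique_right (h₁.app hx) (h₂.app hx)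

theorem Ind.unique_left {e : ↥W ≃* ↥W'} {P : Subgroup Ω} {φ₁ φ₂ : ↥P →* Ω} {P' : Subgroup Ω'}
    {φ' : ↥P' →* Ω'} (h₁ : Ind e φ₁ φ') (h₂ : Ind e φ₂ φ') : φ₁ = φ₂ :=
  Ind.unique_right h₁.symm h₂.symm

theorem Ind.injective {e : ↥W ≃* ↥W'} {P : Subgroup Ω} {φ : ↥P →* Ω} {P' : Subgroup Ω'}
    {φ' : ↥P' →* Ω'} (h : Ind e φ φ') (hinj : Function.Injective φ) : Function.Injective φ' := by
  rw [injective_iff_map_eq_one]
  intro y hy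
  obtain ⟨x, hx⟩ := exists_rel_of_eq_mapS' e h.1 h.eq y
  have h1 := h.app hx
  rw [hy] at h1
  have h2 : φ x = 1 := h1.eq_one_iff.mpr rfl
  have h3 : x = 1 := by
    apply hinj
    rw [h2, map_one]
  rw [h3] at hx
  apply Subtype.ext
  exact hx.eq_one_iff.mp rfl

theorem Ind.conj (e : ↥W ≃* ↥W') {P : Subgroup Ω} (hP : P ≤ W) {P' : Subgroup Ω'}
    (h : P' = mapS e P) {g : Ω} {g' : Ω'} (hg : rel e g g') :
    Ind e (conjHom P g) (conjHom P' g') :=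
  ⟨hP, h, fun _ _ hxy => hg.conj hxy⟩

theorem Ind.subtype (e : ↥W ≃* ↥W') {P : Subgroup Ω} (hP : P ≤ W) {P' : Subgroup Ω'}
    (h : P' = mapS e P) : Ind e P.subtype P'.subtype :=
  ⟨hP, h, fun _ _ hxy => hxy⟩

theorem Ind.map_mem {e : ↥W ≃* ↥W'} {P : Subgroup Ω} {φ : ↥P →* Ω} {P' : Subgroup Ω'}
    {φ' : ↥P' →* Ω'} (h : Ind e φ φ') {Q : Subgroup Ω} (hQ : ∀ x : ↥P, φ x ∈ Q) (y : ↥P') :
    φ' y ∈ mapS e Q := by
  obtain ⟨x, hx⟩ := exists_rel_of_eq_mapS' e h.1 h.eq y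
  exact mem_mapS_of_rel e (h.app hx) (hQ x)

theorem Ind.map_mem' {e : ↥W ≃* ↥W'} {P : Subgroup Ω} {φ : ↥P →* Ω} {P' : Subgroup Ω'}
    {φ' : ↥P' →* Ω'} (h : Ind e φ φ') {Q : Subgroup Ω} (hQ : ∀ y : ↥P', φ' y ∈ mapS e Q)
    (x : ↥P) : φ x ∈ Q := by
  obtain ⟨y, hy⟩ := exists_rel_of_eq_mapS e h.1 h.eq x
  exact mem_of_rel_of_mem_mapS e (h.app hy) (hQ y)

theorem Ind.comp {e : ↥W ≃* ↥W'} {P Q : Subgroup Ω} {φ : ↥P →* Ω} {ψ : ↥Q →* Ω}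
    {P' Q' : Subgroup Ω'} {φ' : ↥P' →* Ω'} {ψ' : ↥Q' →* Ω'} (hφ : Ind e φ φ')
    (hψ : Ind e ψ ψ') (h : ∀ x : ↥P, φ x ∈ Q) (h' : ∀ y : ↥P', φ' y ∈ Q') :
    Ind e (ψ.comp (φ.codRestrict Q h)) (ψ'.comp (φ'.codRestrict Q' h')) := by
  refine ⟨hφ.1, hφ.eq, fun x y hxy => ?_⟩
  have h1 := hφ.app hxy
  exact hψ.app (x := ⟨φ x, h x⟩) (y := ⟨φ' y, h' y⟩) h1

theorem Ind.restrict {e : ↥W ≃* ↥W'} {P R : Subgroup Ω} {φ : ↥P →* Ω}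
    {P' R' : Subgroup Ω'} {φ' : ↥P' →* Ω'} (hφ : Ind e φ φ') (hRP : R ≤ P) (hRP' : R' ≤ P')
    (hR : R' = mapS e R) :
    Ind e (φ.comp (Subgroup.inclusion hRP)) (φ'.comp (Subgroup.inclusion hRP')) :=
  ⟨hRP.trans hφ.1, hR, fun x y hxy =>
    hφ.app (x := Subgroup.inclusion hRP x) (y := Subgroup.inclusion hRP' y) hxy⟩

theorem Ind.range {e : ↥W ≃* ↥W'} {P : Subgroup Ω} {φ : ↥P →* Ω} {P' : Subgroup Ω'}
    {φ' : ↥P' →* Ω'} (h : Ind e φ φ') : φ'.range = mapS e φ.range := by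
  ext z
  rw [mem_mapS]
  constructor
  · rintro ⟨y, rfl⟩
    obtain ⟨x, hx⟩ := exists_rel_of_eq_mapS' e h.1 h.eq y
    exact ⟨φ x, ⟨x, rfl⟩, h.app hx⟩
  · rintro ⟨_, ⟨x, rfl⟩, hxz⟩
    obtain ⟨y, hy⟩ := exists_rel_of_eq_mapS e h.1 h.eq x
    exact ⟨y, rel.unique_right (h.app hy) hxz⟩

/-- Relation with the Prelude's `InducedAlong`. -/
theorem Ind.inducedAlong {e : ↥W ≃* ↥W'} {P : Subgroup Ω} {φ : ↥P →* Ω} {P' : Subgroup Ω'}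
    {φ' : ↥P' →* Ω'} (h : Ind e φ φ') :
    InducedAlong (W'.subtype.comp e.toMonoidHom) φ φ' := by
  have hφW := h.map_mem_left
  obtain ⟨hP, rfl, happ⟩ := h
  have hmem : ∀ x : ↥P, ((e ⟨x, hP x.2⟩ : ↥W') : Ω') ∈ mapS e P := fun x =>
    mem_mapS_of_rel e (rel_of_mem e (hP x.2)) x.2
  refine ⟨hP, hφW, hmem, fun x => ?_⟩
  have h1 := happ x ⟨_, hmem x⟩ (rel_of_mem e (hP x.2))
  exact rel.unique_right h1 (rel_of_mem e (hφW x))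

theorem Ind.of_inducedAlong {e : ↥W ≃* ↥W'} {P : Subgroup Ω} {φ : ↥P →* Ω} {P' : Subgroup Ω'}
    {φ' : ↥P' →* Ω'} (h : InducedAlong (W'.subtype.comp e.toMonoidHom) φ φ')
    (hP' : P' = mapS e P) : Ind e φ φ' := by
  obtain ⟨hP, hφ, hPP', hind⟩ := h
  refine ⟨hP, hP', fun x y hxy => ?_⟩
  have h1 : y = ⟨(W'.subtype.comp e.toMonoidHom) ⟨x, hP x.2⟩, hPP' x⟩ :=
    Subtype.ext (rel.unique_right hxy (rel_of_mem e (hP x.2)))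
  rw [h1, hind x]
  exact rel_of_mem e (hφ x)

end Cfsg.Agent.Helper4.FusTr
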