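import Mathlib
import Cfsg.Prelude.Def_FusionComponents
import Cfsg.Agent.Lead.FusionFactor
import Cfsg.Agent.Lead.FusionInvariant
import Cfsg.Agent.Helper4.FusTrA

set_option autoImplicit false

/-!
Transport of structure for fusion systems, part B: the predicate "`E'` is the image of the fusion
system `E` under the partial isomorphism `e`", existence, uniqueness, symmetry, composition, and
the relation with `IsFactorSystem ⊥`.
-/

namespace Cfsg.Agent.Helper4.FusTr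

open Cfsg Cfsg.FusionSystem Cfsg.Agent.Lead

variable {Ω : Type*} [Group Ω] {Ω' : Type*} [Group Ω'] {W : Subgroup Ω} {W' : Subgroup Ω'}

/-- Two fusion systems over the same subgroup with the same maps are equal. -/
theorem fs_ext {S : Subgroup Ω} (F₁ F₂ : FusionSystem S) (h : ∀ P, F₁.Hom P = F₂.Hom P) :
    F₁ = F₂ := by
  cases F₁
  cases F₂
  simp only [FusionSystem.mk.injEq]
  funext P
  exact h P

/-- `E'` (over `T' = e(T)`) is the image of the fusion system `E` (over `T ≤ W`) under `e`. -/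
structure Img (e : ↥W ≃* ↥W') {T : Subgroup Ω} (E : FusionSystem T) {T' : Subgroup Ω'}
    (E' : FusionSystem T') : Prop where
  le : T ≤ W
  eq : T' = mapS e T
  iff' : ∀ {P : Subgroup Ω} {P' : Subgroup Ω'} {φ : ↥P →* Ω} {φ' : ↥P' →* Ω'}, P ≤ T →
    Ind e φ φ' → (φ ∈ E.Hom P ↔ φ' ∈ E'.Hom P')

section basic

variable {e : ↥W ≃* ↥W'} {T : Subgroup Ω} {E : FusionSystem T} {T' : Subgroup Ω'}
  {E' : FusionSystem T'}

theorem Img.le' (h : Img e E E') : T' ≤ W' := h.eq ▸ mapS_le e T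

theorem Img.eq' (h : Img e E E') : T = mapS e.symm T' := by
  rw [h.eq, mapS_symm_mapS e h.le]

theorem Img.iff (h : Img e E E') {P : Subgroup Ω} {P' : Subgroup Ω'} {φ : ↥P →* Ω}
    {φ' : ↥P' →* Ω'} (hi : Ind e φ φ') : φ ∈ E.Hom P ↔ φ' ∈ E'.Hom P' := by
  constructor
  · intro hφ
    exact (h.iff' (E.le_of_mem hφ).1 hi).mp hφ
  · intro hφ'
    have h1 : P' ≤ T' := (E'.le_of_mem hφ').1
    have h2 : P ≤ T := by
      rw [hi.src_eq', h.eq']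
      exact mapS_mono e.symm h1
    exact (h.iff' h2 hi).mpr hφ'

theorem Img.symm (h : Img e E E') : Img e.symm E' E :=
  ⟨h.le', h.eq', fun _ hi => (h.iff hi.of_symm).symm⟩

theorem Img.of_symm (h : Img e.symm E' E) : Img e E E' := by
  refine ⟨h.le', h.eq', fun _ hi => (h.iff hi.symm).symm⟩

theorem Img.push (h : Img e E E') {P : Subgroup Ω} {φ : ↥P →* Ω} (hφ : φ ∈ E.Hom P)
    {P' : Subgroup Ω'} (hP' : P' = mapS e P) : ∃ φ' ∈ E'.Hom P', Ind e φ φ' := by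
  obtain ⟨hPT, hφT⟩ := E.le_of_mem hφ
  obtain ⟨φ', hφ'⟩ := Ind.exists e φ (hPT.trans h.le) (fun x => h.le (hφT x)) hP'
  exact ⟨φ', (h.iff hφ').mp hφ, hφ'⟩

theorem Img.pull (h : Img e E E') {P' : Subgroup Ω'} {φ' : ↥P' →* Ω'} (hφ' : φ' ∈ E'.Hom P')
    {P : Subgroup Ω} (hP : P = mapS e.symm P') : ∃ φ ∈ E.Hom P, Ind e φ φ' := by
  obtain ⟨φ, hφ, hi⟩ := h.symm.push hφ' hP
  exact ⟨φ, hφ, hi.of_symm⟩

theorem Img.le_of_le (h : Img e E E') {P' : Subgroup Ω'} (hP' : P' ≤ T') :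
    mapS e.symm P' ≤ T := by
  rw [h.eq']
  exact mapS_mono e.symm hP'

theorem Img.mapS_le (h : Img e E E') {P : Subgroup Ω} (hP : P ≤ T) : mapS e P ≤ T' := by
  rw [h.eq]
  exact mapS_mono e hP

/-- The image is unique. -/
theorem Img.hom_eq {T'₂ : Subgroup Ω'} {E'₂ : FusionSystem T'₂} (h₁ : Img e E E')
    (h₂ : Img e E E'₂) (P' : Subgroup Ω') : E'.Hom P' = E'₂.Hom P' := by
  ext φ'
  constructor
  · intro hφ'
    obtain ⟨φ, hφ, hi⟩ := h₁.pull hφ' rfl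
    exact (h₂.iff hi).mp hφ
  · intro hφ'
    obtain ⟨φ, hφ, hi⟩ := h₂.pull hφ' rfl
    exact (h₁.iff hi).mp hφ

theorem Img.src_eq {T'₂ : Subgroup Ω'} {E'₂ : FusionSystem T'₂} (h₁ : Img e E E')
    (h₂ : Img e E E'₂) : T' = T'₂ := by
  rw [h₁.eq, h₂.eq]

end basic

/-! ### Existence of the image -/

/-- The image of a fusion system under a partial isomorphism. -/
def imgFS (e : ↥W ≃* ↥W') {T : Subgroup Ω} (E : FusionSystem T) (hT : T ≤ W) :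
    FusionSystem (mapS e T) where
  Hom P' := {φ' | ∃ (P : Subgroup Ω) (φ : ↥P →* Ω), φ ∈ E.Hom P ∧ Ind e φ φ'}
  le_of_mem := by
    rintro P' φ' ⟨P, φ, hφ, hi⟩
    obtain ⟨hPT, hφT⟩ := E.le_of_mem hφ
    refine ⟨?_, fun y => hi.map_mem hφT y⟩
    rw [hi.eq]
    exact mapS_mono e hPT
  injective_of_mem := by
    rintro P' φ' ⟨P, φ, hφ, hi⟩
    exact hi.injective (E.injective_of_mem hφ)
  conj_mem := by
    intro P' g' hP' hg'
    obtain ⟨g, hg, hgg'⟩ := (mem_mapS e T g').mp hg'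
    have hP'W : P' ≤ W' := hP'.trans (mapS_le e T)
    have hPT : mapS e.symm P' ≤ T := by
      have := mapS_mono e.symm hP'
      rwa [mapS_symm_mapS e hT] at this
    exact ⟨mapS e.symm P', conjHom _ g, E.conj_mem hPT hg,
      Ind.conj e (hPT.trans hT) (mapS_mapS_symm e hP'W).symm hgg'⟩
  comp_mem := by
    rintro P' Q' φ' ψ' ⟨P, φ, hφ, hi⟩ ⟨Q, ψ, hψ, hj⟩ h
    have hQ : ∀ x : ↥P, φ x ∈ Q := by
      apply hi.map_mem'
      intro y
      rw [← hj.eq]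
      exact h y
    exact ⟨P, ψ.comp (φ.codRestrict Q hQ), E.comp_mem hφ hψ hQ, hi.comp hj hQ h⟩
  inv_mem := by
    rintro P' φ' ⟨P, φ, hφ, hi⟩
    obtain ⟨ψ, hψ, hinv⟩ := E.inv_mem hφ
    have hrange : φ'.range = mapS e φ.range := hi.range
    have hrT : φ.range ≤ T := by
      rintro _ ⟨x, rfl⟩
      exact (E.le_of_mem hφ).2 x
    obtain ⟨ψ', hψ'⟩ := Ind.exists e ψ (hrT.trans hT) (fun x => hT ((E.le_of_mem hψ).2 x)) hrange
    refine ⟨ψ', ⟨φ.range, ψ, hψ, hψ'⟩, fun y => ?_⟩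
    obtain ⟨x, hx⟩ := exists_rel_of_eq_mapS' e hi.le hi.eq y
    have h1 := hi.app hx
    have h2 := hψ'.app (x := ⟨φ x, ⟨x, rfl⟩⟩) (y := ⟨φ' y, ⟨y, rfl⟩⟩) h1
    rw [hinv x] at h2
    exact rel.unique_right h2 hx

theorem imgFS_img (e : ↥W ≃* ↥W') {T : Subgroup Ω} (E : FusionSystem T) (hT : T ≤ W) :
    Img e E (imgFS e E hT) := by
  refine ⟨hT, rfl, fun {P P' φ φ'} _ hi => ⟨fun hφ => ⟨P, φ, hφ, hi⟩, ?_⟩⟩
  rintro ⟨P₂, φ₂, hφ₂, hi₂⟩
  have hPP : P₂ = P := by rw [hi₂.src_eq', hi.src_eq']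
  subst hPP
  rw [Ind.unique_left hi hi₂]
  exact hφ₂

theorem exists_img (e : ↥W ≃* ↥W') {T : Subgroup Ω} (E : FusionSystem T) (hT : T ≤ W) :
    ∃ E' : FusionSystem (mapS e T), Img e E E' :=
  ⟨imgFS e E hT, imgFS_img e E hT⟩

/-! ### Composition and change of the partial isomorphism -/

section trans

variable {Ω₂ : Type*} [Group Ω₂] {Ω₃ : Type*} [Group Ω₃]
  {W₁ : Subgroup Ω} {W₁' : Subgroup Ω'} {W₂ : Subgroup Ω'} {W₂' : Subgroup Ω₂}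
  {W₃ : Subgroup Ω} {W₃' : Subgroup Ω₂}

/-- Compatibility of three partial isomorphisms on a subgroup `T`: `e₃ = e₂ ∘ e₁` on `T`. -/
def Compat (e₁ : ↥W₁ ≃* ↥W₁') (e₂ : ↥W₂ ≃* ↥W₂') (e₃ : ↥W₃ ≃* ↥W₃') (T : Subgroup Ω) : Prop :=
  ∀ x ∈ T, ∃ (y : Ω') (z : Ω₂), rel e₁ x y ∧ rel e₂ y z ∧ rel e₃ x z

theorem Compat.mapS_eq {e₁ : ↥W₁ ≃* ↥W₁'} {e₂ : ↥W₂ ≃* ↥W₂'} {e₃ : ↥W₃ ≃* ↥W₃'}
    {T : Subgroup Ω} (hc : Compat e₁ e₂ e₃ T) {P : Subgroup Ω} (hP : P ≤ T) :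
    mapS e₂ (mapS e₁ P) = mapS e₃ P := by
  ext z
  rw [mem_mapS, mem_mapS]
  constructor
  · rintro ⟨y, hy, hyz⟩
    obtain ⟨x, hx, hxy⟩ := (mem_mapS e₁ P y).mp hy
    obtain ⟨y₂, z₂, h1, h2, h3⟩ := hc x (hP hx)
    have : y₂ = y := rel.unique_right h1 hxy
    subst this
    have : z₂ = z := rel.unique_right h2 hyz
    subst this
    exact ⟨x, hx, h3⟩
  · rintro ⟨x, hx, hxz⟩
    obtain ⟨y, z₂, h1, h2, h3⟩ := hc x (hP hx)
    have : z₂ = z := rel.unique_right h3 hxz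
    subst this
    exact ⟨y, mem_mapS_of_rel e₁ h1 hx, h2⟩

theorem Ind.trans' {e₁ : ↥W₁ ≃* ↥W₁'} {e₂ : ↥W₂ ≃* ↥W₂'} {e₃ : ↥W₃ ≃* ↥W₃'}
    {T : Subgroup Ω} (hc : Compat e₁ e₂ e₃ T) {P : Subgroup Ω} {φ : ↥P →* Ω}
    {P' : Subgroup Ω'} {φ' : ↥P' →* Ω'} {P'' : Subgroup Ω₂} {φ'' : ↥P'' →* Ω₂}
    (h₁ : Ind e₁ φ φ') (h₂ : Ind e₂ φ' φ'') (hPT : P ≤ T) (hφT : ∀ x : ↥P, φ x ∈ T)
    (hTW : T ≤ W₃) : Ind e₃ φ φ'' := by
  refine ⟨hPT.trans hTW, ?_, fun x z hxz => ?_⟩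
  · rw [h₂.eq, h₁.eq, hc.mapS_eq hPT]
  · obtain ⟨y, z₂, r1, r2, r3⟩ := hc x (hPT x.2)
    have hz : z₂ = z := rel.unique_right r3 hxz
    subst hz
    have hyP' : y ∈ P' := by
      rw [h₁.eq]
      exact mem_mapS_of_rel e₁ r1 x.2
    have a1 := h₁.app (x := x) (y := ⟨y, hyP'⟩) r1
    have a2 := h₂.app (x := ⟨y, hyP'⟩) (y := z) r2
    obtain ⟨y₃, z₃, s1, s2, s3⟩ := hc (φ x) (hφT x)
    have : y₃ = φ' ⟨y, hyP'⟩ := rel.unique_right s1 a1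
    subst this
    have : z₃ = φ'' z := rel.unique_right s2 a2
    subst this
    exact s3

theorem Img.trans' {e₁ : ↥W₁ ≃* ↥W₁'} {e₂ : ↥W₂ ≃* ↥W₂'} {e₃ : ↥W₃ ≃* ↥W₃'}
    {T : Subgroup Ω} (hc : Compat e₁ e₂ e₃ T) {E : FusionSystem T} {T' : Subgroup Ω'}
    {E' : FusionSystem T'} {T'' : Subgroup Ω₂} {E'' : FusionSystem T''}
    (h₁ : Img e₁ E E') (h₂ : Img e₂ E' E'') (hTW : T ≤ W₃) : Img e₃ E E'' := by
  refine ⟨hTW, ?_, fun {P P'' φ φ''} hPT hi => ⟨fun hφ => ?_, fun hφ'' => ?_⟩⟩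
  · rw [h₂.eq, h₁.eq, hc.mapS_eq le_rfl]
  · obtain ⟨φ', hφ', hi₁⟩ := h₁.push hφ rfl
    obtain ⟨φ₂'', hφ₂'', hi₂⟩ := h₂.push hφ' rfl
    have hi₃ := Ind.trans' hc hi₁ hi₂ hPT (E.le_of_mem hφ).2 hTW
    have hPP : mapS e₂ (mapS e₁ P) = P'' := by rw [hc.mapS_eq hPT, hi.eq]
    subst hPP
    rw [Ind.unique_right hi hi₃]
    exact hφ₂''
  · obtain ⟨φ', hφ', hi₂⟩ := h₂.pull hφ'' rfl
    obtain ⟨φ₂, hφ₂, hi₁⟩ := h₁.pull hφ' rfl
    have hP₂T : mapS e₁.symm (mapS e₂.symm P'') ≤ T := (E.le_of_mem hφ₂).1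
    have hi₃ := Ind.trans' hc hi₁ hi₂ hP₂T (E.le_of_mem hφ₂).2 hTW
    have hPP : mapS e₁.symm (mapS e₂.symm P'') = P := by
      rw [hi.src_eq', hi₃.src_eq']
    subst hPP
    rw [Ind.unique_left hi hi₃]
    exact hφ₂

end trans

/-- The identity partial isomorphism. -/
theorem rel_refl_iff (x y : Ω) : rel (MulEquiv.refl ↥W) x y ↔ x ∈ W ∧ x = y := by
  constructor
  · rintro ⟨hx, rfl⟩
    exact ⟨hx, rfl⟩
  · rintro ⟨hx, rfl⟩
    exact ⟨hx, rfl⟩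

theorem mapS_refl {P : Subgroup Ω} (hP : P ≤ W) : mapS (MulEquiv.refl ↥W) P = P := by
  ext y
  rw [mem_mapS]
  constructor
  · rintro ⟨x, hx, hxy⟩
    rw [← ((rel_refl_iff x y).mp hxy).2]
    exact hx
  · intro hy
    exact ⟨y, hy, (rel_refl_iff y y).mpr ⟨hP hy, rfl⟩⟩

theorem Img.refl {T : Subgroup Ω} (E : FusionSystem T) (hT : T ≤ W) :
    Img (MulEquiv.refl ↥W) E E := by
  refine ⟨hT, (mapS_refl hT).symm, fun {P P' φ φ'} hPT hi => ?_⟩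
  have hPP : P' = P := by rw [hi.eq, mapS_refl (hPT.trans hT)]
  subst hPP
  have : φ' = φ := by
    ext y
    have h1 := hi.app (x := y) (y := y) ((rel_refl_iff _ _).mpr ⟨hPT.trans hT y.2, rfl⟩)
    exact ((rel_refl_iff _ _).mp h1).2.symm
  rw [this]

/-- `Img` only depends on the restriction of `e` to `T`. -/
theorem Img.congr {W₀ : Subgroup Ω} {W₀' : Subgroup Ω'} {e : ↥W ≃* ↥W'} (e₀ : ↥W₀ ≃* ↥W₀')
    {T : Subgroup Ω} {E : FusionSystem T} {T' : Subgroup Ω'} {E' : FusionSystem T'}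
    (h : Img e E E') (hTW : T ≤ W₀) (hc : ∀ x ∈ T, ∀ y, rel e x y → rel e₀ x y) :
    Img e₀ E E' := by
  have h1 : Img (MulEquiv.refl ↥W') E' E' := Img.refl E' h.le'
  refine Img.trans' (e₁ := e) (e₂ := MulEquiv.refl ↥W') (e₃ := e₀) ?_ h h1 hTW
  intro x hx
  obtain ⟨y, hy⟩ := exists_rel_right e (h.le hx)
  exact ⟨y, y, hy, (rel_refl_iff y y).mpr ⟨hy.mem_right, rfl⟩, hc x hx y hy⟩

/-- Restriction of `e` to the Sylow subgroup of the system. -/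
theorem Img.restrict {e : ↥W ≃* ↥W'} {T : Subgroup Ω} {E : FusionSystem T} {T' : Subgroup Ω'}
    {E' : FusionSystem T'} (h : Img e E E') : Img (pe e h.le h.eq) E E' := by
  refine h.congr (pe e h.le h.eq) le_rfl ?_
  intro x hx y hxy
  refine ⟨hx, ?_⟩
  exact rel.unique_right (rel_pe e h.le h.eq ⟨x, hx⟩) hxy

/-! ### Relation with factor systems modulo the trivial subgroup -/

section factor

variable {S : Subgroup Ω} {S' : Subgroup Ω'}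

theorem preimageAlong_eq_mapS_symm (e : ↥S ≃* ↥W') (θ : ↥S →* Ω')
    (hθ : ∀ s : ↥S, θ s = ((e s : ↥W') : Ω')) (P' : Subgroup Ω') :
    preimageAlong θ P' = mapS e.symm P' := by
  ext x
  rw [Fusion.mem_preimageAlong, mem_mapS]
  constructor
  · rintro ⟨hx, h⟩
    refine ⟨θ ⟨x, hx⟩, h, ?_⟩
    rw [hθ]
    exact (rel_of_mem e hx).symm
  · rintro ⟨y, hy, hyx⟩
    have h1 := hyx.of_symm
    obtain ⟨hx, h2⟩ := h1
    refine ⟨hx, ?_⟩
    rw [hθ, h2]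
    exact hy

theorem Ind.inducedAlong' {e : ↥S ≃* ↥W'} {θ : ↥S →* Ω'}
    (hθ : ∀ s : ↥S, θ s = ((e s : ↥W') : Ω')) {P : Subgroup Ω} {φ : ↥P →* Ω}
    {P' : Subgroup Ω'} {φ' : ↥P' →* Ω'} (h : Ind e φ φ') : InducedAlong θ φ φ' := by
  have hφW := h.map_mem_left
  obtain ⟨hP, rfl, happ⟩ := h
  have hmem : ∀ x : ↥P, θ ⟨x, hP x.2⟩ ∈ mapS e P := fun x => by
    rw [hθ]
    exact mem_mapS_of_rel e (rel_of_mem e (hP x.2)) x.2
  refine ⟨hP, hφW, hmem, fun x => ?_⟩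
  have h0 : rel e (x : Ω) (θ ⟨x, hP x.2⟩) := by
    rw [hθ]
    exact rel_of_mem e (hP x.2)
  have h1 := happ x ⟨_, hmem x⟩ h0
  rw [hθ ⟨φ x, hφW x⟩]
  exact rel.unique_right h1 (rel_of_mem e (hφW x))

theorem Ind.of_inducedAlong' {e : ↥S ≃* ↥W'} {θ : ↥S →* Ω'}
    (hθ : ∀ s : ↥S, θ s = ((e s : ↥W') : Ω')) {P : Subgroup Ω} {φ : ↥P →* Ω}
    {P' : Subgroup Ω'} {φ' : ↥P' →* Ω'} (h : InducedAlong θ φ φ') (hP' : P' = mapS e P) :
    Ind e φ φ' := by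
  obtain ⟨hP, hφ, hPP', hind⟩ := h
  refine ⟨hP, hP', fun x y hxy => ?_⟩
  have h0 : rel e (x : Ω) (θ ⟨x, hP x.2⟩) := by
    rw [hθ]
    exact rel_of_mem e (hP x.2)
  have h1 : y = ⟨θ ⟨x, hP x.2⟩, hPP' x⟩ := Subtype.ext (rel.unique_right hxy h0)
  rw [h1, hind x, hθ]
  exact rel_of_mem e (hφ x)

/-- A factor system modulo the trivial subgroup is an image. -/
theorem Img.of_isFactorSystem {F : FusionSystem S} {F' : FusionSystem S'} (e : ↥S ≃* ↥W')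
    (θ : ↥S →* Ω') (hθ : ∀ s : ↥S, θ s = ((e s : ↥W') : Ω')) (h : F.IsFactorSystem ⊥ θ F') :
    Img e F F' := by
  obtain ⟨-, -, hrange, hHom⟩ := h
  have hS' : S' = mapS e S := by
    rw [mapS_self, ← hrange]
    ext y
    constructor
    · rintro ⟨s, rfl⟩
      rw [hθ]
      exact (e s).2
    · intro hy
      obtain ⟨x, hx, hxy⟩ := exists_rel_left e hy
      refine ⟨⟨x, hx⟩, ?_⟩
      rw [hθ]
      exact hxy
  refine ⟨le_rfl, hS', fun {P P' φ φ'} hPS hi => ?_⟩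
  have hpre : preimageAlong θ P' = P := by
    rw [preimageAlong_eq_mapS_symm e θ hθ, ← hi.src_eq']
  rw [hHom P' φ']
  constructor
  · intro hφ
    refine ⟨?_, ?_⟩
    · rw [hS', hi.eq]
      exact mapS_mono e hPS
    · obtain ⟨ψ, hψ, hψφ⟩ := Fusion.exists_hom_of_eq F hpre.symm hφ
      refine ⟨ψ, hψ, ?_⟩
      have hi' : Ind e ψ φ' := by
        refine ⟨hpre ▸ hPS, ?_, fun x y hxy => ?_⟩
        · rw [hpre]
          exact hi.eq
        · have hxP : (x : Ω) ∈ P := hpre ▸ x.2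
          have h1 := hi.app (x := ⟨x, hxP⟩) (y := y) hxy
          rw [← hψφ x hxP x.2] at h1
          exact h1
      exact hi'.inducedAlong' hθ
  · rintro ⟨-, ψ, hψ, hind⟩
    have hi' : Ind e ψ φ' := Ind.of_inducedAlong' hθ hind (by rw [hpre]; exact hi.eq)
    obtain ⟨ψ₂, hψ₂, hψψ⟩ := Fusion.exists_hom_of_eq F hpre hψ
    have hi₂ : Ind e ψ₂ φ' := by
      refine ⟨hPS, hi.eq, fun x y hxy => ?_⟩
      have hxP : (x : Ω) ∈ preimageAlong θ P' := hpre.symm ▸ x.2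
      have h1 := hi'.app (x := ⟨x, hxP⟩) (y := y) hxy
      rw [← hψψ x hxP x.2] at h1
      exact h1
    rw [Ind.unique_left hi hi₂]
    exact hψ₂

/-- An image under an isomorphism defined on the whole Sylow subgroup is a factor system modulo
the trivial subgroup. -/
theorem Img.isFactorSystem {F : FusionSystem S} {F' : FusionSystem S'} {e : ↥S ≃* ↥W'}
    (θ : ↥S →* Ω') (hθ : ∀ s : ↥S, θ s = ((e s : ↥W') : Ω')) (h : Img e F F') :
    F.IsFactorSystem ⊥ θ F' := by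
  refine ⟨bot_le, fun s => ?_, ?_, fun P' φ' => ?_⟩
  · rw [Subgroup.mem_bot, hθ]
    constructor
    · intro h1
      have h2 : e s = 1 := Subtype.ext h1
      have h3 : s = 1 := by
        rw [← e.symm_apply_apply s, h2, map_one]
      rw [h3]
      rfl
    · intro h1
      have h3 : s = 1 := Subtype.ext h1
      rw [h3, map_one]
      rfl
  · rw [h.eq, mapS_self]
    ext y
    constructor
    · rintro ⟨s, rfl⟩
      rw [hθ]
      exact (e s).2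
    · intro hy
      obtain ⟨x, hx, hxy⟩ := exists_rel_left e hy
      refine ⟨⟨x, hx⟩, ?_⟩
      rw [hθ]
      exact hxy
  · have hpre : preimageAlong θ P' = mapS e.symm P' := preimageAlong_eq_mapS_symm e θ hθ P'
    constructor
    · intro hφ'
      refine ⟨(F'.le_of_mem hφ').1, ?_⟩
      obtain ⟨φ, hφ, hi⟩ := h.pull hφ' hpre
      exact ⟨φ, hφ, hi.inducedAlong' hθ⟩
    · rintro ⟨hP', φ, hφ, hind⟩
      have hi : Ind e φ φ' := by
        apply Ind.of_inducedAlong' hθ hind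
        rw [hpre, mapS_mapS_symm e (hP'.trans h.le')]
      exact (h.iff hi).mp hφ

end factor

end Cfsg.Agent.Helper4.FusTr
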