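import Mathlib
import Cfsg.Prelude.Def_FusionComponents
import Cfsg.Agent.Lead.FusionFactor
import Cfsg.Agent.Lead.FusionInvariant
import Cfsg.Agent.Lead.FusionMorph3
import Cfsg.Agent.Lead.FusionHypQuot
import Cfsg.Agent.Lead.FusionWeak
import Cfsg.Agent.Lead.FusionAut
import Cfsg.Agent.Lead.FusionStrongInvD
import Cfsg.Agent.Helper4.FusTrA
import Cfsg.Agent.Helper4.FusTrB

set_option autoImplicit false

/-!
Transport of structure for fusion systems, part C: subsystems, strongly closed subgroups,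
saturation, hyperfocal subgroup, automorphism groups, invariant and normal subsystems.
-/

namespace Cfsg.Agent.Helper4.FusTr

open Cfsg Cfsg.FusionSystem Cfsg.Agent.Lead

variable {Ω : Type*} [Group Ω] {Ω' : Type*} [Group Ω'] {W : Subgroup Ω} {W' : Subgroup Ω'}
  {e : ↥W ≃* ↥W'}

section sub

variable {T S : Subgroup Ω} {E : FusionSystem T} {F : FusionSystem S} {T' S' : Subgroup Ω'}
  {E' : FusionSystem T'} {F' : FusionSystem S'}

theorem Img.isSubsystemOf (hE : Img e E E') (hF : Img e F F') (h : E.IsSubsystemOf F) :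
    E'.IsSubsystemOf F' := by
  intro P' φ' hφ'
  obtain ⟨φ, hφ, hi⟩ := hE.pull hφ' rfl
  exact (hF.iff hi).mp (h _ hφ)

theorem Img.stronglyClosed (hF : Img e F F') {R : Subgroup Ω} (h : F.StronglyClosed R) :
    F'.StronglyClosed (mapS e R) := by
  refine ⟨hF.mapS_le h.1, fun Q' hQ' φ' hφ' y => ?_⟩
  obtain ⟨φ, hφ, hi⟩ := hF.pull hφ' rfl
  have hQR : mapS e.symm Q' ≤ R := by
    have := mapS_mono e.symm hQ'
    rwa [mapS_symm_mapS e (h.1.trans hF.le)] at this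
  exact hi.map_mem (fun x => h.2 _ hQR φ hφ x) y

theorem Img.finite (hF : Img e F F') [Finite S] : Finite S' :=
  Finite.of_equiv _ (pe e hF.le hF.eq).toEquiv

theorem Img.isPGroup (hF : Img e F F') {p : ℕ} (hS : IsPGroup p S) : IsPGroup p S' :=
  hS.of_equiv (pe e hF.le hF.eq)

theorem rel_pe_iff {P : Subgroup Ω} (hP : P ≤ W) {P' : Subgroup Ω'} (h : P' = mapS e P)
    (x : Ω) (y : Ω') : rel (pe e hP h) x y ↔ x ∈ P ∧ rel e x y := by
  constructor
  · rintro ⟨hx, rfl⟩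
    exact ⟨hx, rel_pe e hP h ⟨x, hx⟩⟩
  · rintro ⟨hx, hxy⟩
    exact ⟨hx, rel.unique_right (rel_pe e hP h ⟨x, hx⟩) hxy⟩

theorem mapS_pe {P : Subgroup Ω} (hP : P ≤ W) {P' : Subgroup Ω'} (h : P' = mapS e P)
    {Q : Subgroup Ω} (hQ : Q ≤ P) : mapS (pe e hP h) Q = mapS e Q := by
  ext y
  rw [mem_mapS, mem_mapS]
  constructor
  · rintro ⟨x, hx, hxy⟩
    exact ⟨x, hx, ((rel_pe_iff hP h x y).mp hxy).2⟩
  · rintro ⟨x, hx, hxy⟩
    exact ⟨x, hx, (rel_pe_iff hP h x y).mpr ⟨hQ hx, hxy⟩⟩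

theorem Img.isFactorSystem' (hF : Img e F F') :
    F.IsFactorSystem ⊥ (S'.subtype.comp (pe e hF.le hF.eq).toMonoidHom) F' :=
  Img.isFactorSystem _ (fun _ => rfl) hF.restrict

theorem Img.isSaturated [Finite S] (p : ℕ) [Fact p.Prime] (hS : IsPGroup p S) (hF : Img e F F')
    (h : F.IsSaturated p) : F'.IsSaturated p := by
  have h1 := hF.isFactorSystem'
  have h2 := Fusion.isSurjectiveMorphism_of_isFactorSystem p hS F h ⊥ (Fusion.bot_stronglyClosed F)
    _ F' h1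
  exact Fusion.isSaturated_image p hS F h F' _ h2

theorem Img.hyperfocal [Finite S] (p : ℕ) [Fact p.Prime] (hS : IsPGroup p S) (hF : Img e F F')
    (h : F.IsSaturated p) : F'.hyperfocalSubgroup p = mapS e (F.hyperfocalSubgroup p) := by
  have h1 := hF.isFactorSystem'
  have h2 := Fusion.hyperfocal_factor p hS F h ⊥ (Fusion.bot_stronglyClosed F) _ F' h1
  rw [h2]
  exact mapS_pe hF.le hF.eq (Fusion.hyperfocal_le F p)

end sub

/-! ### Automorphism groups -/

section aut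

/-- `α'` is the automorphism of `P'` corresponding to the automorphism `α` of `P`. -/
def AutRel (e : ↥W ≃* ↥W') {P : Subgroup Ω} (α : MulAut ↥P) {P' : Subgroup Ω'}
    (α' : MulAut ↥P') : Prop :=
  ∀ (x : ↥P) (y : ↥P'), rel e (x : Ω) (y : Ω') → rel e ((α x : ↥P) : Ω) ((α' y : ↥P') : Ω')

theorem autRel_congr {P : Subgroup Ω} (hP : P ≤ W) {P' : Subgroup Ω'} (h : P' = mapS e P)
    (α : MulAut ↥P) : AutRel e α (MulAut.congr (pe e hP h) α) := by
  intro x y hxy
  have hx : (pe e hP h).symm y = x := by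
    rw [MulEquiv.symm_apply_eq, eq_comm, pe_eq_iff]
    exact hxy
  show rel e ((α x : ↥P) : Ω) ((pe e hP h (α ((pe e hP h).symm y)) : ↥P') : Ω')
  rw [hx]
  exact rel_pe e hP h (α x)

theorem autRel_congr_symm {P : Subgroup Ω} (hP : P ≤ W) {P' : Subgroup Ω'} (h : P' = mapS e P)
    (α' : MulAut ↥P') : AutRel e (MulAut.congr (pe e hP h).symm α') α' := by
  intro x y hxy
  have hx : pe e hP h x = y := (pe_eq_iff e hP h x y).mpr hxy
  show rel e (((pe e hP h).symm (α' ((pe e hP h).symm.symm x)) : ↥P) : Ω) ((α' y : ↥P') : Ω')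
  have : (pe e hP h).symm.symm x = y := hx
  rw [this]
  exact rel_pe_symm e hP h (α' y)

theorem AutRel.ind {P : Subgroup Ω} {α : MulAut ↥P} {P' : Subgroup Ω'} {α' : MulAut ↥P'}
    (h : AutRel e α α') (hP : P ≤ W) (hP' : P' = mapS e P) :
    Ind e (P.subtype.comp α.toMonoidHom) (P'.subtype.comp α'.toMonoidHom) :=
  ⟨hP, hP', fun x y hxy => h x y hxy⟩

theorem Img.autGroup_iff {S : Subgroup Ω} {F : FusionSystem S} {S' : Subgroup Ω'}
    {F' : FusionSystem S'} (hF : Img e F F') {P : Subgroup Ω} (hPS : P ≤ S) {P' : Subgroup Ω'}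
    (hP' : P' = mapS e P) {α : MulAut ↥P} {α' : MulAut ↥P'} (h : AutRel e α α') :
    α ∈ F.autGroup P ↔ α' ∈ F'.autGroup P' := by
  have hP'S' : P' ≤ S' := hP' ▸ hF.mapS_le hPS
  rw [Fusion.mem_autGroup_iff F hPS, Fusion.mem_autGroup_iff F' hP'S']
  exact hF.iff (h.ind (hPS.trans hF.le) hP')

end aut

/-! ### Strong invariance, invariant subsystems -/

section inv

open Cfsg.Agent.Lead.StrongInv

variable {T S : Subgroup Ω} {E : FusionSystem T} {F : FusionSystem S} {T' S' : Subgroup Ω'}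
  {E' : FusionSystem T'} {F' : FusionSystem S'}

theorem Img.si (hE : Img e E E') (hF : Img e F F') (h : SI F E) : SI F' E' := by
  intro P' Q' hPQ' hQ'T' φ' hφ' hφQ' ψ' hψ'
  obtain ⟨φ, hφ, hi⟩ := hE.pull hφ' rfl
  obtain ⟨ψ, hψ, hj⟩ := hF.pull hψ' rfl
  have hPQ : mapS e.symm P' ≤ mapS e.symm Q' := mapS_mono e.symm hPQ'
  have hQT : mapS e.symm Q' ≤ T := hE.le_of_le hQ'T'
  have hQ'W : Q' ≤ W' := hQ'T'.trans hE.le'
  have hφQ : ∀ x : ↥(mapS e.symm P'), φ x ∈ mapS e.symm Q' := by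
    apply hi.map_mem'
    intro y
    rw [mapS_mapS_symm e hQ'W]
    exact hφQ' y
  obtain ⟨χ, hχ, hχv⟩ := h _ _ hPQ hQT φ hφ hφQ ψ hψ
  have hR : ((P'.subgroupOf Q').map ψ') =
      mapS e (((mapS e.symm P').subgroupOf (mapS e.symm Q')).map ψ) := by
    ext z
    rw [mem_mapS]
    constructor
    · rintro ⟨y, hy, rfl⟩
      rw [SetLike.mem_coe, Subgroup.mem_subgroupOf] at hy
      obtain ⟨x, hx⟩ := exists_rel_of_eq_mapS' e hj.le hj.eq y
      have hxP : (x : Ω) ∈ mapS e.symm P' := (mem_mapS e.symm P' x).mpr ⟨y, hy, hx.symm⟩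
      refine ⟨ψ x, ⟨x, ?_, rfl⟩, hj.app hx⟩
      rw [SetLike.mem_coe, Subgroup.mem_subgroupOf]
      exact hxP
    · rintro ⟨_, ⟨x, hx, rfl⟩, hxz⟩
      rw [SetLike.mem_coe, Subgroup.mem_subgroupOf] at hx
      obtain ⟨y, hy⟩ := exists_rel_of_eq_mapS e hj.le hj.eq x
      have hyP' : (y : Ω') ∈ P' := by
        obtain ⟨y₂, hy₂, hyx⟩ := (mem_mapS e.symm P' x).mp hx
        rw [rel.unique_right hy hyx.of_symm]
        exact hy₂
      refine ⟨y, ?_, rel.unique_right (hj.app hy) hxz⟩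
      rw [SetLike.mem_coe, Subgroup.mem_subgroupOf]
      exact hyP'
  obtain ⟨χ', hχ', hk⟩ := hE.push hχ hR
  refine ⟨χ', hχ', fun y hy => ?_⟩
  obtain ⟨x, hx⟩ := exists_rel_of_eq_mapS' e hi.le hi.eq y
  have r1 : rel e (ψ (Subgroup.inclusion hPQ x)) (ψ' (Subgroup.inclusion hPQ' y)) :=
    hj.app (x := Subgroup.inclusion hPQ x) (y := Subgroup.inclusion hPQ' y) hx
  have hxm : ψ (Subgroup.inclusion hPQ x) ∈
      ((mapS e.symm P').subgroupOf (mapS e.symm Q')).map ψ := by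
    refine ⟨Subgroup.inclusion hPQ x, ?_, rfl⟩
    rw [SetLike.mem_coe, Subgroup.mem_subgroupOf]
    exact x.2
  have r2 := hk.app (x := ⟨ψ (Subgroup.inclusion hPQ x), hxm⟩)
    (y := ⟨ψ' (Subgroup.inclusion hPQ' y), hy⟩) r1
  rw [hχv x hxm] at r2
  have r3 := hi.app hx
  have r4 := hj.app (x := ⟨φ x, hφQ x⟩) (y := ⟨φ' y, hφQ' y⟩) r3
  exact rel.unique_right r2 r4

theorem Img.isInvariantIn [Finite S] (p : ℕ) [Fact p.Prime] (hS : IsPGroup p S)
    (hE : Img e E E') (hF : Img e F F') (hsat : F.IsSaturated p) (h : E.IsInvariantIn F) :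
    E'.IsInvariantIn F' := by
  have := hF.finite
  have hS' := hF.isPGroup hS
  have hsat' := hF.isSaturated p hS hsat
  have hsub' := hE.isSubsystemOf hF h.1
  have hsc' : F'.StronglyClosed T' := by
    have := hF.stronglyClosed h.2.1
    rwa [← hE.eq] at this
  exact invariant_of_SI p hS' F' hsat' E' hsub' hsc' (hE.si hF (SI_of_invariant F E h))

theorem Img.isWeaklyNormalIn [Finite S] (p : ℕ) [Fact p.Prime] (hS : IsPGroup p S)
    (hE : Img e E E') (hF : Img e F F') (h : E.IsWeaklyNormalIn F p) :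
    E'.IsWeaklyNormalIn F' p := by
  obtain ⟨hEs, hFs, hinv⟩ := h
  have hTS : T ≤ S := hinv.2.1.1
  have : Finite T := Fusion.finite_of_le hTS
  exact ⟨hE.isSaturated p (hS.to_le hTS) hEs, hF.isSaturated p hS hFs,
    hE.isInvariantIn p hS hF hFs hinv⟩

theorem Img.isNormalIn [Finite S] (p : ℕ) [Fact p.Prime] (hS : IsPGroup p S)
    (hE : Img e E E') (hF : Img e F F') (h : E.IsNormalIn F p) : E'.IsNormalIn F' p := by
  obtain ⟨hwn, hext⟩ := h
  have hTS : T ≤ S := hwn.2.2.2.1.1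
  refine ⟨hE.isWeaklyNormalIn p hS hF hwn, fun α' hα' => ?_⟩
  have hTW : T ≤ W := hE.le
  have hSW : S ≤ W := hF.le
  have hα := (hE.autGroup_iff le_rfl hE.eq (autRel_congr_symm hTW hE.eq α')).mpr hα'
  set α : MulAut ↥T := MulAut.congr (pe e hTW hE.eq).symm α' with hαdef
  have hαα' : AutRel e α α' := autRel_congr_symm hTW hE.eq α'
  obtain ⟨β, hβ, hβ1, hβ2⟩ := hext α hα
  have hCS : centralizerIn S T ≤ S := inf_le_left
  have hle : T ⊔ centralizerIn S T ≤ S := sup_le hTS hCS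
  have hsup : T' ⊔ centralizerIn S' T' = mapS e (T ⊔ centralizerIn S T) := by
    rw [mapS_sup e hTW (hCS.trans hSW), mapS_centralizerIn e hSW hTW, ← hE.eq, ← hF.eq]
  set β' : MulAut ↥(T' ⊔ centralizerIn S' T') := MulAut.congr (pe e (hle.trans hSW) hsup) β
    with hβ'def
  have hββ' : AutRel e β β' := autRel_congr (hle.trans hSW) hsup β
  have hβ' : β' ∈ F'.autGroup (T' ⊔ centralizerIn S' T') :=
    (hF.autGroup_iff hle hsup hββ').mp hβ
  refine ⟨β', hβ', fun y => ?_, fun c' hc' => ?_⟩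
  · obtain ⟨x, hx⟩ := exists_rel_of_eq_mapS' e hTW hE.eq y
    have r1 := hββ' (Subgroup.inclusion le_sup_left x) (Subgroup.inclusion le_sup_left y) hx
    rw [hβ1 x] at r1
    exact rel.unique_right r1 (hαα' x y hx)
  · obtain ⟨c, hc⟩ := exists_rel_of_eq_mapS' e (hle.trans hSW) hsup c'
    have hcC : (c : Ω) ∈ centralizerIn S T := by
      apply mem_of_rel_of_mem_mapS e hc
      rw [mapS_centralizerIn e hSW hTW, ← hE.eq, ← hF.eq]
      exact hc'
    have r1 := hββ' c c' hc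
    have r2 := hc.inv.mul r1
    have h3 : (c : Ω)⁻¹ * ((β c : ↥(T ⊔ centralizerIn S T)) : Ω) ∈ centralizerIn T T :=
      hβ2 c hcC
    have h4 := mem_mapS_of_rel e r2 h3
    rw [mapS_centralizerIn e hTW hTW, ← hE.eq] at h4
    exact h4

end inv

end Cfsg.Agent.Helper4.FusTr
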