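import Mathlib
import Cfsg.Prelude.Def_FusionComponents
import Cfsg.Agent.Lead.FusionNormal
import Cfsg.Agent.Lead.FusionQuasi
import Cfsg.Agent.Lead.FusionFactorSys
import Cfsg.Agent.Helper4.FusTrA
import Cfsg.Agent.Helper4.FusTrB
import Cfsg.Agent.Helper4.FusTrC

set_option autoImplicit false

/-!
Transport of structure for fusion systems, part D: subnormal subsystems, central subgroups and
the centre, factor systems, simple and quasisimple systems, components.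
-/

namespace Cfsg.Agent.Helper4.FusTr

open Cfsg Cfsg.FusionSystem Cfsg.Agent.Lead

variable {Ω : Type*} [Group Ω] {Ω' : Type*} [Group Ω'] {W : Subgroup Ω} {W' : Subgroup Ω'}
  {e : ↥W ≃* ↥W'}

/-! ### Subnormal subsystems -/

theorem isSubnormalIn_aux [Finite W] {T S : Subgroup Ω} {E : FusionSystem T} {F : FusionSystem S}
    {p : ℕ} (h : E.IsSubnormalIn F p) :
    p.Prime → IsPGroup p W → ∀ {T' S' : Subgroup Ω'} (E' : FusionSystem T')
      (F' : FusionSystem S'), Img e E E' → Img e F F' → E'.IsSubnormalIn F' p := by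
  induction h with
  | refl F p =>
    intro _ _ T' S' E' F' hE hF
    obtain rfl := hE.src_eq hF
    have : E' = F' := fs_ext E' F' (hE.hom_eq hF)
    rw [this]
    exact IsSubnormalIn.refl F' p
  | @step U S E D F p hED hDF ih =>
    intro hp hW T' S' E' F' hE hF
    haveI : Fact p.Prime := ⟨hp⟩
    have hUS : U ≤ S := hDF.1.2.2.2.1.1
    have hSW : S ≤ W := hF.le
    have hUW : U ≤ W := hUS.trans hSW
    have : Finite S := Fusion.finite_of_le hSW
    have hD := imgFS_img e D hUW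
    have h1 := ih hp hW E' (imgFS e D hUW) hE hD
    have h2 := hD.isNormalIn p (hW.to_le hSW) hF hDF
    exact IsSubnormalIn.step h1 h2

theorem Img.isSubnormalIn [Finite W] (p : ℕ) [Fact p.Prime] (hW : IsPGroup p W)
    {T S : Subgroup Ω} {E : FusionSystem T} {F : FusionSystem S} {T' S' : Subgroup Ω'}
    {E' : FusionSystem T'} {F' : FusionSystem S'} (hE : Img e E E') (hF : Img e F F')
    (h : E.IsSubnormalIn F p) : E'.IsSubnormalIn F' p :=
  isSubnormalIn_aux h Fact.out hW E' F' hE hF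

/-- Subnormality only depends on the maps of the subsystem. -/
theorem isSubnormalIn_congr {T₁ T₂ S : Subgroup Ω} {E₁ : FusionSystem T₁} {E₂ : FusionSystem T₂}
    {F : FusionSystem S} {p : ℕ} (hT : T₁ = T₂) (hHom : ∀ P, E₁.Hom P = E₂.Hom P)
    (h : E₁.IsSubnormalIn F p) : E₂.IsSubnormalIn F p := by
  subst hT
  rw [← fs_ext E₁ E₂ hHom]
  exact h

/-! ### Central subgroups, the centre -/

section central

variable {S : Subgroup Ω} {F : FusionSystem S} {S' : Subgroup Ω'} {F' : FusionSystem S'}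

theorem Img.isCentral (hF : Img e F F') {Q : Subgroup Ω} (h : F.IsCentral Q) :
    F'.IsCentral (mapS e Q) := by
  obtain ⟨hQS, hext⟩ := h
  have hQW : Q ≤ W := hQS.trans hF.le
  refine ⟨hF.mapS_le hQS, fun P' φ' hφ' => ?_⟩
  obtain ⟨φ, hφ, hi⟩ := hF.pull hφ' rfl
  obtain ⟨ψ, hψ, hψ1, hψ2⟩ := hext _ φ hφ
  have hP'W : P' ≤ W' := (F'.le_of_mem hφ').1.trans hF.le'
  have hsup : P' ⊔ mapS e Q = mapS e (mapS e.symm P' ⊔ Q) := by
    rw [mapS_sup e hi.le hQW, mapS_mapS_symm e hP'W]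
  obtain ⟨ψ', hψ', hj⟩ := hF.push hψ hsup
  refine ⟨ψ', hψ', fun y => ?_, fun y => ?_⟩
  · obtain ⟨x, hx⟩ := exists_rel_of_eq_mapS' e hi.le hi.eq y
    have r1 := hj.app (x := Subgroup.inclusion le_sup_left x)
      (y := Subgroup.inclusion le_sup_left y) hx
    rw [hψ1 x] at r1
    exact rel.unique_right r1 (hi.app hx)
  · obtain ⟨x, hx⟩ := exists_rel_of_eq_mapS' e hQW rfl y
    have r1 := hj.app (x := Subgroup.inclusion le_sup_right x)
      (y := Subgroup.inclusion le_sup_right y) hx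
    rw [hψ2 x] at r1
    exact rel.unique_right r1 hx

theorem Img.center [Finite S] (hF : Img e F F') : F'.center = mapS e F.center := by
  have := hF.finite
  apply le_antisymm
  · have h1 : F.IsCentral (mapS e.symm F'.center) := hF.symm.isCentral (Fusion.center_isCentral F')
    have h2 : mapS e.symm F'.center ≤ F.center := le_sSup h1
    have h3 := mapS_mono e h2
    have h4 : F'.center ≤ W' := (Fusion.center_isCentral F').1.trans hF.le'
    rwa [mapS_mapS_symm e h4] at h3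
  · exact le_sSup (hF.isCentral (Fusion.center_isCentral F))

end central

/-! ### Factor systems -/

section factor

variable {Ωb : Type*} [Group Ωb] {Ωb' : Type*} [Group Ωb'] {Wb : Subgroup Ωb} {Wb' : Subgroup Ωb'}
  {Θ : ↥Wb ≃* ↥Wb'}

theorem factor_push {T : Subgroup Ω} {C : FusionSystem T} {T' : Subgroup Ω'} {E : FusionSystem T'}
    (hCE : Img e C E) {Z : Subgroup Ω} {Z' : Subgroup Ω'} {π : ↥T →* Ωb} {π' : ↥T' →* Ωb'}
    {Tb : Subgroup Ωb} {Tb' : Subgroup Ωb'} {Cb : FusionSystem Tb} {Eb : FusionSystem Tb'}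
    (hCb : C.IsFactorSystem Z π Cb) (hEb : E.IsFactorSystem Z' π' Eb)
    (hcompat : ∀ (x : ↥T) (y : ↥T'), rel e (x : Ω) (y : Ω') → rel Θ (π x) (π' y))
    {Pb : Subgroup Ωb} {φb : ↥Pb →* Ωb} {Pb' : Subgroup Ωb'} {φb' : ↥Pb' →* Ωb'}
    (hi : Ind Θ φb φb') (hφb : φb ∈ Cb.Hom Pb) : φb' ∈ Eb.Hom Pb' := by
  obtain ⟨hPbT, φ, hφ, hMT, hφT, hMP, hind⟩ := (hCb.2.2.2 Pb φb).mp hφb
  have hTW : T ≤ W := hCE.le
  -- the preimages correspond
  have hM : preimageAlong π' Pb' = mapS e (preimageAlong π Pb) := by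
    ext y
    rw [Fusion.mem_preimageAlong, mem_mapS]
    constructor
    · rintro ⟨hyT', hy⟩
      obtain ⟨x, hx⟩ := exists_rel_of_eq_mapS' e hTW hCE.eq ⟨y, hyT'⟩
      have r := hcompat x ⟨y, hyT'⟩ hx
      have hy' := hy
      rw [hi.eq] at hy'
      have h1 : π x ∈ Pb := mem_of_rel_of_mem_mapS Θ r hy'
      exact ⟨x, (Fusion.mem_preimageAlong π Pb x).mpr ⟨x.2, h1⟩, hx⟩
    · rintro ⟨x, hx, hxy⟩
      obtain ⟨hxT, h1⟩ := (Fusion.mem_preimageAlong π Pb x).mp hx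
      have hyT' : y ∈ T' := by
        rw [hCE.eq]
        exact mem_mapS_of_rel e hxy hxT
      refine ⟨hyT', ?_⟩
      have r := hcompat ⟨x, hxT⟩ ⟨y, hyT'⟩ hxy
      rw [hi.eq]
      exact mem_mapS_of_rel Θ r h1
  obtain ⟨φ', hφ', hj⟩ := hCE.push hφ hM
  have hM'T' : preimageAlong π' Pb' ≤ T' := Fusion.preimageAlong_le π' Pb'
  have hφ'T' : ∀ y : ↥(preimageAlong π' Pb'), φ' y ∈ T' := (E.le_of_mem hφ').2
  have hM'P' : ∀ y : ↥(preimageAlong π' Pb'), π' ⟨y, hM'T' y.2⟩ ∈ Pb' := fun y =>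
    ((Fusion.mem_preimageAlong π' Pb' y).mp y.2).2
  have hPb'T' : Pb' ≤ Tb' := by
    intro z hz
    rw [← hEb.2.2.1]
    rw [hi.eq] at hz
    obtain ⟨w, hw, hwz⟩ := (mem_mapS Θ Pb z).mp hz
    have hwT : w ∈ Tb := hPbT hw
    rw [← hCb.2.2.1] at hwT
    obtain ⟨x, rfl⟩ := hwT
    obtain ⟨y, hy⟩ := exists_rel_of_eq_mapS e hTW hCE.eq x
    have r := hcompat x y hy
    exact ⟨y, rel.unique_right r hwz⟩
  refine (hEb.2.2.2 Pb' φb').mpr ⟨hPb'T', φ', hφ', hM'T', hφ'T', hM'P', fun y => ?_⟩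
  obtain ⟨x, hx⟩ := exists_rel_of_eq_mapS' e (hMT.trans hTW) hM y
  have r1 : rel Θ (π ⟨x, hMT x.2⟩) (π' ⟨y, hM'T' y.2⟩) :=
    hcompat ⟨x, hMT x.2⟩ ⟨y, hM'T' y.2⟩ hx
  have r2 := hi.app (x := ⟨π ⟨x, hMT x.2⟩, hMP x⟩) (y := ⟨π' ⟨y, hM'T' y.2⟩, hM'P' y⟩) r1
  rw [hind x] at r2
  have r3 := hj.app hx
  have r4 := hcompat ⟨φ x, hφT x⟩ ⟨φ' y, hφ'T' y⟩ r3
  exact rel.unique_right r2 r4

theorem Img.factor {T : Subgroup Ω} {C : FusionSystem T} {T' : Subgroup Ω'} {E : FusionSystem T'}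
    (hCE : Img e C E) {Z : Subgroup Ω} {Z' : Subgroup Ω'} {π : ↥T →* Ωb} {π' : ↥T' →* Ωb'}
    {Tb : Subgroup Ωb} {Tb' : Subgroup Ωb'} {Cb : FusionSystem Tb} {Eb : FusionSystem Tb'}
    (hCb : C.IsFactorSystem Z π Cb) (hEb : E.IsFactorSystem Z' π' Eb)
    (hcompat : ∀ (x : ↥T) (y : ↥T'), rel e (x : Ω) (y : Ω') → rel Θ (π x) (π' y))
    (hTb : Tb ≤ Wb) : Img Θ Cb Eb := by
  have hTW : T ≤ W := hCE.le
  refine ⟨hTb, ?_, fun {Pb Pb' φb φb'} _ hi => ⟨factor_push hCE hCb hEb hcompat hi, ?_⟩⟩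
  · rw [← hEb.2.2.1, ← hCb.2.2.1]
    ext z
    rw [mem_mapS]
    constructor
    · rintro ⟨y, rfl⟩
      obtain ⟨x, hx⟩ := exists_rel_of_eq_mapS' e hTW hCE.eq y
      exact ⟨π x, ⟨x, rfl⟩, hcompat x y hx⟩
    · rintro ⟨_, ⟨x, rfl⟩, hxz⟩
      obtain ⟨y, hy⟩ := exists_rel_of_eq_mapS e hTW hCE.eq x
      exact ⟨y, rel.unique_right (hcompat x y hy) hxz⟩
  · have hcompat' : ∀ (y : ↥T') (x : ↥T), rel e.symm (y : Ω') (x : Ω) →
        rel Θ.symm (π' y) (π x) := fun y x hyx => (hcompat x y hyx.of_symm).symm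
    exact factor_push hCE.symm hEb hCb hcompat' hi.symm

end factor

/-! ### The quotient by a normal subgroup -/

section quot

theorem subgroupOf_map_pe {T : Subgroup Ω} (hT : T ≤ W) {T' : Subgroup Ω'} (hT' : T' = mapS e T)
    {Z : Subgroup Ω} {Z' : Subgroup Ω'} (hZ' : Z' = mapS e Z) :
    (Z.subgroupOf T).map ((pe e hT hT' : ↥T ≃* ↥T') : ↥T →* ↥T') = Z'.subgroupOf T' := by
  ext y
  rw [Subgroup.mem_subgroupOf, hZ', mem_mapS]
  constructor
  · rintro ⟨x, hx, rfl⟩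
    rw [SetLike.mem_coe, Subgroup.mem_subgroupOf] at hx
    exact ⟨x, hx, rel_pe e hT hT' x⟩
  · rintro ⟨x, hx, hxy⟩
    obtain ⟨x₂, hx₂⟩ := exists_rel_of_eq_mapS' e hT hT' y
    have : (x₂ : Ω) = x := rel.unique_left hx₂ hxy
    refine ⟨x₂, ?_, (pe_eq_iff e hT hT' x₂ y).mpr hx₂⟩
    rw [SetLike.mem_coe, Subgroup.mem_subgroupOf, this]
    exact hx

/-- The partial isomorphism (defined everywhere) between the quotients of `T` and `T'` by
corresponding normal subgroups. -/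
noncomputable def quotEquiv (e : ↥W ≃* ↥W') {T : Subgroup Ω} (hT : T ≤ W) {T' : Subgroup Ω'}
    (hT' : T' = mapS e T) (Z : Subgroup Ω) (Z' : Subgroup Ω') (hZ' : Z' = mapS e Z)
    [(Z.subgroupOf T).Normal] [(Z'.subgroupOf T').Normal] :
    ↥(⊤ : Subgroup (↥T ⧸ Z.subgroupOf T)) ≃* ↥(⊤ : Subgroup (↥T' ⧸ Z'.subgroupOf T')) :=
  Subgroup.topEquiv.trans
    ((QuotientGroup.congr (Z.subgroupOf T) (Z'.subgroupOf T') (pe e hT hT')
      (subgroupOf_map_pe hT hT' hZ')).trans Subgroup.topEquiv.symm)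

theorem rel_quotEquiv {T : Subgroup Ω} (hT : T ≤ W) {T' : Subgroup Ω'}
    (hT' : T' = mapS e T) (Z : Subgroup Ω) (Z' : Subgroup Ω') (hZ' : Z' = mapS e Z)
    [(Z.subgroupOf T).Normal] [(Z'.subgroupOf T').Normal] (x : ↥T) (y : ↥T')
    (hxy : rel e (x : Ω) (y : Ω')) :
    rel (quotEquiv e hT hT' Z Z' hZ') (QuotientGroup.mk' (Z.subgroupOf T) x)
      (QuotientGroup.mk' (Z'.subgroupOf T') y) := by
  refine ⟨Subgroup.mem_top _, ?_⟩
  have h1 : pe e hT hT' x = y := (pe_eq_iff e hT hT' x y).mpr hxy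
  show ((QuotientGroup.mk' (Z'.subgroupOf T')) (pe e hT hT' x)) = _
  rw [h1]

end quot

/-! ### Simple and quasisimple systems, components -/

section simple

variable {S : Subgroup Ω} {F : FusionSystem S} {S' : Subgroup Ω'} {F' : FusionSystem S'}

theorem Img.isSimple [Finite S] (p : ℕ) [Fact p.Prime] (hS : IsPGroup p S) (hF : Img e F F')
    (h : F.IsSimple p) : F'.IsSimple p := by
  obtain ⟨hsat, hne, hsimple⟩ := h
  have hfin' := hF.finite
  have hS' := hF.isPGroup hS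
  refine ⟨hF.isSaturated p hS hsat, ?_, fun R' D' hD' => ?_⟩
  · intro h0
    apply hne
    rw [hF.eq] at h0
    exact (mapS_eq_bot_iff e hF.le).mp h0
  · have hR'S' : R' ≤ S' := hD'.1.2.2.2.1.1
    have hR'W' : R' ≤ W' := hR'S'.trans hF.le'
    have hD := imgFS_img e.symm D' hR'W'
    have hDn := hD.isNormalIn p hS' hF.symm hD'
    rcases hsimple _ _ hDn with h1 | ⟨h1, h2⟩
    · left
      exact (mapS_eq_bot_iff e.symm hR'W').mp h1
    · right
      have hRS : R' = S' := by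
        apply mapS_injective e.symm hR'W' hF.le'
        rw [h1, ← hF.eq']
      refine ⟨hRS, fun P' => ?_⟩
      apply Set.Subset.antisymm (hD'.1.2.2.1 P')
      intro φ' hφ'
      obtain ⟨φ, hφ, hi⟩ := hF.pull hφ' rfl
      rw [← h2] at hφ
      exact (hD.iff hi.symm).mpr hφ

end simple

section quasi

variable {T : Subgroup Ω} {C : FusionSystem T} {T' : Subgroup Ω'} {E : FusionSystem T'}

theorem Img.quasisimple [Finite T] (p : ℕ) [Fact p.Prime] (hT : IsPGroup p T) (hCE : Img e C E)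
    (h : C.Quasisimple p) : E.Quasisimple p := by
  obtain ⟨hsat, hhyp, hquot⟩ := h
  have hTW : T ≤ W := hCE.le
  refine ⟨hCE.isSaturated p hT hsat, ?_, fun Eb hEb => ?_⟩
  · rw [hCE.hyperfocal p hT hsat, hhyp, ← hCE.eq]
  · have hZsc := Fusion.center_stronglyClosed p hT C hsat
    set N := (C.center).subgroupOf T with hN
    have hker : ∀ s : ↥T, (QuotientGroup.mk' N) s = 1 ↔ (s : Ω) ∈ C.center := by
      intro s
      rw [QuotientGroup.mk'_apply, QuotientGroup.eq_one_iff, hN, Subgroup.mem_subgroupOf]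
    have hr : (QuotientGroup.mk' N).range = ⊤ :=
      MonoidHom.range_eq_top.mpr (QuotientGroup.mk'_surjective N)
    have hCb := Fusion.factorSystem_isFactorSystem C (QuotientGroup.mk' N) hZsc hker hr
    have hCbs := hquot _ hCb
    have hZ' : E.center = mapS e C.center := hCE.center
    have himg : Img (quotEquiv e hTW hCE.eq C.center E.center hZ') _ Eb :=
      Img.factor hCE hCb hEb (fun x y hxy => rel_quotEquiv hTW hCE.eq _ _ hZ' x y hxy) le_rfl
    have hfin : Finite (↥T ⧸ N) := inferInstance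
    have hpq : IsPGroup p (⊤ : Subgroup (↥T ⧸ N)) := (hT.to_quotient N).to_subgroup _
    exact himg.isSimple p hpq hCbs

theorem Img.isComponentIn [Finite W] (p : ℕ) [Fact p.Prime] (hW : IsPGroup p W)
    {S : Subgroup Ω} {F : FusionSystem S} {S' : Subgroup Ω'} {F' : FusionSystem S'}
    (hCE : Img e C E) (hF : Img e F F') (h : C.IsComponentIn F p) : E.IsComponentIn F' p := by
  have : Finite T := Fusion.finite_of_le hCE.le
  exact ⟨hCE.isSubnormalIn p hW hF h.1, hCE.quasisimple p (hW.to_le hCE.le) h.2⟩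

end quasi

end Cfsg.Agent.Helper4.FusTr
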