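import Mathlib
import Cfsg.Prelude.Def_FusionComponents
import Cfsg.Agent.Lead.Fusion
import Cfsg.Agent.Lead.FusionSubnormal
import Cfsg.Agent.Helper4.FusTrA
import Cfsg.Agent.Helper4.FusTrB
import Cfsg.Agent.Helper4.FusTrC
import Cfsg.Agent.Helper4.FusTrD

set_option autoImplicit false

/-!
Transport of structure for fusion systems, part E: automorphisms of a fusion system,
conjugation by maps of the system, images of subnormal subsystems under maps of the system.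
-/

namespace Cfsg.Agent.Helper4.FusTr

open Cfsg Cfsg.FusionSystem Cfsg.Agent.Lead

variable {Ω : Type*} [Group Ω]

/-! ### Isomorphisms of fusion systems given by morphisms in both directions -/

theorem Img.of_isMorphism {Ω' : Type*} [Group Ω'] {S : Subgroup Ω} {S' : Subgroup Ω'}
    {F : FusionSystem S} {F' : FusionSystem S'} (e : ↥S ≃* ↥S')
    (h : F.IsMorphism F' (S'.subtype.comp e.toMonoidHom))
    (h' : F'.IsMorphism F (S.subtype.comp e.symm.toMonoidHom)) : Img e F F' := by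
  refine ⟨le_rfl, (mapS_self e).symm, fun {P P' φ φ'} _ hi => ⟨fun hφ => ?_, fun hφ' => ?_⟩⟩
  · obtain ⟨φ'', hφ'', hind⟩ := h.2 P φ hφ
    have hi' : Ind e φ φ'' := Ind.of_inducedAlong hind rfl
    obtain ⟨hP, rfl, happ⟩ := hi
    have : φ' = φ'' := Ind.unique_right ⟨hP, rfl, happ⟩ hi'
    rw [this]
    exact hφ''
  · obtain ⟨φ₂, hφ₂, hind⟩ := h'.2 P' φ' hφ'
    have hi' : Ind e.symm φ' φ₂ := Ind.of_inducedAlong hind rfl
    have hi₂ := hi.symm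
    obtain ⟨hP', rfl, happ⟩ := hi₂
    have : φ = φ₂ := Ind.unique_right ⟨hP', rfl, happ⟩ hi'
    rw [this]
    exact hφ₂

/-! ### Conjugation by an automorphism of the Sylow subgroup of an invariant subsystem -/

section invariant

variable {U S : Subgroup Ω} {D : FusionSystem U} {F : FusionSystem S}

theorem invariant_push (hinv : D.IsInvariantIn F) (α : MulAut ↥U) (hα : α ∈ F.autGroup U)
    {P : Subgroup Ω} {φ : ↥P →* Ω} {P' : Subgroup Ω} {φ' : ↥P' →* Ω}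
    (hi : Ind (W := U) (W' := U) α φ φ') (hφ : φ ∈ D.Hom P) : φ' ∈ D.Hom P' := by
  obtain ⟨hPU, rfl, happ⟩ := hi
  obtain ⟨χ, hχ, hχv⟩ := hinv.2.2.1 P hPU φ hφ α hα
  have hφU : ∀ x : ↥P, φ x ∈ U := (D.le_of_mem hφ).2
  have : φ' = χ := by
    ext y
    obtain ⟨x, hx⟩ := exists_rel_of_eq_mapS' (W := U) (W' := U) α hPU rfl y
    have r1 := happ x y hx
    have hy : (y : Ω) = ((α ⟨x, hPU x.2⟩ : ↥U) : Ω) :=
      rel.unique_right hx (rel_of_mem (W := U) (W' := U) α (hPU x.2))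
    have hαx : ((α ⟨x, hPU x.2⟩ : ↥U) : Ω) ∈
        (P.subgroupOf U).map (U.subtype.comp α.toMonoidHom) := hy ▸ y.2
    have h1 := hχv x (hφU x) hαx
    have h2 : y = ⟨((α ⟨x, hPU x.2⟩ : ↥U) : Ω), hαx⟩ := Subtype.ext hy
    have h3 : χ y = ((α ⟨φ x, hφU x⟩ : ↥U) : Ω) := (congrArg χ h2).trans h1
    exact (rel.unique_right r1 (rel_of_mem (W := U) (W' := U) α (hφU x))).trans h3.symm
  rw [this]
  exact hχ

theorem Img.of_invariant (hinv : D.IsInvariantIn F) (α : MulAut ↥U) (hα : α ∈ F.autGroup U) :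
    Img (W := U) (W' := U) α D D := by
  refine ⟨le_rfl, (mapS_self (W := U) (W' := U) α).symm, fun {P P' φ φ'} _ hi =>
    ⟨invariant_push hinv α hα hi, ?_⟩⟩
  have hα' : α⁻¹ ∈ F.autGroup U := Subgroup.inv_mem _ hα
  have hi' : Ind (W := U) (W' := U) (α⁻¹ : MulAut ↥U) φ' φ := hi.symm
  exact invariant_push hinv α⁻¹ hα' hi'

end invariant

/-! ### Conjugation by a map of the system -/

section conj

variable {S : Subgroup Ω} (F : FusionSystem S)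

theorem hom_conj_mem {T T' : Subgroup Ω} (e : ↥T ≃* ↥T') {γ : ↥T →* Ω} (hγ : γ ∈ F.Hom T)
    (he : ∀ x : ↥T, rel e (x : Ω) (γ x)) {P : Subgroup Ω} {φ : ↥P →* Ω} {P' : Subgroup Ω}
    {φ' : ↥P' →* Ω} (hi : Ind e φ φ') (hφ : φ ∈ F.Hom P) (hφT : ∀ x : ↥P, φ x ∈ T) :
    φ' ∈ F.Hom P' := by
  have hPT : P ≤ T := hi.le
  have hγP := Fusion.restrict_mem F hγ hPT
  obtain ⟨ψ, hψ, hψinv⟩ := F.inv_mem hγP
  have hrange : (γ.comp (Subgroup.inclusion hPT)).range = P' := by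
    rw [hi.eq]
    ext z
    rw [mem_mapS]
    constructor
    · rintro ⟨x, rfl⟩
      exact ⟨x, x.2, he (Subgroup.inclusion hPT x)⟩
    · rintro ⟨x, hx, hxz⟩
      exact ⟨⟨x, hx⟩, rel.unique_right (he ⟨x, hPT hx⟩) hxz⟩
  obtain ⟨ψ₂, hψ₂, hψψ⟩ := Fusion.exists_hom_of_eq F hrange hψ
  have hψ₂val : ∀ (x : ↥P) (y : ↥P'), rel e (x : Ω) (y : Ω) → ψ₂ y = x := by
    intro x y hxy
    have hy : (y : Ω) = γ (Subgroup.inclusion hPT x) :=
      rel.unique_right hxy (he (Subgroup.inclusion hPT x))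
    have hyr : (y : Ω) ∈ (γ.comp (Subgroup.inclusion hPT)).range := hrange ▸ y.2
    have h1 : ψ₂ y = ψ ⟨y, hyr⟩ := hψψ y hyr y.2
    have h2 : (⟨(y : Ω), hyr⟩ : ↥(γ.comp (Subgroup.inclusion hPT)).range) =
        ⟨(γ.comp (Subgroup.inclusion hPT)) x, ⟨x, rfl⟩⟩ := Subtype.ext hy
    rw [h1, h2, hψinv x]
  have hψ₂P : ∀ y : ↥P', ψ₂ y ∈ P := by
    intro y
    obtain ⟨x, hx⟩ := exists_rel_of_eq_mapS' e hPT hi.eq y
    rw [hψ₂val x y hx]
    exact x.2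
  have h1 := F.comp_mem hψ₂ hφ hψ₂P
  have h1T : ∀ y : ↥P', (φ.comp (ψ₂.codRestrict P hψ₂P)) y ∈ T := fun y => hφT _
  have h2 := F.comp_mem h1 hγ h1T
  have : φ' = γ.comp ((φ.comp (ψ₂.codRestrict P hψ₂P)).codRestrict T h1T) := by
    ext y
    obtain ⟨x, hx⟩ := exists_rel_of_eq_mapS' e hPT hi.eq y
    have r1 := hi.app hx
    have r2 := he ⟨φ x, hφT x⟩
    have h3 : (⟨ψ₂ y, hψ₂P y⟩ : ↥P) = x := Subtype.ext (hψ₂val x y hx)
    show φ' y = γ ⟨φ ⟨ψ₂ y, hψ₂P y⟩, h1T y⟩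
    have h4 : (⟨φ ⟨ψ₂ y, hψ₂P y⟩, h1T y⟩ : ↥T) = ⟨φ x, hφT x⟩ := by
      apply Subtype.ext
      show φ ⟨ψ₂ y, hψ₂P y⟩ = φ x
      rw [h3]
    rw [h4]
    exact rel.unique_right r1 r2
  rw [this]
  exact h2

theorem range_eq_of_rel {T T' : Subgroup Ω} (e : ↥T ≃* ↥T') {γ : ↥T →* Ω}
    (he : ∀ x : ↥T, rel e (x : Ω) (γ x)) : γ.range = T' := by
  ext z
  constructor
  · rintro ⟨x, rfl⟩
    exact (he x).mem_right
  · intro hz
    obtain ⟨x, hx⟩ := exists_rel_left e hz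
    exact ⟨⟨x, hx.mem_left⟩, rel.unique_right (he ⟨x, hx.mem_left⟩) hx⟩

/-- The inverse of a map of the system, as a map defined on the image. -/
theorem exists_inv_hom {T T' : Subgroup Ω} (e : ↥T ≃* ↥T') {γ : ↥T →* Ω} (hγ : γ ∈ F.Hom T)
    (he : ∀ x : ↥T, rel e (x : Ω) (γ x)) :
    ∃ γ' ∈ F.Hom T', ∀ y : ↥T', rel e.symm (y : Ω) (γ' y) := by
  obtain ⟨ψ, hψ, hψinv⟩ := F.inv_mem hγ
  have hrange := range_eq_of_rel e he
  obtain ⟨γ', hγ', hγγ⟩ := Fusion.exists_hom_of_eq F hrange hψ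
  refine ⟨γ', hγ', fun y => ?_⟩
  obtain ⟨x, hx⟩ := exists_rel_left e y.2
  have hxT : x ∈ T := hx.mem_left
  have hy : (y : Ω) = γ ⟨x, hxT⟩ := rel.unique_right hx (he ⟨x, hxT⟩)
  have hyr : (y : Ω) ∈ γ.range := hrange ▸ y.2
  have h1 : γ' y = ψ ⟨y, hyr⟩ := hγγ y hyr y.2
  have h2 : (⟨(y : Ω), hyr⟩ : ↥γ.range) = ⟨γ ⟨x, hxT⟩, ⟨⟨x, hxT⟩, rfl⟩⟩ := Subtype.ext hy
  rw [h1, h2, hψinv ⟨x, hxT⟩]
  exact hx.symm

theorem hom_conj_mem' {T T' : Subgroup Ω} (e : ↥T ≃* ↥T') {γ : ↥T →* Ω} (hγ : γ ∈ F.Hom T)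
    (he : ∀ x : ↥T, rel e (x : Ω) (γ x)) {P : Subgroup Ω} {φ : ↥P →* Ω} {P' : Subgroup Ω}
    {φ' : ↥P' →* Ω} (hi : Ind e φ φ') (hφ' : φ' ∈ F.Hom P') (hφ'T : ∀ y : ↥P', φ' y ∈ T') :
    φ ∈ F.Hom P := by
  obtain ⟨γ', hγ', he'⟩ := exists_inv_hom F e hγ he
  exact hom_conj_mem F e.symm hγ' he' hi.symm hφ' hφ'T

end conj

/-! ### The image of a subnormal subsystem under a map of the ambient system -/

theorem subnormal_image_aux {T S : Subgroup Ω} {C : FusionSystem T} {F : FusionSystem S} {p : ℕ}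
    (h : C.IsSubnormalIn F p) :
    p.Prime → Finite S → IsPGroup p S → ∀ (γ : ↥T →* Ω), γ ∈ F.Hom T →
      ∀ {T' : Subgroup Ω} (E : FusionSystem T') (e : ↥T ≃* ↥T'),
        (∀ x : ↥T, rel e (x : Ω) (γ x)) → Img e C E → E.IsSubnormalIn F p := by
  induction h with
  | refl F p =>
    intro hp hfin hS γ hγ T' E e he hE
    have hrange := range_eq_of_rel e he
    have hT'T : T' ≤ T := by
      rw [← hrange]
      exact Fusion.range_le F hγ
    have hT' : T = T' := by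
      have hcard : Nat.card ↥T = Nat.card ↥T' := Nat.card_congr e.toEquiv
      symm
      exact Subgroup.eq_of_le_of_card_ge hT'T hcard.le
    refine isSubnormalIn_congr hT' (fun P => ?_) (IsSubnormalIn.refl F p)
    ext φ'
    constructor
    · intro hφ'
      obtain ⟨hPT, hφ'T⟩ := F.le_of_mem hφ'
      have hPT' : P ≤ T' := hT' ▸ hPT
      have hφ'T' : ∀ y : ↥P, φ' y ∈ T' := fun y => hT' ▸ hφ'T y
      obtain ⟨φ, hi⟩ := Ind.exists e.symm φ' hPT' hφ'T' rfl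
      have hφ := hom_conj_mem' F e hγ he hi.of_symm hφ' hφ'T'
      exact (hE.iff hi.of_symm).mp hφ
    · intro hφ'
      obtain ⟨φ, hφ, hi⟩ := hE.pull hφ' rfl
      exact hom_conj_mem F e hγ he hi hφ (F.le_of_mem hφ).2
  | @step U S C D F p hCD hDF ih =>
    intro hp hfin hS γ hγ T' E e he hE
    haveI : Fact p.Prime := ⟨hp⟩
    have hTU : T ≤ U := Fusion.le_of_isSubnormalIn hCD
    have hUS : U ≤ S := hDF.1.2.2.2.1.1
    have hfinU : Finite U := Fusion.finite_of_le hUS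
    have hU : IsPGroup p U := hS.to_le hUS
    obtain ⟨α, hα, φ₀, hφ₀, hγα⟩ := hDF.1.2.2.2.2.2 T hTU γ hγ
    have hφ₀U : ∀ x : ↥T, φ₀ x ∈ U := (D.le_of_mem hφ₀).2
    set e₀ : ↥T ≃* ↥φ₀.range := MonoidHom.ofInjective (D.injective_of_mem hφ₀) with he₀def
    have he₀ : ∀ x : ↥T, rel e₀ (x : Ω) (φ₀ x) := fun x => ⟨x.2, rfl⟩
    have hE₀ := imgFS_img e₀ C le_rfl
    have he₀' : ∀ x : ↥T, rel (pe e₀ hE₀.le hE₀.eq) (x : Ω) (φ₀ x) := fun x =>
      (rel_pe_iff hE₀.le hE₀.eq _ _).mpr ⟨x.2, he₀ x⟩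
    have hsub₀ := ih hp hfinU hU φ₀ hφ₀ (imgFS e₀ C le_rfl) (pe e₀ hE₀.le hE₀.eq) he₀'
      hE₀.restrict
    have hT₀U : mapS e₀ T ≤ U := by
      intro z hz
      obtain ⟨x, hx, hxz⟩ := (mem_mapS e₀ T z).mp hz
      rw [← rel.unique_right (he₀ ⟨x, hx⟩) hxz]
      exact hφ₀U _
    have hE₁ := imgFS_img (W := U) (W' := U) α (imgFS e₀ C le_rfl) hT₀U
    have hDD := Img.of_invariant hDF.1.2.2 α hα
    have hsub₁ := hE₁.isSubnormalIn p hU hDD hsub₀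
    have hsub₂ := IsSubnormalIn.step hsub₁ hDF
    have hcompat : Compat e₀ (W₂ := U) (W₂' := U) α e T := by
      intro x hx
      refine ⟨φ₀ ⟨x, hx⟩, γ ⟨x, hx⟩, he₀ ⟨x, hx⟩, ?_, he ⟨x, hx⟩⟩
      rw [hγα ⟨x, hx⟩ (hφ₀U ⟨x, hx⟩)]
      exact rel_of_mem (W := U) (W' := U) α (hφ₀U ⟨x, hx⟩)
    have hE' : Img e C _ := Img.trans' hcompat hE₀ hE₁ le_rfl
    exact isSubnormalIn_congr (hE'.src_eq hE) (hE'.hom_eq hE) hsub₂

/-- The image of a subnormal subsystem under a map of the ambient saturated system is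
subnormal. -/
theorem subnormal_image {S : Subgroup Ω} [Finite S] (p : ℕ) [Fact p.Prime] (hS : IsPGroup p S)
    {F : FusionSystem S} {T : Subgroup Ω} {C : FusionSystem T} (h : C.IsSubnormalIn F p)
    {γ : ↥T →* Ω} (hγ : γ ∈ F.Hom T) {T' : Subgroup Ω} (E : FusionSystem T') (e : ↥T ≃* ↥T')
    (he : ∀ x : ↥T, rel e (x : Ω) (γ x)) (hE : Img e C E) : E.IsSubnormalIn F p :=
  subnormal_image_aux h Fact.out inferInstance hS γ hγ E e he hE

end Cfsg.Agent.Helper4.FusTr
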