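import Mathlib
import Cfsg.Agent.Helper3.CosetCert

/-!
# Groups presented by a list of positive words, with coset certificates

`PG R` is the group presented by generators `Fin k` and the relators `R` (lists of generators).
A certificate in the sense of `Helper3.CosetCert` bounds its order; together with a family of
elements of a target group satisfying the relators and pairwise distinct on the spanning tree it
gives an injective homomorphism.  We also record the kernel criterion for `p`-groups.
-/

set_option autoImplicit false

namespace Cfsg.Agent.Helper4.PresList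

open Cfsg.Agent.Helper3.CosetCert

variable {k : ℕ}

/-- the relators as elements of the free group -/
def relSet (R : List (List (Fin k))) : Set (FreeGroup (Fin k)) :=
  {r | ∃ l ∈ R, r = (l.map FreeGroup.of).prod}

/-- the presented group -/
abbrev PG (R : List (List (Fin k))) : Type := PresentedGroup (relSet R)

/-- its generators -/
def pgens (R : List (List (Fin k))) : Fin k → PG R := fun i => PresentedGroup.of i

theorem pgens_rel (R : List (List (Fin k))) : ∀ l ∈ R, prodL (pgens R) l = 1 := by
  intro l hl
  have h1 : PresentedGroup.mk (relSet R) ((l.map FreeGroup.of).prod) = 1 :=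
    PresentedGroup.one_of_mem ⟨l, hl, rfl⟩
  rw [map_list_prod, List.map_map] at h1
  exact h1

theorem pgens_closure (R : List (List (Fin k))) :
    Subgroup.closure (Set.range (pgens R)) = ⊤ :=
  PresentedGroup.closure_range_of (relSet R)

section hom

variable {H : Type*} [Group H] {R : List (List (Fin k))}

theorem lift_prod (g : Fin k → H) (l : List (Fin k)) :
    FreeGroup.lift g ((l.map FreeGroup.of).prod) = prodL g l := by
  rw [map_list_prod, List.map_map]
  unfold prodL
  congr 1
  apply List.map_congr_left
  intro s _
  simp

/-- the homomorphism determined by images of the generators satisfying the relators -/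
def homOf (g : Fin k → H) (h : ∀ l ∈ R, prodL g l = 1) : PG R →* H :=
  PresentedGroup.toGroup (f := g) (rels := relSet R) (by
    rintro r ⟨l, hl, rfl⟩
    rw [lift_prod]
    exact h l hl)

theorem homOf_pgens (g : Fin k → H) (h : ∀ l ∈ R, prodL g l = 1) (i : Fin k) :
    homOf g h (pgens R i) = g i :=
  PresentedGroup.toGroup.of _

theorem homOf_prodL (g : Fin k → H) (h : ∀ l ∈ R, prodL g l = 1) (l : List (Fin k)) :
    homOf g h (prodL (pgens R) l) = prodL g l := by
  induction l with
  | nil => simp [prodL]
  | cons s l ih => rw [prodL_cons, prodL_cons, map_mul, ih, homOf_pgens]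

theorem map_prodL {H' : Type*} [Group H'] (f : H →* H') (g : Fin k → H) (l : List (Fin k)) :
    f (prodL g l) = prodL (fun i => f (g i)) l := by
  induction l with
  | nil => simp [prodL]
  | cons s l ih => rw [prodL_cons, prodL_cons, map_mul, ih]

end hom

section cert

variable {n : ℕ} (R : List (List (Fin k))) (act : Fin n → Fin k → Fin n)
  (word : Fin n → List (Fin k)) (root : Fin n) (hroot : word root = [])
  (cert : List (Fin n × List (Fin k) × Fin k × List (Fin k)))
  (hall : ∀ e : Fin n × Fin k, e ∈ run act R (treeEdges act word) cert)

include hroot hall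

theorem ev_surjective : Function.Surjective (fun ω : Fin n => prodL (pgens R) (word ω)) :=
  surjective_of_cert (pgens R) (pgens_closure R) act word root hroot R (pgens_rel R) cert hall

theorem finite_PG : Finite (PG R) :=
  Finite.of_surjective _ (ev_surjective R act word root hroot cert hall)

theorem card_PG_le : Nat.card (PG R) ≤ n := by
  have := Nat.card_le_card_of_surjective _ (ev_surjective R act word root hroot cert hall)
  simpa using this

variable {H : Type*} [Group H] (g : Fin k → H) (h : ∀ l ∈ R, prodL g l = 1)
  (hinj : Function.Injective (fun ω : Fin n => prodL g (word ω)))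

include hinj

theorem homOf_injective : Function.Injective (homOf g h) := by
  intro x y hxy
  obtain ⟨ω, rfl⟩ := ev_surjective R act word root hroot cert hall x
  obtain ⟨ω', rfl⟩ := ev_surjective R act word root hroot cert hall y
  simp only at hxy
  rw [homOf_prodL, homOf_prodL] at hxy
  have := hinj hxy
  rw [this]

include h in
theorem card_PG_eq : Nat.card (PG R) = n := by
  apply le_antisymm (card_PG_le R act word root hroot cert hall)
  have hf := finite_PG R act word root hroot cert hall
  have hinj' : Function.Injective (fun ω : Fin n => prodL (pgens R) (word ω)) := by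
    intro ω ω' hω
    apply hinj
    have := congrArg (homOf g h) hω
    simp only at this
    rwa [homOf_prodL, homOf_prodL] at this
  have := Nat.card_le_card_of_injective _ hinj'
  simpa using this

end cert

/-! ### kernels in `p`-groups -/

/-- a nontrivial normal subgroup of a finite `p`-group contains a nontrivial central element -/
theorem exists_central_of_normal {Q : Type*} [Group Q] [Finite Q] {p : ℕ} [hp : Fact p.Prime]
    (hQ : IsPGroup p Q) (M : Subgroup Q) [hM : M.Normal] (hMne : M ≠ ⊥) :
    ∃ b ∈ M, b ≠ 1 ∧ ∀ g : Q, g * b = b * g := by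
  have hQ' : IsPGroup p (ConjAct Q) := hQ
  have hcard : p ∣ Nat.card M := by
    obtain ⟨j, hj⟩ := (hQ.to_subgroup M).exists_card_eq
    have hj0 : j ≠ 0 := by
      rintro rfl
      rw [pow_zero] at hj
      exact hMne (Subgroup.card_eq_one.1 hj)
    rw [hj]
    exact dvd_pow_self p hj0
  have h1 : (1 : M) ∈ MulAction.fixedPoints (ConjAct Q) M := by
    intro g
    exact smul_one g
  obtain ⟨b, hb, hne⟩ := hQ'.exists_fixed_point_of_prime_dvd_card_of_fixed_point M hcard h1
  refine ⟨(b : Q), b.2, ?_, ?_⟩
  · intro h
    apply hne
    exact (Subtype.ext h).symm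
  · intro g
    have h2 := hb (ConjAct.toConjAct g)
    have h3 := congrArg Subtype.val h2
    rw [ConjAct.Subgroup.val_conj_smul, ConjAct.smul_def, ConjAct.ofConjAct_toConjAct] at h3
    calc g * b = g * b * g⁻¹ * g := by group
      _ = b * g := by rw [h3]

/-- a homomorphism from a finite `p`-group that kills no nontrivial central element is
injective -/
theorem injective_of_central {Q H : Type*} [Group Q] [Finite Q] [Group H] {p : ℕ}
    [hp : Fact p.Prime] (hQ : IsPGroup p Q) (f : Q →* H)
    (hf : ∀ b : Q, b ≠ 1 → (∀ g : Q, g * b = b * g) → f b ≠ 1) : Function.Injective f := by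
  rw [← MonoidHom.ker_eq_bot_iff]
  by_contra hne
  obtain ⟨b, hb, hb1, hbc⟩ := exists_central_of_normal hQ f.ker hne
  exact hf b hb1 hbc (MonoidHom.mem_ker.1 hb)

/-! ### Sylow subgroups from an injective homomorphism -/

theorem sylow_equiv_of_injective {G T : Type*} [Group G] [Finite G] [Group T] {p : ℕ}
    [hp : Fact p.Prime] (f : T →* G) (hf : Function.Injective f) (j m : ℕ)
    (hT : Nat.card T = p ^ j) (hG : Nat.card G = p ^ j * m) (hm : ¬ p ∣ m) (P : Sylow p G) :
    Nonempty (P ≃* T) := by
  have hr : Nat.card f.range = p ^ j := by
    rw [← hT]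
    exact Nat.card_congr (MonoidHom.ofInjective hf).toEquiv.symm
  have hpg : IsPGroup p f.range := IsPGroup.of_card hr
  obtain ⟨Q, hQ⟩ := hpg.exists_le_sylow
  have hm0 : m ≠ 0 := by
    rintro rfl
    exact hm (dvd_zero p)
  have hQc : Nat.card Q = p ^ j := by
    rw [Sylow.card_eq_multiplicity, hG, Nat.factorization_mul (pow_ne_zero _ hp.out.ne_zero) hm0,
      Finsupp.add_apply, Nat.factorization_pow, Finsupp.smul_apply,
      Nat.Prime.factorization_self hp.out, Nat.factorization_eq_zero_of_not_dvd hm]
    simp
  have heq : f.range = (Q : Subgroup G) :=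
    Subgroup.eq_of_le_of_card_ge hQ (by rw [hQc, hr])
  have e1 : P ≃* Q := Sylow.equiv P Q
  have e2 : (Q : Subgroup G) ≃* f.range := MulEquiv.subgroupCongr heq.symm
  exact ⟨e1.trans (e2.trans (MonoidHom.ofInjective hf).symm)⟩

end Cfsg.Agent.Helper4.PresList
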