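import Mathlib
import Cfsg.Agent.S3993

/-!
Camina's lemma (counting version, all p'-elements): if every p'-element of a finite group `K`
has conjugacy class of size prime to `p`, then the p'-elements form a normal subgroup of order
`|K|_{p'}` commuting with all p-elements.  Uses Frobenius' theorem (S3993).
-/

namespace Cfsg.Agent.Helper4.CaminaLemma

open Subgroup

variable {K : Type*} [Group K] [Finite K] (p : ℕ) [Fact p.Prime]

theorem pow_ordCompl_eq_one_iff (y : K) :
    y ^ (ordCompl[p] (Nat.card K)) = 1 ↔ ¬ p ∣ orderOf y := by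
  have hp := (Fact.out : p.Prime)
  rw [← orderOf_dvd_iff_pow_eq_one]
  constructor
  · intro h hpy
    exact Nat.not_dvd_ordCompl hp Nat.card_pos.ne' (hpy.trans h)
  · intro h
    have h1 : orderOf y ∣ Nat.card K := orderOf_dvd_natCard y
    have h2 : (orderOf y).Coprime (p ^ (Nat.card K).factorization p) :=
      Nat.Coprime.pow_right _ ((Nat.Prime.coprime_iff_not_dvd hp).2 h).symm
    rw [← Nat.ordProj_mul_ordCompl_eq_self (Nat.card K) p] at h1
    exact h2.dvd_of_dvd_mul_left h1

theorem le_card_pPrime :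
    ordCompl[p] (Nat.card K) ≤ Nat.card {y : K // ¬ p ∣ orderOf y} := by
  have hp := (Fact.out : p.Prime)
  have h := Cfsg.Agent.S3993.result (G := K) (ordCompl[p] (Nat.card K)) (Nat.ordCompl_dvd _ _)
  have e : Nat.card {g : K // g ^ (ordCompl[p] (Nat.card K)) = 1}
      = Nat.card {y : K // ¬ p ∣ orderOf y} :=
    Nat.card_congr (Equiv.subtypeEquivRight (pow_ordCompl_eq_one_iff p))
  rw [e] at h
  apply Nat.le_of_dvd _ h
  have : Nonempty {y : K // ¬ p ∣ orderOf y} := ⟨⟨1, by simpa using hp.one_lt.ne'⟩⟩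
  exact Nat.card_pos

theorem exists_sylow_le_of_not_dvd_index (H : Subgroup K) (h : ¬ p ∣ H.index) :
    ∃ P : Sylow p K, (P : Subgroup K) ≤ H := by
  have hp := (Fact.out : p.Prime)
  obtain ⟨Q⟩ : Nonempty (Sylow p H) := inferInstance
  have hQ : IsPGroup p ((Q : Subgroup H).map H.subtype) := Q.2.map _
  obtain ⟨P, hP⟩ := hQ.exists_le_sylow
  refine ⟨P, ?_⟩
  have hc1 : Nat.card ((Q : Subgroup H).map H.subtype) = Nat.card (Q : Subgroup H) :=
    Subgroup.card_map_of_injective H.subtype_injective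
  have hc2 : Nat.card (Q : Subgroup H) = p ^ (Nat.card H).factorization p :=
    Q.card_eq_multiplicity
  have hc3 : Nat.card (P : Subgroup K) = p ^ (Nat.card K).factorization p :=
    P.card_eq_multiplicity
  have hK : Nat.card K = Nat.card H * H.index := (Subgroup.card_mul_index H).symm
  have hfac : (Nat.card K).factorization p = (Nat.card H).factorization p := by
    rw [hK, Nat.factorization_mul Nat.card_pos.ne' (Subgroup.index_ne_zero_of_finite)]
    simp [Nat.factorization_eq_zero_of_not_dvd h]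
  have heq : (Q : Subgroup H).map H.subtype = (P : Subgroup K) := by
    apply Subgroup.eq_of_le_of_card_ge hP
    rw [hc1, hc2, hc3, hfac]
  rw [← heq]
  exact Subgroup.map_subtype_le _


theorem pow_card_sylow_eq_one_of_orderOf (g : K) (j : ℕ) (hg : orderOf g = p ^ j) :
    g ^ (p ^ (Nat.card K).factorization p) = 1 := by
  have hp := (Fact.out : p.Prime)
  rw [← orderOf_dvd_iff_pow_eq_one, hg]
  have h1 : p ^ j ∣ Nat.card K := hg ▸ orderOf_dvd_natCard g
  exact pow_dvd_pow _ ((Nat.Prime.pow_dvd_iff_le_factorization hp Nat.card_pos.ne').1 h1)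

omit [Finite K] in
theorem eq_one_of_pow_eq_one_of_not_dvd (y : K) (hy : ¬ p ∣ orderOf y) (n : ℕ)
    (h : y ^ (p ^ n) = 1) : y = 1 := by
  have hp := (Fact.out : p.Prime)
  rw [← orderOf_dvd_iff_pow_eq_one] at h
  obtain ⟨k, -, hk⟩ := (Nat.dvd_prime_pow hp).1 h
  rcases k with _ | k
  · simpa using hk
  · exact absurd (hk ▸ dvd_pow_self p (Nat.succ_ne_zero k)) hy

/-- **Camina's lemma**. -/
theorem camina (h : ∀ y : K, ¬ p ∣ orderOf y →
      ¬ p ∣ (Subgroup.centralizer ({y} : Set K)).index) :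
    ∃ H : Subgroup K, H.Normal ∧ (∀ y : K, y ∈ H ↔ ¬ p ∣ orderOf y) ∧
      Nat.card H = ordCompl[p] (Nat.card K) ∧
      ∀ y ∈ H, ∀ u : K, (∃ j : ℕ, orderOf u = p ^ j) → u * y = y * u := by
  classical
  have hp := (Fact.out : p.Prime)
  set m := ordCompl[p] (Nat.card K) with hm
  set N := p ^ (Nat.card K).factorization p with hN
  have hNm : N * m = Nat.card K := Nat.ordProj_mul_ordCompl_eq_self _ _
  have hcop : Nat.Coprime N m := Nat.Coprime.pow_left _ (Nat.coprime_ordCompl hp Nat.card_pos.ne')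
  -- choose Sylow subgroups
  choose Pof hPof using fun y : {y : K // ¬ p ∣ orderOf y} =>
    exists_sylow_le_of_not_dvd_index p _ (h y.1 y.2)
  have hcardP : ∀ y, Nat.card (Pof y : Subgroup K) = N := fun y => (Pof y).card_eq_multiplicity
  -- the map
  let φ : (Σ y : {y : K // ¬ p ∣ orderOf y}, ↥(Pof y : Subgroup K)) → K := fun z => z.1.1 * z.2.1
  have hcomm : ∀ (y : {y : K // ¬ p ∣ orderOf y}) (u : ↥(Pof y : Subgroup K)),
      Commute (y.1 : K) (u : K) := by
    intro y u
    have := hPof y u.2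
    rw [Subgroup.mem_centralizer_singleton_iff] at this
    exact this.symm
  have hpowu : ∀ (y : {y : K // ¬ p ∣ orderOf y}) (u : ↥(Pof y : Subgroup K)),
      (u : K) ^ N = 1 := by
    intro y u
    have h1 : u ^ Nat.card (Pof y : Subgroup K) = 1 := pow_card_eq_one'
    rw [hcardP] at h1
    exact_mod_cast congrArg Subtype.val h1
  -- recover y from y^N
  have hrec : ∀ y y' : K, ¬ p ∣ orderOf y → ¬ p ∣ orderOf y' → y ^ N = y' ^ N → y = y' := by
    intro y y' hy hy' hyy
    have h1 : y ^ m = 1 := (pow_ordCompl_eq_one_iff p y).2 hy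
    have h2 : y' ^ m = 1 := (pow_ordCompl_eq_one_iff p y').2 hy'
    rcases Nat.lt_or_ge 1 m with hm1 | hm1
    · obtain ⟨N', -, hN'⟩ := Nat.exists_mul_mod_eq_one_of_coprime hcop hm1
      have e1 : y ^ (N * N') = y := by
        rw [pow_eq_pow_mod _ h1, hN', pow_one]
      have e2 : y' ^ (N * N') = y' := by
        rw [pow_eq_pow_mod _ h2, hN', pow_one]
      rw [← e1, ← e2, pow_mul, pow_mul, hyy]
    · have hm0 : m = 1 := by
        have : 0 < m := Nat.pos_of_ne_zero (by
          intro h0
          rw [h0, mul_zero] at hNm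
          exact Nat.card_pos.ne' hNm.symm)
        omega
      rw [hm0, pow_one] at h1 h2
      rw [h1, h2]
  have hinj : Function.Injective φ := by
    rintro ⟨⟨y, hy⟩, u⟩ ⟨⟨y', hy'⟩, u'⟩ hEq
    simp only [φ] at hEq
    have e1 : (y * (u : K)) ^ N = y ^ N := by
      rw [(hcomm ⟨y, hy⟩ u).mul_pow, hpowu, mul_one]
    have e2 : (y' * (u' : K)) ^ N = y' ^ N := by
      rw [(hcomm ⟨y', hy'⟩ u').mul_pow, hpowu, mul_one]
    have hyy : y = y' := hrec y y' hy hy' (by rw [← e1, ← e2, hEq])
    subst hyy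
    have huu : (u : K) = (u' : K) := mul_left_cancel hEq
    have : u = u' := Subtype.ext huu
    subst this
    rfl
  -- cardinalities
  have hcardS : Nat.card (Σ y : {y : K // ¬ p ∣ orderOf y}, ↥(Pof y : Subgroup K))
      = Nat.card {y : K // ¬ p ∣ orderOf y} * N := by
    have : Fintype {y : K // ¬ p ∣ orderOf y} := Fintype.ofFinite _
    rw [Nat.card_sigma]
    simp only [hcardP, Finset.sum_const, Finset.card_univ, smul_eq_mul, Nat.card_eq_fintype_card]
  have hle : Nat.card {y : K // ¬ p ∣ orderOf y} * N ≤ N * m := by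
    rw [← hcardS, hNm]
    exact Nat.card_le_card_of_injective φ hinj
  have hNpos : 0 < N := pow_pos hp.pos _
  have hcount : Nat.card {y : K // ¬ p ∣ orderOf y} = m := by
    apply le_antisymm
    · rw [mul_comm] at hle
      exact Nat.le_of_mul_le_mul_left hle hNpos
    · exact le_card_pPrime p
  have hbij : Function.Surjective φ := by
    have : Function.Bijective φ := by
      apply Function.Injective.bijective_of_nat_card_le hinj
      rw [hcardS, hcount, mul_comm, hNm]
    exact this.2
  -- all p-elements lie in P₁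
  have h1mem : ¬ p ∣ orderOf (1 : K) := by simpa using hp.one_lt.ne'
  set P := Pof ⟨1, h1mem⟩ with hPdef
  have hallP : ∀ g : K, (∃ j : ℕ, orderOf g = p ^ j) → g ∈ (P : Subgroup K) := by
    rintro g ⟨j, hj⟩
    obtain ⟨⟨⟨y, hy⟩, u⟩, hyu⟩ := hbij g
    simp only [φ] at hyu
    have e1 : (y * (u : K)) ^ N = y ^ N := by
      rw [(hcomm ⟨y, hy⟩ u).mul_pow, hpowu, mul_one]
    have e3 : y ^ N = 1 := by
      rw [← e1, hyu]
      exact pow_card_sylow_eq_one_of_orderOf p g j hj
    have hy1 : y = 1 := eq_one_of_pow_eq_one_of_not_dvd p y hy _ e3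
    subst hy1
    rw [one_mul] at hyu
    rw [← hyu]
    exact u.2
  have huniq : ∀ Q : Sylow p K, Q = P := by
    intro Q
    have hle : (Q : Subgroup K) ≤ (P : Subgroup K) := by
      intro g hg
      apply hallP
      obtain ⟨k, hk⟩ := Q.2 ⟨g, hg⟩
      have hk' : g ^ (p ^ k) = 1 := by
        have := congrArg Subtype.val hk
        simpa using this
      obtain ⟨j, -, hj⟩ := (Nat.dvd_prime_pow hp).1 (orderOf_dvd_of_pow_eq_one hk')
      exact ⟨j, hj⟩
    exact Sylow.ext (Q.is_maximal' P.2 hle).symm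
  have hsub : Subsingleton (Sylow p K) := ⟨fun a b => (huniq a).trans (huniq b).symm⟩
  have hPn : (P : Subgroup K).Normal := Sylow.normal_of_subsingleton P
  obtain ⟨H, hH⟩ := Subgroup.exists_right_complement'_of_coprime (N := (P : Subgroup K))
    P.card_coprime_index
  have hcardH : Nat.card H = m := by
    have h1 := hH.card_mul_card
    rw [hcardP, ← hNm] at h1
    exact Nat.eq_of_mul_eq_mul_left hNpos h1
  have hHsub : ∀ y ∈ H, ¬ p ∣ orderOf y := by
    intro y hy
    rw [← pow_ordCompl_eq_one_iff]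
    have h1 : (⟨y, hy⟩ : H) ^ Nat.card H = 1 := pow_card_eq_one'
    rw [hcardH] at h1
    have := congrArg Subtype.val h1
    simpa using this
  have hHeq : ∀ y : K, y ∈ H ↔ ¬ p ∣ orderOf y := by
    have hsubset : (H : Set K) ⊆ {y : K | ¬ p ∣ orderOf y} := fun y hy => hHsub y hy
    have hfin : ({y : K | ¬ p ∣ orderOf y} : Set K).Finite := Set.toFinite _
    have heq : (H : Set K) = {y : K | ¬ p ∣ orderOf y} := by
      apply Set.eq_of_subset_of_ncard_le hsubset _ hfin
      rw [← Nat.card_coe_set_eq, ← Nat.card_coe_set_eq]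
      change Nat.card {y : K // ¬ p ∣ orderOf y} ≤ Nat.card H
      rw [hcount, hcardH]
    intro y
    constructor
    · exact hHsub y
    · intro hy
      have : y ∈ ({y : K | ¬ p ∣ orderOf y} : Set K) := hy
      rw [← heq] at this
      exact this
  refine ⟨H, ⟨?_⟩, hHeq, hcardH, ?_⟩
  · intro y hy g
    rw [hHeq] at hy ⊢
    have : orderOf (g * y * g⁻¹) = orderOf y := by
      have := (MulAut.conj g).orderOf_eq y
      simpa [MulAut.conj_apply] using this
    rwa [this]
  · intro y hy u hu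
    have hy' := (hHeq y).1 hy
    have hu' : u ∈ (Pof ⟨y, hy'⟩ : Subgroup K) := by
      rw [huniq (Pof ⟨y, hy'⟩)]
      exact hallP u hu
    have := hPof ⟨y, hy'⟩ hu'
    rwa [Subgroup.mem_centralizer_singleton_iff] at this

end Cfsg.Agent.Helper4.CaminaLemma
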