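import Mathlib
import Cfsg.Agent.Helper1.Coprime

/-!
A coprime-action lemma (special case of Thompson's `A × B` lemma with inner `B = ⟨x⟩`):
if a `p'`-subgroup `H` normalizes a `p`-subgroup `N`, centralizes some `x ∈ N`, and centralizes
`C_N(x)`, then `H` centralizes `N`.
-/

namespace Cfsg.Agent.Helper4.CentralizeChain

open Subgroup

variable {G : Type*} [Group G] [Finite G]

theorem le_centralizer_of_centralizer_le (p : ℕ) [Fact p.Prime] (N H : Subgroup G)
    (hN : IsPGroup p N) (hHN : H ≤ normalizer (N : Set G))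
    (hcop : (Nat.card H).Coprime (Nat.card N))
    (x : G) (hxN : x ∈ N) (hxH : H ≤ centralizer ({x} : Set G))
    (hc : N ⊓ centralizer ({x} : Set G) ≤ centralizer (H : Set G)) :
    N ≤ centralizer (H : Set G) := by
  by_contra hcon
  set D : Subgroup G := N ⊓ centralizer (H : Set G) with hD
  have hDN : D ≤ N := inf_le_left
  have hDH : D ≤ centralizer (H : Set G) := inf_le_right
  have hxD : x ∈ D := by
    refine Subgroup.mem_inf.2 ⟨hxN, ?_⟩
    rw [Subgroup.mem_centralizer_iff]
    intro h hh
    have := hxH hh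
    rw [Subgroup.mem_centralizer_singleton_iff] at this
    exact this
  -- normalizer condition in N
  have hnil : Group.IsNilpotent N := hN.isNilpotent
  have hlt : D.subgroupOf N < ⊤ := by
    rw [lt_top_iff_ne_top, Ne, Subgroup.subgroupOf_eq_top]
    intro h
    exact hcon (h.trans hDH)
  have hnc := Group.normalizerCondition_of_isNilpotent (G := N) (D.subgroupOf N) hlt
  obtain ⟨g, hgn, hgD⟩ := SetLike.exists_of_lt hnc
  -- g normalizes D in G
  have hgnorm : (g : G) ∈ normalizer (D : Set G) := by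
    rw [Subgroup.mem_normalizer_iff]
    intro h
    rw [Subgroup.mem_normalizer_iff] at hgn
    constructor
    · intro hh
      have := (hgn ⟨h, hDN hh⟩).1 (by rw [Subgroup.mem_subgroupOf]; exact hh)
      rw [Subgroup.mem_subgroupOf] at this
      simpa using this
    · intro hh
      have hhN : h ∈ N := by
        have h1 : (g : G)⁻¹ * ((g : G) * h * (g : G)⁻¹) * (g : G) ∈ N :=
          N.mul_mem (N.mul_mem (N.inv_mem g.2) (hDN hh)) g.2
        have h2 : (g : G)⁻¹ * ((g : G) * h * (g : G)⁻¹) * (g : G) = h := by group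
        rwa [h2] at h1
      have := (hgn ⟨h, hhN⟩).2 (by rw [Subgroup.mem_subgroupOf]; simpa using hh)
      rw [Subgroup.mem_subgroupOf] at this
      exact this
  have hgD' : (g : G) ∉ D := by
    intro h
    exact hgD (by rw [Subgroup.mem_subgroupOf]; exact h)
  set M : Subgroup G := normalizer (D : Set G) ⊓ N with hM
  have hMN : M ≤ N := inf_le_right
  have hgM : (g : G) ∈ M := Subgroup.mem_inf.2 ⟨hgnorm, g.2⟩
  -- H normalizes M
  have hHM : H ≤ normalizer (M : Set G) := by
    intro a ha
    have key : ∀ b ∈ H, ∀ m ∈ M, b * m * b⁻¹ ∈ M := by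
      intro b hb m hm
      refine Subgroup.mem_inf.2 ⟨?_, ?_⟩
      · have hmn := (Subgroup.mem_inf.1 hm).1
        have hcomm : ∀ d ∈ D, b * d = d * b := by
          intro d hd
          have := hDH hd
          rw [Subgroup.mem_centralizer_iff] at this
          exact this b hb
        have hfwd : ∀ m' ∈ normalizer (D : Set G), ∀ d ∈ D,
            (b * m' * b⁻¹) * d * (b * m' * b⁻¹)⁻¹ ∈ D := by
          intro m' hm' d hd
          have h1 : m' * d * m'⁻¹ ∈ D := (Subgroup.mem_normalizer_iff.1 hm' d).1 hd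
          have h3 : b⁻¹ * d * b = d := by
            have := hcomm d hd
            calc b⁻¹ * d * b = b⁻¹ * (d * b) := by group
              _ = b⁻¹ * (b * d) := by rw [this]
              _ = d := by group
          have h2 : (b * m' * b⁻¹) * d * (b * m' * b⁻¹)⁻¹
              = b * (m' * (b⁻¹ * d * b) * m'⁻¹) * b⁻¹ := by group
          have h4 := hcomm _ h1
          have h5 : b * (m' * d * m'⁻¹) * b⁻¹ = m' * d * m'⁻¹ := by
            rw [h4]; group
          rw [h2, h3, h5]
          exact h1
        rw [Subgroup.mem_normalizer_iff]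
        intro d
        constructor
        · exact hfwd m hmn d
        · intro hd
          have := hfwd m⁻¹ (Subgroup.inv_mem _ hmn) _ hd
          have h2 : (b * m⁻¹ * b⁻¹) * ((b * m * b⁻¹) * d * (b * m * b⁻¹)⁻¹) * (b * m⁻¹ * b⁻¹)⁻¹ = d := by
            group
          rwa [h2] at this
      · exact (Subgroup.mem_normalizer_iff.1 (hHN hb) m).1 (hMN hm)
    rw [Subgroup.mem_normalizer_iff]
    intro m
    constructor
    · exact key a ha m
    · intro hm
      have := key a⁻¹ (H.inv_mem ha) _ hm
      have h2 : a⁻¹ * (a * m * a⁻¹) * a⁻¹⁻¹ = m := by group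
      rwa [h2] at this
  -- commutator calculus
  have h1 : ⁅D, H⁆ = ⊥ := Subgroup.commutator_eq_bot_iff_le_centralizer.2 hDH
  have h2 : ⁅M, D⁆ ≤ D :=
    Subgroup.le_normalizer_iff_commutator_le_right.1 inf_le_left
  have h3 : ⁅⁅M, D⁆, H⁆ = ⊥ := by
    rw [eq_bot_iff, ← h1]
    exact Subgroup.commutator_mono h2 le_rfl
  have h4 : ⁅⁅D, H⁆, M⁆ = ⊥ := by rw [h1, Subgroup.commutator_bot_left]
  have h5 : ⁅⁅H, M⁆, D⁆ = ⊥ := Subgroup.commutator_commutator_eq_bot_of_rotate h3 h4
  have h6 : ⁅H, M⁆ ≤ centralizer (D : Set G) := Subgroup.commutator_eq_bot_iff_le_centralizer.1 h5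
  have h7 : ⁅H, M⁆ ≤ M := Subgroup.le_normalizer_iff_commutator_le_right.1 hHM
  have h8 : ⁅H, M⁆ ≤ centralizer (H : Set G) := by
    intro c hc'
    apply hc
    refine Subgroup.mem_inf.2 ⟨hMN (h7 hc'), ?_⟩
    have := h6 hc'
    rw [Subgroup.mem_centralizer_iff] at this
    rw [Subgroup.mem_centralizer_singleton_iff]
    exact (this x hxD).symm
  have h9 : ⁅⁅M, H⁆, H⁆ = ⊥ := by
    rw [Subgroup.commutator_comm M H]
    exact Subgroup.commutator_eq_bot_iff_le_centralizer.2 h8
  have hMp : IsPGroup p M := hN.to_le hMN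
  have hMnil : Group.IsNilpotent M := hMp.isNilpotent
  have hcopM : (Nat.card H).Coprime (Nat.card M) :=
    Nat.Coprime.coprime_dvd_right (Subgroup.card_dvd_of_le hMN) hcop
  have h10 := Cfsg.Agent.Helper1.coprime_commutator_commutator H M hHM hcopM (Or.inr inferInstance)
  rw [h9] at h10
  have h11 : M ≤ centralizer (H : Set G) :=
    Subgroup.commutator_eq_bot_iff_le_centralizer.1 h10.symm
  exact hgD' (Subgroup.mem_inf.2 ⟨g.2, h11 hgM⟩)

end Cfsg.Agent.Helper4.CentralizeChain
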