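import Mathlib
import Cfsg.Agent.Helper4.CaminaLemma
import Cfsg.Agent.Helper4.CentralizeChain
import Cfsg.Agent.Helper5.ProdCard
import Cfsg.Prelude.Def_Transfer

/-!
If `p^a` is the largest `p`-part of a class size of `G` and some `p`-element has class size
exactly `p^a`, then `G` has a normal Hall `p'`-subgroup.
-/

namespace Cfsg.Agent.Helper4.MaxPPartIndex

open Subgroup
open scoped Pointwise

variable {G : Type*} [Group G] [Finite G]

omit [Finite G] in
/-- For commuting `x` (a `p`-element) and `y` (a `p'`-element),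
`C(xy) = C(x) ⊓ C(y)`. -/
theorem centralizer_mul_of_coprime (p : ℕ) [Fact p.Prime] (x y : G) (k : ℕ)
    (hx : orderOf x = p ^ k) (hy : ¬ p ∣ orderOf y) (hxy : x * y = y * x) :
    centralizer ({x * y} : Set G) = centralizer ({x} : Set G) ⊓ centralizer ({y} : Set G) := by
  have hp := (Fact.out : p.Prime)
  apply le_antisymm
  · intro c hc
    rw [Subgroup.mem_centralizer_singleton_iff] at hc
    have hcop : (orderOf y).Coprime (orderOf x) := by
      rw [hx]
      exact Nat.Coprime.pow_right _ ((Nat.Prime.coprime_iff_not_dvd hp).2 hy).symm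
    obtain ⟨m, hm⟩ := exists_pow_eq_self_of_coprime hcop
    have h1 : (x * y) ^ orderOf y = x ^ orderOf y := by
      rw [(show Commute x y from hxy).mul_pow, pow_orderOf_eq_one, mul_one]
    have h2 : ((x * y) ^ orderOf y) ^ m = x := by rw [h1, hm]
    have hcx : Commute c x := by
      rw [← h2]
      exact ((show Commute c (x * y) from hc).pow_right _).pow_right _
    have hcy : Commute c y := by
      have : y = x⁻¹ * (x * y) := by group
      rw [this]
      exact hcx.inv_right.mul_right hc
    refine Subgroup.mem_inf.2 ⟨?_, ?_⟩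
    · rw [Subgroup.mem_centralizer_singleton_iff]; exact hcx
    · rw [Subgroup.mem_centralizer_singleton_iff]; exact hcy
  · intro c hc
    obtain ⟨h1, h2⟩ := Subgroup.mem_inf.1 hc
    rw [Subgroup.mem_centralizer_singleton_iff] at h1 h2 ⊢
    exact (show Commute c x from h1).mul_right h2

/-- A `p`-element whose class has `p`-power size lies in every... : all its conjugates lie in any
Sylow `p`-subgroup containing it. -/
theorem conj_mem_sylow_of_index_pow (p : ℕ) [Fact p.Prime] (x : G) (a : ℕ)
    (hidx : (centralizer ({x} : Set G)).index = p ^ a) (P : Sylow p G) (hxP : x ∈ (P : Subgroup G))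
    (g : G) : g * x * g⁻¹ ∈ (P : Subgroup G) := by
  have hp := (Fact.out : p.Prime)
  set C := centralizer ({x} : Set G) with hC
  have hprod := Cfsg.Agent.Helper5.card_mul_set_mul_card_inf (P : Subgroup G) C
  have hcardG : Nat.card G = Nat.card C * p ^ a := by rw [← hidx]; exact (Subgroup.card_mul_index C).symm
  have hcardP : Nat.card (P : Subgroup G) = p ^ (Nat.card G).factorization p := P.card_eq_multiplicity
  obtain ⟨j, hj⟩ := (IsPGroup.iff_card).1 (P.2.to_le (inf_le_left : (P : Subgroup G) ⊓ C ≤ P))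
  have hjC : p ^ j ∣ Nat.card C := by
    rw [← hj]; exact Subgroup.card_dvd_of_le inf_le_right
  have hjw : j ≤ (Nat.card C).factorization p :=
    (Nat.Prime.pow_dvd_iff_le_factorization hp Nat.card_pos.ne').1 hjC
  have hfac : (Nat.card G).factorization p = (Nat.card C).factorization p + a := by
    rw [hcardG, Nat.factorization_mul Nat.card_pos.ne' (pow_pos hp.pos a).ne',
      Nat.Prime.factorization_pow hp]
    simp
  have hge : Nat.card G ≤ Nat.card (((P : Subgroup G) : Set G) * (C : Set G) : Set G) := by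
    have h1 : Nat.card G * p ^ j ≤
        Nat.card (((P : Subgroup G) : Set G) * (C : Set G) : Set G) * p ^ j := by
      rw [← hj, hprod, hcardP, hfac, hcardG, hj]
      calc Nat.card C * p ^ a * p ^ j ≤ Nat.card C * p ^ a * p ^ (Nat.card C).factorization p :=
            Nat.mul_le_mul_left _ (Nat.pow_le_pow_right hp.pos hjw)
        _ = p ^ ((Nat.card C).factorization p + a) * Nat.card C := by ring
    exact Nat.le_of_mul_le_mul_right h1 (pow_pos hp.pos j)
  have huniv : (((P : Subgroup G) : Set G) * (C : Set G) : Set G) = Set.univ := by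
    apply Set.eq_of_subset_of_ncard_le (Set.subset_univ _) _ (Set.toFinite _)
    rw [Set.ncard_univ, ← Nat.card_coe_set_eq]
    exact hge
  have hg : g ∈ (((P : Subgroup G) : Set G) * (C : Set G) : Set G) := by rw [huniv]; trivial
  obtain ⟨u, hu, c, hc, rfl⟩ := Set.mem_mul.1 hg
  have hcx : c * x = x * c := by
    have : c ∈ C := hc
    rw [hC, Subgroup.mem_centralizer_singleton_iff] at this
    exact this
  have : u * c * x * (u * c)⁻¹ = u * x * u⁻¹ := by
    calc u * c * x * (u * c)⁻¹ = u * (c * x) * c⁻¹ * u⁻¹ := by group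
      _ = u * (x * c) * c⁻¹ * u⁻¹ := by rw [hcx]
      _ = u * x * u⁻¹ := by group
  rw [this]
  exact (P : Subgroup G).mul_mem ((P : Subgroup G).mul_mem hu hxP) ((P : Subgroup G).inv_mem hu)

theorem main (p : ℕ) [Fact p.Prime]
    (a : ℕ) (hmax : ∀ y : G, ¬ p ^ (a + 1) ∣ (Subgroup.centralizer ({y} : Set G)).index)
    (x : G) (k : ℕ) (hxo : orderOf x = p ^ k)
    (hidx : (Subgroup.centralizer ({x} : Set G)).index = p ^ a) :
    ∃ H0 : Subgroup G, H0.Normal ∧ Nat.card H0 = ordCompl[p] (Nat.card G) := by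
  classical
  have hp := (Fact.out : p.Prime)
  set C := centralizer ({x} : Set G) with hC
  have hCmem : ∀ c : G, c ∈ C → c * x = x * c := fun c hc =>
    Subgroup.mem_centralizer_singleton_iff.1 hc
  -- Step A: Camina hypothesis for C
  have hCam : ∀ y : C, ¬ p ∣ orderOf y →
      ¬ p ∣ (Subgroup.centralizer ({y} : Set C)).index := by
    intro y hy hdiv
    have hy0 : ¬ p ∣ orderOf (y : G) := by rwa [Subgroup.orderOf_coe]
    have hxy : x * (y : G) = (y : G) * x := (hCmem _ y.2).symm
    have hcent := centralizer_mul_of_coprime p x (y : G) k hxo hy0 hxy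
    have hle : centralizer ({x * (y : G)} : Set G) ≤ C := by rw [hcent]; exact inf_le_left
    have hsub : (Subgroup.centralizer ({y} : Set C)) =
        (centralizer ({x * (y : G)} : Set G)).subgroupOf C := by
      ext c
      rw [Subgroup.mem_subgroupOf, hcent, Subgroup.mem_inf, Subgroup.mem_centralizer_singleton_iff,
        Subgroup.mem_centralizer_singleton_iff, Subgroup.mem_centralizer_singleton_iff]
      constructor
      · intro h
        refine ⟨?_, ?_⟩
        · exact hCmem _ c.2
        · exact congrArg Subtype.val h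
      · intro h
        exact Subtype.ext h.2
    have hrel : (centralizer ({x * (y : G)} : Set G)).relIndex C * C.index
        = (centralizer ({x * (y : G)} : Set G)).index := Subgroup.relIndex_mul_index hle
    have hdiv' : p ∣ (centralizer ({x * (y : G)} : Set G)).relIndex C := by
      rw [Subgroup.relIndex, ← hsub]; exact hdiv
    apply hmax (x * (y : G))
    rw [← hrel, hidx, pow_succ, mul_comm]
    exact Nat.mul_dvd_mul hdiv' dvd_rfl
  obtain ⟨H, hHn, hHmem, hHcard, hHcomm⟩ := Cfsg.Agent.Helper4.CaminaLemma.camina p hCam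
  set H0 : Subgroup G := H.map C.subtype with hH0
  have hH0C : H0 ≤ C := Subgroup.map_subtype_le _
  have hH0mem : ∀ g : G, g ∈ C → ¬ p ∣ orderOf g → g ∈ H0 := by
    intro g hgC hg
    rw [hH0, Subgroup.mem_map]
    refine ⟨⟨g, hgC⟩, ?_, rfl⟩
    rw [hHmem, ← Subgroup.orderOf_coe]
    exact hg
  have hH0ord : ∀ g ∈ H0, ¬ p ∣ orderOf g := by
    intro g hg
    rw [hH0, Subgroup.mem_map] at hg
    obtain ⟨y, hy, rfl⟩ := hg
    have := (hHmem y).1 hy
    rw [← Subgroup.orderOf_coe] at this
    exact this
  have hcardG : Nat.card G = Nat.card C * p ^ a := by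
    rw [← hidx]; exact (Subgroup.card_mul_index C).symm
  have hH0card : Nat.card H0 = ordCompl[p] (Nat.card G) := by
    rw [hH0, Subgroup.card_map_of_injective C.subtype_injective, hHcard, hcardG, Nat.ordCompl_mul,
      Nat.ordCompl_self_pow hp, mul_one]
  -- Step C: Sylow containing x
  have hzp : IsPGroup p (Subgroup.zpowers x) := by
    apply IsPGroup.of_card (n := k)
    rw [Nat.card_zpowers, hxo]
  obtain ⟨P, hP⟩ := hzp.exists_le_sylow
  have hxP : x ∈ (P : Subgroup G) := hP (Subgroup.mem_zpowers x)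
  set Nn := Subgroup.normalClosure ({x} : Set G) with hNn
  have hNnP : Nn ≤ (P : Subgroup G) := by
    rw [hNn, Subgroup.normalClosure, Subgroup.closure_le]
    intro z hz
    rw [Group.mem_conjugatesOfSet_iff] at hz
    obtain ⟨b, hb, hbz⟩ := hz
    rw [Set.mem_singleton_iff] at hb
    subst hb
    rw [isConj_iff] at hbz
    obtain ⟨c, rfl⟩ := hbz
    exact conj_mem_sylow_of_index_pow p b a hidx P hxP c
  have hxNn : x ∈ Nn := Subgroup.subset_normalClosure (Set.mem_singleton x)
  have hNnp : IsPGroup p Nn := P.2.to_le hNnP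
  have hNnnormal : Nn.Normal := Subgroup.normalClosure_normal
  -- Step D
  have hcop : (Nat.card H0).Coprime (Nat.card Nn) := by
    obtain ⟨i, hi⟩ := (IsPGroup.iff_card).1 hNnp
    rw [hi, hH0card]
    exact Nat.Coprime.pow_right _ (Nat.coprime_ordCompl hp Nat.card_pos.ne').symm
  have hcent : Nn ≤ centralizer (H0 : Set G) := by
    apply Cfsg.Agent.Helper4.CentralizeChain.le_centralizer_of_centralizer_le p Nn H0 hNnp
      (by rw [Subgroup.normalizer_eq_top]; exact le_top) hcop x hxNn hH0C
    intro n hn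
    obtain ⟨hn1, hn2⟩ := Subgroup.mem_inf.1 hn
    rw [Subgroup.mem_centralizer_iff]
    intro h hh
    have hh' : h ∈ H0 := hh
    rw [hH0, Subgroup.mem_map] at hh'
    obtain ⟨y, hy, rfl⟩ := hh'
    have hn_ord : ∃ j : ℕ, orderOf (⟨n, hn2⟩ : C) = p ^ j := by
      obtain ⟨i, hi⟩ := hNnp ⟨n, hn1⟩
      have hi' : n ^ (p ^ i) = 1 := by
        have := congrArg Subtype.val hi
        simpa using this
      obtain ⟨j, -, hj⟩ := (Nat.dvd_prime_pow hp).1 (orderOf_dvd_of_pow_eq_one hi')
      refine ⟨j, ?_⟩
      rw [← Subgroup.orderOf_coe]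
      exact hj
    have := hHcomm y hy ⟨n, hn2⟩ hn_ord
    have := congrArg Subtype.val this
    simpa using this.symm
  -- Step E: normality of H0
  have hH0n : H0.Normal := by
    constructor
    intro y hy g
    apply hH0mem
    · rw [hC, Subgroup.mem_centralizer_singleton_iff]
      have h1 : g⁻¹ * x * g⁻¹⁻¹ ∈ Nn := hNnnormal.conj_mem x hxNn g⁻¹
      have h2 := hcent h1
      rw [Subgroup.mem_centralizer_iff] at h2
      have h3 := h2 y hy
      calc g * y * g⁻¹ * x = g * (y * (g⁻¹ * x * g⁻¹⁻¹)) * g⁻¹ := by group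
        _ = g * ((g⁻¹ * x * g⁻¹⁻¹) * y) * g⁻¹ := by rw [h3]
        _ = x * (g * y * g⁻¹) := by group
    · have : orderOf (g * y * g⁻¹) = orderOf y := by
        have := (MulAut.conj g).orderOf_eq y
        simpa [MulAut.conj_apply] using this
      rw [this]
      exact hH0ord y hy
  exact ⟨H0, hH0n, hH0card⟩

theorem hasNormalPComplement (p : ℕ) [Fact p.Prime]
    (a : ℕ) (hmax : ∀ y : G, ¬ p ^ (a + 1) ∣ (Subgroup.centralizer ({y} : Set G)).index)
    (hx : ∃ x : G, (∃ k : ℕ, orderOf x = p ^ k) ∧ (Subgroup.centralizer ({x} : Set G)).index = p ^ a) :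
    Cfsg.HasNormalPComplement p G := by
  have hp := (Fact.out : p.Prime)
  obtain ⟨x, ⟨k, hk⟩, hidx⟩ := hx
  obtain ⟨H0, hn, hcard⟩ := main p a hmax x k hk hidx
  obtain ⟨P⟩ : Nonempty (Sylow p G) := inferInstance
  refine ⟨P, H0, hn, ?_⟩
  apply Subgroup.isComplement'_of_coprime
  · rw [hcard, P.card_eq_multiplicity, mul_comm]
    exact Nat.ordProj_mul_ordCompl_eq_self _ _
  · rw [hcard, P.card_eq_multiplicity]
    exact Nat.Coprime.pow_right _ (Nat.coprime_ordCompl hp Nat.card_pos.ne').symm

end Cfsg.Agent.Helper4.MaxPPartIndex
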