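import Mathlib

/-!
π-elements, π'-elements and the π/π' decomposition of an element of a finite group.
-/

namespace Cfsg.Agent.Helper4.PiParts

variable (π : Set ℕ) {X : Type*} [Group X]

/-- `g` is a π-element. -/
def IsPi (g : X) : Prop := ∀ q : ℕ, q.Prime → q ∣ orderOf g → q ∈ π

/-- `g` is a π'-element. -/
def IsPi' (g : X) : Prop := ∀ q : ℕ, q.Prime → q ∣ orderOf g → q ∉ π

theorem isPi_one : IsPi π (1 : X) := by
  intro q hq h
  rw [orderOf_one] at h
  exact absurd h hq.not_dvd_one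

theorem isPi'_one : IsPi' π (1 : X) := by
  intro q hq h
  rw [orderOf_one] at h
  exact absurd h hq.not_dvd_one

variable {π}

theorem IsPi.of_orderOf_dvd {g h : X} (hg : IsPi π g) (hd : orderOf h ∣ orderOf g) : IsPi π h :=
  fun q hq hqd => hg q hq (hqd.trans hd)

theorem IsPi'.of_orderOf_dvd {g h : X} (hg : IsPi' π g) (hd : orderOf h ∣ orderOf g) : IsPi' π h :=
  fun q hq hqd => hg q hq (hqd.trans hd)

theorem IsPi.pow {g : X} (hg : IsPi π g) (k : ℕ) : IsPi π (g ^ k) :=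
  hg.of_orderOf_dvd (orderOf_pow_dvd k)

theorem IsPi'.pow {g : X} (hg : IsPi' π g) (k : ℕ) : IsPi' π (g ^ k) :=
  hg.of_orderOf_dvd (orderOf_pow_dvd k)

theorem IsPi.mul {a b : X} (hc : Commute a b) (ha : IsPi π a) (hb : IsPi π b) : IsPi π (a * b) := by
  intro q hq hqd
  have h1 : q ∣ orderOf a * orderOf b :=
    (hqd.trans hc.orderOf_mul_dvd_lcm).trans (Nat.lcm_dvd_mul _ _)
  rcases (Nat.Prime.dvd_mul hq).1 h1 with h | h
  · exact ha q hq h
  · exact hb q hq h

theorem IsPi'.mul {a b : X} (hc : Commute a b) (ha : IsPi' π a) (hb : IsPi' π b) :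
    IsPi' π (a * b) := by
  intro q hq hqd
  have h1 : q ∣ orderOf a * orderOf b :=
    (hqd.trans hc.orderOf_mul_dvd_lcm).trans (Nat.lcm_dvd_mul _ _)
  rcases (Nat.Prime.dvd_mul hq).1 h1 with h | h
  · exact ha q hq h
  · exact hb q hq h

theorem IsPi.conj {g : X} (hg : IsPi π g) (c : X) : IsPi π (c * g * c⁻¹) := by
  have : orderOf (c * g * c⁻¹) = orderOf g := by
    have := (MulAut.conj c).orderOf_eq g
    simpa [MulAut.conj_apply] using this
  intro q hq h
  rw [this] at h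
  exact hg q hq h

theorem IsPi.map {Y : Type*} [Group Y] (f : X →* Y) {g : X} (hg : IsPi π g) : IsPi π (f g) :=
  fun q hq h => hg q hq (h.trans (orderOf_map_dvd f g))

theorem coprime_orderOf {a b : X} (ha : IsPi π a) (hb : IsPi' π b) :
    (orderOf a).Coprime (orderOf b) :=
  Nat.coprime_of_dvd (fun q hq h1 h2 => hb q hq h2 (ha q hq h1))

/-- Existence of the π/π' decomposition. -/
theorem exists_decomp [Finite X] (π : Set ℕ) (n : X) :
    ∃ a b : X, a ∈ Subgroup.zpowers n ∧ b ∈ Subgroup.zpowers n ∧ IsPi π a ∧ IsPi' π b ∧ a * b = n := by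
  classical
  induction' h : orderOf n using Nat.strong_induction_on with o ih generalizing n
  by_cases h1 : o = 1
  · rw [h1, orderOf_eq_one_iff] at h
    subst h
    exact ⟨1, 1, Subgroup.one_mem _, Subgroup.one_mem _, isPi_one π, isPi'_one π, mul_one 1⟩
  have ho0 : o ≠ 0 := by rw [← h]; exact (orderOf_pos n).ne'
  obtain ⟨q, hq, hqo⟩ := Nat.exists_prime_and_dvd h1
  obtain ⟨k, m, hqm, hom⟩ := Nat.exists_eq_pow_mul_and_not_dvd ho0 q hq.ne_one
  have hk : k ≠ 0 := by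
    rintro rfl
    rw [pow_zero, one_mul] at hom
    exact hqm (hom ▸ hqo)
  have hm0 : m ≠ 0 := by rintro rfl; rw [mul_zero] at hom; exact ho0 hom
  have hmo : m < o := by
    rw [hom]
    have : 2 ≤ q ^ k := by
      calc 2 ≤ q := hq.two_le
        _ = q ^ 1 := (pow_one q).symm
        _ ≤ q ^ k := Nat.pow_le_pow_right hq.pos (Nat.one_le_iff_ne_zero.2 hk)
    nlinarith [Nat.pos_of_ne_zero hm0]
  have hcop : Nat.Coprime m (q ^ k) :=
    (Nat.Coprime.pow_right k ((Nat.Prime.coprime_iff_not_dvd hq).2 hqm).symm)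
  -- Bezout
  have hbez := Nat.gcd_eq_gcd_ab m (q ^ k)
  rw [hcop.gcd_eq_one] at hbez
  set s := Nat.gcdA m (q ^ k)
  set t := Nat.gcdB m (q ^ k)
  set n1 : X := (n ^ m) ^ s
  set n2 : X := (n ^ (q ^ k)) ^ t
  have hn12 : n1 * n2 = n := by
    have : n1 * n2 = n ^ ((m : ℤ) * s + ((q ^ k : ℕ) : ℤ) * t) := by
      rw [zpow_add, zpow_mul, zpow_mul, zpow_natCast, zpow_natCast]
    rw [this, ← hbez]
    simp
  have hn1z : n1 ∈ Subgroup.zpowers n :=
    Subgroup.zpow_mem _ (Subgroup.pow_mem _ (Subgroup.mem_zpowers n) _) _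
  have hn2z : n2 ∈ Subgroup.zpowers n :=
    Subgroup.zpow_mem _ (Subgroup.pow_mem _ (Subgroup.mem_zpowers n) _) _
  have hn1o : orderOf n1 ∣ q ^ k := by
    apply orderOf_dvd_of_pow_eq_one
    have : n1 ^ (q ^ k) = ((n ^ m) ^ (q ^ k)) ^ s := by
      rw [← zpow_natCast, ← zpow_natCast, ← zpow_mul, ← zpow_mul, mul_comm]
    rw [this, ← pow_mul, mul_comm, ← hom, ← h, pow_orderOf_eq_one, one_zpow]
  have hn2o : orderOf n2 ∣ m := by
    apply orderOf_dvd_of_pow_eq_one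
    have : n2 ^ m = ((n ^ (q ^ k)) ^ m) ^ t := by
      rw [← zpow_natCast, ← zpow_natCast, ← zpow_mul, ← zpow_mul, mul_comm]
    rw [this, ← pow_mul, ← hom, ← h, pow_orderOf_eq_one, one_zpow]
  have hn2lt : orderOf n2 < o := lt_of_le_of_lt (Nat.le_of_dvd (Nat.pos_of_ne_zero hm0) hn2o) hmo
  obtain ⟨a2, b2, ha2, hb2, hpa2, hpb2, hab2⟩ := ih (orderOf n2) hn2lt n2 rfl
  have hz2 : Subgroup.zpowers n2 ≤ Subgroup.zpowers n := by
    rw [Subgroup.zpowers_le]; exact hn2z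
  have hcomm : ∀ u v : X, u ∈ Subgroup.zpowers n → v ∈ Subgroup.zpowers n → Commute u v := by
    intro u v hu hv
    obtain ⟨i, rfl⟩ := Subgroup.mem_zpowers_iff.1 hu
    obtain ⟨j, rfl⟩ := Subgroup.mem_zpowers_iff.1 hv
    exact (Commute.refl n).zpow_zpow i j
  by_cases hqπ : q ∈ π
  · refine ⟨n1 * a2, b2, Subgroup.mul_mem _ hn1z (hz2 ha2), hz2 hb2, ?_, hpb2, ?_⟩
    · apply IsPi.mul (hcomm _ _ hn1z (hz2 ha2)) _ hpa2
      intro r hr hrd
      have := (Nat.prime_dvd_prime_iff_eq hr hq).1 (hr.dvd_of_dvd_pow (hrd.trans hn1o))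
      rw [this]; exact hqπ
    · rw [mul_assoc, hab2, hn12]
  · refine ⟨a2, n1 * b2, hz2 ha2, Subgroup.mul_mem _ hn1z (hz2 hb2), hpa2, ?_, ?_⟩
    · apply IsPi'.mul (hcomm _ _ hn1z (hz2 hb2)) _ hpb2
      intro r hr hrd
      have := (Nat.prime_dvd_prime_iff_eq hr hq).1 (hr.dvd_of_dvd_pow (hrd.trans hn1o))
      rw [this]; exact hqπ
    · rw [← mul_assoc, (hcomm _ _ (hz2 ha2) hn1z).eq, mul_assoc, hab2, hn12]

/-- Uniqueness of the π/π' decomposition. -/
theorem decomp_unique [Finite X] {a b a' b' : X} (hab : Commute a b) (hab' : Commute a' b')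
    (ha : IsPi π a) (hb : IsPi' π b) (ha' : IsPi π a') (hb' : IsPi' π b')
    (h : a * b = a' * b') : a = a' ∧ b = b' := by
  obtain ⟨k, hk⟩ : ∃ k : ℕ, k = orderOf b * orderOf b' := ⟨_, rfl⟩
  have hbk : b ^ k = 1 := by rw [hk, pow_mul, pow_orderOf_eq_one, one_pow]
  have hbk' : b' ^ k = 1 := by rw [hk, mul_comm, pow_mul, pow_orderOf_eq_one, one_pow]
  have hak : a ^ k = a' ^ k := by
    have h1 : (a * b) ^ k = a ^ k := by rw [hab.mul_pow, hbk, mul_one]
    have h2 : (a' * b') ^ k = a' ^ k := by rw [hab'.mul_pow, hbk', mul_one]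
    rw [← h1, ← h2, h]
  obtain ⟨M, hM⟩ : ∃ M : ℕ, M = orderOf a * orderOf a' := ⟨_, rfl⟩
  have hcop : Nat.Coprime k M := by
    rw [hk, hM]
    exact Nat.Coprime.mul_left
      (Nat.Coprime.mul_right (coprime_orderOf ha hb).symm (coprime_orderOf ha' hb).symm)
      (Nat.Coprime.mul_right (coprime_orderOf ha hb').symm (coprime_orderOf ha' hb').symm)
  have haM : a ^ M = 1 := by rw [hM, pow_mul, pow_orderOf_eq_one, one_pow]
  have haM' : a' ^ M = 1 := by rw [hM, mul_comm, pow_mul, pow_orderOf_eq_one, one_pow]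
  have haa : a = a' := by
    rcases Nat.lt_or_ge 1 M with hM1 | hM1
    · obtain ⟨j, -, hj⟩ := Nat.exists_mul_mod_eq_one_of_coprime hcop hM1
      have e1 : a ^ (k * j) = a := by rw [pow_eq_pow_mod _ haM, hj, pow_one]
      have e2 : a' ^ (k * j) = a' := by rw [pow_eq_pow_mod _ haM', hj, pow_one]
      rw [← e1, ← e2, pow_mul, pow_mul, hak]
    · have hMpos : 0 < M := hM ▸ Nat.mul_pos (orderOf_pos a) (orderOf_pos a')
      have hM1' : M = 1 := by omega
      rw [hM1', pow_one] at haM haM'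
      rw [haM, haM']
  refine ⟨haa, ?_⟩
  rw [haa] at h
  exact mul_left_cancel h

end Cfsg.Agent.Helper4.PiParts
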