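import Mathlib
import Cfsg.Agent.Helper4.PiParts
import Cfsg.Agent.Helper4.CaminaLemma
import Cfsg.Agent.Helper4.MaxPPartIndex

set_option autoImplicit false

/-!
Groups with two conjugacy class sizes `1` and `n` (Itô): basic lemmas.
-/

namespace Cfsg.Agent.Helper4.ItoTwo

open Subgroup

variable {G : Type*} [Group G]

/-- decomposition of an element into its `r`-part and `r'`-part. -/
theorem exists_parts [Finite G] (r : ℕ) (hr : r.Prime) (c : G) :
    ∃ c₁ c₂ : G, c₁ ∈ zpowers c ∧ c₂ ∈ zpowers c ∧ (∃ k : ℕ, orderOf c₁ = r ^ k) ∧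
      ¬ r ∣ orderOf c₂ ∧ c₁ * c₂ = c := by
  obtain ⟨a, b, ha, hb, hpa, hpb, hab⟩ := PiParts.exists_decomp ({r} : Set ℕ) c
  refine ⟨a, b, ha, hb, ?_, ?_, hab⟩
  · refine ⟨(orderOf a).primeFactorsList.length, ?_⟩
    apply Nat.eq_prime_pow_of_unique_prime_dvd (orderOf_pos a).ne'
    intro d hd hdd
    exact hpa d hd hdd
  · intro h
    exact hpb r hr h rfl

theorem centralizer_le_of_mem_zpowers {g a : G} (ha : a ∈ zpowers g) :
    centralizer ({g} : Set G) ≤ centralizer ({a} : Set G) := by
  intro c hc
  rw [mem_centralizer_singleton_iff] at hc ⊢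
  obtain ⟨k, rfl⟩ := mem_zpowers_iff.mp ha
  exact ((show Commute c g from hc).zpow_right k)

theorem index_eq_one_iff (x : G) : (centralizer ({x} : Set G)).index = 1 ↔ x ∈ center G := by
  rw [index_eq_one, eq_top_iff, mem_center_iff]
  constructor
  · intro h g
    have := h (mem_top g)
    rw [mem_centralizer_singleton_iff] at this
    exact this
  · intro h g _
    rw [mem_centralizer_singleton_iff]
    exact h g

section

variable [Finite G] {n : ℕ}
  (h : ∀ x : G, (centralizer ({x} : Set G)).index = 1 ∨ (centralizer ({x} : Set G)).index = n)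

include h

theorem index_of_not_mem_center {x : G} (hx : x ∉ center G) :
    (centralizer ({x} : Set G)).index = n := by
  rcases h x with h1 | h1
  · exact absurd ((index_eq_one_iff x).mp h1) hx
  · exact h1

/-- (F) -/
theorem centralizer_eq_of_le {x y : G} (hx : x ∉ center G) (hy : y ∉ center G)
    (hle : centralizer ({x} : Set G) ≤ centralizer ({y} : Set G)) :
    centralizer ({x} : Set G) = centralizer ({y} : Set G) := by
  apply le_antisymm hle
  have h1 := relIndex_mul_index hle
  rw [index_of_not_mem_center h hx, index_of_not_mem_center h hy] at h1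
  have hn0 : n ≠ 0 := by
    rw [← index_of_not_mem_center h hx]
    exact index_ne_zero_of_finite
  have h2 : (centralizer ({x} : Set G)).relIndex (centralizer ({y} : Set G)) = 1 := by
    have : (centralizer ({x} : Set G)).relIndex (centralizer ({y} : Set G)) * n = 1 * n := by
      rw [h1, one_mul]
    exact Nat.eq_of_mul_eq_mul_right (Nat.pos_of_ne_zero hn0) this
  exact relIndex_eq_one.mp h2

/-- (L1): a noncentral element has a noncentral power of prime power order with the same
centralizer. -/
theorem exists_prime_power_part : ∀ (N : ℕ) (g : G), orderOf g = N → g ∉ center G →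
    ∃ ℓ : ℕ, ℓ.Prime ∧ ∃ g' ∈ zpowers g, (∃ k : ℕ, orderOf g' = ℓ ^ k) ∧ g' ∉ center G ∧
      centralizer ({g'} : Set G) = centralizer ({g} : Set G) := by
  intro N
  induction N using Nat.strong_induction_on with
  | _ N ih =>
    intro g hN hg
    have hg1 : orderOf g ≠ 1 := by
      intro h1
      rw [orderOf_eq_one_iff] at h1
      exact hg (h1 ▸ one_mem _)
    obtain ⟨ℓ, hℓ, hℓd⟩ := Nat.exists_prime_and_dvd hg1
    obtain ⟨a, b, ha, hb, ⟨k, hk⟩, hbℓ, hab⟩ := exists_parts ℓ hℓ g
    by_cases hac : a ∈ center G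
    · have hbc : b ∉ center G := by
        intro hbc
        apply hg
        rw [← hab]
        exact mul_mem hac hbc
      have hlt : orderOf b < N := by
        rw [← hN]
        have h1 : orderOf b ∣ orderOf g := orderOf_dvd_of_mem_zpowers hb
        have h2 : orderOf b ≠ orderOf g := by
          intro h2
          exact hbℓ (h2 ▸ hℓd)
        exact lt_of_le_of_ne (Nat.le_of_dvd (orderOf_pos g) h1) h2
      obtain ⟨ℓ', hℓ', g', hg', hk', hg'c, hC⟩ := ih _ hlt b rfl hbc
      refine ⟨ℓ', hℓ', g', ?_, hk', hg'c, ?_⟩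
      · exact (zpowers_le.mpr hb) hg'
      · rw [hC]
        exact (centralizer_eq_of_le h hg hbc (centralizer_le_of_mem_zpowers hb)).symm
    · refine ⟨ℓ, hℓ, a, ha, ⟨k, hk⟩, hac, ?_⟩
      exact (centralizer_eq_of_le h hg hac (centralizer_le_of_mem_zpowers ha)).symm

/-- (L2): for a noncentral `q`-element `x`, the `q'`-elements of `C(x)` are central in `C(x)`. -/
theorem centralizer_le_of_coprime (q : ℕ) [Fact q.Prime] {x y : G} (hx : x ∉ center G) (k : ℕ)
    (hxq : orderOf x = q ^ k) (hy : y ∈ centralizer ({x} : Set G)) (hyq : ¬ q ∣ orderOf y) :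
    centralizer ({x} : Set G) ≤ centralizer ({y} : Set G) := by
  rw [mem_centralizer_singleton_iff] at hy
  have hxy : x * y = y * x := hy.symm
  have hC := MaxPPartIndex.centralizer_mul_of_coprime q x y k hxq hyq hxy
  have hxyc : x * y ∉ center G := by
    intro hc
    apply hx
    rw [← index_eq_one_iff] at hc ⊢
    rw [index_eq_one] at hc ⊢
    rw [hC] at hc
    exact eq_top_iff.mpr (hc ▸ inf_le_left)
  have hle : centralizer ({x * y} : Set G) ≤ centralizer ({x} : Set G) := hC ▸ inf_le_left
  have heq := centralizer_eq_of_le h hxyc hx hle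
  rw [← heq, hC]
  exact inf_le_right

/-- (Cam): primes not dividing `n` have central elements. -/
theorem mem_center_of_not_dvd (hn : 1 < n) (ℓ : ℕ) [hℓ : Fact ℓ.Prime] (hℓn : ¬ ℓ ∣ n) (u : G) (j : ℕ)
    (hu : orderOf u = ℓ ^ j) : u ∈ center G := by
  by_contra huc
  have hidx := index_of_not_mem_center h huc
  obtain ⟨H, -, -, hcard, hcomm⟩ := CaminaLemma.camina (K := G) ℓ (by
    intro y _
    rcases h y with h1 | h1
    · rw [h1]; exact hℓ.out.not_dvd_one
    · rw [h1]; exact hℓn)
  have hle : H ≤ centralizer ({u} : Set G) := by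
    intro y hy
    rw [mem_centralizer_singleton_iff]
    exact (hcomm y hy u ⟨j, hu⟩).symm
  have h1 : (centralizer ({u} : Set G)).index ∣ H.index := index_dvd_of_le hle
  have h2 : H.index = ℓ ^ (Nat.card G).factorization ℓ := by
    have h3 := H.card_mul_index
    rw [hcard] at h3
    have h4 := Nat.ordProj_mul_ordCompl_eq_self (Nat.card G) ℓ
    have hpos : 0 < ordCompl[ℓ] (Nat.card G) := Nat.ordCompl_pos ℓ Nat.card_pos.ne'
    apply Nat.eq_of_mul_eq_mul_left hpos
    rw [h3, mul_comm, h4]
  rw [hidx, h2] at h1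
  obtain ⟨i, -, hi⟩ := (Nat.dvd_prime_pow hℓ.out).mp h1
  apply hℓn
  rw [hi]
  have hi0 : i ≠ 0 := by
    rintro rfl
    rw [pow_zero] at hi
    omega
  exact dvd_pow_self ℓ hi0

end

end Cfsg.Agent.Helper4.ItoTwo
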