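import Mathlib

set_option autoImplicit false

/-!
A relative version of the averaging lemma for `(ℤ/p)²` acting on an abelian group: if every
nonzero vector has all its fixed points in a subgroup `Z'` of globally fixed points, then `v^p ∈ Z'`
for all `v`.  (Adapted from `Helper5.trivial_of_fixedPointFree_sq`.)
-/

namespace Cfsg.Agent.Helper4.ItoTwo

theorem pow_mem_of_fixedPoints_sq {V : Type*} [CommGroup V] {p : ℕ} [Fact p.Prime]
    (Z' : Subgroup V) (act : ZMod p → ZMod p → (V →* V))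
    (hadd : ∀ s t s' t' : ZMod p, act (s + s') (t + t') = (act s t).comp (act s' t'))
    (h0 : act 0 0 = MonoidHom.id V)
    (hZ' : ∀ s t : ZMod p, ∀ v ∈ Z', act s t v = v)
    (hfix : ∀ s t : ZMod p, (s ≠ 0 ∨ t ≠ 0) → ∀ v : V, act s t v = v → v ∈ Z') :
    ∀ v : V, v ^ p ∈ Z' := by
  classical
  have hp : p.Prime := Fact.out
  haveI : NeZero p := ⟨hp.ne_zero⟩
  -- the norm along the direction (s,t)
  have hnorm : ∀ s t : ZMod p, (s ≠ 0 ∨ t ≠ 0) → ∀ v : V,
      ∏ j : ZMod p, act (j * s) (j * t) v ∈ Z' := by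
    intro s t hst v
    apply hfix s t hst
    rw [map_prod]
    have h1 : ∀ j : ZMod p, act s t (act (j * s) (j * t) v) = act ((j + 1) * s) ((j + 1) * t) v := by
      intro j
      have : act ((j + 1) * s) ((j + 1) * t) = (act s t).comp (act (j * s) (j * t)) := by
        rw [← hadd]; congr 1 <;> ring
      rw [this]; rfl
    simp_rw [h1]
    exact Fintype.prod_equiv (Equiv.addRight (1 : ZMod p)) _ _ (fun j => rfl)
  intro v
  have hdouble : ∏ i : ZMod p, ∏ j : ZMod p, act (j * 1) (j * i) v ∈ Z' := by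
    apply Subgroup.prod_mem
    intro i _
    exact hnorm 1 i (Or.inl one_ne_zero) v
  rw [Finset.prod_comm] at hdouble
  have hj : ∀ j : ZMod p, j ≠ 0 → ∏ i : ZMod p, act (j * 1) (j * i) v ∈ Z' := by
    intro j hj
    have h1 : ∀ i : ZMod p, act (j * 1) (j * i) v = act j 0 (act 0 (j * i) v) := by
      intro i
      have : act (j * 1) (j * i) = (act j 0).comp (act 0 (j * i)) := by
        rw [← hadd]; congr 1 <;> ring
      rw [this]; rfl
    simp_rw [h1]
    rw [← map_prod]
    have h2 : ∏ i : ZMod p, act 0 (j * i) v = ∏ i : ZMod p, act 0 i v :=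
      Fintype.prod_equiv (Equiv.mulLeft₀ j hj) _ _ (fun i => rfl)
    have h3 : ∏ i : ZMod p, act 0 i v ∈ Z' := by
      have := hnorm 0 1 (Or.inr one_ne_zero) v
      simpa using this
    rw [h2, hZ' j 0 _ h3]
    exact h3
  have hsplit : ∏ j : ZMod p, ∏ i : ZMod p, act (j * 1) (j * i) v =
      (∏ i : ZMod p, act (0 * 1) (0 * i) v) *
        ∏ j ∈ Finset.univ.erase (0 : ZMod p), ∏ i : ZMod p, act (j * 1) (j * i) v :=
    (Finset.mul_prod_erase Finset.univ _ (Finset.mem_univ (0 : ZMod p))).symm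
  have hrest : ∏ j ∈ Finset.univ.erase (0 : ZMod p), ∏ i : ZMod p, act (j * 1) (j * i) v ∈ Z' := by
    apply Subgroup.prod_mem
    intro j hjm
    exact hj j (Finset.ne_of_mem_erase hjm)
  have hzero : ∏ i : ZMod p, act (0 * 1) (0 * i) v = v ^ p := by
    simp only [zero_mul, h0, MonoidHom.id_apply, Finset.prod_const, Finset.card_univ, ZMod.card]
  rw [hsplit, hzero] at hdouble
  exact (Subgroup.mul_mem_cancel_right Z' hrest).mp hdouble

/-- fixed points of an automorphism are fixed by its powers -/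
theorem pow_apply_eq_of_apply_eq {V : Type*} [Group V] (α : MulAut V) (v : V) (h : α v = v) (i : ℕ) :
    (α ^ i) v = v := by
  induction i with
  | zero => simp
  | succ i ih => rw [pow_succ, MulAut.mul_apply, h, ih]

/-- version with two commuting automorphisms of order dividing `p`. -/
theorem pow_mem_of_commuting_auts {V : Type*} [CommGroup V] {p : ℕ} [Fact p.Prime] (Z' : Subgroup V)
    (α β : MulAut V) (hαβ : α * β = β * α) (hα : α ^ p = 1) (hβ : β ^ p = 1)
    (hZα : ∀ v ∈ Z', α v = v) (hZβ : ∀ v ∈ Z', β v = v)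
    (hfix : ∀ i j : ℕ, (¬ p ∣ i ∨ ¬ p ∣ j) → ∀ v : V, (α ^ i * β ^ j) v = v → v ∈ Z') :
    ∀ v : V, v ^ p ∈ Z' := by
  have hp : p.Prime := Fact.out
  haveI : NeZero p := ⟨hp.ne_zero⟩
  have hcomm : Commute α β := hαβ
  apply pow_mem_of_fixedPoints_sq Z' (fun s t => (α ^ s.val * β ^ t.val).toMonoidHom)
  · intro s t s' t'
    have hs : α ^ (s + s').val = α ^ (s.val + s'.val) := by
      rw [ZMod.val_add]; exact (pow_eq_pow_mod _ hα).symm
    have ht : β ^ (t + t').val = β ^ (t.val + t'.val) := by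
      rw [ZMod.val_add]; exact (pow_eq_pow_mod _ hβ).symm
    have key : α ^ (s + s').val * β ^ (t + t').val =
        (α ^ s.val * β ^ t.val) * (α ^ s'.val * β ^ t'.val) := by
      rw [hs, ht, pow_add, pow_add]
      have h1 : β ^ t.val * α ^ s'.val = α ^ s'.val * β ^ t.val := ((hcomm.pow_pow _ _).symm).eq
      calc α ^ s.val * α ^ s'.val * (β ^ t.val * β ^ t'.val)
          = α ^ s.val * (α ^ s'.val * β ^ t.val) * β ^ t'.val := by simp only [mul_assoc]
        _ = α ^ s.val * (β ^ t.val * α ^ s'.val) * β ^ t'.val := by rw [h1]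
        _ = (α ^ s.val * β ^ t.val) * (α ^ s'.val * β ^ t'.val) := by simp only [mul_assoc]
    ext v
    show (α ^ (s + s').val * β ^ (t + t').val) v = (α ^ s.val * β ^ t.val) ((α ^ s'.val * β ^ t'.val) v)
    rw [key, MulAut.mul_apply]
  · ext v
    show (α ^ (0 : ZMod p).val * β ^ (0 : ZMod p).val) v = v
    rw [ZMod.val_zero, pow_zero, pow_zero, one_mul, MulAut.one_apply]
  · intro s t v hv
    show (α ^ s.val * β ^ t.val) v = v
    rw [MulAut.mul_apply, pow_apply_eq_of_apply_eq β v (hZβ v hv), pow_apply_eq_of_apply_eq α v (hZα v hv)]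
  · intro s t hst v hv
    apply hfix s.val t.val _ v hv
    rcases hst with h | h
    · left
      intro hd
      exact h ((ZMod.val_eq_zero s).mp (Nat.eq_zero_of_dvd_of_lt hd (ZMod.val_lt s)))
    · right
      intro hd
      exact h ((ZMod.val_eq_zero t).mp (Nat.eq_zero_of_dvd_of_lt hd (ZMod.val_lt t)))

end Cfsg.Agent.Helper4.ItoTwo

namespace Cfsg.Agent.Helper4.ItoTwo

/-- the same with a `Group` instance and a commutativity hypothesis -/
theorem pow_mem_of_commuting_auts' {V : Type*} [Group V] (hcomm : ∀ a b : V, a * b = b * a)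
    {p : ℕ} [Fact p.Prime] (Z' : Subgroup V)
    (α β : MulAut V) (hαβ : α * β = β * α) (hα : α ^ p = 1) (hβ : β ^ p = 1)
    (hZα : ∀ v ∈ Z', α v = v) (hZβ : ∀ v ∈ Z', β v = v)
    (hfix : ∀ i j : ℕ, (¬ p ∣ i ∨ ¬ p ∣ j) → ∀ v : V, (α ^ i * β ^ j) v = v → v ∈ Z') :
    ∀ v : V, v ^ p ∈ Z' := by
  letI : CommGroup V := { (inferInstance : Group V) with mul_comm := hcomm }
  exact pow_mem_of_commuting_auts Z' α β hαβ hα hβ hZα hZβ hfix

/-- conjugation action of a subgroup `L` on a subgroup `D` it normalizes -/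
@[reducible] def conjAction {G : Type*} [Group G] (L D : Subgroup G)
    (hLD : ∀ g ∈ L, ∀ t ∈ D, g * t * g⁻¹ ∈ D) : MulDistribMulAction ↥L ↥D where
  smul g t := ⟨(g : G) * t * (g : G)⁻¹, hLD g g.2 t t.2⟩
  one_smul t := Subtype.ext (by show (1 : G) * t * (1 : G)⁻¹ = t; group)
  mul_smul a b t := Subtype.ext (by
    show ((a : G) * b) * t * ((a : G) * b)⁻¹ = (a : G) * ((b : G) * t * (b : G)⁻¹) * (a : G)⁻¹
    group)
  smul_mul a t u := Subtype.ext (by
    show (a : G) * ((t : G) * u) * (a : G)⁻¹ = ((a : G) * t * (a : G)⁻¹) * ((a : G) * u * (a : G)⁻¹)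
    group)
  smul_one a := Subtype.ext (by show (a : G) * 1 * (a : G)⁻¹ = 1; group)

/-- the conjugation homomorphism `L → Aut(D)` -/
def conjHom {G : Type*} [Group G] (L D : Subgroup G)
    (hLD : ∀ g ∈ L, ∀ t ∈ D, g * t * g⁻¹ ∈ D) : ↥L →* MulAut ↥D :=
  letI := conjAction L D hLD
  MulDistribMulAction.toMulAut ↥L ↥D

theorem conjHom_apply {G : Type*} [Group G] (L D : Subgroup G)
    (hLD : ∀ g ∈ L, ∀ t ∈ D, g * t * g⁻¹ ∈ D) (g : ↥L) (t : ↥D) :
    ((conjHom L D hLD g t : ↥D) : G) = (g : G) * t * (g : G)⁻¹ := rfl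

end Cfsg.Agent.Helper4.ItoTwo
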