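import Mathlib
import Cfsg.Agent.Helper1.Basic
import Cfsg.Agent.Helper4.ItoTwoA

set_option autoImplicit false

/-!
Abelian `p`-complements and class sizes of `p`-regular elements: the easy direction.
If `G` has an abelian subgroup `H` of `p'`-order and `p`-power index, every `p'`-element has a
centralizer of `p`-power index.
-/

namespace Cfsg.Agent.Helper4.AbelPCompl

open Subgroup
open scoped Pointwise

universe u

/-- A divisor of a prime power is a prime power. -/
theorem exists_pow_of_dvd_pow {p : ℕ} (hp : p.Prime) {a k : ℕ} (h : a ∣ p ^ k) : ∃ j : ℕ, a = p ^ j := by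
  obtain ⟨j, _, hj⟩ := (Nat.dvd_prime_pow hp).1 h
  exact ⟨j, hj⟩

/-- If `q ∤ [G : C]`, every `q`-element is conjugate into `C`. -/
theorem exists_conj_mem_of_not_dvd_index {G : Type u} [Group G] [Finite G] {q : ℕ} [Fact q.Prime]
    (C : Subgroup G) (hC : ¬ q ∣ C.index) (y : G) (e : ℕ) (hy : orderOf y = q ^ e) :
    ∃ g : G, g * y * g⁻¹ ∈ C := by
  obtain ⟨S⟩ : Nonempty (Sylow q C) := inferInstance
  have hSp : IsPGroup q ((S : Subgroup C).map C.subtype) := S.isPGroup'.map _
  have hidx : ¬ q ∣ ((S : Subgroup C).map C.subtype).index := by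
    have h1 : ((S : Subgroup C).map C.subtype).index = (S : Subgroup C).index * C.index := by
      rw [Subgroup.index_map_subtype]
    rw [h1]
    intro hd
    rcases (Nat.Prime.dvd_mul Fact.out).1 hd with h | h
    · exact S.not_dvd_index h
    · exact hC h
  have hyp : IsPGroup q (zpowers y) := by
    rw [IsPGroup.iff_card, Nat.card_zpowers, hy]
    exact ⟨e, rfl⟩
  obtain ⟨P, hP⟩ := hyp.exists_le_sylow
  obtain ⟨g, hg⟩ := MulAction.exists_smul_eq G P (hSp.toSylow hidx)
  refine ⟨g, ?_⟩
  have h2 : MulAut.conj g • (P : Subgroup G) = (S : Subgroup C).map C.subtype := by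
    rw [← Sylow.coe_subgroup_smul, hg, IsPGroup.toSylow_coe]
  have h3 : g * y * g⁻¹ ∈ MulAut.conj g • (P : Subgroup G) := by
    rw [Subgroup.mem_smul_pointwise_iff_exists]
    exact ⟨y, hP (mem_zpowers y), by rw [MulAut.smul_def, MulAut.conj_apply]⟩
  rw [h2] at h3
  exact Subgroup.map_subtype_le _ h3

/-- centralizer of a product of two commuting powers. -/
theorem centralizer_eq_inf_of_parts {G : Type u} [Group G] {x y z : G} (hy : y ∈ zpowers x)
    (hz : z ∈ zpowers x) (hyz : y * z = x) :
    centralizer ({x} : Set G) = centralizer ({y} : Set G) ⊓ centralizer ({z} : Set G) := by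
  apply le_antisymm
  · exact le_inf (ItoTwo.centralizer_le_of_mem_zpowers hy) (ItoTwo.centralizer_le_of_mem_zpowers hz)
  · intro c hc
    rw [mem_inf, mem_centralizer_singleton_iff, mem_centralizer_singleton_iff] at hc
    rw [mem_centralizer_singleton_iff, ← hyz]
    have h1 : Commute c y := hc.1
    have h2 : Commute c z := hc.2
    exact (h1.mul_right h2).eq

/-- the centralizer inside a subgroup. -/
theorem centralizer_subtype {G : Type u} [Group G] (L : Subgroup G) (z : G) (hz : z ∈ L) :
    centralizer ({(⟨z, hz⟩ : L)} : Set L) = (centralizer ({z} : Set G)).subgroupOf L := by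
  ext ⟨c, hc⟩
  rw [mem_centralizer_singleton_iff, mem_subgroupOf, mem_centralizer_singleton_iff]
  constructor
  · intro h
    exact congrArg Subtype.val h
  · intro h
    exact Subtype.ext h

theorem ppow_index_centralizer_aux (p : ℕ) (hp : p.Prime) :
    ∀ (n : ℕ) (G : Type u) [Group G] [Finite G], Nat.card G = n →
      ∀ (H : Subgroup G), (∀ a ∈ H, ∀ b ∈ H, a * b = b * a) → ¬ p ∣ Nat.card H →
      (∃ k : ℕ, H.index = p ^ k) →
      ∀ (m : ℕ) (x : G), orderOf x = m → m.Coprime p →
        ∃ k : ℕ, (centralizer ({x} : Set G)).index = p ^ k := by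
  intro n
  induction n using Nat.strong_induction_on with
  | _ n ihn =>
  intro G _ _ hn H hHab hHp hHidx m
  induction m using Nat.strong_induction_on with
  | _ m ihm =>
  intro x hxm hmp
  by_cases hm1 : m = 1
  · rw [hm1, orderOf_eq_one_iff] at hxm
    subst hxm
    refine ⟨0, ?_⟩
    have : centralizer ({(1 : G)} : Set G) = ⊤ := by
      ext c
      simp [mem_centralizer_singleton_iff]
    rw [this, index_top, pow_zero]
  obtain ⟨q, hq, hqm⟩ := Nat.exists_prime_and_dvd hm1
  haveI : Fact q.Prime := ⟨hq⟩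
  have hqp : q ≠ p := by
    rintro rfl
    have := Nat.Coprime.eq_one_of_dvd hmp.symm hqm
    exact hq.ne_one this
  obtain ⟨y, z, hy, hz, ⟨e, he⟩, hzq, hyz⟩ := ItoTwo.exists_parts q hq x
  have hCx := centralizer_eq_inf_of_parts hy hz hyz
  obtain ⟨k, hk⟩ := hHidx
  -- y is conjugate into H
  have hqidx : ¬ q ∣ H.index := by
    rw [hk]
    intro hd
    exact hqp ((Nat.prime_dvd_prime_iff_eq hq hp).1 (hq.dvd_of_dvd_pow hd))
  obtain ⟨g, hg⟩ := exists_conj_mem_of_not_dvd_index H hqidx y e he
  -- the conjugate of H containing y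
  set H' : Subgroup G := MulAut.conj g⁻¹ • H with hH'
  have hyH' : y ∈ H' := by
    rw [hH', Subgroup.mem_smul_pointwise_iff_exists]
    refine ⟨g * y * g⁻¹, hg, ?_⟩
    rw [MulAut.smul_def, MulAut.conj_apply]
    group
  have hH'ab : ∀ a ∈ H', ∀ b ∈ H', a * b = b * a := by
    intro a ha b hb
    rw [hH', Subgroup.mem_smul_pointwise_iff_exists] at ha hb
    obtain ⟨a', ha', rfl⟩ := ha
    obtain ⟨b', hb', rfl⟩ := hb
    rw [MulAut.smul_def, MulAut.smul_def, ← map_mul, ← map_mul, hHab a' ha' b' hb']
  have hH'card : Nat.card H' = Nat.card H := Helper1.card_conj_smul g⁻¹ H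
  have hH'idx : H'.index = p ^ k := by
    have h1 := H'.card_mul_index
    have h2 := H.card_mul_index
    rw [hH'card] at h1
    have hpos : 0 < Nat.card H := Nat.card_pos
    have : H'.index = H.index := Nat.eq_of_mul_eq_mul_left hpos (h1.trans h2.symm)
    rw [this, hk]
  set L := centralizer ({y} : Set G) with hL
  have hH'L : H' ≤ L := by
    intro a ha
    rw [hL, mem_centralizer_singleton_iff]
    exact hH'ab a ha y hyH'
  obtain ⟨j, hj⟩ : ∃ j : ℕ, L.index = p ^ j :=
    exists_pow_of_dvd_pow hp (hH'idx ▸ Subgroup.index_dvd_of_le hH'L)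
  have hzm : orderOf z ∣ m := hxm ▸ orderOf_dvd_of_mem_zpowers hz
  have hzp : (orderOf z).Coprime p := Nat.Coprime.coprime_dvd_left hzm hmp
  by_cases hLtop : L = ⊤
  · -- y is central
    have hzlt : orderOf z < m := by
      have hmpos : 0 < m := hxm ▸ orderOf_pos x
      refine lt_of_le_of_ne (Nat.le_of_dvd hmpos hzm) ?_
      intro h
      exact hzq (h ▸ hqm)
    obtain ⟨k', hk'⟩ := ihm _ hzlt z rfl hzp
    refine ⟨k', ?_⟩
    rw [hCx, hLtop, top_inf_eq, hk']
  · -- induct inside L
    have hLlt : Nat.card L < n := by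
      rw [← hn]
      have h1 := L.card_mul_index
      have h2 : 1 < L.index := by
        have h3 : L.index ≠ 1 := fun h => hLtop (index_eq_one.1 h)
        have h4 : L.index ≠ 0 := by
          rw [hj]; exact pow_ne_zero _ hp.ne_zero
        omega
      calc Nat.card L < Nat.card L * L.index := lt_mul_of_one_lt_right Nat.card_pos h2
        _ = Nat.card G := h1
    have hzL : z ∈ L := by
      rw [hL, mem_centralizer_singleton_iff]
      have : Commute y z := by
        obtain ⟨a, rfl⟩ := mem_zpowers_iff.1 hy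
        obtain ⟨b, rfl⟩ := mem_zpowers_iff.1 hz
        exact Commute.zpow_zpow_self x a b
      exact this.eq.symm
    have hab' : ∀ a ∈ H'.subgroupOf L, ∀ b ∈ H'.subgroupOf L, a * b = b * a := by
      intro a ha b hb
      rw [mem_subgroupOf] at ha hb
      exact Subtype.ext (hH'ab _ ha _ hb)
    have hcard' : ¬ p ∣ Nat.card (H'.subgroupOf L) := by
      rw [Helper1.card_subgroupOf_of_le hH'L, hH'card]
      exact hHp
    have hidx' : ∃ k : ℕ, (H'.subgroupOf L).index = p ^ k := by
      apply exists_pow_of_dvd_pow hp (k := k)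
      rw [← hH'idx]
      exact Subgroup.relIndex_dvd_index_of_le hH'L
    have hoz : orderOf (⟨z, hzL⟩ : L) = orderOf z := Subgroup.orderOf_mk z hzL
    obtain ⟨k', hk'⟩ := ihn _ hLlt L rfl (H'.subgroupOf L) hab' hcard' hidx' (orderOf z)
      ⟨z, hzL⟩ hoz hzp
    rw [centralizer_subtype L z hzL] at hk'
    refine ⟨k' + j, ?_⟩
    have h1 : (centralizer ({x} : Set G)) ≤ L := hCx ▸ inf_le_left
    have h2 := Subgroup.relIndex_mul_index h1
    have h3 : (centralizer ({x} : Set G)).relIndex L = (centralizer ({z} : Set G)).relIndex L := by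
      rw [hCx, inf_comm, Subgroup.inf_relIndex_right]
    rw [← h2, h3]
    change (centralizer ({z} : Set G)).relIndex L = p ^ k' at hk'
    rw [hk', hj, pow_add]

/-- If `G` has an abelian `p`-complement then every `p`-regular element has a centralizer of
`p`-power index. -/
theorem ppow_index_centralizer_of_abelian_compl {G : Type u} [Group G] [Finite G] {p : ℕ}
    (hp : p.Prime) (H : Subgroup G) (hHab : ∀ a ∈ H, ∀ b ∈ H, a * b = b * a)
    (hHp : ¬ p ∣ Nat.card H) (hHidx : ∃ k : ℕ, H.index = p ^ k) (x : G)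
    (hx : (orderOf x).Coprime p) : ∃ k : ℕ, (centralizer ({x} : Set G)).index = p ^ k :=
  ppow_index_centralizer_aux p hp _ G rfl H hHab hHp hHidx _ x rfl hx

end Cfsg.Agent.Helper4.AbelPCompl
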