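import Mathlib
import Cfsg.Agent.Helper1.Card
import Cfsg.Agent.Helper6.BurnsideSimple
import Cfsg.Agent.Helper4.AbelPComplA

set_option autoImplicit false

/-!
Groups in which every `p`-regular element has a centralizer of `p`-power index: inheritance and
solvability.
-/

namespace Cfsg.Agent.Helper4.AbelPCompl

open Subgroup
open scoped Pointwise

universe u

/-- every `p`-regular element has a centralizer of `p`-power index. -/
def PRegPow (p : ℕ) (G : Type u) [Group G] : Prop :=
  ∀ x : G, (orderOf x).Coprime p → ∃ k : ℕ, (centralizer ({x} : Set G)).index = p ^ k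

theorem PRegPow.subgroup_normal {G : Type u} [Group G] [Finite G] {p : ℕ} (hp : p.Prime)
    (h : PRegPow p G) (N : Subgroup G) [hN : N.Normal] : PRegPow p N := by
  intro x hx
  rw [← Subgroup.orderOf_coe] at hx
  obtain ⟨k, hk⟩ := h (x : G) hx
  have h1 : centralizer ({x} : Set N) = (centralizer ({(x : G)} : Set G)).subgroupOf N :=
    centralizer_subtype N (x : G) x.2
  have h2 : (centralizer ({(x : G)} : Set G)).relIndex N ∣ (centralizer ({(x : G)} : Set G)).index := by
    apply Helper1.relIndex_dvd_index_of_normalizes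
    rw [Subgroup.normalizer_eq_top]
    exact le_top
  rw [hk] at h2
  obtain ⟨j, hj⟩ := exists_pow_of_dvd_pow hp h2
  exact ⟨j, by rw [h1]; exact hj⟩

/-- lifting a `p`-regular element of a quotient to a `p`-regular element. -/
theorem exists_pReg_lift {G : Type u} [Group G] [Finite G] {p : ℕ} (hp : p.Prime)
    (N : Subgroup G) [N.Normal] (xbar : G ⧸ N) (hx : (orderOf xbar).Coprime p) :
    ∃ g : G, (orderOf g).Coprime p ∧ QuotientGroup.mk' N g = xbar := by
  obtain ⟨g, hg⟩ := QuotientGroup.mk'_surjective N xbar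
  have ho : orderOf g ≠ 0 := (orderOf_pos g).ne'
  obtain ⟨a, t, ht, hat⟩ := Nat.exists_eq_pow_mul_and_not_dvd ho p hp.ne_one
  set s := orderOf xbar with hs
  have hcop : Nat.Coprime (p ^ a) s := Nat.Coprime.pow_left a hx.symm
  have hbez : (1 : ℤ) = (p ^ a : ℕ) * Nat.gcdA (p ^ a) s + (s : ℕ) * Nat.gcdB (p ^ a) s := by
    have := Nat.gcd_eq_gcd_ab (p ^ a) s
    rw [hcop] at this
    exact_mod_cast this
  set A := Nat.gcdA (p ^ a) s with hA
  set B := Nat.gcdB (p ^ a) s with hB
  refine ⟨g ^ (((p ^ a : ℕ) : ℤ) * A), ?_, ?_⟩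
  · have h1 : (g ^ (((p ^ a : ℕ) : ℤ) * A)) ^ t = 1 := by
      rw [← zpow_natCast, ← zpow_mul]
      have : ((p ^ a : ℕ) : ℤ) * A * (t : ℕ) = ((orderOf g : ℕ) : ℤ) * A := by
        rw [hat]; push_cast; ring
      rw [this, zpow_mul, zpow_natCast, pow_orderOf_eq_one, one_zpow]
    exact Nat.Coprime.coprime_dvd_left (orderOf_dvd_of_pow_eq_one h1)
      ((Nat.Prime.coprime_iff_not_dvd hp).2 ht).symm
  · rw [map_zpow, hg]
    have h2 : ((p ^ a : ℕ) : ℤ) * A = 1 - (s : ℕ) * B := by linarith
    rw [h2, zpow_sub, zpow_one, zpow_mul, zpow_natCast, hs, pow_orderOf_eq_one, one_zpow, inv_one,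
      mul_one]

theorem PRegPow.quotient {G : Type u} [Group G] [Finite G] {p : ℕ} (hp : p.Prime)
    (h : PRegPow p G) (N : Subgroup G) [hN : N.Normal] : PRegPow p (G ⧸ N) := by
  intro xbar hx
  obtain ⟨g, hg, rfl⟩ := exists_pReg_lift hp N xbar hx
  obtain ⟨k, hk⟩ := h g hg
  have h1 : (centralizer ({g} : Set G)).map (QuotientGroup.mk' N) ≤
      centralizer ({QuotientGroup.mk' N g} : Set (G ⧸ N)) := by
    rintro _ ⟨c, hc, rfl⟩
    rw [SetLike.mem_coe] at hc
    rw [mem_centralizer_singleton_iff] at hc ⊢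
    rw [← map_mul, ← map_mul, hc]
  have h2 := (Subgroup.index_dvd_of_le h1).trans
    (Subgroup.index_map_dvd (centralizer ({g} : Set G)) (QuotientGroup.mk'_surjective N))
  rw [hk] at h2
  exact exists_pow_of_dvd_pow hp h2

theorem card_lt_of_ne_top' {G : Type u} [Group G] [Finite G] (N : Subgroup G) (hN : N ≠ ⊤) :
    Nat.card N < Nat.card G := by
  have h1 := N.card_mul_index
  have h2 : N.index ≠ 1 := fun h => hN (index_eq_one.1 h)
  have h3 : N.index ≠ 0 := N.index_ne_zero_of_finite
  have h4 : 1 < N.index := by omega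
  calc Nat.card N < Nat.card N * N.index := lt_mul_of_one_lt_right Nat.card_pos h4
    _ = Nat.card G := h1

theorem card_quotient_lt_of_ne_bot {G : Type u} [Group G] [Finite G] (N : Subgroup G) [N.Normal]
    (hN : N ≠ ⊥) : Nat.card (G ⧸ N) < Nat.card G := by
  have h1 := N.card_mul_index
  have h2 : 1 < Nat.card N := (Subgroup.one_lt_card_iff_ne_bot N).2 hN
  rw [← Subgroup.index_eq_card]
  have h3 : 0 < N.index := Nat.pos_of_ne_zero N.index_ne_zero_of_finite
  calc N.index < Nat.card N * N.index := lt_mul_of_one_lt_left h3 h2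
    _ = Nat.card G := h1

theorem isSolvable_of_pRegPow_aux (p : ℕ) (hp : p.Prime) :
    ∀ (n : ℕ) (G : Type u) [Group G] [Finite G], Nat.card G = n → PRegPow p G →
      Group.IsSolvable G := by
  intro n
  induction n using Nat.strong_induction_on with
  | _ n ih =>
  intro G _ _ hn h
  haveI : Fact p.Prime := ⟨hp⟩
  rcases subsingleton_or_nontrivial G with hs | hnt
  · exact Group.isSolvable_of_comm (fun a b => Subsingleton.elim _ _)
  by_cases hsimple : IsSimpleGroup G
  · -- simple case
    by_cases hex : ∃ x : G, x ≠ 1 ∧ (orderOf x).Coprime p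
    · obtain ⟨x, hx1, hxp⟩ := hex
      obtain ⟨k, hk⟩ := h x hxp
      have hprime := Helper6.prime_card_of_simple_of_class_prime_pow p k hp x hx1 hk
      haveI : Fact (Nat.card G).Prime := ⟨hprime⟩
      haveI := isCyclic_of_prime_card (α := G) rfl
      letI := IsCyclic.commGroup (α := G)
      exact Group.isSolvable_of_comm (fun a b => mul_comm a b)
    · -- G is a p-group
      push Not at hex
      have hpg : IsPGroup p G := by
        have hcard : Nat.card G = p ^ (Nat.card G).primeFactorsList.length := by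
          apply Nat.eq_prime_pow_of_unique_prime_dvd Nat.card_pos.ne'
          intro q hq hqd
          by_contra hqp
          haveI : Fact q.Prime := ⟨hq⟩
          haveI := Fintype.ofFinite G
          rw [Nat.card_eq_fintype_card] at hqd
          obtain ⟨x, hx⟩ := exists_prime_orderOf_dvd_card q hqd
          have hx1 : x ≠ 1 := by
            rintro rfl
            rw [orderOf_one] at hx
            exact hq.ne_one hx.symm
          apply hex x hx1
          rw [hx]
          exact (Nat.coprime_primes hq hp).2 hqp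
        exact IsPGroup.of_card hcard
      haveI := hpg.isNilpotent
      exact IsNilpotent.to_isSolvable
  · -- a proper nontrivial normal subgroup
    have hexN : ∃ N : Subgroup G, N.Normal ∧ N ≠ ⊥ ∧ N ≠ ⊤ := by
      by_contra hcon
      push Not at hcon
      apply hsimple
      exact ⟨fun N hN => by
        by_cases hb : N = ⊥
        · exact Or.inl hb
        · exact Or.inr (hcon N hN hb)⟩
    obtain ⟨N, hNn, hNb, hNt⟩ := hexN
    haveI := hNn
    haveI : Group.IsSolvable N :=
      ih _ (hn ▸ card_lt_of_ne_top' N hNt) N rfl (h.subgroup_normal hp N)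
    haveI : Group.IsSolvable (G ⧸ N) :=
      ih _ (hn ▸ card_quotient_lt_of_ne_bot N hNb) (G ⧸ N) rfl (h.quotient hp N)
    apply Group.isSolvable_of_ker_le_range N.subtype (QuotientGroup.mk' N)
    rw [QuotientGroup.ker_mk', Subgroup.range_subtype]

theorem isSolvable_of_pRegPow {G : Type u} [Group G] [Finite G] {p : ℕ} (hp : p.Prime)
    (h : PRegPow p G) : Group.IsSolvable G :=
  isSolvable_of_pRegPow_aux p hp _ G rfl h

end Cfsg.Agent.Helper4.AbelPCompl
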