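import Mathlib
import Cfsg.Agent.Helper1.Hall
import Cfsg.Agent.Helper1.MinNonNilp
import Cfsg.Agent.Helper4.AbelPComplB

set_option autoImplicit false

/-!
Groups in which every `p`-regular element has a centralizer of `p`-power index: the Hall
`p'`-subgroups are abelian.
-/

namespace Cfsg.Agent.Helper4.AbelPCompl

open Subgroup
open scoped Pointwise

universe u

/-- If `x` acts on `A` as `w⁻¹` does, `x ^ s = 1`, `w ^ t` centralizes `A` and `s, t` are coprime,
then `x` centralizes `A`. -/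
theorem commute_of_twisted {G : Type u} [Group G] (A : Subgroup G) (x w : G) (s t : ℕ)
    (hxw : ∀ a ∈ A, x * a * x⁻¹ = w⁻¹ * a * w) (hwA : ∀ a ∈ A, w⁻¹ * a * w ∈ A)
    (hxs : x ^ s = 1) (hwt : ∀ a ∈ A, w ^ t * a = a * w ^ t) (hst : s.Coprime t) :
    ∀ a ∈ A, x * a = a * x := by
  have hpow : ∀ i : ℕ, ∀ a ∈ A, x ^ i * a * (x ^ i)⁻¹ = (w ^ i)⁻¹ * a * w ^ i := by
    intro i
    induction i with
    | zero => intro a _; simp
    | succ i ih =>
      intro a ha
      have h1 : x ^ (i + 1) * a * (x ^ (i + 1))⁻¹ = x ^ i * (x * a * x⁻¹) * (x ^ i)⁻¹ := by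
        rw [pow_succ]; group
      rw [h1, hxw a ha, ih _ (hwA a ha), pow_succ']
      group
  have hws : w ^ s ∈ centralizer (A : Set G) := by
    rw [mem_centralizer_iff]
    intro a ha
    have h1 := hpow s a ha
    rw [hxs, inv_one, one_mul, mul_one] at h1
    -- a = (w^s)⁻¹ a w^s
    calc a * w ^ s = w ^ s * ((w ^ s)⁻¹ * a * w ^ s) := by group
      _ = w ^ s * a := by rw [← h1]
  have hwt' : w ^ t ∈ centralizer (A : Set G) := by
    rw [mem_centralizer_iff]
    intro a ha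
    exact (hwt a ha).symm
  have hw : w ∈ centralizer (A : Set G) := by
    have hbez : (1 : ℤ) = (s : ℤ) * Nat.gcdA s t + (t : ℤ) * Nat.gcdB s t := by
      have := Nat.gcd_eq_gcd_ab s t
      rw [hst] at this
      exact_mod_cast this
    have h1 : w = (w ^ s) ^ (Nat.gcdA s t) * (w ^ t) ^ (Nat.gcdB s t) := by
      rw [← zpow_natCast, ← zpow_natCast, ← zpow_mul, ← zpow_mul, ← zpow_add, ← hbez, zpow_one]
    rw [h1]
    exact mul_mem (zpow_mem hws _) (zpow_mem hwt' _)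
  intro a ha
  have h2 := hxw a ha
  have h3 : w⁻¹ * a * w = a := by
    rw [mem_centralizer_iff] at hw
    rw [mul_assoc, hw a ha, ← mul_assoc, inv_mul_cancel, one_mul]
  rw [h3] at h2
  calc x * a = x * a * x⁻¹ * x := by group
    _ = a * x := by rw [h2]

/-- every element of a Hall `p'`-subgroup `H` centralizes `H ⊓ M`, `M` normal with `H ⊓ M` abelian. -/
theorem hall_centralizes {G : Type u} [Group G] [Finite G] [Group.IsSolvable G] {p : ℕ}
    (hp : p.Prime) (h : PRegPow p G) (H M : Subgroup G) [hMn : M.Normal]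
    (hHp : ¬ p ∣ Nat.card H) (kH : ℕ) (hkH : H.index = p ^ kH)
    (hAab : ∀ a ∈ H ⊓ M, ∀ b ∈ H ⊓ M, a * b = b * a) (x : G) (hx : x ∈ H) :
    ∀ a ∈ H ⊓ M, x * a = a * x := by
  have hpH : (Nat.card H).Coprime p := ((Nat.Prime.coprime_iff_not_dvd hp).2 hHp).symm
  set s := orderOf x with hs
  have hsH : s ∣ Nat.card H := Subgroup.orderOf_dvd_natCard H hx
  have hsp : s.Coprime p := Nat.Coprime.coprime_dvd_left hsH hpH
  obtain ⟨k, hk⟩ := h x hsp
  set C := centralizer ({x} : Set G) with hC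
  have hcardG : Nat.card G = Nat.card H * p ^ kH := by rw [← hkH, H.card_mul_index]
  have hcardC : Nat.card C * p ^ k = Nat.card H * p ^ kH := by
    rw [← hk, C.card_mul_index, hcardG]
  -- k ≤ kH
  have hkle : p ^ k ∣ p ^ kH := by
    have h1 : p ^ k ∣ Nat.card H * p ^ kH := Dvd.intro_left _ hcardC
    exact (Nat.Coprime.pow_left k hpH.symm).dvd_of_dvd_mul_left h1
  obtain ⟨j, hj⟩ : ∃ j : ℕ, p ^ kH = p ^ k * p ^ j := by
    have hle : k ≤ kH := (Nat.pow_dvd_pow_iff_le_right hp.one_lt).1 hkle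
    exact ⟨kH - k, by rw [← pow_add, Nat.add_sub_cancel' hle]⟩
  have hcardC' : Nat.card C = Nat.card H * p ^ j := by
    have hpos : 0 < p ^ k := pow_pos hp.pos _
    apply Nat.eq_of_mul_eq_mul_right hpos
    rw [hcardC, hj]; ring
  -- a Hall subgroup of C containing x
  have hHallC : Helper1.HallProp C := Helper1.hallProp_of_solvable _ C rfl
  have hxC : zpowers x ≤ C := by
    rw [zpowers_le, hC, mem_centralizer_singleton_iff]
  have hzcop : (Nat.card (zpowers x)).Coprime (p ^ j) := by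
    rw [Nat.card_zpowers]
    exact Nat.Coprime.pow_right j hsp
  obtain ⟨K₁, hK₁C, hK₁card, hxK₁⟩ :=
    (hHallC.internal (Nat.card H) (p ^ j) hcardC' (Nat.Coprime.pow_right j hpH)).2 (zpowers x) hxC hzcop
  -- K₁ is conjugate to H
  have hHallG : Helper1.HallProp G := Helper1.hallProp_of_solvable _ G rfl
  obtain ⟨g, hg⟩ := (hHallG (Nat.card H) (p ^ kH) hcardG (Nat.Coprime.pow_right kH hpH)).1 H K₁ rfl hK₁card
  set A := H ⊓ M with hA
  set A₁ := K₁ ⊓ M with hA₁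
  have hA₁eq : MulAut.conj g • A = A₁ := by
    rw [hA, Subgroup.smul_inf, hg, Helper1.conj_smul_normal M g]
  have hA₁card : Nat.card A₁ = Nat.card A := by
    rw [← hA₁eq]; exact Helper1.card_conj_smul g A
  -- conjugacy inside M
  have hAM : A ≤ M := inf_le_right
  have hA₁M : A₁ ≤ M := inf_le_right
  have hAcardH : Nat.card A ∣ Nat.card H := Subgroup.card_dvd_of_le inf_le_left
  have hpA : (Nat.card A).Coprime p := Nat.Coprime.coprime_dvd_left hAcardH hpH
  have hrel : A.relIndex M ∣ p ^ kH := by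
    rw [hA, Subgroup.inf_relIndex_right, ← hkH]
    apply Helper1.relIndex_dvd_index_of_normalizes
    rw [Subgroup.normalizer_eq_top]
    exact le_top
  obtain ⟨jM, hjM⟩ := exists_pow_of_dvd_pow hp hrel
  have hcardM : Nat.card M = Nat.card A * p ^ jM := by
    rw [← hjM, mul_comm]
    exact (Helper1.relIndex_mul_card_of_le hAM).symm
  have hHallM : Helper1.HallProp M := Helper1.hallProp_of_solvable _ M rfl
  obtain ⟨m₀, hm₀M, hm₀⟩ :=
    (hHallM.internal (Nat.card A) (p ^ jM) hcardM (Nat.Coprime.pow_right jM hpA)).1 A A₁ hAM hA₁M rfl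
      hA₁card
  -- y = m₀⁻¹ x m₀ centralizes A
  have hyA : ∀ a ∈ A, (m₀⁻¹ * x * m₀) * a = a * (m₀⁻¹ * x * m₀) := by
    intro a ha
    have h1 : m₀ * a * m₀⁻¹ ∈ A₁ := by
      rw [← hm₀]; exact Helper1.conj_mem_conj_smul ha
    have h2 : m₀ * a * m₀⁻¹ ∈ C := hK₁C (Subgroup.mem_inf.1 h1).1
    rw [hC, mem_centralizer_singleton_iff] at h2
    -- h2 : m₀ a m₀⁻¹ * x = x * (m₀ a m₀⁻¹)
    calc m₀⁻¹ * x * m₀ * a = m₀⁻¹ * (x * (m₀ * a * m₀⁻¹)) * m₀ := by group
      _ = m₀⁻¹ * ((m₀ * a * m₀⁻¹) * x) * m₀ := by rw [h2]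
      _ = a * (m₀⁻¹ * x * m₀) := by group
  set w := x⁻¹ * (m₀⁻¹ * x * m₀) with hw
  have hwM : w ∈ M := by
    have h1 : x⁻¹ * m₀⁻¹ * x ∈ M := by
      have := hMn.conj_mem m₀⁻¹ (inv_mem hm₀M) x⁻¹
      simpa using this
    have h2 : w = (x⁻¹ * m₀⁻¹ * x) * m₀ := by rw [hw]; group
    rw [h2]
    exact mul_mem h1 hm₀M
  have hxN : x ∈ normalizer (A : Set G) := Helper1.le_normalizer_inf_normal H M hx
  have hxAx : ∀ a ∈ A, x * a * x⁻¹ ∈ A := by
    intro a ha
    exact (mem_normalizer_iff.1 hxN a).1 ha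
  have hyN : m₀⁻¹ * x * m₀ ∈ normalizer (A : Set G) := by
    apply Subgroup.centralizer_le_normalizer
    rw [mem_centralizer_iff]
    intro a ha
    exact (hyA a ha).symm
  have hwN : w ∈ normalizer (A : Set G) := mul_mem (inv_mem hxN) hyN
  have hxw : ∀ a ∈ A, x * a * x⁻¹ = w⁻¹ * a * w := by
    intro a ha
    have h1 := hyA _ (hxAx a ha)
    -- y (x a x⁻¹) = (x a x⁻¹) y
    have h2 : w⁻¹ * a * w = (m₀⁻¹ * x * m₀)⁻¹ * ((x * a * x⁻¹) * (m₀⁻¹ * x * m₀)) := by
      rw [hw]; group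
    rw [h2, ← h1]
    group
  have hwA : ∀ a ∈ A, w⁻¹ * a * w ∈ A := by
    intro a ha
    rw [← hxw a ha]
    exact hxAx a ha
  -- a p-power of w lies in A
  set T := normalizer (A : Set G) ⊓ M with hT
  have hAT : A ≤ T := le_inf Subgroup.le_normalizer hAM
  have hTM : T ≤ M := inf_le_right
  have hwT : w ∈ T := ⟨hwN, hwM⟩
  haveI hAn : (A.subgroupOf T).Normal :=
    (Subgroup.normal_subgroupOf_iff_le_normalizer hAT).2 inf_le_left
  have hrelT : A.relIndex T ∣ p ^ jM := by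
    rw [← hjM]
    exact Dvd.intro _ (Subgroup.relIndex_mul_relIndex A T M hAT hTM)
  obtain ⟨t', ht'⟩ := exists_pow_of_dvd_pow hp hrelT
  have hwt : w ^ (p ^ t') ∈ A := by
    have h1 : ((⟨w, hwT⟩ : T) : T ⧸ A.subgroupOf T) ^ Nat.card (T ⧸ A.subgroupOf T) = 1 :=
      pow_card_eq_one'
    rw [← Subgroup.index_eq_card] at h1
    have h2 : (A.subgroupOf T).index = p ^ t' := ht'
    rw [h2, ← QuotientGroup.mk_pow, QuotientGroup.eq_one_iff, mem_subgroupOf] at h1
    simpa using h1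
  apply commute_of_twisted A x w s (p ^ t') hxw hwA
  · rw [hs]; exact pow_orderOf_eq_one x
  · intro a ha
    exact hAab _ hwt a ha
  · exact Nat.Coprime.pow_right t' hsp

theorem hall_abelian_aux (p : ℕ) (hp : p.Prime) :
    ∀ (n : ℕ) (G : Type u) [Group G] [Finite G], Nat.card G = n → Group.IsSolvable G →
      PRegPow p G → ∀ H : Subgroup G, ¬ p ∣ Nat.card H → (∃ k : ℕ, H.index = p ^ k) →
      ∀ a ∈ H, ∀ b ∈ H, a * b = b * a := by
  intro n
  induction n using Nat.strong_induction_on with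
  | _ n ih =>
  intro G _ _ hn hsolv h H hHp hHidx
  rcases subsingleton_or_nontrivial G with hs | hnt
  · intro a _ b _
    exact Subsingleton.elim _ _
  obtain ⟨M, hMn, hMr⟩ := Helper1.exists_normal_prime_index G
  haveI := hMn
  obtain ⟨kH, hkH⟩ := hHidx
  have hMtop : M ≠ ⊤ := by
    intro hM
    rw [hM, index_top] at hMr
    exact Nat.not_prime_one hMr
  -- the Hall subgroup of M
  have hAM : H ⊓ M ≤ M := inf_le_right
  have hcardA : ¬ p ∣ Nat.card ((H ⊓ M).subgroupOf M) := by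
    rw [Helper1.card_subgroupOf_of_le hAM]
    intro hd
    exact hHp (hd.trans (Subgroup.card_dvd_of_le inf_le_left))
  have hidxA : ∃ k : ℕ, ((H ⊓ M).subgroupOf M).index = p ^ k := by
    apply exists_pow_of_dvd_pow hp (k := kH)
    change (H ⊓ M).relIndex M ∣ p ^ kH
    rw [Subgroup.inf_relIndex_right, ← hkH]
    apply Helper1.relIndex_dvd_index_of_normalizes
    rw [Subgroup.normalizer_eq_top]
    exact le_top
  have hAab' := ih _ (hn ▸ card_lt_of_ne_top' M hMtop) M rfl inferInstance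
    (h.subgroup_normal hp M) ((H ⊓ M).subgroupOf M) hcardA hidxA
  have hAab : ∀ a ∈ H ⊓ M, ∀ b ∈ H ⊓ M, a * b = b * a := by
    intro a ha b hb
    have := hAab' ⟨a, hAM ha⟩ (mem_subgroupOf.2 ha) ⟨b, hAM hb⟩ (mem_subgroupOf.2 hb)
    exact congrArg Subtype.val this
  have hcent := fun x hx => hall_centralizes hp h H M hHp kH hkH hAab x hx
  intro a ha b hb
  by_cases hHM : H ≤ M
  · exact hAab a ⟨ha, hHM ha⟩ b ⟨hb, hHM hb⟩
  · obtain ⟨x₀, hx₀H, hx₀M⟩ := SetLike.not_le_iff_exists.1 hHM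
    haveI : Fact (M.index).Prime := ⟨hMr⟩
    have hcardQ : Nat.card (G ⧸ M) = M.index := (Subgroup.index_eq_card M).symm
    have hx₀1 : (x₀ : G ⧸ M) ≠ 1 := by
      rw [Ne, QuotientGroup.eq_one_iff]
      exact hx₀M
    have hgen : zpowers (x₀ : G ⧸ M) = ⊤ := zpowers_eq_top_of_prime_card hcardQ hx₀1
    have hdecomp : ∀ c ∈ H, ∃ i : ℤ, ∃ a' ∈ H ⊓ M, c = x₀ ^ i * a' := by
      intro c hc
      have h1 : (c : G ⧸ M) ∈ zpowers (x₀ : G ⧸ M) := by rw [hgen]; exact mem_top _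
      obtain ⟨i, hi⟩ := mem_zpowers_iff.1 h1
      have hmemM : (x₀ ^ i)⁻¹ * c ∈ M := by
        rw [← QuotientGroup.eq, QuotientGroup.mk_zpow, hi]
      refine ⟨i, (x₀ ^ i)⁻¹ * c,
        Subgroup.mem_inf.2 ⟨mul_mem (inv_mem (zpow_mem hx₀H i)) hc, hmemM⟩, by group⟩
    obtain ⟨i, a', ha', rfl⟩ := hdecomp a ha
    obtain ⟨j, b', hb', rfl⟩ := hdecomp b hb
    have hc0 : ∀ c ∈ H ⊓ M, Commute x₀ c := fun c hc => hcent x₀ hx₀H c hc
    have hc1 : Commute (x₀ ^ i) (x₀ ^ j) := Commute.zpow_zpow_self x₀ i j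
    have hc2 : Commute a' (x₀ ^ j) := ((hc0 a' ha').zpow_left j).symm
    have hc3 : Commute a' b' := hAab a' ha' b' hb'
    have hc4 : Commute (x₀ ^ i) b' := (hc0 b' hb').zpow_left i
    exact ((hc1.mul_right hc4).mul_left (hc2.mul_right hc3)).eq

theorem hall_abelian {G : Type u} [Group G] [Finite G] {p : ℕ} (hp : p.Prime)
    (h : PRegPow p G) (H : Subgroup G) (hHp : ¬ p ∣ Nat.card H) (hHidx : ∃ k : ℕ, H.index = p ^ k) :
    ∀ a ∈ H, ∀ b ∈ H, a * b = b * a :=
  hall_abelian_aux p hp _ G rfl (isSolvable_of_pRegPow hp h) h H hHp hHidx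

/-- existence of a Hall `p'`-subgroup. -/
theorem exists_pCompl {G : Type u} [Group G] [Finite G] [Group.IsSolvable G] {p : ℕ} (hp : p.Prime) :
    ∃ H : Subgroup G, ¬ p ∣ Nat.card H ∧ ∃ k : ℕ, H.index = p ^ k := by
  have ho : Nat.card G ≠ 0 := Nat.card_pos.ne'
  obtain ⟨a, m, hm, hcard⟩ := Nat.exists_eq_pow_mul_and_not_dvd ho p hp.ne_one
  have hcop : m.Coprime (p ^ a) := Nat.Coprime.pow_right a ((Nat.Prime.coprime_iff_not_dvd hp).2 hm).symm
  have hHall : Helper1.HallProp G := Helper1.hallProp_of_solvable _ G rfl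
  obtain ⟨H, hH, -⟩ := (hHall m (p ^ a) (by rw [hcard, mul_comm]) hcop).2 ⊥ (by
    rw [Subgroup.card_bot]; exact Nat.coprime_one_left _)
  refine ⟨H, hH ▸ hm, a, ?_⟩
  have h1 := H.card_mul_index
  rw [hH, hcard, mul_comm] at h1
  have hmpos : 0 < m := by
    rcases Nat.eq_zero_or_pos m with h0 | h0
    · rw [h0, mul_zero] at hcard; exact absurd hcard ho
    · exact h0
  exact Nat.eq_of_mul_eq_mul_right hmpos h1

end Cfsg.Agent.Helper4.AbelPCompl
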