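import Mathlib
import Cfsg.Agent.Helper5.LTCF
import Cfsg.Agent.Helper5.StemPI
import Cfsg.Agent.Helper5.StemPC

/-!
# Covering presentations of other exponents

If the covering group of exponent `e'` of a presentation is finite, so is the covering group of every
positive exponent `e`: it is an extension of a quotient of the former by the abelian group generated
by the values of the central words, which are killed by `e`.  If moreover the presented group (the
covering group of exponent 1) has at most the order of the group `P` in which the presentation holds,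
and the orders of the generators are prime to `e`, the covering group of exponent `e` is a stem
extension of `P`; for `P` with cyclic Schur multiplier of order `n` its order divides
`|P| * gcd n e`.
-/

set_option autoImplicit false

namespace Cfsg.Agent.Helper4.CovFin

open Cfsg Cfsg.Agent.Helper5.StemP Cfsg.Agent.Helper5.LP Cfsg.Agent.Helper5.LTC

section
variable (d : ℕ) (m : ℕ → ℕ) (CC : List (List ℕ)) (e : ℕ)

/-- the subgroup generated by the values of the central words. -/
def zsub : Subgroup (CovG d m CC CC e) :=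
  Subgroup.closure {x | ∃ r ∈ CC, x = ev (2 * d) (coverRels d m CC CC e) r}

theorem zsub_le_center (hlt : ∀ r ∈ CC, ∀ c ∈ r, c < 2 * d) :
    zsub d m CC e ≤ Subgroup.center (CovG d m CC CC e) := by
  unfold zsub
  rw [Subgroup.closure_le]
  rintro x ⟨r, hr, rfl⟩
  exact cover_center d m CC CC e hr (hlt r hr)

theorem mem_zsub {r : List ℕ} (hr : r ∈ CC) :
    ev (2 * d) (coverRels d m CC CC e) r ∈ zsub d m CC e :=
  Subgroup.subset_closure ⟨r, hr, rfl⟩

theorem zsub_pow (hlt : ∀ r ∈ CC, ∀ c ∈ r, c < 2 * d) :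
    ∀ z ∈ zsub d m CC e, z ^ e = 1 := by
  intro z hz
  have hz' := hz
  unfold zsub at hz'
  induction hz' using Subgroup.closure_induction with
  | mem x hx =>
    obtain ⟨r, hr, rfl⟩ := hx
    rw [ev_pow]
    exact ev_rel (mem_coverRels_T d m CC CC e hr)
  | one => exact one_pow _
  | mul a b ha hb iha ihb =>
    have hac : a ∈ Subgroup.center (CovG d m CC CC e) := zsub_le_center d m CC e hlt ha
    have hcomm : Commute a b := (Subgroup.mem_center_iff.mp hac b).symm
    rw [hcomm.mul_pow, iha ha, ihb hb, one_mul]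
  | inv a ha iha => rw [inv_pow, iha ha, inv_one]

theorem zsub_normal (hlt : ∀ r ∈ CC, ∀ c ∈ r, c < 2 * d) : (zsub d m CC e).Normal := by
  refine ⟨fun x hx y => ?_⟩
  have hc := Subgroup.mem_center_iff.mp (zsub_le_center d m CC e hlt hx) y
  have e' : y * x * y⁻¹ = x := by rw [hc, mul_inv_cancel_right]
  rw [e']
  exact hx

theorem zsub_finite (he : 0 < e) (hlt : ∀ r ∈ CC, ∀ c ∈ r, c < 2 * d) :
    Finite (zsub d m CC e) := by
  classical
  let inst : CommGroup (zsub d m CC e) :=
    { (inferInstance : Group (zsub d m CC e)) with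
      mul_comm := fun a b => by
        apply Subtype.ext
        exact (Subgroup.mem_center_iff.mp (zsub_le_center d m CC e hlt a.2) b.1).symm }
  have hfg : Group.FG (zsub d m CC e) := by
    rw [Group.fg_iff_subgroup_fg]
    refine ⟨(CC.map (ev (2 * d) (coverRels d m CC CC e))).toFinset, ?_⟩
    unfold zsub
    congr 1
    ext x
    simp only [List.coe_toFinset, List.mem_map, Set.mem_ofPred_eq]
    constructor
    · rintro ⟨r, hr, rfl⟩
      exact ⟨r, hr, rfl⟩
    · rintro ⟨r, hr, rfl⟩
      exact ⟨r, hr, rfl⟩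
  have htor : IsMulTorsion (zsub d m CC e) := by
    intro z
    rw [isOfFinOrder_iff_pow_eq_one]
    refine ⟨e, he, ?_⟩
    apply Subtype.ext
    rw [Subgroup.coe_pow, Subgroup.coe_one]
    exact zsub_pow d m CC e hlt z.1 z.2
  exact CommGroup.finite_of_fg_isMulTorsion _ htor

theorem lval_map {K K' : Type*} [Group K] [Group K'] (f : K →* K') (x : ℕ → K) (c : ℕ) :
    lval (fun i => f (x i)) c = f (lval x c) := by
  unfold lval
  split_ifs
  · rfl
  · rw [map_inv]

theorem prod_lval_map {K K' : Type*} [Group K] [Group K'] (f : K →* K') (x : ℕ → K)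
    (l : List ℕ) : (l.map (lval (fun i => f (x i)))).prod = f ((l.map (lval x)).prod) := by
  induction l with
  | nil => simp
  | cons c l ih => rw [List.map_cons, List.prod_cons, List.map_cons, List.prod_cons, map_mul, ih,
      lval_map]

end

section quot
variable (d : ℕ) (m : ℕ → ℕ) (CC : List (List ℕ)) (e e' : ℕ)

/-- the map of the covering group of exponent `e'` onto the quotient of the covering group of
exponent `e` by the values of the central words. -/
noncomputable def quotHom (hlt : ∀ r ∈ CC, ∀ c ∈ r, c < 2 * d)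
    (hN : (zsub d m CC e).Normal) :
    CovG d m CC CC e' →* CovG d m CC CC e ⧸ zsub d m CC e :=
  lift (lval (fun i => (QuotientGroup.mk' (zsub d m CC e)) (cgen d m CC CC e i)))
    (coverRels_lt d m CC CC e' (by
      intro r hr
      rcases List.mem_append.mp hr with h | h <;> exact hlt r h))
    (by
      have hval : ∀ r ∈ CC, (r.map (lval (fun i => (QuotientGroup.mk' (zsub d m CC e))
          (cgen d m CC CC e i)))).prod = 1 := by
        intro r hr
        rw [prod_lval_map, ← ev_eq_prod d m CC CC e r (hlt r hr)]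
        exact (QuotientGroup.eq_one_iff _).mpr (mem_zsub d m CC e hr)
      apply coverRels_hold
      · intro i hi
        rw [← map_pow, cgen_pow d m CC CC e hi, map_one]
      · intro r hr
        rw [hval r hr]
        exact Subgroup.one_mem _
      · intro r hr
        rw [hval r hr, one_pow])

theorem quotHom_ev (hlt : ∀ r ∈ CC, ∀ c ∈ r, c < 2 * d)
    (hN : (zsub d m CC e).Normal) (l : List ℕ) (hl : ∀ c ∈ l, c < 2 * d) :
    quotHom d m CC e e' hlt hN (ev (2 * d) (coverRels d m CC CC e') l) =
      (l.map (lval (fun i => (QuotientGroup.mk' (zsub d m CC e)) (cgen d m CC CC e i)))).prod := by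
  unfold quotHom
  exact lift_ev _ _ _ l hl

theorem quotHom_surjective (hlt : ∀ r ∈ CC, ∀ c ∈ r, c < 2 * d)
    (hN : (zsub d m CC e).Normal) : Function.Surjective (quotHom d m CC e e' hlt hN) := by
  have key : ∀ x : CovG d m CC CC e, ∃ a, quotHom d m CC e e' hlt hN a =
      (QuotientGroup.mk' (zsub d m CC e)) x := by
    intro x
    have hx : x ∈ Subgroup.closure
        {x : CovG d m CC CC e | ∃ i, i < d ∧ x = cgen d m CC CC e i} := by
      rw [closure_cgen]
      exact Subgroup.mem_top x
    induction hx using Subgroup.closure_induction with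
    | mem x hx =>
      obtain ⟨i, hi, rfl⟩ := hx
      refine ⟨ev (2 * d) (coverRels d m CC CC e') [2 * i], ?_⟩
      rw [quotHom_ev d m CC e e' hlt hN [2 * i] (by
        intro c hc
        rw [List.mem_singleton] at hc
        omega)]
      simp [lval_even]
    | one => exact ⟨1, by rw [map_one, map_one]⟩
    | mul a b _ _ iha ihb =>
      obtain ⟨a', ha'⟩ := iha
      obtain ⟨b', hb'⟩ := ihb
      exact ⟨a' * b', by rw [map_mul, map_mul, ha', hb']⟩
    | inv a _ iha =>
      obtain ⟨a', ha'⟩ := iha
      exact ⟨a'⁻¹, by rw [map_inv, map_inv, ha']⟩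
  intro y
  obtain ⟨x, rfl⟩ := QuotientGroup.mk'_surjective (zsub d m CC e) y
  exact key x

/-- **finiteness of the covering groups of all positive exponents from one of them**, with the
order bound `|CovG e| ≤ |CovG e'| * |zsub e|`. -/
theorem finite_of_finite (he : 0 < e) (hlt : ∀ r ∈ CC, ∀ c ∈ r, c < 2 * d)
    [Finite (CovG d m CC CC e')] :
    Finite (CovG d m CC CC e) ∧ Finite (zsub d m CC e) ∧
      Nat.card (CovG d m CC CC e) ≤ Nat.card (CovG d m CC CC e') * Nat.card (zsub d m CC e) := by
  have hN := zsub_normal d m CC e hlt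
  have hZ := zsub_finite d m CC e he hlt
  have hs := quotHom_surjective d m CC e e' hlt hN
  have hQ : Finite (CovG d m CC CC e ⧸ zsub d m CC e) := Finite.of_surjective _ hs
  have hG : Finite (CovG d m CC CC e) :=
    Finite.of_equiv _ (Subgroup.groupEquivQuotientProdSubgroup (s := zsub d m CC e)).symm
  refine ⟨hG, hZ, ?_⟩
  rw [Subgroup.card_eq_card_quotient_mul_card_subgroup (zsub d m CC e)]
  exact Nat.mul_le_mul_right _ (Nat.card_le_card_of_surjective _ hs)

end quot

section base
variable {P : Type} [Group P] [Finite P]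
variable (d : ℕ) (m : ℕ → ℕ) (CC : List (List ℕ)) (e : ℕ)

/-- **the covering group of exponent `e` as a stem extension**: if the presented group has at most
the order of `P` and the orders of the generators divide a number `M` prime to `e`. -/
theorem stem_of_card_le (he : 0 < e) (hlt : ∀ r ∈ CC, ∀ c ∈ r, c < 2 * d)
    (hlt2 : ∀ r ∈ CC ++ CC, ∀ c ∈ r, c < 2 * d)
    (g : ℕ → P) (hgen : Subgroup.closure {y | ∃ i, i < d ∧ y = g i} = ⊤)
    (hm : ∀ i, i < d → g i ^ m i = 1)
    (hC : ∀ r ∈ CC ++ CC, (r.map (lval g)).prod = 1)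
    (h1 : Finite (CovG d m CC CC 1) ∧ Nat.card (CovG d m CC CC 1) ≤ Nat.card P)
    (M : ℕ) (hM : ∀ i, i < d → m i ∣ M) (hcop : M.Coprime e) :
    Finite (CovG d m CC CC e) ∧ Cfsg.IsStemExtension (coverHomU d m CC CC e hlt2 g hm hC) ∧
      (coverHomU d m CC CC e hlt2 g hm hC).ker = zsub d m CC e := by
  have : Finite (CovG d m CC CC 1) := h1.1
  obtain ⟨hG, hZ, hcard⟩ := finite_of_finite d m CC e 1 he hlt
  set π := coverHomU d m CC CC e hlt2 g hm hC with hπdef
  have hπ : Function.Surjective π := coverHomU_surjective d m CC CC e hlt2 g hm hC hgen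
  have hZk : zsub d m CC e ≤ π.ker := by
    unfold zsub
    rw [Subgroup.closure_le]
    rintro x ⟨r, hr, rfl⟩
    exact coverHomU_ker d m CC CC e hlt2 g hm hC hr
  have hck : Nat.card (CovG d m CC CC e) = Nat.card P * Nat.card π.ker :=
    card_eq_card_mul_ker π hπ
  have hle : Nat.card π.ker ≤ Nat.card (zsub d m CC e) := by
    have h2 : Nat.card P * Nat.card π.ker ≤ Nat.card P * Nat.card (zsub d m CC e) := by
      rw [← hck]
      exact hcard.trans (Nat.mul_le_mul_right _ h1.2)
    exact Nat.le_of_mul_le_mul_left h2 Nat.card_pos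
  have h := isStem_of_central π hπ (zsub d m CC e) (zsub_le_center d m CC e hlt) hZk hle
    {x | ∃ i, i < d ∧ x = cgen d m CC CC e i} (closure_cgen d m CC CC e) M (by
      rintro x ⟨i, hi, rfl⟩
      obtain ⟨k, hk⟩ := hM i hi
      rw [hk, pow_mul, cgen_pow d m CC CC e hi, one_pow]) e (zsub_pow d m CC e hlt) hcop
  exact ⟨hG, h.1, h.2⟩

/-- **the order of the covering group of exponent `e`**, for `P` with cyclic Schur multiplier of
order `n`: it divides `|P| * gcd n e`. -/
theorem card_dvd_of_cyclic (he : 0 < e) (hlt : ∀ r ∈ CC, ∀ c ∈ r, c < 2 * d)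
    (hlt2 : ∀ r ∈ CC ++ CC, ∀ c ∈ r, c < 2 * d)
    (g : ℕ → P) (hgen : Subgroup.closure {y | ∃ i, i < d ∧ y = g i} = ⊤)
    (hm : ∀ i, i < d → g i ^ m i = 1)
    (hC : ∀ r ∈ CC ++ CC, (r.map (lval g)).prod = 1)
    (h1 : Finite (CovG d m CC CC 1) ∧ Nat.card (CovG d m CC CC 1) ≤ Nat.card P)
    (M : ℕ) (hM : ∀ i, i < d → m i ∣ M) (hcop : M.Coprime e)
    (n : ℕ) (hn : 0 < n) (hP : Cfsg.HasCyclicSchurMultiplier P n) :
    Finite (CovG d m CC CC e) ∧ Nat.card (CovG d m CC CC e) ∣ Nat.card P * Nat.gcd n e := by
  obtain ⟨hG, hstem, hker⟩ := stem_of_card_le d m CC e he hlt hlt2 g hgen hm hC h1 M hM hcop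
  refine ⟨hG, ?_⟩
  set π := coverHomU d m CC CC e hlt2 g hm hC with hπdef
  obtain ⟨f, hf⟩ := hP.2 (CovG d m CC CC e) π hstem
  have : NeZero n := ⟨hn.ne'⟩
  have hfin : Finite π.ker := inferInstance
  -- the kernel is cyclic
  have hcyc : IsCyclic π.ker := isCyclic_of_surjective f hf
  have hdn : Nat.card π.ker ∣ n := by
    have h2 := Subgroup.card_dvd_of_surjective f hf
    rwa [Nat.card_congr (Multiplicative.toAdd (α := ZMod n)), Nat.card_zmod] at h2
  have hde : Nat.card π.ker ∣ e := by
    rw [← IsCyclic.exponent_eq_card]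
    apply Monoid.exponent_dvd_of_forall_pow_eq_one
    intro z
    apply Subtype.ext
    rw [Subgroup.coe_pow, Subgroup.coe_one]
    have hz : z.1 ∈ zsub d m CC e := by
      rw [← hker]
      exact z.2
    exact zsub_pow d m CC e hlt z.1 hz
  rw [card_eq_card_mul_ker π hstem.1]
  exact Nat.mul_dvd_mul_left _ (Nat.dvd_gcd hdn hde)

end base

end Cfsg.Agent.Helper4.CovFin
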