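import Mathlib
import Cfsg.Agent.Helper5.LTCE
import Cfsg.Agent.Helper5.LTCI

/-!
# Labelled Todd–Coxeter certificates without the condition `K ∩ Z = 1`

`ltc_main` of `Helper5.LTCE` bounds `|P| ≤ |K| * N * a` under the hypothesis that the subgroup `K`
meets the group generated by the central elements `z i` trivially.  The bound holds without this
hypothesis: pass to the quotient of `P` by the central subgroup `K ⊓ center P`.
-/

set_option autoImplicit false

namespace Cfsg.Agent.Helper4.LTCQ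

open Cfsg.Agent.Helper5.LTC Cfsg.Agent.Helper5.StemP Cfsg.Agent.Helper5.LP

section
variable {P : Type*} [Group P] {Q : Type*} [Group Q]

theorem lprod_map (π : P →* Q) (g : ℕ → P) (l : List ℕ) :
    lprod (fun i => π (g i)) l = π (lprod g l) := by
  unfold lprod
  rw [map_list_prod, List.map_map]
  rfl

theorem phi_map (π : P →* Q) (z : ℕ → P) (l : L8) :
    phi (fun i => π (z i)) l = π (phi z l) := by
  unfold phi
  simp only [map_mul, map_pow]

variable {C : Cert} {K : Subgroup P} {g z : ℕ → P}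

/-- the hypotheses pass to a quotient. -/
theorem hyp_map (π : P →* Q) (hπ : Function.Surjective π) (hH : Hyp C K g z) :
    Hyp C (K.map π) (fun i => π (g i)) (fun i => π (z i)) := by
  refine ⟨?_, hH.hE0, ?_, ?_, hH.hW, ?_, ?_⟩
  · intro i
    rw [Subgroup.mem_center_iff]
    intro y
    obtain ⟨x, rfl⟩ := hπ y
    rw [← map_mul, ← map_mul, Subgroup.mem_center_iff.mp (hH.hz i) x]
  · intro i
    show π (z i) ^ C.E = 1
    rw [← map_pow, hH.hE i, map_one]
  · intro x hx
    show π (g (C.ι x)) = (π (g x))⁻¹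
    rw [hH.hι x hx, map_inv]
  · intro wi hwi
    rw [lprod_map, phi_map, hH.hrel wi hwi]
  · intro wi h1 h2
    rw [lprod_map]
    exact Subgroup.mem_map_of_mem π (hH.hsub wi h1 h2)

/-- **the main theorem on labelled certificates without the condition on `K`**. -/
theorem ltc_main_noK (hH : Hyp C K g z) (hchk : ∀ j, j < C.nf → ∃ r, checkFact C j r = true)
    (T : Tab) (hT0 : T.LV 0 = 0) (h0N : 0 < T.N)
    (hT : ∀ n, n < T.N → ∀ x, x < C.k → tabEntryOK C T n x = true)
    (hgen : ∀ p : P, ∃ l : List ℕ, (∀ c ∈ l, c < C.k) ∧ p = lprod g l)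
    [Finite K] (D : ℕ) (hD : D ≤ 8)
    (hz8 : ∀ i, D ≤ i → z i = 1)
    (js : List ℕ) (hjs : ∀ j ∈ js, relFactOK C j = true)
    (i0 a : ℕ) (hi0 : i0 < 8) (ha : 0 < a) (cs0 : List ℕ) (h0 : ordOK C js cs0 i0 a = true)
    (as : ℕ → ℕ) (css : ℕ → List ℕ) (hgs : ∀ i, i < D → genOK C js (css i) i i0 (as i) = true) :
    Finite P ∧ Nat.card P ≤ Nat.card K * T.N * a := by
  classical
  -- the central part of `K`
  let M : Subgroup P := K ⊓ Subgroup.center P
  have hMn : M.Normal := by
    refine ⟨fun x hx y => ?_⟩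
    have hc := Subgroup.mem_center_iff.mp hx.2 y
    have e : y * x * y⁻¹ = x := by rw [hc, mul_inv_cancel_right]
    rw [e]
    exact hx
  let π : P →* P ⧸ M := QuotientGroup.mk' M
  have hπ : Function.Surjective π := QuotientGroup.mk'_surjective M
  have hker : π.ker = M := QuotientGroup.ker_mk' M
  have hH' := hyp_map π hπ hH
  have : Finite (K.map π) := by
    have hs : Function.Surjective (fun k : K => (⟨π k.1, Subgroup.mem_map_of_mem π k.2⟩ :
        K.map π)) := by
      rintro ⟨y, k, hk, rfl⟩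
      exact ⟨⟨k, hk⟩, rfl⟩
    exact Finite.of_surjective _ hs
  have hK' : ∀ l, phi (fun i => π (z i)) l ∈ K.map π → phi (fun i => π (z i)) l = 1 := by
    intro l hl
    rw [phi_map] at hl ⊢
    obtain ⟨k, hk, hkl⟩ := hl
    have h1 : k⁻¹ * phi z l ∈ π.ker := by
      rw [MonoidHom.mem_ker, map_mul, map_inv, hkl, inv_mul_cancel]
    rw [hker] at h1
    have h2 : phi z l ∈ K := by
      have := K.mul_mem hk h1.1
      rwa [mul_inv_cancel_left] at this
    have h3 : phi z l ∈ M := ⟨h2, phi_mem_center hH.hz l⟩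
    rw [← hker] at h3
    exact MonoidHom.mem_ker.mp h3
  have hgen' : ∀ p : P ⧸ M, ∃ l : List ℕ, (∀ c ∈ l, c < C.k) ∧
      p = lprod (fun i => π (g i)) l := by
    intro p
    obtain ⟨x, rfl⟩ := hπ p
    obtain ⟨l, hl, rfl⟩ := hgen x
    exact ⟨l, hl, (lprod_map π g l).symm⟩
  have hz8' : ∀ i, D ≤ i → (fun i => π (z i)) i = 1 := by
    intro i hi
    show π (z i) = 1
    rw [hz8 i hi, map_one]
  obtain ⟨hfin', hcard'⟩ := ltc_main hH' hchk T hT0 h0N hT hgen' hK' D hD hz8' js hjs i0 a hi0 ha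
    cs0 h0 as css hgs
  -- `M` is finite
  have hMK : M ≤ K := inf_le_left
  have hMfin : Finite M := Finite.of_injective (fun m : M => (⟨m.1, hMK m.2⟩ : K))
    (fun a b hab => Subtype.ext (congrArg (fun k : K => (k : P)) hab))
  have hPfin : Finite P := by
    have : Finite (P ⧸ M) := hfin'
    exact Finite.of_equiv _ (Subgroup.groupEquivQuotientProdSubgroup (s := M)).symm
  refine ⟨hPfin, ?_⟩
  -- orders
  have hP : Nat.card P = Nat.card (P ⧸ M) * Nat.card M := Subgroup.card_eq_card_quotient_mul_card_subgroup M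
  -- the restriction of `π` to `K` has kernel `M`
  let ρ : K →* P ⧸ M := π.comp K.subtype
  have hρr : Nat.card ρ.range = Nat.card (K.map π) := by
    have e : ρ.range = K.map π := by
      ext y
      constructor
      · rintro ⟨k, rfl⟩
        exact ⟨k.1, k.2, rfl⟩
      · rintro ⟨k, hk, rfl⟩
        exact ⟨⟨k, hk⟩, rfl⟩
    rw [e]
  have hρk : Nat.card ρ.ker = Nat.card M := by
    apply Nat.card_congr
    refine ⟨fun x => ⟨x.1.1, ?_⟩, fun m => ⟨⟨m.1, hMK m.2⟩, ?_⟩, fun x => rfl, fun m => rfl⟩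
    · have hx : π x.1.1 = 1 := x.2
      have : x.1.1 ∈ π.ker := hx
      rwa [hker] at this
    · show π m.1 = 1
      have : m.1 ∈ π.ker := by rw [hker]; exact m.2
      exact this
  have hKc : Nat.card K = Nat.card (K.map π) * Nat.card M := by
    have h1 := Subgroup.card_eq_card_quotient_mul_card_subgroup ρ.ker
    have h2 : Nat.card (K ⧸ ρ.ker) = Nat.card ρ.range :=
      Nat.card_congr (QuotientGroup.quotientKerEquivRange ρ).toEquiv
    rw [h1, h2, hρr, hρk]
  calc Nat.card P = Nat.card (P ⧸ M) * Nat.card M := hP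
    _ ≤ Nat.card (K.map π) * T.N * a * Nat.card M := Nat.mul_le_mul_right _ hcard'
    _ = Nat.card K * T.N * a := by rw [hKc]; ring

end

section cov
variable (d : ℕ) (m : ℕ → ℕ) (CC TT : List (List ℕ)) (e : ℕ)

/-- the order bound for a covering group from a labelled certificate whose first `n` central words
carry labels, the others being known to be trivial; no condition on `K`. -/
theorem covG_card_le_tail_noK (C : Cert) (hk : C.k = 2 * d) (hι : C.ι = linv) (hE : C.E = e)
    (he0 : 0 < e) (hCT : ∀ r ∈ CC, r ∈ TT) (hlt : ∀ r ∈ CC, ∀ c ∈ r, c < 2 * d)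
    (n : ℕ) (hn : n ≤ 8) (hzn : ∀ i, n ≤ i → zC d m CC TT e i = 1)
    (hWlt : ∀ wi, ∀ c ∈ C.W wi, c < 2 * d) (orig : ℕ → ℕ)
    (hwordOK : ∀ wi, wi < C.nrel →
      wordOK2 (coverRels d m CC TT e) CC n (C.W wi) (C.δ wi) (orig wi) = true)
    (K : Subgroup (CovG d m CC TT e))
    (hsubs : ∀ wi, C.nrel ≤ wi → wi < C.nw →
      ev (2 * d) (coverRels d m CC TT e) (C.W wi) ∈ K)
    [Finite K]
    (hchk : ∀ j, j < C.nf → ∃ r, checkFact C j r = true)
    (T : Tab) (hT0 : T.LV 0 = 0) (h0N : 0 < T.N)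
    (hT : ∀ n, n < T.N → ∀ x, x < C.k → tabEntryOK C T n x = true)
    (js : List ℕ) (hjs : ∀ j ∈ js, relFactOK C j = true)
    (i0 a : ℕ) (hi0 : i0 < 8) (ha : 0 < a) (cs0 : List ℕ) (h0 : ordOK C js cs0 i0 a = true)
    (as : ℕ → ℕ) (css : ℕ → List ℕ)
    (hgs : ∀ i, i < n → genOK C js (css i) i i0 (as i) = true) :
    Finite (CovG d m CC TT e) ∧ Nat.card (CovG d m CC TT e) ≤ Nat.card K * T.N * a := by
  have hH : Hyp C K (gC d m CC TT e) (zC d m CC TT e) := by
    refine ⟨zC_center d m CC TT e hlt, by rw [hE]; exact he0, ?_, ?_, ?_, ?_, ?_⟩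
    · intro i
      rw [hE]
      exact zC_pow d m CC TT e hCT i
    · intro x _
      rw [hι]
      exact lval_linv _ x
    · intro wi c hc
      rw [hk]
      exact hWlt wi c hc
    · intro wi hwi
      rw [lprod_gC d m CC TT e _ (hWlt wi)]
      exact wordOK2_sound d m CC TT e hlt n hzn (hwordOK wi hwi)
    · intro wi h1 h2
      rw [lprod_gC d m CC TT e _ (hWlt wi)]
      exact hsubs wi h1 h2
  refine ltc_main_noK hH hchk T hT0 h0N hT ?_ n hn hzn js hjs i0 a hi0 ha cs0 h0 as css hgs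
  intro p
  obtain ⟨l, hl, hp⟩ := exists_word d m CC TT e p
  exact ⟨l, by rw [hk]; exact hl, hp⟩

end cov

end Cfsg.Agent.Helper4.LTCQ
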