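import Mathlib
import Cfsg.Agent.Helper4.LTCQ2
import Cfsg.Agent.Helper5.LTCH
import Cfsg.Agent.Helper5.StemPI

/-!
# Towers of covering presentations

One step of a tower: the covering group on `d` generators with central words `EX ++ CL` is bounded
by the covering group on the first `d'` generators with central words `CL`, times the index and the
order bound of a labelled Todd–Coxeter certificate over the image of the smaller covering group.
No lower bounds for the groups are needed (`LTCQ.covG_card_le_tail_inK`).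
-/

set_option autoImplicit false

namespace Cfsg.Agent.Helper4.Tower

open Cfsg Cfsg.Agent.Helper5.StemP Cfsg.Agent.Helper5.LP Cfsg.Agent.Helper5.LTC
  Cfsg.Agent.Helper5.TC Cfsg.Agent.Helper5.TCI Cfsg.Agent.Helper4.LTCQ

section step
variable (d' d : ℕ) (m : ℕ → ℕ) (CL EX : List (List ℕ)) (e : ℕ)

theorem CL2_lt (hCL : ∀ r ∈ CL, ∀ c ∈ r, c < 2 * d') : ∀ r ∈ CL ++ CL, ∀ c ∈ r, c < 2 * d' := by
  intro r hr
  rcases List.mem_append.mp hr with h | h <;> exact hCL r h

theorem CC_lt (hd : d' ≤ d) (hCL : ∀ r ∈ CL, ∀ c ∈ r, c < 2 * d')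
    (hEX : ∀ r ∈ EX, ∀ c ∈ r, c < 2 * d) : ∀ r ∈ EX ++ CL, ∀ c ∈ r, c < 2 * d := by
  intro r hr c hc
  rcases List.mem_append.mp hr with h | h
  · exact hEX r h c hc
  · have := hCL r h c hc
    omega

theorem evF_eq (hd : d' ≤ d) (l : List ℕ) (hl : ∀ c ∈ l, c < 2 * d') :
    (l.map (lval (cgen d m (EX ++ CL) (EX ++ CL) e))).prod =
      ev (2 * d) (coverRels d m (EX ++ CL) (EX ++ CL) e) l :=
  (ev_eq_prod d m (EX ++ CL) (EX ++ CL) e l (fun c hc => by have := hl c hc; omega)).symm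

theorem rels_hold (hd : d' ≤ d) (hCL : ∀ r ∈ CL, ∀ c ∈ r, c < 2 * d') :
    ∀ l ∈ coverRels d' m CL CL e,
      (l.map (lval (cgen d m (EX ++ CL) (EX ++ CL) e))).prod = 1 := by
  apply coverRels_hold
  · intro i hi
    exact cgen_pow d m (EX ++ CL) (EX ++ CL) e (i := i) (by omega)
  · intro r hr
    rw [evF_eq d' d m CL EX e hd r (hCL r hr)]
    exact cover_center d m (EX ++ CL) (EX ++ CL) e (List.mem_append_right _ hr)
      (fun c hc => by have := hCL r hr c hc; omega)
  · intro r hr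
    rw [evF_eq d' d m CL EX e hd r (hCL r hr), ev_pow]
    exact ev_rel (mem_coverRels_T d m (EX ++ CL) (EX ++ CL) e (List.mem_append_right _ hr))

/-- the natural map from the smaller covering group. -/
noncomputable def phiT (hd : d' ≤ d) (hCL : ∀ r ∈ CL, ∀ c ∈ r, c < 2 * d') :
    CovG d' m CL CL e →* CovG d m (EX ++ CL) (EX ++ CL) e :=
  lift (lval (cgen d m (EX ++ CL) (EX ++ CL) e)) (coverRels_lt d' m CL CL e (CL2_lt d' CL hCL))
    (rels_hold d' d m CL EX e hd hCL)

theorem phiT_ev (hd : d' ≤ d) (hCL : ∀ r ∈ CL, ∀ c ∈ r, c < 2 * d') (l : List ℕ)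
    (hl : ∀ c ∈ l, c < 2 * d') :
    phiT d' d m CL EX e hd hCL (ev (2 * d') (coverRels d' m CL CL e) l) =
      ev (2 * d) (coverRels d m (EX ++ CL) (EX ++ CL) e) l := by
  unfold phiT
  rw [lift_ev _ _ _ l hl, evF_eq d' d m CL EX e hd l hl]

/-- **one step of a tower of covering presentations.** -/
theorem step (hd : d' ≤ d) (hCL : ∀ r ∈ CL, ∀ c ∈ r, c < 2 * d')
    (hEX : ∀ r ∈ EX, ∀ c ∈ r, c < 2 * d) (he0 : 0 < e) (hn : EX.length ≤ 8)
    (B : ℕ) (hB : Finite (CovG d' m CL CL e) ∧ Nat.card (CovG d' m CL CL e) ≤ B)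
    (C : Cert) (hk : C.k = 2 * d) (hι : C.ι = linv) (hE : C.E = e)
    (hWlt : ∀ wi, ∀ c ∈ C.W wi, c < 2 * d) (orig : ℕ → ℕ)
    (hwordOK : ∀ wi, wi < C.nrel →
      wordOK2 (coverRels d m (EX ++ CL) (EX ++ CL) e) (EX ++ CL) EX.length (C.W wi) (C.δ wi)
        (orig wi) = true)
    (hsubW : ∀ wi, C.nrel ≤ wi → wi < C.nw → ∃ c, c < 2 * d' ∧ C.W wi = [c])
    (hchk : ∀ j, j < C.nf → ∃ r, checkFact C j r = true)
    (T : Tab) (hT0 : T.LV 0 = 0) (h0N : 0 < T.N)
    (hT : ∀ n, n < T.N → ∀ x, x < C.k → tabEntryOK C T n x = true)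
    (js : List ℕ) (hjs : ∀ j ∈ js, relFactOK C j = true)
    (i0 a : ℕ) (hi0 : i0 < 8) (ha : 0 < a) (cs0 : List ℕ) (h0 : ordOK C js cs0 i0 a = true)
    (as : ℕ → ℕ) (css : ℕ → List ℕ)
    (hgs : ∀ i, i < EX.length → genOK C js (css i) i i0 (as i) = true) :
    Finite (CovG d m (EX ++ CL) (EX ++ CL) e) ∧
      Nat.card (CovG d m (EX ++ CL) (EX ++ CL) e) ≤ B * T.N * a := by
  have : Finite (CovG d' m CL CL e) := hB.1
  let φ := phiT d' d m CL EX e hd hCL
  let K : Subgroup (CovG d m (EX ++ CL) (EX ++ CL) e) := φ.range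
  have hKfin : Finite K := Finite.of_surjective φ.rangeRestrict φ.rangeRestrict_surjective
  have hKcard : Nat.card K ≤ B :=
    (Nat.card_le_card_of_surjective φ.rangeRestrict φ.rangeRestrict_surjective).trans hB.2
  have hzn : ∀ i, EX.length ≤ i → zC d m (EX ++ CL) (EX ++ CL) e i ∈ K := by
    intro i hi
    unfold zC
    have e1 : (EX ++ CL).getD i [] = CL.getD (i - EX.length) [] :=
      List.getD_append_right _ _ _ _ hi
    rw [e1]
    by_cases hlt : i - EX.length < CL.length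
    · rw [List.getD_eq_getElem CL [] hlt]
      have hmem : CL[i - EX.length] ∈ CL := List.getElem_mem hlt
      exact ⟨ev (2 * d') (coverRels d' m CL CL e) CL[i - EX.length],
        phiT_ev d' d m CL EX e hd hCL _ (hCL _ hmem)⟩
    · rw [List.getD_eq_default CL [] (by omega), ev_nil]
      exact K.one_mem
  have hsubs : ∀ wi, C.nrel ≤ wi → wi < C.nw →
      ev (2 * d) (coverRels d m (EX ++ CL) (EX ++ CL) e) (C.W wi) ∈ K := by
    intro wi h1 h2
    obtain ⟨c, hc, hW⟩ := hsubW wi h1 h2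
    rw [hW]
    refine ⟨ev (2 * d') (coverRels d' m CL CL e) [c], ?_⟩
    apply phiT_ev
    intro c' hc'
    rw [List.mem_singleton] at hc'
    omega
  have h := covG_card_le_tail_inK d m (EX ++ CL) (EX ++ CL) e C hk hι hE he0 (fun r hr => hr)
    (CC_lt d' d CL EX hd hCL hEX) EX.length hn K hzn hWlt orig hwordOK hsubs hchk T hT0 h0N hT
    js hjs i0 a hi0 ha cs0 h0 as css hgs
  refine ⟨h.1, h.2.trans ?_⟩
  exact Nat.mul_le_mul_right _ (Nat.mul_le_mul_right _ hKcard)

end step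

/-- the base of a tower: the covering group on one generator without central words is cyclic. -/
theorem base (m : ℕ → ℕ) (e : ℕ) (hm : 0 < m 0) :
    Finite (CovG 1 m [] [] e) ∧ Nat.card (CovG 1 m [] [] e) ≤ m 0 := by
  have hcl := closure_cgen 1 m [] [] e
  have hset : {x : CovG 1 m [] [] e | ∃ i, i < 1 ∧ x = cgen 1 m [] [] e i} =
      {cgen 1 m [] [] e 0} := by
    ext x
    constructor
    · rintro ⟨i, hi, rfl⟩
      have : i = 0 := by omega
      rw [this]
      exact Set.mem_singleton _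
    · intro hx
      exact ⟨0, by norm_num, hx⟩
  rw [hset, ← Subgroup.zpowers_eq_closure] at hcl
  have hpow : cgen 1 m [] [] e 0 ^ m 0 = 1 := cgen_pow 1 m [] [] e (i := 0) (by norm_num)
  have hord : orderOf (cgen 1 m [] [] e 0) ∣ m 0 := orderOf_dvd_of_pow_eq_one hpow
  have hpos : 0 < orderOf (cgen 1 m [] [] e 0) := Nat.pos_of_dvd_of_pos hord hm
  have hcard : Nat.card (CovG 1 m [] [] e) = orderOf (cgen 1 m [] [] e 0) := by
    rw [← Nat.card_zpowers, hcl, Subgroup.card_top]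
  have hfin : Finite (CovG 1 m [] [] e) :=
    Nat.finite_of_card_ne_zero (by rw [hcard]; exact hpos.ne')
  exact ⟨hfin, by rw [hcard]; exact Nat.le_of_dvd hm hord⟩

end Cfsg.Agent.Helper4.Tower
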