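import Mathlib
import Cfsg.Agent.Helper1.FrobKernelNilp

/-!
# Solvable subgroups central in every solvable overgroup

Preliminaries: solvability of `S ⊔ N` when `S` normalizes `N`.
-/

set_option autoImplicit false

namespace Cfsg.Agent.Helper4.SolvCentral

open Subgroup

theorem isSolvable_sup_of_le_normalizer {G : Type*} [Group G] (N S : Subgroup G)
    (hN : Group.IsSolvable N) (hS : Group.IsSolvable S) (hnorm : S ≤ normalizer (N : Set G)) :
    Group.IsSolvable (S ⊔ N : Subgroup G) := by
  haveI : (N.subgroupOf (S ⊔ N)).Normal := normal_subgroupOf_sup_of_le_normalizer hnorm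
  rw [Group.isSolvable_iff_subgroup_quotient (N.subgroupOf (S ⊔ N))]
  constructor
  · exact Group.isSolvable_of_surjective
      (f := (subgroupOfEquivOfLe (le_sup_right : N ≤ S ⊔ N)).symm.toMonoidHom)
      (MulEquiv.surjective _)
  · let φ : S →* (S ⊔ N : Subgroup G) ⧸ N.subgroupOf (S ⊔ N) :=
      (QuotientGroup.mk' _).comp (inclusion le_sup_left)
    apply Group.isSolvable_of_surjective (f := φ)
    rw [← MonoidHom.range_eq_top]
    set R' : Subgroup (S ⊔ N : Subgroup G) := φ.range.comap (QuotientGroup.mk' _) with hR'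
    have hS' : S ≤ R'.map (S ⊔ N : Subgroup G).subtype := by
      intro s hs
      refine ⟨⟨s, le_sup_left (b := N) hs⟩, ?_, rfl⟩
      rw [SetLike.mem_coe, hR', mem_comap]
      exact ⟨⟨s, hs⟩, rfl⟩
    have hN' : N ≤ R'.map (S ⊔ N : Subgroup G).subtype := by
      intro n hn
      refine ⟨⟨n, le_sup_right (a := S) hn⟩, ?_, rfl⟩
      rw [SetLike.mem_coe, hR', mem_comap]
      have : (QuotientGroup.mk' (N.subgroupOf (S ⊔ N))) ⟨n, le_sup_right (a := S) hn⟩ = 1 := by
        rw [QuotientGroup.mk'_apply, QuotientGroup.eq_one_iff, mem_subgroupOf]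
        exact hn
      rw [this]
      exact one_mem _
    have htop : R' = ⊤ := by
      rw [eq_top_iff]
      intro t _
      obtain ⟨t', ht', htt⟩ := (sup_le hS' hN') t.2
      have : t' = t := Subtype.ext htt
      rw [← this]
      exact ht'
    rw [eq_top_iff]
    intro q _
    obtain ⟨t, rfl⟩ := QuotientGroup.mk'_surjective _ q
    have : t ∈ R' := by rw [htop]; exact mem_top t
    exact this

end Cfsg.Agent.Helper4.SolvCentral
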