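import Mathlib

set_option autoImplicit false

namespace Cfsg.Agent.Helper4

open scoped Pointwise

/-- An element of `p`-power order lies in some Sylow `p`-subgroup. -/
theorem exists_sylow_mem_of_orderOf_eq_pow {G : Type*} [Group G] {p : ℕ} [Fact p.Prime]
    (x : G) (hx : ∃ k : ℕ, orderOf x = p ^ k) : ∃ Q : Sylow p G, x ∈ Q := by
  obtain ⟨k, hk⟩ := hx
  have hz : IsPGroup p (Subgroup.zpowers x) := by
    apply IsPGroup.of_card (n := k)
    rw [Nat.card_zpowers, hk]
  obtain ⟨Q, hQ⟩ := hz.exists_le_sylow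
  exact ⟨Q, hQ (Subgroup.mem_zpowers x)⟩

/-- An element of a Sylow `p`-subgroup (more generally of a `p`-group) has `p`-power order. -/
theorem orderOf_eq_pow_of_mem_pgroup {G : Type*} [Group G] {p : ℕ} [Fact p.Prime]
    (H : Subgroup G) (hH : IsPGroup p H) (x : G) (hx : x ∈ H) : ∃ k : ℕ, orderOf x = p ^ k := by
  obtain ⟨k, hk⟩ := IsPGroup.iff_orderOf.mp hH ⟨x, hx⟩
  exact ⟨k, by rw [← hk]; exact (Subgroup.orderOf_mk x hx).symm⟩

/-- Membership in a conjugate Sylow subgroup. -/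
theorem mem_sylow_smul_iff {G : Type*} [Group G] {p : ℕ} (P : Sylow p G) (g x : G) :
    x ∈ g • P ↔ g⁻¹ * x * g ∈ P := by
  change x ∈ ((g • P : Sylow p G) : Subgroup G) ↔ g⁻¹ * x * g ∈ (P : Subgroup G)
  rw [Sylow.coe_subgroup_smul, Subgroup.mem_pointwise_smul_iff_inv_smul_mem]
  simp [MulAut.smul_def, mul_assoc]

/-- Any two Sylow subgroups of a finite group are conjugate. -/
theorem sylow_exists_smul_eq {G : Type*} [Group G] [Finite G] {p : ℕ} [Fact p.Prime] (P Q : Sylow p G) :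
    ∃ g : G, g • P = Q := MulAction.exists_smul_eq G P Q

end Cfsg.Agent.Helper4
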