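import Mathlib
import Cfsg.Agent.Lead.SylowLemmas
import Cfsg.Agent.Helper4.SylowBasic
import Cfsg.Agent.Helper4.SylowCount

set_option autoImplicit false

namespace Cfsg.Agent.Helper4

/-- A Sylow subgroup meets a normal subgroup in a Sylow subgroup of it (cardinality form). -/
theorem card_sylow_inf_normal' {G : Type*} [Group G] [Finite G] (p : ℕ) [Fact p.Prime]
    (S : Sylow p G) (N : Subgroup G) [hN : N.Normal] :
    Nat.card ↥((S : Subgroup G) ⊓ N) = p ^ (Nat.card N).factorization p := by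
  apply Cfsg.Agent.Lead.card_inf_eq_ppart_of_normal (N := ⊤) le_top le_top ?_ S.isPGroup'
  · rw [Subgroup.card_top]; exact S.card_eq_multiplicity
  · intro g _
    rw [Subgroup.mem_normalizer_iff]
    intro x
    exact ⟨fun hx => hN.conj_mem x hx g, fun hx => by
      have := hN.conj_mem _ hx g⁻¹
      simpa [mul_assoc] using this⟩

/-- Every `p`-element of a quotient lifts to a `p`-element. -/
theorem exists_pelement_lift {G : Type*} [Group G] [Finite G] (p : ℕ) [Fact p.Prime]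
    (N : Subgroup G) [N.Normal] (q : G ⧸ N) (hq : ∃ k : ℕ, orderOf q = p ^ k) :
    ∃ g₀ : G, (∃ k : ℕ, orderOf g₀ = p ^ k) ∧ (QuotientGroup.mk g₀ : G ⧸ N) = q := by
  have hp : p.Prime := Fact.out
  obtain ⟨g, rfl⟩ := QuotientGroup.mk_surjective q
  obtain ⟨k, hk⟩ := hq
  have hn : orderOf g ≠ 0 := (orderOf_pos g).ne'
  set n := orderOf g with hn_def
  set a := n.factorization p with ha
  set r := n / p ^ a with hr
  have hnr : p ^ a * r = n := Nat.ordProj_mul_ordCompl_eq_self n p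
  have hpr : ¬ p ∣ r := Nat.not_dvd_ordCompl hp hn
  have hcop : Nat.Coprime r (orderOf (QuotientGroup.mk g : G ⧸ N)) := by
    rw [hk]
    exact Nat.Coprime.pow_right k ((Nat.Prime.coprime_iff_not_dvd hp).mpr hpr).symm
  obtain ⟨m, hm⟩ := exists_pow_eq_self_of_coprime hcop
  refine ⟨(g ^ r) ^ m, ?_, ?_⟩
  · have h1 : orderOf ((g ^ r) ^ m) ∣ p ^ a := by
      apply orderOf_dvd_of_pow_eq_one
      rw [← pow_mul, ← pow_mul]
      have : r * (m * p ^ a) = n * m := by rw [← hnr]; ring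
      rw [this, pow_mul, hn_def, pow_orderOf_eq_one, one_pow]
    obtain ⟨j, -, hj⟩ := (Nat.dvd_prime_pow hp).mp h1
    exact ⟨j, hj⟩
  · rw [QuotientGroup.mk_pow, QuotientGroup.mk_pow]
    exact hm

/-- The fibre over a `p`-element of the quotient contains at least `|N|_p` `p`-elements. -/
theorem le_card_pelement_fiber {G : Type*} [Group G] [Finite G] (p : ℕ) [Fact p.Prime]
    (N : Subgroup G) [N.Normal] (q : G ⧸ N) (hq : ∃ k : ℕ, orderOf q = p ^ k) :
    p ^ (Nat.card N).factorization p ≤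
      Nat.card {g : G // (∃ k : ℕ, orderOf g = p ^ k) ∧ (QuotientGroup.mk g : G ⧸ N) = q} := by
  obtain ⟨g₀, hg₀, hg₀q⟩ := exists_pelement_lift p N q hq
  obtain ⟨S, hS⟩ := exists_sylow_mem_of_orderOf_eq_pow g₀ hg₀
  rw [← card_sylow_inf_normal' p S N]
  let f : ↥((S : Subgroup G) ⊓ N) →
      {g : G // (∃ k : ℕ, orderOf g = p ^ k) ∧ (QuotientGroup.mk g : G ⧸ N) = q} := fun t =>
    ⟨g₀ * t, orderOf_eq_pow_of_mem_pgroup (S : Subgroup G) S.isPGroup' _
      ((S : Subgroup G).mul_mem hS t.2.1), by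
        rw [QuotientGroup.mk_mul, hg₀q, (QuotientGroup.eq_one_iff (t : G)).mpr t.2.2, mul_one]⟩
  apply Nat.card_le_card_of_injective f
  intro t t' h
  have : g₀ * (t : G) = g₀ * (t' : G) := congrArg Subtype.val h
  exact Subtype.ext (mul_left_cancel this)

/-- If `N` is central, the fibre over a `p`-element of the quotient contains exactly `|N|_p`
`p`-elements. -/
theorem card_pelement_fiber_of_central {G : Type*} [Group G] [Finite G] (p : ℕ) [Fact p.Prime]
    (N : Subgroup G) [N.Normal] (hN : N ≤ Subgroup.center G) (q : G ⧸ N)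
    (hq : ∃ k : ℕ, orderOf q = p ^ k) :
    Nat.card {g : G // (∃ k : ℕ, orderOf g = p ^ k) ∧ (QuotientGroup.mk g : G ⧸ N) = q} =
      p ^ (Nat.card N).factorization p := by
  apply le_antisymm _ (le_card_pelement_fiber p N q hq)
  obtain ⟨g₀, hg₀, hg₀q⟩ := exists_pelement_lift p N q hq
  obtain ⟨S, hS⟩ := exists_sylow_mem_of_orderOf_eq_pow g₀ hg₀
  rw [← card_sylow_inf_normal' p S N]
  have hmem : ∀ g : {g : G // (∃ k : ℕ, orderOf g = p ^ k) ∧ (QuotientGroup.mk g : G ⧸ N) = q},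
      g₀⁻¹ * (g : G) ∈ (S : Subgroup G) ⊓ N := by
    rintro ⟨g, ⟨k, hk⟩, hgq⟩
    have htN : g₀⁻¹ * g ∈ N := by
      rw [← QuotientGroup.eq, hg₀q, hgq]
    refine ⟨?_, htN⟩
    obtain ⟨k₀, hk₀⟩ := hg₀
    have htZ : g₀⁻¹ * g ∈ Subgroup.center G := hN htN
    -- g₀ commutes with g
    have hcomm : Commute g₀⁻¹ g := by
      have h1 : g = g₀ * (g₀⁻¹ * g) := by group
      have h2 : Commute g₀ (g₀⁻¹ * g) := (Subgroup.mem_center_iff.mp htZ g₀)
      have h3 : Commute g₀ g := by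
        rw [h1]; exact (Commute.refl g₀).mul_right h2
      exact h3.inv_left
    apply central_pelement_mem_sylow S _ htZ (k₀ + k)
    rw [hcomm.mul_pow, inv_pow, pow_add, pow_mul, ← hk₀, pow_orderOf_eq_one, one_pow, inv_one,
      one_mul, mul_comm, pow_mul, ← hk, pow_orderOf_eq_one, one_pow]
  let f : {g : G // (∃ k : ℕ, orderOf g = p ^ k) ∧ (QuotientGroup.mk g : G ⧸ N) = q} →
      ↥((S : Subgroup G) ⊓ N) := fun g => ⟨g₀⁻¹ * (g : G), hmem g⟩
  apply Nat.card_le_card_of_injective f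
  intro g g' h
  have : g₀⁻¹ * (g : G) = g₀⁻¹ * (g' : G) := congrArg Subtype.val h
  exact Subtype.ext (mul_left_cancel this)

end Cfsg.Agent.Helper4
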