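import Mathlib
import Cfsg.Prelude.Def_Solvable

set_option autoImplicit false

namespace Cfsg.Agent.Helper4

open scoped Pointwise

theorem mem_conj_smul_iff {G : Type*} [Group G] (H : Subgroup G) (g x : G) :
    x ∈ MulAut.conj g • H ↔ g⁻¹ * x * g ∈ H := by
  rw [Subgroup.mem_pointwise_smul_iff_inv_smul_mem]
  simp [MulAut.smul_def, mul_assoc]

/-- In a Frobenius complement, an element lying in `H` and in a conjugate by `t ∉ H` is trivial. -/
theorem frob_inter_trivial {G : Type*} [Group G] (H : Subgroup G) (hH : Cfsg.IsFrobeniusComplement H)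
    (t : G) (ht : t ∉ H) (z : G) (hz : z ∈ H) (hz' : t⁻¹ * z * t ∈ H) : z = 1 := by
  have h := hH.2.2 t ht
  have : z ∈ H ⊓ (MulAut.conj t • H) := ⟨hz, (mem_conj_smul_iff H t z).mpr hz'⟩
  rw [h] at this
  exact this

end Cfsg.Agent.Helper4
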