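import Mathlib
import Cfsg.Prelude.Def_Solvable
import Cfsg.Agent.Helper4.Frobenius

set_option autoImplicit false

namespace Cfsg.Agent.Helper4

open scoped Pointwise

/-- Internal criterion: a complement `H` acting without fixed points on a normal subgroup `N`
is a Frobenius complement with kernel `N`. -/
theorem isFrobeniusComplement_of_fpf {K : Type*} [Group K] [Finite K] (N H : Subgroup K)
    [hN : N.Normal] (hNH : N ⊓ H = ⊥) (hsup : N ⊔ H = ⊤) (hN1 : N ≠ ⊥) (hH1 : H ≠ ⊥)
    (hfpf : ∀ h ∈ H, h ≠ 1 → ∀ n ∈ N, h * n = n * h → n = 1) :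
    Cfsg.IsFrobeniusComplement H ∧ Cfsg.frobeniusKernel H = (N : Set K) := by
  have hdecomp : ∀ g : K, ∃ n ∈ N, ∃ h ∈ H, g = n * h := by
    intro g
    have hg : g ∈ N ⊔ H := by rw [hsup]; trivial
    rw [← SetLike.mem_coe, Subgroup.normal_mul] at hg
    obtain ⟨n, hn, h, hh, rfl⟩ := Set.mem_mul.mp hg
    exact ⟨n, hn, h, hh, rfl⟩
  have hmeet : ∀ x : K, x ∈ N → x ∈ H → x = 1 := by
    intro x hxN hxH
    have : x ∈ N ⊓ H := ⟨hxN, hxH⟩
    rw [hNH] at this
    exact this
  refine ⟨⟨hH1, ?_, ?_⟩, ?_⟩
  · intro htop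
    apply hN1
    rw [eq_bot_iff]
    intro x hx
    exact hmeet x hx (by rw [htop]; trivial)
  · intro g hg
    rw [eq_bot_iff]
    intro x hx
    obtain ⟨hx1, hx2⟩ := Subgroup.mem_inf.mp hx
    rw [mem_conj_smul_iff] at hx2
    obtain ⟨n, hn, h, hh, rfl⟩ := hdecomp g
    have hn1 : n ≠ 1 := by
      intro h1
      apply hg
      rw [h1, one_mul]; exact hh
    -- y' = h y h⁻¹ where y = g⁻¹ x g
    set y' := h * ((n * h)⁻¹ * x * (n * h)) * h⁻¹ with hy'
    have hy'H : y' ∈ H := H.mul_mem (H.mul_mem hh hx2) (H.inv_mem hh)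
    have hxy : x = n * y' * n⁻¹ := by rw [hy']; group
    have h1 : x * y'⁻¹ ∈ N := by
      rw [hxy]
      have : n * y' * n⁻¹ * y'⁻¹ = n * (y' * n⁻¹ * y'⁻¹) := by group
      rw [this]
      exact N.mul_mem hn (hN.conj_mem _ (N.inv_mem hn) _)
    have h2 : x * y'⁻¹ ∈ H := H.mul_mem hx1 (H.inv_mem hy'H)
    have h3 : x = y' := by
      have := hmeet _ h1 h2
      exact mul_inv_eq_one.mp this
    rw [Subgroup.mem_bot]
    by_contra hx0
    apply hn1
    apply hfpf x hx1 hx0 n hn
    rw [← h3] at hxy
    calc x * n = n * x * n⁻¹ * n := by rw [← hxy]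
      _ = n * x := by group
  · ext x
    constructor
    · rintro (rfl | hx)
      · exact N.one_mem
      · obtain ⟨n, hn, h, hh, rfl⟩ := hdecomp x
        by_cases hh1 : h = 1
        · rw [hh1, mul_one]; exact hn
        · exfalso
          -- the commutator map on N is injective hence surjective
          let φ : N → N := fun m => ⟨(m : K) * h * (m : K)⁻¹ * h⁻¹, by
            have : (m : K) * h * (m : K)⁻¹ * h⁻¹ = (m : K) * (h * (m : K)⁻¹ * h⁻¹) := by group
            rw [this]
            exact N.mul_mem m.2 (hN.conj_mem _ (N.inv_mem m.2) _)⟩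
          have hφ : Function.Injective φ := by
            intro m m' hmm
            have h1 : (m : K) * h * (m : K)⁻¹ * h⁻¹ = (m' : K) * h * (m' : K)⁻¹ * h⁻¹ :=
              congrArg Subtype.val hmm
            have h2 : (m : K) * h * (m : K)⁻¹ = (m' : K) * h * (m' : K)⁻¹ :=
              mul_right_cancel h1
            have h3 : h * ((m' : K)⁻¹ * (m : K)) = ((m' : K)⁻¹ * (m : K)) * h := by
              calc h * ((m' : K)⁻¹ * (m : K))
                  = (m' : K)⁻¹ * ((m' : K) * h * (m' : K)⁻¹) * (m : K) := by group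
                _ = (m' : K)⁻¹ * ((m : K) * h * (m : K)⁻¹) * (m : K) := by rw [h2]
                _ = ((m' : K)⁻¹ * (m : K)) * h := by group
            have h4 := hfpf h hh hh1 _ (N.mul_mem (N.inv_mem m'.2) m.2) h3
            apply Subtype.ext
            have : (m : K) = (m' : K) * ((m' : K)⁻¹ * (m : K)) := by group
            rw [this, h4, mul_one]
          have hsurj : Function.Surjective φ := Finite.injective_iff_surjective.mp hφ
          obtain ⟨m, hm⟩ := hsurj ⟨n, hn⟩
          have hm' : (m : K) * h * (m : K)⁻¹ * h⁻¹ = n := congrArg Subtype.val hm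
          apply hx (m : K)
          rw [mem_conj_smul_iff, ← hm']
          have : (m : K)⁻¹ * ((m : K) * h * (m : K)⁻¹ * h⁻¹ * h) * (m : K) = h := by group
          rw [this]; exact hh
    · intro hx
      by_cases hx1 : x = 1
      · left; exact hx1
      · right
        intro g hg
        rw [mem_conj_smul_iff] at hg
        apply hx1
        have h1 : g⁻¹ * x * g ∈ N := by
          have := hN.conj_mem x hx g⁻¹
          rwa [inv_inv] at this
        have h2 := hmeet _ h1 hg
        have : x = g * (g⁻¹ * x * g) * g⁻¹ := by group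
        rw [this, h2]; group

end Cfsg.Agent.Helper4
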