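import Mathlib

set_option autoImplicit false

namespace Cfsg.Agent.Helper4

open MulAction

/-- A subgroup of index dividing `p^j` is supplemented by a subgroup generated by `≤ j` elements. -/
theorem exists_small_supplement {G : Type*} [Group G] [Finite G] (p : ℕ) (hp : p.Prime) (j : ℕ) :
    ∀ K : Subgroup G, K.index ∣ p ^ j →
      ∃ S : Finset G, S.card ≤ j ∧ K ⊔ Subgroup.closure (S : Set G) = ⊤ := by
  classical
  induction j with
  | zero =>
    intro K hK
    rw [pow_zero, Nat.dvd_one] at hK
    refine ⟨∅, by simp, ?_⟩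
    rw [Subgroup.index_eq_one.mp hK]; simp
  | succ j ih =>
    intro K hK
    by_cases hKtop : K = ⊤
    · exact ⟨∅, by simp, by rw [hKtop]; simp⟩
    obtain ⟨x, hx⟩ : ∃ x : G, x ∉ K := by
      by_contra hall
      push Not at hall
      exact hKtop (eq_top_iff.mpr (fun y _ => hall y))
    set K' := K ⊔ Subgroup.zpowers x with hK'
    have hle : K ≤ K' := le_sup_left
    have hxK' : x ∈ K' := Subgroup.mem_sup_right (Subgroup.mem_zpowers x)
    have hrel := Subgroup.relIndex_mul_index hle
    have hrel1 : K.relIndex K' ≠ 1 := by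
      intro h
      exact hx (Subgroup.relIndex_eq_one.mp h hxK')
    have hreldvd : K.relIndex K' ∣ p ^ (j + 1) := (Dvd.intro _ hrel).trans hK
    have hp_dvd : p ∣ K.relIndex K' := by
      obtain ⟨c, _, hc⟩ := (Nat.dvd_prime_pow hp).mp hreldvd
      rw [hc]
      have hc0 : c ≠ 0 := by
        rintro rfl
        rw [pow_zero] at hc
        exact hrel1 hc
      exact dvd_pow_self p hc0
    have hK'idx : K'.index ∣ p ^ j := by
      obtain ⟨d, hd⟩ := hp_dvd
      have h1 : p * (d * K'.index) ∣ p ^ (j + 1) := by
        rw [← mul_assoc, ← hd, hrel]; exact hK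
      rw [pow_succ'] at h1
      have h2 := Nat.dvd_of_mul_dvd_mul_left hp.pos h1
      exact (Dvd.intro_left _ rfl).trans h2
    obtain ⟨S', hS'card, hS'⟩ := ih K' hK'idx
    refine ⟨insert x S', ?_, ?_⟩
    · exact (Finset.card_insert_le x S').trans (by omega)
    · rw [Finset.coe_insert, Set.insert_eq, Subgroup.closure_union, ← Subgroup.zpowers_eq_closure,
        ← sup_assoc, ← hK']
      exact hS'

/-- If a finite group acts with trivial stabilizers, its order divides the size of the set. -/
theorem card_dvd_of_free {A X : Type*} [Group A] [Finite A] [MulAction A X] [Finite X]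
    (hfree : ∀ x : X, stabilizer A x = ⊥) : Nat.card A ∣ Nat.card X := by
  classical
  have : Fintype (orbitRel.Quotient A X) := Fintype.ofFinite _
  have e := selfEquivSigmaOrbits A X
  rw [Nat.card_congr e, Nat.card_sigma]
  apply Finset.dvd_sum
  intro q _
  have h1 : (stabilizer A (Quotient.out q)).index = Nat.card (orbit A (Quotient.out q)) := by
    rw [index_stabilizer, Nat.card_coe_set_eq]
  rw [← h1, hfree, Subgroup.index_bot]

end Cfsg.Agent.Helper4
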