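import Mathlib
import Cfsg.Prelude.Def_GeometricClasses
import Cfsg.Agent.Helper7.FExA

/-!
# ASCH-COMP piece K1b/R2 (helper4): subfields of prime degree in a field subalgebra

A field subalgebra `K` of degree `c` of `M_n(F)`, `F` finite, contains for every `r ∣ c` the field
subalgebra `K' = {k ∈ K | k ^ (q ^ r) = k}` of degree `r`, normalized by whatever normalizes `K`.
-/

set_option autoImplicit false
set_option linter.style.haveILetI false
set_option linter.unusedVariables false
set_option linter.unusedSectionVars false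

namespace Cfsg.Agent.Helper4.AschP

open Cfsg Cfsg.Geo
open scoped MatrixGroups Matrix

/-- counting the fixed points of a power of the Frobenius in a finite field. -/
theorem card_frob_fixed {F K : Type*} [Field F] [Fintype F] [Field K] [Finite K] [Algebra F K]
    {r : ℕ} (hr : 0 < r) (hra : r ∣ Module.finrank F K) :
    Nat.card {k : K // k ^ (Fintype.card F ^ r) = k} = Fintype.card F ^ r := by
  classical
  haveI : Fintype K := Fintype.ofFinite K
  obtain ⟨q, hq⟩ : ∃ q, q = Fintype.card F := ⟨_, rfl⟩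
  rw [← hq]
  have hq2 : 2 ≤ q := hq ▸ Fintype.one_lt_card
  obtain ⟨a, ha⟩ : ∃ a, a = Module.finrank F K := ⟨_, rfl⟩
  rw [← ha] at hra
  have hKcard : Nat.card K = q ^ a := by
    rw [Nat.card_eq_fintype_card, hq, ha]
    exact Module.card_eq_pow_finrank
  obtain ⟨d, hd⟩ : ∃ d, d = q ^ r - 1 := ⟨_, rfl⟩
  have hqr : q ^ r = d + 1 := by
    have : 0 < q ^ r := pow_pos (by omega) r
    omega
  have hdvd : d ∣ q ^ a - 1 := by
    obtain ⟨b, hb⟩ := hra
    rw [hd, hb, pow_mul]
    exact Nat.sub_one_dvd_pow_sub_one (q ^ r) b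
  have hunits : Nat.card Kˣ = q ^ a - 1 := by rw [Nat.card_units, hKcard]
  have hker : Nat.card (powMonoidHom d : Kˣ →* Kˣ).ker = d := by
    rw [IsCyclic.card_powMonoidHom_ker, hunits]
    exact Nat.gcd_eq_right hdvd
  -- the bijection with `ker ⊔ {0}`
  have key : ∀ k : K, k ≠ 0 → (k ^ (q ^ r) = k ↔ k ^ d = 1) := by
    intro k hk
    rw [hqr, pow_succ]
    constructor
    · intro h
      have h1 : k ^ d * k = 1 * k := by rw [h, one_mul]
      exact mul_right_cancel₀ hk h1
    · intro h
      rw [h, one_mul]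
  let e : {k : K // k ^ (q ^ r) = k} ≃ Option (powMonoidHom d : Kˣ →* Kˣ).ker :=
    { toFun := fun k =>
        if h : (k : K) = 0 then none
        else some ⟨Units.mk0 (k : K) h, by
          rw [MonoidHom.mem_ker, powMonoidHom_apply]
          apply Units.ext
          rw [Units.val_pow_eq_pow_val, Units.val_mk0, Units.val_one]
          exact (key _ h).1 k.2⟩
      invFun := fun o =>
        match o with
        | none => ⟨0, zero_pow (pow_pos (by omega) r).ne'⟩
        | some u => ⟨((u : Kˣ) : K), by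
            rw [key _ (Units.ne_zero _)]
            have h1 := u.2
            rw [MonoidHom.mem_ker, powMonoidHom_apply] at h1
            have h2 := congrArg Units.val h1
            rwa [Units.val_pow_eq_pow_val, Units.val_one] at h2⟩
      left_inv := by
        intro k
        by_cases h : (k : K) = 0
        · simp only [h, dite_true]
          exact Subtype.ext h.symm
        · simp only [h, dite_false]
          rfl
      right_inv := by
        intro o
        cases o with
        | none => simp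
        | some u =>
          have h : ((u : Kˣ) : K) ≠ 0 := Units.ne_zero _
          simp only [h, dite_false]
          congr 1
          apply Subtype.ext
          apply Units.ext
          rfl }
  rw [Nat.card_congr e, Finite.card_option, hker, hqr]

variable {n : ℕ} {F : Type*} [Field F]

/-- the fixed points of `k ↦ k ^ m` in a commutative subalgebra, for `m = q ^ r`. -/
theorem exists_frob_subalgebra [Fintype F] (hn : 0 < n) (K : Subalgebra F (Matrix (Fin n) (Fin n) F))
    (hcomm : ∀ x ∈ K, ∀ y ∈ K, x * y = y * x) (r : ℕ) :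
    ∃ K' : Subalgebra F (Matrix (Fin n) (Fin n) F),
      ∀ k, k ∈ K' ↔ k ∈ K ∧ k ^ (Fintype.card F ^ r) = k := by
  classical
  haveI : Nonempty (Fin n) := ⟨⟨0, hn⟩⟩
  obtain ⟨p, hp⟩ := CharP.exists F
  haveI := hp
  obtain ⟨f, hpp, hf⟩ := FiniteField.card F p
  haveI : Fact p.Prime := ⟨hpp⟩
  haveI : CharP (Matrix (Fin n) (Fin n) F) p := Matrix.charP p
  have hm : Fintype.card F ^ r = p ^ ((f : ℕ) * r) := by rw [hf, pow_mul]
  refine ⟨{ carrier := {k | k ∈ K ∧ k ^ (Fintype.card F ^ r) = k}
            mul_mem' := ?_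
            one_mem' := ⟨K.one_mem, one_pow _⟩
            add_mem' := ?_
            zero_mem' := ⟨K.zero_mem, zero_pow (pow_pos Fintype.card_pos r).ne'⟩
            algebraMap_mem' := ?_ }, fun k => Iff.rfl⟩
  · rintro x y ⟨hx, hxm⟩ ⟨hy, hym⟩
    refine ⟨K.mul_mem hx hy, ?_⟩
    have hc : Commute x y := hcomm x hx y hy
    rw [hc.mul_pow, hxm, hym]
  · rintro x y ⟨hx, hxm⟩ ⟨hy, hym⟩
    refine ⟨K.add_mem hx hy, ?_⟩
    have hc : Commute x y := hcomm x hx y hy
    rw [hm, add_pow_char_pow_of_commute p _ hc, ← hm, hxm, hym]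
  · intro c
    refine ⟨K.algebraMap_mem c, ?_⟩
    rw [← map_pow, FiniteField.pow_card_pow]

/-- **R2**: subfield subalgebras of every degree dividing the degree. -/
theorem exists_subfield_of_dvd [Fintype F] (hn : 0 < n) {c r : ℕ}
    (K : Subalgebra F (Matrix (Fin n) (Fin n) F)) (hK : IsFieldSubalgebra c K) (hr : 0 < r)
    (hrc : r ∣ c) :
    ∃ K' : Subalgebra F (Matrix (Fin n) (Fin n) F), IsFieldSubalgebra r K' ∧ K' ≤ K ∧
      subalgebraNormalizer K ≤ subalgebraNormalizer K' := by
  classical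
  haveI : Nonempty (Fin n) := ⟨⟨0, hn⟩⟩
  obtain ⟨K', hK'⟩ := exists_frob_subalgebra hn K hK.comm r
  obtain ⟨m, hm⟩ : ∃ m, m = Fintype.card F ^ r := ⟨_, rfl⟩
  rw [← hm] at hK'
  have hK'K : K' ≤ K := fun k hk => ((hK' k).1 hk).1
  refine ⟨K', ⟨?_, ?_, ?_⟩, hK'K, ?_⟩
  · intro x hx y hy
    exact hK.comm x (hK'K hx) y (hK'K hy)
  · intro x hx hx0
    obtain ⟨y, hy, hxy⟩ := hK.inv x (hK'K hx) hx0
    refine ⟨y, (hK' y).2 ⟨hy, ?_⟩, hxy⟩
    have hxm : x ^ m = x := ((hK' x).1 hx).2
    have hc : Commute x y := hK.comm x (hK'K hx) y hy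
    have h1 : x * y ^ m = 1 := by
      have h2 : (x * y) ^ m = 1 := by rw [hxy, one_pow]
      rwa [hc.mul_pow, hxm] at h2
    have hyx : y * x = 1 := by rw [← hc.eq]; exact hxy
    calc y ^ m = (y * x) * y ^ m := by rw [hyx, one_mul]
      _ = y * (x * y ^ m) := by rw [mul_assoc]
      _ = y := by rw [h1, mul_one]
  · -- the degree
    letI := Cfsg.Agent.Helper7.FEx.fieldOfSub K hK
    haveI : Finite ↥K := inferInstance
    have hfin : Module.finrank F ↥K = c := hK.finrank_eq
    have hcount := card_frob_fixed (F := F) (K := ↥K) hr (hfin.symm ▸ hrc)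
    rw [← hm] at hcount
    let e : ↥K' ≃ {k : ↥K // k ^ m = k} :=
      { toFun := fun k => ⟨⟨(k : Matrix (Fin n) (Fin n) F), hK'K k.2⟩, by
          apply Subtype.ext
          rw [SubmonoidClass.coe_pow]
          exact ((hK' _).1 k.2).2⟩
        invFun := fun k => ⟨((k : ↥K) : Matrix (Fin n) (Fin n) F), (hK' _).2 ⟨(k : ↥K).2, by
          have h1 := congrArg Subtype.val k.2
          rwa [SubmonoidClass.coe_pow] at h1⟩⟩
        left_inv := fun k => rfl
        right_inv := fun k => rfl }
    have hcard : Nat.card ↥K' = Fintype.card F ^ r := by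
      rw [Nat.card_congr e, hcount, hm]
    haveI : Fintype ↥K' := Fintype.ofFinite _
    have h2 := Module.card_eq_pow_finrank (K := F) (V := ↥K')
    rw [← Nat.card_eq_fintype_card, hcard] at h2
    exact (Nat.pow_right_injective (Fintype.one_lt_card : 1 < Fintype.card F) h2).symm
  · intro g hg
    show ∀ k : Matrix (Fin n) (Fin n) F, k ∈ K' ↔
      (g : Matrix (Fin n) (Fin n) F) * k * ((g⁻¹ : GL (Fin n) F) : Matrix (Fin n) (Fin n) F) ∈ K'
    intro k
    have hgk : k ∈ K ↔ (g : Matrix (Fin n) (Fin n) F) * k *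
        ((g⁻¹ : GL (Fin n) F) : Matrix (Fin n) (Fin n) F) ∈ K := hg k
    rw [hK', hK', ← hgk, Units.conj_pow]
    constructor
    · rintro ⟨h1, h2⟩
      exact ⟨h1, by rw [h2]⟩
    · rintro ⟨h1, h2⟩
      refine ⟨h1, ?_⟩
      have h3 : ((g⁻¹ : GL (Fin n) F) : Matrix (Fin n) (Fin n) F) *
          ((g : Matrix (Fin n) (Fin n) F) * k ^ m *
            ((g⁻¹ : GL (Fin n) F) : Matrix (Fin n) (Fin n) F)) * (g : Matrix (Fin n) (Fin n) F)
          = ((g⁻¹ : GL (Fin n) F) : Matrix (Fin n) (Fin n) F) *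
          ((g : Matrix (Fin n) (Fin n) F) * k *
            ((g⁻¹ : GL (Fin n) F) : Matrix (Fin n) (Fin n) F)) * (g : Matrix (Fin n) (Fin n) F) := by
        rw [h2]
      have e1 : ((g⁻¹ : GL (Fin n) F) : Matrix (Fin n) (Fin n) F) *
          (g : Matrix (Fin n) (Fin n) F) = 1 := Units.inv_mul g
      simpa [mul_assoc, e1, ← mul_assoc ((g⁻¹ : GL (Fin n) F) : Matrix (Fin n) (Fin n) F)] using h3

end Cfsg.Agent.Helper4.AschP
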