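import Mathlib
import Cfsg.Prelude.Def_GeometricClasses
import Cfsg.Agent.Lead.AschBase
import Cfsg.Agent.Helper5.AschClG
import Cfsg.Agent.Helper7.FExA
import Cfsg.Agent.Helper9.AschSchur
import Cfsg.Agent.Helper4.AschFieldA

/-!
# ASCH-COMP piece K1b (helper4): the centre of the commutant of a homogeneous group

`ccenter N = Z(C(N))`.  If every subspace invariant under `N` and under the commutant of `N` is
trivial, `ccenter N` is a field normalized by everything normalizing `N`; it contains a field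
subalgebra of prime degree `r ∣ n` with the same property unless it consists of scalars.
-/

set_option autoImplicit false
set_option linter.style.haveILetI false
set_option linter.unusedVariables false
set_option linter.unusedSectionVars false

namespace Cfsg.Agent.Helper4.AschP

open Cfsg Cfsg.Geo Cfsg.Agent.Lead.Asch Cfsg.Agent.Helper5.Asch Cfsg.Agent.Helper9.Asch
open scoped MatrixGroups Matrix

variable {n : ℕ} {F : Type*} [Field F]

/-- the centre of the commutant of `N`. -/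
def ccenter (N : Subgroup (GL (Fin n) F)) : Subalgebra F (Matrix (Fin n) (Fin n) F) :=
  commutant N ⊓ Subalgebra.centralizer F ((commutant N : Subalgebra F _) : Set _)

theorem mem_ccenter_iff {N : Subgroup (GL (Fin n) F)} {M : Matrix (Fin n) (Fin n) F} :
    M ∈ ccenter N ↔ (∀ s ∈ matrixSet N, M * s = s * M) ∧
      ∀ c : Matrix (Fin n) (Fin n) F, (∀ s ∈ matrixSet N, c * s = s * c) → M * c = c * M := by
  unfold ccenter
  rw [Algebra.mem_inf, mem_commutant_iff, Subalgebra.mem_centralizer_iff]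
  constructor
  · rintro ⟨h1, h2⟩
    exact ⟨h1, fun c hc => (h2 c (mem_commutant_iff.2 hc)).symm⟩
  · rintro ⟨h1, h2⟩
    exact ⟨h1, fun c hc => (h2 c (mem_commutant_iff.1 hc)).symm⟩

theorem ccenter_comm {N : Subgroup (GL (Fin n) F)} :
    ∀ x ∈ ccenter N, ∀ y ∈ ccenter N, x * y = y * x := by
  intro x hx y hy
  exact (mem_ccenter_iff.1 hx).2 y (mem_ccenter_iff.1 hy).1

/-- inverting preserves commutation. -/
theorem inv_mul_comm_of_comm {A s : Matrix (Fin n) (Fin n) F} (hu : IsUnit A)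
    (h : A * s = s * A) : A⁻¹ * s = s * A⁻¹ := by
  have hdet : IsUnit A.det := (Matrix.isUnit_iff_isUnit_det A).1 hu
  have h1 : A⁻¹ * A = 1 := Matrix.nonsing_inv_mul A hdet
  have h2 : A * A⁻¹ = 1 := Matrix.mul_nonsing_inv A hdet
  calc A⁻¹ * s = A⁻¹ * s * (A * A⁻¹) := by rw [h2, mul_one]
    _ = A⁻¹ * (s * A) * A⁻¹ := by simp only [mul_assoc]
    _ = A⁻¹ * (A * s) * A⁻¹ := by rw [h]
    _ = (A⁻¹ * A) * s * A⁻¹ := by simp only [mul_assoc]
    _ = s * A⁻¹ := by rw [h1, one_mul]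

/-- the homogeneity hypothesis, matrix form (helper6's `FullInv N`). -/
def FullInvM (N : Subgroup (GL (Fin n) F)) : Prop :=
  ∀ U : Submodule F (Fin n → F), Inv N U →
    (∀ c : Matrix (Fin n) (Fin n) F, (∀ s ∈ matrixSet N, c * s = s * c) →
      U.map (Matrix.toLin' c) ≤ U) →
    U = ⊥ ∨ U = ⊤

/-- helper5's homogeneity hypothesis implies the matrix form. -/
theorem fullInvM_of_fullyInv {N : Subgroup (GL (Fin n) F)}
    (hhom : ∀ X : Submodule F (Fin n → F), FullyInv N X → X = ⊥ ∨ X = ⊤) : FullInvM N := by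
  intro U hU hc
  apply hhom U
  refine ⟨hU, fun φ hφ => ?_⟩
  have h1 : ∀ s ∈ matrixSet N, LinearMap.toMatrix' φ * s = s * LinearMap.toMatrix' φ := by
    intro s hs
    obtain ⟨x, hx, rfl⟩ := mem_matrixSet_iff.1 hs
    apply Matrix.toLin'.injective
    apply LinearMap.ext
    intro v
    rw [Matrix.toLin'_mul, Matrix.toLin'_mul, Matrix.toLin'_toMatrix']
    exact hφ x hx v
  have h2 := hc _ h1
  rwa [Matrix.toLin'_toMatrix'] at h2

theorem isUnit_of_mem_ccenter {N : Subgroup (GL (Fin n) F)} (hfi : FullInvM N)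
    {x : Matrix (Fin n) (Fin n) F} (hx : x ∈ ccenter N) (hx0 : x ≠ 0) : IsUnit x := by
  obtain ⟨hx1, hx2⟩ := mem_ccenter_iff.1 hx
  have key : ∀ c : Matrix (Fin n) (Fin n) F, x * c = c * x →
      (LinearMap.ker (Matrix.toLin' x)).map (Matrix.toLin' c) ≤ LinearMap.ker (Matrix.toLin' x) := by
    rintro c hc _ ⟨v, hv, rfl⟩
    have hv' : x *ᵥ v = 0 := by
      have : Matrix.toLin' x v = 0 := hv
      rwa [Matrix.toLin'_apply] at this
    show Matrix.toLin' x (Matrix.toLin' c v) = 0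
    rw [Matrix.toLin'_apply, Matrix.toLin'_apply, Matrix.mulVec_mulVec, hc,
      ← Matrix.mulVec_mulVec, hv', Matrix.mulVec_zero]
  have hInv : Inv N (LinearMap.ker (Matrix.toLin' x)) := by
    intro g hg
    exact key _ (hx1 _ (coe_mem_matrixSet hg))
  rcases hfi _ hInv (fun c hc => key c (hx2 c hc)) with h | h
  · rw [← Matrix.mulVec_injective_iff_isUnit]
    have : Function.Injective (Matrix.toLin' x) := LinearMap.ker_eq_bot.1 h
    intro v w hvw
    apply this
    rw [Matrix.toLin'_apply, Matrix.toLin'_apply]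
    exact hvw
  · exfalso
    apply hx0
    apply Matrix.toLin'.injective
    rw [map_zero]
    exact LinearMap.ker_eq_top.1 h

theorem ccenter_isFieldSubalgebra {N : Subgroup (GL (Fin n) F)} (hfi : FullInvM N) :
    IsFieldSubalgebra (Module.finrank F (ccenter N)) (ccenter N) := by
  refine ⟨ccenter_comm, ?_, rfl⟩
  intro x hx hx0
  have hu := isUnit_of_mem_ccenter hfi hx hx0
  have hdet : IsUnit x.det := (Matrix.isUnit_iff_isUnit_det x).1 hu
  obtain ⟨hx1, hx2⟩ := mem_ccenter_iff.1 hx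
  refine ⟨x⁻¹, mem_ccenter_iff.2 ⟨?_, ?_⟩, Matrix.mul_nonsing_inv x hdet⟩
  · intro s hs
    exact inv_mul_comm_of_comm hu (hx1 s hs)
  · intro c hc
    exact inv_mul_comm_of_comm hu (hx2 c hc)

theorem le_normalizer_ccenter {H N : Subgroup (GL (Fin n) F)} (hnz : Nzes H N) :
    H ≤ subalgebraNormalizer (ccenter N) := by
  have key : ∀ h ∈ H, ∀ k ∈ ccenter N,
      (h : Matrix (Fin n) (Fin n) F) * k * ((h⁻¹ : GL (Fin n) F) : Matrix (Fin n) (Fin n) F) ∈
        ccenter N := by
    intro h hh k hk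
    obtain ⟨hk1, hk2⟩ := mem_ccenter_iff.1 hk
    have e1 : ((h⁻¹ : GL (Fin n) F) : Matrix (Fin n) (Fin n) F) *
        (h : Matrix (Fin n) (Fin n) F) = 1 := Units.inv_mul h
    have e2 : (h : Matrix (Fin n) (Fin n) F) *
        ((h⁻¹ : GL (Fin n) F) : Matrix (Fin n) (Fin n) F) = 1 := Units.mul_inv h
    refine mem_ccenter_iff.2 ⟨?_, ?_⟩
    · exact mem_commutant_iff.1 (conj_mem_commutant hnz hh (mem_commutant_iff.2 hk1))
    · intro c hc
      -- `h⁻¹ c h` lies in the commutant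
      have hc' := conj_mem_commutant hnz (H.inv_mem hh) (mem_commutant_iff.2 hc)
      rw [inv_inv] at hc'
      have h3 := hk2 _ (mem_commutant_iff.1 hc')
      calc (h : Matrix (Fin n) (Fin n) F) * k *
            ((h⁻¹ : GL (Fin n) F) : Matrix (Fin n) (Fin n) F) * c
          = (h : Matrix (Fin n) (Fin n) F) * (k *
            (((h⁻¹ : GL (Fin n) F) : Matrix (Fin n) (Fin n) F) * c *
              (h : Matrix (Fin n) (Fin n) F))) *
            ((h⁻¹ : GL (Fin n) F) : Matrix (Fin n) (Fin n) F) := by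
            simp only [mul_assoc, e2, mul_one]
        _ = (h : Matrix (Fin n) (Fin n) F) *
            ((((h⁻¹ : GL (Fin n) F) : Matrix (Fin n) (Fin n) F) * c *
              (h : Matrix (Fin n) (Fin n) F)) * k) *
            ((h⁻¹ : GL (Fin n) F) : Matrix (Fin n) (Fin n) F) := by rw [h3]
        _ = c * ((h : Matrix (Fin n) (Fin n) F) * k *
            ((h⁻¹ : GL (Fin n) F) : Matrix (Fin n) (Fin n) F)) := by
            simp only [← mul_assoc, e2, one_mul]
  intro h hh
  show ∀ k : Matrix (Fin n) (Fin n) F, k ∈ ccenter N ↔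
    (h : Matrix (Fin n) (Fin n) F) * k * ((h⁻¹ : GL (Fin n) F) : Matrix (Fin n) (Fin n) F) ∈ ccenter N
  intro k
  constructor
  · exact key h hh k
  · intro hk
    have h1 := key h⁻¹ (H.inv_mem hh) _ hk
    rw [inv_inv] at h1
    have e1 : ((h⁻¹ : GL (Fin n) F) : Matrix (Fin n) (Fin n) F) *
        (h : Matrix (Fin n) (Fin n) F) = 1 := Units.inv_mul h
    have e3 : ((h⁻¹ : GL (Fin n) F) : Matrix (Fin n) (Fin n) F) *
        ((h : Matrix (Fin n) (Fin n) F) * k *
          ((h⁻¹ : GL (Fin n) F) : Matrix (Fin n) (Fin n) F)) * (h : Matrix (Fin n) (Fin n) F) = k := by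
      calc ((h⁻¹ : GL (Fin n) F) : Matrix (Fin n) (Fin n) F) *
          ((h : Matrix (Fin n) (Fin n) F) * k *
            ((h⁻¹ : GL (Fin n) F) : Matrix (Fin n) (Fin n) F)) * (h : Matrix (Fin n) (Fin n) F)
          = (((h⁻¹ : GL (Fin n) F) : Matrix (Fin n) (Fin n) F) * (h : Matrix (Fin n) (Fin n) F)) * k *
            (((h⁻¹ : GL (Fin n) F) : Matrix (Fin n) (Fin n) F) * (h : Matrix (Fin n) (Fin n) F)) := by
            simp only [mul_assoc]
        _ = k := by rw [e1, one_mul, mul_one]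
    rwa [e3] at h1

/-- **K1b** (helper6's stub `field_of_fullInv`, with `FullInv`/`CentreTrivial` unfolded). -/
theorem field_of_fullInv [Fintype F] (hn : 0 < n) {H N : Subgroup (GL (Fin n) F)} (hnz : Nzes H N)
    (hfi : ∀ U : Submodule F (Fin n → F), Inv N U →
      (∀ c : Matrix (Fin n) (Fin n) F, (∀ s ∈ matrixSet N, c * s = s * c) →
        U.map (Matrix.toLin' c) ≤ U) → U = ⊥ ∨ U = ⊤) :
    (∃ (r : ℕ) (K : Subalgebra F (Matrix (Fin n) (Fin n) F)), r.Prime ∧ r ∣ n ∧
      IsFieldSubalgebra r K ∧ H ≤ subalgebraNormalizer K) ∨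
    (∀ M : Matrix (Fin n) (Fin n) F, (∀ s ∈ matrixSet N, M * s = s * M) →
      (∀ c : Matrix (Fin n) (Fin n) F, (∀ s ∈ matrixSet N, c * s = s * c) → M * c = c * M) →
      ∃ a : F, M = a • (1 : Matrix (Fin n) (Fin n) F)) := by
  classical
  haveI : Nonempty (Fin n) := ⟨⟨0, hn⟩⟩
  have hK := ccenter_isFieldSubalgebra (N := N) hfi
  by_cases h1 : Module.finrank F (ccenter N) = 1
  · right
    intro M hM1 hM2
    have hM : M ∈ ccenter N := mem_ccenter_iff.2 ⟨hM1, hM2⟩
    rw [Subalgebra.finrank_eq_one_iff.1 h1, Algebra.mem_bot] at hM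
    obtain ⟨a, ha⟩ := hM
    exact ⟨a, by rw [← ha, Algebra.algebraMap_eq_smul_one]⟩
  · left
    obtain ⟨r, hr, hrd⟩ := Nat.exists_prime_and_dvd h1
    obtain ⟨K', hK', -, hnorm⟩ := exists_subfield_of_dvd hn (ccenter N) hK hr.pos hrd
    refine ⟨r, K', hr, ?_, hK', (le_normalizer_ccenter hnz).trans hnorm⟩
    have := Cfsg.Agent.Helper7.FEx.dvd_card hr.pos K' hK'
    rwa [Fintype.card_fin] at this

/-- the same from helper5's homogeneity hypothesis. -/
theorem field_of_fullyInv [Fintype F] (hn : 0 < n) {H N : Subgroup (GL (Fin n) F)} (hnz : Nzes H N)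
    (hhom : ∀ X : Submodule F (Fin n → F), FullyInv N X → X = ⊥ ∨ X = ⊤) :
    (∃ (r : ℕ) (K : Subalgebra F (Matrix (Fin n) (Fin n) F)), r.Prime ∧ r ∣ n ∧
      IsFieldSubalgebra r K ∧ H ≤ subalgebraNormalizer K) ∨
    (∀ M : Matrix (Fin n) (Fin n) F, (∀ s ∈ matrixSet N, M * s = s * M) →
      (∀ c : Matrix (Fin n) (Fin n) F, (∀ s ∈ matrixSet N, c * s = s * c) → M * c = c * M) →
      ∃ a : F, M = a • (1 : Matrix (Fin n) (Fin n) F)) :=
  field_of_fullInv hn hnz (fullInvM_of_fullyInv hhom)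

end Cfsg.Agent.Helper4.AschP
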