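import Mathlib

/-!
# ASCH-COMP, perfect case for `n` not a perfect power (helper4), part A: pure algebra

Systems of matrix units in an algebra `R` over a field `F`, the dimension of `span(E) * B` for a subspace
`B` commuting with the units, and the dimension of the span of a product of pairwise commuting subgroups
of `Rˣ` each of which spans the span of a `d × d` system of matrix units.
-/

set_option autoImplicit false
set_option linter.style.haveILetI false
set_option linter.unusedVariables false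

namespace Cfsg.Agent.Helper4.AschP

open Module
open scoped Pointwise

variable {F R : Type*} [Field F] [Ring R] [Algebra F R]

/-- a `d × d` system of matrix units -/
structure IsUnitsSys {d : ℕ} (E : Fin d → Fin d → R) : Prop where
  mul : ∀ a b c e, E a b * E c e = if b = c then E a e else 0
  sum : ∑ a, E a a = 1

/-- the span of a system of matrix units -/
def uspan (F : Type*) {R : Type*} [Field F] [Ring R] [Algebra F R] {d : ℕ} (E : Fin d → Fin d → R) :
    Submodule F R :=
  Submodule.span F (Set.range fun p : Fin d × Fin d => E p.1 p.2)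

theorem mem_uspan {d : ℕ} (E : Fin d → Fin d → R) (a b : Fin d) : E a b ∈ uspan F E :=
  Submodule.subset_span ⟨(a, b), rfl⟩

/-- the linear map `(b_ab) ↦ ∑ E_ab * b_ab` -/
noncomputable def usum {d : ℕ} (E : Fin d → Fin d → R) (B : Submodule F R) :
    (Fin d × Fin d → B) →ₗ[F] R :=
  ∑ p : Fin d × Fin d, (LinearMap.mulLeft F (E p.1 p.2)) ∘ₗ B.subtype ∘ₗ LinearMap.proj p

theorem usum_apply {d : ℕ} (E : Fin d → Fin d → R) (B : Submodule F R) (f : Fin d × Fin d → B) :
    usum E B f = ∑ p : Fin d × Fin d, E p.1 p.2 * (f p : R) := by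
  unfold usum
  rw [LinearMap.sum_apply]
  rfl

theorem units_sandwich {d : ℕ} {E : Fin d → Fin d → R} (hE : IsUnitsSys E) {B : Submodule F R}
    (hB : ∀ b ∈ B, ∀ a c, E a c * b = b * E a c) {β : R} (hβ : β ∈ B) (c a' a b b' : Fin d) :
    E c a' * (E a b * β) * E b' c = if a' = a ∧ b = b' then E c c * β else 0 := by
  have h1 : E c a' * (E a b * β) * E b' c = E c a' * E a b * E b' c * β := by
    calc E c a' * (E a b * β) * E b' c = E c a' * E a b * (β * E b' c) := by
          simp only [mul_assoc]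
      _ = E c a' * E a b * (E b' c * β) := by rw [hB β hβ b' c]
      _ = E c a' * E a b * E b' c * β := by simp only [mul_assoc]
  rw [h1, hE.mul]
  by_cases h2 : a' = a
  · rw [if_pos h2, hE.mul]
    by_cases h3 : b = b'
    · rw [if_pos h3, if_pos ⟨h2, h3⟩]
    · rw [if_neg h3, zero_mul, if_neg (fun h => h3 h.2)]
  · rw [if_neg h2, zero_mul, zero_mul, if_neg (fun h => h2 h.1)]

theorem usum_extract {d : ℕ} {E : Fin d → Fin d → R} (hE : IsUnitsSys E) {B : Submodule F R}
    (hB : ∀ b ∈ B, ∀ a c, E a c * b = b * E a c) (f : Fin d × Fin d → B) (a' b' : Fin d) :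
    ∑ c, E c a' * usum E B f * E b' c = (f (a', b') : R) := by
  rw [usum_apply]
  have h1 : ∀ c : Fin d, E c a' * (∑ p : Fin d × Fin d, E p.1 p.2 * (f p : R)) * E b' c =
      E c c * (f (a', b') : R) := by
    intro c
    rw [Finset.mul_sum, Finset.sum_mul]
    rw [Finset.sum_eq_single (a', b')]
    · rw [units_sandwich hE hB (f (a', b')).2, if_pos ⟨rfl, rfl⟩]
    · rintro ⟨a, b⟩ - hne
      rw [units_sandwich hE hB (f (a, b)).2, if_neg]
      rintro ⟨h1, h2⟩
      exact hne (Prod.ext h1.symm h2)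
    · intro h
      exact absurd (Finset.mem_univ _) h
  rw [Finset.sum_congr rfl (fun c _ => h1 c), ← Finset.sum_mul, hE.sum, one_mul]

theorem usum_injective {d : ℕ} {E : Fin d → Fin d → R} (hE : IsUnitsSys E) {B : Submodule F R}
    (hB : ∀ b ∈ B, ∀ a c, E a c * b = b * E a c) : Function.Injective (usum E B) := by
  intro f g hfg
  funext ⟨a', b'⟩
  apply Subtype.ext
  rw [← usum_extract hE hB f a' b', ← usum_extract hE hB g a' b', hfg]

theorem range_usum {d : ℕ} (E : Fin d → Fin d → R) (B : Submodule F R) :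
    LinearMap.range (usum E B) = uspan F E * B := by
  classical
  apply le_antisymm
  · rintro _ ⟨f, rfl⟩
    rw [usum_apply]
    exact Submodule.sum_mem _ (fun p _ => Submodule.mul_mem_mul (mem_uspan E p.1 p.2) (f p).2)
  · have hB : B = Submodule.span F (B : Set R) := (Submodule.span_eq B).symm
    unfold uspan
    conv_lhs => rw [hB]
    rw [Submodule.span_mul_span, Submodule.span_le]
    rintro _ ⟨_, ⟨p, rfl⟩, b, hb, rfl⟩
    refine ⟨Pi.single p ⟨b, hb⟩, ?_⟩
    rw [usum_apply, Finset.sum_eq_single p]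
    · simp
    · intro q _ hq
      rw [Pi.single_eq_of_ne hq]
      simp
    · intro h
      exact absurd (Finset.mem_univ _) h

theorem finrank_uspan_mul [Module.Finite F R] {d : ℕ} {E : Fin d → Fin d → R} (hE : IsUnitsSys E)
    {B : Submodule F R} (hB : ∀ b ∈ B, ∀ a c, E a c * b = b * E a c) :
    finrank F ↥(uspan F E * B) = d * d * finrank F B := by
  rw [← range_usum, LinearMap.finrank_range_of_inj (usum_injective hE hB), Module.finrank_pi_fintype]
  simp

/-! ### subgroups of the unit group -/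

/-- the set of elements of `R` underlying a subgroup of `Rˣ` -/
def mset (Q : Subgroup Rˣ) : Set R := (fun g : Rˣ => (g : R)) '' (Q : Set Rˣ)

theorem mem_mset {Q : Subgroup Rˣ} {s : R} : s ∈ mset Q ↔ ∃ g ∈ Q, (g : R) = s := by
  unfold mset
  simp [Set.mem_image]

/-- the `F`-span of a subgroup of `Rˣ` -/
def gspan (F : Type*) {R : Type*} [Field F] [Ring R] [Algebra F R] (Q : Subgroup Rˣ) : Submodule F R :=
  Submodule.span F (mset Q)

theorem commute_of_mem_span {S T : Set R} (h : ∀ s ∈ S, ∀ t ∈ T, s * t = t * s) {x y : R}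
    (hx : x ∈ Submodule.span F S) (hy : y ∈ Submodule.span F T) : x * y = y * x := by
  have h1 : Submodule.span F S ≤ Subalgebra.toSubmodule (Subalgebra.centralizer F T) := by
    rw [Submodule.span_le]
    intro s hs
    show s ∈ Subalgebra.centralizer F T
    rw [Subalgebra.mem_centralizer_iff]
    intro t ht
    exact (h s hs t ht).symm
  have hx' : x ∈ Subalgebra.centralizer F T := h1 hx
  have h2 : Submodule.span F T ≤ Subalgebra.toSubmodule (Subalgebra.centralizer F {x}) := by
    rw [Submodule.span_le]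
    intro t ht
    show t ∈ Subalgebra.centralizer F {x}
    rw [Subalgebra.mem_centralizer_iff]
    intro x' hx''
    rw [Set.mem_singleton_iff] at hx''
    subst hx''
    rw [Subalgebra.mem_centralizer_iff] at hx'
    exact (hx' t ht).symm
  have hy' : y ∈ Subalgebra.centralizer F {x} := h2 hy
  rw [Subalgebra.mem_centralizer_iff] at hy'
  exact hy' x rfl

theorem mset_sup {Q M : Subgroup Rˣ} (h : ∀ x ∈ Q, ∀ y ∈ M, x * y = y * x) :
    mset (Q ⊔ M) = mset Q * mset M := by
  have hLE : Q ≤ Subgroup.normalizer (M : Set Rˣ) := by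
    intro x hx
    rw [Subgroup.mem_normalizer_iff]
    intro y
    have e : ∀ y ∈ M, x * y * x⁻¹ = y := by
      intro y hy
      rw [h x hx y hy, mul_assoc, mul_inv_cancel, mul_one]
    constructor
    · intro hy
      rw [e y hy]
      exact hy
    · intro hy
      have h2 : x⁻¹ * (x * y * x⁻¹) * x = y := by group
      have h3 : x * (x * y * x⁻¹) = (x * y * x⁻¹) * x := h x hx _ hy
      rw [← h2, mul_assoc, ← h3, ← mul_assoc, inv_mul_cancel, one_mul]
      exact hy
  have hset := Subgroup.coe_mul_of_left_le_normalizer_right Q M hLE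
  ext s
  constructor
  · rintro ⟨g, hg, rfl⟩
    have hg' : g ∈ (Q : Set Rˣ) * (M : Set Rˣ) := by
      rw [← hset]
      exact hg
    obtain ⟨x, hx, y, hy, rfl⟩ := hg'
    exact ⟨(x : R), ⟨x, hx, rfl⟩, (y : R), ⟨y, hy, rfl⟩, by simp⟩
  · rintro ⟨_, ⟨x, hx, rfl⟩, _, ⟨y, hy, rfl⟩, rfl⟩
    refine ⟨x * y, ?_, by simp⟩
    have : x * y ∈ (Q : Set Rˣ) * (M : Set Rˣ) := ⟨x, hx, y, hy, rfl⟩
    rw [← hset] at this
    exact this

theorem gspan_sup {Q M : Subgroup Rˣ} (h : ∀ x ∈ Q, ∀ y ∈ M, x * y = y * x) :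
    gspan F (Q ⊔ M) = gspan F Q * gspan F M := by
  unfold gspan
  rw [mset_sup h, Submodule.span_mul_span]

theorem gspan_bot [Nontrivial R] : finrank F ↥(gspan F (⊥ : Subgroup Rˣ)) = 1 := by
  have h1 : mset (⊥ : Subgroup Rˣ) = {(1 : R)} := by
    ext s
    rw [mem_mset]
    constructor
    · rintro ⟨g, hg, rfl⟩
      rw [Subgroup.mem_bot] at hg
      subst hg
      simp
    · intro hs
      rw [Set.mem_singleton_iff] at hs
      subst hs
      exact ⟨1, Subgroup.one_mem _, by simp⟩
  unfold gspan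
  rw [h1]
  exact finrank_span_singleton one_ne_zero

/-- `Q` spans the span of a `d × d` system of matrix units -/
def HasUnitsSys (F : Type*) {R : Type*} [Field F] [Ring R] [Algebra F R] (d : ℕ) (Q : Subgroup Rˣ) : Prop :=
  ∃ E : Fin d → Fin d → R, IsUnitsSys E ∧ uspan F E = gspan F Q

/-- **the dimension count**: pairwise commuting subgroups each spanning a copy of `M_d(F)` -/
theorem finrank_gspan_iSup [Module.Finite F R] [Nontrivial R] {d : ℕ} (𝒬 : Finset (Subgroup Rˣ))
    (hcomm : ∀ Q₁ ∈ 𝒬, ∀ Q₂ ∈ 𝒬, Q₁ ≠ Q₂ → ∀ x ∈ Q₁, ∀ y ∈ Q₂, x * y = y * x)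
    (hu : ∀ Q ∈ 𝒬, HasUnitsSys F d Q) :
    finrank F ↥(gspan F (𝒬.sup id)) = (d * d) ^ 𝒬.card := by
  classical
  induction 𝒬 using Finset.induction_on with
  | empty =>
    rw [Finset.sup_empty, Finset.card_empty, pow_zero]
    exact gspan_bot
  | insert Q 𝒬' hQ ih =>
    rw [Finset.sup_insert, Finset.card_insert_of_notMem hQ, id]
    have hc : ∀ x ∈ Q, ∀ y ∈ 𝒬'.sup id, x * y = y * x := by
      intro x hx y hy
      have hle : 𝒬'.sup id ≤ Subgroup.centralizer {x} := by
        apply Finset.sup_le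
        intro Q' hQ' y hy
        rw [Subgroup.mem_centralizer_iff]
        intro x' hx'
        rw [Set.mem_singleton_iff] at hx'
        subst hx'
        have hne : Q ≠ Q' := fun h => hQ (h ▸ hQ')
        exact hcomm Q (Finset.mem_insert_self _ _) Q' (Finset.mem_insert_of_mem hQ') hne x' hx y hy
      have := hle hy
      rw [Subgroup.mem_centralizer_iff] at this
      exact this x rfl
    rw [gspan_sup hc]
    obtain ⟨E, hE, hEQ⟩ := hu Q (Finset.mem_insert_self _ _)
    rw [← hEQ]
    have hB : ∀ b ∈ gspan F (𝒬'.sup id), ∀ a c, E a c * b = b * E a c := by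
      intro b hb a c
      have hE' : E a c ∈ gspan F Q := hEQ ▸ mem_uspan E a c
      refine commute_of_mem_span (F := F) (S := mset Q) (T := mset (𝒬'.sup id)) ?_ hE' hb
      rintro _ ⟨x, hx, rfl⟩ _ ⟨y, hy, rfl⟩
      rw [← Units.val_mul, ← Units.val_mul, hc x hx y hy]
    rw [finrank_uspan_mul hE hB, ih (fun Q₁ h₁ Q₂ h₂ => hcomm Q₁ (Finset.mem_insert_of_mem h₁) Q₂
      (Finset.mem_insert_of_mem h₂)) (fun Q' hQ' => hu Q' (Finset.mem_insert_of_mem hQ')), pow_succ]
    ring

end Cfsg.Agent.Helper4.AschP
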