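import Mathlib

/-!
# ASCH-PRIME piece P8, abstract part (helper4)

`G` a finite group, `Z` a central subgroup, `N ≤ H` perfect, non-central-in-`Z`, minimal among the
subgroups normalized by `H` that do not lie in `Z`.  Under a "Clifford hypothesis" (a subgroup
centralizing a perfect non-`Z` normal subgroup `P` of `N` is abelian) every subgroup of `N`
normalized by `N` lies in `Z` or equals `N`.
-/

set_option autoImplicit false
set_option linter.style.haveILetI false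
set_option linter.unusedVariables false

namespace Cfsg.Agent.Helper4.AschP

variable {G : Type*} [Group G]

/-- `H` normalizes `N`, elementwise form. -/
def Nz (H N : Subgroup G) : Prop := ∀ h ∈ H, ∀ x ∈ N, h * x * h⁻¹ ∈ N

theorem Nz.inf {H A B : Subgroup G} (hA : Nz H A) (hB : Nz H B) : Nz H (A ⊓ B) :=
  fun h hh x hx => Subgroup.mem_inf.2 ⟨hA h hh x (Subgroup.mem_inf.1 hx).1,
    hB h hh x (Subgroup.mem_inf.1 hx).2⟩

theorem Nz.mono {H H' N : Subgroup G} (h : Nz H N) (hle : H' ≤ H) : Nz H' N :=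
  fun g hg x hx => h g (hle hg) x hx

theorem Nz.inv_conj {H N : Subgroup G} (h : Nz H N) {g : G} (hg : g ∈ H) {x : G} (hx : x ∈ N) :
    g⁻¹ * x * g ∈ N := by
  have := h g⁻¹ (H.inv_mem hg) x hx
  rwa [inv_inv] at this

theorem nz_commutator {H N : Subgroup G} (h : Nz H N) : Nz H ⁅N, N⁆ := by
  intro g hg x hx
  have hmap : ⁅N, N⁆.map (MulAut.conj g).toMonoidHom ≤ ⁅N, N⁆ := by
    rw [Subgroup.map_commutator]
    have hN : N.map (MulAut.conj g).toMonoidHom ≤ N := by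
      rintro _ ⟨y, hy, rfl⟩
      simpa using h g hg y hy
    exact Subgroup.commutator_mono hN hN
  have := hmap (Subgroup.mem_map_of_mem _ hx)
  simpa using this

/-- the centralizer of `A` modulo the normal subgroup `Z`. -/
def cz (Z : Subgroup G) [hZn : Z.Normal] (A : Subgroup G) : Subgroup G where
  carrier := {g | ∀ a ∈ A, g * a * g⁻¹ * a⁻¹ ∈ Z}
  one_mem' := by
    intro a _
    simp [Z.one_mem]
  mul_mem' := by
    intro g₁ g₂ h₁ h₂ a ha
    have e : g₁ * g₂ * a * (g₁ * g₂)⁻¹ * a⁻¹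
        = (g₁ * (g₂ * a * g₂⁻¹ * a⁻¹) * g₁⁻¹) * (g₁ * a * g₁⁻¹ * a⁻¹) := by group
    rw [e]
    exact Z.mul_mem (hZn.conj_mem _ (h₂ a ha) g₁) (h₁ a ha)
  inv_mem' := by
    intro g hg a ha
    have e : g⁻¹ * a * g⁻¹⁻¹ * a⁻¹ = g⁻¹ * (g * a * g⁻¹ * a⁻¹)⁻¹ * g⁻¹⁻¹ := by group
    rw [e]
    exact hZn.conj_mem _ (Z.inv_mem (hg a ha)) g⁻¹

theorem mem_cz_iff {Z : Subgroup G} [Z.Normal] {A : Subgroup G} {g : G} :
    g ∈ cz Z A ↔ ∀ a ∈ A, g * a * g⁻¹ * a⁻¹ ∈ Z := Iff.rfl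

theorem nz_cz {Z : Subgroup G} [hZn : Z.Normal] {H N : Subgroup G} (h : Nz H N) :
    Nz H (cz Z N) := by
  intro g hg x hx a ha
  have ha' : g⁻¹ * a * g ∈ N := h.inv_conj hg ha
  have e : g * x * g⁻¹ * a * (g * x * g⁻¹)⁻¹ * a⁻¹
      = g * (x * (g⁻¹ * a * g) * x⁻¹ * (g⁻¹ * a * g)⁻¹) * g⁻¹ := by group
  rw [e]
  exact hZn.conj_mem _ (hx _ ha') g

theorem commutator_le_of_le_cz {Z : Subgroup G} [Z.Normal] {A B : Subgroup G}
    (h : B ≤ cz Z A) : ⁅B, A⁆ ≤ Z :=
  Subgroup.commutator_le.2 (fun g hg x hx => by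
    rw [commutatorElement_def]
    exact h hg x hx)

/-- `cz` is symmetric. -/
theorem le_cz_symm {Z : Subgroup G} [Z.Normal] {A B : Subgroup G}
    (h : B ≤ cz Z A) : A ≤ cz Z B := by
  intro a ha b hb
  have e : a * b * a⁻¹ * b⁻¹ = (b * a * b⁻¹ * a⁻¹)⁻¹ := by group
  rw [e]
  exact Z.inv_mem (h hb a ha)

/-- a perfect group is centralized by its centralizer modulo a central subgroup
(three subgroups lemma). -/
theorem cz_le_centralizer_of_perfect {Z : Subgroup G} [Z.Normal]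
    (hZ : ∀ z ∈ Z, ∀ g : G, g * z = z * g) {P : Subgroup G} (hperf : ⁅P, P⁆ = P) :
    cz Z P ≤ Subgroup.centralizer (P : Set G) := by
  have h0 : ⁅cz Z P, P⁆ ≤ Z := commutator_le_of_le_cz le_rfl
  have hZc : Z ≤ Subgroup.centralizer (P : Set G) :=
    fun z hz => Subgroup.mem_centralizer_iff.2 (fun x _ => hZ z hz x)
  have h2 : ⁅⁅cz Z P, P⁆, P⁆ = ⊥ :=
    Subgroup.commutator_eq_bot_iff_le_centralizer.2 (h0.trans hZc)
  have h1 : ⁅⁅P, cz Z P⁆, P⁆ = ⊥ := by
    rw [Subgroup.commutator_comm P (cz Z P)]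
    exact h2
  have h3 := Subgroup.commutator_commutator_eq_bot_of_rotate h1 h2
  rw [hperf, Subgroup.commutator_comm] at h3
  exact Subgroup.commutator_eq_bot_iff_le_centralizer.1 h3

/-- the `H`-closure of `P`. -/
def hcl (H P : Subgroup G) : Subgroup G :=
  Subgroup.closure {g | ∃ h ∈ H, ∃ x ∈ P, g = h * x * h⁻¹}

theorem le_hcl (H P : Subgroup G) : P ≤ hcl H P := by
  intro x hx
  refine Subgroup.subset_closure ⟨1, H.one_mem, x, hx, ?_⟩
  simp

theorem hcl_le {H P U : Subgroup G} (h : ∀ g ∈ H, ∀ x ∈ P, g * x * g⁻¹ ∈ U) : hcl H P ≤ U := by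
  refine (Subgroup.closure_le U).2 ?_
  rintro _ ⟨g, hg, x, hx, rfl⟩
  exact h g hg x hx

theorem nz_hcl (H P : Subgroup G) : Nz H (hcl H P) := by
  intro g hg y hy
  have hmap : (hcl H P).map (MulAut.conj g).toMonoidHom ≤ hcl H P := by
    unfold hcl
    rw [MonoidHom.map_closure]
    refine (Subgroup.closure_le _).2 ?_
    rintro _ ⟨_, ⟨k, hk, x, hx, rfl⟩, rfl⟩
    refine Subgroup.subset_closure ⟨g * k, H.mul_mem hg hk, x, hx, ?_⟩
    simp [mul_assoc]
  have := hmap (Subgroup.mem_map_of_mem _ hy)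
  simpa using this

/-- the quotient of `N` by `Z ∩ N` is simple if every `N`-normal subgroup of `N` is in `Z` or is `N`. -/
theorem isSimpleGroup_quot {Z N : Subgroup G} [Z.Normal] (hns : ¬ N ≤ Z)
    (hdich : ∀ M : Subgroup G, M ≤ N → Nz N M → M ≤ Z ∨ M = N) :
    IsSimpleGroup (N ⧸ Z.subgroupOf N) := by
  haveI : Nontrivial (N ⧸ Z.subgroupOf N) := by
    obtain ⟨x, hxN, hxZ⟩ := SetLike.not_le_iff_exists.1 hns
    refine ⟨⟨QuotientGroup.mk ⟨x, hxN⟩, 1, ?_⟩⟩
    intro h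
    rw [QuotientGroup.eq_one_iff] at h
    exact hxZ (Subgroup.mem_subgroupOf.1 h)
  refine ⟨fun K hK => ?_⟩
  have hK'n : (K.comap (QuotientGroup.mk' (Z.subgroupOf N))).Normal := hK.comap _
  have hMN : (K.comap (QuotientGroup.mk' (Z.subgroupOf N))).map N.subtype ≤ N :=
    Subgroup.map_subtype_le _
  have hMnz : Nz N ((K.comap (QuotientGroup.mk' (Z.subgroupOf N))).map N.subtype) := by
    rintro g hg _ ⟨y, hy, rfl⟩
    refine ⟨⟨g, hg⟩ * y * ⟨g, hg⟩⁻¹, hK'n.conj_mem y hy ⟨g, hg⟩, ?_⟩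
    simp
  rcases hdich _ hMN hMnz with h | h
  · left
    rw [eq_bot_iff]
    intro k hk
    obtain ⟨x, rfl⟩ := QuotientGroup.mk_surjective k
    have hxM : (x : G) ∈ (K.comap (QuotientGroup.mk' (Z.subgroupOf N))).map N.subtype :=
      ⟨x, hk, rfl⟩
    rw [Subgroup.mem_bot, QuotientGroup.eq_one_iff]
    exact Subgroup.mem_subgroupOf.2 (h hxM)
  · right
    rw [eq_top_iff]
    intro k _
    obtain ⟨x, rfl⟩ := QuotientGroup.mk_surjective k
    have hxM : (x : G) ∈ (K.comap (QuotientGroup.mk' (Z.subgroupOf N))).map N.subtype := by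
      rw [h]
      exact x.2
    obtain ⟨y, hy, hyx⟩ := hxM
    have hyx' : y = x := Subtype.ext hyx
    subst hyx'
    exact hy

/-- a perfect subgroup not inside `Z` has a non-commutative quotient by `Z ∩ N`. -/
theorem not_isMulCommutative_quot {Z N : Subgroup G} [Z.Normal] (hns : ¬ N ≤ Z)
    (hperf : ⁅N, N⁆ = N) : ¬ IsMulCommutative (N ⧸ Z.subgroupOf N) := by
  intro hc
  apply hns
  rw [← hperf]
  refine Subgroup.commutator_le.2 (fun x hx y hy => ?_)
  have h1 : (QuotientGroup.mk (⟨x, hx⟩ * ⟨y, hy⟩ * ⟨x, hx⟩⁻¹ * ⟨y, hy⟩⁻¹ : N) :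
      N ⧸ Z.subgroupOf N) = 1 := by
    rw [QuotientGroup.mk_mul, QuotientGroup.mk_mul, QuotientGroup.mk_mul, QuotientGroup.mk_inv,
      QuotientGroup.mk_inv,
      mul_comm' (QuotientGroup.mk (⟨x, hx⟩ : N) : N ⧸ Z.subgroupOf N)
        (QuotientGroup.mk (⟨y, hy⟩ : N))]
    group
  rw [QuotientGroup.eq_one_iff] at h1
  have h2 := Subgroup.mem_subgroupOf.1 h1
  rw [commutatorElement_def]
  simpa using h2

section main

variable [Finite G]

/-- conjugate subgroup -/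
abbrev cjg (g : G) (P : Subgroup G) : Subgroup G := P.map (MulAut.conj g).toMonoidHom

theorem mem_cjg_iff {g : G} {P : Subgroup G} {y : G} : y ∈ cjg g P ↔ g⁻¹ * y * g ∈ P := by
  constructor
  · rintro ⟨x, hx, rfl⟩
    simpa [mul_assoc] using hx
  · intro h
    exact ⟨g⁻¹ * y * g, h, by simp [mul_assoc]⟩

theorem conj_mem_cjg {g : G} {P : Subgroup G} {x : G} (hx : x ∈ P) : g * x * g⁻¹ ∈ cjg g P :=
  ⟨x, hx, by simp⟩

theorem card_cjg (g : G) (P : Subgroup G) : Nat.card (cjg g P) = Nat.card P :=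
  Nat.card_congr (P.equivMapOfInjective _ (MulAut.conj g).injective).toEquiv.symm

theorem main_dichotomy
    {Z H N : Subgroup G} [Z.Normal] (hZ : ∀ z ∈ Z, ∀ g : G, g * z = z * g)
    (hNH : N ≤ H) (hnz : Nz H N) (hns : ¬ N ≤ Z)
    (hmin : ∀ M : Subgroup G, M ≤ N → Nz H M → ¬ M ≤ Z → M = N)
    (hperf : ⁅N, N⁆ = N)
    (hcliff : ∀ P : Subgroup G, P ≤ N → Nz N P → ¬ P ≤ Z → ⁅P, P⁆ = P →
      ∀ Q : Subgroup G, (∀ y ∈ Q, ∀ x ∈ P, y * x = x * y) → ∀ y ∈ Q, ∀ y' ∈ Q, y * y' = y' * y)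
    (M : Subgroup G) (hMN : M ≤ N) (hMnz : Nz N M) : M ≤ Z ∨ M = N := by
  classical
  by_contra hcon
  push Not at hcon
  obtain ⟨hMns, hMne⟩ := hcon
  -- a minimal non-`Z` subgroup of `M` normalized by `N`
  haveI : Finite (Subgroup G) := inferInstance
  let S : Set (Subgroup G) := {Q | Q ≤ M ∧ Nz N Q ∧ ¬ Q ≤ Z}
  have hS : S.Nonempty := ⟨M, le_refl M, hMnz, hMns⟩
  obtain ⟨P, hP, hPmin'⟩ := (Set.toFinite S).exists_minimal hS
  obtain ⟨hPM, hPnz, hPns⟩ := hP
  have hPN : P ≤ N := hPM.trans hMN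
  have hPmin : ∀ Q : Subgroup G, Q ≤ P → Nz N Q → ¬ Q ≤ Z → Q = P := by
    intro Q hQP hQnz hQns
    have hQS : Q ∈ S := ⟨hQP.trans hPM, hQnz, hQns⟩
    exact le_antisymm hQP (hPmin' hQS hQP)
  -- it suffices to show `P = N`
  suffices hPeq : P = N by
    apply hMne
    exact le_antisymm hMN (hPeq ▸ hPM)
  -- conjugates of `P` under `H`
  have hcj_le : ∀ h ∈ H, cjg h P ≤ N := by
    intro h hh y hy
    have := hnz h hh _ (hPN (mem_cjg_iff.1 hy))
    simpa [mul_assoc] using this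
  have hcj_nz : ∀ h ∈ H, Nz N (cjg h P) := by
    intro h hh g hg y hy
    rw [mem_cjg_iff] at hy ⊢
    have hg' : h⁻¹ * g * h ∈ N := hnz.inv_conj hh hg
    have := hPnz _ hg' _ hy
    have e : h⁻¹ * (g * y * g⁻¹) * h = h⁻¹ * g * h * (h⁻¹ * y * h) * (h⁻¹ * g * h)⁻¹ := by group
    rw [e]
    exact this
  -- Lemma X
  have hX : ∀ h ∈ H, cjg h P = P ∨ cjg h P ≤ cz Z P := by
    intro h hh
    have hI : Nz N (P ⊓ cjg h P) := hPnz.inf (hcj_nz h hh)
    by_cases hIZ : P ⊓ cjg h P ≤ Z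
    · right
      intro y hy x hx
      apply hIZ
      refine Subgroup.mem_inf.2 ⟨?_, ?_⟩
      · have h1 : y * x * y⁻¹ ∈ P := hPnz y (hcj_le h hh hy) x hx
        exact P.mul_mem h1 (P.inv_mem hx)
      · have h1 : x * y⁻¹ * x⁻¹ ∈ cjg h P :=
          hcj_nz h hh x (hPN hx) y⁻¹ ((cjg h P).inv_mem hy)
        have e : y * x * y⁻¹ * x⁻¹ = y * (x * y⁻¹ * x⁻¹) := by group
        rw [e]
        exact (cjg h P).mul_mem hy h1
    · left
      have hIP : P ⊓ cjg h P = P := hPmin _ inf_le_left hI hIZ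
      have hle : P ≤ cjg h P := by
        have h1 : P ⊓ cjg h P ≤ cjg h P := inf_le_right
        rwa [hIP] at h1
      exact (Subgroup.eq_of_le_of_card_ge hle (by rw [card_cjg])).symm
  -- the derived subgroup of `P`
  have hD : ⁅P, P⁆ = P ∨ ⁅P, P⁆ ≤ Z := by
    by_cases hDZ : ⁅P, P⁆ ≤ Z
    · exact Or.inr hDZ
    · exact Or.inl (hPmin _ (Subgroup.commutator_le_self P) (nz_commutator hPnz) hDZ)
  rcases hD with hPperf | hDZ
  · -- `P` perfect
    have hPH : Nz H P := by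
      intro h hh x hx
      rcases hX h hh with heq | hle
      · rw [← heq]
        exact conj_mem_cjg hx
      · exfalso
        have hcen : cjg h P ≤ Subgroup.centralizer (P : Set G) :=
          hle.trans (cz_le_centralizer_of_perfect hZ hPperf)
        have hab := hcliff P hPN hPnz hPns hPperf (cjg h P)
          (fun y hy x hx => ((Subgroup.mem_centralizer_iff.1 (hcen hy)) x hx).symm)
        -- so `P` is abelian
        have hPab : ∀ a ∈ P, ∀ b ∈ P, a * b = b * a := by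
          intro a ha b hb
          have := hab _ (conj_mem_cjg (g := h) ha) _ (conj_mem_cjg (g := h) hb)
          have e1 : h * a * h⁻¹ * (h * b * h⁻¹) = h * (a * b) * h⁻¹ := by group
          have e2 : h * b * h⁻¹ * (h * a * h⁻¹) = h * (b * a) * h⁻¹ := by group
          rw [e1, e2] at this
          exact mul_left_cancel (mul_right_cancel this)
        have hbot : ⁅P, P⁆ = ⊥ := by
          rw [Subgroup.commutator_eq_bot_iff_le_centralizer]
          intro a ha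
          exact Subgroup.mem_centralizer_iff.2 (fun b hb => hPab b hb a ha)
        rw [hPperf] at hbot
        exact hPns (hbot ▸ bot_le)
    exact hmin P hPN hPH hPns
  · -- `⁅P, P⁆ ≤ Z`: impossible
    exfalso
    have hall : ∀ h ∈ H, cjg h P ≤ cz Z P := by
      intro h hh
      rcases hX h hh with heq | hle
      · rw [heq]
        intro y hy x hx
        have := hDZ (Subgroup.commutator_mem_commutator hy hx)
        rwa [commutatorElement_def] at this
      · exact hle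
    have hR1 : hcl H P ≤ cz Z P := hcl_le (fun g hg x hx => hall g hg (conj_mem_cjg hx))
    have hR2 : hcl H P ≤ N := hcl_le (fun g hg x hx => hnz g hg x (hPN hx))
    have hR3 : ¬ hcl H P ≤ Z := fun hle => hPns ((le_hcl H P).trans hle)
    have hR : hcl H P = N := hmin _ hR2 (nz_hcl H P) hR3
    have hN1 : N ≤ cz Z P := hR ▸ hR1
    have hP1 : P ≤ cz Z N := le_cz_symm hN1
    have hT : cz Z N ⊓ N = N := by
      refine hmin _ inf_le_right ((nz_cz hnz).inf hnz) ?_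
      intro hle
      exact hPns ((le_inf hP1 hPN).trans hle)
    have hN2 : N ≤ cz Z N := by
      have h1 : cz Z N ⊓ N ≤ cz Z N := inf_le_left
      rwa [hT] at h1
    have : ⁅N, N⁆ ≤ Z := commutator_le_of_le_cz hN2
    rw [hperf] at this
    exact hns this

end main

end Cfsg.Agent.Helper4.AschP
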