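import Mathlib
import Cfsg.Prelude.Def_GeometricClasses
import Cfsg.Agent.Lead.AschBase
import Cfsg.Agent.Helper9.AschSchur
import Cfsg.Agent.Helper4.AschPerfectA

/-!
# ASCH-PRIME piece P8 (helper4): the perfect case, modulo the Clifford statement `clifford_prime'`
(taken here as the hypothesis `CliffordHyp n F`, exactly lead's stub; helper5 proves it).
-/

set_option autoImplicit false
set_option linter.style.haveILetI false
set_option linter.unusedVariables false

namespace Cfsg.Agent.Helper4.AschP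

open Cfsg Cfsg.Geo Cfsg.Agent.Lead.Asch
open scoped MatrixGroups Matrix

variable {n : ℕ} {F : Type*} [Field F]

theorem scalars_central : ∀ z ∈ scalars (Fin n) F, ∀ g : GL (Fin n) F, g * z = z * g := by
  intro z hz g
  obtain ⟨c, hc⟩ := (mem_scalars_iff z).1 hz
  apply Units.ext
  rw [Units.val_mul, Units.val_mul, hc, Matrix.mul_smul, Matrix.smul_mul, mul_one, one_mul]

/-- lead's stub `clifford_prime'`, as a hypothesis. -/
def CliffordHyp (n : ℕ) (F : Type*) [Field F] : Prop :=
  ∀ {H N : Subgroup (GL (Fin n) F)}, ActsIrreducibly (matrixSet H) → N ≤ H → Nzes H N →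
    ((∃ D : Fin n → Submodule F (Fin n → F), IsMDecomposition 1 D ∧ H ≤ decompositionStabilizer D) ∧
      ∀ x ∈ N, ∀ y ∈ N, x * y = y * x) ∨
    N ≤ scalars (Fin n) F ∨ ActsIrreducibly (matrixSet N)

/-- a matrix of `GL` commuting with an absolutely irreducible group is a scalar. -/
theorem mem_scalars_of_commute (hn : 0 < n) {N : Subgroup (GL (Fin n) F)}
    (hN : ActsAbsolutelyIrreducibly (matrixSet N)) {h : GL (Fin n) F}
    (hh : ∀ x ∈ N, x * h = h * x) : h ∈ scalars (Fin n) F := by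
  obtain ⟨c, hc⟩ := hN.2 (h : Matrix (Fin n) (Fin n) F) (fun s hs => by
    obtain ⟨x, hxN, rfl⟩ := mem_matrixSet_iff.1 hs
    rw [← Units.val_mul, ← Units.val_mul, hh x hxN])
  have hc0 : c ≠ 0 := by
    rintro rfl
    have h1 : (h : Matrix (Fin n) (Fin n) F) * ((h⁻¹ : GL (Fin n) F) : Matrix (Fin n) (Fin n) F) = 1 := by
      rw [← Units.val_mul, mul_inv_cancel, Units.val_one]
    rw [hc, zero_smul, zero_mul] at h1
    have := congrFun (congrFun h1 ⟨0, hn⟩) ⟨0, hn⟩
    simp at this
  exact (mem_scalars_iff h).2 ⟨Units.mk0 c hc0, by simpa using hc⟩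

theorem perfect_case_of_clifford [Fintype F] (hcl : CliffordHyp n F) (hn : n.Prime)
    {H N : Subgroup (GL (Fin n) F)}
    (hNH : N ≤ H) (hnz : Nzes H N) (hns : ¬ N ≤ scalars (Fin n) F)
    (hall : ∀ M : Subgroup (GL (Fin n) F), M ≤ H → Nzes H M →
      M ≤ scalars (Fin n) F ∨ ActsAbsolutelyIrreducibly (matrixSet M))
    (hmin : ∀ M : Subgroup (GL (Fin n) F), M ≤ N → Nzes H M → ¬ M ≤ scalars (Fin n) F → M = N)
    (hperf : ⁅N, N⁆ = N) :
    IsSimpleGroup (N ⧸ (scalars (Fin n) F).subgroupOf N) ∧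
    ¬ IsMulCommutative (N ⧸ (scalars (Fin n) F).subgroupOf N) ∧
    (∀ h ∈ H, (∀ x ∈ N, h * x * h⁻¹ * x⁻¹ ∈ scalars (Fin n) F) → h ∈ scalars (Fin n) F) := by
  classical
  have hNabs : ActsAbsolutelyIrreducibly (matrixSet N) := (hall N hNH hnz).resolve_left hns
  have hNirr : ActsIrreducibly (matrixSet N) := hNabs.1
  have hZ := scalars_central (n := n) (F := F)
  haveI : Finite (GL (Fin n) F) := inferInstance
  -- the Clifford input in abstract form
  have hcliff : ∀ P : Subgroup (GL (Fin n) F), P ≤ N → Nz N P → ¬ P ≤ scalars (Fin n) F →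
      ⁅P, P⁆ = P → ∀ Q : Subgroup (GL (Fin n) F), (∀ y ∈ Q, ∀ x ∈ P, y * x = x * y) →
      ∀ y ∈ Q, ∀ y' ∈ Q, y * y' = y' * y := by
    intro P hPN hPnz hPns hPperf Q hQ y hy y' hy'
    rcases hcl hNirr hPN hPnz with ⟨-, hab⟩ | h | hPirr
    · exfalso
      have hbot : ⁅P, P⁆ = ⊥ := by
        rw [Subgroup.commutator_eq_bot_iff_le_centralizer]
        intro a ha
        exact Subgroup.mem_centralizer_iff.2 (fun b hb => hab b hb a ha)
      rw [hPperf] at hbot
      exact hPns (hbot ▸ bot_le)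
    · exact absurd h hPns
    · apply Units.ext
      rw [Units.val_mul, Units.val_mul]
      refine Cfsg.Agent.Helper9.Asch.commutant_comm hPirr _ _ ?_ ?_
      · intro s hs
        obtain ⟨x, hxP, rfl⟩ := mem_matrixSet_iff.1 hs
        rw [← Units.val_mul, ← Units.val_mul, hQ y hy x hxP]
      · intro s hs
        obtain ⟨x, hxP, rfl⟩ := mem_matrixSet_iff.1 hs
        rw [← Units.val_mul, ← Units.val_mul, hQ y' hy' x hxP]
  have hdich : ∀ M : Subgroup (GL (Fin n) F), M ≤ N → Nz N M →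
      M ≤ scalars (Fin n) F ∨ M = N :=
    main_dichotomy hZ hNH hnz hns hmin hperf hcliff
  refine ⟨isSimpleGroup_quot hns hdich, not_isMulCommutative_quot hns hperf, ?_⟩
  · -- centralizer modulo scalars
    intro h hh hx
    have hmem : h ∈ cz (scalars (Fin n) F) N := hx
    have hcen := cz_le_centralizer_of_perfect hZ hperf hmem
    exact mem_scalars_of_commute hn.pos hNabs (fun x hxN => Subgroup.mem_centralizer_iff.1 hcen x hxN)

end Cfsg.Agent.Helper4.AschP
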