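import Mathlib
import Cfsg.Prelude.Def_GeometricClasses
import Cfsg.Agent.Lead.AschBase
import Cfsg.Agent.Helper4.AschPerfectA
import Cfsg.Agent.Helper4.AschPerfectB

/-!
# ASCH-COMP piece K2a (helper4): the perfect case in composite dimension

Same skeleton as `main_dichotomy`; the Clifford input is replaced by the statement K2b
(`no_commuting_conjugate` of helper6's stubs): a perfect non-central normal subgroup `P` of `N` with
`N = P · C_N(P)` does not commute with a conjugate of itself.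
-/

set_option autoImplicit false
set_option linter.style.haveILetI false
set_option linter.unusedVariables false

namespace Cfsg.Agent.Helper4.AschP

section abstract

variable {G : Type*} [Group G]

/-- the central product `P · C_N(P)`, as a subgroup. -/
def cprod (N P : Subgroup G) : Subgroup G where
  carrier := {x | ∃ a ∈ P, ∃ c ∈ N, (∀ y ∈ P, c * y = y * c) ∧ x = a * c}
  one_mem' := ⟨1, P.one_mem, 1, N.one_mem, by simp, by simp⟩
  mul_mem' := by
    rintro _ _ ⟨a, ha, c, hc, hcc, rfl⟩ ⟨a', ha', c', hc', hcc', rfl⟩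
    refine ⟨a * a', P.mul_mem ha ha', c * c', N.mul_mem hc hc', ?_, ?_⟩
    · intro y hy
      rw [mul_assoc, hcc' y hy, ← mul_assoc, hcc y hy, mul_assoc]
    · have h1 := hcc a' ha'
      calc a * c * (a' * c') = a * (c * a') * c' := by group
        _ = a * (a' * c) * c' := by rw [h1]
        _ = a * a' * (c * c') := by group
  inv_mem' := by
    rintro _ ⟨a, ha, c, hc, hcc, rfl⟩
    refine ⟨a⁻¹, P.inv_mem ha, c⁻¹, N.inv_mem hc, ?_, ?_⟩
    · intro y hy
      have h1 := hcc y hy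
      calc c⁻¹ * y = c⁻¹ * (y * c) * c⁻¹ := by group
        _ = c⁻¹ * (c * y) * c⁻¹ := by rw [h1]
        _ = y * c⁻¹ := by group
    · have h1 := hcc a ha
      calc (a * c)⁻¹ = (c * a)⁻¹ := by rw [h1]
        _ = a⁻¹ * c⁻¹ := by group

theorem mem_cprod {N P : Subgroup G} {x : G} :
    x ∈ cprod N P ↔ ∃ a ∈ P, ∃ c ∈ N, (∀ y ∈ P, c * y = y * c) ∧ x = a * c := Iff.rfl

variable [Finite G]

theorem main_dichotomy'
    {Z H N : Subgroup G} [Z.Normal] (hZ : ∀ z ∈ Z, ∀ g : G, g * z = z * g)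
    (hNH : N ≤ H) (hnz : Nz H N) (hns : ¬ N ≤ Z)
    (hmin : ∀ M : Subgroup G, M ≤ N → Nz H M → ¬ M ≤ Z → M = N)
    (hperf : ⁅N, N⁆ = N)
    (hK2b : ∀ P : Subgroup G, P ≤ N → Nz N P → ¬ P ≤ Z → ⁅P, P⁆ = P →
      (∀ x ∈ N, ∃ a ∈ P, ∃ c ∈ N, x = a * c ∧ ∀ y ∈ P, c * y = y * c) →
      ∀ h : G, (∀ y ∈ P, ∀ x ∈ P, (h * y * h⁻¹) * x = x * (h * y * h⁻¹)) → False)
    (M : Subgroup G) (hMN : M ≤ N) (hMnz : Nz N M) : M ≤ Z ∨ M = N := by
  classical
  by_contra hcon
  push Not at hcon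
  obtain ⟨hMns, hMne⟩ := hcon
  haveI : Finite (Subgroup G) := inferInstance
  let S : Set (Subgroup G) := {Q | Q ≤ M ∧ Nz N Q ∧ ¬ Q ≤ Z}
  have hS : S.Nonempty := ⟨M, le_refl M, hMnz, hMns⟩
  obtain ⟨P, hP, hPmin'⟩ := (Set.toFinite S).exists_minimal hS
  obtain ⟨hPM, hPnz, hPns⟩ := hP
  have hPN : P ≤ N := hPM.trans hMN
  have hPmin : ∀ Q : Subgroup G, Q ≤ P → Nz N Q → ¬ Q ≤ Z → Q = P := by
    intro Q hQP hQnz hQns
    have hQS : Q ∈ S := ⟨hQP.trans hPM, hQnz, hQns⟩
    exact le_antisymm hQP (hPmin' hQS hQP)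
  suffices hPeq : P = N by
    apply hMne
    exact le_antisymm hMN (hPeq ▸ hPM)
  have hcj_le : ∀ h ∈ H, cjg h P ≤ N := by
    intro h hh y hy
    have := hnz h hh _ (hPN (mem_cjg_iff.1 hy))
    simpa [mul_assoc] using this
  have hcj_nz : ∀ h ∈ H, Nz N (cjg h P) := by
    intro h hh g hg y hy
    rw [mem_cjg_iff] at hy ⊢
    have hg' : h⁻¹ * g * h ∈ N := hnz.inv_conj hh hg
    have := hPnz _ hg' _ hy
    have e : h⁻¹ * (g * y * g⁻¹) * h = h⁻¹ * g * h * (h⁻¹ * y * h) * (h⁻¹ * g * h)⁻¹ := by group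
    rw [e]
    exact this
  have hX : ∀ h ∈ H, cjg h P = P ∨ cjg h P ≤ cz Z P := by
    intro h hh
    have hI : Nz N (P ⊓ cjg h P) := hPnz.inf (hcj_nz h hh)
    by_cases hIZ : P ⊓ cjg h P ≤ Z
    · right
      intro y hy x hx
      apply hIZ
      refine Subgroup.mem_inf.2 ⟨?_, ?_⟩
      · have h1 : y * x * y⁻¹ ∈ P := hPnz y (hcj_le h hh hy) x hx
        exact P.mul_mem h1 (P.inv_mem hx)
      · have h1 : x * y⁻¹ * x⁻¹ ∈ cjg h P :=
          hcj_nz h hh x (hPN hx) y⁻¹ ((cjg h P).inv_mem hy)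
        have e : y * x * y⁻¹ * x⁻¹ = y * (x * y⁻¹ * x⁻¹) := by group
        rw [e]
        exact (cjg h P).mul_mem hy h1
    · left
      have hIP : P ⊓ cjg h P = P := hPmin _ inf_le_left hI hIZ
      have hle : P ≤ cjg h P := by
        have h1 : P ⊓ cjg h P ≤ cjg h P := inf_le_right
        rwa [hIP] at h1
      exact (Subgroup.eq_of_le_of_card_ge hle (by rw [card_cjg])).symm
  have hD : ⁅P, P⁆ = P ∨ ⁅P, P⁆ ≤ Z := by
    by_cases hDZ : ⁅P, P⁆ ≤ Z
    · exact Or.inr hDZ
    · exact Or.inl (hPmin _ (Subgroup.commutator_le_self P) (nz_commutator hPnz) hDZ)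
  rcases hD with hPperf | hDZ
  · -- `P` perfect
    have hall' : ∀ h ∈ H, cjg h P = P ∨ cjg h P ≤ Subgroup.centralizer (P : Set G) := by
      intro h hh
      rcases hX h hh with heq | hle
      · exact Or.inl heq
      · exact Or.inr (hle.trans (cz_le_centralizer_of_perfect hZ hPperf))
    have hPH : Nz H P := by
      by_contra hnot
      -- `N = P · C_N(P)`
      have hR1 : hcl H P ≤ cprod N P := by
        apply hcl_le
        intro g hg x hx
        rcases hall' g hg with heq | hle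
        · refine ⟨g * x * g⁻¹, ?_, 1, N.one_mem, by simp, by simp⟩
          rw [← heq]
          exact conj_mem_cjg hx
        · have hmem : g * x * g⁻¹ ∈ cjg g P := conj_mem_cjg hx
          refine ⟨1, P.one_mem, g * x * g⁻¹, hcj_le g hg hmem, ?_, by simp⟩
          intro y hy
          exact ((Subgroup.mem_centralizer_iff.1 (hle hmem)) y hy).symm
      have hR2 : hcl H P ≤ N := hcl_le (fun g hg x hx => hnz g hg x (hPN hx))
      have hR3 : ¬ hcl H P ≤ Z := fun hle => hPns ((le_hcl H P).trans hle)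
      have hR : hcl H P = N := hmin _ hR2 (nz_hcl H P) hR3
      have hgen : ∀ x ∈ N, ∃ a ∈ P, ∃ c ∈ N, x = a * c ∧ ∀ y ∈ P, c * y = y * c := by
        intro x hx
        obtain ⟨a, ha, c, hc, hcc, hxac⟩ := hR1 (hR ▸ hx)
        exact ⟨a, ha, c, hc, hxac, hcc⟩
      -- a conjugate different from `P`
      apply hnot
      intro h hh x hx
      rcases hall' h hh with heq | hle
      · rw [← heq]
        exact conj_mem_cjg hx
      · exfalso
        refine hK2b P hPN hPnz hPns hPperf hgen h ?_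
        intro y hy x' hx'
        exact ((Subgroup.mem_centralizer_iff.1 (hle (conj_mem_cjg hy))) x' hx').symm
    exact hmin P hPN hPH hPns
  · -- `⁅P, P⁆ ≤ Z`: impossible
    exfalso
    have hall : ∀ h ∈ H, cjg h P ≤ cz Z P := by
      intro h hh
      rcases hX h hh with heq | hle
      · rw [heq]
        intro y hy x hx
        have := hDZ (Subgroup.commutator_mem_commutator hy hx)
        rwa [commutatorElement_def] at this
      · exact hle
    have hR1 : hcl H P ≤ cz Z P := hcl_le (fun g hg x hx => hall g hg (conj_mem_cjg hx))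
    have hR2 : hcl H P ≤ N := hcl_le (fun g hg x hx => hnz g hg x (hPN hx))
    have hR3 : ¬ hcl H P ≤ Z := fun hle => hPns ((le_hcl H P).trans hle)
    have hR : hcl H P = N := hmin _ hR2 (nz_hcl H P) hR3
    have hN1 : N ≤ cz Z P := hR ▸ hR1
    have hP1 : P ≤ cz Z N := le_cz_symm hN1
    have hT : cz Z N ⊓ N = N := by
      refine hmin _ inf_le_right ((nz_cz hnz).inf hnz) ?_
      intro hle
      exact hPns ((le_inf hP1 hPN).trans hle)
    have hN2 : N ≤ cz Z N := by
      have h1 : cz Z N ⊓ N ≤ cz Z N := inf_le_left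
      rwa [hT] at h1
    have : ⁅N, N⁆ ≤ Z := commutator_le_of_le_cz hN2
    rw [hperf] at this
    exact hns this

end abstract

open Cfsg Cfsg.Geo Cfsg.Agent.Lead.Asch
open scoped MatrixGroups Matrix

variable {n : ℕ} {F : Type*} [Field F]

/-- helper6's stub K2b `no_commuting_conjugate` (with `hsq` already supplied), as a hypothesis. -/
def NoCommConjHyp (n : ℕ) (F : Type*) [Field F] : Prop :=
  ∀ {N P : Subgroup (GL (Fin n) F)}, ActsAbsolutelyIrreducibly (matrixSet N) → P ≤ N →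
    Nzes N P → ¬ P ≤ scalars (Fin n) F → ⁅P, P⁆ = P →
    (∀ x ∈ N, ∃ a ∈ P, ∃ c ∈ N, x = a * c ∧ ∀ y ∈ P, c * y = y * c) →
    ∀ h : GL (Fin n) F, (∀ y ∈ P, ∀ x ∈ P, (h * y * h⁻¹) * x = x * (h * y * h⁻¹)) → False

theorem perfect_case_comp_of [Fintype F] (hK2b : NoCommConjHyp n F) (hn : 2 ≤ n)
    {H N : Subgroup (GL (Fin n) F)}
    (hNH : N ≤ H) (hnz : Nzes H N) (hns : ¬ N ≤ scalars (Fin n) F)
    (hall : ∀ M : Subgroup (GL (Fin n) F), M ≤ H → Nzes H M →
      M ≤ scalars (Fin n) F ∨ ActsAbsolutelyIrreducibly (matrixSet M))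
    (hmin : ∀ M : Subgroup (GL (Fin n) F), M ≤ N → Nzes H M → ¬ M ≤ scalars (Fin n) F → M = N)
    (hperf : ⁅N, N⁆ = N) :
    IsSimpleGroup (N ⧸ (scalars (Fin n) F).subgroupOf N) ∧
    ¬ IsMulCommutative (N ⧸ (scalars (Fin n) F).subgroupOf N) ∧
    (∀ h ∈ H, (∀ x ∈ N, h * x * h⁻¹ * x⁻¹ ∈ scalars (Fin n) F) → h ∈ scalars (Fin n) F) := by
  classical
  have hNabs : ActsAbsolutelyIrreducibly (matrixSet N) := (hall N hNH hnz).resolve_left hns
  have hZ := scalars_central (n := n) (F := F)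
  haveI : Finite (GL (Fin n) F) := inferInstance
  have hdich : ∀ M : Subgroup (GL (Fin n) F), M ≤ N → Nz N M →
      M ≤ scalars (Fin n) F ∨ M = N :=
    main_dichotomy' hZ hNH hnz hns hmin hperf
      (fun P hPN hPnz hPns hPperf hgen h hcomm => hK2b hNabs hPN hPnz hPns hPperf hgen h hcomm)
  refine ⟨isSimpleGroup_quot hns hdich, not_isMulCommutative_quot hns hperf, ?_⟩
  intro h hh hx
  have hmem : h ∈ cz (scalars (Fin n) F) N := hx
  have hcen := cz_le_centralizer_of_perfect hZ hperf hmem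
  exact mem_scalars_of_commute (by omega) hNabs
    (fun x hxN => Subgroup.mem_centralizer_iff.1 hcen x hxN)

end Cfsg.Agent.Helper4.AschP
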