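import Mathlib
import Cfsg.Agent.Helper4.AschPerfectA
import Cfsg.Agent.Helper4.AschPerfectC
import Cfsg.Agent.Helper4.AschPPA

/-!
# ASCH-COMP, perfect case for `n` not a perfect power (helper4), part B: abstract group theory

* `main_dichotomy_of_nz`: the skeleton of `main_dichotomy'` with the linear-algebra input in the form
  "a perfect minimal `N`-normal non-central subgroup all of whose `H`-conjugates are equal to it or centralize it,
  and which generates `N` with its conjugates, is `H`-normal";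
* `exists_pow_of_conj_ne`: in the unit group of a finite-dimensional algebra `R` of dimension `n * n`: if the
  `H`-conjugates of `P` (pairwise equal or commuting) generate a subgroup spanning `R` and `P` spans the span
  of a `d × d` system of matrix units, then `n = d ^ k` with `k` the number of conjugates.
-/

set_option autoImplicit false
set_option linter.style.haveILetI false
set_option linter.unusedVariables false

namespace Cfsg.Agent.Helper4.AschP

open Module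
open scoped Pointwise

section abstract

variable {G : Type*} [Group G] [Finite G]

theorem main_dichotomy_of_nz
    {Z H N : Subgroup G} [Z.Normal] (hZ : ∀ z ∈ Z, ∀ g : G, g * z = z * g)
    (hNH : N ≤ H) (hnz : Nz H N) (hns : ¬ N ≤ Z)
    (hmin : ∀ M : Subgroup G, M ≤ N → Nz H M → ¬ M ≤ Z → M = N)
    (hperf : ⁅N, N⁆ = N)
    (hK : ∀ P : Subgroup G, P ≤ N → Nz N P → ¬ P ≤ Z → ⁅P, P⁆ = P →
      (∀ x ∈ N, ∃ a ∈ P, ∃ c ∈ N, x = a * c ∧ ∀ y ∈ P, c * y = y * c) →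
      (∀ h ∈ H, cjg h P = P ∨ cjg h P ≤ Subgroup.centralizer (P : Set G)) →
      hcl H P = N → Nz H P)
    (M : Subgroup G) (hMN : M ≤ N) (hMnz : Nz N M) : M ≤ Z ∨ M = N := by
  classical
  by_contra hcon
  push Not at hcon
  obtain ⟨hMns, hMne⟩ := hcon
  haveI : Finite (Subgroup G) := inferInstance
  let S : Set (Subgroup G) := {Q | Q ≤ M ∧ Nz N Q ∧ ¬ Q ≤ Z}
  have hS : S.Nonempty := ⟨M, le_refl M, hMnz, hMns⟩
  obtain ⟨P, hP, hPmin'⟩ := (Set.toFinite S).exists_minimal hS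
  obtain ⟨hPM, hPnz, hPns⟩ := hP
  have hPN : P ≤ N := hPM.trans hMN
  have hPmin : ∀ Q : Subgroup G, Q ≤ P → Nz N Q → ¬ Q ≤ Z → Q = P := by
    intro Q hQP hQnz hQns
    have hQS : Q ∈ S := ⟨hQP.trans hPM, hQnz, hQns⟩
    exact le_antisymm hQP (hPmin' hQS hQP)
  suffices hPeq : P = N by
    apply hMne
    exact le_antisymm hMN (hPeq ▸ hPM)
  have hcj_le : ∀ h ∈ H, cjg h P ≤ N := by
    intro h hh y hy
    have := hnz h hh _ (hPN (mem_cjg_iff.1 hy))
    simpa [mul_assoc] using this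
  have hcj_nz : ∀ h ∈ H, Nz N (cjg h P) := by
    intro h hh g hg y hy
    rw [mem_cjg_iff] at hy ⊢
    have hg' : h⁻¹ * g * h ∈ N := hnz.inv_conj hh hg
    have := hPnz _ hg' _ hy
    have e : h⁻¹ * (g * y * g⁻¹) * h = h⁻¹ * g * h * (h⁻¹ * y * h) * (h⁻¹ * g * h)⁻¹ := by group
    rw [e]
    exact this
  have hX : ∀ h ∈ H, cjg h P = P ∨ cjg h P ≤ cz Z P := by
    intro h hh
    have hI : Nz N (P ⊓ cjg h P) := hPnz.inf (hcj_nz h hh)
    by_cases hIZ : P ⊓ cjg h P ≤ Z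
    · right
      intro y hy x hx
      apply hIZ
      refine Subgroup.mem_inf.2 ⟨?_, ?_⟩
      · have h1 : y * x * y⁻¹ ∈ P := hPnz y (hcj_le h hh hy) x hx
        exact P.mul_mem h1 (P.inv_mem hx)
      · have h1 : x * y⁻¹ * x⁻¹ ∈ cjg h P :=
          hcj_nz h hh x (hPN hx) y⁻¹ ((cjg h P).inv_mem hy)
        have e : y * x * y⁻¹ * x⁻¹ = y * (x * y⁻¹ * x⁻¹) := by group
        rw [e]
        exact (cjg h P).mul_mem hy h1
    · left
      have hIP : P ⊓ cjg h P = P := hPmin _ inf_le_left hI hIZ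
      have hle : P ≤ cjg h P := by
        have h1 : P ⊓ cjg h P ≤ cjg h P := inf_le_right
        rwa [hIP] at h1
      exact (Subgroup.eq_of_le_of_card_ge hle (by rw [card_cjg])).symm
  have hD : ⁅P, P⁆ = P ∨ ⁅P, P⁆ ≤ Z := by
    by_cases hDZ : ⁅P, P⁆ ≤ Z
    · exact Or.inr hDZ
    · exact Or.inl (hPmin _ (Subgroup.commutator_le_self P) (nz_commutator hPnz) hDZ)
  have hR2 : hcl H P ≤ N := hcl_le (fun g hg x hx => hnz g hg x (hPN hx))
  have hR3 : ¬ hcl H P ≤ Z := fun hle => hPns ((le_hcl H P).trans hle)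
  have hR : hcl H P = N := hmin _ hR2 (nz_hcl H P) hR3
  rcases hD with hPperf | hDZ
  · -- `P` perfect
    have hall' : ∀ h ∈ H, cjg h P = P ∨ cjg h P ≤ Subgroup.centralizer (P : Set G) := by
      intro h hh
      rcases hX h hh with heq | hle
      · exact Or.inl heq
      · exact Or.inr (hle.trans (cz_le_centralizer_of_perfect hZ hPperf))
    have hR1 : hcl H P ≤ cprod N P := by
      apply hcl_le
      intro g hg x hx
      rcases hall' g hg with heq | hle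
      · refine ⟨g * x * g⁻¹, ?_, 1, N.one_mem, by simp, by simp⟩
        rw [← heq]
        exact conj_mem_cjg hx
      · have hmem : g * x * g⁻¹ ∈ cjg g P := conj_mem_cjg hx
        refine ⟨1, P.one_mem, g * x * g⁻¹, hcj_le g hg hmem, ?_, by simp⟩
        intro y hy
        exact ((Subgroup.mem_centralizer_iff.1 (hle hmem)) y hy).symm
    have hgen : ∀ x ∈ N, ∃ a ∈ P, ∃ c ∈ N, x = a * c ∧ ∀ y ∈ P, c * y = y * c := by
      intro x hx
      obtain ⟨a, ha, c, hc, hcc, hxac⟩ := hR1 (hR ▸ hx)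
      exact ⟨a, ha, c, hc, hxac, hcc⟩
    have hPH : Nz H P := hK P hPN hPnz hPns hPperf hgen hall' hR
    exact hmin P hPN hPH hPns
  · -- `⁅P, P⁆ ≤ Z`: impossible
    exfalso
    have hall : ∀ h ∈ H, cjg h P ≤ cz Z P := by
      intro h hh
      rcases hX h hh with heq | hle
      · rw [heq]
        intro y hy x hx
        have := hDZ (Subgroup.commutator_mem_commutator hy hx)
        rwa [commutatorElement_def] at this
      · exact hle
    have hR1 : hcl H P ≤ cz Z P := hcl_le (fun g hg x hx => hall g hg (conj_mem_cjg hx))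
    have hN1 : N ≤ cz Z P := hR ▸ hR1
    have hP1 : P ≤ cz Z N := le_cz_symm hN1
    have hT : cz Z N ⊓ N = N := by
      refine hmin _ inf_le_right ((nz_cz hnz).inf hnz) ?_
      intro hle
      exact hPns ((le_inf hP1 hPN).trans hle)
    have hN2 : N ≤ cz Z N := by
      have h1 : cz Z N ⊓ N ≤ cz Z N := inf_le_left
      rwa [hT] at h1
    have : ⁅N, N⁆ ≤ Z := commutator_le_of_le_cz hN2
    rw [hperf] at this
    exact hns this

theorem cjg_mul (g h : G) (P : Subgroup G) : cjg g (cjg h P) = cjg (g * h) P := by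
  ext y
  rw [mem_cjg_iff, mem_cjg_iff, mem_cjg_iff]
  have e : h⁻¹ * (g⁻¹ * y * g) * h = (g * h)⁻¹ * y * (g * h) := by group
  rw [e]

theorem cjg_one (P : Subgroup G) : cjg 1 P = P := by
  ext y
  rw [mem_cjg_iff]
  simp

end abstract

section units

variable {F R : Type*} [Field F] [Ring R] [Algebra F R]

/-- conjugation by a unit, as a linear equivalence -/
def conjL (F : Type*) {R : Type*} [Field F] [Ring R] [Algebra F R] (h : Rˣ) : R ≃ₗ[F] R where
  toFun x := (h : R) * x * ((h⁻¹ : Rˣ) : R)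
  invFun x := ((h⁻¹ : Rˣ) : R) * x * (h : R)
  map_add' x y := by rw [mul_add, add_mul]
  map_smul' c x := by simp
  left_inv x := by
    show ((h⁻¹ : Rˣ) : R) * ((h : R) * x * ((h⁻¹ : Rˣ) : R)) * (h : R) = x
    calc ((h⁻¹ : Rˣ) : R) * ((h : R) * x * ((h⁻¹ : Rˣ) : R)) * (h : R)
        = (((h⁻¹ : Rˣ) : R) * (h : R)) * x * (((h⁻¹ : Rˣ) : R) * (h : R)) := by simp only [mul_assoc]
      _ = x := by rw [Units.inv_mul, one_mul, mul_one]
  right_inv x := by
    show (h : R) * (((h⁻¹ : Rˣ) : R) * x * (h : R)) * ((h⁻¹ : Rˣ) : R) = x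
    calc (h : R) * (((h⁻¹ : Rˣ) : R) * x * (h : R)) * ((h⁻¹ : Rˣ) : R)
        = ((h : R) * ((h⁻¹ : Rˣ) : R)) * x * ((h : R) * ((h⁻¹ : Rˣ) : R)) := by simp only [mul_assoc]
      _ = x := by rw [Units.mul_inv, one_mul, mul_one]

theorem conjL_apply (h : Rˣ) (x : R) : conjL F h x = (h : R) * x * ((h⁻¹ : Rˣ) : R) := rfl

theorem conjL_mul (h : Rˣ) (x y : R) : conjL F h (x * y) = conjL F h x * conjL F h y := by
  rw [conjL_apply, conjL_apply, conjL_apply]
  calc (h : R) * (x * y) * ((h⁻¹ : Rˣ) : R)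
      = (h : R) * x * (1 : R) * y * ((h⁻¹ : Rˣ) : R) := by simp only [mul_assoc, one_mul]
    _ = (h : R) * x * (((h⁻¹ : Rˣ) : R) * (h : R)) * y * ((h⁻¹ : Rˣ) : R) := by rw [Units.inv_mul]
    _ = (h : R) * x * ((h⁻¹ : Rˣ) : R) * ((h : R) * y * ((h⁻¹ : Rˣ) : R)) := by simp only [mul_assoc]

theorem conjL_one (h : Rˣ) : conjL F h (1 : R) = 1 := by
  rw [conjL_apply, mul_one, Units.mul_inv]

theorem isUnitsSys_conj {d : ℕ} {E : Fin d → Fin d → R} (hE : IsUnitsSys E) (h : Rˣ) :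
    IsUnitsSys (fun a b => conjL F h (E a b)) := by
  refine ⟨fun a b c e => ?_, ?_⟩
  · show conjL F h (E a b) * conjL F h (E c e) = _
    rw [← conjL_mul, hE.mul]
    split_ifs
    · rfl
    · exact map_zero _
  · show ∑ a, conjL F h (E a a) = 1
    rw [← map_sum, hE.sum, conjL_one]

theorem mset_cjg [Finite Rˣ] (h : Rˣ) (Q : Subgroup Rˣ) : mset (cjg h Q) = conjL F h '' mset Q := by
  ext s
  constructor
  · rintro ⟨_, ⟨x, hx, rfl⟩, rfl⟩
    refine ⟨(x : R), ⟨x, hx, rfl⟩, ?_⟩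
    rw [conjL_apply]
    simp
  · rintro ⟨_, ⟨x, hx, rfl⟩, rfl⟩
    refine ⟨h * x * h⁻¹, conj_mem_cjg hx, ?_⟩
    rw [conjL_apply]
    simp

theorem hasUnitsSys_cjg [Finite Rˣ] {d : ℕ} {Q : Subgroup Rˣ} (hQ : HasUnitsSys F d Q) (h : Rˣ) :
    HasUnitsSys F d (cjg h Q) := by
  obtain ⟨E, hE, hEQ⟩ := hQ
  refine ⟨fun a b => conjL F h (E a b), isUnitsSys_conj hE h, ?_⟩
  have key : ∀ S : Set R, Submodule.span F (conjL F h '' S) =
      (Submodule.span F S).map (conjL F h : R →ₗ[F] R) := fun S => (Submodule.map_span _ S).symm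
  unfold gspan
  rw [mset_cjg (F := F), key, ← gspan, ← hEQ]
  unfold uspan
  rw [← key]
  congr 1
  ext s
  constructor
  · rintro ⟨p, rfl⟩
    exact ⟨_, ⟨p, rfl⟩, rfl⟩
  · rintro ⟨_, ⟨p, rfl⟩, rfl⟩
    exact ⟨p, rfl⟩

/-- **the count**: if `P` has a conjugate under `H` different from itself, then `n = d ^ k` with `k ≥ 2` -/
theorem exists_pow_of_conj_ne [Module.Finite F R] [Nontrivial R] [Finite Rˣ] {n d : ℕ}
    (hRn : finrank F R = n * n) {H N P : Subgroup Rˣ}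
    (hall : ∀ h ∈ H, cjg h P = P ∨ cjg h P ≤ Subgroup.centralizer (P : Set Rˣ))
    (hgen : hcl H P = N) (htop : gspan F N = ⊤) (hu : HasUnitsSys F d P)
    {h₀ : Rˣ} (hh₀ : h₀ ∈ H) (hne : cjg h₀ P ≠ P) : ∃ k, 2 ≤ k ∧ n = d ^ k := by
  classical
  haveI : Finite (Subgroup Rˣ) := inferInstance
  let S : Set (Subgroup Rˣ) := {Q | ∃ h ∈ H, Q = cjg h P}
  have hSfin : S.Finite := Set.toFinite S
  let 𝒬 : Finset (Subgroup Rˣ) := hSfin.toFinset
  have hmem : ∀ Q, Q ∈ 𝒬 ↔ ∃ h ∈ H, Q = cjg h P := fun Q => hSfin.mem_toFinset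
  have hcomm : ∀ Q₁ ∈ 𝒬, ∀ Q₂ ∈ 𝒬, Q₁ ≠ Q₂ → ∀ x ∈ Q₁, ∀ y ∈ Q₂, x * y = y * x := by
    intro Q₁ h₁ Q₂ h₂ hne12 x hx y hy
    obtain ⟨g₁, hg₁, rfl⟩ := (hmem Q₁).1 h₁
    obtain ⟨g₂, hg₂, rfl⟩ := (hmem Q₂).1 h₂
    have hg : g₁⁻¹ * g₂ ∈ H := H.mul_mem (H.inv_mem hg₁) hg₂
    rcases hall _ hg with heq | hle
    · exfalso
      apply hne12
      have := congrArg (cjg g₁) heq
      rw [cjg_mul, mul_inv_cancel_left] at this
      exact this.symm
    · rw [mem_cjg_iff] at hx hy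
      have h1 : g₁⁻¹ * y * g₁ ∈ cjg (g₁⁻¹ * g₂) P := by
        rw [mem_cjg_iff]
        have e : (g₁⁻¹ * g₂)⁻¹ * (g₁⁻¹ * y * g₁) * (g₁⁻¹ * g₂) = g₂⁻¹ * y * g₂ := by group
        rw [e]
        exact hy
      have h2 := (Subgroup.mem_centralizer_iff.1 (hle h1)) _ hx
      -- h2 : g₁⁻¹ x g₁ * (g₁⁻¹ y g₁) = (g₁⁻¹ y g₁) * g₁⁻¹ x g₁
      have e1 : x * y = g₁ * ((g₁⁻¹ * x * g₁) * (g₁⁻¹ * y * g₁)) * g₁⁻¹ := by group
      have e2 : y * x = g₁ * ((g₁⁻¹ * y * g₁) * (g₁⁻¹ * x * g₁)) * g₁⁻¹ := by group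
      rw [e1, e2, h2]
  have hus : ∀ Q ∈ 𝒬, HasUnitsSys F d Q := by
    intro Q hQ
    obtain ⟨g, hg, rfl⟩ := (hmem Q).1 hQ
    exact hasUnitsSys_cjg hu g
  have hsup : 𝒬.sup id = N := by
    rw [← hgen]
    apply le_antisymm
    · apply Finset.sup_le
      intro Q hQ
      obtain ⟨g, hg, rfl⟩ := (hmem Q).1 hQ
      rintro _ ⟨x, hx, rfl⟩
      refine Subgroup.subset_closure ⟨g, hg, x, hx, ?_⟩
      simp
    · apply hcl_le
      intro g hg x hx
      have h1 : cjg g P ≤ 𝒬.sup id :=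
        Finset.le_sup (f := id) ((hmem (cjg g P)).2 ⟨g, hg, rfl⟩)
      exact h1 (conj_mem_cjg hx)
  have hcard : 2 ≤ 𝒬.card := by
    have h1 : P ∈ 𝒬 := (hmem P).2 ⟨1, H.one_mem, (cjg_one P).symm⟩
    have h2 : cjg h₀ P ∈ 𝒬 := (hmem _).2 ⟨h₀, hh₀, rfl⟩
    exact Finset.one_lt_card.2 ⟨_, h2, _, h1, hne⟩
  have hfr := finrank_gspan_iSup (F := F) 𝒬 hcomm hus
  rw [hsup, htop, finrank_top, hRn, mul_pow, ← pow_two, ← pow_two] at hfr
  refine ⟨𝒬.card, hcard, ?_⟩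
  exact Nat.pow_left_injective (n := 2) (by norm_num) hfr

end units

end Cfsg.Agent.Helper4.AschP
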