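import Mathlib
import Cfsg.Prelude.Def_GeometricClasses
import Cfsg.Agent.Lead.AschBase
import Cfsg.Agent.Helper5.AschHom4
import Cfsg.Agent.Helper5.AschK1a
import Cfsg.Agent.Helper5.AschBurnside
import Cfsg.Agent.Helper9.AschCompHom
import Cfsg.Agent.Helper4.AschPerfectB
import Cfsg.Agent.Helper4.AschPPB

/-!
# ASCH-COMP, perfect case for `n` not a perfect power (helper4), part C: matrices

`perfect_case_pp`: the perfect case of the Aschbacher analysis in dimension `n` not a perfect power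
(covers `n` prime, `n` squarefree, `n = 12`, ...).
-/

set_option autoImplicit false
set_option linter.style.haveILetI false
set_option linter.unusedVariables false

namespace Cfsg.Agent.Helper4.AschP

open Cfsg Cfsg.Geo Cfsg.Agent.Lead.Asch Cfsg.Agent.Helper5.Asch
open scoped MatrixGroups Matrix Kronecker
open Module

variable {n : ℕ} {F : Type*} [Field F]

/-- the embedding `m ↦ Q (1_e ⊗ m) Q⁻¹` of `M_d(F)` into `M_n(F)` -/
noncomputable def kemb {d e : ℕ} (eqv : Fin n ≃ Fin e × Fin d) (Q : GL (Fin n) F) :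
    Matrix (Fin d) (Fin d) F →ₗ[F] Matrix (Fin n) (Fin n) F where
  toFun m := (Q : Matrix (Fin n) (Fin n) F) * ((1 : Matrix (Fin e) (Fin e) F) ⊗ₖ m).submatrix eqv eqv *
    ((Q⁻¹ : GL (Fin n) F) : Matrix (Fin n) (Fin n) F)
  map_add' a b := by
    simp only [Matrix.kronecker_add, Matrix.submatrix_add, Pi.add_apply, Matrix.mul_add, Matrix.add_mul]
  map_smul' c a := by
    simp only [Matrix.kronecker_smul, Matrix.submatrix_smul, Pi.smul_apply, Matrix.mul_smul,
      Matrix.smul_mul, RingHom.id_apply]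

theorem kemb_apply {d e : ℕ} (eqv : Fin n ≃ Fin e × Fin d) (Q : GL (Fin n) F)
    (m : Matrix (Fin d) (Fin d) F) :
    kemb eqv Q m = (Q : Matrix (Fin n) (Fin n) F) *
      ((1 : Matrix (Fin e) (Fin e) F) ⊗ₖ m).submatrix eqv eqv *
      ((Q⁻¹ : GL (Fin n) F) : Matrix (Fin n) (Fin n) F) := rfl

theorem kemb_mul {d e : ℕ} (eqv : Fin n ≃ Fin e × Fin d) (Q : GL (Fin n) F)
    (a b : Matrix (Fin d) (Fin d) F) : kemb eqv Q (a * b) = kemb eqv Q a * kemb eqv Q b := by
  rw [kemb_apply, kemb_apply, kemb_apply]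
  have h1 : ((1 : Matrix (Fin e) (Fin e) F) ⊗ₖ (a * b)).submatrix eqv eqv =
      ((1 : Matrix (Fin e) (Fin e) F) ⊗ₖ a).submatrix eqv eqv *
        ((1 : Matrix (Fin e) (Fin e) F) ⊗ₖ b).submatrix eqv eqv := by
    rw [Matrix.submatrix_mul_equiv, ← Matrix.mul_kronecker_mul, Matrix.one_mul]
  rw [h1]
  set A := ((1 : Matrix (Fin e) (Fin e) F) ⊗ₖ a).submatrix eqv eqv
  set B := ((1 : Matrix (Fin e) (Fin e) F) ⊗ₖ b).submatrix eqv eqv
  calc (Q : Matrix (Fin n) (Fin n) F) * (A * B) * ((Q⁻¹ : GL (Fin n) F) : Matrix (Fin n) (Fin n) F)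
      = (Q : Matrix (Fin n) (Fin n) F) * A * (1 : Matrix (Fin n) (Fin n) F) * B *
          ((Q⁻¹ : GL (Fin n) F) : Matrix (Fin n) (Fin n) F) := by
        simp only [Matrix.mul_assoc, Matrix.one_mul]
    _ = (Q : Matrix (Fin n) (Fin n) F) * A * (((Q⁻¹ : GL (Fin n) F) : Matrix (Fin n) (Fin n) F) *
          (Q : Matrix (Fin n) (Fin n) F)) * B * ((Q⁻¹ : GL (Fin n) F) : Matrix (Fin n) (Fin n) F) := by
        rw [Units.inv_mul]
    _ = _ := by simp only [Matrix.mul_assoc]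

theorem kemb_one {d e : ℕ} (eqv : Fin n ≃ Fin e × Fin d) (Q : GL (Fin n) F) :
    kemb eqv Q (1 : Matrix (Fin d) (Fin d) F) = 1 := by
  rw [kemb_apply, Matrix.one_kronecker_one, Matrix.submatrix_one_equiv, Matrix.mul_one, Units.mul_inv]

theorem isUnitsSys_kemb {d e : ℕ} (eqv : Fin n ≃ Fin e × Fin d) (Q : GL (Fin n) F) :
    IsUnitsSys (fun a b : Fin d => kemb eqv Q (Matrix.single a b (1 : F))) := by
  refine ⟨fun a b c e' => ?_, ?_⟩
  · show kemb eqv Q (Matrix.single a b (1 : F)) * kemb eqv Q (Matrix.single c e' (1 : F)) = _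
    rw [← kemb_mul]
    by_cases h : b = c
    · subst h
      rw [if_pos rfl, Matrix.single_mul_single_same, mul_one]
    · rw [if_neg h, Matrix.single_mul_single_of_ne (1 : F) a b c h (1 : F), map_zero]
  · show ∑ a, kemb eqv Q (Matrix.single a a (1 : F)) = 1
    rw [← map_sum, Matrix.sum_single_one, kemb_one]

theorem span_single_eq_top (d : ℕ) :
    Submodule.span F (Set.range fun p : Fin d × Fin d => Matrix.single p.1 p.2 (1 : F)) = ⊤ := by
  rw [eq_top_iff]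
  intro m _
  rw [Matrix.matrix_eq_sum_single m]
  refine Submodule.sum_mem _ (fun i _ => Submodule.sum_mem _ (fun j _ => ?_))
  have h1 : Matrix.single i j (m i j) = m i j • Matrix.single i j (1 : F) := by
    rw [Matrix.smul_single, smul_eq_mul, mul_one]
  rw [h1]
  exact Submodule.smul_mem _ _ (Submodule.subset_span ⟨(i, j), rfl⟩)

/-- a homogeneous normal subgroup with trivial centre of the commutant spans a copy of `M_d(F)` -/
theorem hasUnitsSys_of_gen [Fintype F] (hn : 0 < n) {N P : Subgroup (GL (Fin n) F)}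
    (hNabs : ActsAbsolutelyIrreducibly (matrixSet N)) (hPnz : Nzes N P)
    (hPns : ¬ P ≤ scalars (Fin n) F)
    (hgen : ∀ x ∈ N, ∃ a ∈ P, ∃ c ∈ N, x = a * c ∧ ∀ y ∈ P, c * y = y * c) :
    ∃ d, 2 ≤ d ∧ HasUnitsSys F d (R := Matrix (Fin n) (Fin n) F) P := by
  classical
  -- `P` is homogeneous
  have hfi : ∀ U : Submodule F (Fin n → F), Inv P U →
      (∀ c : Matrix (Fin n) (Fin n) F, (∀ s ∈ matrixSet P, c * s = s * c) →
        U.map (Matrix.toLin' c) ≤ U) → U = ⊥ ∨ U = ⊤ := by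
    intro U hU hc
    apply hNabs.1 U
    intro s hs
    obtain ⟨x, hxN, rfl⟩ := mem_matrixSet_iff.1 hs
    obtain ⟨a, ha, c, hcN, rfl, hcc⟩ := hgen x hxN
    rw [Units.val_mul, Matrix.toLin'_mul, Submodule.map_comp]
    have h1 : U.map (Matrix.toLin' (c : Matrix (Fin n) (Fin n) F)) ≤ U := by
      apply hc
      intro s' hs'
      obtain ⟨y, hyP, rfl⟩ := mem_matrixSet_iff.1 hs'
      rw [← Units.val_mul, ← Units.val_mul, hcc y hyP]
    exact le_trans (Submodule.map_mono h1) (hU a ha)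
  have hhom : ∀ X : Submodule F (Fin n → F), FullyInv P X → X = ⊥ ∨ X = ⊤ :=
    Cfsg.Agent.Helper5.AschK.fullInv_iff.1 hfi
  -- the centre of the commutant is trivial
  have hct : ∀ M : Matrix (Fin n) (Fin n) F, (∀ s ∈ matrixSet P, M * s = s * M) →
      (∀ c : Matrix (Fin n) (Fin n) F, (∀ s ∈ matrixSet P, c * s = s * c) → M * c = c * M) →
      ∃ a : F, M = a • (1 : Matrix (Fin n) (Fin n) F) := by
    intro M hM1 hM2
    apply hNabs.2 M
    intro s hs
    obtain ⟨x, hxN, rfl⟩ := mem_matrixSet_iff.1 hs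
    obtain ⟨a, ha, c, hcN, rfl, hcc⟩ := hgen x hxN
    have h1 : M * (a : Matrix (Fin n) (Fin n) F) = (a : Matrix (Fin n) (Fin n) F) * M :=
      hM1 _ (coe_mem_matrixSet ha)
    have h2 : M * (c : Matrix (Fin n) (Fin n) F) = (c : Matrix (Fin n) (Fin n) F) * M := by
      apply hM2
      intro s' hs'
      obtain ⟨y, hyP, rfl⟩ := mem_matrixSet_iff.1 hs'
      rw [← Units.val_mul, ← Units.val_mul, hcc y hyP]
    rw [Units.val_mul, ← Matrix.mul_assoc, h1, Matrix.mul_assoc, h2, Matrix.mul_assoc]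
  obtain ⟨d, e, eqv, Q, ρ, hd, he, hrel, hirr, -⟩ := homog_data hn hNabs.1 hPnz hhom
  have habs := Cfsg.Agent.Helper9.AschComp.rho_absIrred_of_centreTrivial he eqv Q ρ hrel hirr hct
  have htop : Submodule.span F (matrixSet ρ.range) = ⊤ := by
    apply Cfsg.Agent.Helper5.AschK.span_matrixSet_eq_top
    rw [Cfsg.Agent.Helper9.AschComp.matrixSet_range]
    exact habs
  have hd2 : 2 ≤ d := by
    rcases Nat.lt_or_ge d 2 with h | h
    · exfalso
      have hd1 : d = 1 := by omega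
      subst hd1
      exact hPns (Cfsg.Agent.Helper9.AschComp.le_scalars_of_dim_one eqv Q ρ hrel)
    · exact h
  refine ⟨d, hd2, fun a b => kemb eqv Q (Matrix.single a b (1 : F)), isUnitsSys_kemb eqv Q, ?_⟩
  -- both spans are the image of `⊤`
  have hx : ∀ x : P, ((x : GL (Fin n) F) : Matrix (Fin n) (Fin n) F) =
      kemb eqv Q ((ρ x : GL (Fin d) F) : Matrix (Fin d) (Fin d) F) := by
    intro x
    rw [kemb_apply, ← hrel x, Matrix.mul_assoc, Units.mul_inv, Matrix.mul_one]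
  have h1 : uspan F (fun a b : Fin d => kemb eqv Q (Matrix.single a b (1 : F))) =
      (⊤ : Submodule F (Matrix (Fin d) (Fin d) F)).map (kemb eqv Q) := by
    rw [← span_single_eq_top d, Submodule.map_span]
    unfold uspan
    congr 1
    ext s
    constructor
    · rintro ⟨p, rfl⟩
      exact ⟨_, ⟨p, rfl⟩, rfl⟩
    · rintro ⟨_, ⟨p, rfl⟩, rfl⟩
      exact ⟨p, rfl⟩
  have h2 : gspan F (R := Matrix (Fin n) (Fin n) F) P =
      (⊤ : Submodule F (Matrix (Fin d) (Fin d) F)).map (kemb eqv Q) := by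
    rw [← htop, Submodule.map_span]
    unfold gspan
    congr 1
    ext s
    constructor
    · rintro ⟨x, hxP, rfl⟩
      refine ⟨((ρ ⟨x, hxP⟩ : GL (Fin d) F) : Matrix (Fin d) (Fin d) F), ?_, (hx ⟨x, hxP⟩).symm⟩
      exact coe_mem_matrixSet ⟨⟨x, hxP⟩, rfl⟩
    · rintro ⟨_, hm, rfl⟩
      obtain ⟨g, ⟨x, rfl⟩, rfl⟩ := mem_matrixSet_iff.1 hm
      exact ⟨(x : GL (Fin n) F), x.2, hx x⟩
  rw [h1, h2]

/-- the linear-algebra input of the perfect case for `n` not a perfect power -/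
theorem nz_of_not_perfect_power [Fintype F] (hn : 0 < n)
    (hpp : ¬ ∃ d k : ℕ, 2 ≤ d ∧ 2 ≤ k ∧ n = d ^ k) {H N P : Subgroup (GL (Fin n) F)}
    (hNabs : ActsAbsolutelyIrreducibly (matrixSet N)) (hPnz : Nzes N P)
    (hPns : ¬ P ≤ scalars (Fin n) F)
    (hgen : ∀ x ∈ N, ∃ a ∈ P, ∃ c ∈ N, x = a * c ∧ ∀ y ∈ P, c * y = y * c)
    (hall : ∀ h ∈ H, cjg h P = P ∨ cjg h P ≤ Subgroup.centralizer (P : Set (GL (Fin n) F)))
    (hR : hcl H P = N) : Nz H P := by
  classical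
  haveI : NeZero n := ⟨hn.ne'⟩
  haveI : Finite (GL (Fin n) F) := inferInstance
  by_contra hnot
  unfold Nz at hnot
  push Not at hnot
  obtain ⟨h₀, hh₀, x, hxP, hx⟩ := hnot
  have hne : cjg h₀ P ≠ P := by
    intro heq
    apply hx
    rw [← heq]
    exact conj_mem_cjg hxP
  obtain ⟨d, hd2, hu⟩ := hasUnitsSys_of_gen hn hNabs hPnz hPns hgen
  have hRn : finrank F (Matrix (Fin n) (Fin n) F) = n * n := by
    rw [Module.finrank_matrix]
    simp
  have htop : gspan F (R := Matrix (Fin n) (Fin n) F) N = ⊤ :=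
    Cfsg.Agent.Helper5.AschK.span_matrixSet_eq_top hNabs
  obtain ⟨k, hk, hnk⟩ := exists_pow_of_conj_ne (F := F) (R := Matrix (Fin n) (Fin n) F) hRn hall hR htop hu
    hh₀ hne
  exact hpp ⟨d, k, hd2, hk, hnk⟩

/-- **the perfect case, `n` not a perfect power** -/
theorem perfect_case_pp [Fintype F] (hn : 2 ≤ n) (hpp : ¬ ∃ d k : ℕ, 2 ≤ d ∧ 2 ≤ k ∧ n = d ^ k)
    {H N : Subgroup (GL (Fin n) F)}
    (hNH : N ≤ H) (hnz : Nzes H N) (hns : ¬ N ≤ scalars (Fin n) F)
    (hall : ∀ M : Subgroup (GL (Fin n) F), M ≤ H → Nzes H M →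
      M ≤ scalars (Fin n) F ∨ ActsAbsolutelyIrreducibly (matrixSet M))
    (hmin : ∀ M : Subgroup (GL (Fin n) F), M ≤ N → Nzes H M → ¬ M ≤ scalars (Fin n) F → M = N)
    (hperf : ⁅N, N⁆ = N) :
    IsSimpleGroup (N ⧸ (scalars (Fin n) F).subgroupOf N) ∧
    ¬ IsMulCommutative (N ⧸ (scalars (Fin n) F).subgroupOf N) ∧
    (∀ h ∈ H, (∀ x ∈ N, h * x * h⁻¹ * x⁻¹ ∈ scalars (Fin n) F) → h ∈ scalars (Fin n) F) := by
  classical
  have hNabs : ActsAbsolutelyIrreducibly (matrixSet N) := (hall N hNH hnz).resolve_left hns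
  have hZ := scalars_central (n := n) (F := F)
  haveI : Finite (GL (Fin n) F) := inferInstance
  have hdich : ∀ M : Subgroup (GL (Fin n) F), M ≤ N → Nz N M →
      M ≤ scalars (Fin n) F ∨ M = N :=
    main_dichotomy_of_nz hZ hNH hnz hns hmin hperf
      (fun P hPN hPnz hPns hPperf hgen hall' hR =>
        nz_of_not_perfect_power (by omega) hpp hNabs hPnz hPns hgen hall' hR)
  refine ⟨isSimpleGroup_quot hns hdich, not_isMulCommutative_quot hns hperf, ?_⟩
  intro h hh hx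
  have hmem : h ∈ cz (scalars (Fin n) F) N := hx
  have hcen := cz_le_centralizer_of_perfect hZ hperf hmem
  exact mem_scalars_of_commute (by omega) hNabs
    (fun x hxN => Subgroup.mem_centralizer_iff.1 hcen x hxN)

/-- the squarefree case (helper6's stub `perfect_case_comp`, exact) -/
theorem perfect_case_comp [Fintype F] (hn : 2 ≤ n) (hsq : ∀ d : ℕ, d * d ∣ n → d = 1)
    {H N : Subgroup (GL (Fin n) F)}
    (hNH : N ≤ H) (hnz : Nzes H N) (hns : ¬ N ≤ scalars (Fin n) F)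
    (hall : ∀ M : Subgroup (GL (Fin n) F), M ≤ H → Nzes H M →
      M ≤ scalars (Fin n) F ∨ ActsAbsolutelyIrreducibly (matrixSet M))
    (hmin : ∀ M : Subgroup (GL (Fin n) F), M ≤ N → Nzes H M → ¬ M ≤ scalars (Fin n) F → M = N)
    (hperf : ⁅N, N⁆ = N) :
    IsSimpleGroup (N ⧸ (scalars (Fin n) F).subgroupOf N) ∧
    ¬ IsMulCommutative (N ⧸ (scalars (Fin n) F).subgroupOf N) ∧
    (∀ h ∈ H, (∀ x ∈ N, h * x * h⁻¹ * x⁻¹ ∈ scalars (Fin n) F) → h ∈ scalars (Fin n) F) := by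
  refine perfect_case_pp hn ?_ hNH hnz hns hall hmin hperf
  rintro ⟨d, k, hd, hk, rfl⟩
  have h1 : d * d ∣ d ^ k := by
    obtain ⟨j, rfl⟩ : ∃ j, k = 2 + j := ⟨k - 2, by omega⟩
    rw [pow_add, pow_two]
    exact dvd_mul_right _ _
  have := hsq d h1
  omega

end Cfsg.Agent.Helper4.AschP
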