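import Mathlib
import Cfsg.Prelude.Def_GeometricClasses
import Cfsg.Agent.Helper9.AschC6Base

/-!
# ASCH-PP, tensor-induced case (helper4), part E: pure tensors and factor permutations

`ptens M x y = ∏ i, M i (x i) (y i)` (multiplicative in `M`), `stdEmb d k i m = ptens (update 1 i m)`,
`fperm σ x y = [y = x ∘ σ]`, and their conjugation action on the factor algebras.
-/

set_option autoImplicit false
set_option linter.style.haveILetI false
set_option linter.unusedVariables false

namespace Cfsg.Agent.Helper4.AschTI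

open Cfsg Cfsg.Geo Cfsg.Agent.Helper9.AschC6
open scoped MatrixGroups Matrix

variable {F : Type*} [Field F] {d k : ℕ}

/-- the tensor product of a family of `d × d` matrices -/
def ptens (M : Fin k → Matrix (Fin d) (Fin d) F) : Matrix (Fin k → Fin d) (Fin k → Fin d) F :=
  fun x y => ∏ i, M i (x i) (y i)

theorem ptens_apply (M : Fin k → Matrix (Fin d) (Fin d) F) (x y : Fin k → Fin d) :
    ptens M x y = ∏ i, M i (x i) (y i) := rfl

theorem ptens_mul (M M' : Fin k → Matrix (Fin d) (Fin d) F) :
    ptens M * ptens M' = ptens (fun i => M i * M' i) := by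
  classical
  ext x z
  rw [Matrix.mul_apply, ptens_apply]
  simp only [ptens_apply, Matrix.mul_apply]
  rw [Finset.prod_univ_sum, Fintype.piFinset_univ]
  refine Finset.sum_congr rfl (fun y _ => ?_)
  rw [Finset.prod_mul_distrib]

theorem ptens_one : ptens (fun _ : Fin k => (1 : Matrix (Fin d) (Fin d) F)) = 1 := by
  classical
  ext x y
  rw [ptens_apply]
  simp only [Matrix.one_apply]
  rw [Finset.prod_boole]
  by_cases h : x = y
  · subst h
    simp
  · rw [if_neg h, if_neg]
    intro h'
    exact h (funext (fun i => h' i (Finset.mem_univ i)))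

theorem stdEmb_eq_ptens (i : Fin k) (m : Matrix (Fin d) (Fin d) F) :
    stdEmb d k i m = ptens (Function.update (fun _ => (1 : Matrix (Fin d) (Fin d) F)) i m) := by
  classical
  ext x y
  rw [ptens_apply, ← Finset.mul_prod_erase Finset.univ _ (Finset.mem_univ i), Function.update_self]
  have h1 : ∏ j ∈ Finset.univ.erase i,
      (Function.update (fun _ => (1 : Matrix (Fin d) (Fin d) F)) i m j) (x j) (y j) =
      if ∀ j ∈ Finset.univ.erase i, x j = y j then 1 else 0 := by
    have h2 : ∀ j ∈ Finset.univ.erase i,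
        (Function.update (fun _ => (1 : Matrix (Fin d) (Fin d) F)) i m j) (x j) (y j) =
        if x j = y j then (1 : F) else 0 := by
      intro j hj
      rw [Function.update_of_ne (Finset.ne_of_mem_erase hj), Matrix.one_apply]
    rw [Finset.prod_congr rfl h2, Finset.prod_boole]
    split_ifs <;> rfl
  rw [h1]
  unfold stdEmb
  by_cases hc : ∀ j, j ≠ i → x j = y j
  · rw [if_pos hc, if_pos, mul_one]
    intro j hj
    exact hc j (Finset.ne_of_mem_erase hj)
  · rw [if_neg hc, if_neg, mul_zero]
    intro h'
    exact hc (fun j hj => h' j (Finset.mem_erase.2 ⟨hj, Finset.mem_univ j⟩))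

theorem stdEmb_mul (i : Fin k) (m m' : Matrix (Fin d) (Fin d) F) :
    stdEmb d k i (m * m') = stdEmb d k i m * stdEmb d k i m' := by
  classical
  rw [stdEmb_eq_ptens, stdEmb_eq_ptens, stdEmb_eq_ptens, ptens_mul]
  congr 1
  funext j
  by_cases hj : j = i
  · subst hj
    rw [Function.update_self, Function.update_self, Function.update_self]
  · rw [Function.update_of_ne hj, Function.update_of_ne hj, Function.update_of_ne hj, mul_one]

theorem stdEmb_one (i : Fin k) : stdEmb d k i (1 : Matrix (Fin d) (Fin d) F) = 1 := by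
  classical
  rw [stdEmb_eq_ptens, Function.update_eq_self_iff.2 rfl, ptens_one]

theorem stdEmb_add' (i : Fin k) (m m' : Matrix (Fin d) (Fin d) F) :
    stdEmb d k i (m + m') = stdEmb d k i m + stdEmb d k i m' := by
  ext x y
  simp only [stdEmb, Matrix.add_apply]
  split_ifs <;> simp

theorem stdEmb_smul' (i : Fin k) (c : F) (m : Matrix (Fin d) (Fin d) F) :
    stdEmb d k i (c • m) = c • stdEmb d k i m := by
  ext x y
  simp only [stdEmb, Matrix.smul_apply]
  split_ifs <;> simp

theorem stdEmb_zero (i : Fin k) : stdEmb d k i (0 : Matrix (Fin d) (Fin d) F) = 0 := by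
  ext x y
  simp only [stdEmb, Matrix.zero_apply]
  split_ifs <;> rfl

theorem stdEmb_sum {ι : Type*} (s : Finset ι) (i : Fin k) (f : ι → Matrix (Fin d) (Fin d) F) :
    stdEmb d k i (∑ j ∈ s, f j) = ∑ j ∈ s, stdEmb d k i (f j) := by
  classical
  induction s using Finset.induction_on with
  | empty => simp [stdEmb_zero]
  | insert a s ha ih => rw [Finset.sum_insert ha, Finset.sum_insert ha, stdEmb_add', ih]

theorem stdEmb_injective (hd : 0 < d) (i : Fin k) :
    Function.Injective (stdEmb d k i : Matrix (Fin d) (Fin d) F → _) := by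
  classical
  intro m m' h
  ext a b
  let x : Fin k → Fin d := fun _ => a
  let y : Fin k → Fin d := Function.update x i b
  have h1 := congrFun (congrFun h x) y
  unfold stdEmb at h1
  have hc : ∀ j, j ≠ i → x j = y j := fun j hj => by
    show a = Function.update x i b j
    rw [Function.update_of_ne hj]
  rw [if_pos hc, if_pos hc] at h1
  have hy : y i = b := Function.update_self ..
  rw [hy] at h1
  exact h1

/-- the pure tensor of a family of invertible matrices, as an invertible matrix -/
def ptensGL (a : Fin k → GL (Fin d) F) : GL (Fin k → Fin d) F where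
  val := ptens (fun i => (a i : Matrix (Fin d) (Fin d) F))
  inv := ptens (fun i => ((a i)⁻¹ : GL (Fin d) F))
  val_inv := by
    rw [ptens_mul]
    have : (fun i => (a i : Matrix (Fin d) (Fin d) F) * (((a i)⁻¹ : GL (Fin d) F) : Matrix (Fin d) (Fin d) F)) =
        fun _ => 1 := by
      funext i
      rw [← Units.val_mul, mul_inv_cancel, Units.val_one]
    rw [this, ptens_one]
  inv_val := by
    rw [ptens_mul]
    have : (fun i => (((a i)⁻¹ : GL (Fin d) F) : Matrix (Fin d) (Fin d) F) * (a i : Matrix (Fin d) (Fin d) F)) =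
        fun _ => 1 := by
      funext i
      rw [← Units.val_mul, inv_mul_cancel, Units.val_one]
    rw [this, ptens_one]

theorem ptensGL_val (a : Fin k → GL (Fin d) F) :
    ((ptensGL a : GL (Fin k → Fin d) F) : Matrix (Fin k → Fin d) (Fin k → Fin d) F) =
      ptens (fun i => (a i : Matrix (Fin d) (Fin d) F)) := rfl

theorem ptensGL_inv_val (a : Fin k → GL (Fin d) F) :
    (((ptensGL a)⁻¹ : GL (Fin k → Fin d) F) : Matrix (Fin k → Fin d) (Fin k → Fin d) F) =
      ptens (fun i => (((a i)⁻¹ : GL (Fin d) F) : Matrix (Fin d) (Fin d) F)) := rfl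

theorem ptensGL_isPureTensor (a : Fin k → GL (Fin d) F) : IsPureTensor d k (ptensGL a) :=
  ⟨a, fun x y => rfl⟩

theorem ptensGL_conj (a : Fin k → GL (Fin d) F) (i : Fin k) (m : Matrix (Fin d) (Fin d) F) :
    ((ptensGL a : GL (Fin k → Fin d) F) : Matrix (Fin k → Fin d) (Fin k → Fin d) F) * stdEmb d k i m *
      (((ptensGL a)⁻¹ : GL (Fin k → Fin d) F) : Matrix (Fin k → Fin d) (Fin k → Fin d) F) =
    stdEmb d k i ((a i : Matrix (Fin d) (Fin d) F) * m * (((a i)⁻¹ : GL (Fin d) F) : Matrix (Fin d) (Fin d) F)) := by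
  classical
  rw [ptensGL_val, ptensGL_inv_val, stdEmb_eq_ptens, stdEmb_eq_ptens, ptens_mul, ptens_mul]
  congr 1
  funext j
  by_cases hj : j = i
  · subst hj
    rw [Function.update_self, Function.update_self]
  · rw [Function.update_of_ne hj, Function.update_of_ne hj, mul_one, ← Units.val_mul, mul_inv_cancel,
      Units.val_one]

/-! ### factor permutations -/

/-- the permutation of the tensor factors -/
def fperm (σ : Equiv.Perm (Fin k)) : Matrix (Fin k → Fin d) (Fin k → Fin d) F :=
  fun x y => if y = x ∘ σ then 1 else 0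

theorem fperm_mul_apply (σ : Equiv.Perm (Fin k)) (A : Matrix (Fin k → Fin d) (Fin k → Fin d) F)
    (x y : Fin k → Fin d) : ((fperm σ : Matrix (Fin k → Fin d) (Fin k → Fin d) F) * A) x y = A (x ∘ σ) y := by
  classical
  rw [Matrix.mul_apply, Finset.sum_eq_single (x ∘ σ)]
  · unfold fperm
    rw [if_pos rfl, one_mul]
  · intro z _ hz
    unfold fperm
    rw [if_neg hz, zero_mul]
  · intro h
    exact absurd (Finset.mem_univ _) h

theorem mul_fperm_apply (σ : Equiv.Perm (Fin k)) (A : Matrix (Fin k → Fin d) (Fin k → Fin d) F)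
    (x y : Fin k → Fin d) : (A * (fperm σ : Matrix (Fin k → Fin d) (Fin k → Fin d) F)) x y = A x (y ∘ σ.symm) := by
  classical
  rw [Matrix.mul_apply, Finset.sum_eq_single (y ∘ σ.symm)]
  · unfold fperm
    rw [if_pos, mul_one]
    funext j
    simp
  · intro z _ hz
    unfold fperm
    rw [if_neg, mul_zero]
    intro h
    apply hz
    rw [h]
    funext j
    simp
  · intro h
    exact absurd (Finset.mem_univ _) h

theorem fperm_mul (σ τ : Equiv.Perm (Fin k)) :
    (fperm σ : Matrix (Fin k → Fin d) (Fin k → Fin d) F) * fperm τ = fperm (σ * τ) := by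
  ext x y
  rw [fperm_mul_apply]
  unfold fperm
  rfl

theorem fperm_one : (fperm 1 : Matrix (Fin k → Fin d) (Fin k → Fin d) F) = 1 := by
  classical
  ext x y
  unfold fperm
  rw [Matrix.one_apply]
  by_cases h : x = y
  · subst h
    simp
  · rw [if_neg h, if_neg]
    intro h'
    apply h
    rw [h']
    rfl

/-- a factor permutation as an invertible matrix -/
def fpermGL (σ : Equiv.Perm (Fin k)) : GL (Fin k → Fin d) F where
  val := fperm σ
  inv := fperm σ⁻¹
  val_inv := by rw [fperm_mul, mul_inv_cancel, fperm_one]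
  inv_val := by rw [fperm_mul, inv_mul_cancel, fperm_one]

theorem fpermGL_isFactorPermutation (σ : Equiv.Perm (Fin k)) :
    IsFactorPermutation d k (fpermGL σ : GL (Fin k → Fin d) F) :=
  ⟨σ, fun x y => rfl⟩

theorem fperm_conj (σ : Equiv.Perm (Fin k)) (i : Fin k) (m : Matrix (Fin d) (Fin d) F) :
    (fperm σ : Matrix (Fin k → Fin d) (Fin k → Fin d) F) * stdEmb d k i m * fperm σ⁻¹ =
      stdEmb d k (σ i) m := by
  classical
  ext x y
  rw [mul_fperm_apply, fperm_mul_apply]
  unfold stdEmb
  have hs : ∀ j, (y ∘ (σ⁻¹).symm) j = y (σ j) := fun j => rfl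
  by_cases hc : ∀ j, j ≠ σ i → x j = y j
  · rw [if_pos hc, if_pos]
    · rfl
    · intro j hj
      show x (σ j) = y (σ j)
      exact hc (σ j) (fun h => hj (σ.injective h))
  · rw [if_neg hc, if_neg]
    intro h'
    apply hc
    intro j hj
    have h3 : x (σ (σ.symm j)) = y (σ (σ.symm j)) := h' (σ.symm j) (fun h => hj (by rw [← h]; simp))
    rwa [Equiv.apply_symm_apply] at h3

end Cfsg.Agent.Helper4.AschTI
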