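import Mathlib
import Cfsg.Prelude.Def_GeometricClasses
import Cfsg.Agent.Helper9.AschC6Base
import Cfsg.Agent.Helper5.AschForm8
import Cfsg.Agent.Helper4.AschTIE

/-!
# FORM-C7 (helper4), part A: an invariant Gram matrix on a tensor power is a pure tensor

Pure matrix lemmas.  `gram_ptens`: a non-zero Gram matrix `G` on `(F^d)^{⊗k}` with
`(stdEmb i r)ᵀ G σ(stdEmb i r) = G` for all `r` in an absolutely irreducible set `R i` of invertible matrices
(for every factor `i`) is `c • ptens B` with each `B i` an invertible `R i`-invariant Gram matrix.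
-/

set_option autoImplicit false
set_option linter.style.haveILetI false
set_option linter.unusedVariables false
set_option linter.unusedSectionVars false

namespace Cfsg.Agent.Helper4.AschTI

open Cfsg Cfsg.Geo Cfsg.Agent.Helper9.AschC6 Cfsg.Agent.Helper5.AschF
open scoped MatrixGroups Matrix

variable {F : Type*} [Field F] {d k : ℕ}

/-! ### entries of products with `stdEmb i m` -/

theorem stdEmb_mul_apply (A : Matrix (Fin k → Fin d) (Fin k → Fin d) F) (i : Fin k)
    (m : Matrix (Fin d) (Fin d) F) (x y : Fin k → Fin d) :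
    (stdEmb d k i m * A) x y = ∑ a, m (x i) a * A (Function.update x i a) y := by
  classical
  rw [Matrix.mul_apply]
  symm
  refine Finset.sum_of_injOn (fun a => Function.update x i a) ?_ ?_ ?_ ?_
  · intro a _ b _ hab
    have := congrFun hab i
    simpa using this
  · intro a _
    exact Finset.mem_coe.2 (Finset.mem_univ _)
  · intro z _ hz
    unfold stdEmb
    rw [if_neg, zero_mul]
    intro hc
    apply hz
    refine ⟨z i, Finset.mem_coe.2 (Finset.mem_univ _), ?_⟩
    funext j
    by_cases hj : j = i
    · subst hj
      simp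
    · show Function.update x i (z i) j = z j
      rw [Function.update_of_ne hj, hc j hj]
  · intro a _
    unfold stdEmb
    rw [if_pos, Function.update_self]
    intro j hj
    rw [Function.update_of_ne hj]

theorem mul_stdEmb_apply (A : Matrix (Fin k → Fin d) (Fin k → Fin d) F) (i : Fin k)
    (m : Matrix (Fin d) (Fin d) F) (x y : Fin k → Fin d) :
    (A * stdEmb d k i m) x y = ∑ b, A x (Function.update y i b) * m b (y i) := by
  classical
  rw [Matrix.mul_apply]
  symm
  refine Finset.sum_of_injOn (fun b => Function.update y i b) ?_ ?_ ?_ ?_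
  · intro a _ b _ hab
    have := congrFun hab i
    simpa using this
  · intro a _
    exact Finset.mem_coe.2 (Finset.mem_univ _)
  · intro z _ hz
    unfold stdEmb
    rw [if_neg, mul_zero]
    intro hc
    apply hz
    refine ⟨z i, Finset.mem_coe.2 (Finset.mem_univ _), ?_⟩
    funext j
    by_cases hj : j = i
    · subst hj
      simp
    · show Function.update y i (z i) j = z j
      rw [Function.update_of_ne hj, (hc j hj).symm]
  · intro b _
    unfold stdEmb
    rw [if_pos, Function.update_self]
    intro j hj
    rw [Function.update_of_ne hj]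

theorem stdEmb_transpose (i : Fin k) (m : Matrix (Fin d) (Fin d) F) :
    (stdEmb d k i m)ᵀ = stdEmb d k i mᵀ := by
  classical
  ext x y
  rw [Matrix.transpose_apply]
  unfold stdEmb
  by_cases hc : ∀ j, j ≠ i → y j = x j
  · rw [if_pos hc, if_pos (fun j hj => (hc j hj).symm), Matrix.transpose_apply]
  · rw [if_neg hc, if_neg]
    intro h'
    exact hc (fun j hj => (h' j hj).symm)

theorem stdEmb_map (σ : F →+* F) (i : Fin k) (m : Matrix (Fin d) (Fin d) F) :
    (stdEmb d k i m).map σ = stdEmb d k i (m.map σ) := by
  classical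
  ext x y
  rw [Matrix.map_apply]
  unfold stdEmb
  split_ifs
  · rw [Matrix.map_apply]
  · exact map_zero σ

theorem ptens_map (σ : F →+* F) (M : Fin k → Matrix (Fin d) (Fin d) F) :
    (ptens M).map σ = ptens (fun i => (M i).map σ) := by
  ext x y
  rw [Matrix.map_apply, ptens_apply, ptens_apply, map_prod]
  rfl

/-! ### the blocks of a Gram matrix along the factor `i` -/

/-- the `d × d` block of `G` at `(x, y)` along the factor `i` -/
def blkAt (G : Matrix (Fin k → Fin d) (Fin k → Fin d) F) (i : Fin k) (x y : Fin k → Fin d) :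
    Matrix (Fin d) (Fin d) F :=
  fun a b => G (Function.update x i a) (Function.update y i b)

theorem blkAt_self (G : Matrix (Fin k → Fin d) (Fin k → Fin d) F) (i : Fin k) (x y : Fin k → Fin d) :
    blkAt G i x y (x i) (y i) = G x y := by
  unfold blkAt
  rw [Function.update_eq_self, Function.update_eq_self]

theorem blkAt_gramInv (σ : F →+* F) {G : Matrix (Fin k → Fin d) (Fin k → Fin d) F} {i : Fin k}
    {r : Matrix (Fin d) (Fin d) F}
    (hG : (stdEmb d k i r)ᵀ * G * (stdEmb d k i r).map σ = G) (x y : Fin k → Fin d) :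
    GramInv σ r (blkAt G i x y) := by
  classical
  unfold GramInv
  ext a b
  have h1 := congrFun (congrFun hG (Function.update x i a)) (Function.update y i b)
  rw [stdEmb_transpose, stdEmb_map, mul_stdEmb_apply] at h1
  rw [Matrix.mul_apply]
  show _ = G (Function.update x i a) (Function.update y i b)
  rw [← h1]
  refine Finset.sum_congr rfl (fun b' _ => ?_)
  rw [stdEmb_mul_apply, Function.update_self, Function.update_self, Function.update_idem, Matrix.mul_apply]
  congr 1
  refine Finset.sum_congr rfl (fun a' _ => ?_)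
  rw [Function.update_idem]
  rfl

/-! ### the product formula -/

theorem gram_ptens (σ : F →+* F) {G : Matrix (Fin k → Fin d) (Fin k → Fin d) F} (hG0 : G ≠ 0)
    (R : Fin k → Set (Matrix (Fin d) (Fin d) F)) (hR : ∀ i, ActsAbsolutelyIrreducibly (R i))
    (hRu : ∀ i, ∀ r ∈ R i, IsUnit r.det)
    (hinv : ∀ i, ∀ r ∈ R i, (stdEmb d k i r)ᵀ * G * (stdEmb d k i r).map σ = G) :
    ∃ (c : F) (B : Fin k → Matrix (Fin d) (Fin d) F), c ≠ 0 ∧ (∀ i, IsUnit (B i).det) ∧
      (∀ i, ∀ r ∈ R i, GramInv σ r (B i)) ∧ G = c • ptens B := by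
  classical
  obtain ⟨x₀, y₀, h0⟩ : ∃ x₀ y₀, G x₀ y₀ ≠ 0 := by
    by_contra hcon
    push Not at hcon
    apply hG0
    ext x y
    exact hcon x y
  set g₀ : F := G x₀ y₀ with hg₀
  let B : Fin k → Matrix (Fin d) (Fin d) F := fun i => blkAt G i x₀ y₀
  have hBinv : ∀ i, ∀ r ∈ R i, GramInv σ r (B i) := fun i r hr => blkAt_gramInv σ (hinv i r hr) x₀ y₀
  have hB0 : ∀ i, B i (x₀ i) (y₀ i) = g₀ := fun i => blkAt_self G i x₀ y₀
  have hBne : ∀ i, B i ≠ 0 := by
    intro i h
    apply h0
    show g₀ = 0
    rw [← hB0 i, h]
    rfl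
  have hBu : ∀ i, IsUnit (B i).det := fun i =>
    isUnit_det_of_gramInv σ (hR i).1 (hRu i) (hBinv i) (hBne i)
  -- the swap lemma
  have hswap : ∀ (i : Fin k) (x y : Fin k → Fin d) (a b : Fin d),
      G x y * B i a b = G (Function.update x i a) (Function.update y i b) * B i (x i) (y i) := by
    intro i x y a b
    obtain ⟨l, hl⟩ := gram_unique σ (hR i) (hRu i) (hBinv i)
      (fun r hr => blkAt_gramInv σ (hinv i r hr) x y) (hBne i)
    have e1 : G x y = l * B i (x i) (y i) := by
      rw [← blkAt_self G i x y, hl]
      rfl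
    have e2 : G (Function.update x i a) (Function.update y i b) = l * B i a b := by
      show blkAt G i x y a b = _
      rw [hl]
      rfl
    rw [e1, e2]
    ring
  -- the product formula
  have hprod : ∀ (x y : Fin k → Fin d) (S : Finset (Fin k)),
      G (fun j => if j ∈ S then x j else x₀ j) (fun j => if j ∈ S then y j else y₀ j) * g₀ ^ S.card =
        g₀ * ∏ i ∈ S, B i (x i) (y i) := by
    intro x y S
    induction S using Finset.induction_on with
    | empty => simp [hg₀]
    | insert i S hi ih =>
      have e : ∀ (z z₀ : Fin k → Fin d), (fun j => if j ∈ insert i S then z j else z₀ j) =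
          Function.update (fun j => if j ∈ S then z j else z₀ j) i (z i) := by
        intro z z₀
        funext j
        by_cases hj : j = i
        · subst hj
          rw [Function.update_self, if_pos (Finset.mem_insert_self _ _)]
        · rw [Function.update_of_ne hj]
          by_cases hjS : j ∈ S
          · rw [if_pos hjS, if_pos (Finset.mem_insert_of_mem hjS)]
          · rw [if_neg hjS, if_neg]
            intro h'
            rcases Finset.mem_insert.1 h' with h'' | h''
            · exact hj h''
            · exact hjS h''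
      have hsw := hswap i (fun j => if j ∈ S then x j else x₀ j) (fun j => if j ∈ S then y j else y₀ j)
        (x i) (y i)
      rw [← e x x₀, ← e y y₀] at hsw
      rw [if_neg hi, if_neg hi, hB0] at hsw
      rw [Finset.card_insert_of_notMem hi, Finset.prod_insert hi, pow_succ]
      calc G (fun j => if j ∈ insert i S then x j else x₀ j) (fun j => if j ∈ insert i S then y j else y₀ j) *
            (g₀ ^ S.card * g₀)
          = (G (fun j => if j ∈ insert i S then x j else x₀ j)
              (fun j => if j ∈ insert i S then y j else y₀ j) * g₀) * g₀ ^ S.card := by ring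
        _ = (G (fun j => if j ∈ S then x j else x₀ j) (fun j => if j ∈ S then y j else y₀ j) *
              B i (x i) (y i)) * g₀ ^ S.card := by rw [hsw]
        _ = (G (fun j => if j ∈ S then x j else x₀ j) (fun j => if j ∈ S then y j else y₀ j) *
              g₀ ^ S.card) * B i (x i) (y i) := by ring
        _ = g₀ * (B i (x i) (y i) * ∏ i ∈ S, B i (x i) (y i)) := by rw [ih]; ring
  have hpow : g₀ ^ k ≠ 0 := pow_ne_zero _ h0
  refine ⟨g₀ * (g₀ ^ k)⁻¹, B, mul_ne_zero h0 (inv_ne_zero hpow), hBu, hBinv, ?_⟩
  ext x y
  have h1 := hprod x y Finset.univ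
  simp only [Finset.mem_univ, if_true, Finset.card_univ, Fintype.card_fin] at h1
  rw [Matrix.smul_apply, ptens_apply, smul_eq_mul]
  have h2 : G x y = G x y * g₀ ^ k * (g₀ ^ k)⁻¹ := by
    rw [mul_assoc, mul_inv_cancel₀ hpow, mul_one]
  rw [h2, h1]
  ring

end Cfsg.Agent.Helper4.AschTI
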