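import Mathlib
import Cfsg.Prelude.Def_GeometricClasses
import Cfsg.Agent.Helper9.AschC6Base
import Cfsg.Agent.Helper4.AschPPA
import Cfsg.Agent.Helper4.AschTIE

/-!
# ASCH-PP piece T2b (helper4): `mem_tensorWreathStandard_of_permutes` (iterated Skolem–Noether)

An invertible matrix permuting the standard tensor factor algebras lies in the standard tensor wreath group
(for `0 < k`; the statement is false for `k = 0`).
-/

set_option autoImplicit false
set_option linter.style.haveILetI false
set_option linter.unusedVariables false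

namespace Cfsg.Agent.Helper4.AschTI

open Cfsg Cfsg.Geo Cfsg.Agent.Helper4.AschP Cfsg.Agent.Helper9.AschC6
open scoped MatrixGroups Matrix

variable {F : Type*} [Field F] {d k : ℕ}

/-- **Skolem–Noether for matrix units**: a `d × d` system of matrix units in `M_d(F)` is conjugate to the
standard one. -/
theorem exists_conj_of_unitsSys (hd : 0 < d) (f : Fin d → Fin d → Matrix (Fin d) (Fin d) F)
    (hf : IsUnitsSys f) :
    ∃ a : GL (Fin d) F, ∀ p q, f p q = (a : Matrix (Fin d) (Fin d) F) * Matrix.single p q (1 : F) *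
      ((a⁻¹ : GL (Fin d) F) : Matrix (Fin d) (Fin d) F) := by
  classical
  haveI : NeZero d := ⟨hd.ne'⟩
  haveI : Nontrivial (Matrix (Fin d) (Fin d) F) := inferInstance
  let z : Fin d := ⟨0, hd⟩
  have h00 : f z z ≠ 0 := by
    intro h0
    have h1 : (1 : Matrix (Fin d) (Fin d) F) = 0 := by
      rw [← hf.sum]
      apply Finset.sum_eq_zero
      intro p _
      have e1 : f p p = f p z * f z z * f z p := by
        rw [hf.mul, if_pos rfl, hf.mul, if_pos rfl]
      rw [e1, h0, mul_zero, zero_mul]
    exact one_ne_zero h1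
  obtain ⟨w, hw⟩ : ∃ w : Fin d → F, f z z *ᵥ w ≠ 0 := by
    by_contra hcon
    push Not at hcon
    apply h00
    have : Matrix.toLin' (f z z) = 0 := by
      apply LinearMap.ext
      intro w
      rw [Matrix.toLin'_apply, hcon w]
      rfl
    exact (LinearEquiv.map_eq_zero_iff _).1 this
  set v₀ : Fin d → F := f z z *ᵥ w with hv₀
  let v : Fin d → (Fin d → F) := fun p => f p z *ᵥ v₀
  have hfv : ∀ p q r, f p q *ᵥ v r = if q = r then v p else 0 := by
    intro p q r
    show f p q *ᵥ (f r z *ᵥ v₀) = _
    rw [Matrix.mulVec_mulVec, hf.mul]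
    by_cases h : q = r
    · rw [if_pos h, if_pos h]
    · rw [if_neg h, if_neg h, Matrix.zero_mulVec]
  have hvz : v z = v₀ := by
    show f z z *ᵥ v₀ = v₀
    rw [hv₀, Matrix.mulVec_mulVec, hf.mul, if_pos rfl]
  have hli : LinearIndependent F v := by
    rw [Fintype.linearIndependent_iff]
    intro g hg q
    have h1 : f z q *ᵥ (∑ r, g r • v r) = g q • v₀ := by
      rw [Matrix.mulVec_sum, Finset.sum_eq_single q]
      · rw [Matrix.mulVec_smul, hfv, if_pos rfl, hvz]
      · intro r _ hrq
        rw [Matrix.mulVec_smul, hfv, if_neg (Ne.symm hrq), smul_zero]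
      · intro h
        exact absurd (Finset.mem_univ _) h
    rw [hg, Matrix.mulVec_zero] at h1
    rcases smul_eq_zero.1 h1.symm with h | h
    · exact h
    · exact absurd h hw
  let A : Matrix (Fin d) (Fin d) F := Matrix.of (fun r c => v c r)
  have hAcol : A.col = v := by
    funext c r
    rfl
  have hAu : IsUnit A := by
    rw [← Matrix.linearIndependent_cols_iff_isUnit, hAcol]
    exact hli
  let a : GL (Fin d) F := hAu.unit
  have ha : (a : Matrix (Fin d) (Fin d) F) = A := rfl
  refine ⟨a, fun p q => ?_⟩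
  have key : f p q * A = A * Matrix.single p q (1 : F) := by
    ext r c
    have hL : (f p q * A) r c = (f p q *ᵥ v c) r := by
      rw [Matrix.mul_apply]
      rfl
    rw [hL, hfv, Matrix.mul_apply, Finset.sum_eq_single p]
    · rw [Matrix.single_apply]
      by_cases h : q = c
      · rw [if_pos h, if_pos ⟨rfl, h⟩, mul_one]
        rfl
      · rw [if_neg h, if_neg (fun h' => h h'.2), mul_zero]
        rfl
    · intro l _ hl
      rw [Matrix.single_apply, if_neg (fun h' => hl h'.1.symm), mul_zero]
    · intro h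
      exact absurd (Finset.mem_univ _) h
  rw [ha, ← key, Matrix.mul_assoc]
  have : A * ((a⁻¹ : GL (Fin d) F) : Matrix (Fin d) (Fin d) F) = 1 := by
    rw [← ha, Units.mul_inv]
  rw [this, Matrix.mul_one]

/-! ### entries of products with `stdEmb i (single p q 1)` -/

theorem mul_stdEmb_single_apply (A : Matrix (Fin k → Fin d) (Fin k → Fin d) F) (i : Fin k) (p q : Fin d)
    (x y : Fin k → Fin d) :
    (A * stdEmb d k i (Matrix.single p q (1 : F))) x y =
      if y i = q then A x (Function.update y i p) else 0 := by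
  classical
  rw [Matrix.mul_apply]
  by_cases h : y i = q
  · rw [if_pos h, Finset.sum_eq_single (Function.update y i p)]
    · unfold stdEmb
      rw [if_pos, Function.update_self, Matrix.single_apply, if_pos ⟨rfl, h.symm⟩, mul_one]
      intro j hj
      rw [Function.update_of_ne hj]
    · intro z _ hz
      unfold stdEmb
      by_cases hc : ∀ j, j ≠ i → z j = y j
      · rw [if_pos hc, Matrix.single_apply, if_neg, mul_zero]
        rintro ⟨h1, -⟩
        apply hz
        funext j
        by_cases hj : j = i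
        · subst hj
          rw [Function.update_self, h1]
        · rw [Function.update_of_ne hj, hc j hj]
      · rw [if_neg hc, mul_zero]
    · intro h'
      exact absurd (Finset.mem_univ _) h'
  · rw [if_neg h]
    apply Finset.sum_eq_zero
    intro z _
    unfold stdEmb
    by_cases hc : ∀ j, j ≠ i → z j = y j
    · rw [if_pos hc, Matrix.single_apply, if_neg (fun h' => h h'.2.symm), mul_zero]
    · rw [if_neg hc, mul_zero]

theorem stdEmb_single_mul_apply (A : Matrix (Fin k → Fin d) (Fin k → Fin d) F) (i : Fin k) (p q : Fin d)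
    (x y : Fin k → Fin d) :
    (stdEmb d k i (Matrix.single p q (1 : F)) * A) x y =
      if x i = p then A (Function.update x i q) y else 0 := by
  classical
  rw [Matrix.mul_apply]
  by_cases h : x i = p
  · rw [if_pos h, Finset.sum_eq_single (Function.update x i q)]
    · unfold stdEmb
      rw [if_pos, Function.update_self, Matrix.single_apply, if_pos ⟨h.symm, rfl⟩, one_mul]
      intro j hj
      rw [Function.update_of_ne hj]
    · intro z _ hz
      unfold stdEmb
      by_cases hc : ∀ j, j ≠ i → x j = z j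
      · rw [if_pos hc, Matrix.single_apply, if_neg, zero_mul]
        rintro ⟨-, h2⟩
        apply hz
        funext j
        by_cases hj : j = i
        · subst hj
          rw [Function.update_self, h2]
        · rw [Function.update_of_ne hj, hc j hj]
      · rw [if_neg hc, zero_mul]
    · intro h'
      exact absurd (Finset.mem_univ _) h'
  · rw [if_neg h]
    apply Finset.sum_eq_zero
    intro z _
    unfold stdEmb
    by_cases hc : ∀ j, j ≠ i → x j = z j
    · rw [if_pos hc, Matrix.single_apply, if_neg (fun h' => h h'.1.symm), zero_mul]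
    · rw [if_neg hc, zero_mul]

/-- **Schur**: a matrix commuting with all factor matrix units is a scalar. -/
theorem scalar_of_commute_stdEmb (A : Matrix (Fin k → Fin d) (Fin k → Fin d) F)
    (hA : ∀ i p q, A * stdEmb d k i (Matrix.single p q (1 : F)) =
      stdEmb d k i (Matrix.single p q (1 : F)) * A) :
    ∃ c : F, A = c • (1 : Matrix (Fin k → Fin d) (Fin k → Fin d) F) := by
  classical
  have hstar : ∀ i p q x y, (if y i = q then A x (Function.update y i p) else 0) =
      (if x i = p then A (Function.update x i q) y else 0) := by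
    intro i p q x y
    rw [← mul_stdEmb_single_apply, ← stdEmb_single_mul_apply, hA]
  have hoff : ∀ x y, x ≠ y → A x y = 0 := by
    intro x y hxy
    obtain ⟨i, hi⟩ := Function.ne_iff.1 hxy
    have := hstar i (y i) (y i) x y
    rw [if_pos rfl, Function.update_eq_self, if_neg hi] at this
    exact this
  have hstep : ∀ x i p, A (Function.update x i p) (Function.update x i p) = A x x := by
    intro x i p
    have := hstar i p (x i) (Function.update x i p) x
    rw [if_pos rfl, if_pos (Function.update_self ..), Function.update_idem, Function.update_eq_self] at this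
    exact this
  have hdiag : ∀ x x' : Fin k → Fin d, A x' x' = A x x := by
    intro x x'
    have hS : ∀ S : Finset (Fin k),
        A (fun j => if j ∈ S then x' j else x j) (fun j => if j ∈ S then x' j else x j) = A x x := by
      intro S
      induction S using Finset.induction_on with
      | empty => simp
      | insert i S hi ih =>
        have e : (fun j => if j ∈ insert i S then x' j else x j) =
            Function.update (fun j => if j ∈ S then x' j else x j) i (x' i) := by
          funext j
          by_cases hj : j = i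
          · subst hj
            rw [Function.update_self, if_pos (Finset.mem_insert_self _ _)]
          · rw [Function.update_of_ne hj]
            by_cases hjS : j ∈ S
            · rw [if_pos hjS, if_pos (Finset.mem_insert_of_mem hjS)]
            · rw [if_neg hjS, if_neg]
              intro h'
              rcases Finset.mem_insert.1 h' with h'' | h''
              · exact hj h''
              · exact hjS h''
        rw [e, hstep, ih]
    have := hS Finset.univ
    simpa using this
  rcases isEmpty_or_nonempty (Fin k → Fin d) with hem | hne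
  · exact ⟨0, Subsingleton.elim _ _⟩
  · obtain ⟨z⟩ := hne
    refine ⟨A z z, ?_⟩
    ext x y
    rw [Matrix.smul_apply, Matrix.one_apply]
    by_cases h : x = y
    · subst h
      rw [if_pos rfl, smul_eq_mul, mul_one, hdiag z x]
    · rw [if_neg h, smul_zero, hoff x y h]

/-- from `u S u⁻¹ = t S t⁻¹` to `(t⁻¹ u) S = S (t⁻¹ u)` -/
theorem commute_of_conj_eq {R : Type*} [Ring R] (u t : Rˣ) (S : R)
    (h : (u : R) * S * ((u⁻¹ : Rˣ) : R) = (t : R) * S * ((t⁻¹ : Rˣ) : R)) :
    ((t⁻¹ * u : Rˣ) : R) * S = S * ((t⁻¹ * u : Rˣ) : R) := by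
  have h1 : ((t⁻¹ : Rˣ) : R) * ((u : R) * S * ((u⁻¹ : Rˣ) : R)) * (u : R) =
      ((t⁻¹ : Rˣ) : R) * ((t : R) * S * ((t⁻¹ : Rˣ) : R)) * (u : R) := by rw [h]
  simp only [mul_assoc, Units.inv_mul_cancel_left, Units.inv_mul, mul_one] at h1
  rw [Units.val_mul, mul_assoc, h1]

/-- **T2b** (the stub with the extra hypothesis `0 < k`; the statement is false for `k = 0`). -/
theorem mem_tensorWreathStandard_of_permutes (hk : 0 < k) (g : GL (Fin k → Fin d) F) (π : Equiv.Perm (Fin k))
    (hg : ∀ (i : Fin k) (m : Matrix (Fin d) (Fin d) F), ∃ m' : Matrix (Fin d) (Fin d) F,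
      (g : Matrix (Fin k → Fin d) (Fin k → Fin d) F) * stdEmb d k i m *
        ((g⁻¹ : GL (Fin k → Fin d) F) : Matrix (Fin k → Fin d) (Fin k → Fin d) F) = stdEmb d k (π i) m') :
    g ∈ tensorWreathStandard d k F := by
  classical
  rcases Nat.eq_zero_or_pos d with hd0 | hd
  · -- empty index type
    subst hd0
    haveI : IsEmpty (Fin k → Fin 0) := ⟨fun x => (x ⟨0, hk⟩).elim0⟩
    have : g = 1 := Units.ext (Subsingleton.elim _ _)
    rw [this]
    exact Subgroup.one_mem _
  let i₀ : Fin k := ⟨0, hk⟩
  haveI : Nonempty (Fin k → Fin d) := ⟨fun _ => ⟨0, hd⟩⟩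
  -- remove the permutation
  let g₁ : GL (Fin k → Fin d) F := fpermGL π⁻¹ * g
  have hg₁ : ∀ (i : Fin k) (m : Matrix (Fin d) (Fin d) F), ∃ m' : Matrix (Fin d) (Fin d) F,
      (g₁ : Matrix (Fin k → Fin d) (Fin k → Fin d) F) * stdEmb d k i m *
        ((g₁⁻¹ : GL (Fin k → Fin d) F) : Matrix (Fin k → Fin d) (Fin k → Fin d) F) = stdEmb d k i m' := by
    intro i m
    obtain ⟨m', hm'⟩ := hg i m
    refine ⟨m', ?_⟩
    have e1 : (g₁ : Matrix (Fin k → Fin d) (Fin k → Fin d) F) =
        fperm π⁻¹ * (g : Matrix (Fin k → Fin d) (Fin k → Fin d) F) := rfl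
    have e2 : ((g₁⁻¹ : GL (Fin k → Fin d) F) : Matrix (Fin k → Fin d) (Fin k → Fin d) F) =
        ((g⁻¹ : GL (Fin k → Fin d) F) : Matrix (Fin k → Fin d) (Fin k → Fin d) F) * fperm (π⁻¹)⁻¹ := by
      show (((fpermGL π⁻¹ * g)⁻¹ : GL (Fin k → Fin d) F) : Matrix (Fin k → Fin d) (Fin k → Fin d) F) = _
      rw [mul_inv_rev, Units.val_mul]
      rfl
    rw [e1, e2]
    calc fperm π⁻¹ * (g : Matrix (Fin k → Fin d) (Fin k → Fin d) F) * stdEmb d k i m *
          (((g⁻¹ : GL (Fin k → Fin d) F) : Matrix (Fin k → Fin d) (Fin k → Fin d) F) * fperm (π⁻¹)⁻¹)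
        = fperm π⁻¹ * ((g : Matrix (Fin k → Fin d) (Fin k → Fin d) F) * stdEmb d k i m *
          ((g⁻¹ : GL (Fin k → Fin d) F) : Matrix (Fin k → Fin d) (Fin k → Fin d) F)) * fperm (π⁻¹)⁻¹ := by
          simp only [Matrix.mul_assoc]
      _ = stdEmb d k (π⁻¹ (π i)) m' := by rw [hm', fperm_conj]
      _ = stdEmb d k i m' := by
          have : π⁻¹ (π i) = i := by simp
          rw [this]
  choose φ hφ using hg₁
  -- the conjugated matrix units form systems of matrix units
  have hconj_mul : ∀ X Y : Matrix (Fin k → Fin d) (Fin k → Fin d) F,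
      (g₁ : Matrix (Fin k → Fin d) (Fin k → Fin d) F) * X *
        ((g₁⁻¹ : GL (Fin k → Fin d) F) : Matrix (Fin k → Fin d) (Fin k → Fin d) F) *
      ((g₁ : Matrix (Fin k → Fin d) (Fin k → Fin d) F) * Y *
        ((g₁⁻¹ : GL (Fin k → Fin d) F) : Matrix (Fin k → Fin d) (Fin k → Fin d) F)) =
      (g₁ : Matrix (Fin k → Fin d) (Fin k → Fin d) F) * (X * Y) *
        ((g₁⁻¹ : GL (Fin k → Fin d) F) : Matrix (Fin k → Fin d) (Fin k → Fin d) F) := by
    intro X Y
    calc _ = (g₁ : Matrix (Fin k → Fin d) (Fin k → Fin d) F) * X *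
          (((g₁⁻¹ : GL (Fin k → Fin d) F) : Matrix (Fin k → Fin d) (Fin k → Fin d) F) *
            (g₁ : Matrix (Fin k → Fin d) (Fin k → Fin d) F)) * Y *
          ((g₁⁻¹ : GL (Fin k → Fin d) F) : Matrix (Fin k → Fin d) (Fin k → Fin d) F) := by
          simp only [Matrix.mul_assoc]
      _ = _ := by
          rw [Units.inv_mul, Matrix.mul_one]
          simp only [Matrix.mul_assoc]
  have hsys : ∀ i, IsUnitsSys (fun p q => φ i (Matrix.single p q (1 : F))) := by
    intro i
    refine ⟨fun p q r s => ?_, ?_⟩
    · apply stdEmb_injective hd i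
      rw [stdEmb_mul, ← hφ, ← hφ, hconj_mul, ← stdEmb_mul]
      by_cases h : q = r
      · subst h
        rw [if_pos rfl, Matrix.single_mul_single_same, mul_one, hφ]
      · rw [if_neg h, Matrix.single_mul_single_of_ne (1 : F) p q r h (1 : F), stdEmb_zero, Matrix.mul_zero,
          Matrix.zero_mul]
    · apply stdEmb_injective hd i
      rw [stdEmb_sum, stdEmb_one]
      have h1 : ∀ p ∈ (Finset.univ : Finset (Fin d)), stdEmb d k i (φ i (Matrix.single p p (1 : F))) =
          (g₁ : Matrix (Fin k → Fin d) (Fin k → Fin d) F) * stdEmb d k i (Matrix.single p p (1 : F)) *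
            ((g₁⁻¹ : GL (Fin k → Fin d) F) : Matrix (Fin k → Fin d) (Fin k → Fin d) F) :=
        fun p _ => (hφ i _).symm
      rw [Finset.sum_congr rfl h1, ← Finset.sum_mul, ← Finset.mul_sum, ← stdEmb_sum,
        Matrix.sum_single_one, stdEmb_one, Matrix.mul_one, Units.mul_inv]
  choose a ha using fun i => exists_conj_of_unitsSys hd _ (hsys i)
  let t : GL (Fin k → Fin d) F := ptensGL a
  let g₂ : GL (Fin k → Fin d) F := t⁻¹ * g₁
  have hcomm : ∀ i p q, (g₂ : Matrix (Fin k → Fin d) (Fin k → Fin d) F) *
      stdEmb d k i (Matrix.single p q (1 : F)) =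
      stdEmb d k i (Matrix.single p q (1 : F)) * (g₂ : Matrix (Fin k → Fin d) (Fin k → Fin d) F) := by
    intro i p q
    apply commute_of_conj_eq (R := Matrix (Fin k → Fin d) (Fin k → Fin d) F) g₁ t
    rw [hφ, ha, ptensGL_conj]
  obtain ⟨c, hc⟩ := scalar_of_commute_stdEmb _ hcomm
  have hc0 : c ≠ 0 := by
    rintro rfl
    rw [zero_smul] at hc
    have h1 : (g₂ : Matrix (Fin k → Fin d) (Fin k → Fin d) F) *
        ((g₂⁻¹ : GL (Fin k → Fin d) F) : Matrix (Fin k → Fin d) (Fin k → Fin d) F) = 1 := Units.mul_inv g₂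
    rw [hc, Matrix.zero_mul] at h1
    exact zero_ne_one h1
  -- `g₂` is a pure tensor
  have hg₂ : IsPureTensor d k g₂ := by
    let u : GL (Fin d) F :=
      ⟨c • 1, c⁻¹ • 1, by rw [Matrix.smul_mul, Matrix.mul_smul, Matrix.one_mul, smul_smul, mul_inv_cancel₀ hc0, one_smul],
        by rw [Matrix.smul_mul, Matrix.mul_smul, Matrix.one_mul, smul_smul, inv_mul_cancel₀ hc0, one_smul]⟩
    refine ⟨Function.update (fun _ => 1) i₀ u, fun x y => ?_⟩
    have e1 : (fun i => ((Function.update (fun _ => (1 : GL (Fin d) F)) i₀ u i : GL (Fin d) F) :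
        Matrix (Fin d) (Fin d) F)) =
        Function.update (fun _ => (1 : Matrix (Fin d) (Fin d) F)) i₀ (c • 1) := by
      funext i
      by_cases hi : i = i₀
      · subst hi
        rw [Function.update_self, Function.update_self]
      · rw [Function.update_of_ne hi, Function.update_of_ne hi, Units.val_one]
    have e2 : ∏ i, ((Function.update (fun _ => (1 : GL (Fin d) F)) i₀ u i : GL (Fin d) F) :
        Matrix (Fin d) (Fin d) F) (x i) (y i) =
        ptens (fun i => ((Function.update (fun _ => (1 : GL (Fin d) F)) i₀ u i : GL (Fin d) F) :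
        Matrix (Fin d) (Fin d) F)) x y := rfl
    rw [e2, e1, ← stdEmb_eq_ptens, stdEmb_smul', stdEmb_one, hc]
  have hgeq : g = (fpermGL π⁻¹)⁻¹ * (t * g₂) := by
    show g = (fpermGL π⁻¹)⁻¹ * (t * (t⁻¹ * (fpermGL π⁻¹ * g)))
    group
  rw [hgeq]
  unfold tensorWreathStandard
  refine Subgroup.mul_mem _ (Subgroup.inv_mem _ (Subgroup.subset_closure (Or.inr ?_)))
    (Subgroup.mul_mem _ (Subgroup.subset_closure (Or.inl ?_)) (Subgroup.subset_closure (Or.inl hg₂)))
  · exact fpermGL_isFactorPermutation π⁻¹
  · exact ptensGL_isPureTensor a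

end Cfsg.Agent.Helper4.AschTI
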