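import Mathlib
import Cfsg.Prelude.Def_GeometricClasses
import Cfsg.Agent.Helper4.AschTIE

/-!
# ASCH-PP, T4 (helper4), part A: Gram-matrix forms and the form `ω^{⊗k}` on `(F^2)^{⊗k}`

`bform M u v = u ⬝ᵥ M *ᵥ v`; for `ω = !![0,1;-1,0]` and `Ω = ptens (fun _ => ω)`:
`(ptens a)ᵀ Ω (ptens a) = (∏ det a_i) Ω`, `(fperm σ)ᵀ Ω (fperm σ) = Ω`, `Ωᵀ = (-1)^k Ω`, `Ω Ω = (-1)^k`,
`Ω` has zero diagonal for `k ≥ 1`.
-/

set_option autoImplicit false
set_option linter.style.haveILetI false
set_option linter.unusedVariables false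

namespace Cfsg.Agent.Helper4.AschTI

open Cfsg Cfsg.Geo
open scoped MatrixGroups Matrix

variable {F : Type*} [Field F]

section bform

variable {ι : Type} [Fintype ι] [DecidableEq ι]

/-- the bilinear form with Gram matrix `M` -/
def bform (M : Matrix ι ι F) (u v : ι → F) : F := u ⬝ᵥ (M *ᵥ v)

theorem bform_isBilinear (M : Matrix ι ι F) : IsBilinearForm (bform M) where
  add_left x y v := by unfold bform; rw [add_dotProduct]
  smul_left c x v := by unfold bform; rw [smul_dotProduct, smul_eq_mul]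
  add_right v x y := by unfold bform; rw [Matrix.mulVec_add, dotProduct_add]
  smul_right c v x := by unfold bform; rw [Matrix.mulVec_smul, dotProduct_smul, smul_eq_mul]

theorem bform_mulVec (g M : Matrix ι ι F) (u v : ι → F) :
    bform M (g *ᵥ u) (g *ᵥ v) = bform (gᵀ * M * g) u v := by
  unfold bform
  rw [← Matrix.mulVec_mulVec, ← Matrix.mulVec_mulVec, Matrix.dotProduct_mulVec u gᵀ, Matrix.vecMul_transpose]

theorem bform_smul (c : F) (M : Matrix ι ι F) (u v : ι → F) : bform (c • M) u v = c * bform M u v := by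
  unfold bform
  rw [Matrix.smul_mulVec, dotProduct_smul, smul_eq_mul]

theorem bform_swap (M : Matrix ι ι F) (u v : ι → F) : bform M u v = bform Mᵀ v u := by
  unfold bform
  rw [Matrix.mulVec_transpose, Matrix.dotProduct_mulVec, dotProduct_comm]

theorem bform_apply (M : Matrix ι ι F) (u v : ι → F) :
    bform M u v = ∑ p : ι × ι, u p.1 * M p.1 p.2 * v p.2 := by
  unfold bform
  rw [Fintype.sum_prod_type]
  unfold dotProduct Matrix.mulVec dotProduct
  refine Finset.sum_congr rfl (fun x _ => ?_)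
  rw [Finset.mul_sum]
  refine Finset.sum_congr rfl (fun y _ => ?_)
  rw [mul_assoc]

/-- a skew Gram matrix with zero diagonal gives an alternating form (any characteristic) -/
theorem bform_self_eq_zero (M : Matrix ι ι F) (hskew : Mᵀ = -M) (hdiag : ∀ x, M x x = 0) (v : ι → F) :
    bform M v v = 0 := by
  rw [bform_apply]
  refine Finset.sum_involution (fun p _ => Prod.swap p) ?_ ?_ ?_ ?_
  · intro p _
    have h1 : M p.2 p.1 = - M p.1 p.2 := by
      have := congrFun (congrFun hskew p.1) p.2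
      rwa [Matrix.transpose_apply, Matrix.neg_apply] at this
    show v p.1 * M p.1 p.2 * v p.2 + v p.2 * M p.2 p.1 * v p.1 = 0
    rw [h1]
    ring
  · intro p _ hne hp
    apply hne
    have h2 : p.2 = p.1 := congrArg Prod.fst hp
    rw [h2, hdiag, mul_zero, zero_mul]
  · intro p _
    exact Finset.mem_univ _
  · intro p _
    exact Prod.swap_swap p

theorem bform_nondegenerate (M M' : Matrix ι ι F) (h : M' * M = 1) (c : F) (hc : c ≠ 0) (hM : Mᵀ = c • M) :
    IsNondegenerateForm (bform M) := by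
  intro v hv
  have h1 : M *ᵥ v ≠ 0 := by
    intro h0
    apply hv
    have : M' *ᵥ (M *ᵥ v) = v := by rw [Matrix.mulVec_mulVec, h, Matrix.one_mulVec]
    rw [← this, h0, Matrix.mulVec_zero]
  obtain ⟨i, hi⟩ : ∃ i, (M *ᵥ v) i ≠ 0 := by
    by_contra hcon
    push Not at hcon
    exact h1 (funext hcon)
  have h2 : bform M (Pi.single i 1) v ≠ 0 := by
    unfold bform
    rwa [single_one_dotProduct]
  refine ⟨⟨_, h2⟩, ⟨Pi.single i 1, ?_⟩⟩
  rw [bform_swap, hM, bform_smul]
  exact mul_ne_zero hc h2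

end bform

/-! ### the symplectic form on `F^2` and its tensor powers -/

/-- the standard alternating Gram matrix on `F^2` -/
def omega2 : Matrix (Fin 2) (Fin 2) F := !![0, 1; -1, 0]

theorem omega2_conj (a : Matrix (Fin 2) (Fin 2) F) :
    aᵀ * (omega2 : Matrix (Fin 2) (Fin 2) F) * a = a.det • (omega2 : Matrix (Fin 2) (Fin 2) F) := by
  ext i j
  fin_cases i <;> fin_cases j <;>
    simp [omega2, Matrix.mul_apply, Fin.sum_univ_two, Matrix.det_fin_two] <;> ring

theorem omega2_transpose :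
    (omega2 : Matrix (Fin 2) (Fin 2) F)ᵀ = (-1 : F) • (omega2 : Matrix (Fin 2) (Fin 2) F) := by
  ext i j
  fin_cases i <;> fin_cases j <;> simp [omega2]

theorem omega2_mul_self :
    (omega2 : Matrix (Fin 2) (Fin 2) F) * omega2 = (-1 : F) • (1 : Matrix (Fin 2) (Fin 2) F) := by
  ext i j
  fin_cases i <;> fin_cases j <;> simp [omega2, Matrix.mul_apply, Fin.sum_univ_two]

theorem omega2_diag (x : Fin 2) : (omega2 : Matrix (Fin 2) (Fin 2) F) x x = 0 := by
  fin_cases x <;> simp [omega2]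

variable {d k : ℕ}

theorem ptens_transpose (M : Fin k → Matrix (Fin d) (Fin d) F) :
    (ptens M)ᵀ = ptens (fun i => (M i)ᵀ) := by
  ext x y
  rfl

theorem ptens_smul (c : Fin k → F) (M : Fin k → Matrix (Fin d) (Fin d) F) :
    ptens (fun i => c i • M i) = (∏ i, c i) • ptens M := by
  ext x y
  rw [Matrix.smul_apply, ptens_apply, ptens_apply, smul_eq_mul, ← Finset.prod_mul_distrib]
  rfl

theorem fperm_transpose (σ : Equiv.Perm (Fin k)) :
    (fperm σ : Matrix (Fin k → Fin d) (Fin k → Fin d) F)ᵀ = fperm σ⁻¹ := by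
  classical
  ext x y
  rw [Matrix.transpose_apply]
  unfold fperm
  by_cases h : x = y ∘ σ
  · rw [if_pos h, if_pos]
    rw [h]
    funext j
    simp
  · rw [if_neg h, if_neg]
    intro h'
    apply h
    rw [h']
    funext j
    simp

/-- the Gram matrix `ω ⊗ ⋯ ⊗ ω` -/
def Omega (k : ℕ) : Matrix (Fin k → Fin 2) (Fin k → Fin 2) F := ptens (fun _ => omega2)

theorem Omega_transpose (k : ℕ) :
    (Omega k : Matrix (Fin k → Fin 2) (Fin k → Fin 2) F)ᵀ = ((-1 : F) ^ k) • Omega k := by
  unfold Omega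
  rw [ptens_transpose]
  have h1 : (fun i : Fin k => ((omega2 : Matrix (Fin 2) (Fin 2) F))ᵀ) =
      fun i : Fin k => (-1 : F) • (omega2 : Matrix (Fin 2) (Fin 2) F) := by
    funext i
    exact omega2_transpose
  rw [h1, ptens_smul (fun _ => (-1 : F)), Finset.prod_const, Finset.card_univ, Fintype.card_fin]

theorem Omega_mul_self (k : ℕ) :
    (Omega k : Matrix (Fin k → Fin 2) (Fin k → Fin 2) F) * Omega k = ((-1 : F) ^ k) • 1 := by
  unfold Omega
  rw [ptens_mul]
  have h1 : (fun i : Fin k => (omega2 : Matrix (Fin 2) (Fin 2) F) * omega2) =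
      fun i : Fin k => (-1 : F) • (1 : Matrix (Fin 2) (Fin 2) F) := by
    funext i
    exact omega2_mul_self
  rw [h1, ptens_smul (fun _ => (-1 : F)), Finset.prod_const, Finset.card_univ, Fintype.card_fin, ptens_one]

theorem Omega_diag (hk : 0 < k) (x : Fin k → Fin 2) :
    (Omega k : Matrix (Fin k → Fin 2) (Fin k → Fin 2) F) x x = 0 := by
  unfold Omega
  rw [ptens_apply]
  exact Finset.prod_eq_zero (Finset.mem_univ (⟨0, hk⟩ : Fin k)) (omega2_diag _)

theorem Omega_ptens (a : Fin k → Matrix (Fin 2) (Fin 2) F) :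
    (ptens a)ᵀ * (Omega k : Matrix (Fin k → Fin 2) (Fin k → Fin 2) F) * ptens a =
      (∏ i, (a i).det) • (Omega k : Matrix (Fin k → Fin 2) (Fin k → Fin 2) F) := by
  unfold Omega
  rw [ptens_transpose, ptens_mul, ptens_mul]
  have h1 : (fun i : Fin k => (a i)ᵀ * (omega2 : Matrix (Fin 2) (Fin 2) F) * a i) =
      fun i : Fin k => (a i).det • (omega2 : Matrix (Fin 2) (Fin 2) F) := by
    funext i
    exact omega2_conj (a i)
  rw [h1, ptens_smul]

theorem Omega_fperm (σ : Equiv.Perm (Fin k)) :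
    (fperm σ : Matrix (Fin k → Fin 2) (Fin k → Fin 2) F)ᵀ * Omega k * fperm σ = Omega k := by
  classical
  ext x y
  rw [fperm_transpose, mul_fperm_apply, fperm_mul_apply]
  unfold Omega
  rw [ptens_apply, ptens_apply]
  exact Equiv.prod_comp (σ⁻¹) (fun i => (omega2 : Matrix (Fin 2) (Fin 2) F) (x i) (y i))

end Cfsg.Agent.Helper4.AschTI
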