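import Mathlib
import Cfsg.Prelude.Def_GeometricClasses
import Cfsg.Agent.Helper9.AschC6Base
import Cfsg.Agent.Helper9.AschCompTensor
import Cfsg.Agent.Helper5.AschForm8
import Cfsg.Agent.Helper4.AschTIF
import Cfsg.Agent.Helper4.AschTIT4A
import Cfsg.Agent.Helper4.AschFC7A

/-!
# FORM-C7 (helper4), part B: making the factor forms equal

* `absIrr_of_span_eq_top`: a spanning set of matrices acts absolutely irreducibly.
* `exists_conj_of_factor_conj`: an invertible matrix conjugating the `i`-th tensor factor algebra into the `j`-th one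
  induces an inner automorphism `m ↦ a m a⁻¹` of `M_d(F)` (Skolem–Noether).
* `gram_ptens_uniform`: if moreover the sets `R i` are conjugate to each other, then after a pure tensor change of
  basis the Gram matrix is `c • ptens (fun _ => B₁)`.
-/

set_option autoImplicit false
set_option linter.style.haveILetI false
set_option linter.unusedVariables false
set_option linter.unusedSectionVars false

namespace Cfsg.Agent.Helper4.AschTI

open Cfsg Cfsg.Geo Cfsg.Agent.Helper4.AschP Cfsg.Agent.Helper9.AschC6 Cfsg.Agent.Helper5.AschF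
open scoped MatrixGroups Matrix

variable {F : Type*} [Field F] {d k : ℕ}

theorem absIrr_of_span_eq_top {S : Set (Matrix (Fin d) (Fin d) F)} (hS : Submodule.span F S = ⊤) :
    ActsAbsolutelyIrreducibly S := by
  have huniv := Cfsg.Agent.Helper9.AschComp.absIrred_univ (F := F) d
  constructor
  · intro W hW
    have key : ∀ m ∈ Submodule.span F S, ∀ w ∈ W, m *ᵥ w ∈ W := by
      intro m hm
      induction hm using Submodule.span_induction with
      | mem s hs =>
        intro w hw
        have := hW s hs ⟨w, hw, rfl⟩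
        rwa [Matrix.toLin'_apply] at this
      | zero =>
        intro w hw
        rw [Matrix.zero_mulVec]
        exact W.zero_mem
      | add a b _ _ ha hb =>
        intro w hw
        rw [Matrix.add_mulVec]
        exact W.add_mem (ha w hw) (hb w hw)
      | smul c a _ ha =>
        intro w hw
        rw [Matrix.smul_mulVec]
        exact W.smul_mem c (ha w hw)
    apply huniv.1 W
    intro m _
    have hm : m ∈ Submodule.span F S := by rw [hS]; exact Submodule.mem_top
    rintro _ ⟨w, hw, rfl⟩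
    rw [Matrix.toLin'_apply]
    exact key m hm w hw
  · intro M hM
    have key : ∀ m ∈ Submodule.span F S, M * m = m * M := by
      intro m hm
      induction hm using Submodule.span_induction with
      | mem s hs => exact hM s hs
      | zero => rw [Matrix.mul_zero, Matrix.zero_mul]
      | add a b _ _ ha hb => rw [Matrix.mul_add, Matrix.add_mul, ha, hb]
      | smul c a _ ha => rw [Matrix.mul_smul, Matrix.smul_mul, ha]
    apply huniv.2 M
    intro m _
    exact key m (by rw [hS]; exact Submodule.mem_top)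

/-- two linear maps on `M_d(F)` agreeing on the matrix units are equal -/
theorem linearMap_ext_single {M : Type*} [AddCommGroup M] [Module F M]
    (L₁ L₂ : Matrix (Fin d) (Fin d) F →ₗ[F] M)
    (h : ∀ p q, L₁ (Matrix.single p q (1 : F)) = L₂ (Matrix.single p q (1 : F)))
    (m : Matrix (Fin d) (Fin d) F) : L₁ m = L₂ m := by
  classical
  rw [Matrix.matrix_eq_sum_single m, map_sum, map_sum]
  refine Finset.sum_congr rfl (fun p _ => ?_)
  rw [map_sum, map_sum]
  refine Finset.sum_congr rfl (fun q _ => ?_)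
  have h1 : Matrix.single p q (m p q) = m p q • Matrix.single p q (1 : F) := by
    rw [Matrix.smul_single, smul_eq_mul, mul_one]
  rw [h1, map_smul, map_smul, h]

/-- **Skolem–Noether between tensor factors** -/
theorem exists_conj_of_factor_conj (hd : 0 < d) (s : GL (Fin k → Fin d) F) (i j : Fin k)
    (hs : ∀ m : Matrix (Fin d) (Fin d) F, ∃ m' : Matrix (Fin d) (Fin d) F,
      (s : Matrix (Fin k → Fin d) (Fin k → Fin d) F) * stdEmb d k i m *
        ((s⁻¹ : GL (Fin k → Fin d) F) : Matrix (Fin k → Fin d) (Fin k → Fin d) F) = stdEmb d k j m') :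
    ∃ a : GL (Fin d) F, ∀ m : Matrix (Fin d) (Fin d) F,
      (s : Matrix (Fin k → Fin d) (Fin k → Fin d) F) * stdEmb d k i m *
        ((s⁻¹ : GL (Fin k → Fin d) F) : Matrix (Fin k → Fin d) (Fin k → Fin d) F) =
      stdEmb d k j ((a : Matrix (Fin d) (Fin d) F) * m * ((a⁻¹ : GL (Fin d) F) : Matrix (Fin d) (Fin d) F)) := by
  classical
  choose φ hφ using hs
  have hconj_mul : ∀ X Y : Matrix (Fin k → Fin d) (Fin k → Fin d) F,
      (s : Matrix (Fin k → Fin d) (Fin k → Fin d) F) * X *
        ((s⁻¹ : GL (Fin k → Fin d) F) : Matrix (Fin k → Fin d) (Fin k → Fin d) F) *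
      ((s : Matrix (Fin k → Fin d) (Fin k → Fin d) F) * Y *
        ((s⁻¹ : GL (Fin k → Fin d) F) : Matrix (Fin k → Fin d) (Fin k → Fin d) F)) =
      (s : Matrix (Fin k → Fin d) (Fin k → Fin d) F) * (X * Y) *
        ((s⁻¹ : GL (Fin k → Fin d) F) : Matrix (Fin k → Fin d) (Fin k → Fin d) F) := by
    intro X Y
    calc _ = (s : Matrix (Fin k → Fin d) (Fin k → Fin d) F) * X *
          (((s⁻¹ : GL (Fin k → Fin d) F) : Matrix (Fin k → Fin d) (Fin k → Fin d) F) *
            (s : Matrix (Fin k → Fin d) (Fin k → Fin d) F)) * Y *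
          ((s⁻¹ : GL (Fin k → Fin d) F) : Matrix (Fin k → Fin d) (Fin k → Fin d) F) := by
          simp only [Matrix.mul_assoc]
      _ = _ := by
          rw [Units.inv_mul, Matrix.mul_one]
          simp only [Matrix.mul_assoc]
  have hsys : IsUnitsSys (fun p q => φ (Matrix.single p q (1 : F))) := by
    refine ⟨fun p q r t => ?_, ?_⟩
    · apply stdEmb_injective hd j
      rw [stdEmb_mul, ← hφ, ← hφ, hconj_mul, ← stdEmb_mul]
      by_cases h : q = r
      · subst h
        rw [if_pos rfl, Matrix.single_mul_single_same, mul_one, hφ]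
      · rw [if_neg h, Matrix.single_mul_single_of_ne (1 : F) p q r h (1 : F), stdEmb_zero, Matrix.mul_zero,
          Matrix.zero_mul, stdEmb_zero]
    · apply stdEmb_injective hd j
      rw [stdEmb_sum, stdEmb_one]
      have h1 : ∀ p ∈ (Finset.univ : Finset (Fin d)), stdEmb d k j (φ (Matrix.single p p (1 : F))) =
          (s : Matrix (Fin k → Fin d) (Fin k → Fin d) F) * stdEmb d k i (Matrix.single p p (1 : F)) *
            ((s⁻¹ : GL (Fin k → Fin d) F) : Matrix (Fin k → Fin d) (Fin k → Fin d) F) :=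
        fun p _ => (hφ _).symm
      rw [Finset.sum_congr rfl h1, ← Finset.sum_mul, ← Finset.mul_sum, ← stdEmb_sum,
        Matrix.sum_single_one, stdEmb_one, Matrix.mul_one, Units.mul_inv]
  obtain ⟨a, ha⟩ := exists_conj_of_unitsSys hd _ hsys
  refine ⟨a, ?_⟩
  let L₁ : Matrix (Fin d) (Fin d) F →ₗ[F] Matrix (Fin k → Fin d) (Fin k → Fin d) F :=
    { toFun := fun m => (s : Matrix (Fin k → Fin d) (Fin k → Fin d) F) * stdEmb d k i m *
        ((s⁻¹ : GL (Fin k → Fin d) F) : Matrix (Fin k → Fin d) (Fin k → Fin d) F)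
      map_add' := fun x y => by
        simp only [stdEmb_add', Matrix.mul_add, Matrix.add_mul]
      map_smul' := fun c x => by
        simp only [stdEmb_smul', Matrix.mul_smul, Matrix.smul_mul, RingHom.id_apply] }
  let L₂ : Matrix (Fin d) (Fin d) F →ₗ[F] Matrix (Fin k → Fin d) (Fin k → Fin d) F :=
    { toFun := fun m => stdEmb d k j ((a : Matrix (Fin d) (Fin d) F) * m *
        ((a⁻¹ : GL (Fin d) F) : Matrix (Fin d) (Fin d) F))
      map_add' := fun x y => by
        simp only [Matrix.mul_add, Matrix.add_mul, stdEmb_add']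
      map_smul' := fun c x => by
        simp only [Matrix.mul_smul, Matrix.smul_mul, stdEmb_smul', RingHom.id_apply] }
  intro m
  refine linearMap_ext_single L₁ L₂ (fun p q => ?_) m
  show (s : Matrix (Fin k → Fin d) (Fin k → Fin d) F) * stdEmb d k i (Matrix.single p q (1 : F)) *
      ((s⁻¹ : GL (Fin k → Fin d) F) : Matrix (Fin k → Fin d) (Fin k → Fin d) F) =
    stdEmb d k j ((a : Matrix (Fin d) (Fin d) F) * Matrix.single p q (1 : F) *
      ((a⁻¹ : GL (Fin d) F) : Matrix (Fin d) (Fin d) F))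
  rw [hφ, ha]

/-- transporting an invariant Gram matrix along a conjugation -/
theorem gram_conj_unique (σ : F →+* F) {Ri Rj : Set (Matrix (Fin d) (Fin d) F)}
    (hRi : ActsAbsolutelyIrreducibly Ri) (hRiu : ∀ r ∈ Ri, IsUnit r.det)
    {Bi Bj : Matrix (Fin d) (Fin d) F} (hBi : ∀ r ∈ Ri, GramInv σ r Bi) (hBi0 : Bi ≠ 0)
    (hBj : ∀ r ∈ Rj, GramInv σ r Bj) (hBj0 : Bj ≠ 0) (a : GL (Fin d) F)
    (ha : ∀ r ∈ Ri, (a : Matrix (Fin d) (Fin d) F) * r *
      ((a⁻¹ : GL (Fin d) F) : Matrix (Fin d) (Fin d) F) ∈ Rj) :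
    ∃ μ : F, μ ≠ 0 ∧ (a : Matrix (Fin d) (Fin d) F)ᵀ * Bj * (a : Matrix (Fin d) (Fin d) F).map σ = μ • Bi := by
  set A : Matrix (Fin d) (Fin d) F := (a : Matrix (Fin d) (Fin d) F) with hA
  set A' : Matrix (Fin d) (Fin d) F := ((a⁻¹ : GL (Fin d) F) : Matrix (Fin d) (Fin d) F) with hA'
  have h1 : A' * A = 1 := Units.inv_mul a
  have h2 : A * A' = 1 := Units.mul_inv a
  have h1t : Aᵀ * A'ᵀ = 1 := by rw [← Matrix.transpose_mul, h1, Matrix.transpose_one]
  have h2t : A'ᵀ * Aᵀ = 1 := by rw [← Matrix.transpose_mul, h2, Matrix.transpose_one]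
  have h1s : A'.map σ * A.map σ = 1 := by
    rw [← Matrix.map_mul, h1]
    exact Matrix.map_one σ (map_zero σ) (map_one σ)
  have h2s : A.map σ * A'.map σ = 1 := by
    rw [← Matrix.map_mul, h2]
    exact Matrix.map_one σ (map_zero σ) (map_one σ)
  have hinv : ∀ r ∈ Ri, GramInv σ r (Aᵀ * Bj * A.map σ) := by
    intro r hr
    have h3 : GramInv σ (A * r * A') Bj := hBj _ (ha r hr)
    unfold GramInv at h3 ⊢
    rw [Matrix.transpose_mul, Matrix.transpose_mul, Matrix.map_mul, Matrix.map_mul] at h3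
    calc rᵀ * (Aᵀ * Bj * A.map σ) * r.map σ
        = (Aᵀ * A'ᵀ) * (rᵀ * Aᵀ * Bj * (A.map σ * r.map σ)) * (A'.map σ * A.map σ) := by
          rw [h1t, h1s, Matrix.one_mul, Matrix.mul_one]
          simp only [Matrix.mul_assoc]
      _ = Aᵀ * (A'ᵀ * (rᵀ * Aᵀ) * Bj * (A.map σ * r.map σ * A'.map σ)) * A.map σ := by
          simp only [Matrix.mul_assoc]
      _ = Aᵀ * Bj * A.map σ := by rw [h3]
  obtain ⟨μ, hμ⟩ := gram_unique σ hRi hRiu hBi hinv hBi0
  refine ⟨μ, ?_, hμ⟩
  rintro rfl
  rw [zero_smul] at hμ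
  apply hBj0
  calc Bj = (A'ᵀ * Aᵀ) * Bj * (A.map σ * A'.map σ) := by rw [h2t, h2s, Matrix.one_mul, Matrix.mul_one]
    _ = A'ᵀ * (Aᵀ * Bj * A.map σ) * A'.map σ := by simp only [Matrix.mul_assoc]
    _ = 0 := by rw [hμ, Matrix.mul_zero, Matrix.zero_mul]

/-- **the uniform product formula**: if the sets `R i` are conjugate to `R i₀`, a pure tensor change of basis makes
all the factor Gram matrices equal -/
theorem gram_ptens_uniform (σ : F →+* F) {G : Matrix (Fin k → Fin d) (Fin k → Fin d) F} (hG0 : G ≠ 0)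
    (R : Fin k → Set (Matrix (Fin d) (Fin d) F)) (hR : ∀ i, ActsAbsolutelyIrreducibly (R i))
    (hRu : ∀ i, ∀ r ∈ R i, IsUnit r.det)
    (hinv : ∀ i, ∀ r ∈ R i, (stdEmb d k i r)ᵀ * G * (stdEmb d k i r).map σ = G) (i₀ : Fin k)
    (htr : ∀ j, ∃ a : GL (Fin d) F, ∀ r ∈ R i₀, (a : Matrix (Fin d) (Fin d) F) * r *
      ((a⁻¹ : GL (Fin d) F) : Matrix (Fin d) (Fin d) F) ∈ R j) :
    ∃ (c : F) (B₁ : Matrix (Fin d) (Fin d) F) (a : Fin k → GL (Fin d) F), c ≠ 0 ∧ IsUnit B₁.det ∧
      (∀ r ∈ R i₀, GramInv σ r B₁) ∧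
      (ptens (fun i => (a i : Matrix (Fin d) (Fin d) F)))ᵀ * G *
        (ptens (fun i => (a i : Matrix (Fin d) (Fin d) F))).map σ = c • ptens (fun _ => B₁) := by
  classical
  obtain ⟨c, B, hc, hBu, hBinv, hGB⟩ := gram_ptens σ hG0 R hR hRu hinv
  have hBne : ∀ i, B i ≠ 0 := by
    intro i h
    have hu := hBu i
    rw [h] at hu
    rcases Nat.eq_zero_or_pos d with hd | hd
    · subst hd
      apply hG0
      ext x y
      exact (x i).elim0
    · haveI : Nonempty (Fin d) := ⟨⟨0, hd⟩⟩
      rw [Matrix.det_zero] at hu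
      exact not_isUnit_zero hu
  choose a ha using htr
  have hex : ∀ j, ∃ μ : F, μ ≠ 0 ∧ (a j : Matrix (Fin d) (Fin d) F)ᵀ * B j *
      (a j : Matrix (Fin d) (Fin d) F).map σ = μ • B i₀ := fun j =>
    gram_conj_unique σ (hR i₀) (hRu i₀) (hBinv i₀) (hBne i₀) (hBinv j) (hBne j) (a j) (ha j)
  choose μ hμ0 hμ using hex
  refine ⟨c * ∏ j, μ j, B i₀, a, mul_ne_zero hc (Finset.prod_ne_zero_iff.2 (fun j _ => hμ0 j)), hBu i₀,
    hBinv i₀, ?_⟩
  rw [hGB, Matrix.mul_smul, Matrix.smul_mul, ptens_transpose, ptens_map, ptens_mul, ptens_mul]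
  have h1 : (fun i => (a i : Matrix (Fin d) (Fin d) F)ᵀ * B i * (a i : Matrix (Fin d) (Fin d) F).map σ) =
      fun i => μ i • B i₀ := funext hμ
  rw [h1, ptens_smul, smul_smul]

end Cfsg.Agent.Helper4.AschTI
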