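import Mathlib
import Cfsg.Agent.Helper4.AschPPA

/-!
# ASCH-PP, tensor-induced case (helper4), part C: ordered products over `Fin k` and products of matrix units

`fprod A = A 0 * A 1 * ⋯ * A (k-1)` in a (non-commutative) monoid, with the lemmas needed for products of
pairwise commuting systems of matrix units: `UU E x y = ∏ i, E i (x i) (y i)` is a `d^k × d^k` system of matrix units.
-/

set_option autoImplicit false
set_option linter.style.haveILetI false
set_option linter.unusedVariables false

namespace Cfsg.Agent.Helper4.AschP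

section monoid

variable {M : Type*} [Monoid M]

/-- the ordered product `A 0 * A 1 * ⋯ * A (k-1)` -/
def fprod {k : ℕ} (A : Fin k → M) : M := (List.ofFn A).prod

theorem fprod_zero (A : Fin 0 → M) : fprod A = 1 := by
  unfold fprod
  simp

theorem fprod_succ {k : ℕ} (A : Fin (k + 1) → M) : fprod A = A 0 * fprod (Fin.tail A) := by
  unfold fprod
  rw [List.ofFn_succ, List.prod_cons]
  rfl

theorem commute_fprod {k : ℕ} (c : M) (A : Fin k → M) (h : ∀ i, Commute c (A i)) :
    Commute c (fprod A) := by
  induction k with
  | zero => rw [fprod_zero]; exact Commute.one_right c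
  | succ k ih =>
    rw [fprod_succ]
    exact (h 0).mul_right (ih (Fin.tail A) (fun i => h i.succ))

theorem fprod_mul {k : ℕ} (A B : Fin k → M) (h : ∀ i j, i ≠ j → Commute (A i) (B j)) :
    fprod (fun i => A i * B i) = fprod A * fprod B := by
  induction k with
  | zero => simp [fprod_zero]
  | succ k ih =>
    rw [fprod_succ, fprod_succ A, fprod_succ B]
    have h1 : fprod (Fin.tail fun i => A i * B i) = fprod (Fin.tail A) * fprod (Fin.tail B) :=
      ih (Fin.tail A) (Fin.tail B) (fun i j hij => h i.succ j.succ (fun e => hij (Fin.succ_injective _ e)))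
    rw [h1]
    have h2 : Commute (B 0) (fprod (Fin.tail A)) :=
      commute_fprod (B 0) (Fin.tail A) (fun i => (h i.succ 0 (Fin.succ_ne_zero i)).symm)
    calc A 0 * B 0 * (fprod (Fin.tail A) * fprod (Fin.tail B))
        = A 0 * (B 0 * fprod (Fin.tail A)) * fprod (Fin.tail B) := by simp only [mul_assoc]
      _ = A 0 * (fprod (Fin.tail A) * B 0) * fprod (Fin.tail B) := by rw [h2.eq]
      _ = A 0 * fprod (Fin.tail A) * (B 0 * fprod (Fin.tail B)) := by simp only [mul_assoc]

theorem fprod_one {k : ℕ} : fprod (fun _ : Fin k => (1 : M)) = 1 := by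
  induction k with
  | zero => exact fprod_zero _
  | succ k ih =>
    rw [fprod_succ, one_mul]
    exact ih

theorem mul_fprod_update {k : ℕ} (c : M) (A : Fin k → M) (i : Fin k)
    (h : ∀ j, j ≠ i → Commute c (A j)) :
    c * fprod A = fprod (Function.update A i (c * A i)) := by
  induction k with
  | zero => exact i.elim0
  | succ k ih =>
    rcases Fin.eq_zero_or_eq_succ i with rfl | ⟨i', rfl⟩
    · rw [fprod_succ, fprod_succ (Function.update A 0 (c * A 0)), Function.update_self,
        Fin.tail_update_zero, mul_assoc]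
    · have h0 : Commute c (A 0) := h 0 (Fin.succ_ne_zero i').symm
      rw [fprod_succ, fprod_succ (Function.update A i'.succ (c * A i'.succ)),
        Function.update_of_ne (Fin.succ_ne_zero i').symm, Fin.tail_update_succ, ← mul_assoc, h0.eq,
        mul_assoc]
      congr 1
      exact ih (Fin.tail A) i' (fun j hj => h j.succ (fun e => hj (Fin.succ_injective _ e)))

end monoid

section semiring

variable {R : Type*} [Semiring R]

theorem fprod_eq_zero {k : ℕ} (A : Fin k → R) (i : Fin k) (h : A i = 0) : fprod A = 0 := by
  unfold fprod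
  apply List.prod_eq_zero
  rw [List.mem_ofFn]
  exact ⟨i, h⟩

theorem fprod_sum {k d : ℕ} (f : Fin k → Fin d → R) :
    fprod (fun i => ∑ a, f i a) = ∑ x : Fin k → Fin d, fprod (fun i => f i (x i)) := by
  induction k with
  | zero =>
    rw [fprod_zero]
    simp [fprod_zero]
  | succ k ih =>
    rw [fprod_succ]
    have h1 : fprod (Fin.tail fun i => ∑ a, f i a) =
        ∑ x : Fin k → Fin d, fprod (fun i => f i.succ (x i)) := ih (fun i => f i.succ)
    rw [h1, Finset.sum_mul_sum]
    rw [← (Fin.consEquiv (fun _ : Fin (k + 1) => Fin d)).sum_comp, Fintype.sum_prod_type]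
    refine Finset.sum_congr rfl (fun a _ => Finset.sum_congr rfl (fun x _ => ?_))
    rw [fprod_succ]
    rfl

end semiring

section units

variable {R : Type*} [Ring R]

/-- the product units `∏ i, E i (x i) (y i)` -/
def UU {k d : ℕ} (E : Fin k → Fin d → Fin d → R) (x y : Fin k → Fin d) : R :=
  fprod (fun i => E i (x i) (y i))

variable {k d : ℕ} {E : Fin k → Fin d → Fin d → R}

theorem UU_mul (hE : ∀ i, IsUnitsSys (E i))
    (hcomm : ∀ i j, i ≠ j → ∀ a b a' b', E i a b * E j a' b' = E j a' b' * E i a b)
    (x y y' z : Fin k → Fin d) : UU E x y * UU E y' z = if y = y' then UU E x z else 0 := by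
  unfold UU
  rw [← fprod_mul _ _ (fun i j hij => hcomm i j hij _ _ _ _)]
  by_cases h : y = y'
  · subst h
    rw [if_pos rfl]
    congr 1
    funext i
    rw [(hE i).mul, if_pos rfl]
  · rw [if_neg h]
    obtain ⟨i, hi⟩ := Function.ne_iff.1 h
    exact fprod_eq_zero _ i (by rw [(hE i).mul, if_neg hi])

theorem UU_sum (hE : ∀ i, IsUnitsSys (E i)) : ∑ x : Fin k → Fin d, UU E x x = 1 := by
  unfold UU
  rw [← fprod_sum (fun i a => E i a a)]
  have : (fun i => ∑ a, E i a a) = fun _ : Fin k => (1 : R) := by
    funext i
    exact (hE i).sum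
  rw [this, fprod_one]

theorem E_mul_UU (hE : ∀ i, IsUnitsSys (E i))
    (hcomm : ∀ i j, i ≠ j → ∀ a b a' b', E i a b * E j a' b' = E j a' b' * E i a b)
    (i : Fin k) (a b : Fin d) (x y : Fin k → Fin d) :
    E i a b * UU E x y = if x i = b then UU E (Function.update x i a) y else 0 := by
  unfold UU
  rw [mul_fprod_update (E i a b) _ i (fun j hj => hcomm i j (Ne.symm hj) _ _ _ _)]
  by_cases h : x i = b
  · rw [if_pos h]
    congr 1
    funext j
    by_cases hj : j = i
    · subst hj
      rw [Function.update_self, Function.update_self, (hE j).mul, if_pos h.symm]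
    · rw [Function.update_of_ne hj, Function.update_of_ne hj]
  · rw [if_neg h]
    refine fprod_eq_zero _ i ?_
    rw [Function.update_self, (hE i).mul, if_neg (fun e => h e.symm)]

end units

end Cfsg.Agent.Helper4.AschP
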