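import Mathlib
import Cfsg.Prelude.Def_GeometricClasses
import Cfsg.Agent.Helper9.AschC6Base
import Cfsg.Agent.Helper4.AschTIC

/-!
# ASCH-PP piece T2a (helper4): `simul_decomp`

`k` pairwise commuting `d × d` systems of matrix units in `M_n(F)`, `n = d ^ k`, are simultaneously standard.
-/

set_option autoImplicit false
set_option linter.style.haveILetI false
set_option linter.unusedVariables false

namespace Cfsg.Agent.Helper4.AschTI

open Cfsg Cfsg.Geo Cfsg.Agent.Helper4.AschP Cfsg.Agent.Helper9.AschC6
open scoped MatrixGroups Matrix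

variable {n : ℕ} {F : Type*} [Field F]

/-- **T2a** (exact stub). -/
theorem simul_decomp {d k : ℕ} (hd : 0 < d) (hn : n = d ^ k)
    (E : Fin k → Fin d → Fin d → Matrix (Fin n) (Fin n) F) (hE : ∀ i, IsUnitsSys (E i))
    (hcomm : ∀ i j, i ≠ j → ∀ a b a' b', E i a b * E j a' b' = E j a' b' * E i a b) :
    ∃ (e : Fin n ≃ (Fin k → Fin d)) (Q : GL (Fin n) F), ∀ i a b,
      E i a b = (Q : Matrix (Fin n) (Fin n) F) *
        (stdEmb d k i (Matrix.single a b (1 : F))).submatrix e e *
        ((Q⁻¹ : GL (Fin n) F) : Matrix (Fin n) (Fin n) F) := by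
  classical
  have hnpos : 0 < n := by rw [hn]; exact pow_pos hd k
  haveI : NeZero n := ⟨hnpos.ne'⟩
  haveI : Nontrivial (Matrix (Fin n) (Fin n) F) := inferInstance
  let z : Fin k → Fin d := fun _ => ⟨0, hd⟩
  -- the corner idempotent is non-zero
  have he0 : UU E z z ≠ 0 := by
    intro h0
    have h1 : (1 : Matrix (Fin n) (Fin n) F) = 0 := by
      rw [← UU_sum hE]
      apply Finset.sum_eq_zero
      intro x _
      have e1 : UU E x x = UU E x z * UU E z z * UU E z x := by
        rw [UU_mul hE hcomm, if_pos rfl, UU_mul hE hcomm, if_pos rfl]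
      rw [e1, h0, mul_zero, zero_mul]
    exact one_ne_zero h1
  obtain ⟨w, hw⟩ : ∃ w : Fin n → F, UU E z z *ᵥ w ≠ 0 := by
    by_contra hcon
    push Not at hcon
    apply he0
    have : Matrix.toLin' (UU E z z) = 0 := by
      apply LinearMap.ext
      intro w
      rw [Matrix.toLin'_apply, hcon w]
      rfl
    exact (LinearEquiv.map_eq_zero_iff _).1 this
  set v₀ : Fin n → F := UU E z z *ᵥ w with hv₀
  have hv₀z : UU E z z *ᵥ v₀ = v₀ := by
    rw [hv₀, Matrix.mulVec_mulVec, UU_mul hE hcomm, if_pos rfl]
  let v : (Fin k → Fin d) → (Fin n → F) := fun x => UU E x z *ᵥ v₀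
  have hUv : ∀ y' x' x : Fin k → Fin d, UU E y' x' *ᵥ v x = if x' = x then v y' else 0 := by
    intro y' x' x
    show UU E y' x' *ᵥ (UU E x z *ᵥ v₀) = _
    rw [Matrix.mulVec_mulVec, UU_mul hE hcomm]
    by_cases h : x' = x
    · rw [if_pos h, if_pos h]
    · rw [if_neg h, if_neg h, Matrix.zero_mulVec]
  have hvz : v z = v₀ := hv₀z
  have hEv : ∀ i a b x, E i a b *ᵥ v x = if x i = b then v (Function.update x i a) else 0 := by
    intro i a b x
    show E i a b *ᵥ (UU E x z *ᵥ v₀) = _
    rw [Matrix.mulVec_mulVec, E_mul_UU hE hcomm]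
    by_cases h : x i = b
    · rw [if_pos h, if_pos h]
    · rw [if_neg h, if_neg h, Matrix.zero_mulVec]
  -- linear independence
  have hli : LinearIndependent F v := by
    rw [Fintype.linearIndependent_iff]
    intro g hg y
    have h1 : UU E z y *ᵥ (∑ x, g x • v x) = g y • v₀ := by
      rw [Matrix.mulVec_sum]
      rw [Finset.sum_eq_single y]
      · rw [Matrix.mulVec_smul, hUv, if_pos rfl, hvz]
      · intro x _ hxy
        rw [Matrix.mulVec_smul, hUv, if_neg (Ne.symm hxy), smul_zero]
      · intro h
        exact absurd (Finset.mem_univ _) h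
    rw [hg, Matrix.mulVec_zero] at h1
    rcases smul_eq_zero.1 h1.symm with h | h
    · exact h
    · exact absurd h hw
  -- the index bijection
  have hcard : Fintype.card (Fin n) = Fintype.card (Fin k → Fin d) := by
    simp [hn]
  let e : Fin n ≃ (Fin k → Fin d) := Fintype.equivOfCardEq hcard
  -- the base change
  let Q₀ : Matrix (Fin n) (Fin n) F := Matrix.of (fun r j => v (e j) r)
  have hQ₀col : Q₀.col = fun j => v (e j) := by
    funext j r
    rfl
  have hQ₀u : IsUnit Q₀ := by
    rw [← Matrix.linearIndependent_cols_iff_isUnit, hQ₀col]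
    exact hli.comp e e.injective
  let Q : GL (Fin n) F := hQ₀u.unit
  have hQ : (Q : Matrix (Fin n) (Fin n) F) = Q₀ := rfl
  refine ⟨e, Q, fun i a b => ?_⟩
  have key : E i a b * Q₀ = Q₀ * (stdEmb d k i (Matrix.single a b (1 : F))).submatrix e e := by
    ext r j
    have hL : (E i a b * Q₀) r j = (E i a b *ᵥ v (e j)) r := by
      rw [Matrix.mul_apply]
      rfl
    rw [hL, hEv, Matrix.mul_apply]
    have hR : ∀ l : Fin n, Q₀ r l * (stdEmb d k i (Matrix.single a b (1 : F))).submatrix e e l j =
        v (e l) r * stdEmb d k i (Matrix.single a b (1 : F)) (e l) (e j) := fun l => rfl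
    rw [Finset.sum_congr rfl (fun l _ => hR l)]
    rw [e.sum_comp (fun y => v y r * stdEmb d k i (Matrix.single a b (1 : F)) y (e j))]
    set x := e j with hx
    by_cases h : x i = b
    · rw [if_pos h, Finset.sum_eq_single (Function.update x i a)]
      · unfold stdEmb
        rw [if_pos, Matrix.single_apply, if_pos, mul_one]
        · exact ⟨by rw [Function.update_self], h.symm⟩
        · intro j' hj'
          rw [Function.update_of_ne hj']
      · intro y _ hy
        unfold stdEmb
        by_cases hc : ∀ j', j' ≠ i → y j' = x j'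
        · rw [if_pos hc, Matrix.single_apply, if_neg, mul_zero]
          rintro ⟨h1, -⟩
          apply hy
          funext j'
          by_cases hj' : j' = i
          · subst hj'
            rw [Function.update_self, h1]
          · rw [Function.update_of_ne hj', hc j' hj']
        · rw [if_neg hc, mul_zero]
      · intro h'
        exact absurd (Finset.mem_univ _) h'
    · rw [if_neg h]
      symm
      apply Finset.sum_eq_zero
      intro y _
      unfold stdEmb
      by_cases hc : ∀ j', j' ≠ i → y j' = x j'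
      · rw [if_pos hc, Matrix.single_apply, if_neg, mul_zero]
        rintro ⟨-, h2⟩
        exact h h2.symm
      · rw [if_neg hc, mul_zero]
    
  rw [hQ, ← key, Matrix.mul_assoc]
  have : Q₀ * ((Q⁻¹ : GL (Fin n) F) : Matrix (Fin n) (Fin n) F) = 1 := by
    rw [← hQ, Units.mul_inv]
  rw [this, Matrix.mul_one]

end Cfsg.Agent.Helper4.AschTI
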