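import Mathlib
import Cfsg.Prelude.Def_GeometricClasses
import Cfsg.Agent.Lead.AschBase
import Cfsg.Agent.Helper9.AschC6Base
import Cfsg.Agent.Helper4.AschTID
import Cfsg.Agent.Helper4.AschPPB

/-!
# ASCH-PP piece T2 (helper4): `tensor_induced_exit`, modulo T2b (`mem_tensorWreathStandard_of_permutes`)
-/

set_option autoImplicit false
set_option linter.style.haveILetI false
set_option linter.unusedVariables false

namespace Cfsg.Agent.Helper4.AschTI

open Cfsg Cfsg.Geo Cfsg.Agent.Lead.Asch Cfsg.Agent.Helper4.AschP Cfsg.Agent.Helper9.AschC6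
open scoped MatrixGroups Matrix

variable {n : ℕ} {F : Type*} [Field F]

theorem stdEmb_add (d k : ℕ) (i : Fin k) (m m' : Matrix (Fin d) (Fin d) F) :
    stdEmb d k i (m + m') = stdEmb d k i m + stdEmb d k i m' := by
  ext x y
  simp only [stdEmb, Matrix.add_apply]
  split_ifs <;> simp

theorem stdEmb_smul (d k : ℕ) (i : Fin k) (c : F) (m : Matrix (Fin d) (Fin d) F) :
    stdEmb d k i (c • m) = c • stdEmb d k i m := by
  ext x y
  simp only [stdEmb, Matrix.smul_apply]
  split_ifs <;> simp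

/-- cancellation in a conjugation -/
theorem conj_cancel {R : Type*} [Ring R] (Q g : Rˣ) (X : R) :
    ((Q⁻¹ : Rˣ) : R) * (g : R) * (Q : R) * (((Q⁻¹ : Rˣ) : R) * X * (Q : R)) *
      (((Q⁻¹ : Rˣ) : R) * ((g⁻¹ : Rˣ) : R) * (Q : R)) =
    ((Q⁻¹ : Rˣ) : R) * ((g : R) * X * ((g⁻¹ : Rˣ) : R)) * (Q : R) := by
  simp only [mul_assoc, Units.mul_inv_cancel_left]

/-- **T2 modulo T2b** -/
theorem tensor_induced_exit_of [Fintype F] {H : Subgroup (GL (Fin n) F)} {d k : ℕ}
    (hT2b : ∀ (g : GL (Fin k → Fin d) F) (π : Equiv.Perm (Fin k)),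
      (∀ (i : Fin k) (m : Matrix (Fin d) (Fin d) F), ∃ m' : Matrix (Fin d) (Fin d) F,
        (g : Matrix (Fin k → Fin d) (Fin k → Fin d) F) * stdEmb d k i m *
          ((g⁻¹ : GL (Fin k → Fin d) F) : Matrix (Fin k → Fin d) (Fin k → Fin d) F) = stdEmb d k (π i) m') →
      g ∈ tensorWreathStandard d k F)
    {PP : Fin k → Subgroup (GL (Fin n) F)} (h : TIData n F H d k PP) :
    ∃ (e : Fin n ≃ (Fin k → Fin d)) (Q : GL (Fin n) F), H ≤ tensorWreathSubgroup d k e Q := by
  classical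
  have hd0 : 0 < d := by have := h.hd; omega
  choose E hE hEs using h.units
  have hcommE : ∀ i j, i ≠ j → ∀ a b a' b', E i a b * E j a' b' = E j a' b' * E i a b := by
    intro i j hij a b a' b'
    have h1 : E i a b ∈ gspan F (R := Matrix (Fin n) (Fin n) F) (PP i) := hEs i ▸ mem_uspan (E i) a b
    have h2 : E j a' b' ∈ gspan F (R := Matrix (Fin n) (Fin n) F) (PP j) := hEs j ▸ mem_uspan (E j) a' b'
    refine commute_of_mem_span (F := F) (S := mset (PP i)) (T := mset (PP j)) ?_ h1 h2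
    rintro _ ⟨x, hx, rfl⟩ _ ⟨y, hy, rfl⟩
    rw [← Units.val_mul, ← Units.val_mul, h.comm i j hij x hx y hy]
  obtain ⟨e, Q, hEQ⟩ := simul_decomp hd0 h.dim E hE hcommE
  refine ⟨e, Q, fun g hg => ?_⟩
  obtain ⟨π, hπ⟩ := h.perm g hg
  -- the linear maps `m ↦ Q (stdEmb i m)^e Q⁻¹`
  let Λ : Fin k → Matrix (Fin d) (Fin d) F →ₗ[F] Matrix (Fin n) (Fin n) F := fun i =>
    { toFun := fun m => (Q : Matrix (Fin n) (Fin n) F) * (stdEmb d k i m).submatrix e e *
        ((Q⁻¹ : GL (Fin n) F) : Matrix (Fin n) (Fin n) F)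
      map_add' := fun a b => by
        simp only [stdEmb_add, Matrix.submatrix_add, Pi.add_apply, Matrix.mul_add, Matrix.add_mul]
      map_smul' := fun c a => by
        simp only [stdEmb_smul, Matrix.submatrix_smul, Pi.smul_apply, Matrix.mul_smul,
          Matrix.smul_mul, RingHom.id_apply] }
  have hΛ : ∀ i m, Λ i m = (Q : Matrix (Fin n) (Fin n) F) * (stdEmb d k i m).submatrix e e *
        ((Q⁻¹ : GL (Fin n) F) : Matrix (Fin n) (Fin n) F) := fun i m => rfl
  have hΛE : ∀ i a b, Λ i (Matrix.single a b (1 : F)) = E i a b := fun i a b => (hEQ i a b).symm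
  have hrange : ∀ i, gspan F (R := Matrix (Fin n) (Fin n) F) (PP i) = LinearMap.range (Λ i) := by
    intro i
    rw [← hEs i]
    apply le_antisymm
    · unfold uspan
      rw [Submodule.span_le]
      rintro _ ⟨p, rfl⟩
      exact ⟨Matrix.single p.1 p.2 (1 : F), hΛE i p.1 p.2⟩
    · rintro _ ⟨m, rfl⟩
      rw [Matrix.matrix_eq_sum_single m, map_sum]
      refine Submodule.sum_mem _ (fun a _ => ?_)
      rw [map_sum]
      refine Submodule.sum_mem _ (fun b _ => ?_)
      have h1 : Matrix.single a b (m a b) = m a b • Matrix.single a b (1 : F) := by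
        rw [Matrix.smul_single, smul_eq_mul, mul_one]
      rw [h1, map_smul, hΛE]
      exact Submodule.smul_mem _ _ (mem_uspan (E i) a b)
  have hconj : ∀ i, ∀ X ∈ gspan F (R := Matrix (Fin n) (Fin n) F) (PP i),
      (g : Matrix (Fin n) (Fin n) F) * X * ((g⁻¹ : GL (Fin n) F) : Matrix (Fin n) (Fin n) F) ∈
        gspan F (R := Matrix (Fin n) (Fin n) F) (PP (π i)) := by
    intro i X hX
    have hle : (gspan F (R := Matrix (Fin n) (Fin n) F) (PP i)).map
        (conjL F (R := Matrix (Fin n) (Fin n) F) g : Matrix (Fin n) (Fin n) F →ₗ[F] Matrix (Fin n) (Fin n) F) ≤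
        gspan F (R := Matrix (Fin n) (Fin n) F) (PP (π i)) := by
      unfold gspan
      rw [Submodule.map_span, Submodule.span_le]
      rintro _ ⟨_, ⟨x, hx, rfl⟩, rfl⟩
      refine Submodule.subset_span ⟨g * x * g⁻¹, hπ i x hx, ?_⟩
      show ((g * x * g⁻¹ : GL (Fin n) F) : Matrix (Fin n) (Fin n) F) = _
      rw [Units.val_mul, Units.val_mul]
      rfl
    exact hle ⟨X, hX, rfl⟩
  -- the element of the standard group
  let s : GL (Fin k → Fin d) F := glReindex e (Q⁻¹ * g * Q)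
  have hs : s ∈ tensorWreathStandard d k F := by
    apply hT2b s π
    intro i m
    have h1 : Λ i m ∈ gspan F (R := Matrix (Fin n) (Fin n) F) (PP i) := by
      rw [hrange i]
      exact ⟨m, rfl⟩
    have h2 := hconj i _ h1
    rw [hrange (π i)] at h2
    obtain ⟨m', hm'⟩ := h2
    refine ⟨m', ?_⟩
    -- `stdEmb j m = R (Q⁻¹ Λ_j(m) Q)`
    have hR : ∀ (j : Fin k) (m₀ : Matrix (Fin d) (Fin d) F), stdEmb d k j m₀ =
        (((Q⁻¹ : GL (Fin n) F) : Matrix (Fin n) (Fin n) F) * Λ j m₀ *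
          (Q : Matrix (Fin n) (Fin n) F)).submatrix e.symm e.symm := by
      intro j m₀
      have h3 : ((Q⁻¹ : GL (Fin n) F) : Matrix (Fin n) (Fin n) F) * Λ j m₀ *
          (Q : Matrix (Fin n) (Fin n) F) = (stdEmb d k j m₀).submatrix e e := by
        rw [hΛ]
        have := conj_cancel (R := Matrix (Fin n) (Fin n) F) Q⁻¹ 1 ((stdEmb d k j m₀).submatrix e e)
        simp only [inv_inv, Units.val_one, mul_one, one_mul, inv_one] at this
        calc ((Q⁻¹ : GL (Fin n) F) : Matrix (Fin n) (Fin n) F) * ((Q : Matrix (Fin n) (Fin n) F) *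
              (stdEmb d k j m₀).submatrix e e * ((Q⁻¹ : GL (Fin n) F) : Matrix (Fin n) (Fin n) F)) *
              (Q : Matrix (Fin n) (Fin n) F)
            = (((Q⁻¹ : GL (Fin n) F) : Matrix (Fin n) (Fin n) F) * (Q : Matrix (Fin n) (Fin n) F)) *
              (stdEmb d k j m₀).submatrix e e * (((Q⁻¹ : GL (Fin n) F) : Matrix (Fin n) (Fin n) F) *
              (Q : Matrix (Fin n) (Fin n) F)) := by simp only [Matrix.mul_assoc]
          _ = (stdEmb d k j m₀).submatrix e e := by
              rw [Units.inv_mul, Matrix.one_mul, Matrix.mul_one]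
      rw [h3]
      ext x y
      simp
    have hsv : (s : Matrix (Fin k → Fin d) (Fin k → Fin d) F) =
        (((Q⁻¹ : GL (Fin n) F) : Matrix (Fin n) (Fin n) F) * (g : Matrix (Fin n) (Fin n) F) *
          (Q : Matrix (Fin n) (Fin n) F)).submatrix e.symm e.symm := by
      rw [← Units.val_mul, ← Units.val_mul]
      rfl
    have hsi : ((s⁻¹ : GL (Fin k → Fin d) F) : Matrix (Fin k → Fin d) (Fin k → Fin d) F) =
        (((Q⁻¹ : GL (Fin n) F) : Matrix (Fin n) (Fin n) F) * ((g⁻¹ : GL (Fin n) F) : Matrix (Fin n) (Fin n) F) *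
          (Q : Matrix (Fin n) (Fin n) F)).submatrix e.symm e.symm := by
      have : s⁻¹ = glReindex e (Q⁻¹ * g⁻¹ * Q) := by
        show (glReindex e (Q⁻¹ * g * Q))⁻¹ = _
        rw [← map_inv]
        congr 1
        group
      rw [this, ← Units.val_mul, ← Units.val_mul]
      rfl
    rw [hsv, hsi, hR i m, hR (π i) m', Matrix.submatrix_mul_equiv, Matrix.submatrix_mul_equiv, hm']
    congr 1
    exact conj_cancel (R := Matrix (Fin n) (Fin n) F) Q g (Λ i m)
  -- membership
  unfold tensorWreathSubgroup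
  refine ⟨glReindex e.symm s, ⟨s, hs, rfl⟩, ?_⟩
  have h1 : glReindex e.symm s = Q⁻¹ * g * Q := by
    apply Units.ext
    ext i j
    have : ((glReindex e.symm (glReindex e (Q⁻¹ * g * Q)) : GL (Fin n) F) : Matrix (Fin n) (Fin n) F) i j
        = ((Q⁻¹ * g * Q : GL (Fin n) F) : Matrix (Fin n) (Fin n) F) (e.symm (e i)) (e.symm (e j)) := rfl
    show ((glReindex e.symm (glReindex e (Q⁻¹ * g * Q)) : GL (Fin n) F) : Matrix (Fin n) (Fin n) F) i j = _
    rw [this, Equiv.symm_apply_apply, Equiv.symm_apply_apply]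
  show Q * glReindex e.symm s * Q⁻¹ = g
  rw [h1]
  group

end Cfsg.Agent.Helper4.AschTI
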