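import Cfsg.Agent.Helper4.AschTIB
import Cfsg.Agent.Helper4.AschTIF
import Cfsg.Agent.Helper4.AschTIG

/-!
# ASCH-PP piece T2 (helper4): `tensor_induced_exit` (exact stub), and the combined perfect case `perfect_case_gen`
-/

set_option autoImplicit false
set_option linter.style.haveILetI false
set_option linter.unusedVariables false

namespace Cfsg.Agent.Helper4.AschTI

open Cfsg Cfsg.Geo Cfsg.Agent.Lead.Asch Cfsg.Agent.Helper4.AschP Cfsg.Agent.Helper9.AschC6
open scoped MatrixGroups Matrix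

variable {n : ℕ} {F : Type*} [Field F]

/-- **T2** (exact stub). -/
theorem tensor_induced_exit [Fintype F] {H : Subgroup (GL (Fin n) F)} {d k : ℕ}
    {PP : Fin k → Subgroup (GL (Fin n) F)} (h : TIData n F H d k PP) :
    ∃ (e : Fin n ≃ (Fin k → Fin d)) (Q : GL (Fin n) F), H ≤ tensorWreathSubgroup d k e Q :=
  tensor_induced_exit_of
    (fun g π hg => mem_tensorWreathStandard_of_permutes (by have := h.hk; omega) g π hg) h

/-- **the perfect case for all `n ≥ 2`**: either `H` lies in a tensor wreath group `GL_d ≀ S_k`, `n = d ^ k`,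
`d, k ≥ 2`, or the three-part conclusion of `perfect_case_pp` holds. -/
theorem perfect_case_gen [Fintype F] (hn : 2 ≤ n) {H N : Subgroup (GL (Fin n) F)}
    (hNH : N ≤ H) (hnz : Nzes H N) (hns : ¬ N ≤ scalars (Fin n) F)
    (hall : ∀ M : Subgroup (GL (Fin n) F), M ≤ H → Nzes H M →
      M ≤ scalars (Fin n) F ∨ ActsAbsolutelyIrreducibly (matrixSet M))
    (hmin : ∀ M : Subgroup (GL (Fin n) F), M ≤ N → Nzes H M → ¬ M ≤ scalars (Fin n) F → M = N)
    (hperf : ⁅N, N⁆ = N) :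
    (∃ (d k : ℕ) (e : Fin n ≃ (Fin k → Fin d)) (Pm : GL (Fin n) F), 2 ≤ d ∧ 2 ≤ k ∧
      H ≤ tensorWreathSubgroup d k e Pm) ∨
    (IsSimpleGroup (N ⧸ (scalars (Fin n) F).subgroupOf N) ∧
      ¬ IsMulCommutative (N ⧸ (scalars (Fin n) F).subgroupOf N) ∧
      (∀ h ∈ H, (∀ x ∈ N, h * x * h⁻¹ * x⁻¹ ∈ scalars (Fin n) F) → h ∈ scalars (Fin n) F)) := by
  rcases perfect_case_split hn hNH hnz hns hall hmin hperf with h | ⟨d, k, PP, hTI⟩
  · exact Or.inr h
  · obtain ⟨e, Q, hle⟩ := tensor_induced_exit hTI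
    exact Or.inl ⟨d, k, e, Q, hTI.hd, hTI.hk, hle⟩

end Cfsg.Agent.Helper4.AschTI
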