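import Mathlib
import Cfsg.Prelude.Def_GeometricClasses
import Cfsg.Agent.Lead.AschBase
import Cfsg.Agent.Helper9.AschC6Base
import Cfsg.Agent.Helper4.AschTIH

/-!
# FORM-C7 (helper4), part C: frames adapted to a `TIData`

`frameL e Q i m = Q (stdEmb i m)^e Q⁻¹`; `TIFrame PP e Q`: every element of `PP i` is `frameL e Q i m` and every
`frameL e Q i m` lies in the span of `PP i`.  Existence (`exists_tiframe`), conjugation between factors
(`frame_conj`), and the tensor wreath exit from a frame (`le_tensorWreath_of_frame`).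
-/

set_option autoImplicit false
set_option linter.style.haveILetI false
set_option linter.unusedVariables false
set_option linter.unusedSectionVars false

namespace Cfsg.Agent.Helper4.AschTI

open Cfsg Cfsg.Geo Cfsg.Agent.Lead.Asch Cfsg.Agent.Helper4.AschP Cfsg.Agent.Helper9.AschC6
open scoped MatrixGroups Matrix

variable {n : ℕ} {F : Type*} [Field F] {d k : ℕ}

/-- the embedding of the `i`-th factor algebra in the frame `(e, Q)` -/
def frameL (e : Fin n ≃ (Fin k → Fin d)) (Q : GL (Fin n) F) (i : Fin k) :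
    Matrix (Fin d) (Fin d) F →ₗ[F] Matrix (Fin n) (Fin n) F where
  toFun m := (Q : Matrix (Fin n) (Fin n) F) * (stdEmb d k i m).submatrix e e *
    ((Q⁻¹ : GL (Fin n) F) : Matrix (Fin n) (Fin n) F)
  map_add' a b := by
    simp only [stdEmb_add, Matrix.submatrix_add, Pi.add_apply, Matrix.mul_add, Matrix.add_mul]
  map_smul' c a := by
    simp only [stdEmb_smul, Matrix.submatrix_smul, Pi.smul_apply, Matrix.mul_smul,
      Matrix.smul_mul, RingHom.id_apply]

theorem frameL_apply (e : Fin n ≃ (Fin k → Fin d)) (Q : GL (Fin n) F) (i : Fin k)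
    (m : Matrix (Fin d) (Fin d) F) :
    frameL e Q i m = (Q : Matrix (Fin n) (Fin n) F) * (stdEmb d k i m).submatrix e e *
      ((Q⁻¹ : GL (Fin n) F) : Matrix (Fin n) (Fin n) F) := rfl

/-- `stdEmb j m₀ = R (Q⁻¹ (frameL j m₀) Q)` -/
theorem stdEmb_eq_frameL (e : Fin n ≃ (Fin k → Fin d)) (Q : GL (Fin n) F) (j : Fin k)
    (m₀ : Matrix (Fin d) (Fin d) F) :
    stdEmb d k j m₀ = (((Q⁻¹ : GL (Fin n) F) : Matrix (Fin n) (Fin n) F) * frameL e Q j m₀ *
      (Q : Matrix (Fin n) (Fin n) F)).submatrix e.symm e.symm := by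
  have h3 : ((Q⁻¹ : GL (Fin n) F) : Matrix (Fin n) (Fin n) F) * frameL e Q j m₀ *
      (Q : Matrix (Fin n) (Fin n) F) = (stdEmb d k j m₀).submatrix e e := by
    rw [frameL_apply]
    calc ((Q⁻¹ : GL (Fin n) F) : Matrix (Fin n) (Fin n) F) * ((Q : Matrix (Fin n) (Fin n) F) *
          (stdEmb d k j m₀).submatrix e e * ((Q⁻¹ : GL (Fin n) F) : Matrix (Fin n) (Fin n) F)) *
          (Q : Matrix (Fin n) (Fin n) F)
        = (((Q⁻¹ : GL (Fin n) F) : Matrix (Fin n) (Fin n) F) * (Q : Matrix (Fin n) (Fin n) F)) *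
          (stdEmb d k j m₀).submatrix e e * (((Q⁻¹ : GL (Fin n) F) : Matrix (Fin n) (Fin n) F) *
          (Q : Matrix (Fin n) (Fin n) F)) := by simp only [Matrix.mul_assoc]
      _ = (stdEmb d k j m₀).submatrix e e := by
          rw [Units.inv_mul, Matrix.one_mul, Matrix.mul_one]
  rw [h3]
  ext x y
  simp

theorem frameL_injective (hd : 0 < d) (e : Fin n ≃ (Fin k → Fin d)) (Q : GL (Fin n) F) (i : Fin k) :
    Function.Injective (frameL e Q i) := by
  intro a b hab
  apply stdEmb_injective hd i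
  rw [stdEmb_eq_frameL e Q i a, stdEmb_eq_frameL e Q i b, hab]

theorem frameL_mul (e : Fin n ≃ (Fin k → Fin d)) (Q : GL (Fin n) F) (i : Fin k)
    (a b : Matrix (Fin d) (Fin d) F) : frameL e Q i (a * b) = frameL e Q i a * frameL e Q i b := by
  rw [frameL_apply, frameL_apply, frameL_apply, stdEmb_mul]
  have h1 : (stdEmb d k i a * stdEmb d k i b).submatrix e e =
      (stdEmb d k i a).submatrix e e * (stdEmb d k i b).submatrix e e := by
    rw [Matrix.submatrix_mul_equiv]
  rw [h1]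
  calc (Q : Matrix (Fin n) (Fin n) F) * ((stdEmb d k i a).submatrix e e * (stdEmb d k i b).submatrix e e) *
        ((Q⁻¹ : GL (Fin n) F) : Matrix (Fin n) (Fin n) F)
      = (Q : Matrix (Fin n) (Fin n) F) * (stdEmb d k i a).submatrix e e * 1 * (stdEmb d k i b).submatrix e e *
        ((Q⁻¹ : GL (Fin n) F) : Matrix (Fin n) (Fin n) F) := by
        rw [Matrix.mul_one]
        simp only [Matrix.mul_assoc]
    _ = _ := by
        rw [← Units.inv_mul Q]
        simp only [Matrix.mul_assoc]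

theorem frameL_one (e : Fin n ≃ (Fin k → Fin d)) (Q : GL (Fin n) F) (i : Fin k) :
    frameL e Q i 1 = 1 := by
  rw [frameL_apply, stdEmb_one, Matrix.submatrix_one_equiv, Matrix.mul_one, Units.mul_inv]

/-- a frame adapted to the subgroups `PP i` -/
structure TIFrame (PP : Fin k → Subgroup (GL (Fin n) F)) (e : Fin n ≃ (Fin k → Fin d))
    (Q : GL (Fin n) F) : Prop where
  mem : ∀ i, ∀ x ∈ PP i, ∃ m : Matrix (Fin d) (Fin d) F,
    (x : Matrix (Fin n) (Fin n) F) = frameL e Q i m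
  span : ∀ i (m : Matrix (Fin d) (Fin d) F),
    frameL e Q i m ∈ gspan F (R := Matrix (Fin n) (Fin n) F) (PP i)

theorem exists_tiframe [Fintype F] {H : Subgroup (GL (Fin n) F)}
    {PP : Fin k → Subgroup (GL (Fin n) F)} (h : TIData n F H d k PP) :
    ∃ (e : Fin n ≃ (Fin k → Fin d)) (Q : GL (Fin n) F), TIFrame PP e Q := by
  classical
  have hd0 : 0 < d := by have := h.hd; omega
  choose E hE hEs using h.units
  have hcommE : ∀ i j, i ≠ j → ∀ a b a' b', E i a b * E j a' b' = E j a' b' * E i a b := by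
    intro i j hij a b a' b'
    have h1 : E i a b ∈ gspan F (R := Matrix (Fin n) (Fin n) F) (PP i) := hEs i ▸ mem_uspan (E i) a b
    have h2 : E j a' b' ∈ gspan F (R := Matrix (Fin n) (Fin n) F) (PP j) := hEs j ▸ mem_uspan (E j) a' b'
    refine commute_of_mem_span (F := F) (S := mset (PP i)) (T := mset (PP j)) ?_ h1 h2
    rintro _ ⟨x, hx, rfl⟩ _ ⟨y, hy, rfl⟩
    rw [← Units.val_mul, ← Units.val_mul, h.comm i j hij x hx y hy]
  obtain ⟨e, Q, hEQ⟩ := simul_decomp hd0 h.dim E hE hcommE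
  have hΛE : ∀ i a b, frameL e Q i (Matrix.single a b (1 : F)) = E i a b := fun i a b => (hEQ i a b).symm
  have hrange : ∀ i, gspan F (R := Matrix (Fin n) (Fin n) F) (PP i) = LinearMap.range (frameL e Q i) := by
    intro i
    rw [← hEs i]
    apply le_antisymm
    · unfold uspan
      rw [Submodule.span_le]
      rintro _ ⟨p, rfl⟩
      exact ⟨Matrix.single p.1 p.2 (1 : F), hΛE i p.1 p.2⟩
    · rintro _ ⟨m, rfl⟩
      rw [Matrix.matrix_eq_sum_single m, map_sum]
      refine Submodule.sum_mem _ (fun a _ => ?_)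
      rw [map_sum]
      refine Submodule.sum_mem _ (fun b _ => ?_)
      have h1 : Matrix.single a b (m a b) = m a b • Matrix.single a b (1 : F) := by
        rw [Matrix.smul_single, smul_eq_mul, mul_one]
      rw [h1, map_smul, hΛE]
      exact Submodule.smul_mem _ _ (mem_uspan (E i) a b)
  refine ⟨e, Q, ⟨fun i x hx => ?_, fun i m => ?_⟩⟩
  · have h1 : (x : Matrix (Fin n) (Fin n) F) ∈ gspan F (R := Matrix (Fin n) (Fin n) F) (PP i) :=
      Submodule.subset_span ⟨x, hx, rfl⟩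
    rw [hrange i] at h1
    obtain ⟨m, hm⟩ := h1
    exact ⟨m, hm.symm⟩
  · rw [hrange i]
    exact ⟨m, rfl⟩

/-- conjugation by `g` maps the `i`-th factor algebra into the `j`-th one -/
theorem frame_conj {PP : Fin k → Subgroup (GL (Fin n) F)} {e : Fin n ≃ (Fin k → Fin d)}
    {Q : GL (Fin n) F} (hfr : TIFrame PP e Q) (g : GL (Fin n) F) (i j : Fin k)
    (hg : ∀ x ∈ PP i, g * x * g⁻¹ ∈ PP j) (m : Matrix (Fin d) (Fin d) F) :
    ∃ m' : Matrix (Fin d) (Fin d) F,
      (g : Matrix (Fin n) (Fin n) F) * frameL e Q i m *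
        ((g⁻¹ : GL (Fin n) F) : Matrix (Fin n) (Fin n) F) = frameL e Q j m' ∧
      ((glReindex e (Q⁻¹ * g * Q) : GL (Fin k → Fin d) F) : Matrix (Fin k → Fin d) (Fin k → Fin d) F) *
        stdEmb d k i m *
        (((glReindex e (Q⁻¹ * g * Q))⁻¹ : GL (Fin k → Fin d) F) :
          Matrix (Fin k → Fin d) (Fin k → Fin d) F) = stdEmb d k j m' := by
  classical
  have hrange : ∀ i, gspan F (R := Matrix (Fin n) (Fin n) F) (PP i) = LinearMap.range (frameL e Q i) := by
    intro i
    apply le_antisymm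
    · unfold gspan
      rw [Submodule.span_le]
      rintro _ ⟨x, hx, rfl⟩
      obtain ⟨m, hm⟩ := hfr.mem i x hx
      exact ⟨m, hm.symm⟩
    · rintro _ ⟨m, rfl⟩
      exact hfr.span i m
  have hconj : ∀ X ∈ gspan F (R := Matrix (Fin n) (Fin n) F) (PP i),
      (g : Matrix (Fin n) (Fin n) F) * X * ((g⁻¹ : GL (Fin n) F) : Matrix (Fin n) (Fin n) F) ∈
        gspan F (R := Matrix (Fin n) (Fin n) F) (PP j) := by
    intro X hX
    have hle : (gspan F (R := Matrix (Fin n) (Fin n) F) (PP i)).map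
        (conjL F (R := Matrix (Fin n) (Fin n) F) g : Matrix (Fin n) (Fin n) F →ₗ[F] Matrix (Fin n) (Fin n) F) ≤
        gspan F (R := Matrix (Fin n) (Fin n) F) (PP j) := by
      unfold gspan
      rw [Submodule.map_span, Submodule.span_le]
      rintro _ ⟨_, ⟨x, hx, rfl⟩, rfl⟩
      refine Submodule.subset_span ⟨g * x * g⁻¹, hg x hx, ?_⟩
      show ((g * x * g⁻¹ : GL (Fin n) F) : Matrix (Fin n) (Fin n) F) = _
      rw [Units.val_mul, Units.val_mul]
      rfl
    exact hle ⟨X, hX, rfl⟩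
  set s : GL (Fin k → Fin d) F := glReindex e (Q⁻¹ * g * Q) with hs
  have h1 : frameL e Q i m ∈ gspan F (R := Matrix (Fin n) (Fin n) F) (PP i) := hfr.span i m
  have h2 := hconj _ h1
  rw [hrange j] at h2
  obtain ⟨m', hm'⟩ := h2
  refine ⟨m', hm'.symm, ?_⟩
  have hsv : (s : Matrix (Fin k → Fin d) (Fin k → Fin d) F) =
      (((Q⁻¹ : GL (Fin n) F) : Matrix (Fin n) (Fin n) F) * (g : Matrix (Fin n) (Fin n) F) *
        (Q : Matrix (Fin n) (Fin n) F)).submatrix e.symm e.symm := by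
    rw [← Units.val_mul, ← Units.val_mul]
    rfl
  have hsi : ((s⁻¹ : GL (Fin k → Fin d) F) : Matrix (Fin k → Fin d) (Fin k → Fin d) F) =
      (((Q⁻¹ : GL (Fin n) F) : Matrix (Fin n) (Fin n) F) * ((g⁻¹ : GL (Fin n) F) : Matrix (Fin n) (Fin n) F) *
        (Q : Matrix (Fin n) (Fin n) F)).submatrix e.symm e.symm := by
    have : s⁻¹ = glReindex e (Q⁻¹ * g⁻¹ * Q) := by
      show (glReindex e (Q⁻¹ * g * Q))⁻¹ = _
      rw [← map_inv]
      congr 1
      group
    rw [this, ← Units.val_mul, ← Units.val_mul]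
    rfl
  rw [hsv, hsi, stdEmb_eq_frameL e Q i m, stdEmb_eq_frameL e Q j m', Matrix.submatrix_mul_equiv,
    Matrix.submatrix_mul_equiv, hm']
  congr 1
  exact conj_cancel (R := Matrix (Fin n) (Fin n) F) Q g (frameL e Q i m)

/-- the tensor wreath exit from a frame -/
theorem le_tensorWreath_of_frame (hk : 0 < k) {H : Subgroup (GL (Fin n) F)}
    {PP : Fin k → Subgroup (GL (Fin n) F)} {e : Fin n ≃ (Fin k → Fin d)}
    {Q : GL (Fin n) F} (hfr : TIFrame PP e Q)
    (hperm : ∀ h ∈ H, ∃ π : Equiv.Perm (Fin k), ∀ i, ∀ x ∈ PP i, h * x * h⁻¹ ∈ PP (π i)) :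
    H ≤ tensorWreathSubgroup d k e Q := by
  intro g hg
  obtain ⟨π, hπ⟩ := hperm g hg
  set s : GL (Fin k → Fin d) F := glReindex e (Q⁻¹ * g * Q) with hs
  have hsm : s ∈ tensorWreathStandard d k F :=
    mem_tensorWreathStandard_of_permutes hk s π (fun i m => by
      obtain ⟨m', -, hm'⟩ := frame_conj hfr g i (π i) (hπ i) m
      exact ⟨m', hm'⟩)
  unfold tensorWreathSubgroup
  refine ⟨glReindex e.symm s, ⟨s, hsm, rfl⟩, ?_⟩
  have h1 : glReindex e.symm s = Q⁻¹ * g * Q := by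
    apply Units.ext
    ext i j
    have : ((glReindex e.symm (glReindex e (Q⁻¹ * g * Q)) : GL (Fin n) F) : Matrix (Fin n) (Fin n) F) i j
        = ((Q⁻¹ * g * Q : GL (Fin n) F) : Matrix (Fin n) (Fin n) F) (e.symm (e i)) (e.symm (e j)) := rfl
    show ((glReindex e.symm (glReindex e (Q⁻¹ * g * Q)) : GL (Fin n) F) : Matrix (Fin n) (Fin n) F) i j = _
    rw [this, Equiv.symm_apply_apply, Equiv.symm_apply_apply]
  show Q * glReindex e.symm s * Q⁻¹ = g
  rw [h1]
  group

end Cfsg.Agent.Helper4.AschTI
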