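import Mathlib
import Cfsg.Prelude.Def_GeometricClasses
import Cfsg.Agent.Helper4.AschTIT4A

/-!
# ASCH-PP, T4 (helper4), part B: the tensor wreath group with factors of dimension 2 preserves `ω^{⊗k}`

`tensorWreath_two_forms`: `tensorWreathSubgroup 2 k e P` lies in the similarity group of a symplectic form
(`k` odd or characteristic 2) or of a non-degenerate quadratic form (`k` even, `q` odd).
-/

set_option autoImplicit false
set_option linter.style.haveILetI false
set_option linter.unusedVariables false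

namespace Cfsg.Agent.Helper4.AschTI

open Cfsg Cfsg.Geo
open scoped MatrixGroups Matrix

variable {F : Type*} [Field F] {n : ℕ}

theorem tensorWreathStandard_two_le (k : ℕ) :
    tensorWreathStandard 2 k F ≤
      similarityGroup (bform (Omega k : Matrix (Fin k → Fin 2) (Fin k → Fin 2) F)) := by
  unfold tensorWreathStandard
  rw [Subgroup.closure_le]
  rintro g (⟨gs, hgs⟩ | ⟨σ, hσ⟩)
  · have hg : (g : Matrix (Fin k → Fin 2) (Fin k → Fin 2) F) =
        ptens (fun i => (gs i : Matrix (Fin 2) (Fin 2) F)) := by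
      ext x y
      exact hgs x y
    refine ⟨∏ i, Matrix.GeneralLinearGroup.det (gs i), fun u v => ?_⟩
    rw [bform_mulVec, hg, Omega_ptens, bform_smul, Units.coe_prod]
    rfl
  · have hg : (g : Matrix (Fin k → Fin 2) (Fin k → Fin 2) F) = fperm σ := by
      ext x y
      exact hσ x y
    refine ⟨1, fun u v => ?_⟩
    rw [bform_mulVec, hg, Omega_fperm, Units.val_one, one_mul]

section transport

variable {X : Type} [Fintype X] [DecidableEq X]

/-- the change of coordinates `F^n → F^X`, `u ↦ (P⁻¹ u) ∘ e⁻¹` -/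
def tcoord (e : Fin n ≃ X) (P : GL (Fin n) F) : (Fin n → F) ≃ₗ[F] (X → F) where
  toFun u := (((P⁻¹ : GL (Fin n) F) : Matrix (Fin n) (Fin n) F) *ᵥ u) ∘ e.symm
  map_add' u v := by
    rw [Matrix.mulVec_add]
    rfl
  map_smul' c u := by
    rw [Matrix.mulVec_smul]
    rfl
  invFun w := (P : Matrix (Fin n) (Fin n) F) *ᵥ (w ∘ e)
  left_inv u := by
    show (P : Matrix (Fin n) (Fin n) F) *ᵥ
      (((((P⁻¹ : GL (Fin n) F) : Matrix (Fin n) (Fin n) F) *ᵥ u) ∘ e.symm) ∘ e) = u
    rw [Function.comp_assoc, Equiv.symm_comp_self, Function.comp_id, Matrix.mulVec_mulVec, ← Units.val_mul,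
      mul_inv_cancel, Units.val_one, Matrix.one_mulVec]
  right_inv w := by
    show (((P⁻¹ : GL (Fin n) F) : Matrix (Fin n) (Fin n) F) *ᵥ
      ((P : Matrix (Fin n) (Fin n) F) *ᵥ (w ∘ e))) ∘ e.symm = w
    rw [Matrix.mulVec_mulVec, ← Units.val_mul, inv_mul_cancel, Units.val_one, Matrix.one_mulVec,
      Function.comp_assoc, Equiv.self_comp_symm, Function.comp_id]

theorem tcoord_apply (e : Fin n ≃ X) (P : GL (Fin n) F) (u : Fin n → F) :
    tcoord e P u = (((P⁻¹ : GL (Fin n) F) : Matrix (Fin n) (Fin n) F) *ᵥ u) ∘ e.symm := rfl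

theorem tcoord_conj (e : Fin n ≃ X) (P : GL (Fin n) F) (g : GL X F) (u : Fin n → F) :
    tcoord e P (((MulAut.conj P (glReindex e.symm g) : GL (Fin n) F) : Matrix (Fin n) (Fin n) F) *ᵥ u) =
      (g : Matrix X X F) *ᵥ tcoord e P u := by
  rw [tcoord_apply, tcoord_apply, MulAut.conj_apply, Units.val_mul, Units.val_mul]
  have h1 : ((glReindex e.symm g : GL (Fin n) F) : Matrix (Fin n) (Fin n) F) =
      (g : Matrix X X F).submatrix e e := rfl
  rw [h1, Matrix.mulVec_mulVec, ← Matrix.mul_assoc, ← Matrix.mul_assoc, ← Units.val_mul, inv_mul_cancel,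
    Units.val_one, Matrix.one_mul, ← Matrix.mulVec_mulVec, Matrix.submatrix_mulVec_equiv,
    Function.comp_assoc, Equiv.self_comp_symm, Function.comp_id]

theorem similarity_transport (e : Fin n ≃ X) (P : GL (Fin n) F) (S : Subgroup (GL X F))
    (f : (X → F) → (X → F) → F) (hS : S ≤ similarityGroup f) :
    (S.map (glReindex e.symm).toMonoidHom).map (MulAut.conj P).toMonoidHom ≤
      similarityGroup (fun u v => f (tcoord e P u) (tcoord e P v)) := by
  rintro h ⟨g', ⟨g, hg, rfl⟩, rfl⟩
  obtain ⟨c, hc⟩ := hS hg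
  refine ⟨c, fun u v => ?_⟩
  show f (tcoord e P (((MulAut.conj P (glReindex e.symm g) : GL (Fin n) F) : Matrix (Fin n) (Fin n) F) *ᵥ u))
    (tcoord e P (((MulAut.conj P (glReindex e.symm g) : GL (Fin n) F) : Matrix (Fin n) (Fin n) F) *ᵥ v)) = _
  rw [tcoord_conj, tcoord_conj, hc]

theorem isBilinearForm_comp {ι : Type} [Fintype ι] [DecidableEq ι] (T : (ι → F) ≃ₗ[F] (X → F))
    {f : (X → F) → (X → F) → F} (hf : IsBilinearForm f) :
    IsBilinearForm (fun u v => f (T u) (T v)) where
  add_left x y v := by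
    show f (T (x + y)) (T v) = _
    rw [map_add, hf.add_left]
  smul_left c x v := by
    show f (T (c • x)) (T v) = _
    rw [map_smul, hf.smul_left]
  add_right v x y := by
    show f (T v) (T (x + y)) = _
    rw [map_add, hf.add_right]
  smul_right c v x := by
    show f (T v) (T (c • x)) = _
    rw [map_smul, hf.smul_right]

theorem isNondegenerateForm_comp {ι : Type} [Fintype ι] [DecidableEq ι] (T : (ι → F) ≃ₗ[F] (X → F))
    {f : (X → F) → (X → F) → F} (hf : IsNondegenerateForm f) :
    IsNondegenerateForm (fun u v => f (T u) (T v)) := by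
  intro v hv
  have hTv : T v ≠ 0 := fun h => hv ((LinearEquiv.map_eq_zero_iff T).1 h)
  obtain ⟨⟨x, hx⟩, ⟨y, hy⟩⟩ := hf (T v) hTv
  refine ⟨⟨T.symm x, ?_⟩, ⟨T.symm y, ?_⟩⟩
  · show f (T (T.symm x)) (T v) ≠ 0
    rwa [LinearEquiv.apply_symm_apply]
  · show f (T v) (T (T.symm y)) ≠ 0
    rwa [LinearEquiv.apply_symm_apply]

end transport

theorem isNondegenerateQuadraticForm_of_symm {ι : Type} [Fintype ι] [DecidableEq ι]
    (f : (ι → F) → (ι → F) → F) (hb : IsBilinearForm f) (hs : ∀ v w, f v w = f w v)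
    (hn : IsNondegenerateForm f) (h2 : (2 : F) ≠ 0) :
    IsNondegenerateQuadraticForm (fun v => f v v) := by
  have hpolar : QuadraticMap.polar (fun v => f v v) = fun v w => 2 * f v w := by
    funext v w
    show f (v + w) (v + w) - f v v - f w w = 2 * f v w
    rw [hb.add_left, hb.add_right, hb.add_right, hs w v]
    ring
  refine ⟨?_, ?_, ?_⟩
  · intro c v
    show f (c • v) (c • v) = c ^ 2 * f v v
    rw [hb.smul_left, hb.smul_right]
    ring
  · rw [hpolar]
    exact ⟨fun x y v => by rw [hb.add_left]; ring, fun c x v => by rw [hb.smul_left]; ring,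
      fun v x y => by rw [hb.add_right]; ring, fun c v x => by rw [hb.smul_right]; ring⟩
  · rw [hpolar]
    intro v hv
    obtain ⟨⟨x, hx⟩, ⟨y, hy⟩⟩ := hn v hv
    exact ⟨⟨x, mul_ne_zero h2 hx⟩, ⟨y, mul_ne_zero h2 hy⟩⟩

/-- **T4**: factors of dimension 2: the tensor wreath group fixes (up to scalars) the form `ω^{⊗k}`, alternating for
`k` odd or in characteristic 2, symmetric for `k` even. -/
theorem tensorWreath_two_forms [Fintype F] (k : ℕ) (hk : 1 ≤ k) (e : Fin n ≃ (Fin k → Fin 2))
    (P : GL (Fin n) F) :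
    (∃ f : (Fin n → F) → (Fin n → F) → F, IsSymplecticForm f ∧
      tensorWreathSubgroup 2 k e P ≤ similarityGroup f) ∨
    (Odd (Fintype.card F) ∧ ∃ Q : (Fin n → F) → F, IsNondegenerateQuadraticForm Q ∧
      tensorWreathSubgroup 2 k e P ≤ quadSimilarityGroup Q) := by
  classical
  have hsim : tensorWreathSubgroup 2 k e P ≤ similarityGroup (fun u v =>
      bform (Omega k : Matrix (Fin k → Fin 2) (Fin k → Fin 2) F) (tcoord e P u) (tcoord e P v)) :=
    similarity_transport e P _ _ (tensorWreathStandard_two_le k)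
  have hbil : IsBilinearForm (fun u v =>
      bform (Omega k : Matrix (Fin k → Fin 2) (Fin k → Fin 2) F) (tcoord e P u) (tcoord e P v)) :=
    isBilinearForm_comp (tcoord e P) (bform_isBilinear _)
  have hpow : ((-1 : F)) ^ k ≠ 0 := pow_ne_zero _ (neg_ne_zero.2 one_ne_zero)
  have hinv : ((((-1 : F)) ^ k)⁻¹ • (Omega k : Matrix (Fin k → Fin 2) (Fin k → Fin 2) F)) * Omega k = 1 := by
    rw [Matrix.smul_mul, Omega_mul_self, smul_smul, inv_mul_cancel₀ hpow, one_smul]
  have hnd : IsNondegenerateForm (fun u v =>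
      bform (Omega k : Matrix (Fin k → Fin 2) (Fin k → Fin 2) F) (tcoord e P u) (tcoord e P v)) :=
    isNondegenerateForm_comp (tcoord e P)
      (bform_nondegenerate _ _ hinv _ hpow (Omega_transpose k))
  have hswap : ∀ u v : Fin n → F,
      bform (Omega k : Matrix (Fin k → Fin 2) (Fin k → Fin 2) F) (tcoord e P u) (tcoord e P v) =
        ((-1 : F)) ^ k *
          bform (Omega k : Matrix (Fin k → Fin 2) (Fin k → Fin 2) F) (tcoord e P v) (tcoord e P u) := by
    intro u v
    rw [bform_swap, Omega_transpose, bform_smul]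
  by_cases hcase : ((-1 : F)) ^ k = -1
  · left
    refine ⟨_, ⟨hbil, ?_, ?_, hnd⟩, hsim⟩
    · intro v w
      show bform (Omega k : Matrix (Fin k → Fin 2) (Fin k → Fin 2) F) (tcoord e P v) (tcoord e P w) =
        - bform (Omega k : Matrix (Fin k → Fin 2) (Fin k → Fin 2) F) (tcoord e P w) (tcoord e P v)
      rw [hswap, hcase, neg_one_mul]
    · intro v
      refine bform_self_eq_zero _ ?_ (Omega_diag hk) _
      rw [Omega_transpose, hcase, neg_one_smul]
  · right
    have hone : ((-1 : F)) ^ k = 1 := (neg_one_pow_eq_or F k).resolve_right hcase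
    have h2 : (2 : F) ≠ 0 := by
      intro h2
      apply hcase
      have h3 : (-1 : F) = 1 := by linear_combination (-1 : F) * h2
      rw [hone]
      exact h3.symm
    have hodd : Odd (Fintype.card F) := by
      rw [Nat.odd_iff]
      apply FiniteField.odd_card_of_char_ne_two
      intro hch
      apply h2
      have h4 : ((ringChar F : ℕ) : F) = 0 := ringChar.Nat.cast_ringChar
      rw [hch] at h4
      exact_mod_cast h4
    refine ⟨hodd, _, isNondegenerateQuadraticForm_of_symm _ hbil ?_ hnd h2, ?_⟩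
    · intro v w
      show bform (Omega k : Matrix (Fin k → Fin 2) (Fin k → Fin 2) F) (tcoord e P v) (tcoord e P w) =
        bform (Omega k : Matrix (Fin k → Fin 2) (Fin k → Fin 2) F) (tcoord e P w) (tcoord e P v)
      rw [hswap, hone, one_mul]
    · intro h hh
      obtain ⟨c, hc⟩ := hsim hh
      exact ⟨c, fun v => hc v v⟩

end Cfsg.Agent.Helper4.AschTI
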