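import Mathlib
import Cfsg.Prelude.Def_GeometricClasses
import Cfsg.Agent.Lead.AschBase
import Cfsg.Agent.Helper3.AschForms
import Cfsg.Agent.Helper5.AschGramForm
import Cfsg.Agent.Helper9.AschC6Base
import Cfsg.Agent.Helper4.AschTIT4B
import Cfsg.Agent.Helper4.AschFC7B
import Cfsg.Agent.Helper4.AschFC7C

/-!
# FORM-C7 (helper4), part D: the tensor-induced case with a form

`form_c7_core`: in the `TIData` situation, if all the `PP i` consist of isometries of a non-degenerate
`σ`-sesquilinear form `f` and are conjugate to each other, then there is a frame `(e, Pm)` in which the Gram matrix of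
`f` is `c • (G₁ ⊗ ⋯ ⊗ G₁)`, `H` lies in the tensor wreath group of the frame, and every element of `PP i` acts on the
`i`-th factor by an isometry of `G₁`.
-/

set_option autoImplicit false
set_option linter.style.haveILetI false
set_option linter.unusedVariables false
set_option linter.unusedSectionVars false

namespace Cfsg.Agent.Helper4.AschTI

open Cfsg Cfsg.Geo Cfsg.Agent.Lead.Asch Cfsg.Agent.Helper4.AschP Cfsg.Agent.Helper9.AschC6
open Cfsg.Agent.Helper5.AschF Cfsg.Agent.Helper5.GramForm Cfsg.Agent.Helper3.Asch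
open scoped MatrixGroups Matrix

variable {n : ℕ} {F : Type*} [Field F] {d k : ℕ}

/-! ### sesquilinear forms are given by their Gram matrices (general index type) -/

theorem sesq_eq_formOfGram {κ : Type} [Fintype κ] [DecidableEq κ] (σ : F →+* F)
    (f' : (κ → F) → (κ → F) → F)
    (hal : ∀ x y v, f' (x + y) v = f' x v + f' y v) (hsl : ∀ (c : F) x v, f' (c • x) v = c * f' x v)
    (har : ∀ v x y, f' v (x + y) = f' v x + f' v y) (hsr : ∀ (c : F) v x, f' v (c • x) = σ c * f' v x)
    (u v : κ → F) : f' u v = formOfGram σ (gramMatrix f') u v := by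
  classical
  have hzr : ∀ x, f' x 0 = 0 := by
    intro x
    have := hsr 0 x 0
    rwa [zero_smul, map_zero, zero_mul] at this
  -- expansion in the first variable
  let L : (κ → F) →ₗ[F] F :=
    { toFun := fun x => f' x v
      map_add' := fun x y => hal x y v
      map_smul' := fun c x => by simpa using hsl c x v }
  have h1 : f' u v = ∑ a, u a * f' (Pi.single a 1) v := by
    have h := LinearMap.pi_apply_eq_sum_univ L u
    have e : ∀ a : κ, (fun j => if a = j then (1 : F) else 0) = Pi.single a 1 := by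
      intro a
      funext j
      rw [Pi.single_apply]
      by_cases hj : a = j
      · rw [if_pos hj, if_pos hj.symm]
      · rw [if_neg hj, if_neg (fun h' => hj h'.symm)]
    simp only [e] at h
    exact h
  -- expansion in the second variable
  have h2 : ∀ x, f' x v = ∑ b, f' x (Pi.single b 1) * σ (v b) := by
    intro x
    let A : (κ → F) →+ F :=
      { toFun := fun y => f' x y
        map_zero' := hzr x
        map_add' := fun y y' => har x y y' }
    have h3 : A v = ∑ b, A (Pi.single b (v b)) := by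
      conv_lhs => rw [← Finset.univ_sum_single v]
      rw [map_sum]
    have h4 : ∀ b, A (Pi.single b (v b)) = f' x (Pi.single b 1) * σ (v b) := by
      intro b
      have e : (Pi.single b (v b) : κ → F) = v b • Pi.single b 1 := by
        rw [← Pi.single_smul, smul_eq_mul, mul_one]
      show f' x (Pi.single b (v b)) = _
      rw [e, hsr, mul_comm]
    show A v = _
    rw [h3]
    exact Finset.sum_congr rfl (fun b _ => h4 b)
  rw [h1]
  unfold formOfGram gramMatrix
  refine Finset.sum_congr rfl (fun a _ => ?_)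
  rw [h2, Finset.mul_sum]
  refine Finset.sum_congr rfl (fun b _ => ?_)
  rw [mul_assoc]

theorem gram_eq_of_formOfGram_eq {κ : Type} [Fintype κ] [DecidableEq κ] (σ : F →+* F) {G G' : Matrix κ κ F}
    (h : ∀ u v, formOfGram σ G u v = formOfGram σ G' u v) : G = G' := by
  ext a b
  rw [← formOfGram_single σ G a b, ← formOfGram_single σ G' a b, h]

/-! ### the form in a frame -/

/-- the form `f` in the coordinates of the frame `(e, Q)` -/
def fpull (e : Fin n ≃ (Fin k → Fin d)) (Q : GL (Fin n) F) (f : (Fin n → F) → (Fin n → F) → F)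
    (u v : (Fin k → Fin d) → F) : F :=
  f ((Q : Matrix (Fin n) (Fin n) F) *ᵥ (u ∘ e)) ((Q : Matrix (Fin n) (Fin n) F) *ᵥ (v ∘ e))

theorem fpull_eq_formOfGram {σ : F ≃+* F} {f : (Fin n → F) → (Fin n → F) → F} (hf : IsSesq σ f)
    (e : Fin n ≃ (Fin k → Fin d)) (Q : GL (Fin n) F) (u v : (Fin k → Fin d) → F) :
    fpull e Q f u v = formOfGram (σ : F →+* F) (gramMatrix (fpull e Q f)) u v := by
  refine sesq_eq_formOfGram (σ : F →+* F) (fpull e Q f) ?_ ?_ ?_ ?_ u v
  · intro x y v
    unfold fpull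
    rw [show (x + y) ∘ e = x ∘ e + y ∘ e from rfl, Matrix.mulVec_add, hf.add_left]
  · intro c x v
    unfold fpull
    rw [show (c • x) ∘ e = c • (x ∘ e) from rfl, Matrix.mulVec_smul, hf.smul_left]
  · intro v x y
    unfold fpull
    rw [show (x + y) ∘ e = x ∘ e + y ∘ e from rfl, Matrix.mulVec_add, hf.add_right]
  · intro c v x
    unfold fpull
    rw [show (c • x) ∘ e = c • (x ∘ e) from rfl, Matrix.mulVec_smul, hf.smul_right]
    rfl

theorem frameL_mulVec (e : Fin n ≃ (Fin k → Fin d)) (Q : GL (Fin n) F) (i : Fin k)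
    (m : Matrix (Fin d) (Fin d) F) (u : (Fin k → Fin d) → F) :
    frameL e Q i m *ᵥ ((Q : Matrix (Fin n) (Fin n) F) *ᵥ (u ∘ e)) =
      (Q : Matrix (Fin n) (Fin n) F) *ᵥ ((stdEmb d k i m *ᵥ u) ∘ e) := by
  rw [frameL_apply, Matrix.mulVec_mulVec, Matrix.mul_assoc, Units.inv_mul, Matrix.mul_one,
    ← Matrix.mulVec_mulVec, Matrix.submatrix_mulVec_equiv, Function.comp_assoc, Equiv.self_comp_symm,
    Function.comp_id]

/-- an isometry in `frameL e Q i m` gives the invariance of the Gram matrix -/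
theorem frame_gram_inv {σ : F ≃+* F} {f : (Fin n → F) → (Fin n → F) → F} (hf : IsSesq σ f)
    (e : Fin n ≃ (Fin k → Fin d)) (Q : GL (Fin n) F) (i : Fin k) (m : Matrix (Fin d) (Fin d) F)
    (hiso : ∀ u v, f (frameL e Q i m *ᵥ u) (frameL e Q i m *ᵥ v) = f u v) :
    (stdEmb d k i m)ᵀ * gramMatrix (fpull e Q f) * (stdEmb d k i m).map (σ : F →+* F) =
      gramMatrix (fpull e Q f) := by
  apply gram_eq_of_formOfGram_eq (σ : F →+* F)
  intro u v
  rw [← formOfGram_mulVec, ← fpull_eq_formOfGram hf, ← fpull_eq_formOfGram hf]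
  unfold fpull
  rw [← frameL_mulVec, ← frameL_mulVec, hiso]

theorem gramMatrix_fpull_ne_zero (hn : 0 < n) {σ : F ≃+* F} {f : (Fin n → F) → (Fin n → F) → F}
    (hf : IsSesq σ f) (hnd : IsNondegenerateForm f) (e : Fin n ≃ (Fin k → Fin d)) (Q : GL (Fin n) F) :
    gramMatrix (fpull e Q f) ≠ 0 := by
  classical
  intro h0
  have hz : ∀ u v, fpull e Q f u v = 0 := by
    intro u v
    rw [fpull_eq_formOfGram hf, h0]
    unfold formOfGram
    simp
  have hall : ∀ u v : Fin n → F, f u v = 0 := by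
    intro u v
    have := hz (tcoord e Q u) (tcoord e Q v)
    unfold fpull at this
    have e1 : ∀ w : Fin n → F, (Q : Matrix (Fin n) (Fin n) F) *ᵥ (tcoord e Q w ∘ e) = w :=
      fun w => (tcoord e Q).left_inv w
    rwa [e1, e1] at this
  let v₀ : Fin n → F := Pi.single ⟨0, hn⟩ 1
  have hv₀ : v₀ ≠ 0 := by
    intro h
    have := congrFun h ⟨0, hn⟩
    simp [v₀] at this
  obtain ⟨⟨x, hx⟩, -⟩ := hnd v₀ hv₀
  exact hx (hall x v₀)

/-! ### changing the frame by a pure tensor -/

theorem frameL_mul_ptens (e : Fin n ≃ (Fin k → Fin d)) (Q : GL (Fin n) F) (a : Fin k → GL (Fin d) F)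
    (i : Fin k) (m : Matrix (Fin d) (Fin d) F) :
    frameL e (Q * glReindex e.symm (ptensGL a)) i m =
      frameL e Q i ((a i : Matrix (Fin d) (Fin d) F) * m *
        (((a i)⁻¹ : GL (Fin d) F) : Matrix (Fin d) (Fin d) F)) := by
  rw [frameL_apply, frameL_apply, ← ptensGL_conj, mul_inv_rev, Units.val_mul, Units.val_mul]
  have h1 : ((glReindex e.symm (ptensGL a) : GL (Fin n) F) : Matrix (Fin n) (Fin n) F) =
      ((ptensGL a : GL (Fin k → Fin d) F) : Matrix (Fin k → Fin d) (Fin k → Fin d) F).submatrix e e := rfl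
  have h2 : (((glReindex e.symm (ptensGL a))⁻¹ : GL (Fin n) F) : Matrix (Fin n) (Fin n) F) =
      (((ptensGL a)⁻¹ : GL (Fin k → Fin d) F) : Matrix (Fin k → Fin d) (Fin k → Fin d) F).submatrix e e := by
    rw [← map_inv]
    rfl
  rw [h1, h2, ← Matrix.submatrix_mul_equiv (e₂ := e), ← Matrix.submatrix_mul_equiv (e₂ := e)]
  simp only [Matrix.mul_assoc]

theorem TIFrame.mul_ptens {PP : Fin k → Subgroup (GL (Fin n) F)} {e : Fin n ≃ (Fin k → Fin d)}
    {Q : GL (Fin n) F} (hfr : TIFrame PP e Q) (a : Fin k → GL (Fin d) F) :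
    TIFrame PP e (Q * glReindex e.symm (ptensGL a)) := by
  refine ⟨fun i x hx => ?_, fun i m => ?_⟩
  · obtain ⟨m, hm⟩ := hfr.mem i x hx
    refine ⟨(((a i)⁻¹ : GL (Fin d) F) : Matrix (Fin d) (Fin d) F) * m * (a i : Matrix (Fin d) (Fin d) F), ?_⟩
    rw [frameL_mul_ptens, hm]
    congr 1
    calc m = ((a i : Matrix (Fin d) (Fin d) F) * (((a i)⁻¹ : GL (Fin d) F) : Matrix (Fin d) (Fin d) F)) * m *
          ((a i : Matrix (Fin d) (Fin d) F) * (((a i)⁻¹ : GL (Fin d) F) : Matrix (Fin d) (Fin d) F)) := by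
          rw [Units.mul_inv, Matrix.one_mul, Matrix.mul_one]
      _ = _ := by simp only [Matrix.mul_assoc]
  · rw [frameL_mul_ptens]
    exact hfr.span i _

theorem fpull_mul_ptens (e : Fin n ≃ (Fin k → Fin d)) (Q : GL (Fin n) F) (a : Fin k → GL (Fin d) F)
    (f : (Fin n → F) → (Fin n → F) → F) (u v : (Fin k → Fin d) → F) :
    fpull e (Q * glReindex e.symm (ptensGL a)) f u v =
      fpull e Q f (ptens (fun i => (a i : Matrix (Fin d) (Fin d) F)) *ᵥ u)
        (ptens (fun i => (a i : Matrix (Fin d) (Fin d) F)) *ᵥ v) := by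
  have h1 : ((glReindex e.symm (ptensGL a) : GL (Fin n) F) : Matrix (Fin n) (Fin n) F) =
      (ptens (fun i => (a i : Matrix (Fin d) (Fin d) F))).submatrix e e := rfl
  have h2 : ∀ w : (Fin k → Fin d) → F,
      ((Q * glReindex e.symm (ptensGL a) : GL (Fin n) F) : Matrix (Fin n) (Fin n) F) *ᵥ (w ∘ e) =
      (Q : Matrix (Fin n) (Fin n) F) *ᵥ ((ptens (fun i => (a i : Matrix (Fin d) (Fin d) F)) *ᵥ w) ∘ e) := by
    intro w
    rw [Units.val_mul, ← Matrix.mulVec_mulVec, h1, Matrix.submatrix_mulVec_equiv, Function.comp_assoc,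
      Equiv.self_comp_symm, Function.comp_id]
  unfold fpull
  rw [h2, h2]

end Cfsg.Agent.Helper4.AschTI
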