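import Mathlib
import Cfsg.Prelude.Def_GeometricClasses
import Cfsg.Agent.Helper4.AschFC7D

/-!
# FORM-C7 (helper4), part E: `form_c7_core`
-/

set_option autoImplicit false
set_option linter.style.haveILetI false
set_option linter.unusedVariables false
set_option linter.unusedSectionVars false

namespace Cfsg.Agent.Helper4.AschTI

open Cfsg Cfsg.Geo Cfsg.Agent.Lead.Asch Cfsg.Agent.Helper4.AschP Cfsg.Agent.Helper9.AschC6
open Cfsg.Agent.Helper5.AschF Cfsg.Agent.Helper5.GramForm Cfsg.Agent.Helper3.Asch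
open scoped MatrixGroups Matrix

variable {n : ℕ} {F : Type*} [Field F] {d k : ℕ}

/-- invariance of `c • (B₁ ⊗ ⋯ ⊗ B₁)` under `stdEmb i m` gives the invariance of `B₁` under `m` -/
theorem gramInv_of_ptens_const (σ : F →+* F) {B₁ : Matrix (Fin d) (Fin d) F} (hB : B₁ ≠ 0) {c : F}
    (hc : c ≠ 0) (i : Fin k) (m : Matrix (Fin d) (Fin d) F)
    (h : (stdEmb d k i m)ᵀ * (c • ptens (fun _ : Fin k => B₁)) * (stdEmb d k i m).map σ =
      c • ptens (fun _ : Fin k => B₁)) :
    mᵀ * B₁ * m.map σ = B₁ := by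
  classical
  obtain ⟨p, q, hpq⟩ : ∃ p q, B₁ p q ≠ 0 := by
    by_contra hcon
    push Not at hcon
    apply hB
    ext p q
    exact hcon p q
  have h1 := blkAt_gramInv σ h (fun _ => p) (fun _ => q)
  have h2 : blkAt (c • ptens (fun _ : Fin k => B₁)) i (fun _ => p) (fun _ => q) =
      (c * B₁ p q ^ (k - 1)) • B₁ := by
    ext a b
    unfold blkAt
    rw [Matrix.smul_apply, Matrix.smul_apply, ptens_apply, smul_eq_mul, smul_eq_mul,
      ← Finset.mul_prod_erase Finset.univ _ (Finset.mem_univ i), Function.update_self, Function.update_self]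
    have h3 : ∏ j ∈ Finset.univ.erase i, B₁ (Function.update (fun _ : Fin k => p) i a j)
        (Function.update (fun _ : Fin k => q) i b j) = B₁ p q ^ (k - 1) := by
      have h4 : ∀ j ∈ Finset.univ.erase i, B₁ (Function.update (fun _ : Fin k => p) i a j)
          (Function.update (fun _ : Fin k => q) i b j) = B₁ p q := by
        intro j hj
        rw [Function.update_of_ne (Finset.ne_of_mem_erase hj), Function.update_of_ne (Finset.ne_of_mem_erase hj)]
      rw [Finset.prod_congr rfl h4, Finset.prod_const, Finset.card_erase_of_mem (Finset.mem_univ i),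
        Finset.card_univ, Fintype.card_fin]
    rw [h3]
    ring
  rw [h2] at h1
  unfold GramInv at h1
  rw [Matrix.mul_smul, Matrix.smul_mul] at h1
  have hl : c * B₁ p q ^ (k - 1) ≠ 0 := mul_ne_zero hc (pow_ne_zero _ hpq)
  exact smul_right_injective _ hl h1

/-- **FORM-C7, core**: the tensor-induced case with a sesquilinear form. -/
theorem form_c7_core [Fintype F] {σ : F ≃+* F} {f : (Fin n → F) → (Fin n → F) → F} (hf : IsSesq σ f)
    (hnd : IsNondegenerateForm f) {H : Subgroup (GL (Fin n) F)} {PP : Fin k → Subgroup (GL (Fin n) F)}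
    (h : TIData n F H d k PP)
    (hiso : ∀ i, ∀ x ∈ PP i, ∀ u v, f ((x : Matrix (Fin n) (Fin n) F) *ᵥ u)
      ((x : Matrix (Fin n) (Fin n) F) *ᵥ v) = f u v)
    (htrans : ∀ i j, ∃ g : GL (Fin n) F, ∀ x ∈ PP i, g * x * g⁻¹ ∈ PP j) :
    ∃ (e : Fin n ≃ (Fin k → Fin d)) (Pm : GL (Fin n) F) (G₁ : Matrix (Fin d) (Fin d) F) (c : F),
      c ≠ 0 ∧ IsUnit G₁.det ∧ TIFrame PP e Pm ∧
      (∀ x y : (Fin k → Fin d) → F,
        f ((Pm : Matrix (Fin n) (Fin n) F) *ᵥ (x ∘ e)) ((Pm : Matrix (Fin n) (Fin n) F) *ᵥ (y ∘ e)) =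
          c * ∑ a, ∑ b, x a * (∏ i, G₁ (a i) (b i)) * σ (y b)) ∧
      (∀ i, ∀ x ∈ PP i, ∃ m : Matrix (Fin d) (Fin d) F,
        (x : Matrix (Fin n) (Fin n) F) = frameL e Pm i m ∧ mᵀ * G₁ * m.map σ = G₁) ∧
      H ≤ tensorWreathSubgroup d k e Pm := by
  classical
  have hd0 : 0 < d := by have := h.hd; omega
  have hk0 : 0 < k := by have := h.hk; omega
  have hn0 : 0 < n := by rw [h.dim]; exact pow_pos hd0 k
  obtain ⟨e, Q, hfr⟩ := exists_tiframe h
  set G : Matrix (Fin k → Fin d) (Fin k → Fin d) F := gramMatrix (fpull e Q f) with hG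
  have hG0 : G ≠ 0 := gramMatrix_fpull_ne_zero hn0 hf hnd e Q
  let R : Fin k → Set (Matrix (Fin d) (Fin d) F) := fun i =>
    {m | ∃ x ∈ PP i, (x : Matrix (Fin n) (Fin n) F) = frameL e Q i m}
  have hRspan : ∀ i, Submodule.span F (R i) = ⊤ := by
    intro i
    rw [eq_top_iff]
    intro m _
    have h1 : frameL e Q i m ∈ gspan F (R := Matrix (Fin n) (Fin n) F) (PP i) := hfr.span i m
    have h2 : gspan F (R := Matrix (Fin n) (Fin n) F) (PP i) ≤
        (Submodule.span F (R i)).map (frameL e Q i) := by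
      unfold gspan
      rw [Submodule.span_le]
      rintro _ ⟨x, hx, rfl⟩
      obtain ⟨r, hr⟩ := hfr.mem i x hx
      exact ⟨r, Submodule.subset_span ⟨x, hx, hr⟩, hr.symm⟩
    obtain ⟨m', hm', hmm⟩ := h2 h1
    rw [← frameL_injective hd0 e Q i hmm]
    exact hm'
  have hR : ∀ i, ActsAbsolutelyIrreducibly (R i) := fun i => absIrr_of_span_eq_top (hRspan i)
  have hRu : ∀ i, ∀ r ∈ R i, IsUnit r.det := by
    rintro i r ⟨x, hx, hxr⟩
    obtain ⟨r', hr'⟩ := hfr.mem i x⁻¹ ((PP i).inv_mem hx)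
    have h1 : frameL e Q i (r * r') = frameL e Q i 1 := by
      rw [frameL_mul, ← hxr, ← hr', ← Units.val_mul, mul_inv_cancel, Units.val_one, frameL_one]
    exact Matrix.isUnit_det_of_right_inverse (frameL_injective hd0 e Q i h1)
  have hinv : ∀ i, ∀ r ∈ R i,
      (stdEmb d k i r)ᵀ * G * (stdEmb d k i r).map (σ : F →+* F) = G := by
    rintro i r ⟨x, hx, hxr⟩
    exact frame_gram_inv hf e Q i r (fun u v => by rw [← hxr]; exact hiso i x hx u v)
  let i₀ : Fin k := ⟨0, hk0⟩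
  have htr : ∀ j, ∃ a : GL (Fin d) F, ∀ r ∈ R i₀, (a : Matrix (Fin d) (Fin d) F) * r *
      ((a⁻¹ : GL (Fin d) F) : Matrix (Fin d) (Fin d) F) ∈ R j := by
    intro j
    obtain ⟨g, hg⟩ := htrans i₀ j
    obtain ⟨a, ha⟩ := exists_conj_of_factor_conj hd0 (glReindex e (Q⁻¹ * g * Q)) i₀ j
      (fun m => by
        obtain ⟨m', -, hm'⟩ := frame_conj hfr g i₀ j hg m
        exact ⟨m', hm'⟩)
    refine ⟨a, ?_⟩
    rintro r ⟨x, hx, hxr⟩
    refine ⟨g * x * g⁻¹, hg x hx, ?_⟩
    obtain ⟨m', hm1, hm2⟩ := frame_conj hfr g i₀ j hg r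
    have h3 : m' = (a : Matrix (Fin d) (Fin d) F) * r * ((a⁻¹ : GL (Fin d) F) : Matrix (Fin d) (Fin d) F) := by
      apply stdEmb_injective hd0 j
      rw [← hm2, ha r]
    rw [← h3, ← hm1, Units.val_mul, Units.val_mul, hxr]
  obtain ⟨c, B₁, a, hc, hB₁u, hB₁inv, hGa⟩ :=
    gram_ptens_uniform (σ : F →+* F) hG0 R hR hRu hinv i₀ htr
  have hB₁0 : B₁ ≠ 0 := by
    rintro rfl
    haveI : Nonempty (Fin d) := ⟨⟨0, hd0⟩⟩
    rw [Matrix.det_zero] at hB₁u
    exact not_isUnit_zero hB₁u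
  set Pm : GL (Fin n) F := Q * glReindex e.symm (ptensGL a) with hPm
  have hfr' : TIFrame PP e Pm := hfr.mul_ptens a
  -- the form in the new frame
  have hform : ∀ x y : (Fin k → Fin d) → F,
      fpull e Pm f x y = formOfGram (σ : F →+* F) (c • ptens (fun _ : Fin k => B₁)) x y := by
    intro x y
    rw [hPm, fpull_mul_ptens, fpull_eq_formOfGram hf, formOfGram_mulVec, ← hG, hGa]
  have hG' : gramMatrix (fpull e Pm f) = c • ptens (fun _ : Fin k => B₁) := by
    apply gram_eq_of_formOfGram_eq (σ : F →+* F)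
    intro u v
    rw [← fpull_eq_formOfGram hf, hform]
  refine ⟨e, Pm, B₁, c, hc, hB₁u, hfr', ?_, ?_, le_tensorWreath_of_frame hk0 hfr' h.perm⟩
  · intro x y
    have h1 := hform x y
    unfold fpull at h1
    rw [h1, formOfGram_smul]
    rfl
  · intro i x hx
    obtain ⟨m, hm⟩ := hfr'.mem i x hx
    refine ⟨m, hm, ?_⟩
    have h1 := frame_gram_inv hf e Pm i m (fun u v => by rw [← hm]; exact hiso i x hx u v)
    rw [hG'] at h1
    exact gramInv_of_ptens_const (σ : F →+* F) hB₁0 hc i m h1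

end Cfsg.Agent.Helper4.AschTI
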