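import Mathlib
import Cfsg.Agent.Helper4.AschPPB

/-!
# ASCH-PP, tensor-induced case (helper4), part A: the data of the conjugates (abstract)

`exists_conj_family`: in the unit group of a finite-dimensional algebra `R` of dimension `n * n`: if the `H`-conjugates
of `P` (pairwise equal or commuting) generate a subgroup spanning `R`, `P` spans the span of a `d × d` system of
matrix units, and `P` has a conjugate different from itself, then the conjugates can be listed as `PP : Fin k → _`,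
`k ≥ 2`, `n = d ^ k`, pairwise commuting, each with a `d × d` system of units, permuted by `H`.
-/

set_option autoImplicit false
set_option linter.style.haveILetI false
set_option linter.unusedVariables false

namespace Cfsg.Agent.Helper4.AschP

open Module
open scoped Pointwise

variable {F R : Type*} [Field F] [Ring R] [Algebra F R]

theorem exists_conj_family [Module.Finite F R] [Nontrivial R] [Finite Rˣ] {n d : ℕ}
    (hRn : finrank F R = n * n) {H N P : Subgroup Rˣ}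
    (hall : ∀ h ∈ H, cjg h P = P ∨ cjg h P ≤ Subgroup.centralizer (P : Set Rˣ))
    (hgen : hcl H P = N) (htop : gspan F N = ⊤) (hu : HasUnitsSys F d P)
    {h₀ : Rˣ} (hh₀ : h₀ ∈ H) (hne : cjg h₀ P ≠ P) :
    ∃ (k : ℕ) (PP : Fin k → Subgroup Rˣ), 2 ≤ k ∧ n = d ^ k ∧ (∀ i, HasUnitsSys F d (PP i)) ∧
      (∀ i j, i ≠ j → ∀ x ∈ PP i, ∀ y ∈ PP j, x * y = y * x) ∧
      (∀ h ∈ H, ∃ π : Equiv.Perm (Fin k), ∀ i, ∀ x ∈ PP i, h * x * h⁻¹ ∈ PP (π i)) := by
  classical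
  haveI : Finite (Subgroup Rˣ) := inferInstance
  let S : Set (Subgroup Rˣ) := {Q | ∃ h ∈ H, Q = cjg h P}
  have hSfin : S.Finite := Set.toFinite S
  let 𝒬 : Finset (Subgroup Rˣ) := hSfin.toFinset
  have hmem : ∀ Q, Q ∈ 𝒬 ↔ ∃ h ∈ H, Q = cjg h P := fun Q => hSfin.mem_toFinset
  have hcomm : ∀ Q₁ ∈ 𝒬, ∀ Q₂ ∈ 𝒬, Q₁ ≠ Q₂ → ∀ x ∈ Q₁, ∀ y ∈ Q₂, x * y = y * x := by
    intro Q₁ h₁ Q₂ h₂ hne12 x hx y hy
    obtain ⟨g₁, hg₁, rfl⟩ := (hmem Q₁).1 h₁
    obtain ⟨g₂, hg₂, rfl⟩ := (hmem Q₂).1 h₂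
    have hg : g₁⁻¹ * g₂ ∈ H := H.mul_mem (H.inv_mem hg₁) hg₂
    rcases hall _ hg with heq | hle
    · exfalso
      apply hne12
      have := congrArg (cjg g₁) heq
      rw [cjg_mul, mul_inv_cancel_left] at this
      exact this.symm
    · rw [mem_cjg_iff] at hx hy
      have h1 : g₁⁻¹ * y * g₁ ∈ cjg (g₁⁻¹ * g₂) P := by
        rw [mem_cjg_iff]
        have e : (g₁⁻¹ * g₂)⁻¹ * (g₁⁻¹ * y * g₁) * (g₁⁻¹ * g₂) = g₂⁻¹ * y * g₂ := by group
        rw [e]
        exact hy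
      have h2 := (Subgroup.mem_centralizer_iff.1 (hle h1)) _ hx
      have e1 : x * y = g₁ * ((g₁⁻¹ * x * g₁) * (g₁⁻¹ * y * g₁)) * g₁⁻¹ := by group
      have e2 : y * x = g₁ * ((g₁⁻¹ * y * g₁) * (g₁⁻¹ * x * g₁)) * g₁⁻¹ := by group
      rw [e1, e2, h2]
  have hus : ∀ Q ∈ 𝒬, HasUnitsSys F d Q := by
    intro Q hQ
    obtain ⟨g, hg, rfl⟩ := (hmem Q).1 hQ
    exact hasUnitsSys_cjg hu g
  have hsup : 𝒬.sup id = N := by
    rw [← hgen]
    apply le_antisymm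
    · apply Finset.sup_le
      intro Q hQ
      obtain ⟨g, hg, rfl⟩ := (hmem Q).1 hQ
      rintro _ ⟨x, hx, rfl⟩
      refine Subgroup.subset_closure ⟨g, hg, x, hx, ?_⟩
      simp
    · apply hcl_le
      intro g hg x hx
      have h1 : cjg g P ≤ 𝒬.sup id :=
        Finset.le_sup (f := id) ((hmem (cjg g P)).2 ⟨g, hg, rfl⟩)
      exact h1 (conj_mem_cjg hx)
  have hcard : 2 ≤ 𝒬.card := by
    have h1 : P ∈ 𝒬 := (hmem P).2 ⟨1, H.one_mem, (cjg_one P).symm⟩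
    have h2 : cjg h₀ P ∈ 𝒬 := (hmem _).2 ⟨h₀, hh₀, rfl⟩
    exact Finset.one_lt_card.2 ⟨_, h2, _, h1, hne⟩
  have hfr := finrank_gspan_iSup (F := F) 𝒬 hcomm hus
  rw [hsup, htop, finrank_top, hRn, mul_pow, ← pow_two, ← pow_two] at hfr
  have hnk : n = d ^ 𝒬.card := Nat.pow_left_injective (n := 2) (by norm_num) hfr
  -- the enumeration
  let eq : 𝒬 ≃ Fin 𝒬.card := 𝒬.equivFin
  let PP : Fin 𝒬.card → Subgroup Rˣ := fun i => ((eq.symm i : 𝒬) : Subgroup Rˣ)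
  have hPPmem : ∀ i, PP i ∈ 𝒬 := fun i => (eq.symm i).2
  have hPPinj : Function.Injective PP := by
    intro i j hij
    have : eq.symm i = eq.symm j := Subtype.ext hij
    exact eq.symm.injective this
  refine ⟨𝒬.card, PP, hcard, hnk, fun i => hus _ (hPPmem i), ?_, ?_⟩
  · intro i j hij
    exact hcomm _ (hPPmem i) _ (hPPmem j) (fun h => hij (hPPinj h))
  · intro h hh
    have hcl : ∀ g ∈ H, ∀ Q : 𝒬, cjg g (Q : Subgroup Rˣ) ∈ 𝒬 := by
      intro g hg Q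
      obtain ⟨g', hg', hQ⟩ := (hmem Q).1 Q.2
      rw [hQ, cjg_mul]
      exact (hmem _).2 ⟨g * g', H.mul_mem hg hg', rfl⟩
    let σ : 𝒬 ≃ 𝒬 :=
      { toFun := fun Q => ⟨cjg h (Q : Subgroup Rˣ), hcl h hh Q⟩
        invFun := fun Q => ⟨cjg h⁻¹ (Q : Subgroup Rˣ), hcl h⁻¹ (H.inv_mem hh) Q⟩
        left_inv := fun Q => by
          apply Subtype.ext
          show cjg h⁻¹ (cjg h (Q : Subgroup Rˣ)) = Q
          rw [cjg_mul, inv_mul_cancel, cjg_one]
        right_inv := fun Q => by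
          apply Subtype.ext
          show cjg h (cjg h⁻¹ (Q : Subgroup Rˣ)) = Q
          rw [cjg_mul, mul_inv_cancel, cjg_one] }
    refine ⟨eq.symm.trans (σ.trans eq), fun i x hx => ?_⟩
    have h1 : PP ((eq.symm.trans (σ.trans eq)) i) = cjg h (PP i) := by
      show ((eq.symm (eq (σ (eq.symm i))) : 𝒬) : Subgroup Rˣ) = cjg h (PP i)
      rw [Equiv.symm_apply_apply]
      rfl
    rw [h1]
    exact conj_mem_cjg hx

end Cfsg.Agent.Helper4.AschP
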