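import Mathlib
import Cfsg.Prelude.Def_GeometricClasses
import Cfsg.Agent.Lead.AschBase
import Cfsg.Agent.Helper9.AschC6Base
import Cfsg.Agent.Helper4.AschPPC
import Cfsg.Agent.Helper4.AschTIA

/-!
# ASCH-PP piece T1 (helper4): `perfect_case_split`

In the perfect case either the three-part conclusion of `perfect_case_pp` holds or the minimal `N`-normal non-scalar
subgroup `P` is not `H`-normal, and then its conjugates form a `TIData`.
-/

set_option autoImplicit false
set_option linter.style.haveILetI false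
set_option linter.unusedVariables false

namespace Cfsg.Agent.Helper4.AschTI

open Cfsg Cfsg.Geo Cfsg.Agent.Lead.Asch Cfsg.Agent.Helper4.AschP Cfsg.Agent.Helper9.AschC6
open scoped MatrixGroups Matrix Kronecker
open Module

variable {n : ℕ} {F : Type*} [Field F]

/-- the conjugates of a non-`H`-normal `P` form a `TIData` -/
theorem tidata_of_not_nz [Fintype F] (hn : 0 < n) {H N P : Subgroup (GL (Fin n) F)}
    (hNabs : ActsAbsolutelyIrreducibly (matrixSet N)) (hPnz : Nzes N P)
    (hPns : ¬ P ≤ scalars (Fin n) F)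
    (hgen : ∀ x ∈ N, ∃ a ∈ P, ∃ c ∈ N, x = a * c ∧ ∀ y ∈ P, c * y = y * c)
    (hall : ∀ h ∈ H, cjg h P = P ∨ cjg h P ≤ Subgroup.centralizer (P : Set (GL (Fin n) F)))
    (hR : hcl H P = N) (hnot : ¬ Nz H P) :
    ∃ (d k : ℕ) (PP : Fin k → Subgroup (GL (Fin n) F)), TIData n F H d k PP := by
  classical
  haveI : NeZero n := ⟨hn.ne'⟩
  haveI : Finite (GL (Fin n) F) := inferInstance
  unfold Nz at hnot
  push Not at hnot
  obtain ⟨h₀, hh₀, x, hxP, hx⟩ := hnot
  have hne : cjg h₀ P ≠ P := by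
    intro heq
    apply hx
    rw [← heq]
    exact conj_mem_cjg hxP
  obtain ⟨d, hd2, hu⟩ := hasUnitsSys_of_gen hn hNabs hPnz hPns hgen
  have hRn : finrank F (Matrix (Fin n) (Fin n) F) = n * n := by
    rw [Module.finrank_matrix]
    simp
  have htop : gspan F (R := Matrix (Fin n) (Fin n) F) N = ⊤ :=
    Cfsg.Agent.Helper5.AschK.span_matrixSet_eq_top hNabs
  obtain ⟨k, PP, hk, hnk, hus, hcomm, hperm⟩ :=
    exists_conj_family (F := F) (R := Matrix (Fin n) (Fin n) F) hRn hall hR htop hu hh₀ hne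
  exact ⟨d, k, PP, ⟨hd2, hk, hnk, hus, hcomm, hperm⟩⟩

/-- **T1** (exact stub). -/
theorem perfect_case_split [Fintype F] (hn : 2 ≤ n) {H N : Subgroup (GL (Fin n) F)}
    (hNH : N ≤ H) (hnz : Nzes H N) (hns : ¬ N ≤ scalars (Fin n) F)
    (hall : ∀ M : Subgroup (GL (Fin n) F), M ≤ H → Nzes H M →
      M ≤ scalars (Fin n) F ∨ ActsAbsolutelyIrreducibly (matrixSet M))
    (hmin : ∀ M : Subgroup (GL (Fin n) F), M ≤ N → Nzes H M → ¬ M ≤ scalars (Fin n) F → M = N)
    (hperf : ⁅N, N⁆ = N) :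
    (IsSimpleGroup (N ⧸ (scalars (Fin n) F).subgroupOf N) ∧
      ¬ IsMulCommutative (N ⧸ (scalars (Fin n) F).subgroupOf N) ∧
      (∀ h ∈ H, (∀ x ∈ N, h * x * h⁻¹ * x⁻¹ ∈ scalars (Fin n) F) → h ∈ scalars (Fin n) F)) ∨
    (∃ (d k : ℕ) (PP : Fin k → Subgroup (GL (Fin n) F)), TIData n F H d k PP) := by
  classical
  by_cases hTI : ∃ (d k : ℕ) (PP : Fin k → Subgroup (GL (Fin n) F)), TIData n F H d k PP
  · exact Or.inr hTI
  left
  have hNabs : ActsAbsolutelyIrreducibly (matrixSet N) := (hall N hNH hnz).resolve_left hns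
  have hZ := scalars_central (n := n) (F := F)
  haveI : Finite (GL (Fin n) F) := inferInstance
  have hdich : ∀ M : Subgroup (GL (Fin n) F), M ≤ N → Nz N M →
      M ≤ scalars (Fin n) F ∨ M = N :=
    main_dichotomy_of_nz hZ hNH hnz hns hmin hperf
      (fun P hPN hPnz hPns hPperf hgen hall' hR => by
        by_contra hnot
        exact hTI (tidata_of_not_nz (by omega) hNabs hPnz hPns hgen hall' hR hnot))
  refine ⟨isSimpleGroup_quot hns hdich, not_isMulCommutative_quot hns hperf, ?_⟩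
  intro h hh hx
  have hmem : h ∈ cz (scalars (Fin n) F) N := hx
  have hcen := cz_le_centralizer_of_perfect hZ hperf hmem
  exact mem_scalars_of_commute (by omega) hNabs
    (fun x hxN => Subgroup.mem_centralizer_iff.1 hcen x hxN)

end Cfsg.Agent.Helper4.AschTI
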