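import Mathlib
import Cfsg.Prelude.Def_GeometricClasses
import Cfsg.Agent.Lead.AschBase
import Cfsg.Agent.Helper9.AschC6Base
import Cfsg.Agent.Helper4.AschTIB

/-!
# FORM-C7 (helper4), part F: the tensor-induced data with its origin

`TIDataF`: a `TIData` whose subgroups `PP i` are the `H`-conjugates of one perfect subgroup `P ≤ N`.
`perfect_case_split'`: `perfect_case_split` with `TIDataF` in the second alternative.
-/

set_option autoImplicit false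
set_option linter.style.haveILetI false
set_option linter.unusedVariables false
set_option linter.unusedSectionVars false

namespace Cfsg.Agent.Helper4.AschP

open Module
open scoped Pointwise

variable {F R : Type*} [Field F] [Ring R] [Algebra F R]

theorem exists_conj_family' [Module.Finite F R] [Nontrivial R] [Finite Rˣ] {n d : ℕ}
    (hRn : finrank F R = n * n) {H N P : Subgroup Rˣ}
    (hall : ∀ h ∈ H, cjg h P = P ∨ cjg h P ≤ Subgroup.centralizer (P : Set Rˣ))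
    (hgen : hcl H P = N) (htop : gspan F N = ⊤) (hu : HasUnitsSys F d P)
    {h₀ : Rˣ} (hh₀ : h₀ ∈ H) (hne : cjg h₀ P ≠ P) :
    ∃ (k : ℕ) (PP : Fin k → Subgroup Rˣ), 2 ≤ k ∧ n = d ^ k ∧ (∀ i, HasUnitsSys F d (PP i)) ∧
      (∀ i j, i ≠ j → ∀ x ∈ PP i, ∀ y ∈ PP j, x * y = y * x) ∧
      (∀ h ∈ H, ∃ π : Equiv.Perm (Fin k), ∀ i, ∀ x ∈ PP i, h * x * h⁻¹ ∈ PP (π i)) ∧
      (∀ i, ∃ h ∈ H, PP i = cjg h P) ∧ (∀ h ∈ H, ∃ i, PP i = cjg h P) := by
  classical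
  haveI : Finite (Subgroup Rˣ) := inferInstance
  let S : Set (Subgroup Rˣ) := {Q | ∃ h ∈ H, Q = cjg h P}
  have hSfin : S.Finite := Set.toFinite S
  let 𝒬 : Finset (Subgroup Rˣ) := hSfin.toFinset
  have hmem : ∀ Q, Q ∈ 𝒬 ↔ ∃ h ∈ H, Q = cjg h P := fun Q => hSfin.mem_toFinset
  have hcomm : ∀ Q₁ ∈ 𝒬, ∀ Q₂ ∈ 𝒬, Q₁ ≠ Q₂ → ∀ x ∈ Q₁, ∀ y ∈ Q₂, x * y = y * x := by
    intro Q₁ h₁ Q₂ h₂ hne12 x hx y hy
    obtain ⟨g₁, hg₁, rfl⟩ := (hmem Q₁).1 h₁
    obtain ⟨g₂, hg₂, rfl⟩ := (hmem Q₂).1 h₂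
    have hg : g₁⁻¹ * g₂ ∈ H := H.mul_mem (H.inv_mem hg₁) hg₂
    rcases hall _ hg with heq | hle
    · exfalso
      apply hne12
      have := congrArg (cjg g₁) heq
      rw [cjg_mul, mul_inv_cancel_left] at this
      exact this.symm
    · rw [mem_cjg_iff] at hx hy
      have h1 : g₁⁻¹ * y * g₁ ∈ cjg (g₁⁻¹ * g₂) P := by
        rw [mem_cjg_iff]
        have e : (g₁⁻¹ * g₂)⁻¹ * (g₁⁻¹ * y * g₁) * (g₁⁻¹ * g₂) = g₂⁻¹ * y * g₂ := by group
        rw [e]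
        exact hy
      have h2 := (Subgroup.mem_centralizer_iff.1 (hle h1)) _ hx
      have e1 : x * y = g₁ * ((g₁⁻¹ * x * g₁) * (g₁⁻¹ * y * g₁)) * g₁⁻¹ := by group
      have e2 : y * x = g₁ * ((g₁⁻¹ * y * g₁) * (g₁⁻¹ * x * g₁)) * g₁⁻¹ := by group
      rw [e1, e2, h2]
  have hus : ∀ Q ∈ 𝒬, HasUnitsSys F d Q := by
    intro Q hQ
    obtain ⟨g, hg, rfl⟩ := (hmem Q).1 hQ
    exact hasUnitsSys_cjg hu g
  have hsup : 𝒬.sup id = N := by
    rw [← hgen]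
    apply le_antisymm
    · apply Finset.sup_le
      intro Q hQ
      obtain ⟨g, hg, rfl⟩ := (hmem Q).1 hQ
      rintro _ ⟨x, hx, rfl⟩
      refine Subgroup.subset_closure ⟨g, hg, x, hx, ?_⟩
      simp
    · apply hcl_le
      intro g hg x hx
      have h1 : cjg g P ≤ 𝒬.sup id :=
        Finset.le_sup (f := id) ((hmem (cjg g P)).2 ⟨g, hg, rfl⟩)
      exact h1 (conj_mem_cjg hx)
  have hcard : 2 ≤ 𝒬.card := by
    have h1 : P ∈ 𝒬 := (hmem P).2 ⟨1, H.one_mem, (cjg_one P).symm⟩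
    have h2 : cjg h₀ P ∈ 𝒬 := (hmem _).2 ⟨h₀, hh₀, rfl⟩
    exact Finset.one_lt_card.2 ⟨_, h2, _, h1, hne⟩
  have hfr := finrank_gspan_iSup (F := F) 𝒬 hcomm hus
  rw [hsup, htop, finrank_top, hRn, mul_pow, ← pow_two, ← pow_two] at hfr
  have hnk : n = d ^ 𝒬.card := Nat.pow_left_injective (n := 2) (by norm_num) hfr
  -- the enumeration
  let eq : 𝒬 ≃ Fin 𝒬.card := 𝒬.equivFin
  let PP : Fin 𝒬.card → Subgroup Rˣ := fun i => ((eq.symm i : 𝒬) : Subgroup Rˣ)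
  have hPPmem : ∀ i, PP i ∈ 𝒬 := fun i => (eq.symm i).2
  have hPPinj : Function.Injective PP := by
    intro i j hij
    have : eq.symm i = eq.symm j := Subtype.ext hij
    exact eq.symm.injective this
  refine ⟨𝒬.card, PP, hcard, hnk, fun i => hus _ (hPPmem i), ?_, ?_, fun i => (hmem (PP i)).1 (hPPmem i),
    fun h hh => ⟨eq ⟨cjg h P, (hmem _).2 ⟨h, hh, rfl⟩⟩, by
      show ((eq.symm (eq ⟨cjg h P, (hmem _).2 ⟨h, hh, rfl⟩⟩) : 𝒬) : Subgroup Rˣ) = cjg h P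
      rw [Equiv.symm_apply_apply]⟩⟩
  · intro i j hij
    exact hcomm _ (hPPmem i) _ (hPPmem j) (fun h => hij (hPPinj h))
  · intro h hh
    have hcl : ∀ g ∈ H, ∀ Q : 𝒬, cjg g (Q : Subgroup Rˣ) ∈ 𝒬 := by
      intro g hg Q
      obtain ⟨g', hg', hQ⟩ := (hmem Q).1 Q.2
      rw [hQ, cjg_mul]
      exact (hmem _).2 ⟨g * g', H.mul_mem hg hg', rfl⟩
    let σ : 𝒬 ≃ 𝒬 :=
      { toFun := fun Q => ⟨cjg h (Q : Subgroup Rˣ), hcl h hh Q⟩
        invFun := fun Q => ⟨cjg h⁻¹ (Q : Subgroup Rˣ), hcl h⁻¹ (H.inv_mem hh) Q⟩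
        left_inv := fun Q => by
          apply Subtype.ext
          show cjg h⁻¹ (cjg h (Q : Subgroup Rˣ)) = Q
          rw [cjg_mul, inv_mul_cancel, cjg_one]
        right_inv := fun Q => by
          apply Subtype.ext
          show cjg h (cjg h⁻¹ (Q : Subgroup Rˣ)) = Q
          rw [cjg_mul, mul_inv_cancel, cjg_one] }
    refine ⟨eq.symm.trans (σ.trans eq), fun i x hx => ?_⟩
    have h1 : PP ((eq.symm.trans (σ.trans eq)) i) = cjg h (PP i) := by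
      show ((eq.symm (eq (σ (eq.symm i))) : 𝒬) : Subgroup Rˣ) = cjg h (PP i)
      rw [Equiv.symm_apply_apply]
      rfl
    rw [h1]
    exact conj_mem_cjg hx

end Cfsg.Agent.Helper4.AschP

namespace Cfsg.Agent.Helper4.AschTI

open Cfsg Cfsg.Geo Cfsg.Agent.Lead.Asch Cfsg.Agent.Helper4.AschP Cfsg.Agent.Helper9.AschC6
open scoped MatrixGroups Matrix Kronecker
open Module

variable {n : ℕ} {F : Type*} [Field F]

/-- a `TIData` whose subgroups are the `H`-conjugates of one perfect subgroup of `N` -/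
structure TIDataF (n : ℕ) (F : Type*) [Field F] (H N : Subgroup (GL (Fin n) F)) (d k : ℕ)
    (PP : Fin k → Subgroup (GL (Fin n) F)) : Prop where
  base : TIData n F H d k PP
  conj : ∃ P : Subgroup (GL (Fin n) F), P ≤ N ∧ ⁅P, P⁆ = P ∧
    ∀ i, ∃ h ∈ H, PP i = P.map (MulAut.conj h).toMonoidHom
  gen : N ≤ ⨆ i, PP i

theorem TIDataF.le {H N : Subgroup (GL (Fin n) F)} {d k : ℕ} {PP : Fin k → Subgroup (GL (Fin n) F)}
    (h : TIDataF n F H N d k PP) (hnz : Nzes H N) (i : Fin k) : PP i ≤ N := by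
  obtain ⟨P, hPN, -, hP⟩ := h.conj
  obtain ⟨g, hg, hgi⟩ := hP i
  rw [hgi]
  rintro _ ⟨x, hx, rfl⟩
  exact hnz g hg x (hPN hx)

theorem TIDataF.perf {H N : Subgroup (GL (Fin n) F)} {d k : ℕ} {PP : Fin k → Subgroup (GL (Fin n) F)}
    (h : TIDataF n F H N d k PP) (i : Fin k) : ⁅PP i, PP i⁆ = PP i := by
  obtain ⟨P, -, hPp, hP⟩ := h.conj
  obtain ⟨g, hg, hgi⟩ := hP i
  rw [hgi, ← Subgroup.map_commutator, hPp]

theorem TIDataF.trans {H N : Subgroup (GL (Fin n) F)} {d k : ℕ} {PP : Fin k → Subgroup (GL (Fin n) F)}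
    (h : TIDataF n F H N d k PP) (i j : Fin k) :
    ∃ g ∈ H, ∀ x ∈ PP i, g * x * g⁻¹ ∈ PP j := by
  obtain ⟨P, -, -, hP⟩ := h.conj
  obtain ⟨gi, hgi, hi⟩ := hP i
  obtain ⟨gj, hgj, hj⟩ := hP j
  refine ⟨gj * gi⁻¹, H.mul_mem hgj (H.inv_mem hgi), fun x hx => ?_⟩
  rw [hi] at hx
  obtain ⟨y, hy, rfl⟩ := hx
  rw [hj]
  refine ⟨y, hy, ?_⟩
  show gj * y * gj⁻¹ = gj * gi⁻¹ * (gi * y * gi⁻¹) * (gj * gi⁻¹)⁻¹
  group

/-- the conjugates of a non-`H`-normal perfect `P ≤ N` form a `TIDataF` -/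
theorem tidataF_of_not_nz [Fintype F] (hn : 0 < n) {H N P : Subgroup (GL (Fin n) F)}
    (hNabs : ActsAbsolutelyIrreducibly (matrixSet N)) (hPN : P ≤ N) (hPperf : ⁅P, P⁆ = P) (hPnz : Nzes N P)
    (hPns : ¬ P ≤ scalars (Fin n) F)
    (hgen : ∀ x ∈ N, ∃ a ∈ P, ∃ c ∈ N, x = a * c ∧ ∀ y ∈ P, c * y = y * c)
    (hall : ∀ h ∈ H, cjg h P = P ∨ cjg h P ≤ Subgroup.centralizer (P : Set (GL (Fin n) F)))
    (hR : hcl H P = N) (hnot : ¬ Nz H P) :
    ∃ (d k : ℕ) (PP : Fin k → Subgroup (GL (Fin n) F)), TIDataF n F H N d k PP := by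
  classical
  haveI : NeZero n := ⟨hn.ne'⟩
  haveI : Finite (GL (Fin n) F) := inferInstance
  unfold Nz at hnot
  push Not at hnot
  obtain ⟨h₀, hh₀, x, hxP, hx⟩ := hnot
  have hne : cjg h₀ P ≠ P := by
    intro heq
    apply hx
    rw [← heq]
    exact conj_mem_cjg hxP
  obtain ⟨d, hd2, hu⟩ := hasUnitsSys_of_gen hn hNabs hPnz hPns hgen
  have hRn : finrank F (Matrix (Fin n) (Fin n) F) = n * n := by
    rw [Module.finrank_matrix]
    simp
  have htop : gspan F (R := Matrix (Fin n) (Fin n) F) N = ⊤ :=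
    Cfsg.Agent.Helper5.AschK.span_matrixSet_eq_top hNabs
  obtain ⟨k, PP, hk, hnk, hus, hcomm, hperm, hconj, hconj'⟩ :=
    exists_conj_family' (F := F) (R := Matrix (Fin n) (Fin n) F) hRn hall hR htop hu hh₀ hne
  refine ⟨d, k, PP, ⟨hd2, hk, hnk, hus, hcomm, hperm⟩, ⟨P, hPN, hPperf, hconj⟩, ?_⟩
  rw [← hR]
  apply hcl_le
  intro g hg x hx
  obtain ⟨i, hi⟩ := hconj' g hg
  have h1 : g * x * g⁻¹ ∈ PP i := by
    rw [hi]
    exact conj_mem_cjg hx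
  exact (le_iSup PP i) h1

/-- **T1 with the origin of the data**. -/
theorem perfect_case_split' [Fintype F] (hn : 2 ≤ n) {H N : Subgroup (GL (Fin n) F)}
    (hNH : N ≤ H) (hnz : Nzes H N) (hns : ¬ N ≤ scalars (Fin n) F)
    (hall : ∀ M : Subgroup (GL (Fin n) F), M ≤ H → Nzes H M →
      M ≤ scalars (Fin n) F ∨ ActsAbsolutelyIrreducibly (matrixSet M))
    (hmin : ∀ M : Subgroup (GL (Fin n) F), M ≤ N → Nzes H M → ¬ M ≤ scalars (Fin n) F → M = N)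
    (hperf : ⁅N, N⁆ = N) :
    (IsSimpleGroup (N ⧸ (scalars (Fin n) F).subgroupOf N) ∧
      ¬ IsMulCommutative (N ⧸ (scalars (Fin n) F).subgroupOf N) ∧
      (∀ h ∈ H, (∀ x ∈ N, h * x * h⁻¹ * x⁻¹ ∈ scalars (Fin n) F) → h ∈ scalars (Fin n) F)) ∨
    (∃ (d k : ℕ) (PP : Fin k → Subgroup (GL (Fin n) F)), TIDataF n F H N d k PP) := by
  classical
  by_cases hTI : ∃ (d k : ℕ) (PP : Fin k → Subgroup (GL (Fin n) F)), TIDataF n F H N d k PP
  · exact Or.inr hTI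
  left
  have hNabs : ActsAbsolutelyIrreducibly (matrixSet N) := (hall N hNH hnz).resolve_left hns
  have hZ := scalars_central (n := n) (F := F)
  haveI : Finite (GL (Fin n) F) := inferInstance
  have hdich : ∀ M : Subgroup (GL (Fin n) F), M ≤ N → Nz N M →
      M ≤ scalars (Fin n) F ∨ M = N :=
    main_dichotomy_of_nz hZ hNH hnz hns hmin hperf
      (fun P hPN hPnz hPns hPperf hgen hall' hR => by
        by_contra hnot
        exact hTI (tidataF_of_not_nz (by omega) hNabs hPN hPperf hPnz hPns hgen hall' hR hnot))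
  refine ⟨isSimpleGroup_quot hns hdich, not_isMulCommutative_quot hns hperf, ?_⟩
  intro h hh hx
  have hmem : h ∈ cz (scalars (Fin n) F) N := hx
  have hcen := cz_le_centralizer_of_perfect hZ hperf hmem
  exact mem_scalars_of_commute (by omega) hNabs
    (fun x hxN => Subgroup.mem_centralizer_iff.1 hcen x hxN)

end Cfsg.Agent.Helper4.AschTI
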