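import Mathlib
import Cfsg.Prelude.Def_GeometricClasses
import Cfsg.Agent.Helper4.AschFC7E
import Cfsg.Agent.Helper4.AschFC7F

/-!
# FORM-C7 (helper4), part G: the perfect case with a form

`perfect_case_form`: `perfect_case_gen` for a group `H` whose minimal normal non-scalar perfect subgroup `N` consists
of isometries of a non-degenerate `σ`-sesquilinear form `f`: in the tensor-induced alternative the form is a tensor
power `c • G₁^{⊗k}` in the adapted frame, and a perfect absolutely irreducible group `P₁ ≤ GL_d(F)` of isometries of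
`G₁` is exhibited.
-/

set_option autoImplicit false
set_option linter.style.haveILetI false
set_option linter.unusedVariables false
set_option linter.unusedSectionVars false

namespace Cfsg.Agent.Helper4.AschTI

open Cfsg Cfsg.Geo Cfsg.Agent.Lead.Asch Cfsg.Agent.Helper4.AschP Cfsg.Agent.Helper9.AschC6
open Cfsg.Agent.Helper5.AschF Cfsg.Agent.Helper5.GramForm Cfsg.Agent.Helper3.Asch
open scoped MatrixGroups Matrix

variable {n : ℕ} {F : Type*} [Field F] {d k : ℕ}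

/-- the embedding of `GL_d(F)` as the `i`-th tensor factor in the frame `(e, Q)` -/
def frameHom (e : Fin n ≃ (Fin k → Fin d)) (Q : GL (Fin n) F) (i : Fin k) :
    GL (Fin d) F →* GL (Fin n) F :=
  Units.map
    { toFun := frameL e Q i
      map_one' := frameL_one e Q i
      map_mul' := frameL_mul e Q i }

theorem frameHom_val (e : Fin n ≃ (Fin k → Fin d)) (Q : GL (Fin n) F) (i : Fin k) (u : GL (Fin d) F) :
    ((frameHom e Q i u : GL (Fin n) F) : Matrix (Fin n) (Fin n) F) =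
      frameL e Q i (u : Matrix (Fin d) (Fin d) F) := rfl

theorem frameHom_injective (hd : 0 < d) (e : Fin n ≃ (Fin k → Fin d)) (Q : GL (Fin n) F) (i : Fin k) :
    Function.Injective (frameHom e Q i) := by
  intro u v huv
  apply Units.ext
  apply frameL_injective hd e Q i
  rw [← frameHom_val, ← frameHom_val, huv]

theorem TIFrame.exists_unit {PP : Fin k → Subgroup (GL (Fin n) F)} {e : Fin n ≃ (Fin k → Fin d)}
    {Q : GL (Fin n) F} (hfr : TIFrame PP e Q) (hd : 0 < d) (i : Fin k) {x : GL (Fin n) F} (hx : x ∈ PP i) :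
    ∃ u : GL (Fin d) F, frameHom e Q i u = x := by
  obtain ⟨r, hr⟩ := hfr.mem i x hx
  obtain ⟨r', hr'⟩ := hfr.mem i x⁻¹ ((PP i).inv_mem hx)
  have h1 : frameL e Q i (r * r') = frameL e Q i 1 := by
    rw [frameL_mul, ← hr, ← hr', ← Units.val_mul, mul_inv_cancel, Units.val_one, frameL_one]
  have h2 : frameL e Q i (r' * r) = frameL e Q i 1 := by
    rw [frameL_mul, ← hr, ← hr', ← Units.val_mul, inv_mul_cancel, Units.val_one, frameL_one]
  refine ⟨⟨r, r', frameL_injective hd e Q i h1, frameL_injective hd e Q i h2⟩, ?_⟩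
  apply Units.ext
  rw [frameHom_val]
  exact hr.symm

theorem TIFrame.span_matrixSet_comap {PP : Fin k → Subgroup (GL (Fin n) F)} {e : Fin n ≃ (Fin k → Fin d)}
    {Q : GL (Fin n) F} (hfr : TIFrame PP e Q) (hd : 0 < d) (i : Fin k) :
    Submodule.span F (matrixSet ((PP i).comap (frameHom e Q i))) = ⊤ := by
  rw [eq_top_iff]
  intro m _
  have h1 : frameL e Q i m ∈ gspan F (R := Matrix (Fin n) (Fin n) F) (PP i) := hfr.span i m
  have h2 : gspan F (R := Matrix (Fin n) (Fin n) F) (PP i) ≤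
      (Submodule.span F (matrixSet ((PP i).comap (frameHom e Q i)))).map (frameL e Q i) := by
    unfold gspan
    rw [Submodule.span_le]
    rintro _ ⟨x, hx, rfl⟩
    obtain ⟨u, hu⟩ := hfr.exists_unit hd i hx
    refine ⟨(u : Matrix (Fin d) (Fin d) F), Submodule.subset_span ⟨u, ?_, rfl⟩, ?_⟩
    · show frameHom e Q i u ∈ PP i
      rw [hu]
      exact hx
    · rw [← frameHom_val, hu]
  obtain ⟨m', hm', hmm⟩ := h2 h1
  rw [← frameL_injective hd e Q i hmm]
  exact hm'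

/-- **the perfect case with a form**, with the generation of `N` by factor isometries. -/
theorem perfect_case_form' [Fintype F] (hn : 2 ≤ n) {σ : F ≃+* F} {f : (Fin n → F) → (Fin n → F) → F}
    (hf : IsSesq σ f) (hnd : IsNondegenerateForm f) {H N : Subgroup (GL (Fin n) F)}
    (hNH : N ≤ H) (hnz : Nzes H N) (hns : ¬ N ≤ scalars (Fin n) F)
    (hall : ∀ M : Subgroup (GL (Fin n) F), M ≤ H → Nzes H M →
      M ≤ scalars (Fin n) F ∨ ActsAbsolutelyIrreducibly (matrixSet M))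
    (hmin : ∀ M : Subgroup (GL (Fin n) F), M ≤ N → Nzes H M → ¬ M ≤ scalars (Fin n) F → M = N)
    (hperf : ⁅N, N⁆ = N)
    (hiso : ∀ x ∈ N, ∀ u v, f ((x : Matrix (Fin n) (Fin n) F) *ᵥ u)
      ((x : Matrix (Fin n) (Fin n) F) *ᵥ v) = f u v) :
    (∃ (d k : ℕ) (e : Fin n ≃ (Fin k → Fin d)) (Pm : GL (Fin n) F) (G₁ : Matrix (Fin d) (Fin d) F) (c : F)
        (P₁ : Subgroup (GL (Fin d) F)),
      2 ≤ d ∧ 2 ≤ k ∧ c ≠ 0 ∧ IsUnit G₁.det ∧
      (∀ x y : (Fin k → Fin d) → F,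
        f ((Pm : Matrix (Fin n) (Fin n) F) *ᵥ (x ∘ e)) ((Pm : Matrix (Fin n) (Fin n) F) *ᵥ (y ∘ e)) =
          c * ∑ a, ∑ b, x a * (∏ i, G₁ (a i) (b i)) * σ (y b)) ∧
      ⁅P₁, P₁⁆ = P₁ ∧ ActsAbsolutelyIrreducibly (matrixSet P₁) ∧
      (∀ u ∈ P₁, (u : Matrix (Fin d) (Fin d) F)ᵀ * G₁ * (u : Matrix (Fin d) (Fin d) F).map σ = G₁) ∧
      H ≤ tensorWreathSubgroup d k e Pm ∧
      N ≤ Subgroup.closure {x : GL (Fin n) F | ∃ (i : Fin k) (m : Matrix (Fin d) (Fin d) F),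
        (x : Matrix (Fin n) (Fin n) F) = frameL e Pm i m ∧ mᵀ * G₁ * m.map σ = G₁}) ∨
    (IsSimpleGroup (N ⧸ (scalars (Fin n) F).subgroupOf N) ∧
      ¬ IsMulCommutative (N ⧸ (scalars (Fin n) F).subgroupOf N) ∧
      (∀ h ∈ H, (∀ x ∈ N, h * x * h⁻¹ * x⁻¹ ∈ scalars (Fin n) F) → h ∈ scalars (Fin n) F)) := by
  classical
  rcases perfect_case_split' hn hNH hnz hns hall hmin hperf with h3 | ⟨d, k, PP, hTI⟩
  · exact Or.inr h3
  left
  have hd0 : 0 < d := by have := hTI.base.hd; omega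
  have hk0 : 0 < k := by have := hTI.base.hk; omega
  obtain ⟨e, Pm, G₁, c, hc, hG₁u, hfr, hform, hPPiso, hle⟩ := form_c7_core hf hnd hTI.base
    (fun i x hx => hiso x (hTI.le hnz i hx))
    (fun i j => by
      obtain ⟨g, -, hg⟩ := hTI.trans i j
      exact ⟨g, hg⟩)
  let i₀ : Fin k := ⟨0, hk0⟩
  let φ : GL (Fin d) F →* GL (Fin n) F := frameHom e Pm i₀
  have hφinj : Function.Injective φ := frameHom_injective hd0 e Pm i₀
  let P₁ : Subgroup (GL (Fin d) F) := (PP i₀).comap φ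
  have hmap : P₁.map φ = PP i₀ := by
    apply le_antisymm
    · rintro _ ⟨u, hu, rfl⟩
      exact hu
    · intro x hx
      obtain ⟨u, hu⟩ := hfr.exists_unit hd0 i₀ hx
      refine ⟨u, ?_, hu⟩
      show φ u ∈ PP i₀
      rw [show φ u = x from hu]
      exact hx
  have hP₁perf : ⁅P₁, P₁⁆ = P₁ := by
    apply Subgroup.map_injective hφinj
    rw [Subgroup.map_commutator, hmap, hTI.perf i₀]
  refine ⟨d, k, e, Pm, G₁, c, P₁, hTI.base.hd, hTI.base.hk, hc, hG₁u, hform, hP₁perf,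
    absIrr_of_span_eq_top (hfr.span_matrixSet_comap hd0 i₀), ?_, hle, ?_⟩
  swap
  · refine hTI.gen.trans ?_
    apply iSup_le
    intro i x hx
    obtain ⟨m, hm, hminv⟩ := hPPiso i x hx
    exact Subgroup.subset_closure ⟨i, m, hm, hminv⟩
  intro u hu
  have hu' : φ u ∈ PP i₀ := hu
  obtain ⟨m, hm, hminv⟩ := hPPiso i₀ (φ u) hu'
  have h1 : m = (u : Matrix (Fin d) (Fin d) F) := by
    apply frameL_injective hd0 e Pm i₀
    rw [← hm]
    rfl
  rw [← h1]
  exact hminv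

/-- **the perfect case with a form**. -/
theorem perfect_case_form [Fintype F] (hn : 2 ≤ n) {σ : F ≃+* F} {f : (Fin n → F) → (Fin n → F) → F}
    (hf : IsSesq σ f) (hnd : IsNondegenerateForm f) {H N : Subgroup (GL (Fin n) F)}
    (hNH : N ≤ H) (hnz : Nzes H N) (hns : ¬ N ≤ scalars (Fin n) F)
    (hall : ∀ M : Subgroup (GL (Fin n) F), M ≤ H → Nzes H M →
      M ≤ scalars (Fin n) F ∨ ActsAbsolutelyIrreducibly (matrixSet M))
    (hmin : ∀ M : Subgroup (GL (Fin n) F), M ≤ N → Nzes H M → ¬ M ≤ scalars (Fin n) F → M = N)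
    (hperf : ⁅N, N⁆ = N)
    (hiso : ∀ x ∈ N, ∀ u v, f ((x : Matrix (Fin n) (Fin n) F) *ᵥ u)
      ((x : Matrix (Fin n) (Fin n) F) *ᵥ v) = f u v) :
    (∃ (d k : ℕ) (e : Fin n ≃ (Fin k → Fin d)) (Pm : GL (Fin n) F) (G₁ : Matrix (Fin d) (Fin d) F) (c : F)
        (P₁ : Subgroup (GL (Fin d) F)),
      2 ≤ d ∧ 2 ≤ k ∧ c ≠ 0 ∧ IsUnit G₁.det ∧
      (∀ x y : (Fin k → Fin d) → F,
        f ((Pm : Matrix (Fin n) (Fin n) F) *ᵥ (x ∘ e)) ((Pm : Matrix (Fin n) (Fin n) F) *ᵥ (y ∘ e)) =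
          c * ∑ a, ∑ b, x a * (∏ i, G₁ (a i) (b i)) * σ (y b)) ∧
      ⁅P₁, P₁⁆ = P₁ ∧ ActsAbsolutelyIrreducibly (matrixSet P₁) ∧
      (∀ u ∈ P₁, (u : Matrix (Fin d) (Fin d) F)ᵀ * G₁ * (u : Matrix (Fin d) (Fin d) F).map σ = G₁) ∧
      H ≤ tensorWreathSubgroup d k e Pm) ∨
    (IsSimpleGroup (N ⧸ (scalars (Fin n) F).subgroupOf N) ∧
      ¬ IsMulCommutative (N ⧸ (scalars (Fin n) F).subgroupOf N) ∧
      (∀ h ∈ H, (∀ x ∈ N, h * x * h⁻¹ * x⁻¹ ∈ scalars (Fin n) F) → h ∈ scalars (Fin n) F)) := by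
  rcases perfect_case_form' hn hf hnd hNH hnz hns hall hmin hperf hiso with
    ⟨d, k, e, Pm, G₁, c, P₁, h1, h2, h3, h4, h5, h6, h7, h8, h9, -⟩ | h
  · exact Or.inl ⟨d, k, e, Pm, G₁, c, P₁, h1, h2, h3, h4, h5, h6, h7, h8, h9⟩
  · exact Or.inr h

end Cfsg.Agent.Helper4.AschTI
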