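import Mathlib
import Cfsg.Prelude.Def_GeometricClasses
import Cfsg.Agent.Helper6.BurnsidePQ
import Cfsg.Agent.Helper4.PrimeGraphSolvB
import Cfsg.Agent.Helper4.AschFC7G

/-!
# FORM-C7 (helper4), part H: tools for the family shapes

* `ptens_const_smul_eq`: `A^{⊗k} = l • B^{⊗k}` implies `A = ε • B`, `ε ^ k = l`.
* `gram_type_of_transpose`, `gram_type_of_conjTranspose`: the symmetry type of `G₁` from that of `G₁^{⊗k}`.
* `eq_bot_of_perfect_gl2_f3`: a perfect subgroup of `GL_2(F_3)` is trivial (Burnside `p^a q^b`, helper6).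
* `not_absIrr_bot`: the trivial group is not absolutely irreducible in dimension `≥ 2`.
-/

set_option autoImplicit false
set_option linter.style.haveILetI false
set_option linter.unusedVariables false
set_option linter.unusedSectionVars false

namespace Cfsg.Agent.Helper4.AschTI

open Cfsg Cfsg.Geo Cfsg.Agent.Lead.Asch Cfsg.Agent.Helper4.AschP Cfsg.Agent.Helper9.AschC6
open Cfsg.Agent.Helper5.AschF Cfsg.Agent.Helper5.GramForm Cfsg.Agent.Helper3.Asch
open scoped MatrixGroups Matrix

variable {F : Type*} [Field F] {d k : ℕ}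

theorem ptens_const_apply_const (A : Matrix (Fin d) (Fin d) F) (p q : Fin d) :
    ptens (fun _ : Fin k => A) (fun _ => p) (fun _ => q) = A p q ^ k := by
  rw [ptens_apply, Finset.prod_const, Finset.card_univ, Fintype.card_fin]

theorem ptens_const_apply_update (A : Matrix (Fin d) (Fin d) F) (i : Fin k) (p q a b : Fin d) :
    ptens (fun _ : Fin k => A) (Function.update (fun _ => p) i a) (Function.update (fun _ => q) i b) =
      A a b * A p q ^ (k - 1) := by
  classical
  rw [ptens_apply, ← Finset.mul_prod_erase Finset.univ _ (Finset.mem_univ i), Function.update_self,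
    Function.update_self]
  have h4 : ∀ j ∈ Finset.univ.erase i, A (Function.update (fun _ : Fin k => p) i a j)
      (Function.update (fun _ : Fin k => q) i b j) = A p q := by
    intro j hj
    rw [Function.update_of_ne (Finset.ne_of_mem_erase hj), Function.update_of_ne (Finset.ne_of_mem_erase hj)]
  rw [Finset.prod_congr rfl h4, Finset.prod_const, Finset.card_erase_of_mem (Finset.mem_univ i),
    Finset.card_univ, Fintype.card_fin]

theorem ptens_const_smul_eq {A B : Matrix (Fin d) (Fin d) F} (hB : B ≠ 0) (hk : 0 < k) {l : F} (hl : l ≠ 0)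
    (h : ptens (fun _ : Fin k => A) = l • ptens (fun _ : Fin k => B)) :
    ∃ ε : F, A = ε • B ∧ ε ^ k = l := by
  classical
  obtain ⟨p, q, hpq⟩ : ∃ p q, B p q ≠ 0 := by
    by_contra hcon
    push Not at hcon
    apply hB
    ext p q
    exact hcon p q
  have h1 : A p q ^ k = l * B p q ^ k := by
    have := congrFun (congrFun h (fun _ => p)) (fun _ => q)
    rwa [Matrix.smul_apply, ptens_const_apply_const, ptens_const_apply_const, smul_eq_mul] at this
  have ha0 : A p q ≠ 0 := by
    intro h0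
    rw [h0, zero_pow hk.ne'] at h1
    exact mul_ne_zero hl (pow_ne_zero _ hpq) h1.symm
  have h2 : ∀ a b, A a b * A p q ^ (k - 1) = l * (B a b * B p q ^ (k - 1)) := by
    intro a b
    have := congrFun (congrFun h (Function.update (fun _ => p) ⟨0, hk⟩ a))
      (Function.update (fun _ => q) ⟨0, hk⟩ b)
    rwa [Matrix.smul_apply, ptens_const_apply_update, ptens_const_apply_update, smul_eq_mul] at this
  have hap : A p q ^ (k - 1) ≠ 0 := pow_ne_zero _ ha0
  set ε : F := l * B p q ^ (k - 1) * (A p q ^ (k - 1))⁻¹ with hε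
  have hAB : A = ε • B := by
    ext a b
    rw [Matrix.smul_apply, smul_eq_mul, hε]
    have := h2 a b
    field_simp
    linear_combination this
  refine ⟨ε, hAB, ?_⟩
  have h3 : A p q = ε * B p q := by
    have := congrFun (congrFun hAB p) q
    rwa [Matrix.smul_apply, smul_eq_mul] at this
  rw [h3, mul_pow] at h1
  exact mul_right_cancel₀ (pow_ne_zero k hpq) h1

theorem gram_type_of_transpose {G₁ : Matrix (Fin d) (Fin d) F} (hG₁ : G₁ ≠ 0) (hk : 0 < k) {s : F}
    (hs : s ≠ 0) (h : (ptens (fun _ : Fin k => G₁))ᵀ = s • ptens (fun _ : Fin k => G₁)) :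
    ∃ ε : F, G₁ᵀ = ε • G₁ ∧ ε ^ k = s ∧ ε * ε = 1 := by
  rw [ptens_transpose] at h
  obtain ⟨ε, hε, hεk⟩ := ptens_const_smul_eq hG₁ hk hs h
  refine ⟨ε, hε, hεk, ?_⟩
  obtain ⟨p, q, hpq⟩ : ∃ p q, G₁ p q ≠ 0 := by
    by_contra hcon
    push Not at hcon
    apply hG₁
    ext p q
    exact hcon p q
  have h1 : G₁ = (ε * ε) • G₁ := by
    calc G₁ = (G₁ᵀ)ᵀ := (Matrix.transpose_transpose G₁).symm
      _ = (ε • G₁)ᵀ := by rw [hε]
      _ = ε • G₁ᵀ := Matrix.transpose_smul ε G₁
      _ = (ε * ε) • G₁ := by rw [hε, smul_smul]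
  have h2 := congrFun (congrFun h1 p) q
  rw [Matrix.smul_apply, smul_eq_mul] at h2
  have h3 : (ε * ε - 1) * G₁ p q = 0 := by linear_combination -h2
  rcases mul_eq_zero.1 h3 with h4 | h4
  · linear_combination h4
  · exact absurd h4 hpq

theorem gram_type_of_conjTranspose (σ : F →+* F) (hσ : ∀ a, σ (σ a) = a) {G₁ : Matrix (Fin d) (Fin d) F}
    (hG₁ : G₁ ≠ 0) (hk : 0 < k) {s : F} (hs : s ≠ 0)
    (h : ((ptens (fun _ : Fin k => G₁)).map σ)ᵀ = s • ptens (fun _ : Fin k => G₁)) :
    ∃ ε : F, (G₁.map σ)ᵀ = ε • G₁ ∧ ε ^ k = s ∧ ε * σ ε = 1 := by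
  rw [ptens_map, ptens_transpose] at h
  obtain ⟨ε, hε, hεk⟩ := ptens_const_smul_eq hG₁ hk hs h
  refine ⟨ε, hε, hεk, ?_⟩
  obtain ⟨p, q, hpq⟩ : ∃ p q, G₁ p q ≠ 0 := by
    by_contra hcon
    push Not at hcon
    apply hG₁
    ext p q
    exact hcon p q
  have h1 : ∀ a b, σ (G₁ b a) = ε * G₁ a b := by
    intro a b
    have := congrFun (congrFun hε a) b
    rwa [Matrix.transpose_apply, Matrix.map_apply, Matrix.smul_apply, smul_eq_mul] at this
  have h2 : G₁ p q = σ ε * ε * G₁ p q := by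
    have e1 := h1 p q
    have e2 := congrArg σ (h1 q p)
    rw [hσ, map_mul] at e2
    linear_combination e2 + σ ε * e1
  have h3 : (ε * σ ε - 1) * G₁ p q = 0 := by linear_combination -h2
  rcases mul_eq_zero.1 h3 with h4 | h4
  · linear_combination h4
  · exact absurd h4 hpq

theorem gramMatrix_formOfGram' {κ : Type} [Fintype κ] [DecidableEq κ] (τ : F →+* F) (G : Matrix κ κ F) :
    gramMatrix (formOfGram τ G) = G := by
  ext a b
  exact formOfGram_single τ G a b

/-- a perfect subgroup of `GL_2(F_3)` is trivial -/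
theorem eq_bot_of_perfect_gl2_f3 [Fintype F] (hq : Fintype.card F = 3) (P₁ : Subgroup (GL (Fin 2) F))
    (hperf : ⁅P₁, P₁⁆ = P₁) : P₁ = ⊥ := by
  classical
  by_contra hne
  haveI : Finite (GL (Fin 2) F) := inferInstance
  have hcard : Nat.card (GL (Fin 2) F) = 48 := by
    rw [Matrix.card_GL_field, hq]
    simp [Fin.prod_univ_two]
  have hdvd : Nat.card P₁ ∣ 2 ^ 4 * 3 ^ 1 := by
    have := Subgroup.card_subgroup_dvd_card P₁
    rw [hcard] at this
    exact this
  have hsolv : Group.IsSolvable P₁ :=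
    Cfsg.Agent.Helper6.burnside_pq_aux 2 3 4 1 Nat.prime_two Nat.prime_three _ P₁ rfl hdvd
  have := Cfsg.Agent.Helper4.card_commutator_lt P₁ hsolv hne
  rw [hperf] at this
  exact lt_irrefl _ this

theorem not_absIrr_bot (hd : 2 ≤ d) :
    ¬ ActsAbsolutelyIrreducibly (matrixSet (⊥ : Subgroup (GL (Fin d) F))) := by
  classical
  intro h
  obtain ⟨c, hc⟩ := h.2 (Matrix.single (⟨0, by omega⟩ : Fin d) (⟨1, by omega⟩ : Fin d) (1 : F)) (by
    rintro s ⟨g, hg, rfl⟩
    have : g = 1 := Subgroup.mem_bot.1 hg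
    subst this
    show _ * ((1 : GL (Fin d) F) : Matrix (Fin d) (Fin d) F) =
      ((1 : GL (Fin d) F) : Matrix (Fin d) (Fin d) F) * _
    rw [Units.val_one, Matrix.mul_one, Matrix.one_mul])
  have h1 := congrFun (congrFun hc (⟨0, by omega⟩ : Fin d)) (⟨1, by omega⟩ : Fin d)
  rw [Matrix.single_apply_same, Matrix.smul_apply, Matrix.one_apply_ne (by simp [Fin.ext_iff]), smul_zero] at h1
  exact one_ne_zero h1

end Cfsg.Agent.Helper4.AschTI
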