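import Mathlib
import Cfsg.Prelude.Def_GeometricClasses
import Cfsg.Agent.Helper4.AschFC7H

/-!
# FORM-C7 (helper4), part I: the family shapes in odd characteristic (symplectic, orthogonal)

* `perfect_case_symp_odd`: symplectic `f`, `q` odd: class 7 of `InSymplecticClass` (`f₁` symplectic, `k` odd `≥ 3`,
  `(q, d) ≠ (3, 2)`) or the three-part conclusion.
* `perfect_case_orth_odd`: quadratic `Q`, `q` odd: `polar Q` is a tensor power of a symmetric form, or of a
  symplectic form with `k` even; plus the perfect absolutely irreducible group `P₁` of isometries of `f₁`.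
-/

set_option autoImplicit false
set_option linter.style.haveILetI false
set_option linter.unusedVariables false
set_option linter.unusedSectionVars false

namespace Cfsg.Agent.Helper4.AschTI

open Cfsg Cfsg.Geo Cfsg.Agent.Lead.Asch Cfsg.Agent.Helper4.AschP Cfsg.Agent.Helper9.AschC6
open Cfsg.Agent.Helper5.AschF Cfsg.Agent.Helper5.GramForm Cfsg.Agent.Helper3.Asch
open scoped MatrixGroups Matrix

variable {n : ℕ} {F : Type*} [Field F]

/-- the symmetry type of `G₁` for a bilinear form `f` with `f v w = s * f w v` -/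
theorem gram_type_bilinear {d k : ℕ} (hk : 0 < k) {f : (Fin n → F) → (Fin n → F) → F}
    {e : Fin n ≃ (Fin k → Fin d)} {Pm : GL (Fin n) F} {G₁ : Matrix (Fin d) (Fin d) F} {c : F} (hc : c ≠ 0)
    (hG₁ : G₁ ≠ 0)
    (hform : ∀ x y : (Fin k → Fin d) → F,
      f ((Pm : Matrix (Fin n) (Fin n) F) *ᵥ (x ∘ e)) ((Pm : Matrix (Fin n) (Fin n) F) *ᵥ (y ∘ e)) =
        c * ∑ a, ∑ b, x a * (∏ i, G₁ (a i) (b i)) * (RingEquiv.refl F) (y b))
    {s : F} (hs : s ≠ 0) (hsym : ∀ v w, f v w = s * f w v) :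
    ∃ ε : F, G₁ᵀ = ε • G₁ ∧ ε ^ k = s ∧ ε * ε = 1 := by
  classical
  have hform' : ∀ x y : (Fin k → Fin d) → F,
      f ((Pm : Matrix (Fin n) (Fin n) F) *ᵥ (x ∘ e)) ((Pm : Matrix (Fin n) (Fin n) F) *ᵥ (y ∘ e)) =
        c * formOfGram (RingHom.id F) (ptens (fun _ : Fin k => G₁)) x y := fun x y => hform x y
  apply gram_type_of_transpose hG₁ hk hs
  ext a b
  have h1 := hform' (Pi.single b 1) (Pi.single a 1)
  have h2 := hform' (Pi.single a 1) (Pi.single b 1)
  rw [formOfGram_single] at h1 h2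
  rw [hsym, h2] at h1
  rw [Matrix.transpose_apply, Matrix.smul_apply, smul_eq_mul]
  have h3 : c * (ptens (fun _ : Fin k => G₁) b a - s * ptens (fun _ : Fin k => G₁) a b) = 0 := by
    linear_combination -h1
  rcases mul_eq_zero.1 h3 with h4 | h4
  · exact absurd h4 hc
  · linear_combination h4

theorem fixesForm_formOfGram {d : ℕ} (σ : F →+* F) {G₁ : Matrix (Fin d) (Fin d) F}
    {P₁ : Subgroup (GL (Fin d) F)}
    (h : ∀ u ∈ P₁, (u : Matrix (Fin d) (Fin d) F)ᵀ * G₁ * (u : Matrix (Fin d) (Fin d) F).map σ = G₁) :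
    FixesForm (matrixSet P₁) (formOfGram σ G₁) := by
  rintro s ⟨u, hu, rfl⟩ x y
  exact formOfGram_fixes σ (h u hu) x y

theorem isUnit_det_ne_zero {d : ℕ} (hd : 0 < d) {G₁ : Matrix (Fin d) (Fin d) F} (h : IsUnit G₁.det) :
    G₁ ≠ 0 := by
  rintro rfl
  haveI : Nonempty (Fin d) := ⟨⟨0, hd⟩⟩
  rw [Matrix.det_zero] at h
  exact not_isUnit_zero h

/-- **FORM-C7, symplectic shape, `q` odd**. -/
theorem perfect_case_symp_odd [Fintype F] (hn : 2 ≤ n) (hodd : Odd (Fintype.card F))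
    {f : (Fin n → F) → (Fin n → F) → F} (hf : IsSymplecticForm f) {H N : Subgroup (GL (Fin n) F)}
    (hNH : N ≤ H) (hnz : Nzes H N) (hns : ¬ N ≤ scalars (Fin n) F)
    (hall : ∀ M : Subgroup (GL (Fin n) F), M ≤ H → Nzes H M →
      M ≤ scalars (Fin n) F ∨ ActsAbsolutelyIrreducibly (matrixSet M))
    (hmin : ∀ M : Subgroup (GL (Fin n) F), M ≤ N → Nzes H M → ¬ M ≤ scalars (Fin n) F → M = N)
    (hperf : ⁅N, N⁆ = N) (hfix : FixesForm (matrixSet N) f) :
    (∃ (d k : ℕ) (e : Fin n ≃ (Fin k → Fin d)) (Pm : GL (Fin n) F) (f₁ : (Fin d → F) → (Fin d → F) → F),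
      2 ≤ d ∧ 3 ≤ k ∧ Odd k ∧ ¬ (Fintype.card F = 3 ∧ d = 2) ∧ IsSymplecticForm f₁ ∧
      IsTensorPowerFormStructure id f f₁ e Pm ∧ H ≤ tensorWreathSubgroup d k e Pm) ∨
    (IsSimpleGroup (N ⧸ (scalars (Fin n) F).subgroupOf N) ∧
      ¬ IsMulCommutative (N ⧸ (scalars (Fin n) F).subgroupOf N) ∧
      (∀ h ∈ H, (∀ x ∈ N, h * x * h⁻¹ * x⁻¹ ∈ scalars (Fin n) F) → h ∈ scalars (Fin n) F)) := by
  classical
  have h2 : (2 : F) ≠ 0 := two_ne_zero_of_odd_card hodd
  rcases perfect_case_form hn (IsSesq.of_bilinear hf.bilinear) hf.nondegenerate hNH hnz hns hall hmin hperf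
    (fun x hx u v => hfix _ ⟨x, hx, rfl⟩ u v) with
    ⟨d, k, e, Pm, G₁, c, P₁, hd, hk, hc, hG₁u, hform, hP₁perf, hP₁abs, hP₁inv, hle⟩ | h3
  · left
    have hG₁0 : G₁ ≠ 0 := isUnit_det_ne_zero (by omega) hG₁u
    obtain ⟨ε, hε, hεk, hεε⟩ := gram_type_bilinear (s := -1) (by omega) hc hG₁0 hform
      (neg_ne_zero.2 one_ne_zero) (fun v w => by rw [hf.skew v w]; ring)
    have hε1 : ε = -1 := by
      have h4 : (ε - 1) * (ε + 1) = 0 := by linear_combination hεε
      rcases mul_eq_zero.1 h4 with h5 | h5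
      · exfalso
        have h6 : ε = 1 := by linear_combination h5
        rw [h6, one_pow] at hεk
        apply h2
        linear_combination hεk
      · linear_combination h5
    have hkodd : Odd k := by
      rcases Nat.even_or_odd k with hev | hod
      · exfalso
        rw [hε1, hev.neg_one_pow] at hεk
        apply h2
        linear_combination hεk
      · exact hod
    have hskew : G₁ᵀ = -G₁ := by rw [hε, hε1, neg_one_smul]
    have hk3 : 3 ≤ k := by
      rcases hkodd with ⟨j, hj⟩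
      omega
    refine ⟨d, k, e, Pm, formOfGram id G₁, hd, hk3, hkodd, ?_, isSymplecticForm_formOfGram h2 hG₁u hskew,
      ⟨c, hc, fun x y => ?_⟩, hle⟩
    · rintro ⟨hq3, hd2⟩
      subst hd2
      have := eq_bot_of_perfect_gl2_f3 hq3 P₁ hP₁perf
      rw [this] at hP₁abs
      exact not_absIrr_bot (le_refl 2) hP₁abs
    · rw [hform x y]
      have : gramMatrix (formOfGram id G₁) = G₁ := gramMatrix_formOfGram' (RingHom.id F) G₁
      rw [this]
      rfl
  · exact Or.inr h3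

/-- **FORM-C7, orthogonal shape, `q` odd**. -/
theorem perfect_case_orth_odd [Fintype F] (hn : 2 ≤ n) (hodd : Odd (Fintype.card F))
    {Q : (Fin n → F) → F} (hQ : IsNondegenerateQuadraticForm Q) {H N : Subgroup (GL (Fin n) F)}
    (hNH : N ≤ H) (hnz : Nzes H N) (hns : ¬ N ≤ scalars (Fin n) F)
    (hall : ∀ M : Subgroup (GL (Fin n) F), M ≤ H → Nzes H M →
      M ≤ scalars (Fin n) F ∨ ActsAbsolutelyIrreducibly (matrixSet M))
    (hmin : ∀ M : Subgroup (GL (Fin n) F), M ≤ N → Nzes H M → ¬ M ≤ scalars (Fin n) F → M = N)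
    (hperf : ⁅N, N⁆ = N) (hfix : FixesQuadForm (matrixSet N) Q) :
    (∃ (d k : ℕ) (e : Fin n ≃ (Fin k → Fin d)) (Pm : GL (Fin n) F) (f₁ : (Fin d → F) → (Fin d → F) → F)
        (P₁ : Subgroup (GL (Fin d) F)),
      2 ≤ d ∧ 2 ≤ k ∧ (IsSymmetricForm f₁ ∨ (IsSymplecticForm f₁ ∧ Even k)) ∧
      IsTensorPowerFormStructure id (QuadraticMap.polar Q) f₁ e Pm ∧
      ⁅P₁, P₁⁆ = P₁ ∧ ActsAbsolutelyIrreducibly (matrixSet P₁) ∧ FixesForm (matrixSet P₁) f₁ ∧
      H ≤ tensorWreathSubgroup d k e Pm) ∨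
    (IsSimpleGroup (N ⧸ (scalars (Fin n) F).subgroupOf N) ∧
      ¬ IsMulCommutative (N ⧸ (scalars (Fin n) F).subgroupOf N) ∧
      (∀ h ∈ H, (∀ x ∈ N, h * x * h⁻¹ * x⁻¹ ∈ scalars (Fin n) F) → h ∈ scalars (Fin n) F)) := by
  classical
  have h2 : (2 : F) ≠ 0 := two_ne_zero_of_odd_card hodd
  have hiso : ∀ x ∈ N, ∀ u v, QuadraticMap.polar Q ((x : Matrix (Fin n) (Fin n) F) *ᵥ u)
      ((x : Matrix (Fin n) (Fin n) F) *ᵥ v) = QuadraticMap.polar Q u v := by
    intro x hx u v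
    have hx' := hfix _ ⟨x, hx, rfl⟩
    unfold QuadraticMap.polar
    rw [← Matrix.mulVec_add, hx', hx', hx']
  rcases perfect_case_form hn (IsSesq.of_bilinear hQ.polar_bilinear) hQ.nondegenerate hNH hnz hns hall hmin
    hperf hiso with
    ⟨d, k, e, Pm, G₁, c, P₁, hd, hk, hc, hG₁u, hform, hP₁perf, hP₁abs, hP₁inv, hle⟩ | h3
  · left
    have hG₁0 : G₁ ≠ 0 := isUnit_det_ne_zero (by omega) hG₁u
    obtain ⟨ε, hε, hεk, hεε⟩ := gram_type_bilinear (s := 1) (by omega) hc hG₁0 hform one_ne_zero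
      (fun v w => by rw [one_mul, QuadraticMap.polar_comm])
    have hP₁fix : FixesForm (matrixSet P₁) (formOfGram id G₁) :=
      fixesForm_formOfGram (RingHom.id F) hP₁inv
    have hstr : IsTensorPowerFormStructure id (QuadraticMap.polar Q) (formOfGram id G₁) e Pm := by
      refine ⟨c, hc, fun x y => ?_⟩
      rw [hform x y]
      have : gramMatrix (formOfGram id G₁) = G₁ := gramMatrix_formOfGram' (RingHom.id F) G₁
      rw [this]
      rfl
    have h4 : (ε - 1) * (ε + 1) = 0 := by linear_combination hεε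
    rcases mul_eq_zero.1 h4 with h5 | h5
    · have h6 : ε = 1 := by linear_combination h5
      have hsymm : G₁ᵀ = G₁ := by rw [hε, h6, one_smul]
      exact ⟨d, k, e, Pm, formOfGram id G₁, P₁, hd, hk, Or.inl (isSymmetricForm_formOfGram hG₁u hsymm),
        hstr, hP₁perf, hP₁abs, hP₁fix, hle⟩
    · have h6 : ε = -1 := by linear_combination h5
      have hskew : G₁ᵀ = -G₁ := by rw [hε, h6, neg_one_smul]
      have hkev : Even k := by
        rcases Nat.even_or_odd k with hev | hod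
        · exact hev
        · exfalso
          rw [h6, hod.neg_one_pow] at hεk
          apply h2
          linear_combination -hεk
      exact ⟨d, k, e, Pm, formOfGram id G₁, P₁, hd, hk,
        Or.inr ⟨isSymplecticForm_formOfGram h2 hG₁u hskew, hkev⟩, hstr, hP₁perf, hP₁abs, hP₁fix, hle⟩
  · exact Or.inr h3

end Cfsg.Agent.Helper4.AschTI
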