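import Mathlib
import Cfsg.Prelude.Def_GeometricClasses
import Cfsg.Agent.Helper1.AschSpBase
import Cfsg.Agent.Helper8.AschSpEven
import Cfsg.Agent.Helper4.AschFC7I

/-!
# FORM-C7 (helper4), part J: the symplectic shape in characteristic 2

`perfect_case_symp_even`: `q` even, `f` symplectic: in the tensor-induced alternative `N` fixes the quadratic form
`Q = c · x ↦ xᵀ (β ⊗ G₁ ⊗ ⋯ ⊗ G₁) x` (`β` the upper half of `G₁`), whose polar form is `f`; helper8's `quadEven`
then gives `QuadExit f H`.
-/

set_option autoImplicit false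
set_option linter.style.haveILetI false
set_option linter.unusedVariables false
set_option linter.unusedSectionVars false

namespace Cfsg.Agent.Helper4.AschTI

open Cfsg Cfsg.Geo Cfsg.Agent.Lead.Asch Cfsg.Agent.Helper4.AschP Cfsg.Agent.Helper9.AschC6
open Cfsg.Agent.Helper5.AschF Cfsg.Agent.Helper5.GramForm Cfsg.Agent.Helper3.Asch
open Cfsg.Agent.Helper1.AschSp
open scoped MatrixGroups Matrix

variable {n : ℕ} {F : Type*} [Field F] {d k : ℕ}

/-! ### more on `bform` and `ptens` -/

theorem bform_eq_sum {ι : Type} [Fintype ι] [DecidableEq ι] (M : Matrix ι ι F) (u v : ι → F) :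
    bform M u v = ∑ a, ∑ b, u a * M a b * v b := by
  rw [bform_apply, Fintype.sum_prod_type]

theorem bform_add_mat {ι : Type} [Fintype ι] [DecidableEq ι] (M M' : Matrix ι ι F) (u v : ι → F) :
    bform (M + M') u v = bform M u v + bform M' u v := by
  unfold bform
  rw [Matrix.add_mulVec, dotProduct_add]

theorem ptens_update_apply (A : Fin k → Matrix (Fin d) (Fin d) F) (i : Fin k) (B : Matrix (Fin d) (Fin d) F)
    (x y : Fin k → Fin d) :
    ptens (Function.update A i B) x y = B (x i) (y i) * ∏ j ∈ Finset.univ.erase i, A j (x j) (y j) := by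
  classical
  rw [ptens_apply, ← Finset.mul_prod_erase Finset.univ _ (Finset.mem_univ i), Function.update_self]
  congr 1
  refine Finset.prod_congr rfl (fun j hj => ?_)
  rw [Function.update_of_ne (Finset.ne_of_mem_erase hj)]

theorem ptens_update_add (A : Fin k → Matrix (Fin d) (Fin d) F) (i : Fin k) (B C : Matrix (Fin d) (Fin d) F) :
    ptens (Function.update A i (B + C)) = ptens (Function.update A i B) + ptens (Function.update A i C) := by
  ext x y
  rw [Matrix.add_apply, ptens_update_apply, ptens_update_apply, ptens_update_apply, Matrix.add_apply]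
  ring

theorem ptens_update_neg (A : Fin k → Matrix (Fin d) (Fin d) F) (i : Fin k) (B : Matrix (Fin d) (Fin d) F) :
    ptens (Function.update A i (-B)) = - ptens (Function.update A i B) := by
  ext x y
  rw [Matrix.neg_apply, ptens_update_apply, ptens_update_apply, Matrix.neg_apply]
  ring

/-- the strictly upper triangular half -/
def uhalf (B : Matrix (Fin d) (Fin d) F) : Matrix (Fin d) (Fin d) F :=
  fun i j => if i < j then B i j else 0

theorem uhalf_add_transpose {B : Matrix (Fin d) (Fin d) F} (hB : Bᵀ = B) (hdiag : ∀ i, B i i = 0) :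
    uhalf B + (uhalf B)ᵀ = B := by
  ext i j
  rw [Matrix.add_apply, Matrix.transpose_apply]
  unfold uhalf
  rcases lt_trichotomy i j with h | h | h
  · rw [if_pos h, if_neg (not_lt.mpr h.le), add_zero]
  · subst h
    rw [if_neg (lt_irrefl _), add_zero, hdiag]
  · rw [if_neg (not_lt.mpr h.le), if_pos h, zero_add]
    have := congrFun (congrFun hB i) j
    rwa [Matrix.transpose_apply] at this

/-- the Gram matrix `G₁ ⊗ ⋯ ⊗ β ⊗ ⋯ ⊗ G₁` of the quadratic form -/
def halfGram (k : ℕ) (G₁ β : Matrix (Fin d) (Fin d) F) (i₀ : Fin k) :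
    Matrix (Fin k → Fin d) (Fin k → Fin d) F :=
  ptens (Function.update (fun _ => G₁) i₀ β)

theorem halfGram_add_transpose {G₁ β : Matrix (Fin d) (Fin d) F} (hsymm : G₁ᵀ = G₁) (hβ : β + βᵀ = G₁)
    (i₀ : Fin k) :
    halfGram k G₁ β i₀ + (halfGram k G₁ β i₀)ᵀ = ptens (fun _ : Fin k => G₁) := by
  classical
  unfold halfGram
  rw [ptens_transpose]
  have h1 : (fun i => (Function.update (fun _ : Fin k => G₁) i₀ β i)ᵀ) =
      Function.update (fun _ : Fin k => G₁) i₀ βᵀ := by
    funext i
    by_cases hi : i = i₀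
    · subst hi
      rw [Function.update_self, Function.update_self]
    · rw [Function.update_of_ne hi, Function.update_of_ne hi, hsymm]
  rw [h1, ← ptens_update_add, hβ, Function.update_eq_self]

/-- **invariance of the half form** under a factor isometry -/
theorem bform_halfGram_invariant (hk : 2 ≤ k) {G₁ β : Matrix (Fin d) (Fin d) F} (hsymm : G₁ᵀ = G₁)
    (hdiag : ∀ a, G₁ a a = 0) (hβ : β + βᵀ = G₁) (i₀ i : Fin k) (m : Matrix (Fin d) (Fin d) F)
    (hm : mᵀ * G₁ * m = G₁) (u : (Fin k → Fin d) → F) :
    bform (halfGram k G₁ β i₀) (stdEmb d k i m *ᵥ u) (stdEmb d k i m *ᵥ u) =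
      bform (halfGram k G₁ β i₀) u u := by
  classical
  rw [bform_mulVec, stdEmb_transpose, stdEmb_eq_ptens, stdEmb_eq_ptens]
  unfold halfGram
  rw [ptens_mul, ptens_mul]
  by_cases hi : i = i₀
  · subst hi
    set δ : Matrix (Fin d) (Fin d) F := mᵀ * β * m - β with hδ
    have h1 : (fun j => Function.update (fun _ : Fin k => (1 : Matrix (Fin d) (Fin d) F)) i mᵀ j *
        Function.update (fun _ : Fin k => G₁) i β j *
        Function.update (fun _ : Fin k => (1 : Matrix (Fin d) (Fin d) F)) i m j) =
        Function.update (fun _ : Fin k => G₁) i (β + δ) := by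
      funext j
      by_cases hj : j = i
      · subst hj
        rw [Function.update_self, Function.update_self, Function.update_self, Function.update_self, hδ]
        abel
      · rw [Function.update_of_ne hj, Function.update_of_ne hj, Function.update_of_ne hj,
          Function.update_of_ne hj, Matrix.one_mul, Matrix.mul_one]
    rw [h1, ptens_update_add, bform_add_mat]
    have h2 : bform (ptens (Function.update (fun _ : Fin k => G₁) i δ)) u u = 0 := by
      apply bform_self_eq_zero
      · rw [ptens_transpose]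
        have h3 : (fun j => (Function.update (fun _ : Fin k => G₁) i δ j)ᵀ) =
            Function.update (fun _ : Fin k => G₁) i (-δ) := by
          funext j
          by_cases hj : j = i
          · subst hj
            rw [Function.update_self, Function.update_self]
            have e1 : δᵀ = mᵀ * βᵀ * m - βᵀ := by
              rw [hδ, Matrix.transpose_sub, Matrix.transpose_mul, Matrix.transpose_mul,
                Matrix.transpose_transpose, Matrix.mul_assoc]
            have e2 : δ + δᵀ = 0 := by
              rw [e1, hδ]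
              calc mᵀ * β * m - β + (mᵀ * βᵀ * m - βᵀ) = mᵀ * (β + βᵀ) * m - (β + βᵀ) := by
                    rw [Matrix.mul_add, Matrix.add_mul]
                    abel
                _ = 0 := by rw [hβ, hm, sub_self]
            exact eq_neg_of_add_eq_zero_right e2
          · rw [Function.update_of_ne hj, Function.update_of_ne hj, hsymm]
        rw [h3, ptens_update_neg]
      · intro x
        rw [ptens_update_apply]
        obtain ⟨j, hj⟩ : ∃ j : Fin k, j ≠ i := by
          by_cases h0 : i = ⟨0, by omega⟩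
          · exact ⟨⟨1, by omega⟩, by rw [h0]; simp [Fin.ext_iff]⟩
          · exact ⟨⟨0, by omega⟩, fun h => h0 h.symm⟩
        rw [Finset.prod_eq_zero (Finset.mem_erase.2 ⟨hj, Finset.mem_univ j⟩) (hdiag (x j)), mul_zero]
    rw [h2, add_zero]
  · have h1 : (fun j => Function.update (fun _ : Fin k => (1 : Matrix (Fin d) (Fin d) F)) i mᵀ j *
        Function.update (fun _ : Fin k => G₁) i₀ β j *
        Function.update (fun _ : Fin k => (1 : Matrix (Fin d) (Fin d) F)) i m j) =
        Function.update (fun _ : Fin k => G₁) i₀ β := by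
      funext j
      by_cases hj : j = i
      · subst hj
        rw [Function.update_self, Function.update_self, Function.update_of_ne hi, hm]
      · rw [Function.update_of_ne hj, Function.update_of_ne hj, Matrix.one_mul, Matrix.mul_one]
    rw [h1]

theorem tcoord_frameL_mulVec (e : Fin n ≃ (Fin k → Fin d)) (Pm : GL (Fin n) F) (i : Fin k)
    (m : Matrix (Fin d) (Fin d) F) (v : Fin n → F) :
    tcoord e Pm (frameL e Pm i m *ᵥ v) = stdEmb d k i m *ᵥ tcoord e Pm v := by
  have h1 : v = (Pm : Matrix (Fin n) (Fin n) F) *ᵥ (tcoord e Pm v ∘ e) :=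
    ((tcoord e Pm).left_inv v).symm
  conv_lhs => rw [h1]
  rw [frameL_mulVec]
  exact (tcoord e Pm).right_inv _

/-- **FORM-C7, symplectic shape, `q` even**. -/
theorem perfect_case_symp_even [Fintype F] (hn : 2 ≤ n) (hq : ¬ Odd (Fintype.card F))
    {f : (Fin n → F) → (Fin n → F) → F} (hf : IsSymplecticForm f) {H N : Subgroup (GL (Fin n) F)}
    (hNH : N ≤ H) (hnz : Nzes H N) (hns : ¬ N ≤ scalars (Fin n) F)
    (hall : ∀ M : Subgroup (GL (Fin n) F), M ≤ H → Nzes H M →
      M ≤ scalars (Fin n) F ∨ ActsAbsolutelyIrreducibly (matrixSet M))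
    (hmin : ∀ M : Subgroup (GL (Fin n) F), M ≤ N → Nzes H M → ¬ M ≤ scalars (Fin n) F → M = N)
    (hperf : ⁅N, N⁆ = N) (hfix : FixesForm (matrixSet N) f) :
    QuadExit f H ∨
    (IsSimpleGroup (N ⧸ (scalars (Fin n) F).subgroupOf N) ∧
      ¬ IsMulCommutative (N ⧸ (scalars (Fin n) F).subgroupOf N) ∧
      (∀ h ∈ H, (∀ x ∈ N, h * x * h⁻¹ * x⁻¹ ∈ scalars (Fin n) F) → h ∈ scalars (Fin n) F)) := by
  classical
  have h2 : (2 : F) = 0 := Cfsg.Agent.Helper8.SpEven.two_eq_zero_of_not_odd_card hq
  have hneg : ∀ a : F, -a = a := by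
    intro a
    linear_combination (-a) * h2
  rcases perfect_case_form' hn (IsSesq.of_bilinear hf.bilinear) hf.nondegenerate hNH hnz hns hall hmin hperf
    (fun x hx u v => hfix _ ⟨x, hx, rfl⟩ u v) with
    ⟨d, k, e, Pm, G₁, c, P₁, hd, hk, hc, hG₁u, hform, hP₁perf, hP₁abs, hP₁inv, hle, hgen⟩ | h3
  swap
  · exact Or.inr h3
  left
  have hG₁0 : G₁ ≠ 0 := isUnit_det_ne_zero (by omega) hG₁u
  -- `G₁` is symmetric
  obtain ⟨ε, hε, hεk, hεε⟩ := gram_type_bilinear (s := 1) (by omega) hc hG₁0 hform one_ne_zero
    (fun v w => by rw [one_mul, hf.skew v w, hneg])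
  have hε1 : ε = 1 := by
    have h4 : (ε - 1) * (ε - 1) = 0 := by linear_combination hεε + (1 - ε) * h2
    rcases mul_eq_zero.1 h4 with h5 | h5 <;> linear_combination h5
  have hsymm : G₁ᵀ = G₁ := by rw [hε, hε1, one_smul]
  -- the form in coordinates
  have hform' : ∀ x y : (Fin k → Fin d) → F,
      f ((Pm : Matrix (Fin n) (Fin n) F) *ᵥ (x ∘ e)) ((Pm : Matrix (Fin n) (Fin n) F) *ᵥ (y ∘ e)) =
        c * bform (ptens (fun _ : Fin k => G₁)) x y := by
    intro x y
    rw [hform x y, bform_eq_sum]
    rfl
  -- `G₁` has zero diagonal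
  have hdiag : ∀ a, G₁ a a = 0 := by
    intro a
    have h4 := hform' (Pi.single (fun _ => a) 1) (Pi.single (fun _ => a) 1)
    rw [hf.alternating] at h4
    have h5 : bform (ptens (fun _ : Fin k => G₁)) (Pi.single (fun _ => a) 1) (Pi.single (fun _ => a) 1) =
        G₁ a a ^ k := by
      unfold bform
      rw [single_one_dotProduct, Matrix.mulVec_single_one]
      exact ptens_const_apply_const G₁ a a
    rw [h5] at h4
    rcases mul_eq_zero.1 h4.symm with h6 | h6
    · exact absurd h6 hc
    · exact pow_eq_zero_iff (by omega) |>.1 h6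
  have hβ := uhalf_add_transpose hsymm hdiag
  let i₀ : Fin k := ⟨0, by omega⟩
  set M : Matrix (Fin k → Fin d) (Fin k → Fin d) F := halfGram k G₁ (uhalf G₁) i₀ with hM
  let Q : (Fin n → F) → F := fun v => c * bform M (tcoord e Pm v) (tcoord e Pm v)
  have hMb := bform_isBilinear M
  -- the polar form of `Q` is `f`
  have hpolar : ∀ u v, QuadraticMap.polar Q u v = f u v := by
    intro u v
    have h4 : f u v = c * bform (ptens (fun _ : Fin k => G₁)) (tcoord e Pm u) (tcoord e Pm v) := by
      rw [← hform']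
      have e1 : ∀ w : Fin n → F, (Pm : Matrix (Fin n) (Fin n) F) *ᵥ (tcoord e Pm w ∘ e) = w :=
        fun w => (tcoord e Pm).left_inv w
      rw [e1, e1]
    rw [h4, ← halfGram_add_transpose hsymm hβ i₀, bform_add_mat, ← bform_swap]
    show c * bform M (tcoord e Pm (u + v)) (tcoord e Pm (u + v)) - c * bform M (tcoord e Pm u) (tcoord e Pm u) -
      c * bform M (tcoord e Pm v) (tcoord e Pm v) = _
    rw [map_add, hMb.add_left, hMb.add_right, hMb.add_right]
    ring
  have hpolar' : QuadraticMap.polar Q = f := by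
    funext u v
    exact hpolar u v
  have hQ : IsNondegenerateQuadraticForm Q := by
    refine ⟨fun a v => ?_, ?_, ?_⟩
    · show c * bform M (tcoord e Pm (a • v)) (tcoord e Pm (a • v)) = a ^ 2 * (c * bform M _ _)
      rw [map_smul, hMb.smul_left, hMb.smul_right]
      ring
    · rw [hpolar']
      exact hf.bilinear
    · rw [hpolar']
      exact hf.nondegenerate
  -- `N` fixes `Q`
  let fixQ : Subgroup (GL (Fin n) F) :=
    { carrier := {g | ∀ v, Q ((g : Matrix (Fin n) (Fin n) F) *ᵥ v) = Q v}
      mul_mem' := fun {a b} ha hb v => by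
        rw [Units.val_mul, ← Matrix.mulVec_mulVec, ha, hb]
      one_mem' := fun v => by rw [Units.val_one, Matrix.one_mulVec]
      inv_mem' := fun {a} ha v => by
        have := ha (((a⁻¹ : GL (Fin n) F) : Matrix (Fin n) (Fin n) F) *ᵥ v)
        rw [Matrix.mulVec_mulVec, ← Units.val_mul, mul_inv_cancel, Units.val_one, Matrix.one_mulVec] at this
        exact this.symm }
  have hNfix : N ≤ fixQ := by
    refine hgen.trans ?_
    rw [Subgroup.closure_le]
    rintro x ⟨i, m, hxm, hm⟩ v
    have hm' : mᵀ * G₁ * m = G₁ := by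
      have e1 : m.map (RingEquiv.refl F) = m := by
        ext a b
        rfl
      rw [e1] at hm
      exact hm
    show c * bform M (tcoord e Pm ((x : Matrix (Fin n) (Fin n) F) *ᵥ v))
      (tcoord e Pm ((x : Matrix (Fin n) (Fin n) F) *ᵥ v)) = c * bform M (tcoord e Pm v) (tcoord e Pm v)
    rw [hxm, tcoord_frameL_mulVec, hM, bform_halfGram_invariant hk hsymm hdiag hβ i₀ i m hm']
  have hNabs : ActsAbsolutelyIrreducibly (matrixSet N) := (hall N hNH hnz).resolve_left hns
  exact Cfsg.Agent.Helper8.AschSp.quadEven hq f hf hfix hnz hNabs Q hQ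
    (by
      rintro s ⟨x, hx, rfl⟩ v
      exact hNfix hx v)

end Cfsg.Agent.Helper4.AschTI
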