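import Mathlib
import Cfsg.Prelude.Def_GeometricClasses
import Cfsg.Agent.Lead.AschBase
import Cfsg.Agent.Helper5.AschCl3
import Cfsg.Agent.Helper4.AschPerfectB

/-!
# ASCH-PRIME piece P8 (helper4): `perfect_case`, exact stub of `notes/lead_asch_stubs.lean.txt`.
-/

set_option autoImplicit false

namespace Cfsg.Agent.Helper4.AschP

open Cfsg Cfsg.Geo Cfsg.Agent.Lead.Asch
open scoped MatrixGroups Matrix

variable {n : ℕ} {F : Type*} [Field F]

/-- **P8**: the perfect case. -/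
theorem perfect_case [Fintype F] (hn : n.Prime) {H N : Subgroup (GL (Fin n) F)}
    (hNH : N ≤ H) (hnz : Nzes H N) (hns : ¬ N ≤ scalars (Fin n) F)
    (hall : ∀ M : Subgroup (GL (Fin n) F), M ≤ H → Nzes H M →
      M ≤ scalars (Fin n) F ∨ ActsAbsolutelyIrreducibly (matrixSet M))
    (hmin : ∀ M : Subgroup (GL (Fin n) F), M ≤ N → Nzes H M → ¬ M ≤ scalars (Fin n) F → M = N)
    (hperf : ⁅N, N⁆ = N) :
    IsSimpleGroup (N ⧸ (scalars (Fin n) F).subgroupOf N) ∧
    ¬ IsMulCommutative (N ⧸ (scalars (Fin n) F).subgroupOf N) ∧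
    (∀ h ∈ H, (∀ x ∈ N, h * x * h⁻¹ * x⁻¹ ∈ scalars (Fin n) F) → h ∈ scalars (Fin n) F) :=
  perfect_case_of_clifford
    (fun hH hNH hnz => Cfsg.Agent.Helper5.Asch.clifford_prime' hn hH hNH hnz)
    hn hNH hnz hns hall hmin hperf

end Cfsg.Agent.Helper4.AschP
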