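import Mathlib

set_option autoImplicit false

namespace Cfsg.Agent.Helper4

/-- In a finite nilpotent group every subgroup is subnormal. -/
theorem isSubnormal_of_isNilpotent {G : Type*} [Group G] [Finite G] [Group.IsNilpotent G]
    (H : Subgroup G) : H.IsSubnormal := by
  obtain ⟨n, hn⟩ : ∃ n, H.index = n := ⟨_, rfl⟩
  induction n using Nat.strong_induction_on generalizing H with
  | _ n ih =>
    by_cases hH : H = ⊤
    · rw [hH]; exact Subgroup.IsSubnormal.top
    · have hlt : H < Subgroup.normalizer (H : Set G) :=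
        Group.normalizerCondition_of_isNilpotent H (lt_top_iff_ne_top.2 hH)
      have hidx : (Subgroup.normalizer (H : Set G)).index < n := by
        rw [← hn]; exact Subgroup.index_strictAnti hlt
      exact Subgroup.IsSubnormal.step H _ hlt.le (ih _ hidx _ rfl) Subgroup.normal_in_normalizer

/-- If a `p`-subgroup `T` contains `A` and is normalized by `g`, then `A` is subnormal in
`⟨A, g⟩`. -/
theorem isSubnormal_subgroupOf_sup_zpowers {G : Type*} [Group G] [Finite G] {p : ℕ}
    [Fact p.Prime] (T A : Subgroup G) (hT : IsPGroup p T) (hAT : A ≤ T) (g : G)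
    (hg : g ∈ Subgroup.normalizer (T : Set G)) :
    (A.subgroupOf (A ⊔ Subgroup.zpowers g)).IsSubnormal := by
  obtain ⟨H, hH⟩ : ∃ H : Subgroup G, H = A ⊔ Subgroup.zpowers g := ⟨_, rfl⟩
  rw [← hH]
  have hHN : H ≤ Subgroup.normalizer (T : Set G) := by
    rw [hH]
    apply sup_le (hAT.trans Subgroup.le_normalizer)
    rw [Subgroup.zpowers_le]
    exact hg
  have hTn : (T.subgroupOf H).Normal := by
    constructor
    intro x hx h
    rw [Subgroup.mem_subgroupOf] at hx ⊢
    have := (Subgroup.mem_normalizer_iff.1 (hHN h.2) (x : G)).1 hx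
    simpa using this
  have hTp : IsPGroup p (T.subgroupOf H) := hT.comap_subtype
  have hnil : Group.IsNilpotent (T.subgroupOf H) := hTp.isNilpotent
  have hle : A.subgroupOf H ≤ T.subgroupOf H := by
    intro x hx
    rw [Subgroup.mem_subgroupOf] at hx ⊢
    exact hAT hx
  exact Subgroup.IsSubnormal.trans hle (isSubnormal_of_isNilpotent _) hTn.isSubnormal

end Cfsg.Agent.Helper4
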