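import Mathlib
import Cfsg.Prelude.Def_Solvable
import Cfsg.Agent.Helper1.Cores
import Cfsg.Agent.Helper4.SubnormalNilp

set_option autoImplicit false

/-!
Subnormal `p`-subgroups and `p`-radical subgroups: a `p`-subgroup `A` is subnormal in `⟨A, g⟩` iff
`g` normalizes some `p`-radical subgroup `R ≥ A` (`R = O_p(N_G(R))`).
-/

namespace Cfsg.Agent.Helper4.SubnormalPRad

variable {G : Type*} [Group G]

theorem pCore_char (p : ℕ) (X : Type*) [Group X] : (Cfsg.pCore p X).Characteristic := by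
  rw [Subgroup.characteristic_iff_map_le]
  intro φ
  unfold Cfsg.pCore
  rw [Subgroup.map_le_iff_le_comap]
  apply sSup_le
  intro N hN
  rw [← Subgroup.map_le_iff_le_comap]
  apply le_sSup
  exact ⟨hN.1.map φ.toMonoidHom φ.surjective, hN.2.map _⟩

theorem mem_normalizer_of_conj_mem' [Finite G] {H : Subgroup G} {g : G}
    (h1 : ∀ x ∈ H, g * x * g⁻¹ ∈ H) : g ∈ Subgroup.normalizer (H : Set G) := by
  have hinj : Function.Injective (fun x : H => (⟨g * x * g⁻¹, h1 x x.2⟩ : H)) := by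
    intro x y hxy
    have h2 : g * (x : G) * g⁻¹ = g * (y : G) * g⁻¹ := congrArg Subtype.val hxy
    have h3 : (x : G) = y := by simpa using h2
    exact Subtype.ext h3
  have hsurj := Finite.surjective_of_injective hinj
  rw [Subgroup.mem_normalizer_iff]
  intro x
  refine ⟨h1 x, fun hx => ?_⟩
  obtain ⟨y, hy⟩ := hsurj ⟨g * x * g⁻¹, hx⟩
  have h2 : g * (y : G) * g⁻¹ = g * x * g⁻¹ := congrArg Subtype.val hy
  have h3 : (y : G) = x := by simpa using h2
  rw [← h3]
  exact y.2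

/-- `O_p(L)` as a subgroup of the ambient group. -/
def coreOf (p : ℕ) (L : Subgroup G) : Subgroup G := (Cfsg.pCore p ↥L).map L.subtype

theorem coreOf_le (p : ℕ) (L : Subgroup G) : coreOf p L ≤ L := Subgroup.map_subtype_le _

theorem coreOf_isPGroup (p : ℕ) [Fact p.Prime] (L : Subgroup G) : IsPGroup p (coreOf p L) :=
  (Cfsg.Agent.Helper1.pCore_isPGroup p).map _

theorem le_normalizer_coreOf (p : ℕ) (L : Subgroup G) :
    L ≤ Subgroup.normalizer ((coreOf p L : Subgroup G) : Set G) := by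
  have := pCore_char p ↥L
  have hn : (Cfsg.pCore p ↥L).Normal := Subgroup.normal_of_characteristic _
  have h1 := Subgroup.le_normalizer_map (H := Cfsg.pCore p ↥L) L.subtype
  rw [Subgroup.normalizer_eq_top (H := Cfsg.pCore p ↥L), ← MonoidHom.range_eq_map,
    Subgroup.range_subtype] at h1
  exact h1

theorem le_coreOf {p : ℕ} {L R : Subgroup G} (hRL : R ≤ L) (hRp : IsPGroup p R)
    (hn : L ≤ Subgroup.normalizer (R : Set G)) : R ≤ coreOf p L := by
  have hnorm : (R.subgroupOf L).Normal := by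
    constructor
    intro x hx y
    rw [Subgroup.mem_subgroupOf] at hx ⊢
    have := (Subgroup.mem_normalizer_iff.1 (hn y.2) (x : G)).1 hx
    simpa using this
  have hp : IsPGroup p (R.subgroupOf L) := hRp.comap_subtype
  have hle := Cfsg.Agent.Helper1.le_pCore hnorm hp
  intro r hr
  exact ⟨⟨r, hRL hr⟩, hle (Subgroup.mem_subgroupOf.2 hr), rfl⟩

/-- Conjugation by an element normalizing `H`, as an automorphism of `H`. -/
def conjAut {H : Subgroup G} (n : G) (h1 : ∀ h ∈ H, n * h * n⁻¹ ∈ H)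
    (h2 : ∀ h ∈ H, n⁻¹ * h * n ∈ H) : ↥H ≃* ↥H where
  toFun h := ⟨n * h.1 * n⁻¹, h1 h.1 h.2⟩
  invFun h := ⟨n⁻¹ * h.1 * n, h2 h.1 h.2⟩
  left_inv h := by ext; simp [mul_assoc]
  right_inv h := by ext; simp [mul_assoc]
  map_mul' a b := by ext; simp [mul_assoc]

theorem conj_mem_coreOf {p : ℕ} {H : Subgroup G} (n : G) (h1 : ∀ h ∈ H, n * h * n⁻¹ ∈ H)
    (h2 : ∀ h ∈ H, n⁻¹ * h * n ∈ H) {x : G} (hx : x ∈ coreOf p H) :
    n * x * n⁻¹ ∈ coreOf p H := by
  obtain ⟨c, hc, rfl⟩ := hx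
  have hchar := pCore_char p ↥H
  have hle := (Subgroup.characteristic_iff_map_le.1 hchar) (conjAut n h1 h2)
  have hmem : (conjAut n h1 h2) c ∈ Cfsg.pCore p ↥H := hle ⟨c, hc, rfl⟩
  exact ⟨_, hmem, rfl⟩

theorem coreOf_le_pCore_of_isSubnormal {X : Type*} [Group X] (p : ℕ) [Fact p.Prime]
    {N : Subgroup X} (hN : N.IsSubnormal) : coreOf p N ≤ Cfsg.pCore p X := by
  induction hN with
  | top =>
    have := pCore_char p ↥(⊤ : Subgroup X)
    have hn : (Cfsg.pCore p ↥(⊤ : Subgroup X)).Normal := Subgroup.normal_of_characteristic _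
    have hn' : ((Cfsg.pCore p ↥(⊤ : Subgroup X)).map (⊤ : Subgroup X).subtype).Normal :=
      hn.map _ (fun x => ⟨⟨x, Subgroup.mem_top x⟩, rfl⟩)
    exact Cfsg.Agent.Helper1.le_pCore hn' (coreOf_isPGroup p ⊤)
  | step H N h_le hSubn hN ih =>
    refine le_trans ?_ ih
    apply le_coreOf ((coreOf_le p H).trans h_le) (coreOf_isPGroup p H)
    intro n hn
    have h1 : ∀ h ∈ H, n * h * n⁻¹ ∈ H := by
      intro h hh
      have := hN.conj_mem ⟨h, h_le hh⟩ (Subgroup.mem_subgroupOf.2 hh) ⟨n, hn⟩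
      rw [Subgroup.mem_subgroupOf] at this
      simpa using this
    have h2 : ∀ h ∈ H, n⁻¹ * h * n ∈ H := by
      intro h hh
      have := hN.conj_mem ⟨h, h_le hh⟩ (Subgroup.mem_subgroupOf.2 hh) (⟨n, hn⟩⁻¹)
      rw [Subgroup.mem_subgroupOf] at this
      simpa using this
    rw [Subgroup.mem_normalizer_iff]
    intro x
    constructor
    · intro hx
      exact conj_mem_coreOf n h1 h2 hx
    · intro hx
      have h1' : ∀ h ∈ H, n⁻¹ * h * n⁻¹⁻¹ ∈ H := by
        intro h hh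
        simpa using h2 h hh
      have h2' : ∀ h ∈ H, n⁻¹⁻¹ * h * n⁻¹ ∈ H := by
        intro h hh
        simpa using h1 h hh
      have := conj_mem_coreOf (p := p) n⁻¹ h1' h2' hx
      have e : n⁻¹ * (n * x * n⁻¹) * n⁻¹⁻¹ = x := by group
      rwa [e] at this

theorem le_pCore_of_isSubnormal {X : Type*} [Group X] (p : ℕ) [Fact p.Prime] {A : Subgroup X}
    (hA : A.IsSubnormal) (hp : IsPGroup p A) : A ≤ Cfsg.pCore p X := by
  refine le_trans ?_ (coreOf_le_pCore_of_isSubnormal p hA)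
  have htop : (⊤ : Subgroup ↥A) ≤ Cfsg.pCore p ↥A :=
    Cfsg.Agent.Helper1.le_pCore inferInstance (hp.to_subgroup ⊤)
  intro a ha
  exact ⟨⟨a, ha⟩, htop (Subgroup.mem_top _), rfl⟩

theorem exists_radical_ge [Finite G] (p : ℕ) [Fact p.Prime] (R₀ : Subgroup G)
    (hR₀ : IsPGroup p R₀) :
    ∃ R : Subgroup G, R₀ ≤ R ∧ coreOf p (Subgroup.normalizer (R : Set G)) = R ∧
      Subgroup.normalizer (R₀ : Set G) ≤ Subgroup.normalizer (R : Set G) := by
  obtain ⟨n, hn⟩ : ∃ n, R₀.index = n := ⟨_, rfl⟩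
  induction n using Nat.strong_induction_on generalizing R₀ with
  | _ n ih =>
    have hle : R₀ ≤ coreOf p (Subgroup.normalizer (R₀ : Set G)) :=
      le_coreOf Subgroup.le_normalizer hR₀ le_rfl
    by_cases heq : coreOf p (Subgroup.normalizer (R₀ : Set G)) = R₀
    · exact ⟨R₀, le_rfl, heq, le_rfl⟩
    · have hlt : R₀ < coreOf p (Subgroup.normalizer (R₀ : Set G)) :=
        lt_of_le_of_ne hle (Ne.symm heq)
      have hidx : (coreOf p (Subgroup.normalizer (R₀ : Set G))).index < n := by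
        rw [← hn]; exact Subgroup.index_strictAnti hlt
      obtain ⟨R, hR1, hR2, hR3⟩ := ih _ hidx _ (coreOf_isPGroup p _) rfl
      exact ⟨R, hle.trans hR1, hR2, (le_normalizer_coreOf p _).trans hR3⟩

/-- A `p`-radical subgroup is the intersection of the Sylow `p`-subgroups containing it. -/
theorem mem_of_forall_sylow [Finite G] (p : ℕ) [Fact p.Prime] (R : Subgroup G)
    (hrad : coreOf p (Subgroup.normalizer (R : Set G)) = R) (x : G)
    (hx : ∀ Q : Sylow p G, R ≤ (Q : Subgroup G) → x ∈ (Q : Subgroup G)) : x ∈ R := by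
  have hRp : IsPGroup p R := by
    have := coreOf_isPGroup p (Subgroup.normalizer (R : Set G))
    rwa [hrad] at this
  obtain ⟨Q₀, hQ₀⟩ := hRp.exists_le_sylow
  obtain ⟨D, hD⟩ : ∃ D : Subgroup G,
      D = ⨅ Q : {Q : Sylow p G // R ≤ (Q : Subgroup G)}, ((Q : Sylow p G) : Subgroup G) :=
    ⟨_, rfl⟩
  have hRD : R ≤ D := by rw [hD]; exact le_iInf fun Q => Q.2
  have hDQ : ∀ Q : Sylow p G, R ≤ (Q : Subgroup G) → D ≤ Q := fun Q hQ => by
    rw [hD]
    exact iInf_le (fun Q : {Q : Sylow p G // R ≤ (Q : Subgroup G)} =>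
      ((Q : Sylow p G) : Subgroup G)) ⟨Q, hQ⟩
  have hxD : x ∈ D := by
    rw [hD, Subgroup.mem_iInf]; exact fun Q => hx Q.1 Q.2
  have hDp : IsPGroup p D := Q₀.2.to_le (hDQ Q₀ hQ₀)
  suffices hDR : D ≤ R from hDR hxD
  by_contra hne
  have hlt : R.subgroupOf D < ⊤ := by
    rw [lt_top_iff_ne_top]
    intro htop
    exact hne (Subgroup.subgroupOf_eq_top.1 htop)
  have hnil : Group.IsNilpotent ↥D := hDp.isNilpotent
  have hnc := Group.normalizerCondition_of_isNilpotent (G := ↥D) (R.subgroupOf D) hlt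
  obtain ⟨y, hyN, hyR⟩ := SetLike.exists_of_lt hnc
  have hyNG : (y : G) ∈ Subgroup.normalizer (R : Set G) := by
    apply mem_normalizer_of_conj_mem'
    intro r hr
    have := (Subgroup.mem_normalizer_iff.1 hyN ⟨r, hRD hr⟩).1 (Subgroup.mem_subgroupOf.2 hr)
    rw [Subgroup.mem_subgroupOf] at this
    simpa using this
  have hyR' : (y : G) ∉ R := fun h => hyR (Subgroup.mem_subgroupOf.2 h)
  have hy2 : (⟨(y : G), hyNG⟩ : ↥(Subgroup.normalizer (R : Set G))) ∉
      Cfsg.pCore p ↥(Subgroup.normalizer (R : Set G)) := by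
    intro hmem
    apply hyR'
    rw [← hrad]
    exact ⟨_, hmem, rfl⟩
  rw [Cfsg.Agent.Helper1.pCore_eq_iInf_sylow, Subgroup.mem_iInf] at hy2
  obtain ⟨S, hS⟩ := not_forall.1 hy2
  obtain ⟨Q, hQ⟩ := (S.2.map (Subgroup.normalizer (R : Set G)).subtype).exists_le_sylow
  have hRS : R ≤ (S : Subgroup _).map (Subgroup.normalizer (R : Set G)).subtype := by
    intro r hr
    have h1 : (⟨r, Subgroup.le_normalizer hr⟩ : ↥(Subgroup.normalizer (R : Set G))) ∈
        Cfsg.pCore p ↥(Subgroup.normalizer (R : Set G)) := by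
      have h0 : r ∈ coreOf p (Subgroup.normalizer (R : Set G)) := by rw [hrad]; exact hr
      obtain ⟨c, hc, hcr⟩ := h0
      have hc' : c = ⟨r, Subgroup.le_normalizer hr⟩ := Subtype.ext hcr
      rw [← hc']; exact hc
    exact ⟨_, Cfsg.Agent.Helper1.pCore_le_sylow S h1, rfl⟩
  have hRQ : R ≤ Q := hRS.trans hQ
  have hyQ : (y : G) ∈ (Q : Subgroup G) := hDQ Q hRQ y.2
  have hle : (S : Subgroup _) ≤
      (Q : Subgroup G).subgroupOf (Subgroup.normalizer (R : Set G)) := by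
    intro s hs
    rw [Subgroup.mem_subgroupOf]
    exact hQ ⟨s, hs, rfl⟩
  have heq := S.is_maximal' (Q.2.comap_subtype) hle
  have hyS : (⟨(y : G), hyNG⟩ : ↥(Subgroup.normalizer (R : Set G))) ∈
      (Q : Subgroup G).subgroupOf (Subgroup.normalizer (R : Set G)) :=
    Subgroup.mem_subgroupOf.2 hyQ
  have hyS' : (⟨(y : G), hyNG⟩ : ↥(Subgroup.normalizer (R : Set G))) ∈ (S : Subgroup _) := by
    rw [← heq]; exact hyS
  exact hS hyS'

theorem radical_of_subnormal [Finite G] (p : ℕ) [Fact p.Prime] (A : Subgroup G)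
    (hA : IsPGroup p A) (g : G)
    (h : (A.subgroupOf (A ⊔ Subgroup.zpowers g)).IsSubnormal) :
    ∃ R : Subgroup G, A ≤ R ∧ coreOf p (Subgroup.normalizer (R : Set G)) = R ∧
      g ∈ Subgroup.normalizer (R : Set G) := by
  obtain ⟨L, hL⟩ : ∃ L : Subgroup G, L = A ⊔ Subgroup.zpowers g := ⟨_, rfl⟩
  rw [← hL] at h
  have hAL : A ≤ L := by rw [hL]; exact le_sup_left
  have hgL : g ∈ L := by
    rw [hL]; exact (le_sup_right : Subgroup.zpowers g ≤ _) (Subgroup.mem_zpowers g)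
  have h1 : A.subgroupOf L ≤ Cfsg.pCore p ↥L := le_pCore_of_isSubnormal p h hA.comap_subtype
  have hAR₀ : A ≤ coreOf p L := by
    intro a ha
    exact ⟨⟨a, hAL ha⟩, h1 (Subgroup.mem_subgroupOf.2 ha), rfl⟩
  obtain ⟨R, hR1, hR2, hR3⟩ := exists_radical_ge p (coreOf p L) (coreOf_isPGroup p L)
  exact ⟨R, hAR₀.trans hR1, hR2, hR3 (le_normalizer_coreOf p L hgL)⟩

theorem subnormal_of_radical [Finite G] (p : ℕ) [Fact p.Prime] (A R : Subgroup G) (g : G)
    (hAR : A ≤ R) (hrad : coreOf p (Subgroup.normalizer (R : Set G)) = R)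
    (hg : g ∈ Subgroup.normalizer (R : Set G)) :
    (A.subgroupOf (A ⊔ Subgroup.zpowers g)).IsSubnormal := by
  have hRp : IsPGroup p R := by
    have := coreOf_isPGroup p (Subgroup.normalizer (R : Set G))
    rwa [hrad] at this
  exact Cfsg.Agent.Helper4.isSubnormal_subgroupOf_sup_zpowers R A hRp hAR g hg

end Cfsg.Agent.Helper4.SubnormalPRad
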