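import Mathlib

set_option autoImplicit false

namespace Cfsg.Agent.Helper4

/-- If `H` is normal in a finite group, then `|H : H ∩ K|` divides `|G : K|`. -/
theorem relIndex_dvd_index_of_normal_right {G : Type*} [Group G] [Finite G] (H K : Subgroup G)
    [H.Normal] : K.relIndex H ∣ K.index := by
  obtain ⟨m, hm⟩ := Subgroup.relIndex_dvd_index_of_normal (H := H) (K := K)
  have e1 : (⊥ : Subgroup G).relIndex (H ⊓ K) * (H ⊓ K).relIndex H = Nat.card H := by
    rw [Subgroup.relIndex_mul_relIndex _ _ _ bot_le inf_le_left, Subgroup.relIndex_bot_left]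
  have e2 : (⊥ : Subgroup G).relIndex (H ⊓ K) * (H ⊓ K).relIndex K = Nat.card K := by
    rw [Subgroup.relIndex_mul_relIndex _ _ _ bot_le inf_le_right, Subgroup.relIndex_bot_left]
  rw [Subgroup.inf_relIndex_left] at e1
  rw [Subgroup.inf_relIndex_right] at e2
  have e3 : Nat.card H * H.index = Nat.card G := H.card_mul_index
  have e4 : Nat.card K * K.index = Nat.card G := K.card_mul_index
  have hpos : 0 < (⊥ : Subgroup G).relIndex (H ⊓ K) * H.relIndex K := by
    rw [e2]; exact Nat.card_pos
  refine ⟨m, ?_⟩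
  apply Nat.eq_of_mul_eq_mul_left hpos
  calc (⊥ : Subgroup G).relIndex (H ⊓ K) * H.relIndex K * K.index
      = Nat.card K * K.index := by rw [e2]
    _ = Nat.card H * H.index := by rw [e4, e3]
    _ = (⊥ : Subgroup G).relIndex (H ⊓ K) * K.relIndex H * (H.relIndex K * m) := by rw [e1, hm]
    _ = (⊥ : Subgroup G).relIndex (H ⊓ K) * H.relIndex K * (K.relIndex H * m) := by ring

theorem relIndex_dvd_index_of_isSubnormal {G : Type*} [Group G] [Finite G] (H : Subgroup G)
    (hH : H.IsSubnormal) (K : Subgroup G) : K.relIndex H ∣ K.index := by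
  induction hH with
  | top => rw [Subgroup.relIndex_top_right]
  | step H N h_le hSubn hN ih =>
    refine dvd_trans ?_ ih
    rw [← Subgroup.relIndex_subgroupOf h_le]
    exact relIndex_dvd_index_of_normal_right (H.subgroupOf N) (K.subgroupOf N)

end Cfsg.Agent.Helper4
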