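import Mathlib
import Cfsg.Prelude.Def_Solvable
import Cfsg.Prelude.Def_CaseTheorems
import Cfsg.Agent.Helper4.Subnormal
import Cfsg.Agent.Helper5.PPrimeCore
import Cfsg.Agent.Helper1.Cores

set_option autoImplicit false

namespace Cfsg.Agent.Helper4

/-- If `K` is subnormal in the finite group `G`, then `y ^ [G : K] ∈ K` for all `y`. -/
theorem pow_index_mem_of_isSubnormal {G : Type*} [Group G] [Finite G] (K : Subgroup G)
    (hK : K.IsSubnormal) (y : G) : y ^ K.index ∈ K := by
  induction hK with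
  | top => simp
  | step H N h_le hSubn hN ih =>
    have key : ∀ z : N, z ^ H.relIndex N ∈ H.subgroupOf N := by
      intro z
      rw [← QuotientGroup.eq_one_iff, QuotientGroup.mk_pow, Subgroup.relIndex,
        Subgroup.index_eq_card]
      exact pow_card_eq_one'
    have h1 := key ⟨y ^ N.index, ih⟩
    rw [Subgroup.mem_subgroupOf] at h1
    rw [← Subgroup.relIndex_mul_index h_le, mul_comm, pow_mul]
    simpa using h1

/-- In a finite group satisfying the normalizer condition every subgroup is subnormal. -/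
theorem isSubnormal_of_normalizerCondition {G : Type*} [Group G] [Finite G]
    (hnc : NormalizerCondition G) (H : Subgroup G) : H.IsSubnormal := by
  induction H using WellFoundedGT.induction with
  | ind H ih =>
    by_cases hH : H = ⊤
    · rw [hH]; exact Subgroup.IsSubnormal.top
    · have hlt := hnc H (lt_top_iff_ne_top.mpr hH)
      exact Subgroup.IsSubnormal.step H _ hlt.le (ih _ hlt) Subgroup.normal_in_normalizer

/-- If `Q` is a normal `p`-subgroup of the finite group `G`, `H ≤ G` and `y ∈ Q`, then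
`y ^ [G : H] ∈ H`. -/
theorem pow_index_mem_of_mem_normal_pgroup {G : Type*} [Group G] [Finite G] {p : ℕ}
    [Fact p.Prime] (Q : Subgroup G) [Q.Normal] (hQ : IsPGroup p Q) (H : Subgroup G) {y : G}
    (hy : y ∈ Q) : y ^ H.index ∈ H := by
  have hnil : Group.IsNilpotent Q := hQ.isNilpotent
  have hsub : (H.subgroupOf Q).IsSubnormal :=
    isSubnormal_of_normalizerCondition Group.normalizerCondition_of_isNilpotent _
  have h1 := pow_index_mem_of_isSubnormal (H.subgroupOf Q) hsub ⟨y, hy⟩
  obtain ⟨m, hm⟩ := relIndex_dvd_index_of_normal_right Q H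
  rw [Subgroup.mem_subgroupOf, ← Subgroup.relIndex] at h1
  rw [hm, pow_mul]
  exact H.pow_mem (by simpa using h1) m

/-- If for every prime `q` some power `x ^ m` with `q ∤ m` lies in `K`, then `x ∈ K`. -/
theorem mem_of_forall_prime_exists_pow_mem {G : Type*} [Group G] (K : Subgroup G) (x : G)
    (hfin : 0 < orderOf x) (h : ∀ q : ℕ, q.Prime → ∃ m : ℕ, ¬ q ∣ m ∧ x ^ m ∈ K) : x ∈ K := by
  classical
  have hex : ∃ d, 0 < d ∧ x ^ d ∈ K :=
    ⟨orderOf x, hfin, by rw [pow_orderOf_eq_one]; exact K.one_mem⟩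
  obtain ⟨hd0, hdK⟩ := Nat.find_spec hex
  have hdvd : ∀ m, x ^ m ∈ K → Nat.find hex ∣ m := by
    intro m hm
    have hg : x ^ (Nat.gcd (Nat.find hex) m) ∈ K := by
      have := Nat.gcd_eq_gcd_ab (Nat.find hex) m
      rw [← zpow_natCast, this, zpow_add, zpow_mul, zpow_mul, zpow_natCast, zpow_natCast]
      exact K.mul_mem (K.zpow_mem hdK _) (K.zpow_mem hm _)
    have hgpos : 0 < Nat.gcd (Nat.find hex) m := Nat.gcd_pos_of_pos_left m hd0
    have h1 : Nat.find hex ≤ Nat.gcd (Nat.find hex) m := Nat.find_min' hex ⟨hgpos, hg⟩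
    have h2 : Nat.gcd (Nat.find hex) m = Nat.find hex :=
      le_antisymm (Nat.gcd_le_left m hd0) h1
    rw [← h2]; exact Nat.gcd_dvd_right _ m
  by_cases hd1 : Nat.find hex = 1
  · rw [hd1, pow_one] at hdK; exact hdK
  · obtain ⟨q, hq, hqd⟩ := Nat.exists_prime_and_dvd hd1
    obtain ⟨m, hqm, hmK⟩ := h q hq
    exact absurd (dvd_trans hqd (hdvd m hmK)) hqm

/-- `O_p(G) ≤ F(G)`. -/
theorem pCore_le_fittingSubgroup {G : Type*} [Group G] [Finite G] (p : ℕ) [Fact p.Prime] :
    Cfsg.pCore p G ≤ Cfsg.fittingSubgroup G := by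
  apply le_sSup
  exact ⟨inferInstance, (Cfsg.Agent.Helper1.pCore_isPGroup p).isNilpotent⟩

/-- Modulo `O_q(G)`, the Fitting subgroup lies in the `q'`-core. -/
theorem fitting_le_comap_pPrimeCore {G : Type*} [Group G] [Finite G] (q : ℕ) [Fact q.Prime] :
    Cfsg.fittingSubgroup G ≤
      (Cfsg.pPrimeCore q (G ⧸ Cfsg.pCore q G)).comap (QuotientGroup.mk' (Cfsg.pCore q G)) := by
  apply sSup_le
  rintro N ⟨hNn, hNnil⟩
  rw [← Subgroup.map_le_iff_le_comap]
  have hmapn : (N.map (QuotientGroup.mk' (Cfsg.pCore q G))).Normal :=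
    hNn.map _ (QuotientGroup.mk'_surjective _)
  apply Cfsg.Agent.Helper5.le_pPrimeCore hmapn
  -- the Sylow `q`-subgroup of `N`
  obtain ⟨P⟩ : Nonempty (Sylow q N) := inferInstance
  have h03 : Group.IsNilpotent N ↔
      ∀ (p : ℕ), Fact (Nat.Prime p) → ∀ (P : Sylow p N), (P : Subgroup N).Normal :=
    (Group.isNilpotent_of_finite_tfae (G := N)).out 0 3
  have hPn : (P : Subgroup N).Normal := h03.mp hNnil q inferInstance P
  have hPc : (P : Subgroup N).Characteristic := P.characteristic_of_normal hPn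
  have hPG : ((P : Subgroup N).map N.subtype).Normal :=
    ConjAct.normal_of_characteristic_of_normal
  have hPle : (P : Subgroup N).map N.subtype ≤ Cfsg.pCore q G :=
    Cfsg.Agent.Helper1.le_pCore hPG (P.2.map _)
  -- the restricted quotient map
  set ψ : N →* G ⧸ Cfsg.pCore q G := (QuotientGroup.mk' (Cfsg.pCore q G)).comp N.subtype with hψ
  have hker : (P : Subgroup N) ≤ ψ.ker := by
    intro y hy
    rw [MonoidHom.mem_ker, hψ, MonoidHom.comp_apply, QuotientGroup.mk'_apply,
      QuotientGroup.eq_one_iff]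
    exact hPle (Subgroup.mem_map_of_mem _ hy)
  have hrange : ψ.range = N.map (QuotientGroup.mk' (Cfsg.pCore q G)) := by
    rw [hψ, MonoidHom.range_comp, Subgroup.range_subtype]
  have hdvd : Nat.card (N.map (QuotientGroup.mk' (Cfsg.pCore q G))) ∣ (P : Subgroup N).index := by
    rw [← hrange, ← Subgroup.index_ker]
    exact Subgroup.index_dvd_of_le hker
  have hcop : ((P : Subgroup N).index).Coprime q := by
    rw [Nat.coprime_comm, (Fact.out : q.Prime).coprime_iff_not_dvd]
    exact P.not_dvd_index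
  exact Nat.Coprime.coprime_dvd_left hdvd hcop

/-- For `x ∈ F(G)` and each prime `q` some power `x ^ m`, `q ∤ m`, lies in `O_q(G)`. -/
theorem fitting_exists_pow_mem_pCore {G : Type*} [Group G] [Finite G] {x : G}
    (hx : x ∈ Cfsg.fittingSubgroup G) (q : ℕ) (hq : q.Prime) :
    ∃ m : ℕ, ¬ q ∣ m ∧ x ^ m ∈ Cfsg.pCore q G := by
  have : Fact q.Prime := ⟨hq⟩
  have h1 := fitting_le_comap_pPrimeCore q hx
  rw [Subgroup.mem_comap] at h1
  refine ⟨Nat.card (Cfsg.pPrimeCore q (G ⧸ Cfsg.pCore q G)),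
    Cfsg.Agent.Helper5.not_dvd_card_pPrimeCore q, ?_⟩
  rw [← QuotientGroup.eq_one_iff, QuotientGroup.mk_pow]
  have h2 : (⟨_, h1⟩ : Cfsg.pPrimeCore q (G ⧸ Cfsg.pCore q G)) ^
      Nat.card (Cfsg.pPrimeCore q (G ⧸ Cfsg.pCore q G)) = 1 := pow_card_eq_one'
  have := congrArg Subtype.val h2
  rw [Subgroup.coe_pow, Subgroup.coe_one] at this
  exact this

/-- Characterisation of the Fitting subgroup of a finite group. -/
theorem mem_fittingSubgroup_iff {G : Type*} [Group G] [Finite G] (x : G) :
    x ∈ Cfsg.fittingSubgroup G ↔ ∀ H : Subgroup G, x ^ H.index ∈ H := by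
  constructor
  · intro hx H
    -- the subgroup of powers of x whose `[G:H]`-th power lies in `H`
    let K : Subgroup G :=
      { carrier := {y | y ∈ Subgroup.zpowers x ∧ y ^ H.index ∈ H}
        one_mem' := ⟨Subgroup.one_mem _, by rw [one_pow]; exact H.one_mem⟩
        mul_mem' := by
          rintro a b ⟨ha1, ha2⟩ ⟨hb1, hb2⟩
          refine ⟨Subgroup.mul_mem _ ha1 hb1, ?_⟩
          obtain ⟨i, rfl⟩ := Subgroup.mem_zpowers_iff.mp ha1
          obtain ⟨j, rfl⟩ := Subgroup.mem_zpowers_iff.mp hb1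
          have hc : Commute (x ^ i) (x ^ j) := (Commute.refl x).zpow_zpow i j
          rw [hc.mul_pow]
          exact H.mul_mem ha2 hb2
        inv_mem' := by
          rintro a ⟨ha1, ha2⟩
          exact ⟨Subgroup.inv_mem _ ha1, by rw [inv_pow]; exact H.inv_mem ha2⟩ }
    have hxK : x ∈ K := by
      apply mem_of_forall_prime_exists_pow_mem K x (orderOf_pos x)
      intro q hq
      have : Fact q.Prime := ⟨hq⟩
      obtain ⟨m, hqm, hm⟩ := fitting_exists_pow_mem_pCore hx q hq
      refine ⟨m, hqm, Subgroup.pow_mem _ (Subgroup.mem_zpowers x) m, ?_⟩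
      exact pow_index_mem_of_mem_normal_pgroup (Cfsg.pCore q G)
        (Cfsg.Agent.Helper1.pCore_isPGroup q) H hm
    exact hxK.2
  · intro h
    apply mem_of_forall_prime_exists_pow_mem _ x (orderOf_pos x)
    intro q hq
    have : Fact q.Prime := ⟨hq⟩
    obtain ⟨P⟩ : Nonempty (Sylow q G) := inferInstance
    refine ⟨(P : Subgroup G).index, P.not_dvd_index, ?_⟩
    apply pCore_le_fittingSubgroup q
    rw [Cfsg.Agent.Helper1.pCore_eq_iInf_sylow, Subgroup.mem_iInf]
    intro P'
    have hidx : (P' : Subgroup G).index = (P : Subgroup G).index := by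
      have h1 := (P' : Subgroup G).card_mul_index
      have h2 := (P : Subgroup G).card_mul_index
      rw [Sylow.card_eq_multiplicity] at h1 h2
      have hpos : 0 < q ^ (Nat.card G).factorization q := pow_pos hq.pos _
      exact Nat.eq_of_mul_eq_mul_left hpos (h1.trans h2.symm)
    rw [← hidx]
    exact h P'

end Cfsg.Agent.Helper4
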