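import Mathlib

set_option autoImplicit false

namespace Cfsg.Agent.Helper4

open Finset

/-- In a finite cyclic group, if `a` has order `n > 0` and `b ^ n = 1` then `b` is a power of `a`. -/
theorem mem_zpowers_of_pow_eq_one_of_isCyclic {C : Type*} [Group C] [Finite C] [IsCyclic C]
    (a b : C) (n : ℕ) (hn : 0 < n) (ha : orderOf a = n) (hb : b ^ n = 1) : b ∈ Subgroup.zpowers a := by
  classical
  have : Fintype C := Fintype.ofFinite C
  have hle : #{x : C | x ^ n = 1} ≤ n := IsCyclic.card_pow_eq_one_le hn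
  let T : Finset C := (Finset.range n).image (fun i => a ^ i)
  have hTcard : T.card = n := by
    rw [Finset.card_image_of_injOn, Finset.card_range]
    intro i hi j hj hij
    have := pow_injOn_Iio_orderOf (x := a)
    apply this
    · rw [ha]; simpa using hi
    · rw [ha]; simpa using hj
    · exact hij
  have hTsub : T ⊆ ({x : C | x ^ n = 1} : Finset C) := by
    intro x hx
    obtain ⟨i, _, rfl⟩ := Finset.mem_image.mp hx
    simp only [Finset.mem_filter, Finset.mem_univ, true_and]
    rw [← pow_mul, mul_comm, pow_mul, ← ha, pow_orderOf_eq_one, one_pow]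
  have hT : T = ({x : C | x ^ n = 1} : Finset C) :=
    Finset.eq_of_subset_of_card_le hTsub (by rw [hTcard]; exact hle)
  have hbT : b ∈ T := by
    rw [hT]; simp [hb]
  obtain ⟨i, _, rfl⟩ := Finset.mem_image.mp hbT
  exact Subgroup.pow_mem _ (Subgroup.mem_zpowers a) i

/-- Subgroup version. -/
theorem mem_zpowers_of_pow_eq_one_of_isCyclic' {G : Type*} [Group G] (C : Subgroup G) [Finite C]
    (hC : IsCyclic C) (a b : G) (haC : a ∈ C) (hbC : b ∈ C) (n : ℕ) (hn : 0 < n)
    (ha : orderOf a = n) (hb : b ^ n = 1) : b ∈ Subgroup.zpowers a := by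
  have h := mem_zpowers_of_pow_eq_one_of_isCyclic (⟨a, haC⟩ : C) ⟨b, hbC⟩ n hn
    (by rw [← ha]; exact Subgroup.orderOf_mk a haC) (by apply Subtype.ext; simpa using hb)
  obtain ⟨k, hk⟩ := Subgroup.mem_zpowers_iff.mp h
  exact Subgroup.mem_zpowers_iff.mpr ⟨k, by simpa using congrArg Subtype.val hk⟩

end Cfsg.Agent.Helper4
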