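import Mathlib
import Cfsg.Agent.S0043

set_option autoImplicit false

namespace Cfsg.Agent.Helper4

universe u

/-- Existence of a minimal normal subgroup in a nontrivial finite group. -/
theorem exists_minimal_normal {G : Type*} [Group G] [Finite G] [Nontrivial G] :
    ∃ N : Subgroup G, N.Normal ∧ N ≠ ⊥ ∧
      ∀ L : Subgroup G, L.Normal → L ≤ N → L = ⊥ ∨ L = N := by
  classical
  have hne : ({N : Subgroup G | N.Normal ∧ N ≠ ⊥}).Nonempty :=
    ⟨⊤, inferInstance, top_ne_bot⟩
  obtain ⟨N, ⟨hN1, hN2⟩, hmin⟩ := (wellFounded_lt (α := Subgroup G)).has_min _ hne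
  refine ⟨N, hN1, hN2, fun L hL hLN => ?_⟩
  by_contra h
  push Not at h
  exact hmin L ⟨hL, h.1⟩ (lt_of_le_of_ne hLN h.2)

theorem coatom_normal_corefree {G : Type*} [Group G] [Finite G] [Group.IsSolvable G] (M : Subgroup G)
    (hM : IsCoatom M) (hcore : M.normalCore = ⊥) (hexp : ∀ x : G, x ^ M.index ∈ M) :
    M.Normal := by
  by_cases hMbot : M = ⊥
  · rw [hMbot]; infer_instance
  have hnt : Nontrivial G := by
    obtain ⟨x, hx1⟩ := (Subgroup.ne_bot_iff_exists_ne_one).mp hMbot
    exact ⟨⟨x.1, 1, fun h => hx1 (Subtype.ext h)⟩⟩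
  obtain ⟨N, hNn, hNne, hNmin⟩ := exists_minimal_normal (G := G)
  obtain ⟨hab, p, hp, hpow⟩ := Cfsg.Agent.S0043.result N hNne hNmin
  have hp' : Fact p.Prime := ⟨hp⟩
  have hNM : ¬ N ≤ M := fun h =>
    hNne (le_bot_iff.mp (hcore ▸ Subgroup.normal_le_normalCore.mpr h))
  have hsup : N ⊔ M = ⊤ := by
    apply hM.2
    apply lt_of_le_of_ne le_sup_right
    intro h
    exact hNM (h ▸ le_sup_left)
  have hle_core : ∀ L : Subgroup G, L ≤ M → N ≤ Subgroup.normalizer (L : Set G) →
      M ≤ Subgroup.normalizer (L : Set G) → L = ⊥ := by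
    intro L hLM h1 h2
    have hn : L.Normal := by
      rw [← Subgroup.normalizer_eq_top_iff, eq_top_iff, ← hsup]
      exact sup_le h1 h2
    have : L ≤ M.normalCore := Subgroup.normal_le_normalCore.mpr hLM
    rw [hcore] at this
    exact le_bot_iff.mp this
  have hinf : N ⊓ M = ⊥ := by
    apply hle_core _ inf_le_right
    · intro n hn
      rw [Subgroup.mem_normalizer_iff]
      intro x
      have key : ∀ y ∈ N, n * y * n⁻¹ = y := by
        intro y hy
        have := hab.is_comm.comm ⟨n, hn⟩ ⟨y, hy⟩
        have h2 : n * y = y * n := congrArg Subtype.val this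
        rw [h2, mul_inv_cancel_right]
      constructor
      · intro hx
        rw [key x hx.1]; exact hx
      · intro hx
        have hxN : x ∈ N := by
          have := hNn.conj_mem _ hx.1 n⁻¹
          simpa [mul_assoc] using this
        rw [key x hxN] at hx; exact hx
    · intro m hm
      rw [Subgroup.mem_normalizer_iff]
      intro x
      constructor
      · intro hx
        exact ⟨hNn.conj_mem _ hx.1 m, M.mul_mem (M.mul_mem hm hx.2) (M.inv_mem hm)⟩
      · intro hx
        constructor
        · have := hNn.conj_mem _ hx.1 m⁻¹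
          simpa [mul_assoc] using this
        · have := M.mul_mem (M.mul_mem (M.inv_mem hm) hx.2) hm
          simpa [mul_assoc] using this
  have hcompl : Subgroup.IsComplement' N M := by
    apply Subgroup.isComplement'_of_disjoint_and_mul_eq_univ (disjoint_iff.mpr hinf)
    rw [← Subgroup.normal_mul, hsup, Subgroup.coe_top]
  have hidx : M.index = Nat.card N := hcompl.index_eq_card
  -- the centraliser of N in M is trivial
  have hcent : M ⊓ Subgroup.centralizer (N : Set G) = ⊥ := by
    apply hle_core _ inf_le_left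
    · intro n hn
      rw [Subgroup.mem_normalizer_iff]
      intro x
      have key : ∀ y ∈ Subgroup.centralizer (N : Set G), n * y * n⁻¹ = y := by
        intro y hy
        have := hy n hn
        rw [this, mul_inv_cancel_right]
      constructor
      · intro hx
        rw [key x hx.2]; exact hx
      · intro hx
        have hxC : x ∈ Subgroup.centralizer (N : Set G) := by
          have := (Subgroup.normal_centralizer (H := N)).conj_mem _ hx.2 n⁻¹
          simpa [mul_assoc] using this
        rw [key x hxC] at hx; exact hx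
    · intro m hm
      rw [Subgroup.mem_normalizer_iff]
      intro x
      have hCn : (Subgroup.centralizer (N : Set G)).Normal := Subgroup.normal_centralizer
      constructor
      · intro hx
        exact ⟨M.mul_mem (M.mul_mem hm hx.1) (M.inv_mem hm), hCn.conj_mem _ hx.2 m⟩
      · intro hx
        constructor
        · have := M.mul_mem (M.mul_mem (M.inv_mem hm) hx.1) hm
          simpa [mul_assoc] using this
        · have := hCn.conj_mem _ hx.2 m⁻¹
          simpa [mul_assoc] using this
  -- every element of M has order dividing |N|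
  have hMexp : ∀ x ∈ M, x ^ Nat.card N = 1 := by
    intro x hx
    have hxq : x ^ Nat.card N ∈ M := M.pow_mem hx _
    have hc : x ^ Nat.card N ∈ Subgroup.centralizer (N : Set G) := by
      intro b hb
      have h1 : (b * x * b⁻¹) ^ Nat.card N ∈ M := hidx ▸ hexp (b * x * b⁻¹)
      rw [conj_pow] at h1
      have h2 : b * x ^ Nat.card N * b⁻¹ * (x ^ Nat.card N)⁻¹ ∈ N ⊓ M := by
        constructor
        · have h3 : x ^ Nat.card N * b⁻¹ * (x ^ Nat.card N)⁻¹ ∈ N :=
            hNn.conj_mem _ (N.inv_mem hb) _
          have := N.mul_mem hb h3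
          simpa [mul_assoc] using this
        · exact M.mul_mem h1 (M.inv_mem hxq)
      rw [hinf, Subgroup.mem_bot] at h2
      have h4 : b * x ^ Nat.card N * b⁻¹ = x ^ Nat.card N := by
        rw [mul_inv_eq_one] at h2; exact h2
      calc b * x ^ Nat.card N = b * x ^ Nat.card N * b⁻¹ * b := by group
        _ = x ^ Nat.card N * b := by rw [h4]
    have : x ^ Nat.card N ∈ M ⊓ Subgroup.centralizer (N : Set G) := ⟨hxq, hc⟩
    rw [hcent, Subgroup.mem_bot] at this
    exact this
  -- N is a p-group
  have hNp : IsPGroup p N := by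
    intro x
    refine ⟨1, ?_⟩
    rw [pow_one]
    exact Subtype.ext (by simpa using hpow x.1 x.2)
  obtain ⟨k, hk⟩ := (IsPGroup.iff_card).mp hNp
  have hMp : IsPGroup p M := by
    intro x
    refine ⟨k, ?_⟩
    rw [← hk]
    exact Subtype.ext (by simpa using hMexp x.1 x.2)
  obtain ⟨l, hl⟩ := (IsPGroup.iff_card).mp hMp
  have hGp : IsPGroup p G := by
    apply IsPGroup.of_card (n := k + l)
    rw [← hcompl.card_mul_card, hk, hl, pow_add]
  have hnil : Group.IsNilpotent G := hGp.isNilpotent
  exact Subgroup.NormalizerCondition.normal_of_coatom M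
    Group.normalizerCondition_of_isNilpotent hM

theorem coatom_quotient_step {G : Type*} [Group G] [Finite G] (K M : Subgroup G) [K.Normal]
    (hKM : K ≤ M) (hM : IsCoatom M) (hexp : ∀ x : G, x ^ M.index ∈ M) :
    IsCoatom (M.map (QuotientGroup.mk' K)) ∧
    (∀ y : G ⧸ K, y ^ (M.map (QuotientGroup.mk' K)).index ∈ M.map (QuotientGroup.mk' K)) ∧
    ((M.map (QuotientGroup.mk' K)).Normal → M.Normal) := by
  have hker : (QuotientGroup.mk' K).ker ≤ M := by rw [QuotientGroup.ker_mk']; exact hKM
  have hsurj : Function.Surjective (QuotientGroup.mk' K) := QuotientGroup.mk'_surjective K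
  have hcm : (M.map (QuotientGroup.mk' K)).comap (QuotientGroup.mk' K) = M :=
    Subgroup.comap_map_eq_self hker
  have hindex : (M.map (QuotientGroup.mk' K)).index = M.index :=
    Subgroup.index_map_eq _ hsurj hker
  refine ⟨⟨?_, ?_⟩, ?_, ?_⟩
  · intro h
    apply hM.1
    rw [← hcm, h, Subgroup.comap_top]
  · intro L hL
    have h1 : M < L.comap (QuotientGroup.mk' K) := by
      rw [← hcm]
      apply lt_of_le_of_ne (Subgroup.comap_mono hL.le)
      intro h
      apply hL.ne
      rw [← Subgroup.map_comap_eq_self_of_surjective hsurj L, ← h,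
        Subgroup.map_comap_eq_self_of_surjective hsurj]
    have h2 := hM.2 _ h1
    rw [← Subgroup.map_comap_eq_self_of_surjective hsurj L, h2,
      Subgroup.map_top_of_surjective _ hsurj]
  · intro y
    obtain ⟨x, rfl⟩ := hsurj y
    rw [hindex, ← map_pow]
    exact Subgroup.mem_map_of_mem _ (hexp x)
  · intro hnormal
    rw [← hcm]
    exact hnormal.comap _

theorem coatom_normal_aux (n : ℕ) : ∀ (G : Type u) [Group G] [Finite G], Nat.card G = n →
    Group.IsSolvable G → ∀ M : Subgroup G, IsCoatom M → (∀ x : G, x ^ M.index ∈ M) →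
    M.Normal := by
  induction n using Nat.strong_induction_on with
  | _ n ih =>
    intro G _ _ hn hG M hM hexp
    by_cases hK : M.normalCore = ⊥
    · exact coatom_normal_corefree M hM hK hexp
    · have hKM : M.normalCore ≤ M := Subgroup.normalCore_le M
      have hcard : Nat.card (G ⧸ M.normalCore) < n := by
        rw [← hn, ← Subgroup.index_eq_card, ← M.normalCore.card_mul_index]
        have h1 : 1 < Nat.card M.normalCore := by
          rw [Subgroup.one_lt_card_iff_ne_bot]; exact hK
        have h2 : 0 < M.normalCore.index := Nat.pos_of_ne_zero Subgroup.index_ne_zero_of_finite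
        nlinarith
      obtain ⟨h1, h2, h3⟩ := coatom_quotient_step M.normalCore M hKM hM hexp
      exact h3 (ih _ hcard (G ⧸ M.normalCore) rfl inferInstance _ h1 h2)

theorem coatom_normal_of_pow_index_mem {G : Type u} [Group G] [Finite G]
    (hG : Group.IsSolvable G)
    (M : Subgroup G) (hM : IsCoatom M) (hexp : ∀ x : G, x ^ M.index ∈ M) : M.Normal :=
  coatom_normal_aux _ G rfl hG M hM hexp

end Cfsg.Agent.Helper4
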