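import Mathlib
import Cfsg.Agent.Helper1.Hall
import Cfsg.Agent.Helper4.Cyclic
import Cfsg.Agent.Helper4.MaxSolvable

set_option autoImplicit false

/-!
Groups in which subgroups of equal order are conjugate: preparatory lemmas.
-/

namespace Cfsg.Agent.Helper4.EqOrdConj

open scoped Pointwise
open Cfsg.Agent.Helper1

universe u

/-- any two `p`-subgroups of the same order are conjugate, for every prime `p` -/
def PConj (G : Type u) [Group G] : Prop :=
  ∀ p : ℕ, p.Prime → ∀ H K : Subgroup G, IsPGroup p H → IsPGroup p K → Nat.card H = Nat.card K →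
    ∃ g : G, MulAut.conj g • H = K

/-- any two subgroups of the same order are conjugate -/
def AllConj (G : Type u) [Group G] : Prop :=
  ∀ H K : Subgroup G, Nat.card H = Nat.card K → ∃ g : G, MulAut.conj g • H = K

/-- all Sylow subgroups are cyclic -/
def AllCyc (G : Type u) [Group G] : Prop :=
  ∀ p : ℕ, p.Prime → ∀ P : Sylow p G, IsCyclic P

variable {G : Type u} [Group G]

/-- In a cyclic subgroup, two subgroups of the same order are equal. -/
theorem eq_of_card_eq_of_le_cyclic [Finite G] {C H K : Subgroup G} (hC : IsCyclic C) (hH : H ≤ C)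
    (hK : K ≤ C) (h : Nat.card H = Nat.card K) : H = K := by
  haveI := hC
  haveI : IsCyclic H := Subgroup.isCyclic_of_le hH
  obtain ⟨a, ha⟩ := IsCyclic.exists_ofOrder_eq_natCard (α := H)
  have hKH : K ≤ H := by
    intro b hb
    have hbn : b ^ Nat.card H = 1 := by
      rw [h]
      have h2 : (⟨b, hb⟩ : K) ^ Nat.card K = 1 := pow_card_eq_one'
      have h3 := congrArg Subtype.val h2
      rw [Subgroup.coe_pow] at h3
      exact h3
    have h1 := mem_zpowers_of_pow_eq_one_of_isCyclic' C hC (a : G) b (hH a.2) (hK hb) (Nat.card H)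
      Nat.card_pos (by rw [← ha]; exact (Subgroup.orderOf_coe a)) hbn
    exact (Subgroup.zpowers_le.2 a.2) h1
  exact (Subgroup.eq_of_le_of_card_ge hKH h.le).symm

/-- if all Sylow subgroups are cyclic then `p`-subgroups of equal order are conjugate -/
theorem pconj_of_allCyc [Finite G] (h : AllCyc G) : PConj G := by
  intro p hp H K hH hK hcard
  haveI : Fact p.Prime := ⟨hp⟩
  obtain ⟨P, hHP⟩ := hH.exists_le_sylow
  obtain ⟨Q, hKQ⟩ := hK.exists_le_sylow
  obtain ⟨g, hg⟩ := MulAction.exists_smul_eq G P Q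
  refine ⟨g, ?_⟩
  have h1 : MulAut.conj g • H ≤ (Q : Subgroup G) := by
    rw [← hg, Sylow.coe_subgroup_smul]
    exact conj_smul_mono hHP g
  exact eq_of_card_eq_of_le_cyclic (h p hp Q) h1 hKQ (by rw [card_conj_smul, hcard])

/-- subgroups of prescribed `p`-power order inside a subgroup -/
theorem exists_le_card_pow [Finite G] {p : ℕ} [Fact p.Prime] (N : Subgroup G) {k : ℕ}
    (hdvd : p ^ k ∣ Nat.card N) : ∃ K : Subgroup G, K ≤ N ∧ Nat.card K = p ^ k := by
  obtain ⟨K, hK⟩ := Sylow.exists_subgroup_card_pow_prime p hdvd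
  exact ⟨K.map N.subtype, Subgroup.map_subtype_le K, by rw [card_map_subtype, hK]⟩

/-- lifting a `q`-subgroup of a quotient to a `q`-subgroup of the group -/
theorem exists_lift_pgroup [Finite G] {q : ℕ} [hq : Fact q.Prime] (N : Subgroup G) [N.Normal]
    (X : Subgroup (G ⧸ N)) (hX : IsPGroup q X) :
    ∃ A : Subgroup G, IsPGroup q A ∧ A.map (QuotientGroup.mk' N) = X ∧
      Nat.card A = q ^ (Nat.card X * Nat.card N).factorization q := by
  let X' : Subgroup G := X.comap (QuotientGroup.mk' N)
  let φ : X' →* X := (QuotientGroup.mk' N).subgroupComap X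
  have hφ : Function.Surjective φ :=
    MonoidHom.subgroupComap_surjective_of_surjective _ _ (QuotientGroup.mk'_surjective N)
  let P : Sylow q X' := default
  have htop : (P : Subgroup X').map φ = ⊤ := by
    have h1 : ((P : Subgroup X').map φ).index ∣ (P : Subgroup X').index :=
      Subgroup.index_map_dvd _ hφ
    have h2 : ¬ q ∣ ((P : Subgroup X').map φ).index := fun h => P.not_dvd_index (h.trans h1)
    obtain ⟨k, hk⟩ := IsPGroup.iff_card.1 hX
    have h3 : ((P : Subgroup X').map φ).index ∣ q ^ k := by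
      rw [← hk]; exact Subgroup.index_dvd_card _
    obtain ⟨j, -, hj⟩ := (Nat.dvd_prime_pow hq.out).1 h3
    rcases Nat.eq_zero_or_pos j with h0 | h0
    · rw [h0, pow_zero] at hj
      exact Subgroup.index_eq_one.1 hj
    · exfalso; apply h2; rw [hj]; exact dvd_pow_self q h0.ne'
  refine ⟨(P : Subgroup X').map X'.subtype, ?_, ?_, ?_⟩
  · exact P.isPGroup'.map _
  · rw [Subgroup.map_map]
    have hcomp : (QuotientGroup.mk' N).comp X'.subtype = X.subtype.comp φ := by
      ext x; rfl
    rw [hcomp, ← Subgroup.map_map, htop, ← MonoidHom.range_eq_map, Subgroup.range_subtype]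
  · rw [card_map_subtype, P.card_eq_multiplicity, card_comap_mk']

/-- the property `PConj` passes to quotients -/
theorem pconj_quotient [Finite G] (hG : PConj G) (N : Subgroup G) [N.Normal] : PConj (G ⧸ N) := by
  intro p hp X Y hX hY hcard
  haveI : Fact p.Prime := ⟨hp⟩
  obtain ⟨A, hA, hAX, hAc⟩ := exists_lift_pgroup N X hX
  obtain ⟨B, hB, hBY, hBc⟩ := exists_lift_pgroup N Y hY
  obtain ⟨g, hg⟩ := hG p hp A B hA hB (by rw [hAc, hBc, hcard])
  refine ⟨QuotientGroup.mk' N g, ?_⟩
  rw [← hAX, ← hBY, ← hg, map_conj_smul]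

/-- a subgroup of a cyclic subgroup is cyclic -/
theorem isCyclic_of_le_cyclic {A R : Subgroup G} (hR : IsCyclic R) (h : A ≤ R) : IsCyclic A := by
  haveI := hR
  exact Subgroup.isCyclic_of_le h

/-- cyclic Sylow subgroups pass to quotients -/
theorem isCyclic_sylow_quotient [Finite G] {q : ℕ} [hq : Fact q.Prime]
    (h : ∀ P : Sylow q G, IsCyclic P) (N : Subgroup G) [N.Normal] (Q : Sylow q (G ⧸ N)) :
    IsCyclic Q := by
  obtain ⟨A, hA, hAX, -⟩ := exists_lift_pgroup N (Q : Subgroup (G ⧸ N)) Q.isPGroup'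
  obtain ⟨R, hAR⟩ := hA.exists_le_sylow
  haveI : IsCyclic A := isCyclic_of_le_cyclic (h R) hAR
  have h1 : IsCyclic (A.map (QuotientGroup.mk' N)) :=
    isCyclic_of_surjective ((QuotientGroup.mk' N).subgroupMap A)
      ((QuotientGroup.mk' N).subgroupMap_surjective A)
  rw [hAX] at h1
  exact h1

/-- cyclic Sylow subgroups pass to subgroups of order prime to the exceptional prime -/
theorem allCyc_of_coprime [Finite G] {p : ℕ} (hp : p.Prime)
    (h : ∀ q : ℕ, q.Prime → q ≠ p → ∀ Q : Sylow q G, IsCyclic Q) (L : Subgroup G)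
    (hL : (Nat.card L).Coprime p) : AllCyc L := by
  intro q hq Q
  haveI : Fact q.Prime := ⟨hq⟩
  by_cases hqp : q = p
  · subst hqp
    have h1 : Nat.card Q = 1 := by
      obtain ⟨k, hk⟩ := IsPGroup.iff_card.1 Q.isPGroup'
      have h2 : Nat.card Q ∣ Nat.card L := Subgroup.card_subgroup_dvd_card _
      rcases Nat.eq_zero_or_pos k with h0 | h0
      · rw [hk, h0, pow_zero]
      · exfalso
        have h3 : q ∣ Nat.card L := (dvd_pow_self q h0.ne').trans (hk ▸ h2)
        exact (Nat.Prime.coprime_iff_not_dvd hq).1 hL.symm h3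
    haveI : Subsingleton Q := (Nat.card_eq_one_iff_unique.1 h1).1
    infer_instance
  · have hQ : IsPGroup q ((Q : Subgroup L).map L.subtype) := Q.isPGroup'.map _
    obtain ⟨R, hR⟩ := hQ.exists_le_sylow
    haveI : IsCyclic ((Q : Subgroup L).map L.subtype) := isCyclic_of_le_cyclic (h q hq hqp R) hR
    exact isCyclic_of_injective ((L.subtype).subgroupMap (Q : Subgroup L))
      (by
        intro x y hxy
        have := congrArg Subtype.val hxy
        simp only [MonoidHom.subgroupMap_apply_coe, Subgroup.coe_subtype] at this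
        exact Subtype.ext (Subtype.ext this))

end Cfsg.Agent.Helper4.EqOrdConj
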