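import Mathlib

set_option autoImplicit false

namespace Cfsg.Agent.Helper4

open MulAction

/-- A normal point stabiliser of a faithful transitive action is trivial. -/
theorem stabilizer_eq_bot_of_normal {G Ω : Type*} [Group G] [MulAction G Ω] [FaithfulSMul G Ω]
    [IsPretransitive G Ω] (a : Ω) (hn : (stabilizer G a).Normal) : stabilizer G a = ⊥ := by
  rw [eq_bot_iff]
  intro h hh
  rw [Subgroup.mem_bot]
  apply FaithfulSMul.eq_of_smul_eq_smul (α := Ω)
  intro ω
  obtain ⟨k, rfl⟩ := exists_smul_eq G a ω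
  have h1 : k⁻¹ * h * k ∈ stabilizer G a := by
    have := hn.conj_mem h hh k⁻¹
    simpa using this
  rw [mem_stabilizer_iff, mul_smul, mul_smul] at h1
  rw [one_smul]
  calc h • k • a = k • (k⁻¹ • h • k • a) := by rw [smul_inv_smul]
    _ = k • a := by rw [h1]

/-- A finite group in which the trivial subgroup is maximal is cyclic of prime order. -/
theorem cyclic_prime_of_isCoatom_bot {G : Type*} [Group G] [Finite G]
    (h : IsCoatom (⊥ : Subgroup G)) : IsCyclic G ∧ (Nat.card G).Prime := by
  have hnt : Nontrivial G := by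
    by_contra hc
    rw [not_nontrivial_iff_subsingleton] at hc
    exact h.1 (Subsingleton.elim _ _)
  have hcard : Nat.card G ≠ 1 := by
    intro h1
    have := (Nat.card_eq_one_iff_unique.mp h1).1
    exact not_subsingleton G this
  obtain ⟨p, hp, hpdvd⟩ := Nat.exists_prime_and_dvd hcard
  have : Fact p.Prime := ⟨hp⟩
  obtain ⟨x, hx⟩ := exists_prime_orderOf_dvd_card' p hpdvd
  have hx1 : Subgroup.zpowers x ≠ ⊥ := by
    intro hbot
    rw [Subgroup.zpowers_eq_bot] at hbot
    rw [hbot, orderOf_one] at hx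
    exact hp.one_lt.ne hx
  have htop : Subgroup.zpowers x = ⊤ := h.2 _ (bot_lt_iff_ne_bot.mpr hx1)
  refine ⟨⟨x, fun y => by
    have : y ∈ Subgroup.zpowers x := by rw [htop]; trivial
    exact this⟩, ?_⟩
  rw [← Subgroup.card_top, ← htop, Nat.card_zpowers, hx]
  exact hp

end Cfsg.Agent.Helper4
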