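import Mathlib
import Cfsg.Agent.Helper4.PrimitiveBasic

set_option autoImplicit false

namespace Cfsg.Agent.Helper4

theorem mem_frattini_iff {G : Type*} [Group G] (x : G) :
    x ∈ frattini G ↔ ∀ M : Subgroup G, IsCoatom M → x ∈ M := by
  unfold frattini Order.radical
  simp only [Subgroup.mem_iInf, Set.mem_ofPred_eq]

/-- In a finite `p`-group, a maximal subgroup is normal with cyclic quotient of order `p`. -/
theorem pgroup_coatom {P : Type*} [Group P] [Finite P] {p : ℕ} [Fact p.Prime] (hP : IsPGroup p P)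
    (M : Subgroup P) (hM : IsCoatom M) :
    M.Normal ∧ (∀ x : P, x ^ p ∈ M) ∧ ∀ x y : P, x * y * x⁻¹ * y⁻¹ ∈ M := by
  have hp : p.Prime := Fact.out
  have hnil : Group.IsNilpotent P := hP.isNilpotent
  have hMn : M.Normal :=
    Subgroup.NormalizerCondition.normal_of_coatom M Group.normalizerCondition_of_isNilpotent hM
  refine ⟨hMn, ?_⟩
  have hsurj := QuotientGroup.mk'_surjective M
  have hbot : IsCoatom (⊥ : Subgroup (P ⧸ M)) := by
    constructor
    · intro h
      apply hM.1
      have h1 : (⊥ : Subgroup (P ⧸ M)).comap (QuotientGroup.mk' M) =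
          (⊤ : Subgroup (P ⧸ M)).comap (QuotientGroup.mk' M) := by rw [h]
      rw [Subgroup.comap_top] at h1
      have h2 : (⊥ : Subgroup (P ⧸ M)).comap (QuotientGroup.mk' M) = (QuotientGroup.mk' M).ker := rfl
      rw [h2, QuotientGroup.ker_mk'] at h1
      exact h1
    · intro L hL
      have hker : (QuotientGroup.mk' M).ker ≤ L.comap (QuotientGroup.mk' M) :=
        Subgroup.ker_le_comap _ _
      rw [QuotientGroup.ker_mk'] at hker
      have hne : M ≠ L.comap (QuotientGroup.mk' M) := by
        intro h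
        apply hL.ne'
        rw [← Subgroup.map_comap_eq_self_of_surjective hsurj L, ← h, eq_bot_iff]
        rintro _ ⟨x, hx, rfl⟩
        rw [Subgroup.mem_bot]
        exact (QuotientGroup.eq_one_iff x).mpr hx
      have h2 := hM.2 _ (lt_of_le_of_ne hker hne)
      rw [← Subgroup.map_comap_eq_self_of_surjective hsurj L, h2, ← MonoidHom.range_eq_map,
        MonoidHom.range_eq_top.mpr hsurj]
  obtain ⟨hcyc, hprime⟩ := cyclic_prime_of_isCoatom_bot hbot
  have hcardq : Nat.card (P ⧸ M) = p := by
    obtain ⟨n, hn⟩ := IsPGroup.iff_card.mp hP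
    have h1 : Nat.card (P ⧸ M) ∣ p ^ n := by
      rw [← hn, ← Subgroup.index_eq_card]; exact Subgroup.index_dvd_card M
    exact (Nat.prime_dvd_prime_iff_eq hprime hp).mp (hprime.dvd_of_dvd_pow h1)
  constructor
  · intro x
    rw [← QuotientGroup.eq_one_iff, QuotientGroup.mk_pow, ← hcardq]
    exact pow_card_eq_one'
  · intro x y
    rw [← QuotientGroup.eq_one_iff]
    have hc : ∀ a b : P ⧸ M, a * b = b * a := by
      intro a b
      have := hcyc.commGroup.mul_comm a b
      exact this
    simp only [QuotientGroup.mk_mul, QuotientGroup.mk_inv]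
    rw [hc (x : P ⧸ M) (y : P ⧸ M)]
    group

theorem pgroup_pow_mem_frattini {P : Type*} [Group P] [Finite P] {p : ℕ} [Fact p.Prime]
    (hP : IsPGroup p P) (x : P) : x ^ p ∈ frattini P := by
  rw [mem_frattini_iff]
  intro M hM
  exact (pgroup_coatom hP M hM).2.1 x

theorem pgroup_commutator_mem_frattini {P : Type*} [Group P] [Finite P] {p : ℕ} [Fact p.Prime]
    (hP : IsPGroup p P) (x y : P) : x * y * x⁻¹ * y⁻¹ ∈ frattini P := by
  rw [mem_frattini_iff]
  intro M hM
  exact (pgroup_coatom hP M hM).2.2 x y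

end Cfsg.Agent.Helper4
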