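import Mathlib
import Cfsg.Prelude
import Cfsg.Agent.Helper1.BGXj
import Cfsg.Agent.Lead.BG11c
import Cfsg.Agent.Lead.BG12b

set_option autoImplicit false

/-!
Bender–Glauberman §10, after Theorem 10.8: subgroups for the primes of `β(M)`
(our reconstruction of Lemmas 10.9 and 10.10).
-/

namespace Cfsg.Agent.Helper4.BG10

open Cfsg Cfsg.Agent.Helper1 Cfsg.Agent.Helper2 Cfsg.Agent.Helper1.BGT Cfsg.Agent.Helper1.BGU
  Cfsg.Agent.Helper1.BGV Cfsg.Agent.Helper1.BGW Cfsg.Agent.Helper1.BGX Cfsg.Agent.Lead.BG12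
open scoped commutatorElement Pointwise

universe u

variable {G : Type u} [Group G] [Finite G]

/-- For an ideal prime `p` and a Sylow `p`-subgroup `P` of `G`, the centralizer in `P` of an
element of order `p` of `P` has `p`-rank at least three. -/
theorem hasEA_inf_centralizer_of_ideal {p : ℕ} [hp : Fact p.Prime] (hβ : Cfsg.IsIdealPrime p G)
    (P : Sylow p G) {x : G} (hxP : x ∈ (P : Subgroup G)) (hx1 : x ≠ 1) (hxp : x ^ p = 1) :
    HasEA p 2 ((P : Subgroup G) ⊓ Subgroup.centralizer ({x} : Set G)) := by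
  have hP1 : (P : Subgroup G) ≠ ⊥ := fun h => hx1 (by rw [h, Subgroup.mem_bot] at hxP; exact hxP)
  obtain ⟨z₀, hz₀, hz₀1, hz₀p⟩ := exists_central_of_order P.2 hP1
  by_cases hxZ : x ∈ Subgroup.zpowers z₀
  · -- `x` is central in `P`
    have hPle : (P : Subgroup G) ≤ Subgroup.centralizer ({x} : Set G) := by
      intro g hg
      rw [Subgroup.mem_centralizer_singleton_iff]
      obtain ⟨k, rfl⟩ := Subgroup.mem_zpowers_iff.mp hxZ
      have h1 : Commute g z₀ := Subgroup.mem_centralizer_iff.mp hz₀.2 g hg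
      exact (h1.zpow_right k).eq
    rw [inf_eq_left.mpr hPle]
    apply hasEA_of_not_pRankLE
    intro h
    exact hβ.2.1 (pRankLE_of_sylow P h)
  · -- `⟨x, z₀⟩` has order `p²`
    set Q' : Subgroup G := (P : Subgroup G) ⊓ Subgroup.centralizer ({x} : Set G) with hQ'
    have hxQ' : x ∈ Q' := Subgroup.mem_inf.mpr ⟨hxP, Subgroup.mem_centralizer_singleton_iff.mpr rfl⟩
    have hz₀Q' : z₀ ∈ Q' := Subgroup.mem_inf.mpr ⟨hz₀.1, Subgroup.mem_centralizer_singleton_iff.mpr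
      (Subgroup.mem_centralizer_iff.mp hz₀.2 x hxP).symm⟩
    have hz₀c : z₀ ∈ Subgroup.centralizer (Q' : Set G) := by
      rw [Subgroup.mem_centralizer_iff]
      intro g hg
      exact Subgroup.mem_centralizer_iff.mp hz₀.2 g hg.1
    have hxc : ∀ g ∈ Q', ⁅x, g⁆ ∈ Subgroup.zpowers z₀ := by
      intro g hg
      have h1 : x * g = g * x := (Subgroup.mem_centralizer_singleton_iff.mp hg.2).symm
      have : ⁅x, g⁆ = 1 := by
        rw [commutatorElement_def, h1]; group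
      rw [this]; exact Subgroup.one_mem _
    obtain ⟨hAQ', hAe, hAcard, -⟩ :=
      sup_zpowers_props hz₀Q' hz₀c hz₀1 hz₀p hxQ' hxp hxZ hxc
    obtain ⟨B, hBP, hBe, hAB⟩ := hβ.2.2 P _ (hAQ'.trans inf_le_left) hAe hAcard
    refine ⟨B, le_inf hBP ?_, hBe, ?_⟩
    · intro b hb
      rw [Subgroup.mem_centralizer_singleton_iff]
      have hxB : x ∈ B := hAB.le (Subgroup.mem_sup_right (Subgroup.mem_zpowers x))
      have := hBe.1.is_comm.comm ⟨b, hb⟩ ⟨x, hxB⟩
      exact congrArg Subtype.val this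
    · rw [← hAcard]
      exact Cfsg.Agent.Lead.card_lt_of_lt hAB

omit [Finite G] in
theorem hasEA_weaken {p k l : ℕ} [hp : Fact p.Prime] {X : Subgroup G} (h : HasEA p k X)
    (hl : l ≤ k) : HasEA p l X := by
  obtain ⟨F, hFX, hFe, hFcard⟩ := h
  exact ⟨F, hFX, hFe, lt_of_le_of_lt (Nat.pow_le_pow_right hp.out.pos hl) hFcard⟩

/-- For an ideal prime `p` and a Sylow `p`-subgroup `P ≤ M` of `G`, the maximal subgroup `M` is the
only one containing the centralizer of an element of order `p` of `P`. -/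
theorem centralizer_singleton_unique_of_ideal (hG : Cfsg.IsMinSimpleOddOrder G) {M : Subgroup G}
    (hM : IsCoatom M) {p : ℕ} [hp : Fact p.Prime] (hβ : Cfsg.IsIdealPrime p G)
    (P : Sylow p G) (hPM : (P : Subgroup G) ≤ M) {x : G} (hxP : x ∈ (P : Subgroup G))
    (hx1 : x ≠ 1) (hxp : x ^ p = 1) (L : Subgroup G) (hL : IsCoatom L)
    (hxL : (P : Subgroup G) ⊓ Subgroup.centralizer ({x} : Set G) ≤ L) : L = M := by
  have hEA := hasEA_inf_centralizer_of_ideal hβ P hxP hx1 hxp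
  have hKtop : (P : Subgroup G) ⊓ Subgroup.centralizer ({x} : Set G) ≠ ⊤ := by
    intro h
    have : (⊤ : Subgroup G) ≤ M := h ▸ (inf_le_left.trans hPM)
    exact hM.1 (top_le_iff.mp this)
  have hU := thm96 hG _ hKtop (not_rankLE_of_hasEA hp.out (hasEA_weaken hEA (by norm_num)))
    (Or.inl (not_rankLE_of_hasEA hp.out hEA))
  exact hU.unique ⟨hL, hxL⟩ ⟨hM, inf_le_left.trans hPM⟩

theorem centralizer_singleton_le_of_ideal (hG : Cfsg.IsMinSimpleOddOrder G) {M : Subgroup G}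
    (hM : IsCoatom M) {p : ℕ} [hp : Fact p.Prime] (hβ : Cfsg.IsIdealPrime p G)
    (P : Sylow p G) (hPM : (P : Subgroup G) ≤ M) {x : G} (hxP : x ∈ (P : Subgroup G))
    (hx1 : x ≠ 1) (hxp : x ^ p = 1) : Subgroup.centralizer ({x} : Set G) ≤ M := by
  obtain ⟨L, hL, hCL⟩ := exists_coatom_ge (centralizer_singleton_ne_top hG hx1)
  have := centralizer_singleton_unique_of_ideal hG hM hβ P hPM hxP hx1 hxp L hL
    (inf_le_right.trans hCL)
  rw [← this]; exact hCL

/-- A Sylow `p`-subgroup of `M`, for `p ∈ σ(M)`, containing a given `p`-subgroup of `M`, as a Sylow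
subgroup of `G`. -/
theorem exists_sylow_ge_of_mem_sigma (hG : Cfsg.IsMinSimpleOddOrder G) {M : Subgroup G}
    (hM : IsCoatom M) {p : ℕ} [hp : Fact p.Prime] (hpσ : p ∈ Cfsg.sigma M) {Y : Subgroup G}
    (hYM : Y ≤ M) (hYp : IsPGroup p ↥Y) :
    ∃ P : Sylow p G, Y ≤ (P : Subgroup G) ∧ (P : Subgroup G) ≤ M ∧
      Subgroup.normalizer (((P : Subgroup G)) : Set G) ≤ M := by
  obtain ⟨P₀, c⟩ := exists_sigCtx hG hM hpσ
  obtain ⟨T, hYT, hTM, hTp, hTcard⟩ := Cfsg.Agent.Lead.exists_le_card_eq_ppart hYp hYM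
  have hTG : Nat.card T = p ^ (Nat.card G).factorization p := by
    rw [hTcard, ← c.cardM, c.cardG]
  refine ⟨Sylow.ofCard T hTG, ?_, ?_, ?_⟩
  · rw [Sylow.coe_ofCard]; exact hYT
  · rw [Sylow.coe_ofCard]; exact hTM
  · rw [Sylow.coe_ofCard]
    exact normalizer_le_of_sylow_of_mem_sigma hG hM hpσ hTM hTp hTcard

/-- Bender–Glauberman Lemma 10.9 (our reconstruction), centralizer form: for `p ∈ σ(M)` ideal,
the centralizer of a nontrivial `p`-subgroup of `M` lies in `M`. -/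
theorem centralizer_le_of_ideal (hG : Cfsg.IsMinSimpleOddOrder G) {M : Subgroup G}
    (hM : IsCoatom M) {p : ℕ} [hp : Fact p.Prime] (hpσ : p ∈ Cfsg.sigma M)
    (hβ : Cfsg.IsIdealPrime p G) {Y : Subgroup G} (hYM : Y ≤ M) (hYp : IsPGroup p ↥Y)
    (hY1 : Y ≠ ⊥) : Subgroup.centralizer (Y : Set G) ≤ M := by
  obtain ⟨P, hYP, hPM, -⟩ := exists_sylow_ge_of_mem_sigma hG hM hpσ hYM hYp
  obtain ⟨z, hz, hz1, hzp⟩ := exists_central_of_order hYp hY1
  have h1 := centralizer_singleton_le_of_ideal hG hM hβ P hPM (hYP hz.1) hz1 hzp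
  refine le_trans ?_ h1
  apply Subgroup.centralizer_le
  intro y hy
  rw [Set.mem_singleton_iff.mp hy]
  exact hz.1

/-- Normalizer form. -/
theorem normalizer_le_of_ideal (hG : Cfsg.IsMinSimpleOddOrder G) {M : Subgroup G}
    (hM : IsCoatom M) {p : ℕ} [hp : Fact p.Prime] (hpσ : p ∈ Cfsg.sigma M)
    (hβ : Cfsg.IsIdealPrime p G) {Y : Subgroup G} (hYM : Y ≤ M) (hYp : IsPGroup p ↥Y)
    (hY1 : Y ≠ ⊥) : Subgroup.normalizer (Y : Set G) ≤ M := by
  obtain ⟨P₀, c⟩ := exists_sigCtx hG hM hpσ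
  rw [c.normalizer_eq hYM hYp hY1]
  exact sup_le inf_le_left (centralizer_le_of_ideal hG hM hpσ hβ hYM hYp hY1)

theorem mem_sigma_of_mem_beta (hG : Cfsg.IsMinSimpleOddOrder G) {M : Subgroup G}
    (hM : IsCoatom M) {p : ℕ} (hp : p ∈ Cfsg.beta M) : p ∈ Cfsg.sigma M :=
  alpha_subset_sigma hG hM hp.1

theorem isIdealPrime_of_mem_beta {M : Subgroup G} {p : ℕ} (hp : p ∈ Cfsg.beta M) :
    Cfsg.IsIdealPrime p G := hp.2

/-- Bender–Glauberman Lemma 10.9 (our reconstruction): the normalizer of a nontrivial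
`β(M)`-subgroup of `M` lies in `M`. -/
theorem normalizer_le_of_beta_subgroup (hG : Cfsg.IsMinSimpleOddOrder G) {M : Subgroup G}
    (hM : IsCoatom M) {Y : Subgroup G} (hYM : Y ≤ M) (hY1 : Y ≠ ⊥)
    (hYβ : ∀ p : ℕ, p.Prime → p ∣ Nat.card Y → p ∈ Cfsg.beta M) :
    Subgroup.normalizer (Y : Set G) ≤ M := by
  have hYsol : Group.IsSolvable ↥Y := by
    haveI : Group.IsSolvable ↥M := hG.2.2.2 M hM.1
    exact solvable_of_solvable_injective (Subgroup.inclusion_injective hYM)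
  obtain ⟨q, hq, hne⟩ := exists_pcoreOf_ne_bot hYsol hY1
  haveI := Fact.mk hq
  have hqd : q ∣ Nat.card Y :=
    (dvd_card_of_isPGroup_ne_bot (pCoreOf_isPGroup q Y) hne).trans
      (Subgroup.card_dvd_of_le (pCoreOf_le q Y))
  have hqβ := hYβ q hq hqd
  exact (normalizer_le_normalizer_pcoreOf q Y).trans
    (normalizer_le_of_ideal hG hM (mem_sigma_of_mem_beta hG hM hqβ) hqβ.2
      ((pCoreOf_le q Y).trans hYM) (pCoreOf_isPGroup q Y) hne)

/-- If `X ≠ 1` is a `p`-subgroup of `M ∩ M^g` with `p ∈ σ(M)` and `C_G(X) ≤ M`, then `g ∈ M`. -/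
theorem mem_of_le_inf_conj_of_centralizer_le (hG : Cfsg.IsMinSimpleOddOrder G) {M : Subgroup G}
    (hM : IsCoatom M) {p : ℕ} [hp : Fact p.Prime] (hpσ : p ∈ Cfsg.sigma M) {X : Subgroup G}
    (hXp : IsPGroup p ↥X) (hX1 : X ≠ ⊥) (hXM : X ≤ M) {g : G}
    (hXg : X ≤ M.map (MulAut.conj g).toMonoidHom)
    (hC : Subgroup.centralizer (X : Set G) ≤ M) : g ∈ M := by
  obtain ⟨P₀, c⟩ := exists_sigCtx hG hM hpσ
  obtain ⟨m, hm, c', hc', e⟩ := c.trans X hXM hXp hX1 g⁻¹ (by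
    intro x hx
    obtain ⟨y, hy, hyx⟩ := hXg hx
    have : g⁻¹ * x * g⁻¹⁻¹ = y := by
      rw [← hyx]; simp [MulAut.conj_apply, mul_assoc]
    rw [this]; exact hy)
  have h1 : g = c'⁻¹ * m⁻¹ := by
    have : g = (g⁻¹)⁻¹ := (inv_inv g).symm
    rw [this, e]; group
  rw [h1]
  exact M.mul_mem (M.inv_mem (hC hc')) (M.inv_mem hm)

/-- For `g ∉ M`, no prime of `β(M)` divides `|M ∩ M^g|`. -/
theorem not_dvd_card_inf_conj_of_mem_beta (hG : Cfsg.IsMinSimpleOddOrder G) {M : Subgroup G}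
    (hM : IsCoatom M) {p : ℕ} (hp : p ∈ Cfsg.beta M) {g : G} (hg : g ∉ M) :
    ¬ p ∣ Nat.card ↥(M ⊓ M.map (MulAut.conj g).toMonoidHom) := by
  intro hd
  have hpp : p.Prime := hp.1.1
  haveI := Fact.mk hpp
  obtain ⟨y, hy⟩ := exists_prime_orderOf_dvd_card' p hd
  have hy1 : (y : G) ≠ 1 := by
    intro h
    have : y = 1 := Subtype.ext h
    rw [this, orderOf_one] at hy
    exact hpp.one_lt.ne hy
  have hyp : (y : G) ^ p = 1 := by
    have h1 : y ^ p = 1 := by rw [← hy]; exact pow_orderOf_eq_one y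
    have h2 := congrArg Subtype.val h1
    rw [Subgroup.coe_pow, Subgroup.coe_one] at h2
    exact h2
  have hXp : IsPGroup p ↥(Subgroup.zpowers (y : G)) := by
    rw [IsPGroup.iff_card, Nat.card_zpowers, orderOf_eq_prime hyp hy1]
    exact ⟨1, (pow_one p).symm⟩
  have hX1 : Subgroup.zpowers (y : G) ≠ ⊥ := by
    rw [Ne, Subgroup.zpowers_eq_bot]; exact hy1
  have hpσ := mem_sigma_of_mem_beta hG hM hp
  apply hg
  exact mem_of_le_inf_conj_of_centralizer_le hG hM hpσ hXp hX1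
    (Subgroup.zpowers_le.mpr y.2.1) (Subgroup.zpowers_le.mpr y.2.2)
    (centralizer_le_of_ideal hG hM hpσ hp.2 (Subgroup.zpowers_le.mpr y.2.1) hXp hX1)

end Cfsg.Agent.Helper4.BG10
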