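import Mathlib
import Cfsg.Prelude
import Cfsg.Agent.Helper4.BG10a
import Cfsg.Agent.Helper1.ThompsonSub

set_option autoImplicit false

/-!
Bender–Glauberman §10: for `q ∈ α(M)`, noncyclic `q`-subgroups of `M` have their normalizers
in `M` (the rank-at-least-three case of Corollary 12.10(c), available already in §10).
-/

namespace Cfsg.Agent.Helper4.BG10

open Cfsg Cfsg.Agent.Helper1 Cfsg.Agent.Helper2 Cfsg.Agent.Helper1.BGT Cfsg.Agent.Helper1.BGU
  Cfsg.Agent.Helper1.BGV Cfsg.Agent.Helper1.BGW Cfsg.Agent.Helper1.BGX Cfsg.Agent.Lead.BG12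
open scoped commutatorElement Pointwise

universe u

variable {G : Type u} [Group G] [Finite G]

theorem prime_ne_two_of_ne_bot (hG : Cfsg.IsMinSimpleOddOrder G) {q : ℕ} [hq : Fact q.Prime]
    {X : Subgroup G} (hXq : IsPGroup q ↥X) (hX1 : X ≠ ⊥) : q ≠ 2 := by
  rintro rfl
  have h1 : 2 ∣ Nat.card G :=
    (dvd_card_of_isPGroup_ne_bot hXq hX1).trans (Subgroup.card_subgroup_dvd_card X)
  exact (Nat.not_even_iff_odd.mpr hG.1) (even_iff_two_dvd.mpr h1)

omit [Finite G] in
theorem ne_bot_of_not_isCyclic {X : Subgroup G} (h : ¬ IsCyclic ↥X) : X ≠ ⊥ := by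
  rintro rfl
  exact h inferInstance

/-- A Sylow `q`-subgroup of `G` inside `M`, for `q ∈ α(M)`, has rank at least three. -/
theorem not_pRankLE_sylow_of_mem_alpha {M : Subgroup G} {q : ℕ} [hq : Fact q.Prime]
    (hqα : q ∈ Cfsg.alpha M) (Q : Sylow q G) : ¬ Cfsg.PRankLE q 2 ↥(Q : Subgroup G) := by
  intro h
  apply hqα.2
  exact Cfsg.Agent.Helper2.pRankLE_of_injective q 2 M.subtype M.subtype_injective
    (pRankLE_of_sylow Q h)

/-- The centralizer of an elementary abelian subgroup of order `q²` of `M` lies in `M` when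
`q ∈ α(M)`. -/
theorem centralizer_le_of_ea2_of_mem_alpha (hG : Cfsg.IsMinSimpleOddOrder G) {M : Subgroup G}
    (hM : IsCoatom M) {q : ℕ} [hq : Fact q.Prime] (hqα : q ∈ Cfsg.alpha M) {A : Subgroup G}
    (hAM : A ≤ M) (hAe : Cfsg.IsElementaryAbelian q A) (hAcard : Nat.card A = q ^ 2) :
    Subgroup.centralizer (A : Set G) ≤ M := by
  have hqσ := alpha_subset_sigma hG hM hqα
  have hAq : IsPGroup q ↥A := isPGroup_of_elementary hAe
  have hA1 : A ≠ ⊥ := by
    rintro rfl
    rw [Subgroup.card_bot] at hAcard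
    have := Nat.one_lt_pow (n := 2) (by norm_num) hq.out.one_lt
    omega
  obtain ⟨Q, hAQ, hQM, -⟩ := exists_sylow_ge_of_mem_sigma hG hM hqσ hAM hAq
  have hQ3 := not_pRankLE_sylow_of_mem_alpha hqα Q
  have hQea : HasEA q 2 (Q : Subgroup G) := hasEA_of_not_pRankLE hQ3
  have hQtop : (Q : Subgroup G) ≠ ⊤ := sylow_ne_top hG q _ Q.2
  have hQU : Cfsg.InUniqueMaximal (Q : Subgroup G) :=
    thm96 hG _ hQtop (not_rankLE_of_hasEA hq.out (hasEA_weaken hQea (by norm_num)))
      (Or.inl (not_rankLE_of_hasEA hq.out hQea))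
  have hCtop := centralizer_ne_top_of_ne_bot hG hA1
  by_cases h3 : HasEA q 2 ((Q : Subgroup G) ⊓ Subgroup.centralizer (A : Set G))
  · have hKtop : (Q : Subgroup G) ⊓ Subgroup.centralizer (A : Set G) ≠ ⊤ := by
      intro h
      exact hQtop (top_le_iff.mp (h ▸ inf_le_left))
    have hKU := thm96 hG _ hKtop (not_rankLE_of_hasEA hq.out (hasEA_weaken h3 (by norm_num)))
      (Or.inl (not_rankLE_of_hasEA hq.out h3))
    obtain ⟨L, hL, hCL⟩ := exists_coatom_ge hCtop
    have h : L = M := hKU.unique ⟨hL, inf_le_right.trans hCL⟩ ⟨hM, inf_le_left.trans hQM⟩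
    rw [← h]; exact hCL
  · -- `A` contains a central element of order `q` of `Q`
    have hQ1 : (Q : Subgroup G) ≠ ⊥ := fun h => hA1 (le_bot_iff.mp (h ▸ hAQ))
    obtain ⟨z, hz, hz1, hzq⟩ := exists_central_of_order Q.2 hQ1
    have hzA : z ∈ A := by
      by_contra hzA
      apply h3
      have hZe : Cfsg.IsElementaryAbelian q (Subgroup.zpowers z) := by
        refine ⟨inferInstance, ?_⟩
        intro a ha
        obtain ⟨k, rfl⟩ := Subgroup.mem_zpowers_iff.mp ha
        rw [← zpow_natCast, ← zpow_mul, mul_comm, zpow_mul, zpow_natCast, hzq, one_zpow]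
      have hZc : Subgroup.zpowers z ≤ Subgroup.centralizer (A : Set G) := by
        rw [Subgroup.zpowers_le, Subgroup.mem_centralizer_iff]
        intro a ha
        exact Subgroup.mem_centralizer_iff.mp hz.2 a (hAQ ha)
      refine ⟨A ⊔ Subgroup.zpowers z, ?_, Cfsg.Agent.Helper1.IsElementaryAbelian_sup hAe hZe hZc, ?_⟩
      · refine sup_le (le_inf hAQ (le_centralizer_of_elementary hAe)) ?_
        exact le_inf (Subgroup.zpowers_le.mpr hz.1) hZc
      · rw [← hAcard]
        apply Cfsg.Agent.Lead.card_lt_of_lt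
        refine lt_of_le_of_ne le_sup_left ?_
        intro h
        apply hzA
        rw [h]
        exact Subgroup.mem_sup_right (Subgroup.mem_zpowers z)
    have hQC : (Q : Subgroup G) ≤ Subgroup.centralizer ({z} : Set G) := by
      intro g hg
      rw [Subgroup.mem_centralizer_singleton_iff]
      exact Subgroup.mem_centralizer_iff.mp hz.2 g hg
    have hCz : Subgroup.centralizer (A : Set G) ≤ Subgroup.centralizer ({z} : Set G) := by
      apply Subgroup.centralizer_le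
      intro y hy
      rw [Set.mem_singleton_iff.mp hy]; exact hzA
    obtain ⟨L', hL', hzL'⟩ := exists_coatom_ge (centralizer_singleton_ne_top hG hz1)
    have hL'M : L' = M := hQU.unique ⟨hL', hQC.trans hzL'⟩ ⟨hM, hQM⟩
    exact hL'M ▸ (hCz.trans hzL')

/-- For `q ∈ α(M)`, the centralizer of a noncyclic `q`-subgroup of `M` lies in `M`. -/
theorem centralizer_le_of_noncyclic_of_mem_alpha (hG : Cfsg.IsMinSimpleOddOrder G)
    {M : Subgroup G} (hM : IsCoatom M) {q : ℕ} [hq : Fact q.Prime] (hqα : q ∈ Cfsg.alpha M)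
    {P₀ : Subgroup G} (hP₀M : P₀ ≤ M) (hP₀q : IsPGroup q ↥P₀) (hnc : ¬ IsCyclic ↥P₀) :
    Subgroup.centralizer (P₀ : Set G) ≤ M := by
  have hq2 : q ≠ 2 := prime_ne_two_of_ne_bot hG hP₀q (ne_bot_of_not_isCyclic hnc)
  obtain ⟨A, hAP₀, hAe, hAcard, -⟩ := exists_normal_ea2 hq2 hP₀q hnc
  exact (Subgroup.centralizer_le hAP₀).trans
    (centralizer_le_of_ea2_of_mem_alpha hG hM hqα (hAP₀.trans hP₀M) hAe hAcard)

/-- For `q ∈ α(M)`, the normalizer of a noncyclic `q`-subgroup of `M` lies in `M`. -/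
theorem normalizer_le_of_noncyclic_of_mem_alpha (hG : Cfsg.IsMinSimpleOddOrder G)
    {M : Subgroup G} (hM : IsCoatom M) {q : ℕ} [hq : Fact q.Prime] (hqα : q ∈ Cfsg.alpha M)
    {P₀ : Subgroup G} (hP₀M : P₀ ≤ M) (hP₀q : IsPGroup q ↥P₀) (hnc : ¬ IsCyclic ↥P₀) :
    Subgroup.normalizer (P₀ : Set G) ≤ M := by
  obtain ⟨P, c⟩ := exists_sigCtx hG hM (alpha_subset_sigma hG hM hqα)
  rw [c.normalizer_eq hP₀M hP₀q (ne_bot_of_not_isCyclic hnc)]
  exact sup_le inf_le_left (centralizer_le_of_noncyclic_of_mem_alpha hG hM hqα hP₀M hP₀q hnc)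

end Cfsg.Agent.Helper4.BG10
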