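import Mathlib
import Cfsg.Prelude
import Cfsg.Agent.Lead.BG11c
import Cfsg.Agent.Helper4.BG10a

set_option autoImplicit false
set_option linter.unusedSectionVars false
set_option linter.unusedVariables false

/-!
Bender–Glauberman, Section 11: Corollary 11.4 in the case `p ∈ σ(H)`.

If `M` is exceptional for `(p, A₀, A)` and `H` is a maximal subgroup containing `A`, not conjugate
to `M`, with `p ∈ σ(H)`, then `M_σ ∩ H = 1`.
-/

namespace Cfsg.Agent.Helper4.BG11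

open Cfsg Cfsg.Agent.Helper1 Cfsg.Agent.Helper2 Cfsg.Agent.Helper1.BGT Cfsg.Agent.Helper1.BGU
  Cfsg.Agent.Helper1.BGV Cfsg.Agent.Helper1.BGW Cfsg.Agent.Helper1.BGX Cfsg.Agent.Lead.BG12
  Cfsg.Agent.Helper4.BG10
open scoped commutatorElement Pointwise

universe u

variable {G : Type u} [Group G] [Finite G]

/-- When `M_σ` is nilpotent, the Sylow subgroups of `M` for the primes of `σ(M)` are normal in
`M`, so their normalizer is exactly `M`. -/
theorem normalizer_eq_of_isNilpotent_sigmaCore {M : Subgroup G} {r : ℕ} [hr : Fact r.Prime]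
    {Q : Subgroup G} (c : SigCtx M r Q) (hnil : Group.IsNilpotent ↥(Cfsg.sigmaCore M)) :
    Subgroup.normalizer (Q : Set G) = M := by
  have hQK : Q ≤ Cfsg.sigmaCore M := c.le_sigmaCore
  have hKM : Cfsg.sigmaCore M ≤ M := sigmaCore_le
  have hnd : ¬ r ∣ Q.relIndex (Cfsg.sigmaCore M) := by
    intro hd
    apply c.not_dvd_relIndex
    rw [← Subgroup.relIndex_mul_relIndex Q (Cfsg.sigmaCore M) M hQK hKM]
    exact Dvd.dvd.mul_right hd _
  have hcop : (Nat.card Q).Coprime (Q.relIndex (Cfsg.sigmaCore M)) := by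
    rw [c.cardG]
    exact Nat.Coprime.pow_left _ ((Nat.Prime.coprime_iff_not_dvd hr.out).mpr hnd)
  have hnorm : (Q.subgroupOf (Cfsg.sigmaCore M)).Normal := by
    apply normal_of_hall_of_isNilpotent
    rw [Cfsg.Agent.Lead.card_subgroupOf_of_le hQK]
    exact hcop
  have hKN : Cfsg.sigmaCore M ≤ Subgroup.normalizer (Q : Set G) :=
    (Subgroup.normal_subgroupOf_iff_le_normalizer hQK).mp hnorm
  apply le_antisymm c.norm
  intro m hm
  apply mem_normalizer_of_map_conj_eq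
  apply Subgroup.eq_of_le_of_card_ge
  · rintro _ ⟨x, hx, rfl⟩
    have hxK : x ∈ Cfsg.sigmaCore M := hQK hx
    have hyK : m * x * m⁻¹ ∈ Cfsg.sigmaCore M :=
      (Subgroup.mem_normalizer_iff.mp (le_normalizer_sigmaCore M hm) x).mp hxK
    apply mem_of_pow_eq_one_of_coprime_relIndex hKN hcop hyK
    show (MulAut.conj m x) ^ Nat.card Q = 1
    rw [← map_pow]
    have : x ^ Nat.card Q = 1 := pow_card_eq_one_of_mem hx
    rw [this, map_one]
  · rw [Subgroup.card_map_of_injective (MulAut.conj m).injective]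

/-- When `M_σ` is nilpotent and `H` is not conjugate to `M`, the sets `σ(M)` and `σ(H)` are
disjoint. -/
theorem not_mem_sigma_of_isNilpotent_sigmaCore (hG : Cfsg.IsMinSimpleOddOrder G)
    {M H : Subgroup G} (hM : IsCoatom M) (hH : IsCoatom H)
    (hnil : Group.IsNilpotent ↥(Cfsg.sigmaCore M))
    (hnc : ∀ x : G, H ≠ MulAut.conj x • M) {r : ℕ} (hrM : r ∈ Cfsg.sigma M) :
    r ∉ Cfsg.sigma H := by
  intro hrH
  have := Fact.mk hrM.1
  obtain ⟨Q, c⟩ := exists_sigCtx hG hM hrM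
  obtain ⟨R, c'⟩ := exists_sigCtx hG hH hrH
  have hNQ := normalizer_eq_of_isNilpotent_sigmaCore c hnil
  obtain ⟨g, hg⟩ := Cfsg.Agent.Lead.exists_conj_le_sylow (Sylow.ofCard R c'.cardG) Q c.pgroup
  rw [Sylow.coe_ofCard] at hg
  have hcard : Nat.card R ≤ Nat.card ↥(Q.map (MulAut.conj g).toMonoidHom) := by
    rw [Subgroup.card_map_of_injective (MulAut.conj g).injective, c.cardG, c'.cardG]
  have heq : Q.map (MulAut.conj g).toMonoidHom = R := Subgroup.eq_of_le_of_card_ge hg hcard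
  have h1 : MulAut.conj g • M ≤ H := by
    have h2 := c'.norm
    rw [← heq, Cfsg.Agent.Lead.normalizer_map_conj, hNQ] at h2
    exact h2
  have h3 : M ≤ MulAut.conj g⁻¹ • H := by
    have := conj_smul_mono (k := g⁻¹) h1
    rw [conj_smul_inv_smul] at this
    exact this
  have h4 : MulAut.conj g⁻¹ • H ≠ ⊤ := by
    intro htop
    apply hH.1
    apply Subgroup.eq_top_of_card_eq
    rw [← card_conj_smul g⁻¹ H, htop, Subgroup.card_top]
  have h5 : M = MulAut.conj g⁻¹ • H := by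
    rcases eq_or_lt_of_le h3 with h | h
    · exact h
    · exact absurd (hM.2 _ h) h4
  apply hnc g
  rw [h5, conj_smul_smul_inv]


/-- If the orders of `M_σ` and `H_σ` have no common prime divisor, then `M_σ ∩ H_σ = 1`. -/
theorem sigmaCore_inf_sigmaCore_eq_bot {M H : Subgroup G}
    (hdisj : ∀ r : ℕ, r ∈ Cfsg.sigma M → r ∉ Cfsg.sigma H) :
    Cfsg.sigmaCore M ⊓ Cfsg.sigmaCore H = ⊥ := by
  rw [← Subgroup.card_eq_one]
  by_contra hne
  obtain ⟨r, hr, hrd⟩ := Nat.exists_prime_and_dvd hne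
  have h1 : r ∈ Cfsg.sigma M :=
    BGX.mem_sigma_of_dvd_card_sigmaCore hr (hrd.trans (Subgroup.card_dvd_of_le inf_le_left))
  have h2 : r ∈ Cfsg.sigma H :=
    BGX.mem_sigma_of_dvd_card_sigmaCore hr (hrd.trans (Subgroup.card_dvd_of_le inf_le_right))
  exact hdisj r h1 h2

/-- In a finite `p`-group `P`, a proper subgroup `T₀` is normalized by some element of `P`
outside `T₀`. -/
theorem exists_mem_normalizer_not_mem {p : ℕ} [hp : Fact p.Prime] {P T₀ : Subgroup G}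
    (hP : IsPGroup p ↥P) (hle : T₀ ≤ P) (hne : T₀ ≠ P) :
    ∃ g ∈ P, g ∉ T₀ ∧ g ∈ Subgroup.normalizer (T₀ : Set G) := by
  have : Group.IsNilpotent ↥P := hP.isNilpotent
  have hlt : T₀.subgroupOf P < ⊤ := by
    rw [lt_top_iff_ne_top, Ne, Subgroup.subgroupOf_eq_top]
    intro h
    exact hne (le_antisymm hle h)
  have h1 := Group.normalizerCondition_of_isNilpotent (G := ↥P) (T₀.subgroupOf P) hlt
  obtain ⟨n, hn, hn'⟩ := SetLike.exists_of_lt h1
  refine ⟨(n : G), n.2, ?_, ?_⟩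
  · intro h
    exact hn' (Subgroup.mem_subgroupOf.mpr h)
  · apply Subgroup.mem_normalizer_fintype
    intro x hx
    have h2 : (⟨x, hle hx⟩ : ↥P) ∈ T₀.subgroupOf P := Subgroup.mem_subgroupOf.mpr hx
    have h3 := (Subgroup.mem_normalizer_iff.mp hn ⟨x, hle hx⟩).mp h2
    exact Subgroup.mem_subgroupOf.mp h3

variable {M : Subgroup G} {p : ℕ} [hp : Fact p.Prime] {A₀ A : Subgroup G}

/-- Bender–Glauberman Corollary 11.4 in the case `p ∈ σ(H)`. -/
theorem Exc.sigmaCore_inf_eq_bot_of_mem_sigma (e : Exc M p A₀ A) {H : Subgroup G}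
    (hH : IsCoatom H) (hAH : A ≤ H) (hnc : ∀ x : G, H ≠ MulAut.conj x • M)
    (hpσ : p ∈ Cfsg.sigma H) : Cfsg.sigmaCore M ⊓ H = ⊥ := by
  have hG := e.min
  have hM := e.coatom
  have hnil := e.sigmaCore_isNilpotent
  -- `σ(M)` and `σ(H)` are disjoint
  have hdisj : ∀ r : ℕ, r ∈ Cfsg.sigma M → r ∉ Cfsg.sigma H := fun r hr =>
    not_mem_sigma_of_isNilpotent_sigmaCore hG hM hH hnil hnc hr
  have hbot := sigmaCore_inf_sigmaCore_eq_bot hdisj
  -- a Sylow `p`-subgroup of `H` (and of `G`) containing `A`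
  obtain ⟨P, hAP, hPH, hNP⟩ := exists_sylow_ge_of_mem_sigma hG hH hpσ hAH e.isPGroup
  set T₀ : Subgroup G := (P : Subgroup G) ⊓ M with hT₀
  have hAT₀ : A ≤ T₀ := le_inf hAP e.leM
  have hT₀p : IsPGroup p ↥T₀ := P.2.to_le inf_le_left
  -- an element of `H` outside `M` normalizing `T₀`
  obtain ⟨g, hgH, hgM, hgT⟩ : ∃ g ∈ H, g ∉ M ∧ g ∈ Subgroup.normalizer (T₀ : Set G) := by
    by_cases hPM : (P : Subgroup G) ≤ M
    · have hT₀P : T₀ = (P : Subgroup G) := inf_eq_left.mpr hPM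
      have hP1 : (P : Subgroup G) ≠ ⊥ := fun h => e.ne_bot (le_bot_iff.mp (h ▸ hAP))
      have hcard : Nat.card (P : Subgroup G) = p ^ (Nat.card M).factorization p := by
        apply Cfsg.Agent.Lead.card_eq_ppart_of_le hPM le_top P.2
        rw [Subgroup.card_top]
        exact P.card_eq_multiplicity
      have hN : ¬ Subgroup.normalizer ((P : Subgroup G) : Set G) ≤ M := fun h =>
        e.notσ (mem_sigma_of_normalizer_le hPM hP1 P.2 hcard h)
      obtain ⟨g, hg, hgM⟩ := SetLike.not_le_iff_exists.mp hN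
      exact ⟨g, hNP hg, hgM, hT₀P ▸ hg⟩
    · have hne : T₀ ≠ (P : Subgroup G) := fun h => hPM (h ▸ inf_le_right)
      obtain ⟨g, hgP, hgT₀, hgN⟩ := exists_mem_normalizer_not_mem P.2 inf_le_left hne
      refine ⟨g, hPH hgP, ?_, hgN⟩
      intro hgM
      exact hgT₀ ⟨hgP, hgM⟩
  have hTg : MulAut.conj g • T₀ = T₀ := conj_smul_eq_of_mem_normalizer' hgT
  have hAg : A ≤ MulAut.conj g • M := by
    calc A ≤ T₀ := hAT₀
      _ = MulAut.conj g • T₀ := hTg.symm
      _ ≤ MulAut.conj g • M := conj_smul_mono inf_le_right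
  have hfpf := e.cor112b hgM hAg
  set A₁ : Subgroup G := MulAut.conj g • A₀ with hA₁
  have hA₁T₀ : A₁ ≤ T₀ := by
    calc A₁ ≤ MulAut.conj g • T₀ := conj_smul_mono (e.le₀.trans hAT₀)
      _ = T₀ := hTg
  have hA₁M : A₁ ≤ M := hA₁T₀.trans inf_le_right
  have hA₁H : A₁ ≤ H := (hA₁T₀.trans inf_le_left).trans hPH
  have hA₁σ : A₁ ≤ Cfsg.sigmaCore H :=
    le_sigmaCore' hG hH hpσ hA₁H (hT₀p.to_le hA₁T₀)
  rw [eq_bot_iff, ← hfpf]
  refine le_inf inf_le_left ?_
  intro y hy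
  rw [Subgroup.mem_centralizer_iff]
  intro a ha
  have hyK : y ∈ Cfsg.sigmaCore M := hy.1
  have hyH : y ∈ H := hy.2
  have haK : a ∈ Cfsg.sigmaCore H := hA₁σ ha
  -- the commutator lies in `M_σ ∩ H_σ = 1`
  have hw1 : a * y * a⁻¹ * y⁻¹ ∈ Cfsg.sigmaCore M := by
    have h1 : a * y * a⁻¹ ∈ Cfsg.sigmaCore M :=
      (Subgroup.mem_normalizer_iff.mp (le_normalizer_sigmaCore M (hA₁M ha)) y).mp hyK
    exact Subgroup.mul_mem _ h1 (Subgroup.inv_mem _ hyK)
  have hw2 : a * y * a⁻¹ * y⁻¹ ∈ Cfsg.sigmaCore H := by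
    have h1 : y * a⁻¹ * y⁻¹ ∈ Cfsg.sigmaCore H :=
      (Subgroup.mem_normalizer_iff.mp (le_normalizer_sigmaCore H hyH) a⁻¹).mp
        (Subgroup.inv_mem _ haK)
    have : a * y * a⁻¹ * y⁻¹ = a * (y * a⁻¹ * y⁻¹) := by group
    rw [this]
    exact Subgroup.mul_mem _ haK h1
  have hw : a * y * a⁻¹ * y⁻¹ = 1 := by
    have : a * y * a⁻¹ * y⁻¹ ∈ Cfsg.sigmaCore M ⊓ Cfsg.sigmaCore H := ⟨hw1, hw2⟩
    rw [hbot, Subgroup.mem_bot] at this
    exact this
  calc a * y = (a * y * a⁻¹ * y⁻¹) * (y * a) := by group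
    _ = y * a := by rw [hw, one_mul]

end Cfsg.Agent.Helper4.BG11
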