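import Mathlib
import Cfsg.Prelude
import Cfsg.Agent.Helper4.BG11x
import Cfsg.Agent.Helper4.BG10b

set_option autoImplicit false
set_option linter.unusedSectionVars false
set_option linter.unusedVariables false

/-!
Bender–Glauberman Lemma 12.3(a) in the case `p ∈ σ(M*)`: a `p`-subgroup `A` of `M ∩ L` with
`p ∈ σ(L)`, `p ∉ σ(M)` and `L` not conjugate to `M` centralizes `M_σ ∩ L`.
-/

namespace Cfsg.Agent.Helper4.BG11

open Cfsg Cfsg.Agent.Helper1 Cfsg.Agent.Helper2 Cfsg.Agent.Helper1.BGT Cfsg.Agent.Helper1.BGU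
  Cfsg.Agent.Helper1.BGV Cfsg.Agent.Helper1.BGW Cfsg.Agent.Helper1.BGX Cfsg.Agent.Lead.BG12
  Cfsg.Agent.Helper4.BG10
open scoped commutatorElement Pointwise

universe u

variable {G : Type u} [Group G] [Finite G]

/-- A prime of `σ(M)` is not in `α(L)` when `L` is not conjugate to `M`. -/
theorem not_mem_alpha_of_mem_sigma_of_not_conj (hG : Cfsg.IsMinSimpleOddOrder G)
    {M L : Subgroup G} (hM : IsCoatom M) (hL : IsCoatom L)
    (hnc : ∀ x : G, L ≠ MulAut.conj x • M) {r : ℕ} (hrM : r ∈ Cfsg.sigma M) :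
    r ∉ Cfsg.alpha L := by
  intro hrα
  have := Fact.mk hrM.1
  have hrL : r ∈ Cfsg.sigma L := alpha_subset_sigma hG hL hrα
  obtain ⟨Q, c⟩ := exists_sigCtx hG hM hrM
  obtain ⟨R, c'⟩ := exists_sigCtx hG hL hrL
  obtain ⟨g, hg⟩ := Cfsg.Agent.Lead.exists_conj_le_sylow (Sylow.ofCard R c'.cardG) Q c.pgroup
  rw [Sylow.coe_ofCard] at hg
  have hcard : Nat.card R ≤ Nat.card ↥(Q.map (MulAut.conj g).toMonoidHom) := by
    rw [Subgroup.card_map_of_injective (MulAut.conj g).injective, c.cardG, c'.cardG]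
  have heq : Q.map (MulAut.conj g).toMonoidHom = R := Subgroup.eq_of_le_of_card_ge hg hcard
  have hRgM : R ≤ MulAut.conj g • M := by
    rw [← heq, ← conj_smul_eq_map]
    exact conj_smul_mono c.le
  have hR3 : ¬ Cfsg.PRankLE r 2 ↥R := by
    have := not_pRankLE_sylow_of_mem_alpha hrα (Sylow.ofCard R c'.cardG)
    rw [Sylow.coe_ofCard] at this
    exact this
  have hRea : HasEA r 2 R := hasEA_of_not_pRankLE hR3
  have hRtop : R ≠ ⊤ := sylow_ne_top hG r _ c'.pgroup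
  have hRU : Cfsg.InUniqueMaximal R :=
    thm96 hG _ hRtop (not_rankLE_of_hasEA hrM.1 (hasEA_weaken hRea (by norm_num)))
      (Or.inl (not_rankLE_of_hasEA hrM.1 hRea))
  exact hnc g (hRU.unique ⟨hL, c'.le⟩ ⟨isCoatom_conj_smul g hM, hRgM⟩)

/-- A `p`-subgroup `A` of `L'` commutes with every `A`-invariant `r`-subgroup of `L`, for a prime
`r ≠ p` outside `α(L)`. -/
theorem commute_of_le_commutator_of_not_mem_alpha (hG : Cfsg.IsMinSimpleOddOrder G)
    {L : Subgroup G} (hL : IsCoatom L) {p r : ℕ} [hp : Fact p.Prime] (hr : r.Prime)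
    (hrp : r ≠ p) (hrα : r ∉ Cfsg.alpha L) {A W : Subgroup G} (hAp : IsPGroup p ↥A)
    (hAL : A ≤ L) (hAc : A ≤ ⁅L, L⁆) (hWL : W ≤ L) (hWr : IsPGroup r ↥W)
    (hAW : A ≤ Subgroup.normalizer (W : Set G)) {a w : G} (ha : a ∈ A) (hw : w ∈ W) :
    a * w = w * a := by
  have : Group.IsSolvable ↥L := hG.2.2.2 L hL.1
  have hodd : Odd (Nat.card L) := Odd.of_dvd_nat hG.1 (Subgroup.card_subgroup_dvd_card L)
  have hA' : A.subgroupOf L ≤ commutator ↥L := by
    intro x hx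
    have h2 := hAc (Subgroup.mem_subgroupOf.mp hx)
    rw [← Subgroup.map_subtype_commutator] at h2
    obtain ⟨v, hv, hvx⟩ := h2
    rw [← Subtype.ext hvx]; exact hv
  have hle := le_comap_pCore_of_le_commutator hodd (Cfsg.alpha L)
    (fun q hq hqα => pRankLE_of_not_mem_alpha hq hqα) (p := p) hAp.comap_subtype hA'
  obtain ⟨T, hT⟩ : ∃ T : Subgroup ↥L, T = (Cfsg.pCore p (↥L ⧸ Cfsg.piCore (Cfsg.alpha L) ↥L)).comap
      (QuotientGroup.mk' (Cfsg.piCore (Cfsg.alpha L) ↥L)) := ⟨_, rfl⟩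
  rw [← hT] at hle
  have hTn : T.Normal := by rw [hT]; infer_instance
  -- `r` does not divide `|T|`
  have hrT : ¬ r ∣ Nat.card T := by
    intro hd
    rw [hT, card_comap_mk'] at hd
    rcases (Nat.Prime.dvd_mul hr).mp hd with h | h
    · exact hrα (piCore_isPi _ r hr h)
    · obtain ⟨k, hk⟩ := IsPGroup.iff_card.mp
        (Cfsg.Agent.Helper1.pCore_isPGroup (G := ↥L ⧸ Cfsg.piCore (Cfsg.alpha L) ↥L) p)
      rw [hk] at h
      exact hrp ((Nat.prime_dvd_prime_iff_eq hr hp.out).mp (hr.dvd_of_dvd_pow h))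
  set a' : ↥L := ⟨a, hAL ha⟩ with ha'
  set w' : ↥L := ⟨w, hWL hw⟩ with hw'
  have haT : a' ∈ T := hle (Subgroup.mem_subgroupOf.mpr ha)
  have hcT : a' * w' * a'⁻¹ * w'⁻¹ ∈ T := by
    have h1 : w' * a'⁻¹ * w'⁻¹ ∈ T := hTn.conj_mem _ (T.inv_mem haT) w'
    have : a' * w' * a'⁻¹ * w'⁻¹ = a' * (w' * a'⁻¹ * w'⁻¹) := by group
    rw [this]
    exact T.mul_mem haT h1
  have hcW : a * w * a⁻¹ * w⁻¹ ∈ W := by
    have h1 : a * w * a⁻¹ ∈ W := (Subgroup.mem_normalizer_iff.mp (hAW ha) w).mp hw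
    exact W.mul_mem h1 (W.inv_mem hw)
  -- the order of the commutator divides two coprime numbers
  have h1 : (a * w * a⁻¹ * w⁻¹) ^ Nat.card W = 1 := pow_card_eq_one_of_mem hcW
  have h2 : (a * w * a⁻¹ * w⁻¹) ^ Nat.card T = 1 := by
    have h3 : (a' * w' * a'⁻¹ * w'⁻¹) ^ Nat.card ↥T = 1 := pow_card_eq_one_of_mem hcT
    have h4 := congrArg L.subtype h3
    rw [map_pow, map_one] at h4
    exact h4
  have hcop : (Nat.card W).Coprime (Nat.card T) := by
    have := Fact.mk hr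
    obtain ⟨k, hk⟩ := IsPGroup.iff_card.mp hWr
    rw [hk]
    exact Nat.Coprime.pow_left _ ((Nat.Prime.coprime_iff_not_dvd hr).mpr hrT)
  have hc1 : a * w * a⁻¹ * w⁻¹ = 1 := by
    have hd : orderOf (a * w * a⁻¹ * w⁻¹) ∣ Nat.gcd (Nat.card W) (Nat.card T) :=
      Nat.dvd_gcd (orderOf_dvd_of_pow_eq_one h1) (orderOf_dvd_of_pow_eq_one h2)
    rw [hcop] at hd
    exact orderOf_eq_one_iff.mp (Nat.dvd_one.mp hd)
  calc a * w = (a * w * a⁻¹ * w⁻¹) * (w * a) := by group
    _ = w * a := by rw [hc1, one_mul]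


/-- Bender–Glauberman Lemma 12.3(a) in the case `p ∈ σ(L)`: a `p`-subgroup `A` of `M ∩ L`, with
`p ∈ σ(L)`, `p ∉ σ(M)` and `L` not conjugate to `M`, centralizes `M_σ ∩ L`. -/
theorem sigmaCore_inf_le_centralizer_of_mem_sigma (hG : Cfsg.IsMinSimpleOddOrder G)
    {M L : Subgroup G} (hM : IsCoatom M) (hL : IsCoatom L)
    (hnc : ∀ x : G, L ≠ MulAut.conj x • M) {p : ℕ} [hp : Fact p.Prime] {A : Subgroup G}
    (hAp : IsPGroup p ↥A) (hAM : A ≤ M) (hAL : A ≤ L) (hpL : p ∈ Cfsg.sigma L)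
    (hpM : p ∉ Cfsg.sigma M) :
    Cfsg.sigmaCore M ⊓ L ≤ Subgroup.centralizer (A : Set G) := by
  set Y : Subgroup G := Cfsg.sigmaCore M ⊓ L with hY
  have hAY : A ≤ Subgroup.normalizer (Y : Set G) :=
    le_normalizer_inf (hAM.trans (le_normalizer_sigmaCore M)) (hAL.trans Subgroup.le_normalizer)
  have hAσ : A ≤ Cfsg.sigmaCore L := le_sigmaCore' hG hL hpL hAL hAp
  have hAc : A ≤ ⁅L, L⁆ := hAσ.trans (sigmaCore_le_commutator hG hL)
  have hpY : ¬ p ∣ Nat.card Y := fun hd =>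
    hpM (BGX.mem_sigma_of_dvd_card_sigmaCore hp.out (hd.trans (Subgroup.card_dvd_of_le inf_le_left)))
  have hcopAY : (Nat.card A).Coprime (Nat.card Y) := by
    obtain ⟨k, hk⟩ := IsPGroup.iff_card.mp hAp
    rw [hk]
    exact Nat.Coprime.pow_left _ ((Nat.Prime.coprime_iff_not_dvd hp.out).mpr hpY)
  have hsolvA : Group.IsSolvable ↥A := hG.2.2.2 A (sylow_ne_top hG p A hAp)
  set C : Subgroup G := Y ⊓ Subgroup.centralizer (A : Set G) with hC
  have hfac : ∀ r : ℕ, r.Prime → (Nat.card Y).factorization r ≤ (Nat.card C).factorization r := by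
    intro r hr
    by_cases hrd : r ∣ Nat.card Y
    · have hrσ : r ∈ Cfsg.sigma M :=
        BGX.mem_sigma_of_dvd_card_sigmaCore hr (hrd.trans (Subgroup.card_dvd_of_le inf_le_left))
      have hrp : r ≠ p := by
        rintro rfl
        exact hpY hrd
      have hrα : r ∉ Cfsg.alpha L := not_mem_alpha_of_mem_sigma_of_not_conj hG hM hL hnc hrσ
      have := Fact.mk hr
      obtain ⟨P₀, hAP₀⟩ := exists_invariant_sylow (p := r) A Y hAY hcopAY (Or.inl hsolvA)
      set W : Subgroup G := (P₀ : Subgroup ↥Y).map Y.subtype with hW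
      have hWY : W ≤ Y := Subgroup.map_subtype_le _
      have hWr : IsPGroup r ↥W := P₀.2.map _
      have hWcard : Nat.card W = r ^ (Nat.card Y).factorization r := by
        rw [hW, Subgroup.card_map_of_injective (Subgroup.subtype_injective _)]
        exact P₀.card_eq_multiplicity
      have hWC : W ≤ C := by
        intro w hw
        refine Subgroup.mem_inf.mpr ⟨hWY hw, ?_⟩
        rw [Subgroup.mem_centralizer_iff]
        intro a ha
        exact commute_of_le_commutator_of_not_mem_alpha hG hL hr hrp hrα hAp hAL hAc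
          (hWY.trans inf_le_right) hWr hAP₀ ha hw
      have hdvd : r ^ (Nat.card Y).factorization r ∣ Nat.card C := by
        rw [← hWcard]
        exact Subgroup.card_dvd_of_le hWC
      exact (Nat.Prime.pow_dvd_iff_le_factorization hr Nat.card_pos.ne').mp hdvd
    · rw [Nat.factorization_eq_zero_of_not_dvd hrd]
      exact Nat.zero_le _
  have hdvd : Nat.card Y ∣ Nat.card C :=
    (Nat.factorization_prime_le_iff_dvd Nat.card_pos.ne' Nat.card_pos.ne').mp hfac
  have hCY : C = Y :=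
    Subgroup.eq_of_le_of_card_ge inf_le_left (Nat.le_of_dvd Nat.card_pos hdvd)
  rw [← hCY]
  exact inf_le_right

end Cfsg.Agent.Helper4.BG11
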