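import Mathlib
import Cfsg.Prelude
import Cfsg.Agent.Helper4.BG11y

set_option autoImplicit false
set_option linter.unusedSectionVars false
set_option linter.unusedVariables false

/-!
Bender–Glauberman Lemma 12.3(b) in the case `p ∈ σ(M*)`: a `p`-subgroup `A` of `M ∩ L` with
`p ∈ σ(L)` and `L` not conjugate to `M` centralizes `M_α ∩ L`.  Also a general commutation lemma.
-/

namespace Cfsg.Agent.Helper4.BG11

open Cfsg Cfsg.Agent.Helper1 Cfsg.Agent.Helper2 Cfsg.Agent.Helper1.BGT Cfsg.Agent.Helper1.BGU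
  Cfsg.Agent.Helper1.BGV Cfsg.Agent.Helper1.BGW Cfsg.Agent.Helper1.BGX Cfsg.Agent.Lead.BG12
  Cfsg.Agent.Helper4.BG10
open scoped commutatorElement Pointwise

universe u

variable {G : Type u} [Group G] [Finite G]

omit [Finite G] in
/-- Two subgroups meeting trivially and normalizing each other elementwise commute elementwise. -/
theorem commute_of_inf_eq_bot {K₁ K₂ : Subgroup G} (h : K₁ ⊓ K₂ = ⊥) {a y : G}
    (hy : y ∈ K₁) (ha : a ∈ K₂) (haN : a ∈ Subgroup.normalizer (K₁ : Set G))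
    (hyN : y ∈ Subgroup.normalizer (K₂ : Set G)) : a * y = y * a := by
  have hw1 : a * y * a⁻¹ * y⁻¹ ∈ K₁ := by
    have h1 : a * y * a⁻¹ ∈ K₁ := (Subgroup.mem_normalizer_iff.mp haN y).mp hy
    exact K₁.mul_mem h1 (K₁.inv_mem hy)
  have hw2 : a * y * a⁻¹ * y⁻¹ ∈ K₂ := by
    have h1 : y * a⁻¹ * y⁻¹ ∈ K₂ := (Subgroup.mem_normalizer_iff.mp hyN a⁻¹).mp (K₂.inv_mem ha)
    have : a * y * a⁻¹ * y⁻¹ = a * (y * a⁻¹ * y⁻¹) := by group
    rw [this]
    exact K₂.mul_mem ha h1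
  have hw : a * y * a⁻¹ * y⁻¹ = 1 := by
    have : a * y * a⁻¹ * y⁻¹ ∈ K₁ ⊓ K₂ := ⟨hw1, hw2⟩
    rw [h, Subgroup.mem_bot] at this
    exact this
  calc a * y = (a * y * a⁻¹ * y⁻¹) * (y * a) := by group
    _ = y * a := by rw [hw, one_mul]

theorem le_normalizer_alphaCore (M : Subgroup G) :
    M ≤ Subgroup.normalizer ((Cfsg.alphaCore M : Subgroup G) : Set G) :=
  le_normalizer_map_subtype _

/-- `M_α ∩ L_σ = 1` when `L` is not conjugate to `M`. -/
theorem alphaCore_inf_sigmaCore_eq_bot (hG : Cfsg.IsMinSimpleOddOrder G)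
    {M L : Subgroup G} (hM : IsCoatom M) (hL : IsCoatom L)
    (hnc : ∀ x : G, L ≠ MulAut.conj x • M) :
    Cfsg.alphaCore M ⊓ Cfsg.sigmaCore L = ⊥ := by
  rw [← Subgroup.card_eq_one]
  by_contra hne
  obtain ⟨r, hr, hrd⟩ := Nat.exists_prime_and_dvd hne
  have h1 : r ∈ Cfsg.alpha M :=
    mem_alpha_of_dvd_card_alphaCore hr (hrd.trans (Subgroup.card_dvd_of_le inf_le_left))
  have h2 : r ∈ Cfsg.sigma L :=
    BGX.mem_sigma_of_dvd_card_sigmaCore hr (hrd.trans (Subgroup.card_dvd_of_le inf_le_right))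
  have hnc' : ∀ x : G, M ≠ MulAut.conj x • L := by
    intro x hx
    apply hnc x⁻¹
    rw [hx, conj_smul_inv_smul]
  exact not_mem_alpha_of_mem_sigma_of_not_conj hG hL hM hnc' h2 h1

/-- Bender–Glauberman Lemma 12.3(b) in the case `p ∈ σ(L)`. -/
theorem alphaCore_inf_le_centralizer_of_mem_sigma (hG : Cfsg.IsMinSimpleOddOrder G)
    {M L : Subgroup G} (hM : IsCoatom M) (hL : IsCoatom L)
    (hnc : ∀ x : G, L ≠ MulAut.conj x • M) {p : ℕ} [hp : Fact p.Prime] {A : Subgroup G}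
    (hAp : IsPGroup p ↥A) (hAM : A ≤ M) (hAL : A ≤ L) (hpL : p ∈ Cfsg.sigma L) :
    Cfsg.alphaCore M ⊓ L ≤ Subgroup.centralizer (A : Set G) := by
  have hAσ : A ≤ Cfsg.sigmaCore L := le_sigmaCore' hG hL hpL hAL hAp
  have hbot := alphaCore_inf_sigmaCore_eq_bot hG hM hL hnc
  intro y hy
  rw [Subgroup.mem_centralizer_iff]
  intro a ha
  exact commute_of_inf_eq_bot hbot hy.1 (hAσ ha) (le_normalizer_alphaCore M (hAM ha))
    (le_normalizer_sigmaCore L hy.2)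

end Cfsg.Agent.Helper4.BG11
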