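import Mathlib

namespace Cfsg.Agent.Helper4

/-- Normalizers grow in `p`-groups: a proper subgroup `D` of a finite `p`-subgroup `P` is normalized
by some element of `P` outside `D`. -/
theorem exists_mem_normalizer_not_mem {G : Type*} [Group G] {p : ℕ} [Fact p.Prime]
    (P : Subgroup G) [Finite P] (hP : IsPGroup p P) (D : Subgroup G) (hD : D < P) :
    ∃ x ∈ P, x ∈ Subgroup.normalizer (D : Set G) ∧ x ∉ D := by
  have : Group.IsNilpotent P := hP.isNilpotent
  have hnc : NormalizerCondition P := Group.normalizerCondition_of_isNilpotent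
  have hlt : D.subgroupOf P < ⊤ := by
    rw [lt_top_iff_ne_top, Ne, Subgroup.subgroupOf_eq_top]
    exact not_le_of_gt hD
  obtain ⟨x, hxN, hxD⟩ := SetLike.exists_of_lt (hnc _ hlt)
  refine ⟨x, x.2, ?_, ?_⟩
  · rw [← Subgroup.subgroupOf_normalizer_eq hD.le] at hxN
    exact Subgroup.mem_subgroupOf.mp hxN
  · intro h
    exact hxD (Subgroup.mem_subgroupOf.mpr h)

end Cfsg.Agent.Helper4
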