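import Mathlib
import Cfsg.Agent.Helper4.FrattiniQuotient

set_option autoImplicit false

namespace Cfsg.Agent.Helper4

section

variable {P : Type*} [Group P]

/-- a finite group which is not a `2`-group has an element of odd prime order -/
theorem exists_odd_prime_order {A : Type*} [Group A] [Finite A] (h : ¬ IsPGroup 2 A) :
    ∃ (α : A) (r : ℕ), r.Prime ∧ r ≠ 2 ∧ orderOf α = r := by
  have : Fact (Nat.Prime 2) := ⟨Nat.prime_two⟩
  have hcard : ∃ r : ℕ, r.Prime ∧ r ≠ 2 ∧ r ∣ Nat.card A := by
    by_contra hno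
    push Not at hno
    apply h
    rw [IsPGroup.iff_card]
    refine ⟨(Nat.card A).primeFactorsList.length, ?_⟩
    apply Nat.eq_prime_pow_of_unique_prime_dvd Nat.card_pos.ne'
    intro q hq hqd
    by_contra hq2
    exact hno q hq hq2 hqd
  obtain ⟨r, hr, hr2, hrd⟩ := hcard
  have : Fact r.Prime := ⟨hr⟩
  obtain ⟨α, hα⟩ := exists_prime_orderOf_dvd_card' r hrd
  exact ⟨α, r, hr, hr2, hα⟩

theorem commutator_le_frattini [Finite P] (hP : IsPGroup 2 P) : commutator P ≤ frattini P := by
  have : Fact (Nat.Prime 2) := ⟨Nat.prime_two⟩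
  rw [commutator_def, Subgroup.commutator_le]
  intro g₁ _ g₂ _
  rw [commutatorElement_def]
  exact pgroup_commutator_mem_frattini hP g₁ g₂

/-- an automorphism of odd prime order of a finite `2`-group moves some coset of a
subgroup contained in the Frattini subgroup -/
theorem exists_moved_coset [Finite P] (hP : IsPGroup 2 P) (N : Subgroup P)
    (hNf : N ≤ frattini P) (α : MulAut P) (r : ℕ) (hr : r.Prime) (hr2 : r ≠ 2)
    (hord : orderOf α = r) : ∃ x : P, x⁻¹ * α x ∉ N := by
  by_contra hcon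
  push Not at hcon
  have hrF : Fact r.Prime := ⟨hr⟩
  -- the subgroup of automorphisms fixing all cosets
  obtain ⟨T, hT⟩ : ∃ T : Subgroup (MulAut P), ∀ β, β ∈ T ↔ ∀ u, u⁻¹ * β u ∈ N := by
    refine ⟨{ carrier := {β | ∀ u, u⁻¹ * β u ∈ N}
              mul_mem' := ?_
              one_mem' := ?_
              inv_mem' := ?_ }, fun β => Iff.rfl⟩
    · intro β γ hβ hγ u
      have h1 := hγ u
      have h2 := hβ (γ u)
      have : u⁻¹ * (β * γ) u = (u⁻¹ * γ u) * ((γ u)⁻¹ * β (γ u)) := by
        rw [MulAut.mul_apply]; group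
      rw [this]
      exact N.mul_mem h1 h2
    · intro u
      rw [MulAut.one_apply, inv_mul_cancel]
      exact N.one_mem
    · intro β hβ u
      have h1 := hβ (β⁻¹ u)
      rw [MulAut.apply_inv_self] at h1
      have : u⁻¹ * β⁻¹ u = ((β⁻¹ u)⁻¹ * u)⁻¹ := by group
      rw [this]
      exact N.inv_mem h1
  have hZT : Subgroup.zpowers α ≤ T := by
    rw [Subgroup.zpowers_le, hT]
    exact hcon
  have hZp : IsPGroup r (Subgroup.zpowers α) := by
    apply IsPGroup.of_card (n := 1)
    rw [Nat.card_zpowers, hord, pow_one]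
  -- the fixed subgroup
  obtain ⟨C, hC⟩ : ∃ C : Subgroup P, ∀ u, u ∈ C ↔ α u = u := by
    refine ⟨{ carrier := {u | α u = u}
              mul_mem' := ?_
              one_mem' := ?_
              inv_mem' := ?_ }, fun u => Iff.rfl⟩
    · intro a b ha hb
      show α (a * b) = a * b
      rw [map_mul, ha, hb]
    · exact map_one α
    · intro a ha
      show α a⁻¹ = a⁻¹
      rw [map_inv, ha]
  have hCN : C ⊔ N = ⊤ := by
    rw [eq_top_iff]
    intro x _
    -- the coset of x as a sub-action
    obtain ⟨S, hS⟩ : ∃ S : SubMulAction (Subgroup.zpowers α) P, ∀ u, u ∈ S ↔ x⁻¹ * u ∈ N := by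
      refine ⟨{ carrier := {u | x⁻¹ * u ∈ N}
                smul_mem' := ?_ }, fun u => Iff.rfl⟩
      intro β u hu
      have h1 := (hT β.1).1 (hZT β.2) u
      show x⁻¹ * (β • u) ∈ N
      have : x⁻¹ * (β • u) = (x⁻¹ * u) * (u⁻¹ * β.1 u) := by
        rw [Subgroup.smul_def, MulAut.smul_def]; group
      rw [this]
      exact N.mul_mem hu h1
    have hcardS : Nat.card S = Nat.card N := by
      apply Nat.card_congr
      refine ⟨fun u => ⟨x⁻¹ * u.1, (hS u.1).1 u.2⟩, fun n => ⟨x * n.1, (hS _).2 ?_⟩, ?_, ?_⟩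
      · rw [inv_mul_cancel_left]; exact n.2
      · intro u
        apply Subtype.ext
        show x * (x⁻¹ * u.1) = u.1
        rw [mul_inv_cancel_left]
      · intro n
        apply Subtype.ext
        show x⁻¹ * (x * n.1) = n.1
        rw [inv_mul_cancel_left]
    have hmod := hZp.card_modEq_card_fixedPoints S
    have hne : Nonempty (MulAction.fixedPoints (Subgroup.zpowers α) S) := by
      by_contra hempty
      rw [not_nonempty_iff] at hempty
      rw [Nat.card_of_isEmpty (α := MulAction.fixedPoints (Subgroup.zpowers α) S), hcardS] at hmod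
      have hdvd : r ∣ Nat.card N := (Nat.modEq_zero_iff_dvd).1 hmod
      have : Fact (Nat.Prime 2) := ⟨Nat.prime_two⟩
      obtain ⟨k, hk⟩ := (IsPGroup.iff_card).1 (hP.to_subgroup N)
      rw [hk] at hdvd
      have := (Nat.prime_dvd_prime_iff_eq hr Nat.prime_two).1 (hr.dvd_of_dvd_pow hdvd)
      exact hr2 this
    obtain ⟨⟨⟨u, huS⟩, hfix⟩⟩ := hne
    have hαu : α u = u := by
      have h1 := hfix ⟨α, Subgroup.mem_zpowers α⟩
      have h2 := congrArg Subtype.val h1
      exact h2
    have huC : u ∈ C := (hC u).2 hαu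
    have h3 : x = u * (x⁻¹ * u)⁻¹ := by group
    rw [h3]
    exact Subgroup.mul_mem _ (Subgroup.mem_sup_left huC)
      (Subgroup.mem_sup_right (N.inv_mem ((hS u).1 huS)))
  have hCtop : C = ⊤ := by
    apply frattini_nongenerating
    rw [eq_top_iff, ← hCN]
    exact sup_le_sup_left hNf C
  have hα1 : α = 1 := by
    ext u
    rw [MulAut.one_apply]
    exact (hC u).1 (by rw [hCtop]; exact Subgroup.mem_top u)
  rw [hα1, orderOf_one] at hord
  exact hr.one_lt.ne' hord.symm

end

end Cfsg.Agent.Helper4
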