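import Mathlib

set_option autoImplicit false

namespace Cfsg.Agent.Helper4

section

variable {P : Type*} [Group P]

/-- structure of the action of an odd-order automorphism on a quotient of order `4` -/
theorem v4_structure [Finite P] (N : Subgroup P) [N.Normal]
    (hcomm : ∀ u v : P, u⁻¹ * v⁻¹ * u * v ∈ N)
    (h4 : N.index = 4) (α : MulAut P) (hαN : ∀ n, α n ∈ N ↔ n ∈ N) (r : ℕ) (hr : Odd r)
    (hαr : α ^ r = 1) (x : P) (hx : x⁻¹ * α x ∉ N) :
    (∀ u : P, u ^ 2 ∈ N) ∧
      (∀ u v : P, u ∉ N → v ∉ N → ∃ k : ℕ, v⁻¹ * (α ^ k) u ∈ N) ∧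
      (∀ u : P, u ∈ N ∨ x⁻¹ * u ∈ N ∨ (α x)⁻¹ * u ∈ N ∨ (x * α x)⁻¹ * u ∈ N) := by
  classical
  obtain ⟨π, hπdef⟩ : ∃ π : P →* P ⧸ N, π = QuotientGroup.mk' N := ⟨_, rfl⟩
  have hπ : ∀ u v : P, π u = π v ↔ u⁻¹ * v ∈ N := by
    intro u v
    rw [hπdef]
    exact QuotientGroup.eq
  have hπ1 : ∀ u : P, π u = 1 ↔ u ∈ N := by
    intro u
    rw [hπdef]
    exact QuotientGroup.eq_one_iff u
  have hπs : Function.Surjective π := by
    rw [hπdef]
    exact QuotientGroup.mk'_surjective N
  have hVc : ∀ s t : P ⧸ N, s * t = t * s := by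
    intro s t
    obtain ⟨u, rfl⟩ := hπs s
    obtain ⟨v, rfl⟩ := hπs t
    rw [← map_mul, ← map_mul, eq_comm, hπ]
    have : (v * u)⁻¹ * (u * v) = u⁻¹ * v⁻¹ * u * v := by group
    rw [this]
    exact hcomm u v
  have hπα : ∀ u v : P, π (α u) = π (α v) ↔ π u = π v := by
    intro u v
    rw [hπ, hπ, ← map_inv, ← map_mul, hαN]
  have hπα1 : ∀ u : P, π (α u) = 1 ↔ π u = 1 := by
    intro u
    rw [hπ1, hπ1, hαN]
  obtain ⟨a, ha⟩ : ∃ a, a = π x := ⟨_, rfl⟩
  obtain ⟨b, hb⟩ : ∃ b, b = π (α x) := ⟨_, rfl⟩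
  obtain ⟨c, hc⟩ : ∃ c, c = π (α (α x)) := ⟨_, rfl⟩
  obtain ⟨d, hd⟩ : ∃ d, d = π (α (α (α x))) := ⟨_, rfl⟩
  have hab : a ≠ b := by
    rw [ha, hb]
    intro h
    exact hx ((hπ _ _).1 h)
  have hbc : b ≠ c := by
    rw [hb, hc]
    intro h
    apply hab
    rw [ha, hb]
    exact (hπα _ _).1 h
  have hcd : c ≠ d := by
    rw [hc, hd]
    intro h
    apply hbc
    rw [hb, hc]
    exact (hπα _ _).1 h
  have hac : a ≠ c := by
    rw [ha, hc]
    intro h
    have hk : ∀ k : ℕ, π (((α ^ 2) ^ k) x) = π x := by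
      intro k
      induction k with
      | zero => rw [pow_zero, MulAut.one_apply]
      | succ k ih =>
        rw [pow_succ', MulAut.mul_apply, pow_two, MulAut.mul_apply]
        have h1 : π (α (((α ^ 2) ^ k) x)) = π (α x) := (hπα _ _).2 ih
        have h2 : π (α (α (((α ^ 2) ^ k) x))) = π (α (α x)) := (hπα _ _).2 h1
        rw [pow_two] at h2
        rw [h2, ← h]
    obtain ⟨m, hm⟩ := hr
    have h3 : (α ^ 2) ^ (m + 1) = α := by
      rw [← pow_mul, show 2 * (m + 1) = r + 1 by omega, pow_succ, hαr, one_mul]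
    have h4 := hk (m + 1)
    rw [h3] at h4
    apply hab
    rw [ha, hb, h4]
  have hbd : b ≠ d := by
    rw [hb, hd]
    intro h
    apply hac
    rw [ha, hc]
    exact (hπα _ _).1 h
  have ha1 : a ≠ 1 := by
    rw [ha]
    intro h
    apply hab
    rw [ha, hb, h, (hπα1 x).2 h]
  have hb1 : b ≠ 1 := by
    rw [hb]
    intro h
    apply ha1
    rw [ha]
    exact (hπα1 x).1 h
  have hc1 : c ≠ 1 := by
    rw [hc]
    intro h
    apply hb1
    rw [hb]
    exact (hπα1 _).1 h
  have hd1 : d ≠ 1 := by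
    rw [hd]
    intro h
    apply hc1
    rw [hc]
    exact (hπα1 _).1 h
  -- the quotient has exactly these four elements
  have hfinV : Fintype (P ⧸ N) := Fintype.ofFinite _
  have hcardV : Fintype.card (P ⧸ N) = 4 := by
    rw [← Nat.card_eq_fintype_card, ← Subgroup.index_eq_card, h4]
  have hall : ∀ s : P ⧸ N, s = 1 ∨ s = a ∨ s = b ∨ s = c := by
    intro s
    have hcard : ({1, a, b, c} : Finset (P ⧸ N)).card = 4 := by
      rw [Finset.card_insert_of_notMem, Finset.card_insert_of_notMem, Finset.card_insert_of_notMem,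
        Finset.card_singleton]
      · simp only [Finset.mem_singleton]; exact hbc
      · simp only [Finset.mem_insert, Finset.mem_singleton, not_or]; exact ⟨hab, hac⟩
      · simp only [Finset.mem_insert, Finset.mem_singleton, not_or]
        exact ⟨ha1.symm, hb1.symm, hc1.symm⟩
    have huniv : ({1, a, b, c} : Finset (P ⧸ N)) = Finset.univ := by
      apply Finset.eq_univ_of_card
      rw [hcard, hcardV]
    have hs : s ∈ ({1, a, b, c} : Finset (P ⧸ N)) := by rw [huniv]; exact Finset.mem_univ s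
    simpa only [Finset.mem_insert, Finset.mem_singleton] using hs
  have hda : d = a := by
    rcases hall d with h | h | h | h
    · exact absurd h hd1
    · exact h
    · exact absurd h.symm hbd
    · exact absurd h.symm hcd
  -- the shift
  have hshift : ∀ u : P, (π u = a → π (α u) = b) ∧ (π u = b → π (α u) = c) ∧
      (π u = c → π (α u) = a) := by
    intro u
    refine ⟨fun h => ?_, fun h => ?_, fun h => ?_⟩
    · rw [hb]; rw [ha] at h; exact (hπα _ _).2 h
    · rw [hc]; rw [hb] at h; exact (hπα _ _).2 h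
    · rw [← hda, hd]; rw [hc] at h; exact (hπα _ _).2 h
  -- products
  have habc : a * b = c := by
    rcases hall (a * b) with h | h | h | h
    · exfalso
      have h1 : π (x * α x) = 1 := by rw [map_mul, ← ha, ← hb, h]
      have h2 : π (α (x * α x)) = 1 := (hπα1 _).2 h1
      rw [map_mul, map_mul, ← hb, ← hc] at h2
      apply hac
      calc a = a * (b * c) := by rw [h2, mul_one]
        _ = (a * b) * c := by rw [mul_assoc]
        _ = c := by rw [h, one_mul]
    · exfalso
      apply hb1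
      have : a * b = a * 1 := by rw [h, mul_one]
      exact mul_left_cancel this
    · exfalso
      apply ha1
      have : a * b = 1 * b := by rw [h, one_mul]
      exact mul_right_cancel this
    · exact h
  have hbca : b * c = a := by
    have h1 : π (x * α x) = π (α (α x)) := by rw [map_mul, ← ha, ← hb, ← hc, habc]
    have h2 : π (α (x * α x)) = π (α (α (α x))) := (hπα _ _).2 h1
    rw [map_mul, map_mul, ← hb, ← hc, ← hd, hda] at h2
    exact h2
  have hb2 : b * b = 1 := by
    have h1 : a * (b * b) = a * 1 := by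
      calc a * (b * b) = (a * b) * b := (mul_assoc _ _ _).symm
        _ = (b * a) * b := by rw [hVc a b]
        _ = b * (a * b) := mul_assoc _ _ _
        _ = b * c := by rw [habc]
        _ = a := hbca
        _ = a * 1 := by rw [mul_one]
    exact mul_left_cancel h1
  have ha2 : a * a = 1 := by
    have h1 : π (α (x * x)) = 1 := by rw [map_mul, map_mul, ← hb, hb2]
    have h2 := (hπα1 _).1 h1
    rw [map_mul, ← ha] at h2
    exact h2
  have hc2 : c * c = 1 := by
    have h1 : π (α x * α x) = 1 := by rw [map_mul, ← hb, hb2]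
    have h2 := (hπα1 _).2 h1
    rw [map_mul, map_mul, ← hc] at h2
    exact h2
  refine ⟨?_, ?_, ?_⟩
  · intro u
    rw [← hπ1, pow_two, map_mul]
    rcases hall (π u) with h | h | h | h
    · rw [h, one_mul]
    · rw [h, ha2]
    · rw [h, hb2]
    · rw [h, hc2]
  · intro u v hu hv
    have hu1 : π u ≠ 1 := fun h => hu ((hπ1 u).1 h)
    have hv1 : π v ≠ 1 := fun h => hv ((hπ1 v).1 h)
    have key : ∀ k : ℕ, π v = π ((α ^ k) u) → ∃ k : ℕ, v⁻¹ * (α ^ k) u ∈ N :=
      fun k h => ⟨k, (hπ _ _).1 h⟩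
    have e0 : (α ^ 0) u = u := by rw [pow_zero, MulAut.one_apply]
    have e1 : (α ^ 1) u = α u := by rw [pow_one]
    have e2 : (α ^ 2) u = α (α u) := by rw [pow_two, MulAut.mul_apply]
    rcases hall (π u) with h | h | h | h
    · exact absurd h hu1
    · have s1 := (hshift u).1 h
      have s2 := (hshift (α u)).2.1 s1
      rcases hall (π v) with h' | h' | h' | h'
      · exact absurd h' hv1
      · exact key 0 (by rw [e0, h, h'])
      · exact key 1 (by rw [e1, s1, h'])
      · exact key 2 (by rw [e2, s2, h'])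
    · have s1 := (hshift u).2.1 h
      have s2 := (hshift (α u)).2.2 s1
      rcases hall (π v) with h' | h' | h' | h'
      · exact absurd h' hv1
      · exact key 2 (by rw [e2, s2, h'])
      · exact key 0 (by rw [e0, h, h'])
      · exact key 1 (by rw [e1, s1, h'])
    · have s1 := (hshift u).2.2 h
      have s2 := (hshift (α u)).1 s1
      rcases hall (π v) with h' | h' | h' | h'
      · exact absurd h' hv1
      · exact key 1 (by rw [e1, s1, h'])
      · exact key 2 (by rw [e2, s2, h'])
      · exact key 0 (by rw [e0, h, h'])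
  · intro u
    rcases hall (π u) with h | h | h | h
    · exact Or.inl ((hπ1 u).1 h)
    · exact Or.inr (Or.inl ((hπ _ _).1 (by rw [← ha, h])))
    · exact Or.inr (Or.inr (Or.inl ((hπ _ _).1 (by rw [← hb, h]))))
    · exact Or.inr (Or.inr (Or.inr ((hπ _ _).1 (by rw [map_mul, ← ha, ← hb, habc, h]))))

end

end Cfsg.Agent.Helper4
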