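import Mathlib

set_option autoImplicit false

namespace Cfsg.Agent.Helper4

section

variable {P : Type*} [Group P]

theorem central_conj_eq (n g : P) (h : g * n = n * g) : n⁻¹ * g * n = g := by
  rw [mul_assoc, h, ← mul_assoc, inv_mul_cancel, one_mul]

/-- squares of elements outside `N` all lie in `Z`, or none does -/
theorem sq_mem_iff_of_not_mem (N Z : Subgroup P) [N.Normal]
    (α : MulAut P) (hαZ : ∀ z, α z ∈ Z ↔ z ∈ Z)
    (hZc : Z ≤ Subgroup.center P)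
    (hrel : ∀ a ∈ N, ∀ b ∈ N, (a * b ∈ Z ↔ (a ∈ Z ↔ b ∈ Z)))
    (hT : ∀ u v : P, u ∉ N → v ∉ N → ∃ k : ℕ, v⁻¹ * (α ^ k) u ∈ N)
    (x : P) (hx : x ∉ N) : ∀ u : P, u ∉ N → (u ^ 2 ∈ Z ↔ x ^ 2 ∈ Z) := by
  have hZcomm : ∀ z ∈ Z, ∀ g : P, g * z = z * g := fun z hz g =>
    (Subgroup.mem_center_iff.1 (hZc hz)) g
  have hconjZ : ∀ u n : P, u⁻¹ * n * u ∈ Z ↔ n ∈ Z := by
    intro u n
    constructor
    · intro h
      have h1 := hZcomm _ h u
      have h2 : n = u⁻¹ * n * u := by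
        calc n = u * (u⁻¹ * n * u) * u⁻¹ := by group
          _ = (u⁻¹ * n * u) * u * u⁻¹ := by rw [h1]
          _ = u⁻¹ * n * u := by group
      rw [h2]
      exact h
    · intro h
      have h1 := hZcomm _ h u
      have h2 : u⁻¹ * n * u = n := by
        rw [mul_assoc, ← h1, ← mul_assoc, inv_mul_cancel, one_mul]
      rw [h2]
      exact h
  have hsq : ∀ u : P, ∀ n ∈ N, ((u * n) ^ 2 ∈ Z ↔ u ^ 2 ∈ Z) := by
    intro u n hn
    have hconjN : u⁻¹ * n * u ∈ N := by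
      have := ‹N.Normal›.conj_mem n hn u⁻¹
      rwa [inv_inv] at this
    have ht : (u⁻¹ * n * u) * n ∈ Z := (hrel _ hconjN _ hn).2 (hconjZ u n)
    have h1 : (u * n) ^ 2 = u ^ 2 * ((u⁻¹ * n * u) * n) := by
      simp only [pow_two]; group
    rw [h1]
    exact Subgroup.mul_mem_cancel_right Z ht
  have hsqα : ∀ (k : ℕ) (u : P), (((α ^ k) u) ^ 2 ∈ Z ↔ u ^ 2 ∈ Z) := by
    intro k
    induction k with
    | zero => intro u; rw [pow_zero, MulAut.one_apply]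
    | succ k ih =>
      intro u
      have e : (α ^ (k + 1)) u = α ((α ^ k) u) := by rw [pow_succ', MulAut.mul_apply]
      rw [e, ← map_pow, hαZ, ih]
  intro u hu
  obtain ⟨k, hk⟩ := hT x u hx hu
  have h1 : (α ^ k) x = u * (u⁻¹ * (α ^ k) x) := by group
  rw [← hsqα k x, h1, hsq u _ hk]

/-- if all squares lie in `Z` then so do all commutators -/
theorem comm_mem_of_sq_mem (Z : Subgroup P) (hallZ : ∀ u : P, u ^ 2 ∈ Z) (u v : P) :
    u⁻¹ * v⁻¹ * u * v ∈ Z := by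
  have : u⁻¹ * v⁻¹ * u * v = (u⁻¹) ^ 2 * (u * v⁻¹) ^ 2 * v ^ 2 := by
    simp only [pow_two]; group
  rw [this]
  exact Z.mul_mem (Z.mul_mem (hallZ _) (hallZ _)) (hallZ _)

/-- main lemma: if `Z` is central of index two in the commutator subgroup `N`, then `N` is
central -/
theorem commutator_le_center_of_relIndex_two (N Z : Subgroup P) [N.Normal]
    (hNmin : ∀ K : Subgroup P, (∀ u v : P, u⁻¹ * v⁻¹ * u * v ∈ K) → N ≤ K)
    (α : MulAut P) (hαZ : ∀ z, α z ∈ Z ↔ z ∈ Z)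
    (hZc : Z ≤ Subgroup.center P)
    (hrel : ∀ a ∈ N, ∀ b ∈ N, (a * b ∈ Z ↔ (a ∈ Z ↔ b ∈ Z)))
    (hR1 : ∀ u : P, u ^ 2 ∈ N)
    (hT : ∀ u v : P, u ∉ N → v ∉ N → ∃ k : ℕ, v⁻¹ * (α ^ k) u ∈ N)
    (x : P) (hx : x ∉ N) : N ≤ Subgroup.center P := by
  have hZcomm : ∀ z ∈ Z, ∀ g : P, g * z = z * g := fun z hz g =>
    (Subgroup.mem_center_iff.1 (hZc hz)) g
  have hall_sq := sq_mem_iff_of_not_mem N Z α hαZ hZc hrel hT x hx
  by_cases hxZ : x ^ 2 ∈ Z
  · -- all squares lie in Z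
    have hallZ : ∀ u : P, u ^ 2 ∈ Z := by
      intro u
      by_cases hu : u ∈ N
      · rw [pow_two]
        exact (hrel u hu u hu).2 Iff.rfl
      · exact (hall_sq u hu).2 hxZ
    have hNZ : N ≤ Z := hNmin Z (comm_mem_of_sq_mem Z hallZ)
    exact hNZ.trans hZc
  · have hallZ : ∀ u : P, u ∉ N → u ^ 2 ∉ Z := fun u hu h => hxZ ((hall_sq u hu).1 h)
    have claim1 : ∀ u : P, u ∉ N → ∀ n ∈ N, u * n = n * u := by
      intro u hu n hn
      by_cases hnZ : n ∈ Z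
      · exact hZcomm n hnZ u
      · have ha : (u ^ 2)⁻¹ ∈ N := N.inv_mem (hR1 u)
        have haZ : (u ^ 2)⁻¹ ∉ Z := fun h => hallZ u hu (by simpa using Z.inv_mem h)
        have hz : (u ^ 2)⁻¹ * n ∈ Z := (hrel _ ha _ hn).2 ⟨fun h => absurd h haZ, fun h => absurd h hnZ⟩
        have h1 := hZcomm _ hz u
        have h2 : n = u ^ 2 * ((u ^ 2)⁻¹ * n) := by group
        calc u * n = u * (u ^ 2 * ((u ^ 2)⁻¹ * n)) := by rw [← h2]
          _ = u ^ 2 * (u * ((u ^ 2)⁻¹ * n)) := by simp only [pow_two]; group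
          _ = u ^ 2 * (((u ^ 2)⁻¹ * n) * u) := by rw [h1]
          _ = n * u := by group
    intro n hn
    rw [Subgroup.mem_center_iff]
    intro g
    by_cases hg : g ∈ N
    · have hxg : x⁻¹ * g ∉ N := by
        intro h
        apply hx
        have : x = g * (x⁻¹ * g)⁻¹ := by group
        rw [this]
        exact N.mul_mem hg (N.inv_mem h)
      have h1 := claim1 x hx n hn
      have h2 := claim1 _ hxg n hn
      calc g * n = x * ((x⁻¹ * g) * n) := by group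
        _ = x * (n * (x⁻¹ * g)) := by rw [h2]
        _ = (x * n) * (x⁻¹ * g) := by group
        _ = (n * x) * (x⁻¹ * g) := by rw [h1]
        _ = n * g := by group
    · exact claim1 g hg n hn

/-- class two: the commutator subgroup has order at most two -/
theorem commutator_card_le_two_of_central (N : Subgroup P) (hNc : N ≤ Subgroup.center P)
    (hNmin : ∀ K : Subgroup P, (∀ u v : P, u⁻¹ * v⁻¹ * u * v ∈ K) → N ≤ K)
    (hR1 : ∀ u : P, u ^ 2 ∈ N) (x y : P) (hcN : x⁻¹ * y⁻¹ * x * y ∈ N)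
    (hcos : ∀ u : P, u ∈ N ∨ x⁻¹ * u ∈ N ∨ y⁻¹ * u ∈ N ∨ (x * y)⁻¹ * u ∈ N) :
    (x⁻¹ * y⁻¹ * x * y) * (x⁻¹ * y⁻¹ * x * y) = 1 ∧
      ∀ n ∈ N, n = 1 ∨ n = x⁻¹ * y⁻¹ * x * y := by
  have hcen : ∀ n ∈ N, ∀ g : P, g * n = n * g := fun n hn g =>
    (Subgroup.mem_center_iff.1 (hNc hn)) g
  obtain ⟨c, hc⟩ : ∃ c, c = x⁻¹ * y⁻¹ * x * y := ⟨_, rfl⟩
  rw [← hc]
  rw [← hc] at hcN
  have hredL : ∀ u v : P, ∀ n ∈ N, (u * n)⁻¹ * v⁻¹ * (u * n) * v = u⁻¹ * v⁻¹ * u * v := by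
    intro u v n hn
    calc (u * n)⁻¹ * v⁻¹ * (u * n) * v = (n⁻¹ * (u⁻¹ * v⁻¹ * u) * n) * v := by group
      _ = (u⁻¹ * v⁻¹ * u) * v := by rw [central_conj_eq n _ (hcen n hn _)]
  have hredR : ∀ u v : P, ∀ m ∈ N, u⁻¹ * (v * m)⁻¹ * u * (v * m) = u⁻¹ * v⁻¹ * u * v := by
    intro u v m hm
    calc u⁻¹ * (v * m)⁻¹ * u * (v * m) = u⁻¹ * (m⁻¹ * (v⁻¹ * u * v) * m) := by group
      _ = u⁻¹ * (v⁻¹ * u * v) := by rw [central_conj_eq m _ (hcen m hm _)]
      _ = u⁻¹ * v⁻¹ * u * v := by group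
  have hcc : c * c = 1 := by
    have h1 : (x * x)⁻¹ * y⁻¹ * (x * x) * y = x⁻¹ * c * x * c := by rw [hc]; group
    have hxx : x * x ∈ N := by rw [← pow_two]; exact hR1 x
    have h2 : (x * x)⁻¹ * y⁻¹ * (x * x) * y = 1 := by
      have := central_conj_eq y (x * x) (by rw [hcen _ hxx y])
      calc (x * x)⁻¹ * y⁻¹ * (x * x) * y = (x * x)⁻¹ * (y⁻¹ * (x * x) * y) := by group
        _ = (x * x)⁻¹ * (x * x) := by rw [this]
        _ = 1 := inv_mul_cancel _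
    rw [h2, central_conj_eq x c (hcen c hcN x).symm] at h1
    exact h1.symm
  have hcinv : c⁻¹ = c := inv_eq_of_mul_eq_one_left hcc
  refine ⟨hcc, ?_⟩
  -- all commutators are 1 or c
  have hSc : ∀ u v : P, u⁻¹ * v⁻¹ * u * v ∈ Subgroup.zpowers c := by
    have hone : (1 : P) ∈ Subgroup.zpowers c := Subgroup.one_mem _
    have hcm : c ∈ Subgroup.zpowers c := Subgroup.mem_zpowers c
    have hcim : c⁻¹ ∈ Subgroup.zpowers c := Subgroup.inv_mem _ hcm
    -- representatives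
    have hrep : ∀ u : P, ∃ u₀ : P, (u₀ = 1 ∨ u₀ = x ∨ u₀ = y ∨ u₀ = x * y) ∧ ∃ n ∈ N, u = u₀ * n := by
      intro u
      rcases hcos u with h | h | h | h
      · exact ⟨1, Or.inl rfl, u, h, by rw [one_mul]⟩
      · exact ⟨x, Or.inr (Or.inl rfl), _, h, by group⟩
      · exact ⟨y, Or.inr (Or.inr (Or.inl rfl)), _, h, by group⟩
      · exact ⟨x * y, Or.inr (Or.inr (Or.inr rfl)), _, h, by group⟩
    intro u v
    obtain ⟨u₀, hu₀, n, hn, rfl⟩ := hrep u
    obtain ⟨v₀, hv₀, m, hm, rfl⟩ := hrep v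
    rw [hredL _ _ n hn, hredR _ _ m hm]
    have e1 : y⁻¹ * x⁻¹ * y * x = c⁻¹ := by rw [hc]; group
    have e2 : x⁻¹ * (x * y)⁻¹ * x * (x * y) = c := by rw [hc]; group
    have e3 : (x * y)⁻¹ * x⁻¹ * (x * y) * x = c⁻¹ := by rw [hc]; group
    have e4 : y⁻¹ * (x * y)⁻¹ * y * (x * y) = c⁻¹ := by
      have : y⁻¹ * (x * y)⁻¹ * y * (x * y) = y⁻¹ * c⁻¹ * y := by rw [hc]; group
      rw [this, central_conj_eq y c⁻¹ (hcen _ (N.inv_mem hcN) y).symm]
    have e5 : (x * y)⁻¹ * y⁻¹ * (x * y) * y = c := by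
      have : (x * y)⁻¹ * y⁻¹ * (x * y) * y = y⁻¹ * c * y := by rw [hc]; group
      rw [this, central_conj_eq y c (hcen _ hcN y).symm]
    rcases hu₀ with rfl | rfl | rfl | rfl <;> rcases hv₀ with rfl | rfl | rfl | rfl
    · convert hone using 1; group
    · convert hone using 1; group
    · convert hone using 1; group
    · convert hone using 1; group
    · convert hone using 1; group
    · convert hone using 1; group
    · rw [← hc]; exact hcm
    · rw [e2]; exact hcm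
    · convert hone using 1; group
    · rw [e1]; exact hcim
    · convert hone using 1; group
    · rw [e4]; exact hcim
    · convert hone using 1; group
    · rw [e3]; exact hcim
    · rw [e5]; exact hcm
    · convert hone using 1; group
  have hNle : N ≤ Subgroup.zpowers c := hNmin _ hSc
  intro n hn
  obtain ⟨k, rfl⟩ := Subgroup.mem_zpowers_iff.1 (hNle hn)
  have hc2 : c ^ (2 : ℤ) = 1 := by
    rw [zpow_two]; exact hcc
  rcases Int.even_or_odd' k with ⟨j, hj | hj⟩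
  · left
    rw [hj, zpow_mul, hc2, one_zpow]
  · right
    rw [hj, zpow_add, zpow_mul, hc2, one_zpow, one_mul, zpow_one]

end

end Cfsg.Agent.Helper4
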