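import Mathlib
import Cfsg.Agent.Helper4.Q8AutA
import Cfsg.Agent.Helper4.Q8AutB
import Cfsg.Agent.Helper4.Q8AutC
import Cfsg.Agent.Helper5.PGroupCenter

set_option autoImplicit false

namespace Cfsg.Agent.Helper4

section

variable {P : Type*} [Group P]

theorem comm_mem_commutator (u v : P) : u⁻¹ * v⁻¹ * u * v ∈ commutator P := by
  have := Subgroup.commutator_mem_commutator (Subgroup.mem_top u⁻¹) (Subgroup.mem_top v⁻¹)
  rw [commutatorElement_def, inv_inv, inv_inv] at this
  rw [commutator_def]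
  exact this

theorem commutator_min (K : Subgroup P) (h : ∀ u v : P, u⁻¹ * v⁻¹ * u * v ∈ K) :
    commutator P ≤ K := by
  rw [commutator_def, Subgroup.commutator_le]
  intro g₁ _ g₂ _
  have := h g₁⁻¹ g₂⁻¹
  rw [inv_inv, inv_inv] at this
  rw [commutatorElement_def]
  exact this

theorem char_mem_iff (H : Subgroup P) [hH : H.Characteristic] (α : MulAut P) (n : P) :
    α n ∈ H ↔ n ∈ H := by
  have := hH.fixed α
  conv_rhs => rw [← this]
  rfl

theorem q8aut_data [Finite P] (hP : IsPGroup 2 P) (h4 : (commutator P).index = 4)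
    (α : MulAut P) (r : ℕ) (hr : r.Prime) (hr2 : r ≠ 2) (hord : orderOf α = r) :
    ∃ x : P, x⁻¹ * α x ∉ commutator P ∧ x ∉ commutator P ∧
      (∀ u : P, u ^ 2 ∈ commutator P) ∧
      (∀ u v : P, u ∉ commutator P → v ∉ commutator P →
        ∃ k : ℕ, v⁻¹ * (α ^ k) u ∈ commutator P) ∧
      (∀ u : P, u ∈ commutator P ∨ x⁻¹ * u ∈ commutator P ∨ (α x)⁻¹ * u ∈ commutator P ∨
        (x * α x)⁻¹ * u ∈ commutator P) := by
  obtain ⟨x, hx⟩ := exists_moved_coset hP (commutator P) (commutator_le_frattini hP) α r hr hr2 hord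
  have hαr : α ^ r = 1 := by rw [← hord]; exact pow_orderOf_eq_one α
  have hodd : Odd r := hr.odd_of_ne_two hr2
  obtain ⟨h1, h2, h3⟩ := v4_structure (commutator P) comm_mem_commutator h4 α
    (char_mem_iff (commutator P) α) r hodd hαr x hx
  refine ⟨x, hx, ?_, h1, h2, h3⟩
  intro hxN
  apply hx
  exact Subgroup.mul_mem _ (Subgroup.inv_mem _ hxN) ((char_mem_iff (commutator P) α x).2 hxN)

end

universe u

/-- under the hypotheses, the commutator subgroup is central (induction on the order) -/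
theorem commutator_le_center_aux : ∀ (n : ℕ) (P : Type u) [Group P] [Finite P], Nat.card P = n →
    IsPGroup 2 P → (commutator P).index = 4 →
    (∃ (α : MulAut P) (r : ℕ), r.Prime ∧ r ≠ 2 ∧ orderOf α = r) →
    commutator P ≤ Subgroup.center P := by
  intro n
  induction n using Nat.strong_induction_on with
  | _ n ih =>
  intro P _ _ hcard hP h4 ⟨α, r, hr, hr2, hord⟩
  have hF2 : Fact (Nat.Prime 2) := ⟨Nat.prime_two⟩
  have hFr : Fact (Nat.Prime r) := ⟨hr⟩
  obtain ⟨x, hx, hxN, hR1, hT, hcos⟩ := q8aut_data hP h4 α r hr hr2 hord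
  by_cases hbot : commutator P = ⊥
  · rw [hbot]; exact bot_le
  obtain ⟨z, hzN, hz1, hzc⟩ :=
    Cfsg.Agent.Helper5.exists_ne_one_mem_center_of_normal hP (commutator P) hbot
  obtain ⟨Z, hZ⟩ : ∃ Z : Subgroup P, Z = commutator P ⊓ Subgroup.center P := ⟨_, rfl⟩
  have hZchar : Z.Characteristic := by rw [hZ]; infer_instance
  have hZnormal : Z.Normal := by rw [hZ]; infer_instance
  have hZN : Z ≤ commutator P := by rw [hZ]; exact inf_le_left
  have hZc : Z ≤ Subgroup.center P := by rw [hZ]; exact inf_le_right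
  have hzZ : z ∈ Z := by
    rw [hZ]
    exact ⟨hzN, Subgroup.mem_center_iff.2 hzc⟩
  have hcardQ : Nat.card (P ⧸ Z) < n := by
    have h1 := Subgroup.card_eq_card_quotient_mul_card_subgroup Z
    have h2 : 1 < Nat.card Z := Z.one_lt_card_iff_ne_bot.2 (fun hb => hz1 (by
      rw [hb] at hzZ; exact Subgroup.mem_bot.1 hzZ))
    have h3 : 0 < Nat.card (P ⧸ Z) := Nat.card_pos
    rw [← hcard, h1]
    nlinarith
  have hPQ : IsPGroup 2 (P ⧸ Z) := hP.to_quotient Z
  have hmap : (commutator P).map (QuotientGroup.mk' Z) = commutator (P ⧸ Z) := by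
    rw [commutator_def, commutator_def, Subgroup.map_commutator,
      Subgroup.map_top_of_surjective _ (QuotientGroup.mk'_surjective Z)]
  have h4Q : (commutator (P ⧸ Z)).index = 4 := by
    rw [← hmap, Subgroup.index_map_eq _ (QuotientGroup.mk'_surjective Z)
      (by rw [QuotientGroup.ker_mk']; exact hZN), h4]
  obtain ⟨β, hβ⟩ : ∃ β : MulAut (P ⧸ Z), ∀ u : P, β (QuotientGroup.mk u) = QuotientGroup.mk (α u) :=
    ⟨QuotientGroup.congr Z Z α (Subgroup.characteristic_iff_map_eq.1 hZchar α), fun u =>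
      QuotientGroup.congr_mk Z Z α _ u⟩
  have hpow : ∀ (k : ℕ) (u : P), (β ^ k) (QuotientGroup.mk u) = QuotientGroup.mk ((α ^ k) u) := by
    intro k
    induction k with
    | zero => intro u; rw [pow_zero, pow_zero, MulAut.one_apply, MulAut.one_apply]
    | succ k ihk =>
      intro u
      rw [pow_succ', pow_succ', MulAut.mul_apply, MulAut.mul_apply, ihk, hβ]
  have hαr : α ^ r = 1 := by rw [← hord]; exact pow_orderOf_eq_one α
  have hβr : β ^ r = 1 := by
    ext q
    obtain ⟨u, rfl⟩ := QuotientGroup.mk_surjective q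
    rw [hpow, hαr, MulAut.one_apply, MulAut.one_apply]
  have hβ1 : β ≠ 1 := by
    intro h
    have h1 := hβ x
    rw [h, MulAut.one_apply, QuotientGroup.eq] at h1
    exact hx (hZN h1)
  have hordQ : orderOf β = r := orderOf_eq_prime hβr hβ1
  have hQc := ih (Nat.card (P ⧸ Z)) hcardQ (P ⧸ Z) rfl hPQ h4Q ⟨β, r, hr, hr2, hordQ⟩
  obtain ⟨x', hx', hxN', hR1', hT', hcos'⟩ := q8aut_data hPQ h4Q β r hr hr2 hordQ
  obtain ⟨hcc, hNQ⟩ := commutator_card_le_two_of_central (commutator (P ⧸ Z)) hQc commutator_min hR1'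
    x' (β x') (comm_mem_commutator _ _) hcos'
  have hmk1 : ∀ a : P, (QuotientGroup.mk a : P ⧸ Z) = 1 ↔ a ∈ Z := fun a =>
    QuotientGroup.eq_one_iff a
  have hmkN : ∀ a ∈ commutator P, (QuotientGroup.mk a : P ⧸ Z) ∈ commutator (P ⧸ Z) := by
    intro a ha
    rw [← hmap]
    exact Subgroup.mem_map_of_mem _ ha
  have hrel : ∀ a ∈ commutator P, ∀ b ∈ commutator P, (a * b ∈ Z ↔ (a ∈ Z ↔ b ∈ Z)) := by
    intro a ha b hb
    rw [← hmk1, ← hmk1, ← hmk1, QuotientGroup.mk_mul]
    rcases hNQ _ (hmkN a ha) with h | h <;> rcases hNQ _ (hmkN b hb) with h' | h' <;> rw [h, h']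
    · simp
    · simp
    · simp
    · rw [hcc]; simp
  exact commutator_le_center_of_relIndex_two (commutator P) Z commutator_min α (char_mem_iff Z α) hZc
    hrel hR1 hT x hxN

end Cfsg.Agent.Helper4
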