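import Mathlib
import Cfsg.Prelude.Def_OddOrderLocal
import Cfsg.Agent.Helper4.FrattiniQuotient

set_option autoImplicit false

/-!
Metacyclic groups: closure under injective preimages, and the Frattini quotient of a
metacyclic `p`-group has order dividing `p ^ 2`.
-/

namespace Cfsg.Agent.Helper4

theorem isMetacyclic_of_injective {H R : Type*} [Group H] [Group R] (f : H →* R)
    (hf : Function.Injective f) (h : Cfsg.IsMetacyclic R) : Cfsg.IsMetacyclic H := by
  obtain ⟨N, hNn, hNc, hQc⟩ := h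
  have hNn' : (N.comap f).Normal := hNn.comap f
  refine ⟨N.comap f, hNn', ?_, ?_⟩
  · let φ : ↥(N.comap f) →* ↥N := (f.comp (N.comap f).subtype).codRestrict N (fun x => x.2)
    have hφ : Function.Injective φ := by
      intro x y hxy
      apply Subtype.ext
      apply hf
      exact congrArg Subtype.val hxy
    exact isCyclic_of_injective φ hφ
  · let ψ : H ⧸ N.comap f →* R ⧸ N := QuotientGroup.map (N.comap f) N f le_rfl
    have hψ : Function.Injective ψ := by
      rw [injective_iff_map_eq_one]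
      intro x hx
      obtain ⟨x, rfl⟩ := QuotientGroup.mk_surjective x
      have h1 : ψ (x : H ⧸ N.comap f) = ((f x : R) : R ⧸ N) := rfl
      rw [h1, QuotientGroup.eq_one_iff] at hx
      exact (QuotientGroup.eq_one_iff x).2 hx
    exact isCyclic_of_injective ψ hψ

/-- The Frattini quotient of a metacyclic `p`-group has order dividing `p ^ 2`. -/
theorem metacyclic_frattini_index_dvd {Q : Type*} [Group Q] [Finite Q] {p : ℕ} [hp : Fact p.Prime]
    (hQ : IsPGroup p Q) (hm : Cfsg.IsMetacyclic Q) : (frattini Q).index ∣ p ^ 2 := by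
  obtain ⟨N, hNn, hNc, hQc⟩ := hm
  obtain ⟨a, ha⟩ := hNc.exists_generator
  obtain ⟨b', hb'⟩ := hQc.exists_generator
  obtain ⟨b, rfl⟩ := QuotientGroup.mk_surjective b'
  have hΦn : (frattini Q).Normal := inferInstance
  -- every element is b^j a^i
  have hdec : ∀ x : Q, ∃ i j : ℤ, x = b ^ j * (a : Q) ^ i := by
    intro x
    obtain ⟨j, hj⟩ := Subgroup.mem_zpowers_iff.1 (hb' (x : Q ⧸ N))
    have h1 : ((b ^ j : Q) : Q ⧸ N) = (x : Q ⧸ N) := by
      rw [← hj]; rfl
    rw [QuotientGroup.eq] at h1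
    obtain ⟨i, hi⟩ := Subgroup.mem_zpowers_iff.1 (ha ⟨_, h1⟩)
    refine ⟨i, j, ?_⟩
    have h2 : ((a ^ i : N) : Q) = (b ^ j)⁻¹ * x := by rw [hi]
    rw [Subgroup.coe_zpow] at h2
    rw [h2]; group
  have hpa : (((a : Q) : Q ⧸ frattini Q)) ^ p = 1 := by
    rw [← QuotientGroup.mk_pow, QuotientGroup.eq_one_iff]
    exact pgroup_pow_mem_frattini hQ _
  have hpb : ((b : Q ⧸ frattini Q)) ^ p = 1 := by
    rw [← QuotientGroup.mk_pow, QuotientGroup.eq_one_iff]
    exact pgroup_pow_mem_frattini hQ _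
  have hpa' : (((a : Q) : Q ⧸ frattini Q)) ^ (p : ℤ) = 1 := by rw [zpow_natCast]; exact hpa
  have hpb' : ((b : Q ⧸ frattini Q)) ^ (p : ℤ) = 1 := by rw [zpow_natCast]; exact hpb
  have hppos : (0 : ℤ) < p := by exact_mod_cast hp.out.pos
  let F : Fin p × Fin p → Q ⧸ frattini Q := fun ij =>
    (b : Q ⧸ frattini Q) ^ (ij.1 : ℕ) * ((a : Q) : Q ⧸ frattini Q) ^ (ij.2 : ℕ)
  have hF : Function.Surjective F := by
    intro x
    obtain ⟨x, rfl⟩ := QuotientGroup.mk_surjective x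
    obtain ⟨i, j, hx⟩ := hdec x
    have hj0 : 0 ≤ j % (p : ℤ) := Int.emod_nonneg _ hppos.ne'
    have hi0 : 0 ≤ i % (p : ℤ) := Int.emod_nonneg _ hppos.ne'
    have hjlt : j % (p : ℤ) < p := Int.emod_lt_of_pos _ hppos
    have hilt : i % (p : ℤ) < p := Int.emod_lt_of_pos _ hppos
    have hj1 : (j % (p : ℤ)).toNat < p := by omega
    have hi1 : (i % (p : ℤ)).toNat < p := by omega
    refine ⟨(⟨(j % (p : ℤ)).toNat, hj1⟩, ⟨(i % (p : ℤ)).toNat, hi1⟩), ?_⟩
    show (b : Q ⧸ frattini Q) ^ ((j % (p : ℤ)).toNat) *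
      ((a : Q) : Q ⧸ frattini Q) ^ ((i % (p : ℤ)).toNat) = (x : Q ⧸ frattini Q)
    rw [hx, QuotientGroup.mk_mul, QuotientGroup.mk_zpow, QuotientGroup.mk_zpow,
      zpow_eq_zpow_emod j hpb', zpow_eq_zpow_emod i hpa', ← zpow_natCast, ← zpow_natCast,
      Int.toNat_of_nonneg hj0, Int.toNat_of_nonneg hi0]
  have hle : Nat.card (Q ⧸ frattini Q) ≤ p ^ 2 := by
    have h1 := Nat.card_le_card_of_surjective F hF
    rw [Nat.card_prod, Nat.card_fin] at h1
    rw [sq]; exact h1
  obtain ⟨k, hk⟩ := hQ.index (frattini Q)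
  rw [Subgroup.index_eq_card] at hk
  rw [Subgroup.index_eq_card, hk]
  rw [hk] at hle
  have hk2 : k ≤ 2 := (Nat.pow_le_pow_iff_right hp.out.one_lt).1 hle
  exact pow_dvd_pow p hk2

end Cfsg.Agent.Helper4
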