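import Mathlib
import Cfsg.Agent.Helper4.SylowProduct2
import Cfsg.Agent.Helper1.SylowInt

set_option autoImplicit false

namespace Cfsg.Agent.Helper4

/-- Conjugation action of a subgroup `P` normalizing `Q` on the elements of `Q`. -/
@[reducible] def conjActionOfNormalizer {G : Type*} [Group G] (P Q : Subgroup G)
    (h : P ≤ Subgroup.normalizer (Q : Set G)) : MulAction P Q where
  smul x y := ⟨(x : G) * (y : G) * (x : G)⁻¹, (Subgroup.mem_normalizer_iff.mp (h x.2) y).mp y.2⟩
  one_smul y := by
    apply Subtype.ext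
    show ((1 : P) : G) * (y : G) * ((1 : P) : G)⁻¹ = y
    simp
  mul_smul a b y := by
    apply Subtype.ext
    show ((a * b : P) : G) * (y : G) * ((a * b : P) : G)⁻¹ =
      (a : G) * ((b : G) * (y : G) * (b : G)⁻¹) * (a : G)⁻¹
    simp only [Subgroup.coe_mul, mul_inv_rev]
    group

/-- A `p`-group `P` normalizing `Q`: `|Q| ≡ |C_Q(P)| mod p`. -/
theorem card_modEq_card_inf_centralizer {G : Type*} [Group G] [Finite G] {p : ℕ} [Fact p.Prime]
    (P Q : Subgroup G) (hP : IsPGroup p P) (h : P ≤ Subgroup.normalizer (Q : Set G)) :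
    Nat.card Q ≡ Nat.card ↥(Q ⊓ Subgroup.centralizer (P : Set G)) [MOD p] := by
  let _ := conjActionOfNormalizer P Q h
  have h1 := hP.card_modEq_card_fixedPoints (α := Q)
  have h2 : Nat.card (MulAction.fixedPoints P Q) =
      Nat.card ↥(Q ⊓ Subgroup.centralizer (P : Set G)) := by
    apply Nat.card_congr
    refine
      { toFun := fun y => ⟨(y : Q), (y : Q).2, ?_⟩
        invFun := fun z => ⟨⟨z, z.2.1⟩, ?_⟩
        left_inv := fun y => rfl
        right_inv := fun z => rfl }
    · intro x hx
      have := y.2 ⟨x, hx⟩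
      have h3 : x * ((y : Q) : G) * x⁻¹ = ((y : Q) : G) := congrArg Subtype.val this
      calc x * ((y : Q) : G) = x * ((y : Q) : G) * x⁻¹ * x := by group
        _ = ((y : Q) : G) * x := by rw [h3]
    · intro x
      apply Subtype.ext
      show (x : G) * (z : G) * (x : G)⁻¹ = z
      have := z.2.2 x x.2
      rw [this, mul_inv_cancel_right]
  rw [h2] at h1
  exact h1

/-- The "coprime" case of M. Hall's theorem: if `G = K ⋊ P` with `P` a Sylow `p`-subgroup,
every prime power part of `n_p(G)` is `≡ 1 mod p`. -/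
theorem prime_power_part_card_sylow_modEq_one {G : Type*} [Group G] [Finite G] {p : ℕ}
    [Fact p.Prime] (P : Sylow p G) (K : Subgroup G) [K.Normal]
    (hinf : (P : Subgroup G) ⊓ K = ⊥) (hsup : (P : Subgroup G) ⊔ K = ⊤) (q : ℕ) (hq : q.Prime) :
    q ^ (Nat.card (Sylow p G)).factorization q ≡ 1 [MOD p] := by
  have hp : p.Prime := Fact.out
  have : Fact q.Prime := ⟨hq⟩
  set N₀ := Subgroup.normalizer ((P : Subgroup G) : Set G) with hN₀
  set C := N₀ ⊓ K with hC
  have hCK : C ≤ K := inf_le_right
  -- n_p(G) = [K : C]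
  have hN₀K : N₀ ⊔ K = ⊤ := by
    rw [eq_top_iff, ← hsup]
    exact sup_le_sup_right Subgroup.le_normalizer K
  have hnp : Nat.card (Sylow p G) = C.relIndex K := by
    have h1 : Nat.card (Sylow p G) = N₀.index := P.card_eq_index_normalizer
    rw [h1, ← Subgroup.relIndex_top_right, ← hN₀K,
      relIndex_sup_of_normal, hC, Subgroup.inf_relIndex_right]
  have hcardK := card_mul_relIndex' hCK
  -- |K| = [G:P]
  have hKidx : (P : Subgroup G).index = Nat.card K := by
    rw [← Subgroup.relIndex_top_right, ← hsup, relIndex_sup_of_normal,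
      ← Subgroup.inf_relIndex_right, hinf, Subgroup.relIndex_bot_left]
  have hpK : ¬ p ∣ Nat.card K := by rw [← hKidx]; exact P.not_dvd_index
  obtain ⟨a, ha⟩ := IsPGroup.iff_card.mp P.isPGroup'
  have hcop : (Nat.card (P : Subgroup G)).Coprime (Nat.card K) := by
    rw [ha]
    exact Nat.Coprime.pow_left _ ((Nat.Prime.coprime_iff_not_dvd hp).mpr hpK)
  -- C centralizes P
  have hCcent : C ≤ Subgroup.centralizer ((P : Subgroup G) : Set G) := by
    intro x hx y hy
    have h1 : x * y * x⁻¹ * y⁻¹ ∈ (P : Subgroup G) ⊓ K := by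
      constructor
      · exact Subgroup.mul_mem _ ((Subgroup.mem_normalizer_iff.mp hx.1 y).mp hy)
          (Subgroup.inv_mem _ hy)
      · have h2 : y * x⁻¹ * y⁻¹ ∈ K := ‹K.Normal›.conj_mem _ (K.inv_mem hx.2) y
        have h3 := K.mul_mem hx.2 h2
        have e : x * (y * x⁻¹ * y⁻¹) = x * y * x⁻¹ * y⁻¹ := by group
        rw [e] at h3; exact h3
    rw [hinf, Subgroup.mem_bot] at h1
    have h2 : x * y = y * x := by
      have := congrArg (fun z => z * y * x) h1
      simpa [mul_assoc] using this
    exact h2.symm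
  -- Sylow q-subgroup of C
  obtain ⟨U'⟩ : Nonempty (Sylow q C) := inferInstance
  set U := (U' : Subgroup C).map C.subtype with hU
  have hUC : U ≤ C := Subgroup.map_subtype_le _
  have hUq : IsPGroup q U := U'.isPGroup'.map _
  have hUcard : Nat.card U = q ^ (Nat.card C).factorization q := by
    rw [hU, Subgroup.card_map_of_injective C.subtype_injective]
    exact U'.card_eq_multiplicity
  have hPU : (P : Subgroup G) ≤ Subgroup.normalizer (U : Set G) := by
    intro x hx
    rw [Subgroup.mem_normalizer_iff]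
    intro y
    have key : ∀ z : G, z ∈ U → x * z * x⁻¹ = z := by
      intro z hz
      have := hCcent (hUC hz) x hx
      rw [this, mul_inv_cancel_right]
    constructor
    · intro hy; rw [key y hy]; exact hy
    · intro hy
      have h1 : x⁻¹ * (x * y * x⁻¹) * x = y := by group
      have h2 := hCcent (hUC hy) x hx
      -- x * (xyx⁻¹) = (xyx⁻¹) * x
      have h3 : x * y * x⁻¹ = y := by
        have : x * (x * y * x⁻¹) * x⁻¹ = x * y * x⁻¹ := by rw [h2, mul_inv_cancel_right]
        have e : x * (x * y * x⁻¹) * x⁻¹ = x * (x * y * x⁻¹) * x⁻¹ := rfl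
        have h4 : x * y * x⁻¹ = x⁻¹ * (x * (x * y * x⁻¹) * x⁻¹) * x := by group
        rw [this] at h4
        rw [h4]; group
      rw [h3] at hy; exact hy
  have hPK : (P : Subgroup G) ≤ Subgroup.normalizer (K : Set G) := by
    rw [Subgroup.normalizer_eq_top_iff.mpr ‹K.Normal›]; exact le_top
  have hPsolv : Group.IsSolvable (P : Subgroup G) := by
    have : Group.IsNilpotent (P : Subgroup G) := P.isPGroup'.isNilpotent
    infer_instance
  obtain ⟨Q, hUQ, hPQ⟩ := Cfsg.Agent.Helper1.exists_invariant_sylow_ge (p := q) (P : Subgroup G) K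
    hPK hcop (Or.inl hPsolv) U (hUC.trans hCK) hUq hPU
  set Q' := (Q : Subgroup K).map K.subtype with hQ'
  have hQ'K : Q' ≤ K := Subgroup.map_subtype_le _
  have hQ'q : IsPGroup q Q' := Q.isPGroup'.map _
  have hQ'card : Nat.card Q' = q ^ (Nat.card K).factorization q := by
    rw [hQ', Subgroup.card_map_of_injective K.subtype_injective]
    exact Q.card_eq_multiplicity
  -- Q' ⊓ C_G(P) = Q' ⊓ C has the order of U
  have hinfeq : Q' ⊓ Subgroup.centralizer ((P : Subgroup G) : Set G) = Q' ⊓ C := by
    apply le_antisymm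
    · apply le_inf inf_le_left
      apply le_inf
      · exact inf_le_right.trans (Subgroup.centralizer_le_normalizer _)
      · exact inf_le_left.trans hQ'K
    · exact le_inf inf_le_left (inf_le_right.trans hCcent)
  have hcardinf : Nat.card ↥(Q' ⊓ C) = q ^ (Nat.card C).factorization q := by
    apply le_antisymm
    · exact Cfsg.Agent.Lead.card_le_ppart_of_isPGroup (hQ'q.to_le inf_le_left) inf_le_right
    · rw [← hUcard]
      exact Subgroup.card_le_of_le (le_inf hUQ hUC)
  have hmod := card_modEq_card_inf_centralizer (P : Subgroup G) Q' P.isPGroup' hPQ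
  rw [hinfeq, hcardinf, hQ'card] at hmod
  -- factorization of |K| = |C| * n
  have hCpos : Nat.card C ≠ 0 := Nat.card_pos.ne'
  have hnpos : C.relIndex K ≠ 0 := by
    intro h
    rw [h, mul_zero] at hcardK
    exact Nat.card_pos.ne' hcardK.symm
  rw [← hcardK, Nat.factorization_mul hCpos hnpos, Finsupp.add_apply, pow_add, ← hnp] at hmod
  have hgcd : Nat.gcd p (q ^ (Nat.card C).factorization q) = 1 := by
    have h1 : q ^ (Nat.card C).factorization q ∣ Nat.card K := by
      rw [← hcardinf]
      exact Subgroup.card_dvd_of_le (inf_le_left.trans hQ'K)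
    have h2 : Nat.Coprime p (Nat.card K) := (Nat.Prime.coprime_iff_not_dvd hp).mpr hpK
    exact Nat.Coprime.coprime_dvd_right h1 h2
  have hmod' : q ^ (Nat.card C).factorization q * q ^ (Nat.card (Sylow p G)).factorization q ≡
      q ^ (Nat.card C).factorization q * 1 [MOD p] := by
    rw [mul_one]; exact hmod
  exact Nat.ModEq.cancel_left_of_coprime hgcd hmod'

end Cfsg.Agent.Helper4
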