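import Mathlib
import Cfsg.Prelude
import Cfsg.Agent.Lead.BG114b
import Cfsg.Agent.Lead.BG11f
import Cfsg.Agent.Lead.T36Final
import Cfsg.Agent.Helper1.Card

set_option autoImplicit false

/-!
Bender–Glauberman Theorem 12.5 and Corollary 12.6 (our statements S1417, S1418), assembled from
Section 11 for the exceptional configuration `Exc M p A₀ A`, with Theorem 12.4 (S1416) and the
normality of `M_σ A` as explicit hypotheses.
-/

namespace Cfsg.Agent.Helper4.BG12

open Cfsg Cfsg.Agent.Helper1 Cfsg.Agent.Helper2 Cfsg.Agent.Helper1.BGT Cfsg.Agent.Helper1.BGU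
  Cfsg.Agent.Helper1.BGV Cfsg.Agent.Helper1.BGW Cfsg.Agent.Helper1.BGX Cfsg.Agent.Lead.BG12
open scoped commutatorElement Pointwise

universe u

variable {G : Type u} [Group G] [Finite G]

variable {M : Subgroup G} {p : ℕ} [hp : Fact p.Prime] {A₀ A : Subgroup G}

/-- From Theorem 12.4(b): for `p ∈ τ₂(M)` the configuration is exceptional. -/
theorem exists_exc_of_tau2 (hG : Cfsg.IsMinSimpleOddOrder G) (hM : IsCoatom M)
    (hpτ : p ∈ Cfsg.tau2 M)
    (hA : A ≤ M ∧ Cfsg.IsElementaryAbelian p A ∧ Nat.card A = p ^ 2)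
    (h16 : (∀ A₀ : Subgroup G, A₀ ≤ A → Nat.card A₀ = p →
          ¬ (Subgroup.normalizer (A₀ : Set G) ≤ M ∧ ∀ L : Subgroup G, IsCoatom L →
            Subgroup.normalizer (A₀ : Set G) ≤ L → L = M)) →
        p ∈ Cfsg.sigma M ∧ Cfsg.alphaCore M = ⊥ ∧ Group.IsNilpotent (Cfsg.sigmaCore M)) :
    ∃ A₀ : Subgroup G, Exc M p A₀ A := by
  by_contra hcon
  push Not at hcon
  apply hpτ.2.1
  refine (h16 ?_).1
  intro A₀ hA₀ hcard hN
  exact hcon A₀ ⟨hG, Cfsg.Agent.Lead.T36Red.pl1_holds hG, hM, hpτ.2.1, hA.1, hA.2.1, hA.2.2, hA₀,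
    hcard, hN.1⟩

/-- Theorem 12.5 for an exceptional configuration. -/
theorem Exc.thm125 (e : Exc M p A₀ A)
    (hD : M ≤ Subgroup.normalizer ((Cfsg.sigmaCore M ⊔ A : Subgroup G) : Set G)) :
    Group.IsNilpotent (Cfsg.sigmaCore M) ∧
      (∀ P : Sylow p M, IsMulCommutative (P : Subgroup M) ∧
        (A ≤ (P : Subgroup M).map M.subtype →
          (∀ x ∈ (P : Subgroup M).map M.subtype, x ^ p = 1 ↔ x ∈ A) ∧
          ¬ Subgroup.normalizer ((((P : Subgroup M).map M.subtype : Subgroup G)) : Set G) ≤ M)) ∧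
      M ≤ Subgroup.normalizer ((Cfsg.sigmaCore M ⊔ A : Subgroup G) : Set G) ∧
      Cfsg.sigmaCore M ⊓ Subgroup.centralizer (A : Set G) = ⊥ ∧
      (∀ Mstar : Subgroup G, IsCoatom Mstar → Mstar ≠ M → A ≤ Mstar →
        Cfsg.sigmaCore M ⊓ Mstar = ⊥) ∧
      ∃ A₁ : Subgroup G, A₁ ≤ A ∧ Nat.card A₁ = p ∧
        Cfsg.sigmaCore M ⊓ Subgroup.centralizer (A₁ : Set G) = ⊥ := by
  have key : ∀ P : Sylow p M, A ≤ (P : Subgroup M).map M.subtype →
      IsMulCommutative (P : Subgroup M) ∧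
        (∀ x ∈ (P : Subgroup M).map M.subtype, x ^ p = 1 ↔ x ∈ A) ∧
        ¬ Subgroup.normalizer ((((P : Subgroup M).map M.subtype : Subgroup G)) : Set G) ≤ M := by
    intro P hAP
    have hTM : (P : Subgroup M).map M.subtype ≤ M := Subgroup.map_subtype_le _
    have hTp : IsPGroup p ↥((P : Subgroup M).map M.subtype) := P.2.map _
    have hTcard : Nat.card ↥((P : Subgroup M).map M.subtype) =
        p ^ (Nat.card M).factorization p := by
      rw [Subgroup.card_map_of_injective M.subtype_injective]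
      exact P.card_eq_multiplicity
    have hab := e.sylow_isMulCommutative hAP hTM hTp hTcard
    refine ⟨?_, ?_, ?_⟩
    · refine ⟨⟨?_⟩⟩
      rintro ⟨x, hx⟩ ⟨y, hy⟩
      have h1 := hab.is_comm.comm ⟨(x : G), ⟨x, hx, rfl⟩⟩ ⟨(y : G), ⟨y, hy, rfl⟩⟩
      have h2 : (x : G) * (y : G) = (y : G) * (x : G) := congrArg Subtype.val h1
      apply Subtype.ext
      apply Subtype.ext
      exact h2
    · intro x hx
      constructor
      · intro hxp
        exact e.mem_of_mem_sylow_of_pow_eq_one hAP hTM hTp hTcard hx hxp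
      · intro hxA
        exact e.elem.2 x hxA
    · intro hN
      have hT1 : (P : Subgroup M).map M.subtype ≠ ⊥ :=
        fun h => e.ne_bot (le_bot_iff.mp (h ▸ hAP))
      exact e.notσ (mem_sigma_of_normalizer_le hTM hT1 hTp hTcard hN)
  refine ⟨e.sigmaCore_isNilpotent, ?_, hD, e.sigmaCore_inf_centralizer_eq_bot, ?_,
    e.exists_fpf_point⟩
  · intro P
    refine ⟨?_, fun hAP => (key P hAP).2⟩
    -- a Sylow subgroup containing `A`
    obtain ⟨P', hP'⟩ := (e.isPGroup.comap_subtype : IsPGroup p ↥(A.subgroupOf M)).exists_le_sylow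
    have hAP' : A ≤ (P' : Subgroup M).map M.subtype := by
      intro a ha
      exact ⟨⟨a, e.leM ha⟩, hP' (Subgroup.mem_subgroupOf.mpr ha), rfl⟩
    have hab' := (key P' hAP').1
    refine ⟨⟨?_⟩⟩
    intro x y
    have h1 := hab'.is_comm.comm (Sylow.equiv P P' x) (Sylow.equiv P P' y)
    rw [← map_mul, ← map_mul] at h1
    exact (Sylow.equiv P P').injective h1
  · intro Mstar hMs hne hAMs
    exact e.sigmaCore_inf_eq_bot hMs hAMs hne


/-- Corollary 12.6 for an exceptional configuration. -/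
theorem Exc.cor126 (e : Exc M p A₀ A)
    (hD : M ≤ Subgroup.normalizer ((Cfsg.sigmaCore M ⊔ A : Subgroup G) : Set G))
    (h16a : Subgroup.centralizer (A : Set G) ≤ M) {E : Subgroup G}
    (hE : Cfsg.IsComplIn E (Cfsg.sigmaCore M) M) (hAE : A ≤ E) :
    (E ≤ Subgroup.normalizer (A : Set G) ∧ ∀ X : Subgroup G, X ≤ E → Nat.card X = p → X ≤ A) ∧
      (Subgroup.centralizer (A : Set G) ≤ M ⊓ Subgroup.normalizer (A : Set G) ∧
        M ⊓ Subgroup.normalizer (A : Set G) = E ∧
        ¬ Subgroup.normalizer (A : Set G) ≤ M) ∧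
      ∀ X : Subgroup G, X ≤ A → Nat.card X = p →
        Cfsg.sigmaCore M ⊓ Subgroup.centralizer (X : Set G) ≠ ⊥ →
        (Subgroup.centralizer (X : Set G) ≤ M ∧ ∀ L : Subgroup G, IsCoatom L →
          Subgroup.centralizer (X : Set G) ≤ L → L = M) := by
  have hG := e.min
  have hM := e.coatom
  have hMσ : M ≤ Subgroup.normalizer ((Cfsg.sigmaCore M : Subgroup G) : Set G) :=
    le_normalizer_sigmaCore M
  have hdisj : E ⊓ Cfsg.sigmaCore M = ⊥ := hE.2.2.1
  -- `(M_σ A) ∩ E ≤ A`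
  have hkey : ∀ x ∈ Cfsg.sigmaCore M ⊔ A, x ∈ E → x ∈ A := by
    intro x hx hxE
    have hset : (((Cfsg.sigmaCore M ⊔ A : Subgroup G)) : Set G) =
        (Cfsg.sigmaCore M : Set G) * (A : Set G) :=
      Subgroup.coe_mul_of_right_le_normalizer_left _ A (e.leM.trans hMσ)
    have hx' : x ∈ (Cfsg.sigmaCore M : Set G) * (A : Set G) := by rw [← hset]; exact hx
    obtain ⟨s, hs, a, ha, rfl⟩ := Set.mem_mul.mp hx'
    have hsE : s ∈ E := by
      have : s = s * a * a⁻¹ := by group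
      rw [this]
      exact E.mul_mem hxE (E.inv_mem (hAE ha))
    have hs1 : s = 1 := by
      have : s ∈ E ⊓ Cfsg.sigmaCore M := ⟨hsE, hs⟩
      rw [hdisj, Subgroup.mem_bot] at this
      exact this
    rw [hs1, one_mul]; exact ha
  have hEN : E ≤ Subgroup.normalizer (A : Set G) := by
    intro g hg
    apply Subgroup.mem_normalizer_fintype
    intro a ha
    apply hkey
    · exact (Subgroup.mem_normalizer_iff.mp (hD (hE.1 hg)) a).mp (Subgroup.mem_sup_right ha)
    · exact E.mul_mem (E.mul_mem hg (hAE ha)) (E.inv_mem hg)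
  refine ⟨⟨hEN, ?_⟩, ⟨le_inf h16a (Subgroup.centralizer_le_normalizer _), ?_, ?_⟩, ?_⟩
  · -- subgroups of order `p` of `E`
    intro X hXE hXcard
    have hXN : X ≤ Subgroup.normalizer (A : Set G) := hXE.trans hEN
    have hXAp : IsPGroup p ↥(A ⊔ X) := by
      have h1 := Cfsg.Agent.Helper1.card_sup_mul_card_inf (N := A) (A := X) hXN
      rw [e.card, hXcard] at h1
      have h2 : Nat.card ↥(A ⊔ X) ∣ p ^ 3 := by
        have : p ^ 2 * p = p ^ 3 := by ring
        rw [← this, ← h1]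
        exact Dvd.intro _ rfl
      obtain ⟨k, -, hk⟩ := (Nat.dvd_prime_pow hp.out).mp h2
      exact IsPGroup.of_card hk
    have hXAM : A ⊔ X ≤ M := sup_le e.leM (hXE.trans hE.1)
    obtain ⟨T, hUT, hTM, hTp, hTcard⟩ := Cfsg.Agent.Lead.exists_le_card_eq_ppart hXAp hXAM
    intro x hx
    apply e.mem_of_mem_sylow_of_pow_eq_one (le_sup_left.trans hUT) hTM hTp hTcard
      (hUT (Subgroup.mem_sup_right hx))
    have h1 : (⟨x, hx⟩ : ↥X) ^ Nat.card ↥X = 1 := pow_card_eq_one'
    rw [hXcard] at h1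
    have h2 := congrArg Subtype.val h1
    simpa using h2
  · -- `N_M(A) = E`
    apply le_antisymm
    · rintro x ⟨hxM, hxN⟩
      obtain ⟨e', he', s, hs, rfl⟩ := hE.2.2.2 x hxM
      have hsN : s ∈ Subgroup.normalizer (A : Set G) := by
        have : s = e'⁻¹ * (e' * s) := by group
        rw [this]
        exact Subgroup.mul_mem _ (Subgroup.inv_mem _ (hEN he')) hxN
      have hsC : s ∈ Subgroup.centralizer (A : Set G) := by
        rw [Subgroup.mem_centralizer_iff]
        intro a ha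
        have h1 : s * a * s⁻¹ * a⁻¹ ∈ A :=
          A.mul_mem ((Subgroup.mem_normalizer_iff.mp hsN a).mp ha) (A.inv_mem ha)
        have h2 : s * a * s⁻¹ * a⁻¹ ∈ Cfsg.sigmaCore M := by
          have h3 : a * s⁻¹ * a⁻¹ ∈ Cfsg.sigmaCore M :=
            (Subgroup.mem_normalizer_iff.mp (hMσ (e.leM ha)) s⁻¹).mp (Subgroup.inv_mem _ hs)
          have e1 : s * a * s⁻¹ * a⁻¹ = s * (a * s⁻¹ * a⁻¹) := by group
          rw [e1]
          exact Subgroup.mul_mem _ hs h3
        have h4 : s * a * s⁻¹ * a⁻¹ = 1 := by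
          have : s * a * s⁻¹ * a⁻¹ ∈ E ⊓ Cfsg.sigmaCore M := ⟨hAE h1, h2⟩
          rw [hdisj, Subgroup.mem_bot] at this
          exact this
        have e1 : a * s = (s * a * s⁻¹ * a⁻¹)⁻¹ * (s * a) := by group
        rw [e1, h4]; group
      have hs1 : s = 1 := by
        have : s ∈ Cfsg.sigmaCore M ⊓ Subgroup.centralizer (A : Set G) := ⟨hs, hsC⟩
        rw [e.sigmaCore_inf_centralizer_eq_bot, Subgroup.mem_bot] at this
        exact this
      rw [hs1, mul_one]; exact he'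
    · exact le_inf hE.1 hEN
  · intro hN
    obtain ⟨n, hn, hnM⟩ := e.exists_normalizer_not_mem
    exact hnM (hN hn)
  · intro X hXA hXcard hne
    have hX1 : X ≠ ⊥ := by
      intro h0
      rw [h0, Subgroup.card_bot] at hXcard
      exact hp.out.one_lt.ne hXcard
    have hAC : A ≤ Subgroup.centralizer (X : Set G) :=
      e.le_centralizer.trans (Subgroup.centralizer_le hXA)
    have huniq : ∀ L : Subgroup G, IsCoatom L → Subgroup.centralizer (X : Set G) ≤ L → L = M := by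
      intro L hL hCL
      by_contra hLM
      apply hne
      rw [eq_bot_iff, ← e.sigmaCore_inf_eq_bot hL (hAC.trans hCL) hLM]
      exact inf_le_inf_left _ hCL
    obtain ⟨L, hL, hCL⟩ := exists_coatom_ge (centralizer_ne_top_of_ne_bot hG hX1)
    exact ⟨(huniq L hL hCL) ▸ hCL, huniq⟩

end Cfsg.Agent.Helper4.BG12
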