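import Mathlib
import Cfsg.Prelude
import Cfsg.Agent.Helper4.BG12a
import Cfsg.Agent.Lead.BG124b
import Cfsg.Agent.Helper1.BG116e

set_option autoImplicit false

/-!
For `p ∈ τ₂(M)` the conclusions of Bender–Glauberman 12.4 hold with (D) alone (Step 2 on `α(M)` is
not needed since `α(M) ⊆ σ(M)`): `C(A) ≤ M` and the configuration is exceptional.  From this,
Theorem 12.5 and Corollary 12.6 in their final form.
-/

namespace Cfsg.Agent.Helper4.BG12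

open Cfsg Cfsg.Agent.Helper1 Cfsg.Agent.Helper2 Cfsg.Agent.Helper1.BGT Cfsg.Agent.Helper1.BGU
  Cfsg.Agent.Helper1.BGV Cfsg.Agent.Helper1.BGW Cfsg.Agent.Helper1.BGX Cfsg.Agent.Lead.BG12
open scoped commutatorElement Pointwise

universe u

variable {G : Type u} [Group G] [Finite G]

/-- For `p ∈ τ₂(M)` non-uniqueness fails. -/
theorem not_nonUniq_of_tau2 (hG : Cfsg.IsMinSimpleOddOrder G) {M : Subgroup G} (hM : IsCoatom M)
    {p : ℕ} [hp : Fact p.Prime] (hpτ : p ∈ Cfsg.tau2 M) {A : Subgroup G}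
    (hA : A ≤ M ∧ Cfsg.IsElementaryAbelian p A ∧ Nat.card A = p ^ 2) : ¬ NonUniq M p A :=
  fun hno => hpτ.2.1
    (hno.mem_sigma hG Cfsg.Agent.Helper1.BG116.hypD hM hA.1 hA.2.1 hA.2.2)

/-- For `p ∈ τ₂(M)`: `C(A) ≤ M`. -/
theorem centralizer_le_of_tau2 (hG : Cfsg.IsMinSimpleOddOrder G) {M : Subgroup G} (hM : IsCoatom M)
    {p : ℕ} [hp : Fact p.Prime] (hpτ : p ∈ Cfsg.tau2 M) {A : Subgroup G}
    (hA : A ≤ M ∧ Cfsg.IsElementaryAbelian p A ∧ Nat.card A = p ^ 2) :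
    Subgroup.centralizer (A : Set G) ≤ M := by
  have hno := not_nonUniq_of_tau2 hG hM hpτ hA
  unfold NonUniq at hno
  push Not at hno
  obtain ⟨A₀, hA₀A, -, hN, -⟩ := hno
  exact ((Subgroup.centralizer_le (SetLike.coe_subset_coe.mpr hA₀A)).trans
    (Subgroup.centralizer_le_normalizer _)).trans hN

/-- For `p ∈ τ₂(M)` the configuration is exceptional. -/
theorem exists_exc_of_tau2' (hG : Cfsg.IsMinSimpleOddOrder G) {M : Subgroup G} (hM : IsCoatom M)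
    {p : ℕ} [hp : Fact p.Prime] (hpτ : p ∈ Cfsg.tau2 M) {A : Subgroup G}
    (hA : A ≤ M ∧ Cfsg.IsElementaryAbelian p A ∧ Nat.card A = p ^ 2) :
    ∃ A₀ : Subgroup G, Exc M p A₀ A :=
  exists_exc_of_tau2 hG hM hpτ hA (fun hno => absurd hno (not_nonUniq_of_tau2 hG hM hpτ hA))

/-- **Bender–Glauberman Theorem 12.5.** -/
theorem thm125 (hG : Cfsg.IsMinSimpleOddOrder G) {M : Subgroup G} (hM : IsCoatom M)
    {p : ℕ} [hp : Fact p.Prime] (hpτ : p ∈ Cfsg.tau2 M) {A : Subgroup G}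
    (hA : A ≤ M ∧ Cfsg.IsElementaryAbelian p A ∧ Nat.card A = p ^ 2) :
    Group.IsNilpotent (Cfsg.sigmaCore M) ∧
      (∀ P : Sylow p M, IsMulCommutative (P : Subgroup M) ∧
        (A ≤ (P : Subgroup M).map M.subtype →
          (∀ x ∈ (P : Subgroup M).map M.subtype, x ^ p = 1 ↔ x ∈ A) ∧
          ¬ Subgroup.normalizer ((((P : Subgroup M).map M.subtype : Subgroup G)) : Set G) ≤ M)) ∧
      M ≤ Subgroup.normalizer ((Cfsg.sigmaCore M ⊔ A : Subgroup G) : Set G) ∧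
      Cfsg.sigmaCore M ⊓ Subgroup.centralizer (A : Set G) = ⊥ ∧
      (∀ Mstar : Subgroup G, IsCoatom Mstar → Mstar ≠ M → A ≤ Mstar →
        Cfsg.sigmaCore M ⊓ Mstar = ⊥) ∧
      ∃ A₁ : Subgroup G, A₁ ≤ A ∧ Nat.card A₁ = p ∧
        Cfsg.sigmaCore M ⊓ Subgroup.centralizer (A₁ : Set G) = ⊥ := by
  obtain ⟨A₀, e⟩ := exists_exc_of_tau2' hG hM hpτ hA
  exact Exc.thm125 e (Cfsg.Agent.Helper1.BG116.hypD M p A₀ A e)

/-- **Bender–Glauberman Corollary 12.6.** -/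
theorem cor126 (hG : Cfsg.IsMinSimpleOddOrder G) {M : Subgroup G} (hM : IsCoatom M)
    {p : ℕ} [hp : Fact p.Prime] (hpτ : p ∈ Cfsg.tau2 M) {A E : Subgroup G}
    (hE : Cfsg.IsComplIn E (Cfsg.sigmaCore M) M)
    (hA : A ≤ E ∧ Cfsg.IsElementaryAbelian p A ∧ Nat.card A = p ^ 2) :
    (E ≤ Subgroup.normalizer (A : Set G) ∧ ∀ X : Subgroup G, X ≤ E → Nat.card X = p → X ≤ A) ∧
      (Subgroup.centralizer (A : Set G) ≤ M ⊓ Subgroup.normalizer (A : Set G) ∧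
        M ⊓ Subgroup.normalizer (A : Set G) = E ∧
        ¬ Subgroup.normalizer (A : Set G) ≤ M) ∧
      ∀ X : Subgroup G, X ≤ A → Nat.card X = p →
        Cfsg.sigmaCore M ⊓ Subgroup.centralizer (X : Set G) ≠ ⊥ →
        (Subgroup.centralizer (X : Set G) ≤ M ∧ ∀ L : Subgroup G, IsCoatom L →
          Subgroup.centralizer (X : Set G) ≤ L → L = M) := by
  have hA' : A ≤ M ∧ Cfsg.IsElementaryAbelian p A ∧ Nat.card A = p ^ 2 :=
    ⟨hA.1.trans hE.1, hA.2⟩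
  obtain ⟨A₀, e⟩ := exists_exc_of_tau2' hG hM hpτ hA'
  exact Exc.cor126 e (Cfsg.Agent.Helper1.BG116.hypD M p A₀ A e)
    (centralizer_le_of_tau2 hG hM hpτ hA') hE hA.1

end Cfsg.Agent.Helper4.BG12
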