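import Mathlib
import Cfsg.Prelude
import Cfsg.Agent.Helper4.BG10b
import Cfsg.Agent.Lead.BG108e
import Cfsg.Agent.Helper1.HallExtra
import Cfsg.Agent.Helper5.PMinimal4

set_option autoImplicit false

/-!
Bender–Glauberman Proposition 10.10 (`nonuniq_norm_Sylow_pprod`): two distinct maximal subgroups
containing the normalizer of a Sylow subgroup of `G`.
-/

namespace Cfsg.Agent.Helper4.BG10

open Cfsg Cfsg.Agent.Helper1 Cfsg.Agent.Helper2 Cfsg.Agent.Helper1.BGT Cfsg.Agent.Helper1.BGU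
  Cfsg.Agent.Helper1.BGV Cfsg.Agent.Helper1.BGW Cfsg.Agent.Helper1.BGX Cfsg.Agent.Lead.BG12
  Cfsg.Agent.Lead.BG108
open scoped commutatorElement Pointwise

universe u

section generic

variable {X : Type u} [Group X] [Finite X]

/-- A normal subgroup of a normal subgroup `K`, of order prime to its index in `K`, is normal in
the whole group. -/
theorem normal_map_of_coprime_index (K : Subgroup X) [hK : K.Normal] (N : Subgroup ↥K) [hN : N.Normal]
    (hcop : (Nat.card N).Coprime N.index) : (N.map K.subtype).Normal := by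
  constructor
  intro n hn g
  obtain ⟨k, hk, rfl⟩ := hn
  have hmem : g * (k : X) * g⁻¹ ∈ K := hK.conj_mem _ k.2 g
  refine ⟨⟨g * (k : X) * g⁻¹, hmem⟩, ?_, rfl⟩
  apply mem_of_pow_eq_one_of_coprime_index N hcop
  apply Subtype.ext
  have h1 : (⟨k, hk⟩ : ↥N) ^ Nat.card ↥N = 1 := pow_card_eq_one'
  have h2 : (k : X) ^ Nat.card ↥N = 1 := by
    have h3 := congrArg (fun z : ↥N => ((z : ↥K) : X)) h1
    simp only [Subgroup.coe_pow, Subgroup.coe_one] at h3
    exact h3
  simp only [Subgroup.coe_pow, Subgroup.coe_one]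
  rw [conj_pow, h2, mul_one, mul_inv_cancel]

/-- Frattini: a Sylow subgroup of the whole group inside a normal subgroup `N`; the index of its
normalizer divides `|N|`. -/
theorem index_normalizer_dvd_card_of_le_normal {p : ℕ} [hp : Fact p.Prime] (N : Subgroup X)
    [hN : N.Normal] (P : Subgroup X) (hPN : P ≤ N) (hPp : IsPGroup p ↥P)
    (hcard : Nat.card P = p ^ (Nat.card X).factorization p) :
    (Subgroup.normalizer (P : Set X)).index ∣ Nat.card N := by
  have hc : Nat.card ↥(P.subgroupOf N) = p ^ (Nat.card ↥N).factorization p := by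
    rw [Cfsg.Agent.Lead.card_subgroupOf_of_le hPN, hcard]
    congr 1
    apply le_antisymm
    · have h1 : p ^ (Nat.card X).factorization p ∣ Nat.card N := by
        rw [← hcard]; exact Subgroup.card_dvd_of_le hPN
      exact (hp.out.pow_dvd_iff_le_factorization Nat.card_pos.ne').mp h1
    · exact (Nat.factorization_le_iff_dvd Nat.card_pos.ne' Nat.card_pos.ne').mpr
        (Subgroup.card_subgroup_dvd_card N) p
  have h := Sylow.normalizer_sup_eq_top (Sylow.ofCard (P.subgroupOf N) hc)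
  rw [Sylow.coe_ofCard, Subgroup.map_subgroupOf_eq_of_le hPN] at h
  apply Cfsg.Agent.Helper5.index_dvd_card_of_sup_eq_top
  rw [sup_comm]; exact h

end generic

variable {G : Type u} [Group G] [Finite G]

variable {M : Subgroup G} {p : ℕ} [hp : Fact p.Prime] {P : Subgroup G}

/-- For a Sylow subgroup `P` of `G` with `N(P) ≤ M`, only primes of `β(M)` divide `|M : N_M(P)|`. -/
theorem sigCtx_not_dvd_relIndex_normalizer (c : SigCtx M p P) {t : ℕ} (ht : t.Prime)
    (htβ : t ∉ Cfsg.beta M) :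
    ¬ t ∣ (M ⊓ Subgroup.normalizer (P : Set G)).relIndex M := by
  have hG := c.min
  have hM := c.coatom
  haveI := Fact.mk ht
  intro hd
  have htM : t ∣ Nat.card M := hd.trans (Subgroup.relIndex_dvd_card _ _)
  -- translate to the group `↥M`
  set PX : Subgroup ↥M := P.subgroupOf M with hPX
  have hPXp : IsPGroup p ↥PX := c.pgroup.comap_subtype
  have hPXcard : Nat.card ↥PX = p ^ (Nat.card ↥M).factorization p := by
    rw [hPX, Cfsg.Agent.Lead.card_subgroupOf_of_le c.le]; exact c.cardM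
  have hnorm : (Subgroup.normalizer (PX : Set ↥M)) =
      (M ⊓ Subgroup.normalizer (P : Set G)).subgroupOf M := by
    ext x
    rw [Subgroup.mem_subgroupOf, Subgroup.mem_inf, Subgroup.mem_normalizer_iff,
      Subgroup.mem_normalizer_iff]
    constructor
    · intro h
      refine ⟨x.2, fun y => ?_⟩
      constructor
      · intro hy
        have := (h ⟨y, c.le hy⟩).mp (Subgroup.mem_subgroupOf.mpr hy)
        exact Subgroup.mem_subgroupOf.mp this
      · intro hy
        have hyM : y ∈ M := by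
          have h1 : (x : G)⁻¹ * ((x : G) * y * (x : G)⁻¹) * (x : G) ∈ M :=
            M.mul_mem (M.mul_mem (M.inv_mem x.2) (c.le hy)) x.2
          have h2 : (x : G)⁻¹ * ((x : G) * y * (x : G)⁻¹) * (x : G) = y := by group
          rwa [h2] at h1
        have := (h ⟨y, hyM⟩).mpr (Subgroup.mem_subgroupOf.mpr hy)
        exact Subgroup.mem_subgroupOf.mp this
    · rintro ⟨-, h⟩ y
      rw [Subgroup.mem_subgroupOf, Subgroup.mem_subgroupOf]
      exact h y
  have hidx : (Subgroup.normalizer (PX : Set ↥M)).index =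
      (M ⊓ Subgroup.normalizer (P : Set G)).relIndex M := by
    rw [hnorm]; rfl
  rw [← hidx] at hd
  by_cases htp : t = p
  · -- the normalizer contains the Sylow subgroup
    subst htp
    have h1 : (Subgroup.normalizer (PX : Set ↥M)).index ∣ PX.index :=
      Subgroup.index_dvd_of_le Subgroup.le_normalizer
    exact (Sylow.ofCard PX hPXcard).not_dvd_index (hd.trans h1)
  · obtain ⟨-, h2⟩ := prime_data hG hM ht htM htβ
    obtain ⟨N, hN, hcop, k, hk⟩ := npc_of_hasNormalPComplement h2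
    have hcop' : (Nat.card ↥N).Coprime N.index := by
      rw [hk]; exact Nat.Coprime.pow_right k hcop
    haveI := hN
    have hNn : (N.map (commutator ↥M).subtype).Normal :=
      normal_map_of_coprime_index (commutator ↥M) N hcop'
    -- `P ≤ N`
    have hPK : PX ≤ commutator ↥M := by
      intro x hx
      have h1 : (x : G) ∈ ⁅M, M⁆ := c.le_commutator (Subgroup.mem_subgroupOf.1 hx)
      obtain ⟨hxM, hxc⟩ := mem_commutator_subtype h1
      exact hxc
    have hPN : PX ≤ N.map (commutator ↥M).subtype := by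
      intro x hx
      refine ⟨⟨x, hPK hx⟩, ?_, rfl⟩
      have hR : IsPGroup p ↥(PX.subgroupOf (commutator ↥M)) := hPXp.comap_subtype
      have := le_of_isPGroup_of_index_pow ht hp.out (Ne.symm htp) N hk hR
      exact this (Subgroup.mem_subgroupOf.mpr hx)
    have h3 := index_normalizer_dvd_card_of_le_normal (N.map (commutator ↥M).subtype) PX hPN hPXp
      hPXcard
    rw [Subgroup.card_map_of_injective (Subgroup.subtype_injective _)] at h3
    have h4 : t ∣ Nat.card ↥N := hd.trans h3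
    exact (Nat.Prime.coprime_iff_not_dvd ht).1 hcop.symm h4


theorem sigCtx_ne_bot (c : SigCtx M p P) : P ≠ ⊥ := by
  rintro rfl
  have h := c.norm
  have h1 : Subgroup.normalizer (((⊥ : Subgroup G)) : Set G) = ⊤ := by
    rw [eq_top_iff]
    intro g _
    rw [Subgroup.mem_normalizer_iff]
    intro x
    simp only [Subgroup.mem_bot]
    constructor
    · rintro rfl; group
    · intro hx
      have : x = g⁻¹ * (g * x * g⁻¹) * g := by group
      rw [this, hx]; group
  rw [h1] at h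
  exact c.coatom.1 (top_le_iff.mp h)

theorem sigCtx_pRankLE_of_pRankLE (c : SigCtx M p P) {k : ℕ} (hr : Cfsg.PRankLE p k ↥P) :
    Cfsg.PRankLE p k ↥M := by
  have h1 : Cfsg.PRankLE p k G := pRankLE_of_sylow (Sylow.ofCard P c.cardG) hr
  exact Cfsg.Agent.Helper2.pRankLE_of_injective p k M.subtype M.subtype_injective h1

theorem sigCtx_not_dvd_card_betaCore (c : SigCtx M p P) (hr : Cfsg.PRankLE p 2 ↥P) :
    ¬ p ∣ Nat.card ↥(Cfsg.piCoreOf (Cfsg.beta M) M) := by
  intro hd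
  have hβ := piCoreOf_isPi (Cfsg.beta M) M p hp.out hd
  exact hβ.1.2 (sigCtx_pRankLE_of_pRankLE c hr)

/-- `M = M_β N_M(P)`. -/
theorem sigCtx_exists_mul_betaCore (c : SigCtx M p P) :
    ∀ m ∈ M, ∃ b ∈ Cfsg.piCoreOf (Cfsg.beta M) M, ∃ n ∈ Subgroup.normalizer (P : Set G),
      m = b * n := by
  have hG := c.min
  have hM := c.coatom
  obtain ⟨hHall, -⟩ := betaCore_hall hG hM
  have hcop : ((Cfsg.piCoreOf (Cfsg.beta M) M).relIndex M).Coprime
      ((Subgroup.normalizer (P : Set G)).relIndex M) := by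
    apply Nat.Coprime.symm
    apply Nat.Coprime.symm
    apply Nat.coprime_of_dvd
    intro t ht h1 h2
    by_cases htβ : t ∈ Cfsg.beta M
    · exact hHall.2.2 t ht htβ h1
    · apply sigCtx_not_dvd_relIndex_normalizer c ht htβ
      rw [Subgroup.inf_relIndex_left]
      exact h2
  exact exists_mul_of_coprime_relIndex hcop

/-- `M_β ∩ N(P) ≤ C(P)` when `P` has rank at most two. -/
theorem sigCtx_betaCore_inf_normalizer_le (c : SigCtx M p P) (hr : Cfsg.PRankLE p 2 ↥P) :
    Cfsg.piCoreOf (Cfsg.beta M) M ⊓ Subgroup.normalizer (P : Set G) ≤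
      Subgroup.centralizer (P : Set G) := by
  intro b hb
  rw [Subgroup.mem_centralizer_iff]
  intro x hx
  have hbn : b * x * b⁻¹ ∈ P := (Subgroup.mem_normalizer_iff.mp hb.2 x).mp hx
  have h1 : b * x * b⁻¹ * x⁻¹ ∈ P := P.mul_mem hbn (P.inv_mem hx)
  have h2 : b * x * b⁻¹ * x⁻¹ ∈ Cfsg.piCoreOf (Cfsg.beta M) M := by
    have h3 : x * b⁻¹ * x⁻¹ ∈ Cfsg.piCoreOf (Cfsg.beta M) M :=
      (Subgroup.mem_normalizer_iff.mp (le_normalizer_piCoreOf (Cfsg.beta M) M (c.le hx)) b⁻¹).mp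
        (Subgroup.inv_mem _ hb.1)
    have e : b * x * b⁻¹ * x⁻¹ = b * (x * b⁻¹ * x⁻¹) := by group
    rw [e]
    exact Subgroup.mul_mem _ hb.1 h3
  have h4 : b * x * b⁻¹ * x⁻¹ = 1 := by
    have hinf : P ⊓ Cfsg.piCoreOf (Cfsg.beta M) M = ⊥ := by
      by_contra hne
      have hd := dvd_card_of_isPGroup_ne_bot (c.pgroup.to_le inf_le_left) hne
      exact sigCtx_not_dvd_card_betaCore c hr (hd.trans (Subgroup.card_dvd_of_le inf_le_right))
    have : b * x * b⁻¹ * x⁻¹ ∈ P ⊓ Cfsg.piCoreOf (Cfsg.beta M) M := ⟨h1, h2⟩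
    rw [hinf, Subgroup.mem_bot] at this
    exact this
  have e : x * b = (b * x * b⁻¹ * x⁻¹)⁻¹ * (b * x) := by group
  rw [e, h4]; group

/-- The setting of Bender–Glauberman Proposition 10.10: two distinct maximal subgroups containing
the normalizer of a Sylow `p`-subgroup `P` of `G`. -/
structure NU (M H : Subgroup G) (p : ℕ) (P : Subgroup G) : Prop where
  cM : SigCtx M p P
  cH : SigCtx H p P
  ne : M ≠ H

variable {H : Subgroup G}

theorem NU.symm (h : NU M H p P) : NU H M p P := ⟨h.cH, h.cM, h.ne.symm⟩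

theorem NU.pRankLE (h : NU M H p P) : Cfsg.PRankLE p 2 ↥P := by
  by_contra hr
  have hEA : HasEA p 2 P := hasEA_of_not_pRankLE hr
  have hPtop : P ≠ ⊤ := sylow_ne_top h.cM.min p P h.cM.pgroup
  have hU := thm96 h.cM.min P hPtop
    (not_rankLE_of_hasEA hp.out (hasEA_weaken hEA (by norm_num)))
    (Or.inl (not_rankLE_of_hasEA hp.out hEA))
  exact h.ne (hU.unique ⟨h.cM.coatom, h.cM.le⟩ ⟨h.cH.coatom, h.cH.le⟩)

theorem NU.not_mem_beta (h : NU M H p P) : p ∉ Cfsg.beta M :=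
  fun hβ => hβ.1.2 (sigCtx_pRankLE_of_pRankLE h.cM h.pRankLE)

/-- `β(M) ∩ β(H) = ∅`. -/
theorem NU.beta_disjoint (h : NU M H p P) {r : ℕ} (hrM : r ∈ Cfsg.beta M)
    (hrH : r ∈ Cfsg.beta H) : False := by
  have hG := h.cM.min
  haveI := Fact.mk hrM.1.1
  obtain ⟨R1, -, c1, -, hu1, -⟩ := exists_sylow_of_mem_alpha hG h.cM.coatom hrM.1
  obtain ⟨R2, -, c2, -, -, -⟩ := exists_sylow_of_mem_alpha hG h.cH.coatom hrH.1
  obtain ⟨g, hg⟩ := Cfsg.Agent.Lead.exists_conj_le_sylow (Sylow.ofCard R2 c2.cardG) R1 c1.pgroup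
  rw [Sylow.coe_ofCard] at hg
  have h1 : R1 ≤ H.map (MulAut.conj g⁻¹).toMonoidHom := by
    intro x hx
    refine ⟨g * x * g⁻¹, c2.le (hg ⟨x, hx, rfl⟩), ?_⟩
    simp only [MulEquiv.coe_toMonoidHom, MulAut.conj_apply]
    group
  have hco : IsCoatom (H.map (MulAut.conj g⁻¹).toMonoidHom) := by
    have := isCoatom_conj_smul g⁻¹ h.cH.coatom
    rwa [Subgroup.pointwise_smul_def] at this
  have h2 := hu1 _ hco h1
  have h3 : P ≤ M.map (MulAut.conj g).toMonoidHom := by
    intro x hx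
    have hxH := h.cH.le hx
    have : g⁻¹ * x * g⁻¹⁻¹ ∈ M := by
      rw [← h2]; exact ⟨x, hxH, rfl⟩
    refine ⟨g⁻¹ * x * g⁻¹⁻¹, this, ?_⟩
    simp only [MulEquiv.coe_toMonoidHom, MulAut.conj_apply]
    group
  have hgM : g ∈ M := mem_of_le_inf_conj_of_centralizer_le hG h.cM.coatom
    (h.cM.mem_sigma (sigCtx_ne_bot h.cM)) h.cM.pgroup (sigCtx_ne_bot h.cM) h.cM.le h3
    ((Subgroup.centralizer_le_normalizer _).trans h.cM.norm)
  have hHM : H ≤ M := by
    intro x hx
    have h4 : g⁻¹ * x * g⁻¹⁻¹ ∈ M := by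
      rw [← h2]; exact ⟨x, hx, rfl⟩
    have e : x = g * (g⁻¹ * x * g⁻¹⁻¹) * g⁻¹ := by group
    rw [e]
    exact M.mul_mem (M.mul_mem hgM h4) (M.inv_mem hgM)
  exact h.ne ((h.cH.coatom.le_iff_eq h.cM.coatom.1).mp hHM)


theorem NU.coprime_card_betaCore (h : NU M H p P) :
    (Nat.card ↥(Cfsg.piCoreOf (Cfsg.beta M) M)).Coprime
      (Nat.card ↥(Cfsg.piCoreOf (Cfsg.beta H) H)) := by
  apply Nat.coprime_of_dvd
  intro t ht h1 h2
  exact h.beta_disjoint (piCoreOf_isPi (Cfsg.beta M) M t ht h1)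
    (piCoreOf_isPi (Cfsg.beta H) H t ht h2)

/-- `M_β ∩ H ≤ C(P)`. -/
theorem NU.betaCore_inf_le_centralizer (h : NU M H p P) :
    Cfsg.piCoreOf (Cfsg.beta M) M ⊓ H ≤ Subgroup.centralizer (P : Set G) := by
  set B := Cfsg.piCoreOf (Cfsg.beta M) M with hB
  set B' := Cfsg.piCoreOf (Cfsg.beta H) H with hB'
  have hPB' : P ≤ Subgroup.normalizer (B' : Set G) :=
    h.cH.le.trans (le_normalizer_piCoreOf (Cfsg.beta H) H)
  have hdisj : P ⊓ B' = ⊥ := by
    by_contra hne
    have hd := dvd_card_of_isPGroup_ne_bot (h.cH.pgroup.to_le inf_le_left) hne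
    exact sigCtx_not_dvd_card_betaCore h.cH h.pRankLE
      (hd.trans (Subgroup.card_dvd_of_le inf_le_right))
  have hcard : Nat.card ↥(B' ⊔ P) = Nat.card P * Nat.card B' :=
    card_sup_of_le_normalizer hPB' hdisj
  have htriv : B ⊓ (B' ⊔ P) = ⊥ := by
    apply Subgroup.eq_bot_of_card_eq
    have h1 : Nat.card ↥(B ⊓ (B' ⊔ P)) ∣ Nat.card B := Subgroup.card_dvd_of_le inf_le_left
    have h2 : Nat.card ↥(B ⊓ (B' ⊔ P)) ∣ Nat.card P * Nat.card B' := by
      rw [← hcard]; exact Subgroup.card_dvd_of_le inf_le_right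
    have hcop : (Nat.card B).Coprime (Nat.card P * Nat.card B') := by
      apply Nat.Coprime.mul_right
      · obtain ⟨k, hk⟩ := IsPGroup.iff_card.mp h.cM.pgroup
        rw [hk]
        apply Nat.Coprime.pow_right
        rw [Nat.coprime_comm, Nat.Prime.coprime_iff_not_dvd hp.out]
        exact sigCtx_not_dvd_card_betaCore h.cM h.pRankLE
      · exact h.coprime_card_betaCore
    have h3 := Nat.dvd_gcd h1 h2
    rw [Nat.Coprime.gcd_eq_one hcop] at h3
    exact Nat.dvd_one.mp h3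
  intro b hb
  rw [Subgroup.mem_centralizer_iff]
  intro y hy
  obtain ⟨b', hb', n', hn', e⟩ := sigCtx_exists_mul_betaCore h.cH b hb.2
  have hy' : n' * y * n'⁻¹ ∈ P := (Subgroup.mem_normalizer_iff.mp hn' y).mp hy
  have h1 : b * y * b⁻¹ * y⁻¹ ∈ B := by
    have h3 : y * b⁻¹ * y⁻¹ ∈ B :=
      (Subgroup.mem_normalizer_iff.mp (le_normalizer_piCoreOf (Cfsg.beta M) M (h.cM.le hy)) b⁻¹).mp
        (Subgroup.inv_mem _ hb.1)
    have e' : b * y * b⁻¹ * y⁻¹ = b * (y * b⁻¹ * y⁻¹) := by group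
    rw [e']
    exact Subgroup.mul_mem _ hb.1 h3
  have h2 : b * y * b⁻¹ * y⁻¹ ∈ B' ⊔ P := by
    have h3 : (n' * y * n'⁻¹) * b'⁻¹ * (n' * y * n'⁻¹)⁻¹ ∈ B' :=
      (Subgroup.mem_normalizer_iff.mp (hPB' hy') b'⁻¹).mp (Subgroup.inv_mem _ hb')
    have e' : b * y * b⁻¹ * y⁻¹ =
        (b' * ((n' * y * n'⁻¹) * b'⁻¹ * (n' * y * n'⁻¹)⁻¹)) * ((n' * y * n'⁻¹) * y⁻¹) := by
      rw [e]; group
    rw [e']
    exact Subgroup.mul_mem _ (Subgroup.mem_sup_left (Subgroup.mul_mem _ hb' h3))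
      (Subgroup.mem_sup_right (P.mul_mem hy' (P.inv_mem hy)))
  have h4 : b * y * b⁻¹ * y⁻¹ = 1 := by
    have : b * y * b⁻¹ * y⁻¹ ∈ B ⊓ (B' ⊔ P) := ⟨h1, h2⟩
    rw [htriv, Subgroup.mem_bot] at this
    exact this
  have e' : y * b = (b * y * b⁻¹ * y⁻¹)⁻¹ * (b * y) := by group
  rw [e', h4]; group

/-- `M ∩ H = N(P)`. -/
theorem NU.inf_eq (h : NU M H p P) : M ⊓ H = Subgroup.normalizer (P : Set G) := by
  apply le_antisymm
  · intro x hx
    obtain ⟨b, hb, n, hn, e⟩ := sigCtx_exists_mul_betaCore h.cM x hx.1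
    have hbH : b ∈ H := by
      have : b = x * n⁻¹ := by rw [e]; group
      rw [this]
      exact H.mul_mem hx.2 (H.inv_mem (h.cH.norm hn))
    have hbN : b ∈ Subgroup.normalizer (P : Set G) :=
      Subgroup.centralizer_le_normalizer _ (h.betaCore_inf_le_centralizer ⟨hb, hbH⟩)
    rw [e]
    exact Subgroup.mul_mem _ hbN hn
  · exact le_inf h.cM.norm h.cH.norm

/-- `M_β ≠ 1`. -/
theorem NU.betaCore_ne_bot (h : NU M H p P) : Cfsg.piCoreOf (Cfsg.beta M) M ≠ ⊥ := by
  intro hbot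
  apply h.ne
  have hMH : M ≤ H := by
    intro m hm
    obtain ⟨b, hb, n, hn, e⟩ := sigCtx_exists_mul_betaCore h.cM m hm
    rw [hbot, Subgroup.mem_bot] at hb
    rw [e, hb, one_mul]
    exact h.cH.norm hn
  exact ((h.cM.coatom.le_iff_eq h.cH.coatom.1).mp hMH).symm

end Cfsg.Agent.Helper4.BG10
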