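import Mathlib
import Cfsg.Prelude
import Cfsg.Agent.Helper4.BG10c
import Cfsg.Agent.Helper1.TypeP
import Cfsg.Agent.Helper1.R2SB
import Cfsg.Agent.Helper1.Card
import Cfsg.Agent.S1412
import Cfsg.Agent.Lead.T36Final

set_option autoImplicit false

/-!
Auxiliary results for Bender–Glauberman `sigma_subgroup_embedding` (our statement S1424):
complements of `M_σ` containing a given `σ(M)'`-subgroup, and the structure of a nonabelian
Sylow subgroup of rank two.
-/

namespace Cfsg.Agent.Helper4.BG10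

open Cfsg Cfsg.Agent.Helper1 Cfsg.Agent.Helper2 Cfsg.Agent.Helper1.BGT Cfsg.Agent.Helper1.BGU
  Cfsg.Agent.Helper1.BGV Cfsg.Agent.Helper1.BGW Cfsg.Agent.Helper1.BGX Cfsg.Agent.Lead.BG12
  Cfsg.Agent.Lead.BG108
open scoped commutatorElement Pointwise

universe u

variable {G : Type u} [Group G] [Finite G]

/-- The coprime factorization `|K| = |K : K_σ| · |K_σ|`. -/
theorem card_eq_relIndex_mul_card_sigmaCore (hG : Cfsg.IsMinSimpleOddOrder G) {K : Subgroup G}
    (hK : IsCoatom K) :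
    Nat.card K = (Cfsg.sigmaCore K).relIndex K * Nat.card (Cfsg.sigmaCore K) ∧
      ((Cfsg.sigmaCore K).relIndex K).Coprime (Nat.card (Cfsg.sigmaCore K)) := by
  obtain ⟨⟨hle, hπ, hidx⟩, -, -⟩ := Cfsg.Agent.Lead.BG12.sigmaCore_hall hG K hK
  constructor
  · rw [← Cfsg.Agent.Lead.card_subgroupOf_of_le hle]
    exact (Subgroup.index_mul_card ((Cfsg.sigmaCore K).subgroupOf K)).symm
  · apply Nat.coprime_of_dvd
    intro t ht h1 h2
    exact hidx t ht (hπ t ht h2) h1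

/-- Hall: every `σ(K)'`-subgroup of `K` lies in a complement of `K_σ`. -/
theorem exists_compl_sigmaCore_ge (hG : Cfsg.IsMinSimpleOddOrder G) {K : Subgroup G}
    (hK : IsCoatom K) {U : Subgroup G} (hUK : U ≤ K)
    (hU : ∀ t : ℕ, t.Prime → t ∣ Nat.card U → t ∉ Cfsg.sigma K) :
    ∃ E : Subgroup G, Cfsg.IsComplIn E (Cfsg.sigmaCore K) K ∧ U ≤ E := by
  haveI : Group.IsSolvable ↥K := hG.2.2.2 K hK.1
  obtain ⟨hcard, hcop⟩ := card_eq_relIndex_mul_card_sigmaCore hG hK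
  obtain ⟨⟨hle, hπ, hidx⟩, -, -⟩ := Cfsg.Agent.Lead.BG12.sigmaCore_hall hG K hK
  have hH := (hallProp_of_solvable _ ↥K rfl).internal _ _ hcard hcop
  have hUcop : (Nat.card U).Coprime (Nat.card (Cfsg.sigmaCore K)) := by
    apply Nat.coprime_of_dvd
    intro t ht h1 h2
    exact hU t ht h1 (hπ t ht h2)
  obtain ⟨E, hEK, hEcard, hUE⟩ := hH.2 U hUK hUcop
  have hdisj : E ⊓ Cfsg.sigmaCore K = ⊥ :=
    (Subgroup.disjoint_of_coprime_natCard (hEcard ▸ hcop)).eq_bot
  refine ⟨E, ⟨hEK, hle, hdisj, ?_⟩, hUE⟩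
  apply exists_mul_of_coprime_relIndex
  have h1 : E.relIndex K = Nat.card (Cfsg.sigmaCore K) := by
    have h2 : E.relIndex K * Nat.card E = Nat.card K := by
      rw [← Cfsg.Agent.Lead.card_subgroupOf_of_le hEK]
      exact Subgroup.index_mul_card (E.subgroupOf K)
    rw [hEcard, hcard, mul_comm] at h2
    have hpos : 0 < (Cfsg.sigmaCore K).relIndex K := by
      rcases Nat.eq_zero_or_pos ((Cfsg.sigmaCore K).relIndex K) with h0 | h0
      · rw [h0, zero_mul] at hcard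
        exact absurd hcard Nat.card_pos.ne'
      · exact h0
    exact Nat.eq_of_mul_eq_mul_left hpos h2
  rw [h1]
  exact hcop.symm

/-- Hall: the complements of `K_σ` in `K` are conjugate in `K`. -/
theorem compl_sigmaCore_conj (hG : Cfsg.IsMinSimpleOddOrder G) {K : Subgroup G}
    (hK : IsCoatom K) {E E' : Subgroup G} (hE : Cfsg.IsComplIn E (Cfsg.sigmaCore K) K)
    (hE' : Cfsg.IsComplIn E' (Cfsg.sigmaCore K) K) :
    ∃ k ∈ K, MulAut.conj k • E = E' := by
  haveI : Group.IsSolvable ↥K := hG.2.2.2 K hK.1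
  obtain ⟨hcard, hcop⟩ := card_eq_relIndex_mul_card_sigmaCore hG hK
  have hH := (hallProp_of_solvable _ ↥K rfl).internal _ _ hcard hcop
  have key : ∀ F : Subgroup G, Cfsg.IsComplIn F (Cfsg.sigmaCore K) K →
      Nat.card F = (Cfsg.sigmaCore K).relIndex K := by
    intro F hF
    have h1 := IsComplIn_card_mul hF
    rw [hcard] at h1
    exact Nat.eq_of_mul_eq_mul_right Nat.card_pos h1
  exact hH.1 E E' hE.1 hE'.1 (key E hE) (key E' hE')


/-- The structure of a nonabelian Sylow `q`-subgroup `Q` of rank at most two: `Z` cyclic and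
central, `Z1 = Q' = Ω₁(Z)` of order `q`, and `|Q| = q² |Z|`. -/
structure QStr (q : ℕ) (Q Z Z1 : Subgroup G) : Prop where
  hZQ : Z ≤ Q
  hZc : Z ≤ Subgroup.centralizer (Q : Set G)
  hZcyc : IsCyclic ↥Z
  hZ1Z : Z1 ≤ Z
  hZ1card : Nat.card Z1 = q
  hcomm : ⁅Q, Q⁆ = Z1
  hcard : Nat.card Q = q ^ 2 * Nat.card Z
  hΩ : ∀ x ∈ Z, x ^ q = 1 → x ∈ Z1

theorem exists_qStr (hG : Cfsg.IsMinSimpleOddOrder G) (q : ℕ) [hq : Fact q.Prime] (Q : Sylow q G)
    (hr : Cfsg.PRankLE q 2 ↥(Q : Subgroup G)) (hna : ¬ IsMulCommutative ↥(Q : Subgroup G)) :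
    ∃ Z Z1 : Subgroup G, QStr q (Q : Subgroup G) Z Z1 := by
  rcases Cfsg.Agent.S1412.result hG q Q hr with h | ⟨P1, P2, hsup, hcm, hP1na, hP1card, -, hP2cyc, hcl⟩
  · exact absurd h hna
  obtain ⟨hZ1card, hP1comm⟩ := Cfsg.Agent.Helper1.R2S.center_of_card_cube' P1 hP1card hP1na
  have hP2ab : ∀ a ∈ P2, ∀ b ∈ P2, a * b = b * a := by
    intro a ha b hb
    haveI := hP2cyc
    have := (IsCyclic.commGroup (α := ↥P2)).mul_comm ⟨a, ha⟩ ⟨b, hb⟩
    exact congrArg Subtype.val this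
  have hP2c : P2 ≤ Subgroup.centralizer ((Q : Subgroup G) : Set G) := by
    intro z hz
    rw [Subgroup.mem_centralizer_iff]
    have hle : (Q : Subgroup G) ≤ Subgroup.centralizer ({z} : Set G) := by
      rw [← hsup]
      apply sup_le
      · intro a ha
        rw [Subgroup.mem_centralizer_singleton_iff]
        exact hcm a ha z hz
      · intro b hb
        rw [Subgroup.mem_centralizer_singleton_iff]
        exact (hP2ab z hz b hb).symm
    intro g hg
    have := hle hg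
    rw [Subgroup.mem_centralizer_singleton_iff] at this
    exact this
  have hZ1P2 : P1 ⊓ Subgroup.centralizer (P1 : Set G) ≤ P2 := by
    rw [← hcl, Subgroup.closure_le]
    intro x hx
    exact hx.1
  have hinf : P1 ⊓ P2 = P1 ⊓ Subgroup.centralizer (P1 : Set G) := by
    apply le_antisymm
    · intro x hx
      refine ⟨hx.1, Subgroup.mem_centralizer_iff.mpr ?_⟩
      intro a ha
      exact hcm a ha x hx.2
    · exact le_inf inf_le_left hZ1P2
  have hP2N : P2 ≤ Subgroup.normalizer (P1 : Set G) := by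
    intro b hb
    apply Subgroup.centralizer_le_normalizer
    rw [Subgroup.mem_centralizer_iff]
    intro a ha
    exact hcm a ha b hb
  refine ⟨P2, P1 ⊓ Subgroup.centralizer (P1 : Set G), ?_, hP2c, hP2cyc, hZ1P2, hZ1card, ?_, ?_, ?_⟩
  · rw [← hsup]; exact le_sup_right
  · -- `Q' = Z1`
    apply le_antisymm
    · rw [Subgroup.commutator_le]
      intro g hg h hh
      have hset : (((P1 ⊔ P2 : Subgroup G)) : Set G) = (P1 : Set G) * (P2 : Set G) :=
        Subgroup.coe_mul_of_right_le_normalizer_left P1 P2 hP2N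
      have hg' : g ∈ (P1 : Set G) * (P2 : Set G) := by
        rw [← hset, hsup]; exact hg
      have hh' : h ∈ (P1 : Set G) * (P2 : Set G) := by
        rw [← hset, hsup]; exact hh
      obtain ⟨g1, hg1, g2, hg2, rfl⟩ := Set.mem_mul.mp hg'
      obtain ⟨h1, hh1, h2, hh2, rfl⟩ := Set.mem_mul.mp hh'
      have hP1Q : P1 ≤ (Q : Subgroup G) := by rw [← hsup]; exact le_sup_left
      have hP2Q : P2 ≤ (Q : Subgroup G) := by rw [← hsup]; exact le_sup_right
      have e1 : ⁅g2, h1 * h2⁆ = 1 := by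
        rw [commutatorElement_eq_one_iff_mul_comm]
        exact (Subgroup.mem_centralizer_iff.mp (hP2c hg2) _ hh).symm
      have e2 : ⁅g1, h2⁆ = 1 := by
        rw [commutatorElement_eq_one_iff_mul_comm]
        exact Subgroup.mem_centralizer_iff.mp (hP2c hh2) _ (hP1Q hg1)
      have e3 : ⁅g1 * g2, h1 * h2⁆ = ⁅g1, h1⁆ := by
        rw [commutatorElement_mul_left_eq_conj_mul, e1, commutatorElement_mul_right_eq_mul_conj, e2]
        group
      rw [e3, ← hP1comm]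
      exact Subgroup.commutator_mem_commutator hg1 hh1
    · rw [← hP1comm]
      have hP1Q : P1 ≤ (Q : Subgroup G) := by rw [← hsup]; exact le_sup_left
      exact Subgroup.commutator_mono hP1Q hP1Q
  · -- the order
    have h1 := Cfsg.Agent.Helper1.card_sup_mul_card_inf (N := P1) (A := P2) hP2N
    rw [hsup, hinf, hZ1card, hP1card] at h1
    have h2 : Nat.card ↥(Q : Subgroup G) * q = (q ^ 2 * Nat.card P2) * q := by
      rw [h1]; ring
    exact Nat.eq_of_mul_eq_mul_right hq.out.pos h2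
  · intro x hx hxq
    rw [← hcl]
    exact Subgroup.subset_closure ⟨hx, hxq⟩

/-- `N(Q) ≤ N(Q')`. -/
theorem normalizer_le_normalizer_commutator_self (Q : Subgroup G) :
    Subgroup.normalizer (Q : Set G) ≤ Subgroup.normalizer ((⁅Q, Q⁆ : Subgroup G) : Set G) := by
  intro n hn
  apply mem_normalizer_of_map_conj_eq
  rw [Subgroup.map_commutator, map_conj_eq_of_mem_normalizer' hn]

/-- The analysis of `X ≤ S < Q` with `N_Q(X) ≤ S`, for `Q` as in `QStr`. -/
structure XStr (q : ℕ) (Q S X Z Z1 : Subgroup G) (a g : G) : Prop where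
  hX : X = Subgroup.zpowers a
  ha1 : a ≠ 1
  haq : a ^ q = 1
  hS : S = Z ⊔ X
  hSa : S ≤ Subgroup.centralizer ({a} : Set G)
  hXZ1 : X ⊓ Z1 = ⊥
  hgQ : g ∈ Q
  hgS : g ∉ S

theorem exists_xStr {q : ℕ} [hq : Fact q.Prime] {Q S X Z Z1 : Subgroup G} (h : QStr q Q Z Z1)
    (hQq : IsPGroup q ↥Q) (hSQ : S ≤ Q) (hne : S ≠ Q) (hXS : X ≤ S) (hX1 : X ≠ ⊥)
    (hNX : Q ⊓ Subgroup.normalizer (X : Set G) ≤ S) :
    ∃ a g : G, XStr q Q S X Z Z1 a g := by
  have hXQ : X ≤ Q := hXS.trans hSQ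
  have hXq : IsPGroup q ↥X := hQq.to_le hXQ
  have hZS : Z ≤ S := by
    intro z hz
    apply hNX
    refine ⟨h.hZQ hz, Subgroup.centralizer_le_normalizer _ ?_⟩
    rw [Subgroup.mem_centralizer_iff]
    intro x hx
    exact Subgroup.mem_centralizer_iff.mp (h.hZc hz) x (hXQ hx)
  -- `X ∩ Z1 = 1`
  have hXZ1 : X ⊓ Z1 = ⊥ := by
    by_contra hne'
    have hZ1X : Z1 ≤ X := by
      have h1 : Nat.card ↥(X ⊓ Z1) ∣ q := by
        rw [← h.hZ1card]; exact Subgroup.card_dvd_of_le inf_le_right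
      rcases (Nat.dvd_prime hq.out).mp h1 with h2 | h2
      · exact absurd (Subgroup.card_eq_one.mp h2) hne'
      · have h3 : X ⊓ Z1 = Z1 := by
          apply Subgroup.eq_of_le_of_card_ge inf_le_right
          rw [h2, h.hZ1card]
        rw [← h3]; exact inf_le_left
    apply hne
    apply le_antisymm hSQ
    intro g hg
    apply hNX
    refine ⟨hg, ?_⟩
    apply Subgroup.mem_normalizer_fintype
    intro x hx
    have h1 : ⁅g, x⁆ ∈ Z1 := by
      rw [← h.hcomm]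
      exact Subgroup.commutator_mem_commutator hg (hXQ hx)
    have e : g * x * g⁻¹ = ⁅g, x⁆ * x := by
      rw [commutatorElement_def]; group
    rw [e]
    exact X.mul_mem (hZ1X h1) hx
  -- `X ∩ Z = 1`
  have hXZ : X ⊓ Z = ⊥ := by
    by_contra hne'
    obtain ⟨z, hz, hz1, hzq⟩ := exists_central_of_order (hXq.to_le inf_le_left) hne'
    have hzZ1 : z ∈ Z1 := h.hΩ z hz.1.2 hzq
    have : z ∈ X ⊓ Z1 := ⟨hz.1.1, hzZ1⟩
    rw [hXZ1, Subgroup.mem_bot] at this
    exact hz1 this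
  have hQZ : Q ≤ Subgroup.normalizer (Z : Set G) := by
    intro g hg
    apply Subgroup.centralizer_le_normalizer
    rw [Subgroup.mem_centralizer_iff]
    intro z hz
    exact (Subgroup.mem_centralizer_iff.mp (h.hZc hz) g hg).symm
  have hcard1 : Nat.card ↥(Z ⊔ X) = Nat.card X * Nat.card Z :=
    card_sup_of_le_normalizer (hXQ.trans hQZ) hXZ
  have hZXS : Z ⊔ X ≤ S := sup_le hZS hXS
  -- `|S| q ≤ |Q|`
  have hSq : IsPGroup q ↥S := hQq.to_le hSQ
  have hle1 : Nat.card S * q ≤ Nat.card Q := by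
    obtain ⟨s, hs⟩ := IsPGroup.iff_card.mp hSq
    obtain ⟨n, hn⟩ := IsPGroup.iff_card.mp hQq
    have hlt : Nat.card S < Nat.card Q :=
      Cfsg.Agent.Lead.card_lt_of_lt (lt_of_le_of_ne hSQ hne)
    rw [hs, hn] at hlt ⊢
    have hsn : s < n := (Nat.pow_lt_pow_iff_right hq.out.one_lt).mp hlt
    rw [← pow_succ]
    exact Nat.pow_le_pow_right hq.out.pos hsn
  have hZpos : 0 < Nat.card Z := Nat.card_pos
  have hle2 : Nat.card X * Nat.card Z ≤ Nat.card S := by
    rw [← hcard1]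
    exact Nat.le_of_dvd Nat.card_pos (Subgroup.card_dvd_of_le hZXS)
  have hXle : Nat.card X ≤ q := by
    have h1 : Nat.card X * Nat.card Z * q ≤ q ^ 2 * Nat.card Z := by
      rw [← h.hcard]
      exact (Nat.mul_le_mul_right q hle2).trans hle1
    have h2 : Nat.card X * (Nat.card Z * q) ≤ q * (Nat.card Z * q) := by
      calc Nat.card X * (Nat.card Z * q) = Nat.card X * Nat.card Z * q := by ring
        _ ≤ q ^ 2 * Nat.card Z := h1
        _ = q * (Nat.card Z * q) := by ring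
    exact Nat.le_of_mul_le_mul_right h2 (Nat.mul_pos hZpos hq.out.pos)
  have hXcard : Nat.card X = q := by
    apply le_antisymm hXle
    exact Nat.le_of_dvd Nat.card_pos (dvd_card_of_isPGroup_ne_bot hXq hX1)
  have hSeq : S = Z ⊔ X := by
    symm
    apply Subgroup.eq_of_le_of_card_ge hZXS
    rw [hcard1, hXcard]
    have h1 : Nat.card S * q ≤ (q * Nat.card Z) * q := by
      calc Nat.card S * q ≤ Nat.card Q := hle1
        _ = q ^ 2 * Nat.card Z := h.hcard
        _ = (q * Nat.card Z) * q := by ring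
    exact Nat.le_of_mul_le_mul_right h1 hq.out.pos
  -- a generator
  obtain ⟨a, haX, ha1⟩ := (Subgroup.ne_bot_iff_exists_ne_one.mp hX1 : ∃ a : ↥X, a ≠ 1) |>.imp
    (fun a ha => ha) |> fun ⟨a, ha⟩ => (⟨(a : G), a.2, fun h0 => ha (Subtype.ext h0)⟩ :
      ∃ a : G, a ∈ X ∧ a ≠ 1)
  have hord : orderOf a = q := by
    have h1 : orderOf a ∣ q := by
      rw [← hXcard]
      have := Subgroup.card_dvd_of_le (Subgroup.zpowers_le.mpr haX)
      rwa [Nat.card_zpowers] at this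
    rcases (Nat.dvd_prime hq.out).mp h1 with h2 | h2
    · exact absurd (orderOf_eq_one_iff.mp h2) ha1
    · exact h2
  have hXa : X = Subgroup.zpowers a := by
    symm
    apply Subgroup.eq_of_le_of_card_ge (Subgroup.zpowers_le.mpr haX)
    rw [Nat.card_zpowers, hord, hXcard]
  have haq : a ^ q = 1 := by rw [← hord]; exact pow_orderOf_eq_one a
  obtain ⟨g, hgQ, hgS⟩ := SetLike.exists_of_lt (lt_of_le_of_ne hSQ hne)
  refine ⟨a, g, hXa, ha1, haq, hSeq, ?_, hXZ1, hgQ, hgS⟩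
  rw [hSeq]
  apply sup_le
  · intro z hz
    rw [Subgroup.mem_centralizer_singleton_iff]
    exact (Subgroup.mem_centralizer_iff.mp (h.hZc hz) a (hXQ haX)).symm
  · rw [hXa, Subgroup.zpowers_le, Subgroup.mem_centralizer_singleton_iff]


theorem QStr.comm {q : ℕ} {Q Z Z1 : Subgroup G} (h : QStr q Q Z Z1) {z x : G} (hz : z ∈ Z1)
    (hx : x ∈ Q) : x * z = z * x :=
  Subgroup.mem_centralizer_iff.mp (h.hZc (h.hZ1Z hz)) x hx

theorem QStr.hZ1Q {q : ℕ} {Q Z Z1 : Subgroup G} (h : QStr q Q Z Z1) : Z1 ≤ Q :=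
  h.hZ1Z.trans h.hZQ

theorem XStr.orderOf_eq {q : ℕ} [hq : Fact q.Prime] {Q S X Z Z1 : Subgroup G} {a g : G}
    (k : XStr q Q S X Z Z1 a g) : orderOf a = q :=
  orderOf_eq_prime k.haq k.ha1

theorem XStr.card_eq {q : ℕ} [hq : Fact q.Prime] {Q S X Z Z1 : Subgroup G} {a g : G}
    (k : XStr q Q S X Z Z1 a g) : Nat.card X = q := by
  rw [k.hX, Nat.card_zpowers, k.orderOf_eq]

theorem XStr.haX {q : ℕ} {Q S X Z Z1 : Subgroup G} {a g : G}
    (k : XStr q Q S X Z Z1 a g) : a ∈ X := by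
  rw [k.hX]; exact Subgroup.mem_zpowers a

/-- Every element of `X Z1` outside `Z1` is `Q`-conjugate to a generator of `X`. -/
theorem XStr.conj {q : ℕ} [hq : Fact q.Prime] {Q S X Z Z1 : Subgroup G} {a g : G}
    (h : QStr q Q Z Z1) (k : XStr q Q S X Z Z1 a g) (hSQ : S ≤ Q)
    (hCa : Q ⊓ Subgroup.centralizer ({a} : Set G) ≤ S) {e : G} (he : e ∈ X ⊔ Z1)
    (heZ : e ∉ Z1) :
    ∃ h' ∈ Q, ∃ a' : G, a ∈ Subgroup.zpowers a' ∧ e = h' * a' * h'⁻¹ := by
  have hXS : X ≤ S := by rw [k.hS]; exact le_sup_right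
  have hXQ : X ≤ Q := hXS.trans hSQ
  have hZ1N : Z1 ≤ Subgroup.normalizer (X : Set G) := by
    intro z hz
    apply Subgroup.centralizer_le_normalizer
    rw [Subgroup.mem_centralizer_iff]
    intro x hx
    exact h.comm hz (hXQ hx)
  have hset : (((X ⊔ Z1 : Subgroup G)) : Set G) = (X : Set G) * (Z1 : Set G) :=
    Subgroup.coe_mul_of_right_le_normalizer_left X Z1 hZ1N
  have he' : e ∈ (X : Set G) * (Z1 : Set G) := by rw [← hset]; exact he
  obtain ⟨a', ha', z', hz', rfl⟩ := Set.mem_mul.mp he'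
  have ha'1 : a' ≠ 1 := by
    rintro rfl
    rw [one_mul] at heZ
    exact heZ hz'
  -- `a'` generates `X`
  have hord : orderOf a' = q := by
    have h1 : orderOf a' ∣ q := by
      rw [← k.card_eq]
      have := Subgroup.card_dvd_of_le (Subgroup.zpowers_le.mpr ha')
      rwa [Nat.card_zpowers] at this
    rcases (Nat.dvd_prime hq.out).mp h1 with h2 | h2
    · exact absurd (orderOf_eq_one_iff.mp h2) ha'1
    · exact h2
  have hXa' : Subgroup.zpowers a' = X := by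
    apply Subgroup.eq_of_le_of_card_ge (Subgroup.zpowers_le.mpr ha')
    rw [Nat.card_zpowers, hord, k.card_eq]
  have haa' : a ∈ Subgroup.zpowers a' := by rw [hXa']; exact k.haX
  -- the commutator
  have hz0 : ⁅g, a'⁆ ∈ Z1 := by
    rw [← h.hcomm]
    exact Subgroup.commutator_mem_commutator k.hgQ (hXQ ha')
  have hz01 : ⁅g, a'⁆ ≠ 1 := by
    intro h0
    rw [commutatorElement_eq_one_iff_mul_comm] at h0
    apply k.hgS
    apply hCa
    refine ⟨k.hgQ, Subgroup.mem_centralizer_singleton_iff.mpr ?_⟩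
    obtain ⟨n, hn⟩ := Subgroup.mem_zpowers_iff.mp haa'
    have hc : Commute g a' := h0
    rw [← hn]
    exact (hc.zpow_right n).eq
  have hZ1z0 : Subgroup.zpowers ⁅g, a'⁆ = Z1 := by
    apply Subgroup.eq_of_le_of_card_ge (Subgroup.zpowers_le.mpr hz0)
    rw [Nat.card_zpowers, h.hZ1card]
    have h1 : orderOf ⁅g, a'⁆ ∣ q := by
      rw [← h.hZ1card]
      have := Subgroup.card_dvd_of_le (Subgroup.zpowers_le.mpr hz0)
      rwa [Nat.card_zpowers] at this
    rcases (Nat.dvd_prime hq.out).mp h1 with h2 | h2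
    · exact absurd (orderOf_eq_one_iff.mp h2) hz01
    · exact h2.ge
  have hmem : z' ∈ Subgroup.zpowers ⁅g, a'⁆ := by rw [hZ1z0]; exact hz'
  rw [← (isOfFinOrder_of_finite ⁅g, a'⁆).mem_powers_iff_mem_zpowers] at hmem
  obtain ⟨n, hn⟩ := (Submonoid.mem_powers_iff _ _).1 hmem
  have hconj : g * a' * g⁻¹ = ⁅g, a'⁆ * a' := by
    rw [commutatorElement_def]; group
  have key : ∀ m : ℕ, g ^ m * a' * (g ^ m)⁻¹ = ⁅g, a'⁆ ^ m * a' := by
    intro m
    induction m with
    | zero => simp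
    | succ m ih =>
      have hzm : ⁅g, a'⁆ ^ m ∈ Z1 := Z1.pow_mem hz0 m
      have e1 : g ^ (m + 1) * a' * (g ^ (m + 1))⁻¹ = g * (g ^ m * a' * (g ^ m)⁻¹) * g⁻¹ := by
        rw [pow_succ']; group
      rw [e1, ih]
      have e2 : g * (⁅g, a'⁆ ^ m * a') * g⁻¹ = (g * ⁅g, a'⁆ ^ m) * a' * g⁻¹ := by group
      rw [e2, h.comm hzm k.hgQ]
      have e3 : ⁅g, a'⁆ ^ m * g * a' * g⁻¹ = ⁅g, a'⁆ ^ m * (g * a' * g⁻¹) := by group
      rw [e3, hconj, pow_succ]
      group
  refine ⟨g ^ n, Q.pow_mem k.hgQ n, a', haa', ?_⟩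
  rw [key n, hn]
  exact h.comm hz' (hXQ ha')


/-- A Sylow `r`-subgroup of `G` inside `M`, for `r ∈ α(M)`, lies in no other maximal subgroup. -/
theorem eq_of_sylow_le_of_mem_alpha (hG : Cfsg.IsMinSimpleOddOrder G) {M : Subgroup G}
    (hM : IsCoatom M) {r : ℕ} [hr : Fact r.Prime] (hrα : r ∈ Cfsg.alpha M) (R : Sylow r G)
    (hRM : (R : Subgroup G) ≤ M) {L : Subgroup G} (hL : IsCoatom L) (hRL : (R : Subgroup G) ≤ L) :
    L = M := by
  have hR3 := not_pRankLE_sylow_of_mem_alpha hrα R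
  have hRea : HasEA r 2 (R : Subgroup G) := hasEA_of_not_pRankLE hR3
  have hRtop : (R : Subgroup G) ≠ ⊤ := sylow_ne_top hG r _ R.2
  have hRU : Cfsg.InUniqueMaximal (R : Subgroup G) :=
    thm96 hG _ hRtop (not_rankLE_of_hasEA hr.out (hasEA_weaken hRea (by norm_num)))
      (Or.inl (not_rankLE_of_hasEA hr.out hRea))
  exact hRU.unique ⟨hL, hRL⟩ ⟨hM, hRM⟩

/-- An `r`-subgroup of a nilpotent subgroup `D` lies in `O_r(D)`. -/
theorem le_pcoreOf_of_isNilpotent {D W : Subgroup G} [hD : Group.IsNilpotent ↥D] {r : ℕ}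
    [hr : Fact r.Prime] (hWD : W ≤ D) (hWr : IsPGroup r ↥W) : W ≤ pcoreOf r D := by
  apply le_pCoreOf_of_le_fittingOf hWr
  intro w hw
  refine ⟨⟨w, hWD hw⟩, ?_, rfl⟩
  have htop : (⊤ : Subgroup ↥D) ≤ Cfsg.fittingSubgroup ↥D := by
    apply le_sSup
    exact ⟨inferInstance, inferInstance⟩
  exact htop (Subgroup.mem_top _)

/-- An `r`-subgroup `W` of `K' ∩ E`, for a complement `E` of `K_σ` and `K` of `r`-rank one, is
normal in `E`. -/
theorem le_normalizer_of_le_commutator_compl (hG : Cfsg.IsMinSimpleOddOrder G) {K : Subgroup G}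
    (hK : IsCoatom K) {E : Subgroup G} (hE : Cfsg.IsComplIn E (Cfsg.sigmaCore K) K) {r : ℕ}
    [hr : Fact r.Prime] (hr1 : Cfsg.PRankLE r 1 ↥K) {W : Subgroup G} (hWr : IsPGroup r ↥W)
    (hWE : W ≤ E) (hWc : W ≤ ⁅K, K⁆) : E ≤ Subgroup.normalizer (W : Set G) := by
  have hWD : W ≤ ⁅E, E⁆ := fun w hw => commutator_inf_compl_le hE ⟨hWc hw, hWE hw⟩
  haveI hnil : Group.IsNilpotent ↥⁅E, E⁆ := commutator_compl_isNilpotent hG hK hE
  have hWT : W ≤ pcoreOf r ⁅E, E⁆ := le_pcoreOf_of_isNilpotent hWD hWr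
  have hTK : pcoreOf r ⁅E, E⁆ ≤ K :=
    (pCoreOf_le r _).trans ((Subgroup.commutator_le_self E).trans hE.1)
  have hTcyc : IsCyclic ↥(pcoreOf r ⁅E, E⁆) :=
    isCyclic_of_pRankLE_one hG.1 hr1 hTK (pCoreOf_isPGroup r _)
  exact (le_normalizer_commutator_self E).trans
    ((normalizer_le_normalizer_pcoreOf r _).trans
      (normalizer_le_normalizer_of_isCyclic hTcyc hWT))

/-- Part (c) of `sigma_subgroup_embedding`, independently of part (b): a maximal `q`-subgroup `S` of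
`M ∩ K` containing `X`, where `N(X) ≤ K`, is a Sylow `q`-subgroup of `K`. -/
theorem card_eq_ppart_of_maximal {M : Subgroup G} {q : ℕ} [hq : Fact q.Prime] {Q : Subgroup G}
    (c : SigCtx M q Q) {K X S : Subgroup G} (hX1 : X ≠ ⊥) (hXS : X ≤ S)
    (hNX : Subgroup.normalizer (X : Set G) ≤ K) (hSQ : S ≤ Q) (hSK : S ≤ K)
    (hmax : ∀ T : Subgroup G, IsPGroup q ↥T → S ≤ T → T ≤ M ⊓ K → T = S) :
    Nat.card S = q ^ (Nat.card K).factorization q := by
  have hG := c.min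
  have hpl := Cfsg.Agent.Lead.T36Red.pl1_holds hG
  have hSq : IsPGroup q ↥S := c.pgroup.to_le hSQ
  have hSM : S ≤ M := hSQ.trans c.le
  have hS1 : S ≠ ⊥ := fun h => hX1 (le_bot_iff.mp (h ▸ hXS))
  obtain ⟨T, hST, hTK, hTq, hTcard⟩ := Cfsg.Agent.Lead.exists_le_card_eq_ppart hSq hSK
  by_cases hne : S = T
  · rw [hne]; exact hTcard
  exfalso
  obtain ⟨t, htT, htS, htN⟩ := exists_normalizing_of_lt hTq (lt_of_le_of_ne hST hne)
  -- the Sylow subgroup `Q ∩ N(S)` of `N(S)`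
  set L := Subgroup.normalizer (S : Set G) with hL
  have hAq : IsPGroup q ↥(Q ⊓ L) := c.pgroup.to_le inf_le_left
  have hAcard : Nat.card ↥(Q ⊓ L) = q ^ (Nat.card L).factorization q := by
    have h1 := factorization_eq_of_not_dvd_relIndex
      (inf_le_right : Q ⊓ L ≤ L) hq.out (c.cor107e hpl S hSQ)
    obtain ⟨k, hk⟩ := IsPGroup.iff_card.mp hAq
    rw [← h1, hk, Nat.Prime.factorization_pow hq.out, Finsupp.single_eq_same]
  have hT1q : IsPGroup q ↥(T ⊓ L) := hTq.to_le inf_le_left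
  obtain ⟨n, hn, hnT⟩ := Cfsg.Agent.Lead.exists_conj_le_of_card_eq_ppart
    (inf_le_right : Q ⊓ L ≤ L) hAcard (inf_le_right : T ⊓ L ≤ L) hT1q
  obtain ⟨m, hm, c', hc', e⟩ := c.trans S hSM hSq hS1 n
    (fun x hx => hSM ((Subgroup.mem_normalizer_iff.mp hn x).mp hx))
  have hc'K : c' ∈ K := by
    apply hNX
    apply Subgroup.centralizer_le_normalizer
    exact Subgroup.centralizer_le hXS hc'
  -- `T₂ = c' (T ∩ N(S)) c'⁻¹`
  have hT2 : (T ⊓ L).map (MulAut.conj c').toMonoidHom = S := by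
    apply hmax
    · exact hT1q.map _
    · intro s hs
      refine ⟨s, ⟨hST hs, Subgroup.le_normalizer hs⟩, ?_⟩
      have := Subgroup.mem_centralizer_iff.mp hc' s hs
      simp only [MulEquiv.coe_toMonoidHom, MulAut.conj_apply]
      rw [← this]; group
    · rintro _ ⟨y, hy, rfl⟩
      simp only [MulEquiv.coe_toMonoidHom, MulAut.conj_apply]
      refine ⟨?_, K.mul_mem (K.mul_mem hc'K (hTK hy.1)) (K.inv_mem hc'K)⟩
      have h1 : n * y * n⁻¹ ∈ Q := (hnT ⟨y, hy, rfl⟩).1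
      have e' : c' * y * c'⁻¹ = m⁻¹ * (n * y * n⁻¹) * m := by rw [e]; group
      rw [e']
      exact M.mul_mem (M.mul_mem (M.inv_mem hm) (c.le h1)) hm
  have h1 : c' * t * c'⁻¹ ∈ S := by
    rw [← hT2]; exact ⟨t, ⟨htT, htN⟩, rfl⟩
  apply htS
  have h2 := Subgroup.mem_centralizer_iff.mp hc' _ h1
  have e' : t = c'⁻¹ * (c' * t * c'⁻¹ * c') := by group
  rw [e', h2]
  have e'' : c'⁻¹ * (c' * (c' * t * c'⁻¹)) = c' * t * c'⁻¹ := by group
  rw [e'']
  exact h1

end Cfsg.Agent.Helper4.BG10
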