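import Mathlib
import Cfsg.Agent.Helper1.AbelianAct
import Cfsg.Agent.Helper1.AbelianSylow2

set_option autoImplicit false

namespace Cfsg.Agent.Helper4

variable {G : Type*} [Group G]

/-- a nontrivial `p`-subgroup contains an element of order `p` -/
theorem exists_orderOf_eq_prime_of_ne_bot [Finite G] {p : ℕ} [hp : Fact p.Prime]
    (X : Subgroup G) (hX : IsPGroup p X) (hne : X ≠ ⊥) : ∃ x ∈ X, orderOf x = p := by
  have hnt : Nontrivial X := (Subgroup.nontrivial_iff_ne_bot X).2 hne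
  obtain ⟨n, hn0, hn⟩ := hX.nontrivial_iff_card.1 hnt
  have hdvd : p ∣ Nat.card X := by
    rw [hn]; exact dvd_pow_self p (Nat.pos_iff_ne_zero.1 hn0)
  obtain ⟨x, hx⟩ := exists_prime_orderOf_dvd_card' p hdvd
  exact ⟨x, x.2, by rw [← hx, Subgroup.orderOf_coe]⟩

/-- Lemma B: in a cyclic `p`-group two subgroups meeting trivially: one is trivial. -/
theorem cyclic_pgroup_inf_eq_bot [Finite G] {p : ℕ} [hp : Fact p.Prime] (P : Subgroup G)
    (hcyc : IsCyclic P) (hP : IsPGroup p P) (X Y : Subgroup G) (hXP : X ≤ P) (hYP : Y ≤ P)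
    (hXY : X ⊓ Y = ⊥) : X = ⊥ ∨ Y = ⊥ := by
  by_contra hcon
  rw [not_or] at hcon
  obtain ⟨hX, hY⟩ := hcon
  obtain ⟨x, hxX, hx⟩ := exists_orderOf_eq_prime_of_ne_bot X (hP.to_le hXP) hX
  obtain ⟨y, hyY, hy⟩ := exists_orderOf_eq_prime_of_ne_bot Y (hP.to_le hYP) hY
  have hx' : orderOf (⟨x, hXP hxX⟩ : P) = p := by rw [← hx, ← Subgroup.orderOf_coe]
  have hy' : orderOf (⟨y, hYP hyY⟩ : P) = p := by rw [← hy, ← Subgroup.orderOf_coe]
  have hmem := Cfsg.Agent.Helper1.mem_zpowers_of_orderOf_eq_prime hp.out hx' hy'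
  obtain ⟨k, hk⟩ := Subgroup.mem_zpowers_iff.1 hmem
  have hk' : y ^ k = x := by
    have := congrArg Subtype.val hk
    simpa using this
  have hxY : x ∈ Y := by rw [← hk']; exact Y.zpow_mem hyY k
  have : x ∈ X ⊓ Y := ⟨hxX, hxY⟩
  rw [hXY, Subgroup.mem_bot] at this
  rw [this, orderOf_one] at hx
  exact hp.out.one_lt.ne hx

/-- Lemma D: a `p'`-group `A` normalizing a cyclic `p`-group `P` with `[P, A]` inside a proper
subgroup, or centralizing a nontrivial subgroup, centralizes `P`. -/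
theorem centralizes_cyclic_of_coprime [Finite G] {p : ℕ} [hp : Fact p.Prime] (P A : Subgroup G)
    (hcyc : IsCyclic P) (hP : IsPGroup p P)
    (hAP : A ≤ Subgroup.normalizer (P : Set G)) (hcop : (Nat.card A).Coprime p)
    (h : (∃ P₀ : Subgroup G, P₀ < P ∧ ⁅P, A⁆ ≤ P₀) ∨
      (∃ Q : Subgroup G, Q ≤ P ∧ Q ≠ ⊥ ∧ A ≤ Subgroup.centralizer (Q : Set G))) :
    A ≤ Subgroup.centralizer (P : Set G) := by
  haveI : IsMulCommutative P := ⟨⟨fun a b => by
    letI := hcyc
    exact (IsCyclic.commGroup (α := P)).mul_comm a b⟩⟩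
  have hcop' : (Nat.card A).Coprime (Nat.card P) := by
    obtain ⟨n, hn⟩ := hP.exists_card_eq
    rw [hn]
    exact Nat.Coprime.pow_right n hcop
  obtain ⟨hinf, hsup⟩ := Cfsg.Agent.Helper1.abelian_coprime_decomp A P hAP hcop'
  have hYP : ⁅P, A⁆ ≤ P := Subgroup.le_normalizer_iff_commutator_le_left.1 hAP
  have hcases := cyclic_pgroup_inf_eq_bot P hcyc hP _ _ inf_le_left hYP hinf
  have hY : ⁅P, A⁆ = ⊥ := by
    rcases h with ⟨P₀, hP₀, hle⟩ | ⟨Q, hQP, hQ, hAQ⟩
    · rcases hcases with hX | hY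
      · rw [hX, bot_sup_eq] at hsup
        rw [hsup] at hle
        exact absurd hle (not_le_of_gt hP₀)
      · exact hY
    · rcases hcases with hX | hY
      · exfalso
        apply hQ
        rw [eq_bot_iff, ← hX]
        exact le_inf hQP (Subgroup.le_centralizer_iff.1 hAQ)
      · exact hY
  rw [Subgroup.commutator_eq_bot_iff_le_centralizer] at hY
  exact Subgroup.le_centralizer_iff.1 hY

/-- Lemma E: `p`-part and `p'`-part of an element. -/
theorem exists_p_part_decomp [Finite G] (p : ℕ) [hp : Fact p.Prime] (x : G) :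
    ∃ a b : G, a ∈ Subgroup.zpowers x ∧ b ∈ Subgroup.zpowers x ∧ x = a * b ∧
      (orderOf a).Coprime p ∧ ∃ k : ℕ, b ^ (p ^ k) = 1 := by
  have hm0 : orderOf x ≠ 0 := (orderOf_pos x).ne'
  obtain ⟨k, m', hm', hm⟩ := Nat.exists_eq_pow_mul_and_not_dvd hm0 p hp.out.ne_one
  have hcop : Nat.Coprime (p ^ k) m' :=
    Nat.Coprime.pow_left k ((Nat.Prime.coprime_iff_not_dvd hp.out).2 hm')
  have hcopZ : IsCoprime ((p ^ k : ℕ) : ℤ) (m' : ℤ) := Nat.isCoprime_iff_coprime.2 hcop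
  obtain ⟨u, v, huv⟩ := hcopZ
  refine ⟨(x ^ (p ^ k)) ^ u, (x ^ m') ^ v, ?_, ?_, ?_, ?_, k, ?_⟩
  · exact Subgroup.zpow_mem _ (Subgroup.pow_mem _ (Subgroup.mem_zpowers x) _) _
  · exact Subgroup.zpow_mem _ (Subgroup.pow_mem _ (Subgroup.mem_zpowers x) _) _
  · rw [← zpow_natCast x (p ^ k), ← zpow_natCast x m', ← zpow_mul, ← zpow_mul, ← zpow_add,
      mul_comm ((p ^ k : ℕ) : ℤ) u, mul_comm (m' : ℤ) v, huv, zpow_one]
  · have h1 : (x ^ (p ^ k)) ^ m' = 1 := by
      rw [← pow_mul, ← hm, pow_orderOf_eq_one]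
    have h2 : orderOf (x ^ (p ^ k)) ∣ m' := orderOf_dvd_of_pow_eq_one h1
    have h3 : orderOf ((x ^ (p ^ k)) ^ u) ∣ orderOf (x ^ (p ^ k)) :=
      orderOf_dvd_of_mem_zpowers (Subgroup.zpow_mem_zpowers _ u)
    exact Nat.Coprime.coprime_dvd_left (h3.trans h2)
      ((Nat.Prime.coprime_iff_not_dvd hp.out).2 hm').symm
  · rw [← zpow_natCast, ← zpow_mul, mul_comm, zpow_mul, zpow_natCast, ← pow_mul, mul_comm, ← hm,
      pow_orderOf_eq_one, one_zpow]

/-- Lemma F: a `p`-element of `H` normalizing a "Sylow" subgroup `S` of `H` lies in `S`. -/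
theorem mem_of_pelement_normalizing [Finite G] {p : ℕ} [hp : Fact p.Prime] (S H : Subgroup G)
    (hSH : S ≤ H) (hS : IsPGroup p S) (hcard : Nat.card S = p ^ (Nat.card H).factorization p)
    (b : G) (hbH : b ∈ H) (hbN : b ∈ Subgroup.normalizer (S : Set G))
    (hbp : ∃ k : ℕ, b ^ (p ^ k) = 1) : b ∈ S := by
  obtain ⟨k, hk⟩ := hbp
  have hZ : IsPGroup p (Subgroup.zpowers b) := by
    intro z
    obtain ⟨j, hj⟩ := Subgroup.mem_zpowers_iff.1 z.2
    refine ⟨k, Subtype.ext ?_⟩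
    rw [Subgroup.coe_pow, ← hj, ← zpow_natCast, ← zpow_mul, mul_comm, zpow_mul, zpow_natCast, hk,
      one_zpow]
    rfl
  have hZN : Subgroup.zpowers b ≤ Subgroup.normalizer (S : Set G) := by
    rw [Subgroup.zpowers_le]; exact hbN
  have hsup : IsPGroup p (Subgroup.zpowers b ⊔ S : Subgroup G) := hZ.to_sup_of_normal_right' hS hZN
  have hle : Subgroup.zpowers b ⊔ S ≤ H := sup_le (by rw [Subgroup.zpowers_le]; exact hbH) hSH
  obtain ⟨j, hj⟩ := hsup.exists_card_eq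
  have hdvd : p ^ j ∣ Nat.card H := hj ▸ Subgroup.card_dvd_of_le hle
  have hjle : j ≤ (Nat.card H).factorization p :=
    (hp.out.pow_dvd_iff_le_factorization Nat.card_pos.ne').1 hdvd
  have hcardle : Nat.card (Subgroup.zpowers b ⊔ S : Subgroup G) ≤ Nat.card S := by
    rw [hj, hcard]
    exact Nat.pow_le_pow_right hp.out.pos hjle
  have heq : S = Subgroup.zpowers b ⊔ S := Subgroup.eq_of_le_of_card_ge le_sup_right hcardle
  rw [heq]
  exact le_sup_left (α := Subgroup G) (Subgroup.mem_zpowers b)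

/-- Lemma G: elements of order coprime to the index of a normal subgroup lie in it. -/
theorem mem_of_orderOf_coprime_index {K : Type*} [Group K] [Finite K] (L : Subgroup K)
    [L.Normal] (u : K) (h : (orderOf u).Coprime L.index) : u ∈ L := by
  rw [← QuotientGroup.eq_one_iff]
  have h1 : orderOf (u : K ⧸ L) ∣ orderOf u := orderOf_map_dvd (QuotientGroup.mk' L) u
  have h2 : orderOf (u : K ⧸ L) ∣ L.index := by
    rw [Subgroup.index_eq_card]; exact orderOf_dvd_natCard _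
  have h3 : orderOf (u : K ⧸ L) = 1 := Nat.eq_one_of_dvd_coprimes h h1 h2
  exact orderOf_eq_one_iff.1 h3

end Cfsg.Agent.Helper4
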