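import Mathlib
import Cfsg.Prelude
import Cfsg.Agent.Helper4.BG10d
import Cfsg.Agent.Helper4.CyclicSylowA
import Cfsg.Agent.Helper1.SylowInt
import Cfsg.Agent.S0058
import Cfsg.Agent.S1408

set_option autoImplicit false

/-!
Bender–Glauberman `sigma_subgroup_embedding` (our statement S1424), part (b), the case of a
nonabelian Sylow subgroup of rank two.
-/

namespace Cfsg.Agent.Helper4.BG10

open Cfsg Cfsg.Agent.Helper1 Cfsg.Agent.Helper2 Cfsg.Agent.Helper1.BGT Cfsg.Agent.Helper1.BGU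
  Cfsg.Agent.Helper1.BGV Cfsg.Agent.Helper1.BGW Cfsg.Agent.Helper1.BGX Cfsg.Agent.Lead.BG12
  Cfsg.Agent.Lead.BG108
open scoped commutatorElement Pointwise

universe u

variable {G : Type u} [Group G] [Finite G]

theorem zpowers_eq_of_prime_card {q : ℕ} [hq : Fact q.Prime] {Z1 : Subgroup G}
    (hcard : Nat.card Z1 = q) {e : G} (he : e ∈ Z1) (he1 : e ≠ 1) : Subgroup.zpowers e = Z1 := by
  apply Subgroup.eq_of_le_of_card_ge (Subgroup.zpowers_le.mpr he)
  rw [Nat.card_zpowers, hcard]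
  have h1 : orderOf e ∣ q := by
    rw [← hcard]
    have := Subgroup.card_dvd_of_le (Subgroup.zpowers_le.mpr he)
    rwa [Nat.card_zpowers] at this
  rcases (Nat.dvd_prime hq.out).mp h1 with h2 | h2
  · exact absurd (orderOf_eq_one_iff.mp h2) he1
  · exact h2.ge

omit [Finite G] in
theorem centralizer_singleton_le_normalizer_zpowers (a : G) :
    Subgroup.centralizer ({a} : Set G) ≤ Subgroup.normalizer ((Subgroup.zpowers a : Subgroup G) : Set G) := by
  intro c hc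
  apply Subgroup.centralizer_le_normalizer
  rw [Subgroup.mem_centralizer_iff]
  intro x hx
  obtain ⟨n, rfl⟩ := Subgroup.mem_zpowers_iff.mp hx
  have h1 : Commute a c := Subgroup.mem_centralizer_singleton_iff.mp hc |>.symm
  exact (h1.zpow_left n).eq

omit [Finite G] in
theorem mem_normalizer_inf {A B : Subgroup G} {g : G} (hA : g ∈ Subgroup.normalizer (A : Set G))
    (hB : g ∈ Subgroup.normalizer (B : Set G)) :
    g ∈ Subgroup.normalizer ((A ⊓ B : Subgroup G) : Set G) := by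
  rw [Subgroup.mem_normalizer_iff] at hA hB ⊢
  intro x
  rw [Subgroup.mem_inf, Subgroup.mem_inf, hA x, hB x]

/-- The hard case of part (b): `Q` nonabelian of rank two, `S = Q ∩ K < Q`. -/
structure Hard (M K : Subgroup G) (q : ℕ) (X S Q : Subgroup G) : Prop where
  cM : SigCtx M q Q
  hK : IsCoatom K
  ne : K ≠ M
  hX1 : X ≠ ⊥
  hXS : X ≤ S
  hNX : Subgroup.normalizer (X : Set G) ≤ K
  hS : Q ⊓ K = S
  hSQ : S ≠ Q
  hr : Cfsg.PRankLE q 2 ↥Q
  hna : ¬ IsMulCommutative ↥Q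
  hScard : Nat.card S = q ^ (Nat.card K).factorization q

variable {M K : Subgroup G} {q : ℕ} [hq : Fact q.Prime] {X S Q : Subgroup G}

theorem Hard.hSQ' (h : Hard M K q X S Q) : S ≤ Q := h.hS ▸ inf_le_left

theorem Hard.hSK (h : Hard M K q X S Q) : S ≤ K := h.hS ▸ inf_le_right

theorem Hard.not_mem_sigma (h : Hard M K q X S Q) : q ∉ Cfsg.sigma K := by
  intro hσ
  obtain ⟨Q0, c0⟩ := exists_sigCtx h.cM.min h.hK hσ
  apply h.hSQ
  apply Subgroup.eq_of_le_of_card_ge h.hSQ'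
  rw [h.hScard, ← c0.cardM, c0.cardG, ← h.cM.cardG]

/-- The data of the hard case. -/
structure HardData (M K H : Subgroup G) (q : ℕ) (X S Q Z Z1 : Subgroup G) (a g : G) : Prop where
  hard : Hard M K q X S Q
  qs : QStr q Q Z Z1
  xs : XStr q Q S X Z Z1 a g
  nu : NU M H q Q
  hNZ1 : Subgroup.normalizer (Z1 : Set G) ≤ H

theorem Hard.normalizer_le_Z1 (h : Hard M K q X S Q) {Z Z1 : Subgroup G} {a g : G}
    (qs : QStr q Q Z Z1) (xs : XStr q Q S X Z Z1 a g) :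
    Subgroup.normalizer (S : Set G) ≤ Subgroup.normalizer (Z1 : Set G) := by
  have hG := h.cM.min
  have hpl := Cfsg.Agent.Lead.T36Red.pl1_holds hG
  have hZ1S : Z1 ≤ S := by
    rw [xs.hS]; exact qs.hZ1Z.trans le_sup_left
  apply h.cM.cor107f hpl S Z1 (h.cM.pgroup.to_le h.hSQ') (le_inf qs.hZ1Q hZ1S)
  rw [← qs.hcomm]
  exact normalizer_le_normalizer_commutator_self Q

theorem Hard.exists_data (h : Hard M K q X S Q) :
    (Subgroup.normalizer (S : Set G) ≤ M) ∨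
      ∃ (H Z Z1 : Subgroup G) (a g : G), HardData M K H q X S Q Z Z1 a g := by
  have hG := h.cM.min
  obtain ⟨Z, Z1, qs⟩ := exists_qStr hG q (Sylow.ofCard Q h.cM.cardG) h.hr h.hna
  rw [Sylow.coe_ofCard] at qs
  have hNX' : Q ⊓ Subgroup.normalizer (X : Set G) ≤ S := by
    rw [← h.hS]; exact inf_le_inf_left Q h.hNX
  obtain ⟨a, g, xs⟩ := exists_xStr qs h.cM.pgroup h.hSQ' h.hSQ h.hXS h.hX1 hNX'
  have hZ1q : IsPGroup q ↥Z1 := h.cM.pgroup.to_le qs.hZ1Q
  have hZ11 : Z1 ≠ ⊥ := by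
    intro h0
    have := qs.hZ1card
    rw [h0, Subgroup.card_bot] at this
    exact hq.out.one_lt.ne this
  have hZ1top : Z1 ≠ ⊤ := sylow_ne_top hG q Z1 hZ1q
  obtain ⟨H, hH, hNH⟩ := exists_coatom_ge (normalizer_ne_top_of_simple hG hZ11 hZ1top)
  by_cases hHM : H = M
  · left
    exact (h.normalizer_le_Z1 qs xs).trans (hHM ▸ hNH)
  · right
    have hNQH : Subgroup.normalizer (Q : Set G) ≤ H := by
      refine le_trans ?_ hNH
      rw [← qs.hcomm]
      exact normalizer_le_normalizer_commutator_self Q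
    have hQH : Q ≤ H := Subgroup.le_normalizer.trans hNQH
    have hcH : Nat.card Q = q ^ (Nat.card H).factorization q := by
      apply Cfsg.Agent.Lead.card_eq_ppart_of_le hQH (le_top : H ≤ ⊤) h.cM.pgroup
      rw [Subgroup.card_top]; exact h.cM.cardG
    exact ⟨H, Z, Z1, a, g, h, qs, xs,
      ⟨h.cM, ⟨hG, hH, hQH, h.cM.pgroup, hcH, h.cM.cardG, hNQH⟩, Ne.symm hHM⟩, hNH⟩


variable {H Z Z1 : Subgroup G} {a g : G}

theorem HardData.hCa (d : HardData M K H q X S Q Z Z1 a g) :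
    Q ⊓ Subgroup.centralizer ({a} : Set G) ≤ S := by
  rw [← d.hard.hS]
  apply inf_le_inf_left
  refine le_trans ?_ d.hard.hNX
  rw [d.xs.hX]
  exact centralizer_singleton_le_normalizer_zpowers a

theorem HardData.hZ1S (d : HardData M K H q X S Q Z Z1 a g) : Z1 ≤ S := by
  rw [d.xs.hS]; exact d.qs.hZ1Z.trans le_sup_left

theorem HardData.haQ (d : HardData M K H q X S Q Z Z1 a g) : a ∈ Q :=
  d.hard.hSQ' (d.hard.hXS d.xs.haX)

/-- The `M`-side: a `Q`-invariant Sylow subgroup `R` of `M_β` on whose centralizer of `a` the group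
`Z1` acts nontrivially. -/
theorem HardData.exists_R (d : HardData M K H q X S Q Z Z1 a g) :
    ∃ (r : ℕ) (R : Subgroup G), r ∈ Cfsg.beta M ∧ IsPGroup r ↥R ∧ R ≤ M ∧
      Q ≤ Subgroup.normalizer (R : Set G) ∧ r ≠ q ∧
      ¬ (Z1 ≤ Subgroup.centralizer
        ((R ⊓ Subgroup.centralizer ({a} : Set G) : Subgroup G) : Set G)) := by
  have hG := d.hard.cM.min
  have hM := d.hard.cM.coatom
  have cM := d.hard.cM
  set B := Cfsg.piCoreOf (Cfsg.beta M) M with hB
  have hBM : B ≤ M := piCoreOf_le _ _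
  have hB1 : B ≠ ⊥ := d.nu.betaCore_ne_bot
  have hBcard : Nat.card B ≠ 1 := fun h => hB1 (Subgroup.card_eq_one.mp h)
  obtain ⟨r, hr, hrB⟩ := Nat.exists_prime_and_dvd hBcard
  have hrβ : r ∈ Cfsg.beta M := piCoreOf_isPi (Cfsg.beta M) M r hr hrB
  haveI := Fact.mk hr
  have hqB : ¬ q ∣ Nat.card B := sigCtx_not_dvd_card_betaCore cM d.nu.pRankLE
  have hrq : r ≠ q := fun h => hqB (h ▸ hrB)
  have hQB : Q ≤ Subgroup.normalizer (B : Set G) :=
    cM.le.trans (le_normalizer_piCoreOf (Cfsg.beta M) M)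
  have hcop : (Nat.card Q).Coprime (Nat.card B) := by
    obtain ⟨k, hk⟩ := IsPGroup.iff_card.mp cM.pgroup
    rw [hk]
    exact Nat.Coprime.pow_left k ((Nat.Prime.coprime_iff_not_dvd hq.out).mpr hqB)
  have hBsol : Group.IsSolvable ↥B := by
    haveI : Group.IsSolvable ↥M := hG.2.2.2 M hM.1
    exact solvable_of_solvable_injective (Subgroup.inclusion_injective hBM)
  obtain ⟨P, hQP⟩ := exists_invariant_sylow (p := r) Q B hQB hcop (Or.inr hBsol)
  set R := (P : Subgroup ↥B).map B.subtype with hR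
  have hRr : IsPGroup r ↥R := P.2.map _
  have hRB : R ≤ B := Subgroup.map_subtype_le _
  have hRM : R ≤ M := hRB.trans hBM
  -- `R` is a Sylow subgroup of `G`
  have hRcard : Nat.card R = r ^ (Nat.card G).factorization r := by
    have h1 : Nat.card R = r ^ (Nat.card B).factorization r := by
      rw [hR, Subgroup.card_map_of_injective B.subtype_injective]
      exact P.card_eq_multiplicity
    have h2 : (Nat.card B).factorization r = (Nat.card M).factorization r :=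
      factorization_eq_of_not_dvd_relIndex hBM hr ((betaCore_hall hG hM).1.2.2 r hr hrβ)
    obtain ⟨R0, c0⟩ := exists_sigCtx hG hM (mem_sigma_of_mem_beta hG hM hrβ)
    rw [h1, h2, ← c0.cardM, c0.cardG]
  have hRH : ¬ R ≤ H := by
    intro hRH
    have := eq_of_sylow_le_of_mem_alpha hG hM hrβ.1 (Sylow.ofCard R hRcard)
      (by rw [Sylow.coe_ofCard]; exact hRM) d.nu.cH.coatom (by rw [Sylow.coe_ofCard]; exact hRH)
    exact d.nu.ne this.symm
  refine ⟨r, R, hrβ, hRr, hRM, hQP, hrq, ?_⟩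
  intro hcon
  apply hRH
  refine le_trans ?_ ((Subgroup.centralizer_le_normalizer _).trans d.hNZ1)
  -- `R ≤ C(Z1)`
  have hXQ : X ≤ Q := d.hard.hXS.trans d.hard.hSQ'
  have hAQ : X ⊔ Z1 ≤ Q := sup_le hXQ d.qs.hZ1Q
  have hAS : X ⊔ Z1 ≤ S := sup_le d.hard.hXS d.hZ1S
  haveI hAcomm : IsMulCommutative ↥(X ⊔ Z1) := by
    refine ⟨⟨?_⟩⟩
    rintro ⟨x, hx⟩ ⟨y, hy⟩
    apply Subtype.ext
    change x * y = y * x
    have hle : X ⊔ Z1 ≤ Subgroup.centralizer ({x} : Set G) := by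
      apply sup_le
      · rw [d.xs.hX, Subgroup.zpowers_le, Subgroup.mem_centralizer_singleton_iff]
        have := d.xs.hSa (hAS hx)
        rw [Subgroup.mem_centralizer_singleton_iff] at this
        exact this.symm
      · intro z hz
        rw [Subgroup.mem_centralizer_singleton_iff]
        exact (d.qs.comm hz (hAQ hx)).symm
    have := hle hy
    rw [Subgroup.mem_centralizer_singleton_iff] at this
    exact this.symm
  have hAnc : ¬ IsCyclic ↥(X ⊔ Z1) := by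
    intro hcyc
    have h1 : X = Z1 := eq_of_card_eq_of_le_isCyclic hcyc le_sup_left le_sup_right
      (by rw [d.xs.card_eq, d.qs.hZ1card])
    have h2 := d.xs.hXZ1
    rw [← h1, inf_idem] at h2
    exact d.hard.hX1 h2
  have hAR : X ⊔ Z1 ≤ Subgroup.normalizer (R : Set G) := hAQ.trans hQP
  have hcopA : (Nat.card ↥(X ⊔ Z1)).Coprime (Nat.card R) :=
    isPGroup_card_coprime_card (Ne.symm hrq) (cM.pgroup.to_le hAQ) hRr
  have hgen := Cfsg.Agent.S0058.result (X ⊔ Z1) R hAnc hAR hcopA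
  rw [← hgen]
  apply iSup₂_le
  rintro e ⟨heA, he1⟩
  intro y hy
  rw [Subgroup.mem_centralizer_iff]
  have hyR : y ∈ R := hy.1
  have hye : e * y = y * e :=
    (Subgroup.mem_centralizer_singleton_iff.mp (show y ∈ Subgroup.centralizer {e} from hy.2)).symm
  by_cases heZ : e ∈ Z1
  · intro z hz
    rw [← zpowers_eq_of_prime_card d.qs.hZ1card heZ he1] at hz
    obtain ⟨n, rfl⟩ := Subgroup.mem_zpowers_iff.mp hz
    have hc : Commute e y := hye
    exact (hc.zpow_left n).eq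
  · obtain ⟨h', hh'Q, a', haa', rfl⟩ := d.xs.conj d.qs d.hard.hSQ' d.hCa heA heZ
    intro z hz
    -- `y' = h'⁻¹ y h'`
    have hy'R : h'⁻¹ * y * h'⁻¹⁻¹ ∈ R :=
      (Subgroup.mem_normalizer_iff.mp (hQP (Q.inv_mem hh'Q)) y).mp hyR
    have hy'a' : a' * (h'⁻¹ * y * h'⁻¹⁻¹) = (h'⁻¹ * y * h'⁻¹⁻¹) * a' := by
      have e1 : a' * (h'⁻¹ * y * h'⁻¹⁻¹) = h'⁻¹ * ((h' * a' * h'⁻¹) * y) * h' := by group
      have e2 : (h'⁻¹ * y * h'⁻¹⁻¹) * a' = h'⁻¹ * (y * (h' * a' * h'⁻¹)) * h' := by group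
      rw [e1, e2, hye]
    have hy'a : a * (h'⁻¹ * y * h'⁻¹⁻¹) = (h'⁻¹ * y * h'⁻¹⁻¹) * a := by
      obtain ⟨n, rfl⟩ := Subgroup.mem_zpowers_iff.mp haa'
      have hc : Commute a' (h'⁻¹ * y * h'⁻¹⁻¹) := hy'a'
      exact (hc.zpow_left n).eq
    have hy'W : h'⁻¹ * y * h'⁻¹⁻¹ ∈ R ⊓ Subgroup.centralizer ({a} : Set G) :=
      ⟨hy'R, Subgroup.mem_centralizer_singleton_iff.mpr hy'a.symm⟩
    have h1 := Subgroup.mem_centralizer_iff.mp (hcon hz) _ hy'W
    -- h1 : y' * z = z * y'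
    have h2 : h' * z = z * h' := d.qs.comm hz hh'Q
    have h3 : h'⁻¹ * z = z * h'⁻¹ := d.qs.comm hz (Q.inv_mem hh'Q)
    have e1 : z * y = h' * (z * (h'⁻¹ * y * h'⁻¹⁻¹)) * h'⁻¹ := by
      rw [← mul_assoc h', h2]; group
    have e2 : y * z = h' * ((h'⁻¹ * y * h'⁻¹⁻¹) * z) * h'⁻¹ := by
      have : h' * ((h'⁻¹ * y * h'⁻¹⁻¹) * z) * h'⁻¹ = y * (h' * z * h'⁻¹) := by group
      rw [this, h2]; group
    rw [e1, e2, h1]


/-- A prime of `β(M)` dividing `|M ∩ K|` is not in `σ(K)` (else `K = M`). -/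
theorem not_mem_sigma_of_mem_beta_of_mem (hG : Cfsg.IsMinSimpleOddOrder G) {M K : Subgroup G}
    (hM : IsCoatom M) (hK : IsCoatom K) (hne : K ≠ M) {r : ℕ} (hrβ : r ∈ Cfsg.beta M) {w : G}
    (hwM : w ∈ M) (hwK : w ∈ K) (hw1 : w ≠ 1) (hwr : w ^ r = 1) : r ∉ Cfsg.sigma K := by
  intro hrσK
  have hr : r.Prime := hrβ.1.1
  haveI := Fact.mk hr
  have hWp : IsPGroup r ↥(Subgroup.zpowers w) := by
    rw [IsPGroup.iff_card, Nat.card_zpowers, orderOf_eq_prime hwr hw1]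
    exact ⟨1, (pow_one r).symm⟩
  obtain ⟨P1, hwP1, hP1M, -⟩ := exists_sylow_ge_of_mem_sigma hG hM
    (mem_sigma_of_mem_beta hG hM hrβ) (Subgroup.zpowers_le.mpr hwM) hWp
  obtain ⟨P2, hwP2, hP2K, -⟩ := exists_sylow_ge_of_mem_sigma hG hK hrσK
    (Subgroup.zpowers_le.mpr hwK) hWp
  obtain ⟨L, hL, hCL⟩ := exists_coatom_ge (centralizer_singleton_ne_top hG hw1)
  have h1 := centralizer_singleton_unique_of_ideal hG hM hrβ.2 P1 hP1M
    (hwP1 (Subgroup.mem_zpowers w)) hw1 hwr L hL (inf_le_right.trans hCL)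
  have h2 := centralizer_singleton_unique_of_ideal hG hK hrβ.2 P2 hP2K
    (hwP2 (Subgroup.mem_zpowers w)) hw1 hwr L hL (inf_le_right.trans hCL)
  exact hne (h2.symm.trans h1)

/-- For an ideal prime `r ∉ σ(K)`, the maximal subgroup `K` has `r`-rank at most one. -/
theorem pRankLE_one_of_ideal_of_not_mem_sigma (hG : Cfsg.IsMinSimpleOddOrder G) {K : Subgroup G}
    (hK : IsCoatom K) {r : ℕ} [hr : Fact r.Prime] (hβ : Cfsg.IsIdealPrime r G)
    (hrσ : r ∉ Cfsg.sigma K) : Cfsg.PRankLE r 1 ↥K := by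
  have hr2 : Cfsg.PRankLE r 2 ↥K := pRankLE_of_not_mem_sigma hG hK hr.out hrσ
  by_contra h1
  exact (Cfsg.Agent.S1408.result hG K hK r hrσ hr2 h1).1 hβ

/-- The `M`-side: a complement of `K_σ` in `K` containing `S` and contained in `M`. -/
theorem HardData.exists_compl (d : HardData M K H q X S Q Z Z1 a g) :
    ∃ E : Subgroup G, Cfsg.IsComplIn E (Cfsg.sigmaCore K) K ∧ S ≤ E ∧ E ≤ M := by
  have hG := d.hard.cM.min
  have hM := d.hard.cM.coatom
  have hK := d.hard.hK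
  have cM := d.hard.cM
  obtain ⟨r, R, hrβ, hRr, hRM, hQR, hrq, hnc⟩ := d.exists_R
  have hr : r.Prime := hrβ.1.1
  haveI := Fact.mk hr
  set W := R ⊓ Subgroup.centralizer ({a} : Set G) with hW
  have hWr : IsPGroup r ↥W := hRr.to_le inf_le_left
  have hWM : W ≤ M := inf_le_left.trans hRM
  have hWK : W ≤ K := by
    refine le_trans inf_le_right (le_trans ?_ d.hard.hNX)
    rw [d.xs.hX]
    exact centralizer_singleton_le_normalizer_zpowers a
  have hW1 : W ≠ ⊥ := by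
    intro h0
    apply hnc
    rw [h0]
    intro z _
    rw [Subgroup.mem_centralizer_iff]
    intro w hw
    rw [SetLike.mem_coe, Subgroup.mem_bot] at hw
    rw [hw, one_mul, mul_one]
  obtain ⟨w, hw, hw1, hwr⟩ := exists_central_of_order hWr hW1
  have hrσK : r ∉ Cfsg.sigma K :=
    not_mem_sigma_of_mem_beta_of_mem hG hM hK d.hard.ne hrβ (hWM hw.1) (hWK hw.1) hw1 hwr
  have hr1 : Cfsg.PRankLE r 1 ↥K := pRankLE_one_of_ideal_of_not_mem_sigma hG hK hrβ.2 hrσK
  have hWcyc : IsCyclic ↥W := isCyclic_of_pRankLE_one hG.1 hr1 hWK hWr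
  -- `S` and `Z1` normalize `W`
  have hSW : S ≤ Subgroup.normalizer (W : Set G) := by
    intro s hs
    apply mem_normalizer_inf (hQR (d.hard.hSQ' hs))
    exact Subgroup.le_normalizer (d.xs.hSa hs)
  have hZ1W : Z1 ≤ Subgroup.normalizer (W : Set G) := d.hZ1S.trans hSW
  have hcopZ : (Nat.card Z1).Coprime r := by
    rw [d.qs.hZ1card]
    exact (Nat.coprime_primes hq.out hr).mpr (Ne.symm hrq)
  have hcomm : ⁅W, Z1⁆ = W := by
    have hle : ⁅W, Z1⁆ ≤ W := Subgroup.le_normalizer_iff_commutator_le_left.mp hZ1W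
    by_contra hne
    exact hnc (Cfsg.Agent.Helper4.centralizes_cyclic_of_coprime W Z1 hWcyc hWr hZ1W hcopZ
      (Or.inl ⟨⁅W, Z1⁆, lt_of_le_of_ne hle hne, le_rfl⟩))
  have hWc : W ≤ ⁅K, K⁆ := by
    rw [← hcomm]
    exact Subgroup.commutator_mono hWK (d.hZ1S.trans d.hard.hSK)
  -- the `σ(K)'`-subgroup `S W`
  have hUK : W ⊔ S ≤ K := sup_le hWK d.hard.hSK
  have hU : ∀ t : ℕ, t.Prime → t ∣ Nat.card ↥(W ⊔ S) → t ∉ Cfsg.sigma K := by
    intro t ht htd
    have h1 := Cfsg.Agent.Helper1.card_sup_mul_card_inf (N := W) (A := S) hSW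
    have h2 : t ∣ Nat.card W * Nat.card S := by
      rw [← h1]; exact Dvd.dvd.mul_right htd _
    rcases (Nat.Prime.dvd_mul ht).mp h2 with h3 | h3
    · obtain ⟨k, hk⟩ := IsPGroup.iff_card.mp hWr
      rw [hk] at h3
      have := (Nat.prime_dvd_prime_iff_eq ht hr).mp (ht.dvd_of_dvd_pow h3)
      rw [this]; exact hrσK
    · obtain ⟨k, hk⟩ := IsPGroup.iff_card.mp (cM.pgroup.to_le d.hard.hSQ')
      rw [hk] at h3
      have := (Nat.prime_dvd_prime_iff_eq ht hq.out).mp (ht.dvd_of_dvd_pow h3)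
      rw [this]; exact d.hard.not_mem_sigma
  obtain ⟨E, hE, hUE⟩ := exists_compl_sigmaCore_ge hG hK hUK hU
  refine ⟨E, hE, le_sup_right.trans hUE, ?_⟩
  have hEW : E ≤ Subgroup.normalizer (W : Set G) :=
    le_normalizer_of_le_commutator_compl hG hK hE hr1 hWr (le_sup_left.trans hUE) hWc
  refine hEW.trans (normalizer_le_of_beta_subgroup hG hM hWM hW1 ?_)
  intro t ht htd
  obtain ⟨k, hk⟩ := IsPGroup.iff_card.mp hWr
  rw [hk] at htd
  have := (Nat.prime_dvd_prime_iff_eq ht hr).mp (ht.dvd_of_dvd_pow htd)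
  rw [this]; exact hrβ


/-- A complement of `K_σ` has the same `q`-part as `K` for `q ∉ σ(K)`. -/
theorem factorization_compl_eq {K E : Subgroup G} (hE : Cfsg.IsComplIn E (Cfsg.sigmaCore K) K)
    {t : ℕ} (ht : t.Prime) (htσ : t ∉ Cfsg.sigma K) :
    (Nat.card E).factorization t = (Nat.card K).factorization t := by
  have h1 := IsComplIn_card_mul hE
  have h2 : ¬ t ∣ Nat.card (Cfsg.sigmaCore K) :=
    fun hd => htσ (Cfsg.Agent.Lead.BG12.mem_sigma_of_dvd_card_sigmaCore ht hd)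
  rw [← h1, Nat.factorization_mul Nat.card_pos.ne' Nat.card_pos.ne', Finsupp.add_apply,
    Nat.factorization_eq_zero_of_not_dvd h2, add_zero]

/-- The `H`-side: `C_{H_β}(S) ≤ M`. -/
theorem HardData.Y_le (d : HardData M K H q X S Q Z Z1 a g) :
    Cfsg.piCoreOf (Cfsg.beta H) H ⊓ Subgroup.centralizer (S : Set G) ≤ M := by
  have hG := d.hard.cM.min
  have hM := d.hard.cM.coatom
  have hK := d.hard.hK
  have hH := d.nu.cH.coatom
  have cM := d.hard.cM
  obtain ⟨E, hE, hSE, hEM⟩ := d.exists_compl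
  set B' := Cfsg.piCoreOf (Cfsg.beta H) H with hB'
  set Y := B' ⊓ Subgroup.centralizer (S : Set G) with hY
  have hSq : IsPGroup q ↥S := cM.pgroup.to_le d.hard.hSQ'
  have hYK : Y ≤ K := by
    refine le_trans inf_le_right (le_trans ?_ d.hard.hNX)
    exact (Subgroup.centralizer_le d.hard.hXS).trans (Subgroup.centralizer_le_normalizer _)
  have hYH : Y ≤ H := inf_le_left.trans (piCoreOf_le _ _)
  -- primes of `Y`
  have hYσ : ∀ t : ℕ, t.Prime → t ∣ Nat.card Y → t ∉ Cfsg.sigma K := by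
    intro t ht htd
    have htβ : t ∈ Cfsg.beta H :=
      piCoreOf_isPi (Cfsg.beta H) H t ht (htd.trans (Subgroup.card_dvd_of_le inf_le_left))
    haveI := Fact.mk ht
    obtain ⟨y, hy⟩ := exists_prime_orderOf_dvd_card' t htd
    have hy1 : (y : G) ≠ 1 := by
      intro h
      have : y = 1 := Subtype.ext h
      rw [this, orderOf_one] at hy
      exact ht.one_lt.ne hy
    have hyt : (y : G) ^ t = 1 := by
      have h1 : y ^ t = 1 := by rw [← hy]; exact pow_orderOf_eq_one y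
      have h2 := congrArg Subtype.val h1
      rw [Subgroup.coe_pow, Subgroup.coe_one] at h2
      exact h2
    intro htσK
    have hKH : K ≠ H := by
      intro hKH
      apply d.hard.hSQ
      apply le_antisymm d.hard.hSQ'
      rw [← d.hard.hS]
      exact le_inf le_rfl (hKH ▸ d.nu.cH.le)
    exact not_mem_sigma_of_mem_beta_of_mem hG hH hK hKH htβ (hYH y.2) (hYK y.2) hy1 hyt htσK
  -- the `σ(K)'`-subgroup `Y S`
  have hSY : S ≤ Subgroup.normalizer (Y : Set G) := by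
    intro s hs
    apply Subgroup.mem_normalizer_fintype
    intro y hy
    have h1 : y * s = s * y := (Subgroup.mem_centralizer_iff.mp hy.2 s hs).symm
    have e : s * y * s⁻¹ = y := by rw [← h1]; group
    rw [SetLike.mem_coe, e]; exact hy
  have hU : ∀ t : ℕ, t.Prime → t ∣ Nat.card ↥(Y ⊔ S) → t ∉ Cfsg.sigma K := by
    intro t ht htd
    have h1 := Cfsg.Agent.Helper1.card_sup_mul_card_inf (N := Y) (A := S) hSY
    have h2 : t ∣ Nat.card Y * Nat.card S := by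
      rw [← h1]; exact Dvd.dvd.mul_right htd _
    rcases (Nat.Prime.dvd_mul ht).mp h2 with h3 | h3
    · exact hYσ t ht h3
    · obtain ⟨k, hk⟩ := IsPGroup.iff_card.mp hSq
      rw [hk] at h3
      have := (Nat.prime_dvd_prime_iff_eq ht hq.out).mp (ht.dvd_of_dvd_pow h3)
      rw [this]; exact d.hard.not_mem_sigma
  obtain ⟨E2, hE2, hUE2⟩ := exists_compl_sigmaCore_ge hG hK (sup_le hYK d.hard.hSK) hU
  obtain ⟨k0, hk0, hk0E⟩ := compl_sigmaCore_conj hG hK hE2 hE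
  have hconj : ∀ x ∈ E2, k0 * x * k0⁻¹ ∈ E := by
    intro x hx
    rw [← hk0E]
    exact Subgroup.smul_mem_pointwise_smul x (MulAut.conj k0) E2 hx
  -- conjugate `k0 S k0⁻¹` back to `S` inside `E`
  have hScardE : Nat.card S = q ^ (Nat.card E).factorization q := by
    rw [factorization_compl_eq hE hq.out d.hard.not_mem_sigma]; exact d.hard.hScard
  have hS'E : S.map (MulAut.conj k0).toMonoidHom ≤ E := by
    rintro _ ⟨s, hs, rfl⟩
    exact hconj s (hUE2 (Subgroup.mem_sup_right hs))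
  obtain ⟨e0, he0, he0S⟩ := Cfsg.Agent.Lead.exists_conj_le_of_card_eq_ppart hSE hScardE hS'E
    (hSq.map _)
  have hnS : e0 * k0 ∈ Subgroup.normalizer (S : Set G) := by
    apply Subgroup.mem_normalizer_fintype
    intro s hs
    have : e0 * (k0 * s * k0⁻¹) * e0⁻¹ ∈ S := he0S ⟨_, ⟨s, hs, rfl⟩, rfl⟩
    have e : e0 * k0 * s * (e0 * k0)⁻¹ = e0 * (k0 * s * k0⁻¹) * e0⁻¹ := by group
    rw [SetLike.mem_coe, e]; exact this
  have hnH : e0 * k0 ∈ H := d.hNZ1 (d.hard.normalizer_le_Z1 d.qs d.xs hnS)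
  -- `n Y n⁻¹ ≤ Y ∩ E`
  have hnY : ∀ y ∈ Y, (e0 * k0) * y * (e0 * k0)⁻¹ ∈ Y ⊓ E := by
    intro y hy
    refine ⟨⟨?_, ?_⟩, ?_⟩
    · exact (Subgroup.mem_normalizer_iff.mp (le_normalizer_piCoreOf (Cfsg.beta H) H hnH) y).mp hy.1
    · apply Subgroup.mem_centralizer_iff.mpr
      intro s hs
      have hs' : (e0 * k0)⁻¹ * s * (e0 * k0)⁻¹⁻¹ ∈ S :=
        (Subgroup.mem_normalizer_iff.mp (Subgroup.inv_mem _ hnS) s).mp hs
      have h1 := Subgroup.mem_centralizer_iff.mp hy.2 _ hs'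
      have e1 : s * ((e0 * k0) * y * (e0 * k0)⁻¹) =
          (e0 * k0) * (((e0 * k0)⁻¹ * s * (e0 * k0)⁻¹⁻¹) * y) * (e0 * k0)⁻¹ := by group
      have e2 : (e0 * k0) * y * (e0 * k0)⁻¹ * s =
          (e0 * k0) * (y * ((e0 * k0)⁻¹ * s * (e0 * k0)⁻¹⁻¹)) * (e0 * k0)⁻¹ := by group
      rw [e1, e2, h1]
    · have h1 : k0 * y * k0⁻¹ ∈ E := hconj y (hUE2 (Subgroup.mem_sup_left hy))
      have e : e0 * k0 * y * (e0 * k0)⁻¹ = e0 * (k0 * y * k0⁻¹) * e0⁻¹ := by group
      rw [e]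
      exact E.mul_mem (E.mul_mem he0 h1) (E.inv_mem he0)
  have hmap : Y.map (MulAut.conj (e0 * k0)).toMonoidHom = Y := by
    apply Subgroup.eq_of_le_of_card_ge
    · rintro _ ⟨y, hy, rfl⟩
      exact (hnY y hy).1
    · rw [Subgroup.card_map_of_injective (MulAut.conj (e0 * k0)).injective]
  intro y hy
  rw [← hmap] at hy
  obtain ⟨y', hy', rfl⟩ := hy
  exact hEM (hnY y' hy').2


theorem HardData.normalizer_le (d : HardData M K H q X S Q Z Z1 a g) :
    Subgroup.normalizer (S : Set G) ≤ M := by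
  have hG := d.hard.cM.min
  have cM := d.hard.cM
  have cH := d.nu.cH
  set B' := Cfsg.piCoreOf (Cfsg.beta H) H with hB'
  have hSq : IsPGroup q ↥S := cM.pgroup.to_le d.hard.hSQ'
  have hSH : S ≤ H := d.hard.hSQ'.trans cH.le
  have hSB' : S ≤ Subgroup.normalizer (B' : Set G) :=
    hSH.trans (le_normalizer_piCoreOf (Cfsg.beta H) H)
  have hqB' : ¬ q ∣ Nat.card B' := sigCtx_not_dvd_card_betaCore cH d.nu.pRankLE
  have hdisj : S ⊓ B' = ⊥ := by
    by_contra hne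
    have hd := dvd_card_of_isPGroup_ne_bot (hSq.to_le inf_le_left) hne
    exact hqB' (hd.trans (Subgroup.card_dvd_of_le inf_le_right))
  have hcard : Nat.card ↥(B' ⊔ S) = Nat.card S * Nat.card B' :=
    card_sup_of_le_normalizer hSB' hdisj
  -- `Q ∩ B' S = S`
  have hQBS : Q ⊓ (B' ⊔ S) = S := by
    symm
    apply Subgroup.eq_of_le_of_card_ge (le_inf d.hard.hSQ' le_sup_right)
    have h1 : Nat.card ↥(Q ⊓ (B' ⊔ S)) ∣ Nat.card S * Nat.card B' := by
      rw [← hcard]; exact Subgroup.card_dvd_of_le inf_le_right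
    obtain ⟨k, hk⟩ := IsPGroup.iff_card.mp (cM.pgroup.to_le (inf_le_left : Q ⊓ (B' ⊔ S) ≤ Q))
    have hcop : (Nat.card ↥(Q ⊓ (B' ⊔ S))).Coprime (Nat.card B') := by
      rw [hk]
      exact Nat.Coprime.pow_left k ((Nat.Prime.coprime_iff_not_dvd hq.out).mpr hqB')
    exact Nat.le_of_dvd Nat.card_pos (hcop.dvd_of_dvd_mul_right h1)
  intro x hx
  have hxH : x ∈ H := d.hNZ1 (d.hard.normalizer_le_Z1 d.qs d.xs hx)
  obtain ⟨b, hb, n', hn', e⟩ := sigCtx_exists_mul_betaCore cH x hxH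
  -- `n'` normalizes `S`
  have hn'S : n' ∈ Subgroup.normalizer (S : Set G) := by
    apply Subgroup.mem_normalizer_fintype
    intro s hs
    rw [SetLike.mem_coe, ← hQBS]
    refine ⟨(Subgroup.mem_normalizer_iff.mp hn' s).mp (d.hard.hSQ' hs), ?_⟩
    have hs' : x * s * x⁻¹ ∈ S := (Subgroup.mem_normalizer_iff.mp hx s).mp hs
    have h1 : (x * s * x⁻¹) * b * (x * s * x⁻¹)⁻¹ ∈ B' :=
      (Subgroup.mem_normalizer_iff.mp (hSB' hs') b).mp hb
    have e' : n' * s * n'⁻¹ = (b⁻¹ * ((x * s * x⁻¹) * b * (x * s * x⁻¹)⁻¹)) * (x * s * x⁻¹) := by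
      have : n' = b⁻¹ * x := by rw [e]; group
      rw [this]; group
    rw [e']
    exact Subgroup.mul_mem _ (Subgroup.mem_sup_left (B'.mul_mem (B'.inv_mem hb) h1))
      (Subgroup.mem_sup_right hs')
  have hn'M : n' ∈ M := cM.norm hn'
  -- `b` centralizes `S`
  have hbS : b ∈ Subgroup.normalizer (S : Set G) := by
    have : b = x * n'⁻¹ := by rw [e]; group
    rw [this]
    exact Subgroup.mul_mem _ hx (Subgroup.inv_mem _ hn'S)
  have hbC : b ∈ Subgroup.centralizer (S : Set G) := by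
    rw [Subgroup.mem_centralizer_iff]
    intro s hs
    have h1 : b * s * b⁻¹ * s⁻¹ ∈ S :=
      S.mul_mem ((Subgroup.mem_normalizer_iff.mp hbS s).mp hs) (S.inv_mem hs)
    have h2 : b * s * b⁻¹ * s⁻¹ ∈ B' := by
      have h3 : s * b⁻¹ * s⁻¹ ∈ B' :=
        (Subgroup.mem_normalizer_iff.mp (hSB' hs) b⁻¹).mp (B'.inv_mem hb)
      have e' : b * s * b⁻¹ * s⁻¹ = b * (s * b⁻¹ * s⁻¹) := by group
      rw [e']; exact B'.mul_mem hb h3
    have h4 : b * s * b⁻¹ * s⁻¹ = 1 := by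
      have : b * s * b⁻¹ * s⁻¹ ∈ S ⊓ B' := ⟨h1, h2⟩
      rw [hdisj, Subgroup.mem_bot] at this
      exact this
    have e' : s * b = (b * s * b⁻¹ * s⁻¹)⁻¹ * (b * s) := by group
    rw [e', h4]; group
  rw [e]
  exact M.mul_mem (d.Y_le ⟨hb, hbC⟩) hn'M

/-- Part (b) of `sigma_subgroup_embedding` in the hard case. -/
theorem Hard.normalizer_le (h : Hard M K q X S Q) : Subgroup.normalizer (S : Set G) ≤ M := by
  rcases h.exists_data with h1 | ⟨H, Z, Z1, a, g, d⟩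
  · exact h1
  · exact d.normalizer_le


/-- Bender–Glauberman `sigma_subgroup_embedding`, parts (b) and (c), in subgroup form: for
`q ∈ σ(M)`, a nontrivial `q`-subgroup `X` of `M` with `N(X) ≤ K ≠ M`, and a maximal `q`-subgroup
`S ≥ X` of `M ∩ K`: `N(S) ≤ M` and `S` is a Sylow `q`-subgroup of `K`. -/
theorem sigma_subgroup_embedding (hG : Cfsg.IsMinSimpleOddOrder G) {M K : Subgroup G}
    (hM : IsCoatom M) (hK : IsCoatom K) (hne : K ≠ M) {q : ℕ} [hq : Fact q.Prime]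
    (hqσ : q ∈ Cfsg.sigma M) {X S : Subgroup G} (hX1 : X ≠ ⊥) (hXS : X ≤ S)
    (hNX : Subgroup.normalizer (X : Set G) ≤ K) (hSq : IsPGroup q ↥S) (hSMK : S ≤ M ⊓ K)
    (hmax : ∀ T : Subgroup G, IsPGroup q ↥T → S ≤ T → T ≤ M ⊓ K → T = S) :
    Subgroup.normalizer (S : Set G) ≤ M ∧ Nat.card S = q ^ (Nat.card K).factorization q := by
  have hSM : S ≤ M := hSMK.trans inf_le_left
  have hSK : S ≤ K := hSMK.trans inf_le_right
  obtain ⟨QS, hSQ, hQM, hNQ⟩ := exists_sylow_ge_of_mem_sigma hG hM hqσ hSM hSq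
  have hcM : Nat.card (QS : Subgroup G) = q ^ (Nat.card M).factorization q := by
    apply Cfsg.Agent.Lead.card_eq_ppart_of_le hQM (le_top : M ≤ ⊤) QS.2
    rw [Subgroup.card_top]; exact QS.card_eq_multiplicity
  have c : SigCtx M q (QS : Subgroup G) :=
    ⟨hG, hM, hQM, QS.2, hcM, QS.card_eq_multiplicity, hNQ⟩
  have hScard := card_eq_ppart_of_maximal c hX1 hXS hNX hSQ hSK hmax
  have hQK : (QS : Subgroup G) ⊓ K = S :=
    hmax _ (QS.2.to_le inf_le_left) (le_inf hSQ hSK) (inf_le_inf_right K hQM)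
  refine ⟨?_, hScard⟩
  by_cases hSQeq : S = (QS : Subgroup G)
  · rw [hSQeq]; exact hNQ
  by_cases hcyc : IsCyclic ↥S
  · exfalso
    obtain ⟨x, hxQ, hxS, hxN⟩ := exists_normalizing_of_lt QS.2 (lt_of_le_of_ne hSQ hSQeq)
    apply hxS
    rw [← hQK]
    exact ⟨hxQ, hNX (normalizer_le_normalizer_of_isCyclic hcyc hXS hxN)⟩
  by_cases hα : q ∈ Cfsg.alpha M
  · exact normalizer_le_of_noncyclic_of_mem_alpha hG hM hα hSM hSq hcyc
  have hr : Cfsg.PRankLE q 2 ↥(QS : Subgroup G) := by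
    have h1 : Cfsg.PRankLE q 2 ↥M := by
      by_contra h
      exact hα ⟨hq.out, h⟩
    exact Cfsg.Agent.Helper2.pRankLE_of_injective q 2 (Subgroup.inclusion hQM)
      (Subgroup.inclusion_injective hQM) h1
  by_cases hab : IsMulCommutative ↥(QS : Subgroup G)
  · exfalso
    apply hSQeq
    apply le_antisymm hSQ
    rw [← hQK]
    refine le_inf le_rfl ?_
    intro y hy
    apply hNX
    apply Subgroup.centralizer_le_normalizer
    rw [Subgroup.mem_centralizer_iff]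
    intro x hx
    have := hab.is_comm.comm ⟨x, hSQ (hXS hx)⟩ ⟨y, hy⟩
    exact congrArg Subtype.val this
  exact Hard.normalizer_le ⟨c, hK, hne, hX1, hXS, hNX, hQK, hSQeq, hr, hab, hScard⟩

end Cfsg.Agent.Helper4.BG10
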