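import Mathlib
import Cfsg.Prelude
import Cfsg.Agent.Helper4.BG10e
import Cfsg.Agent.Helper4.BG12a
import Cfsg.Agent.Lead.BG124b

set_option autoImplicit false

/-!
Towards Bender–Glauberman `sigma_Jsub` (our statement S1425): every nontrivial `σ(M)`-subgroup of
`G` is conjugate to a subgroup of `M_σ`.
-/

namespace Cfsg.Agent.Helper4.BG12

open Cfsg Cfsg.Agent.Helper1 Cfsg.Agent.Helper2 Cfsg.Agent.Helper1.BGT Cfsg.Agent.Helper1.BGU
  Cfsg.Agent.Helper1.BGV Cfsg.Agent.Helper1.BGW Cfsg.Agent.Helper1.BGX Cfsg.Agent.Lead.BG12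
  Cfsg.Agent.Lead.BG108 Cfsg.Agent.Helper4.BG10
open scoped commutatorElement Pointwise

universe u

variable {G : Type u} [Group G] [Finite G]

/-- A `σ(M)`-subgroup of `M` lies in `M_σ`. -/
theorem le_sigmaCore_of_isPi (hG : Cfsg.IsMinSimpleOddOrder G) {M : Subgroup G} (hM : IsCoatom M)
    {Y : Subgroup G} (hYM : Y ≤ M)
    (hY : ∀ t : ℕ, t.Prime → t ∣ Nat.card Y → t ∈ Cfsg.sigma M) : Y ≤ Cfsg.sigmaCore M := by
  obtain ⟨⟨hle, hπ, hidx⟩, -, -⟩ := Cfsg.Agent.Lead.BG12.sigmaCore_hall hG M hM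
  have hcop : (Nat.card Y).Coprime ((Cfsg.sigmaCore M).relIndex M) := by
    apply Nat.coprime_of_dvd
    intro t ht h1 h2
    exact hidx t ht (hY t ht h1) h2
  intro y hy
  apply mem_of_pow_eq_one_of_coprime_relIndex (le_normalizer_sigmaCore M) hcop (hYM hy)
  have h1 : (⟨y, hy⟩ : ↥Y) ^ Nat.card ↥Y = 1 := pow_card_eq_one'
  have h2 := congrArg Subtype.val h1
  simp only [Subgroup.coe_pow, Subgroup.coe_one] at h2
  exact h2

/-- Hall transfer: if `K = N J` with `N` a normal Hall subgroup of the solvable group `K`, then every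
subgroup of `K` of order prime to `|N|` is conjugate in `K` to a subgroup of `J`. -/
theorem exists_conj_le_of_coprime_of_mul {K N J Y : Subgroup G} (hsol : Group.IsSolvable ↥K)
    (hNK : N ≤ K) (hKN : K ≤ Subgroup.normalizer (N : Set G))
    (hcop : (N.relIndex K).Coprime (Nat.card N)) (hJK : J ≤ K)
    (hmul : ∀ k ∈ K, ∃ n ∈ N, ∃ j ∈ J, k = n * j) (hYK : Y ≤ K)
    (hY : (Nat.card Y).Coprime (Nat.card N)) : ∃ k ∈ K, MulAut.conj k • Y ≤ J := by
  have hcard : Nat.card K = N.relIndex K * Nat.card N := by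
    rw [← Cfsg.Agent.Lead.card_subgroupOf_of_le hNK]
    exact (Subgroup.index_mul_card (N.subgroupOf K)).symm
  have hK := (hallProp_of_solvable _ ↥K rfl).internal _ _ hcard hcop
  obtain ⟨H1, hH1K, hH1card, hYH1⟩ := hK.2 Y hYK hY
  -- a Hall subgroup of `J`
  have hJsol : Group.IsSolvable ↥J :=
    Group.isSolvable_of_isSolvable_injective (Subgroup.inclusion_injective hJK)
  have hsup : N ⊔ J = K := by
    apply le_antisymm (sup_le hNK hJK)
    intro k hk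
    obtain ⟨n, hn, j, hj, rfl⟩ := hmul k hk
    exact Subgroup.mul_mem _ (Subgroup.mem_sup_left hn) (Subgroup.mem_sup_right hj)
  have hJcard : Nat.card J = N.relIndex K * Nat.card ↥(N ⊓ J) := by
    have h1 := Cfsg.Agent.Helper1.card_sup_mul_card_inf (N := N) (A := J) (hJK.trans hKN)
    rw [hsup, hcard] at h1
    have h2 : Nat.card N * (N.relIndex K * Nat.card ↥(N ⊓ J)) = Nat.card N * Nat.card J := by
      rw [← h1]; ring
    exact (Nat.eq_of_mul_eq_mul_left Nat.card_pos h2).symm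
  have hcop' : (N.relIndex K).Coprime (Nat.card ↥(N ⊓ J)) :=
    Nat.Coprime.coprime_dvd_right (Subgroup.card_dvd_of_le inf_le_left) hcop
  have hJ := (hallProp_of_solvable _ ↥J rfl).internal _ _ hJcard hcop'
  obtain ⟨H2, hH2J, hH2card, -⟩ := hJ.2 ⊥ bot_le (by rw [Subgroup.card_bot]; exact Nat.coprime_one_left _)
  obtain ⟨k, hk, hkH⟩ := hK.1 H1 H2 hH1K (hH2J.trans hJK) hH1card hH2card
  refine ⟨k, hk, ?_⟩
  calc MulAut.conj k • Y ≤ MulAut.conj k • H1 := Subgroup.pointwise_smul_le_pointwise_smul_iff.mpr hYH1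
    _ = H2 := hkH
    _ ≤ J := hH2J

/-- A Sylow `r`-subgroup of `G` inside `M`, for `r ∈ σ(M)`, gives a `SigCtx`. -/
theorem sigCtx_of_sylow (hG : Cfsg.IsMinSimpleOddOrder G) {M : Subgroup G} (hM : IsCoatom M)
    {r : ℕ} [hr : Fact r.Prime] (hrσ : r ∈ Cfsg.sigma M) {R : Subgroup G} (hRM : R ≤ M)
    (hRp : IsPGroup r ↥R) (hRc : Nat.card R = r ^ (Nat.card G).factorization r) :
    SigCtx M r R := by
  have hcM : Nat.card R = r ^ (Nat.card M).factorization r := by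
    apply Cfsg.Agent.Lead.card_eq_ppart_of_le hRM (le_top : M ≤ ⊤) hRp
    rw [Subgroup.card_top]; exact hRc
  exact ⟨hG, hM, hRM, hRp, hcM, hRc,
    normalizer_le_of_sylow_of_mem_sigma hG hM hrσ hRM hRp hcM⟩

/-- For `r ∈ σ(K)` the `r`-parts of `|K|` and `|G|` agree. -/
theorem factorization_eq_of_mem_sigma (hG : Cfsg.IsMinSimpleOddOrder G) {K : Subgroup G}
    (hK : IsCoatom K) {r : ℕ} [hr : Fact r.Prime] (hrσ : r ∈ Cfsg.sigma K) :
    (Nat.card K).factorization r = (Nat.card G).factorization r := by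
  obtain ⟨R0, cK⟩ := exists_sigCtx hG hK hrσ
  exact Nat.pow_right_injective hr.out.two_le (cK.cardM.symm.trans cK.cardG)

/-- The common Sylow subgroup: `q ∈ σ(M)`, `X ≤ M` a nontrivial `q`-subgroup with `N(X) ≤ K`,
`r ∈ σ(M) ∩ σ(K)` and `R` an `X`-invariant Sylow `r`-subgroup of `K`.  Then some `C(X)`-conjugate
of `R` is a Sylow `r`-subgroup of both `M` and `K`. -/
theorem exists_common_sigCtx (hG : Cfsg.IsMinSimpleOddOrder G) {M K : Subgroup G}
    (hM : IsCoatom M) (hK : IsCoatom K) {q : ℕ} [hq : Fact q.Prime] (hqσ : q ∈ Cfsg.sigma M)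
    {X : Subgroup G} (hXM : X ≤ M) (hXq : IsPGroup q ↥X) (hX1 : X ≠ ⊥)
    (hNX : Subgroup.normalizer (X : Set G) ≤ K) {r : ℕ} [hr : Fact r.Prime]
    (hrM : r ∈ Cfsg.sigma M) (hrK : r ∈ Cfsg.sigma K) {R : Subgroup G} (hRK : R ≤ K)
    (hRr : IsPGroup r ↥R) (hRc : Nat.card R = r ^ (Nat.card K).factorization r)
    (hXR : X ≤ Subgroup.normalizer (R : Set G)) :
    ∃ R' : Subgroup G, SigCtx M r R' ∧ SigCtx K r R' := by
  have hRcG : Nat.card R = r ^ (Nat.card G).factorization r := by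
    rw [hRc, factorization_eq_of_mem_sigma hG hK hrK]
  obtain ⟨R1, cM⟩ := exists_sigCtx hG hM hrM
  obtain ⟨g, hg⟩ := Cfsg.Agent.Lead.exists_conj_le_sylow (Sylow.ofCard R1 cM.cardG) R hRr
  rw [Sylow.coe_ofCard] at hg
  have hgeq : R.map (MulAut.conj g).toMonoidHom = R1 := by
    apply Subgroup.eq_of_le_of_card_ge hg
    rw [Cfsg.Agent.Lead.card_map_conj, hRcG, cM.cardG]
  have hgX : ∀ x ∈ X, g * x * g⁻¹ ∈ M := by
    intro x hx
    apply cM.norm
    rw [← hgeq, Cfsg.Agent.Lead.normalizer_map_conj]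
    exact ⟨x, hXR hx, rfl⟩
  obtain ⟨Q, cMq⟩ := exists_sigCtx hG hM hqσ
  obtain ⟨m, hm, c, hc, e⟩ := cMq.trans X hXM hXq hX1 g hgX
  have hcK : c ∈ K := hNX (Subgroup.centralizer_le_normalizer _ hc)
  have hcard : Nat.card ↥(R.map (MulAut.conj c).toMonoidHom) =
      r ^ (Nat.card G).factorization r := by
    rw [Cfsg.Agent.Lead.card_map_conj]; exact hRcG
  refine ⟨R.map (MulAut.conj c).toMonoidHom, ?_, ?_⟩
  · apply sigCtx_of_sylow hG hM hrM ?_ (hRr.map _) hcard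
    rintro _ ⟨x, hx, rfl⟩
    have h1 : g * x * g⁻¹ ∈ R1 := by rw [← hgeq]; exact ⟨x, hx, rfl⟩
    have h2 : (MulAut.conj c).toMonoidHom x = m⁻¹ * (g * x * g⁻¹) * m := by
      simp only [MulEquiv.coe_toMonoidHom, MulAut.conj_apply]
      rw [e]; group
    rw [h2]
    exact M.mul_mem (M.mul_mem (M.inv_mem hm) (cM.le h1)) hm
  · apply sigCtx_of_sylow hG hK hrK ?_ (hRr.map _) hcard
    rintro _ ⟨x, hx, rfl⟩
    simp only [MulEquiv.coe_toMonoidHom, MulAut.conj_apply]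
    exact K.mul_mem (K.mul_mem hcK (hRK hx)) (K.inv_mem hcK)

/-- If `q ∉ σ(K)` and `r ∈ σ(K)`, a `q`-subgroup `X` of `K` normalizes some Sylow `r`-subgroup
of `K`. -/
theorem exists_invariant_sylow_of_not_mem_sigma (hG : Cfsg.IsMinSimpleOddOrder G) {K : Subgroup G}
    (hK : IsCoatom K) {q : ℕ} [hq : Fact q.Prime] (hqK : q ∉ Cfsg.sigma K) {X : Subgroup G}
    (hXK : X ≤ K) (hXq : IsPGroup q ↥X) {r : ℕ} [hr : Fact r.Prime] (hrK : r ∈ Cfsg.sigma K) :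
    ∃ R : Subgroup G, R ≤ K ∧ IsPGroup r ↥R ∧ Nat.card R = r ^ (Nat.card K).factorization r ∧
      X ≤ Subgroup.normalizer (R : Set G) := by
  obtain ⟨⟨hle, hπ, hidx⟩, -, -⟩ := Cfsg.Agent.Lead.BG12.sigmaCore_hall hG K hK
  have hsolK : Group.IsSolvable ↥K := hG.2.2.2 K hK.1
  have hsol : Group.IsSolvable ↥(Cfsg.sigmaCore K) :=
    Group.isSolvable_of_isSolvable_injective (Subgroup.inclusion_injective hle)
  have hcop : (Nat.card X).Coprime (Nat.card (Cfsg.sigmaCore K)) := by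
    obtain ⟨k, hk⟩ := IsPGroup.iff_card.mp hXq
    rw [hk]
    apply Nat.Coprime.pow_left
    rw [Nat.Prime.coprime_iff_not_dvd hq.out]
    exact fun hd => hqK (Cfsg.Agent.Lead.BG12.mem_sigma_of_dvd_card_sigmaCore hq.out hd)
  obtain ⟨P, hP⟩ := Cfsg.Agent.Helper1.exists_invariant_sylow (p := r) X (Cfsg.sigmaCore K)
    (hXK.trans (le_normalizer_sigmaCore K)) hcop (Or.inr hsol)
  refine ⟨(P : Subgroup ↥(Cfsg.sigmaCore K)).map (Cfsg.sigmaCore K).subtype,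
    (Subgroup.map_subtype_le _).trans hle, P.2.map _, ?_, hP⟩
  rw [Subgroup.card_map_of_injective (Subgroup.subtype_injective _), P.card_eq_multiplicity,
    factorization_eq_of_not_dvd_relIndex hle hr.out (hidx r hr.out hrK)]

/-- An ideal prime in `σ(M)` lies in `β(M)`. -/
theorem mem_beta_of_ideal_of_mem_sigma (hG : Cfsg.IsMinSimpleOddOrder G) {M : Subgroup G}
    (hM : IsCoatom M) {t : ℕ} (hid : Cfsg.IsIdealPrime t G) (htσ : t ∈ Cfsg.sigma M) :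
    t ∈ Cfsg.beta M := by
  haveI := Fact.mk hid.1
  refine ⟨⟨hid.1, fun hr => hid.2.1 ?_⟩, hid⟩
  obtain ⟨T, cT⟩ := exists_sigCtx hG hM htσ
  apply pRankLE_of_sylow (Sylow.ofCard T cT.cardG)
  rw [Sylow.coe_ofCard]
  exact Cfsg.Agent.Helper2.pRankLE_of_injective t 2 (Subgroup.inclusion cT.le)
    (Subgroup.inclusion_injective cT.le) hr

/-- Case A: if `M ≠ K` share a Sylow `r`-subgroup `R` with `r ∈ σ(M) ∩ σ(K)`, every `σ(M)`-subgroup
of `K` is `K`-conjugate into `M`. -/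
theorem nu_exists_conj_le {M K : Subgroup G} {r : ℕ} [hr : Fact r.Prime] {R : Subgroup G}
    (h : NU M K r R) {Y : Subgroup G} (hYK : Y ≤ K)
    (hY : ∀ t : ℕ, t.Prime → t ∣ Nat.card Y → t ∈ Cfsg.sigma M) :
    ∃ k ∈ K, MulAut.conj k • Y ≤ M := by
  have hG := h.cM.min
  have hM := h.cM.coatom
  have hK := h.cH.coatom
  have hsolK : Group.IsSolvable ↥K := hG.2.2.2 K hK.1
  obtain ⟨⟨hle, hπ, hidx⟩, -⟩ := betaCore_hall hG hK
  have hcop : ((Cfsg.piCoreOf (Cfsg.beta K) K).relIndex K).Coprime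
      (Nat.card ↥(Cfsg.piCoreOf (Cfsg.beta K) K)) := by
    apply Nat.coprime_of_dvd
    intro t ht h1 h2
    exact hidx t ht (hπ t ht h2) h1
  have hYcop : (Nat.card Y).Coprime (Nat.card ↥(Cfsg.piCoreOf (Cfsg.beta K) K)) := by
    apply Nat.coprime_of_dvd
    intro t ht h1 h2
    have htβK : t ∈ Cfsg.beta K := hπ t ht h2
    exact h.beta_disjoint (mem_beta_of_ideal_of_mem_sigma hG hM htβK.2 (hY t ht h1)) htβK
  obtain ⟨k, hk, hkY⟩ := exists_conj_le_of_coprime_of_mul hsolK hle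
    (le_normalizer_piCoreOf (Cfsg.beta K) K) hcop h.cH.norm
    (sigCtx_exists_mul_betaCore h.cH) hYK hYcop
  exact ⟨k, hk, hkY.trans h.cM.norm⟩

/-- Under (D) and Step 2: if `q ∈ σ(M) \ σ(K)` and `X ≤ M` is a nontrivial `q`-subgroup with
`N(X) ≤ K ≠ M`, some complement of `K_σ` in `K` lies in `M`. -/
theorem exists_compl_le (hG : Cfsg.IsMinSimpleOddOrder G) (hD : HypD G) (hα : HypAlpha G)
    {M K : Subgroup G} (hM : IsCoatom M) (hK : IsCoatom K) (hne : K ≠ M) {q : ℕ}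
    [hq : Fact q.Prime] (hqσ : q ∈ Cfsg.sigma M) (hqK : q ∉ Cfsg.sigma K) {X : Subgroup G}
    (hXM : X ≤ M) (hXq : IsPGroup q ↥X) (hX1 : X ≠ ⊥)
    (hNX : Subgroup.normalizer (X : Set G) ≤ K) :
    ∃ E : Subgroup G, Cfsg.IsComplIn E (Cfsg.sigmaCore K) K ∧ E ≤ M := by
  have hXK : X ≤ K := Subgroup.le_normalizer.trans hNX
  obtain ⟨S, hXS, hSMK, hSq, hScard⟩ :=
    Cfsg.Agent.Lead.exists_le_card_eq_ppart hXq (le_inf hXM hXK)
  have hmax : ∀ T : Subgroup G, IsPGroup q ↥T → S ≤ T → T ≤ M ⊓ K → T = S := by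
    intro T hT hST hTMK
    refine (Subgroup.eq_of_le_of_card_ge hST ?_).symm
    rw [hScard]
    exact Cfsg.Agent.Lead.card_le_ppart_of_isPGroup hT hTMK
  obtain ⟨hNS, hScK⟩ :=
    sigma_subgroup_embedding hG hM hK hne hqσ hX1 hXS hNX hSq hSMK hmax
  have hSM : S ≤ M := hSMK.trans inf_le_left
  have hSK : S ≤ K := hSMK.trans inf_le_right
  have hqτ : q ∈ Cfsg.tau2 K := (lemma122a hG hK hXq hX1 hNX).resolve_left hqK
  have hS1 : S ≠ ⊥ := fun h => hX1 (le_bot_iff.mp (h ▸ hXS))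
  have hnc : ¬ IsCyclic ↥S := by
    intro hc
    apply hqτ.2.2.2
    have hcard' : Nat.card ↥(S.subgroupOf K) = q ^ (Nat.card ↥K).factorization q := by
      rw [Cfsg.Agent.Lead.card_subgroupOf_of_le hSK]; exact hScK
    apply pRankLE_of_sylow (Sylow.ofCard (S.subgroupOf K) hcard')
    rw [Sylow.coe_ofCard]
    exact Cfsg.Agent.Helper2.pRankLE_of_injective q 1
      (Subgroup.subgroupOfEquivOfLe hSK).toMonoidHom (Subgroup.subgroupOfEquivOfLe hSK).injective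
      (pRankLE_one_of_isCyclic hc q)
  obtain ⟨A, hAS, hAe, hAcard, -⟩ :=
    exists_normal_ea2 (prime_ne_two_of_ne_bot hG hSq hS1) hSq hnc
  have hAM : A ≤ M := hAS.trans hSM
  have hAK : A ≤ K := hAS.trans hSK
  have hAq : IsPGroup q ↥A := hSq.to_le hAS
  have hA1 : A ≠ ⊥ := by
    intro h
    rw [h, Subgroup.card_bot] at hAcard
    exact absurd hAcard.symm (Nat.one_lt_pow (by norm_num) hq.out.one_lt).ne'
  have thmM := thm124 hG hD hα M hM q A ⟨hAM, hAe, hAcard⟩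
  have thmK := thm124 hG hD hα K hK q A ⟨hAK, hAe, hAcard⟩
  obtain ⟨A₀, e⟩ := exists_exc_of_tau2 hG hK hqτ ⟨hAK, hAe, hAcard⟩ thmK.2
  have hDK := hD K q A₀ A e
  obtain ⟨E, hE, hAE⟩ := Cfsg.Agent.Helper4.BG10.exists_compl_sigmaCore_ge hG hK hAK (by
    intro t ht hd hσ
    rw [hAcard] at hd
    have := (Nat.prime_dvd_prime_iff_eq ht hq.out).mp (ht.dvd_of_dvd_pow hd)
    exact hqK (this ▸ hσ))
  have h126 := (Exc.cor126 e hDK thmK.1 hE hAE).2.1.2.1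
  obtain ⟨Q, cMq⟩ := exists_sigCtx hG hM hqσ
  have hNA : Subgroup.normalizer (A : Set G) ≤ M := by
    rw [cMq.normalizer_eq hAM hAq hA1]
    exact sup_le inf_le_left thmM.1
  refine ⟨E, hE, ?_⟩
  rw [← h126]
  exact inf_le_right.trans hNA

/-- Case B: `σ(M) ∩ σ(K) = ∅`. -/
theorem exists_conj_le_of_disjoint (hG : Cfsg.IsMinSimpleOddOrder G) (hD : HypD G)
    (hα : HypAlpha G) {M K : Subgroup G} (hM : IsCoatom M) (hK : IsCoatom K) (hne : K ≠ M)
    {q : ℕ} [hq : Fact q.Prime] (hqσ : q ∈ Cfsg.sigma M) (hqK : q ∉ Cfsg.sigma K)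
    {X : Subgroup G} (hXM : X ≤ M) (hXq : IsPGroup q ↥X) (hX1 : X ≠ ⊥)
    (hNX : Subgroup.normalizer (X : Set G) ≤ K) {Y : Subgroup G} (hYK : Y ≤ K)
    (hY : ∀ t : ℕ, t.Prime → t ∣ Nat.card Y → t ∉ Cfsg.sigma K) :
    ∃ k ∈ K, MulAut.conj k • Y ≤ M := by
  obtain ⟨E, hE, hEM⟩ := exists_compl_le hG hD hα hM hK hne hqσ hqK hXM hXq hX1 hNX
  obtain ⟨E', hE', hYE'⟩ := Cfsg.Agent.Helper4.BG10.exists_compl_sigmaCore_ge hG hK hYK hY
  obtain ⟨k, hk, hkE⟩ := compl_sigmaCore_conj hG hK hE' hE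
  refine ⟨k, hk, ?_⟩
  calc MulAut.conj k • Y ≤ MulAut.conj k • E' :=
        Subgroup.pointwise_smul_le_pointwise_smul_iff.mpr hYE'
    _ = E := hkE
    _ ≤ M := hEM

/-- The core step: `X ≤ M` a nontrivial `q`-subgroup, `q ∈ σ(M)`, and `Y ≤ N(X)` a `σ(M)`-group. -/
theorem exists_conj_le_sigmaCore_of_le_normalizer (hG : Cfsg.IsMinSimpleOddOrder G) (hD : HypD G)
    (hα : HypAlpha G) {M : Subgroup G} (hM : IsCoatom M) {q : ℕ} [hq : Fact q.Prime]
    (hqσ : q ∈ Cfsg.sigma M) {X Y : Subgroup G} (hXM : X ≤ M) (hXq : IsPGroup q ↥X)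
    (hX1 : X ≠ ⊥) (hYX : Y ≤ Subgroup.normalizer (X : Set G))
    (hY : ∀ t : ℕ, t.Prime → t ∣ Nat.card Y → t ∈ Cfsg.sigma M) :
    ∃ g : G, MulAut.conj g • Y ≤ Cfsg.sigmaCore M := by
  have hXtop : X ≠ ⊤ := sylow_ne_top hG q X hXq
  obtain ⟨K, hK, hNK⟩ := exists_coatom_ge (normalizer_ne_top_of_simple hG hX1 hXtop)
  have hYK : Y ≤ K := hYX.trans hNK
  have hXK : X ≤ K := Subgroup.le_normalizer.trans hNK
  -- it suffices to conjugate `Y` into `M`
  suffices h : ∃ g : G, MulAut.conj g • Y ≤ M by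
    obtain ⟨g, hg⟩ := h
    refine ⟨g, le_sigmaCore_of_isPi hG hM hg ?_⟩
    intro t ht hd
    apply hY t ht
    rwa [conj_smul_eq_map, Cfsg.Agent.Lead.card_map_conj] at hd
  by_cases hKM : K = M
  · exact ⟨1, by rw [map_one, one_smul]; exact hKM ▸ hYK⟩
  have key : ∀ (r : ℕ) [Fact r.Prime], r ∈ Cfsg.sigma M → r ∈ Cfsg.sigma K →
      (∃ R : Subgroup G, R ≤ K ∧ IsPGroup r ↥R ∧ Nat.card R = r ^ (Nat.card K).factorization r ∧
        X ≤ Subgroup.normalizer (R : Set G)) → ∃ g : G, MulAut.conj g • Y ≤ M := by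
    intro r _ hrM hrK ⟨R, hRK, hRr, hRc, hXR⟩
    obtain ⟨R', cM', cK'⟩ :=
      exists_common_sigCtx hG hM hK hqσ hXM hXq hX1 hNK hrM hrK hRK hRr hRc hXR
    obtain ⟨k, -, hkY⟩ := nu_exists_conj_le ⟨cM', cK', Ne.symm hKM⟩ hYK hY
    exact ⟨k, hkY⟩
  by_cases hqK : q ∈ Cfsg.sigma K
  · obtain ⟨R, hXR, hRK, hRq, hRc⟩ := Cfsg.Agent.Lead.exists_le_card_eq_ppart hXq hXK
    exact key q hqσ hqK ⟨R, hRK, hRq, hRc, hXR.trans Subgroup.le_normalizer⟩
  by_cases hex : ∃ r : ℕ, r ∈ Cfsg.sigma M ∧ r ∈ Cfsg.sigma K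
  · obtain ⟨r, hrM, hrK⟩ := hex
    haveI := Fact.mk hrM.1
    exact key r hrM hrK (exists_invariant_sylow_of_not_mem_sigma hG hK hqK hXK hXq hrK)
  · obtain ⟨k, -, hkY⟩ := exists_conj_le_of_disjoint hG hD hα hM hK hKM hqσ hqK hXM hXq hX1 hNK
      hYK (fun t ht hd hσ => hex ⟨t, hY t ht hd, hσ⟩)
    exact ⟨k, hkY⟩

/-- A nontrivial `σ(M)`-subgroup of `G` is proper. -/
theorem ne_top_of_isPi_sigma (hG : Cfsg.IsMinSimpleOddOrder G) {M : Subgroup G} (hM : IsCoatom M)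
    {Y : Subgroup G} (hY : ∀ t : ℕ, t.Prime → t ∣ Nat.card Y → t ∈ Cfsg.sigma M) : Y ≠ ⊤ := by
  rintro rfl
  obtain ⟨⟨hle, -, -⟩, ⟨-, hidx⟩, -⟩ := Cfsg.Agent.Lead.BG12.sigmaCore_hall hG M hM
  have h1 : (Cfsg.sigmaCore M).index = 1 := by
    rw [Nat.eq_one_iff_not_exists_prime_dvd]
    intro t ht hd
    apply hidx t ht (hY t ht _) hd
    rw [Subgroup.card_top]
    exact hd.trans (Subgroup.index_dvd_card _)
  apply hM.1
  rw [eq_top_iff]
  exact (Subgroup.index_eq_one.mp h1).ge.trans hle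

/-- **Bender–Glauberman `sigma_Jsub`, first part**, given (D) and Step 2: a nontrivial
`σ(M)`-subgroup of `G` is conjugate to a subgroup of `M_σ`. -/
theorem sigma_Jsub_core (hG : Cfsg.IsMinSimpleOddOrder G) (hD : HypD G) (hα : HypAlpha G)
    {M : Subgroup G} (hM : IsCoatom M) {Y : Subgroup G} (hY1 : Y ≠ ⊥)
    (hY : ∀ t : ℕ, t.Prime → t ∣ Nat.card Y → t ∈ Cfsg.sigma M) :
    ∃ g : G, Y.map (MulAut.conj g).toMonoidHom ≤ Cfsg.sigmaCore M := by
  have hYtop : Y ≠ ⊤ := ne_top_of_isPi_sigma hG hM hY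
  have hsol : Group.IsSolvable ↥Y := hG.2.2.2 Y hYtop
  obtain ⟨q, hq, hXne⟩ := exists_pcoreOf_ne_bot hsol hY1
  haveI := Fact.mk hq
  have hXq : IsPGroup q ↥(pcoreOf q Y) := pCoreOf_isPGroup q Y
  have hXY : pcoreOf q Y ≤ Y := pCoreOf_le q Y
  have hqσ : q ∈ Cfsg.sigma M :=
    hY q hq ((dvd_card_of_isPGroup_ne_bot hXq hXne).trans (Subgroup.card_dvd_of_le hXY))
  obtain ⟨Q, cMq⟩ := exists_sigCtx hG hM hqσ
  obtain ⟨g, hg⟩ := Cfsg.Agent.Lead.exists_conj_le_sylow (Sylow.ofCard Q cMq.cardG) _ hXq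
  rw [Sylow.coe_ofCard] at hg
  have hYN : Y.map (MulAut.conj g).toMonoidHom ≤
      Subgroup.normalizer (((pcoreOf q Y).map (MulAut.conj g).toMonoidHom : Subgroup G) : Set G) := by
    rw [Cfsg.Agent.Lead.normalizer_map_conj]
    exact Subgroup.map_mono (Subgroup.le_normalizer.trans (normalizer_le_normalizer_pcoreOf q Y))
  have hX1' : (pcoreOf q Y).map (MulAut.conj g).toMonoidHom ≠ ⊥ := by
    intro h
    exact hXne ((Subgroup.map_eq_bot_iff_of_injective _ (MulAut.conj g).injective).mp h)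
  obtain ⟨g', hg'⟩ := exists_conj_le_sigmaCore_of_le_normalizer hG hD hα hM hqσ (hg.trans cMq.le)
    (hXq.map _) hX1' hYN (by
      intro t ht hd
      rw [Cfsg.Agent.Lead.card_map_conj] at hd
      exact hY t ht hd)
  refine ⟨g' * g, ?_⟩
  rw [conj_smul_eq_map, Subgroup.map_map] at hg'
  convert hg' using 2
  ext x
  simp [MulAut.conj_apply, mul_assoc]

end Cfsg.Agent.Helper4.BG12
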