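import Mathlib
import Cfsg.Prelude
import Cfsg.Agent.Helper4.BG12b
import Cfsg.Agent.Helper4.BG12c
import Cfsg.Agent.Helper4.SylowCoprime

set_option autoImplicit false

/-!
Towards Bender–Glauberman Lemma 12.8 / Theorem 12.10 pieces (our statement S1420): nilpotent
`σ(M)'`-subgroups of `M` are abelian, `E'` is abelian, `N(P) ≤ M` for noncyclic `p`-subgroups with
`p ∈ σ(M)`, and `C(x) ≤ M` uniquely for `τ₂(M)`-elements `x` of `M̂_σ`.
-/

namespace Cfsg.Agent.Helper4.BG12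

open Cfsg Cfsg.Agent.Helper1 Cfsg.Agent.Helper2 Cfsg.Agent.Helper1.BGT Cfsg.Agent.Helper1.BGU
  Cfsg.Agent.Helper1.BGV Cfsg.Agent.Helper1.BGW Cfsg.Agent.Helper1.BGX Cfsg.Agent.Lead.BG12
  Cfsg.Agent.Lead.BG108 Cfsg.Agent.Helper4.BG10
open scoped commutatorElement Pointwise

universe u

/-- A finite nilpotent group all of whose Sylow subgroups are abelian is abelian. -/
theorem isMulCommutative_of_nilpotent_of_sylow {N : Type*} [Group N] [Finite N]
    (hnil : Group.IsNilpotent N)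
    (h : ∀ (p : ℕ) [Fact p.Prime] (P : Sylow p N), ∀ a ∈ (P : Subgroup N), ∀ b ∈ (P : Subgroup N),
      a * b = b * a) : IsMulCommutative N := by
  obtain ⟨φ⟩ := ((Group.isNilpotent_of_finite_tfae (G := N)).out 0 4).mp hnil
  refine ⟨⟨fun x y => ?_⟩⟩
  obtain ⟨a, rfl⟩ := φ.surjective x
  obtain ⟨b, rfl⟩ := φ.surjective y
  rw [← map_mul, ← map_mul]
  congr 1
  funext p P
  haveI : Fact (p : ℕ).Prime := ⟨Nat.prime_of_mem_primeFactors p.2⟩
  apply Subtype.ext
  simp only [Pi.mul_apply, Subgroup.coe_mul]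
  exact h p P _ (a p P).2 _ (b p P).2

variable {G : Type u} [Group G] [Finite G]

/-- A subgroup of `p`-rank at least two contains an elementary abelian subgroup of order `p²`. -/
theorem exists_ea2_of_not_pRankLE_one (hG : Cfsg.IsMinSimpleOddOrder G) {H : Subgroup G} {p : ℕ}
    [hp : Fact p.Prime] (h : ¬ Cfsg.PRankLE p 1 ↥H) :
    ∃ A : Subgroup G, A ≤ H ∧ Cfsg.IsElementaryAbelian p A ∧ Nat.card A = p ^ 2 := by
  obtain ⟨S, -, hSH, hSp, hScard⟩ :=
    Cfsg.Agent.Lead.exists_le_card_eq_ppart (p := p) (H := H) (U := ⊥) IsPGroup.of_bot bot_le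
  have hnc : ¬ IsCyclic ↥S := by
    intro hc
    apply h
    have hcard' : Nat.card ↥(S.subgroupOf H) = p ^ (Nat.card ↥H).factorization p := by
      rw [Cfsg.Agent.Lead.card_subgroupOf_of_le hSH]; exact hScard
    apply pRankLE_of_sylow (Sylow.ofCard (S.subgroupOf H) hcard')
    rw [Sylow.coe_ofCard]
    exact Cfsg.Agent.Helper2.pRankLE_of_injective p 1
      (Subgroup.subgroupOfEquivOfLe hSH).toMonoidHom (Subgroup.subgroupOfEquivOfLe hSH).injective
      (pRankLE_one_of_isCyclic hc p)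
  obtain ⟨A, hAS, hAe, hAcard, -⟩ :=
    exists_normal_ea2 (prime_ne_two_of_ne_bot hG hSp (ne_bot_of_not_isCyclic hnc)) hSp hnc
  exact ⟨A, hAS.trans hSH, hAe, hAcard⟩

/-- The order of a complement of `M_σ` is a `σ(M)'`-number. -/
theorem not_mem_sigma_of_dvd_card_compl (hG : Cfsg.IsMinSimpleOddOrder G) {M : Subgroup G}
    (hM : IsCoatom M) {E : Subgroup G} (hE : Cfsg.IsComplIn E (Cfsg.sigmaCore M) M) {t : ℕ}
    (ht : t.Prime) (hd : t ∣ Nat.card E) : t ∉ Cfsg.sigma M := by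
  intro hσ
  obtain ⟨⟨hle, -, hidx⟩, -, -⟩ := Cfsg.Agent.Lead.BG12.sigmaCore_hall hG M hM
  obtain ⟨hcard, -⟩ := card_eq_relIndex_mul_card_sigmaCore hG hM
  have h1 := IsComplIn_card_mul hE
  have h2 : Nat.card E = (Cfsg.sigmaCore M).relIndex M := by
    have h3 : Nat.card E * Nat.card (Cfsg.sigmaCore M) =
        (Cfsg.sigmaCore M).relIndex M * Nat.card (Cfsg.sigmaCore M) := by
      rw [h1, hcard]
    exact Nat.eq_of_mul_eq_mul_right Nat.card_pos h3
  exact hidx t ht hσ (h2 ▸ hd)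

/-- For `p ∉ σ(M)`, the `p`-subgroups of `M` are abelian. -/
theorem commute_of_isPGroup_of_not_mem_sigma (hG : Cfsg.IsMinSimpleOddOrder G) {M : Subgroup G}
    (hM : IsCoatom M) {p : ℕ} [hp : Fact p.Prime] (hpσ : p ∉ Cfsg.sigma M) {W : Subgroup G}
    (hWM : W ≤ M) (hWp : IsPGroup p ↥W) : ∀ a ∈ W, ∀ b ∈ W, a * b = b * a := by
  by_cases hr1 : Cfsg.PRankLE p 1 ↥M
  · have hc : IsCyclic ↥W := isCyclic_of_pRankLE_one hG.1 hr1 hWM hWp
    intro a ha b hb
    have := hc.isMulCommutative.is_comm.comm ⟨a, ha⟩ ⟨b, hb⟩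
    exact congrArg Subtype.val this
  · have hpτ : p ∈ Cfsg.tau2 M :=
      ⟨hp.out, hpσ, pRankLE_of_not_mem_sigma hG hM hp.out hpσ, hr1⟩
    obtain ⟨A, hAM, hAe, hAcard⟩ := exists_ea2_of_not_pRankLE_one hG hr1
    have h125 := (thm125 hG hM hpτ ⟨hAM, hAe, hAcard⟩).2.1
    obtain ⟨P, hP⟩ := (hWp.comap_subtype (K := M)).exists_le_sylow
    intro a ha b hb
    have hcomm := (h125 P).1
    have ha' : (⟨a, hWM ha⟩ : ↥M) ∈ (P : Subgroup ↥M) := hP (Subgroup.mem_subgroupOf.mpr ha)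
    have hb' : (⟨b, hWM hb⟩ : ↥M) ∈ (P : Subgroup ↥M) := hP (Subgroup.mem_subgroupOf.mpr hb)
    have := hcomm.is_comm.comm ⟨_, ha'⟩ ⟨_, hb'⟩
    exact congrArg (fun z : ↥(P : Subgroup ↥M) => ((z : ↥M) : G)) this

/-- S1420 (1): nilpotent `σ(M)'`-subgroups of `M` are abelian. -/
theorem isMulCommutative_of_nilpotent_of_not_mem_sigma (hG : Cfsg.IsMinSimpleOddOrder G)
    {M : Subgroup G} (hM : IsCoatom M) {N : Subgroup G} (hNM : N ≤ M)
    (hnil : Group.IsNilpotent ↥N)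
    (hN : ∀ p : ℕ, p.Prime → p ∣ Nat.card N → p ∉ Cfsg.sigma M) : IsMulCommutative ↥N := by
  apply isMulCommutative_of_nilpotent_of_sylow hnil
  intro p hp P a ha b hb
  by_cases hP1 : (P : Subgroup ↥N) = ⊥
  · rw [hP1, Subgroup.mem_bot] at ha hb
    rw [ha, hb]
  have hpd : p ∣ Nat.card ↥N :=
    (dvd_card_of_isPGroup_ne_bot P.2 hP1).trans (Subgroup.card_subgroup_dvd_card _)
  have hpσ := hN p hp.out hpd
  have := commute_of_isPGroup_of_not_mem_sigma hG hM hpσ
    (W := (P : Subgroup ↥N).map N.subtype) ((Subgroup.map_subtype_le _).trans hNM) (P.2.map _)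
    a ⟨a, ha, rfl⟩ b ⟨b, hb, rfl⟩
  exact Subtype.ext this

/-- S1420 (2): `E'` is abelian. -/
theorem commutator_compl_isMulCommutative (hG : Cfsg.IsMinSimpleOddOrder G) {M : Subgroup G}
    (hM : IsCoatom M) {E : Subgroup G} (hE : Cfsg.IsComplIn E (Cfsg.sigmaCore M) M) :
    IsMulCommutative ↥⁅E, E⁆ := by
  apply isMulCommutative_of_nilpotent_of_not_mem_sigma hG hM
    ((Subgroup.commutator_le_self E).trans hE.1) (commutator_compl_isNilpotent hG hM hE)
  intro p hp hd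
  exact not_mem_sigma_of_dvd_card_compl hG hM hE hp
    (hd.trans (Subgroup.card_dvd_of_le (Subgroup.commutator_le_self E)))

/-- S1420 (3), given Step 2: `N(P) ≤ M` for noncyclic `p`-subgroups `P ≤ M`, `p ∈ σ(M)`. -/
theorem normalizer_le_of_not_isCyclic (hG : Cfsg.IsMinSimpleOddOrder G) (hα : HypAlpha G)
    {M : Subgroup G} (hM : IsCoatom M) {p : ℕ} [hp : Fact p.Prime] (hpσ : p ∈ Cfsg.sigma M)
    {P : Subgroup G} (hPp : IsPGroup p ↥P) (hPM : P ≤ M) (hnc : ¬ IsCyclic ↥P) :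
    Subgroup.normalizer (P : Set G) ≤ M := by
  have hP1 : P ≠ ⊥ := ne_bot_of_not_isCyclic hnc
  obtain ⟨A, hAP, hAe, hAcard, -⟩ :=
    exists_normal_ea2 (prime_ne_two_of_ne_bot hG hPp hP1) hPp hnc
  have hCA := thm124a hG Cfsg.Agent.Helper1.BG116.hypD hα hM (hAP.trans hPM) hAe hAcard
  obtain ⟨Q, cM⟩ := exists_sigCtx hG hM hpσ
  rw [cM.normalizer_eq hPM hPp hP1]
  exact sup_le inf_le_left
    ((Subgroup.centralizer_le (SetLike.coe_subset_coe.mpr hAP)).trans hCA)

/-- Arithmetic for the fixed-point count: `p < r` odd primes, `c ∣ p²`, `p² ≡ c (mod r)` force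
`c = p²`. -/
theorem eq_sq_of_modEq {p r c : ℕ} (hp : p.Prime) (hr : r.Prime) (hpr : p < r) (hp2 : p ≠ 2)
    (hc : c ∣ p ^ 2) (h : p ^ 2 ≡ c [MOD r]) : c = p ^ 2 := by
  obtain ⟨k, hk, rfl⟩ := (Nat.dvd_prime_pow hp).mp hc
  have hp1 : 1 ≤ p := hp.one_lt.le
  have hnd : ¬ r ∣ p - 1 := fun hd => by
    have := Nat.le_of_dvd (by have := hp.two_le; omega) hd
    omega
  interval_cases k
  · exfalso
    rw [pow_zero] at h
    have h1 : r ∣ p ^ 2 - 1 := (Nat.modEq_iff_dvd' (Nat.one_le_pow _ _ hp.pos)).mp h.symm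
    have h2 : p ^ 2 - 1 = (p - 1) * (p + 1) := by
      obtain ⟨m, rfl⟩ : ∃ m, p = m + 1 := ⟨p - 1, by omega⟩
      simp only [Nat.add_sub_cancel]
      ring_nf
      omega
    rw [h2] at h1
    rcases (Nat.Prime.dvd_mul hr).mp h1 with h3 | h3
    · exact hnd h3
    · have h4 := Nat.le_of_dvd (by omega) h3
      have h5 : r = p + 1 := by omega
      rcases hp.eq_two_or_odd' with h6 | h6
      · exact hp2 h6
      · have h7 : Even r := by rw [h5]; exact h6.add_one
        have h8 := (Nat.Prime.even_iff hr).mp h7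
        have := hp.two_le
        omega
  · exfalso
    rw [pow_one] at h
    have hle : p ≤ p ^ 2 := by nlinarith
    have h1 : r ∣ p ^ 2 - p := (Nat.modEq_iff_dvd' hle).mp h.symm
    have h2 : p ^ 2 - p = p * (p - 1) := by
      obtain ⟨m, rfl⟩ : ∃ m, p = m + 1 := ⟨p - 1, by omega⟩
      simp only [Nat.add_sub_cancel]
      have : (m + 1) ^ 2 = (m + 1) * m + (m + 1) := by ring
      omega
    rw [h2] at h1
    rcases (Nat.Prime.dvd_mul hr).mp h1 with h3 | h3
    · have := (Nat.prime_dvd_prime_iff_eq hr hp).mp h3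
      omega
    · exact hnd h3
  · rfl

/-- An `r`-subgroup normalizing `A` of order `p²`, with `r > p` odd primes, centralizes `A`. -/
theorem le_centralizer_of_prime_gt {p r : ℕ} [hp : Fact p.Prime] [hr : Fact r.Prime] (hpr : p < r)
    (hp2 : p ≠ 2) {A T : Subgroup G} (hAcard : Nat.card A = p ^ 2) (hT : IsPGroup r ↥T)
    (hTA : T ≤ Subgroup.normalizer (A : Set G)) : T ≤ Subgroup.centralizer (A : Set G) := by
  have h := Cfsg.Agent.Helper4.card_modEq_card_inf_centralizer T A hT hTA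
  rw [hAcard] at h
  have hc : Nat.card ↥(A ⊓ Subgroup.centralizer (T : Set G)) ∣ p ^ 2 :=
    hAcard ▸ Subgroup.card_dvd_of_le inf_le_left
  have h1 := eq_sq_of_modEq hp.out hr.out hpr hp2 hc h
  have hAeq : A ⊓ Subgroup.centralizer (T : Set G) = A :=
    Subgroup.eq_of_le_of_card_ge inf_le_left (by rw [h1, hAcard])
  rw [Subgroup.le_centralizer_iff]
  exact inf_eq_left.mp hAeq

/-- S1420 (4): for `x ∈ M̂_σ` a nontrivial `τ₂(M)`-element, `C(x) ≤ M` and `M` is the only maximal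
subgroup containing `C(x)`. -/
theorem centralizer_le_of_tau2_elt (hG : Cfsg.IsMinSimpleOddOrder G) {M : Subgroup G}
    (hM : IsCoatom M) {x : G} (hxM : x ∈ M) (hx1 : x ≠ 1)
    (hx : ∀ p : ℕ, p.Prime → p ∣ orderOf x → p ∈ Cfsg.tau2 M) (hxσ : x ∈ Cfsg.sigmaHat M) :
    Subgroup.centralizer ({x} : Set G) ≤ M ∧ ∀ L : Subgroup G, IsCoatom L →
      Subgroup.centralizer ({x} : Set G) ≤ L → L = M := by
  obtain ⟨-, y, hy, hy1, hxy⟩ := hxσ
  obtain ⟨n, hn⟩ : ∃ n, n = orderOf x := ⟨_, rfl⟩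
  have hn0 : n ≠ 0 := hn ▸ (orderOf_pos x).ne'
  have hn1 : n ≠ 1 := by
    rw [hn, Ne, orderOf_eq_one_iff]; exact hx1
  obtain ⟨p, hp_def⟩ : ∃ p, p = n.minFac := ⟨_, rfl⟩
  haveI hp : Fact p.Prime := ⟨hp_def ▸ Nat.minFac_prime hn1⟩
  have hpn : p ∣ n := hp_def ▸ Nat.minFac_dvd n
  have hpτ := hx p hp.out (hn ▸ hpn)
  have hZM : Subgroup.zpowers x ≤ M := Subgroup.zpowers_le.mpr hxM
  have hZσ : ∀ t : ℕ, t.Prime → t ∣ Nat.card (Subgroup.zpowers x) → t ∉ Cfsg.sigma M := by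
    intro t ht hd
    rw [Nat.card_zpowers] at hd
    exact (hx t ht hd).2.1
  obtain ⟨E', hE', hZE'⟩ := Cfsg.Agent.Helper4.BG10.exists_compl_sigmaCore_ge hG hM hZM hZσ
  -- a Sylow `p`-subgroup of `E'`
  obtain ⟨S, -, hSE', hSp, hScard⟩ :=
    Cfsg.Agent.Lead.exists_le_card_eq_ppart (p := p) (H := E') (U := ⊥) IsPGroup.of_bot bot_le
  have hSM : S ≤ M := hSE'.trans hE'.1
  have hScardM : Nat.card S = p ^ (Nat.card M).factorization p := by
    rw [hScard, factorization_compl_eq hE' hp.out hpτ.2.1]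
  have hnc : ¬ IsCyclic ↥S := by
    intro hc
    apply hpτ.2.2.2
    have hcard' : Nat.card ↥(S.subgroupOf M) = p ^ (Nat.card ↥M).factorization p := by
      rw [Cfsg.Agent.Lead.card_subgroupOf_of_le hSM]; exact hScardM
    apply pRankLE_of_sylow (Sylow.ofCard (S.subgroupOf M) hcard')
    rw [Sylow.coe_ofCard]
    exact Cfsg.Agent.Helper2.pRankLE_of_injective p 1
      (Subgroup.subgroupOfEquivOfLe hSM).toMonoidHom (Subgroup.subgroupOfEquivOfLe hSM).injective
      (pRankLE_one_of_isCyclic hc p)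
  have hp2 : p ≠ 2 := prime_ne_two_of_ne_bot hG hSp (ne_bot_of_not_isCyclic hnc)
  obtain ⟨A, hAS, hAe, hAcard, -⟩ := exists_normal_ea2 hp2 hSp hnc
  have hAE' : A ≤ E' := hAS.trans hSE'
  have hAM : A ≤ M := hAE'.trans hE'.1
  have hAp : IsPGroup p ↥A := hSp.to_le hAS
  have h126 := cor126 hG hM hpτ hE' ⟨hAE', hAe, hAcard⟩
  have h125 := thm125 hG hM hpτ ⟨hAM, hAe, hAcard⟩
  have hE'N : E' ≤ Subgroup.normalizer (A : Set G) := h126.1.1
  -- `⟨x⟩` centralizes `A`
  have hZC : Subgroup.zpowers x ≤ Subgroup.centralizer (A : Set G) := by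
    have hdvd : Nat.card (Subgroup.zpowers x) ∣
        Nat.card ↥(Subgroup.zpowers x ⊓ Subgroup.centralizer (A : Set G)) := by
      rw [← Nat.factorization_prime_le_iff_dvd Nat.card_pos.ne' Nat.card_pos.ne']
      intro r hr
      haveI := Fact.mk hr
      obtain ⟨T, -, hTZ, hTr, hTcard⟩ := Cfsg.Agent.Lead.exists_le_card_eq_ppart (p := r)
        (H := Subgroup.zpowers x) (U := ⊥) IsPGroup.of_bot bot_le
      have hTN : T ≤ Subgroup.normalizer (A : Set G) := hTZ.trans (hZE'.trans hE'N)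
      have hTC : T ≤ Subgroup.centralizer (A : Set G) := by
        by_cases hrn : r ∣ n
        · have hpr : p ≤ r := hp_def ▸ Nat.minFac_le_of_dvd hr.two_le hrn
          rcases hpr.eq_or_lt with heq | hlt
          · subst heq
            have hW : IsPGroup p ↥(T ⊔ A) := IsPGroup.to_sup_of_normal_right' hTr hAp hTN
            have hWM : T ⊔ A ≤ M := sup_le (hTZ.trans hZM) hAM
            have hcomm := commute_of_isPGroup_of_not_mem_sigma hG hM hpτ.2.1 hWM hW
            intro t ht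
            rw [Subgroup.mem_centralizer_iff]
            intro a ha
            exact hcomm a (Subgroup.mem_sup_right ha) t (Subgroup.mem_sup_left ht)
          · exact le_centralizer_of_prime_gt hlt hp2 hAcard hTr hTN
        · have h1 : Nat.card T = 1 := by
            rw [hTcard, Nat.card_zpowers, ← hn, Nat.factorization_eq_zero_of_not_dvd hrn,
              pow_zero]
          rw [Subgroup.card_eq_one.mp h1]
          exact bot_le
      have h1 : Nat.card T ∣
          Nat.card ↥(Subgroup.zpowers x ⊓ Subgroup.centralizer (A : Set G)) :=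
        Subgroup.card_dvd_of_le (le_inf hTZ hTC)
      rw [hTcard] at h1
      exact (Nat.Prime.pow_dvd_iff_le_factorization hr Nat.card_pos.ne').mp h1
    have heq : Subgroup.zpowers x ⊓ Subgroup.centralizer (A : Set G) = Subgroup.zpowers x :=
      Subgroup.eq_of_le_of_card_ge inf_le_left (Nat.le_of_dvd Nat.card_pos hdvd)
    exact inf_eq_left.mp heq
  have hxCA : x ∈ Subgroup.centralizer (A : Set G) := hZC (Subgroup.mem_zpowers x)
  have hAx : A ≤ Subgroup.centralizer ({x} : Set G) := by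
    intro a ha
    rw [Subgroup.mem_centralizer_singleton_iff]
    exact Subgroup.mem_centralizer_iff.mp hxCA a ha
  -- the subgroup of order `p` of `⟨x⟩`
  obtain ⟨w, hw_def⟩ : ∃ w, w = x ^ (n / p) := ⟨_, rfl⟩
  have hw : orderOf w = p := by
    rw [hw_def, hn]
    exact orderOf_pow_orderOf_div (hn ▸ hn0) (hn ▸ hpn)
  have hXcard : Nat.card (Subgroup.zpowers w) = p := by rw [Nat.card_zpowers, hw]
  have hXZ : Subgroup.zpowers w ≤ Subgroup.zpowers x := by
    rw [hw_def]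
    exact Subgroup.zpowers_le.mpr (Subgroup.pow_mem _ (Subgroup.mem_zpowers x) _)
  have hXA : Subgroup.zpowers w ≤ A := h126.1.2 _ (hXZ.trans hZE') hXcard
  have hyC : y ∈ Subgroup.centralizer ((Subgroup.zpowers x : Subgroup G) : Set G) := by
    rw [Subgroup.mem_centralizer_iff]
    intro z hz
    obtain ⟨k, rfl⟩ := Subgroup.mem_zpowers_iff.mp hz
    have h1 : Commute x y := hxy
    exact (h1.zpow_left k).eq
  have hne : Cfsg.sigmaCore M ⊓
      Subgroup.centralizer ((Subgroup.zpowers w : Subgroup G) : Set G) ≠ ⊥ := by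
    intro h
    have h1 : y ∈ Cfsg.sigmaCore M ⊓
        Subgroup.centralizer ((Subgroup.zpowers w : Subgroup G) : Set G) :=
      ⟨hy, Subgroup.centralizer_le (SetLike.coe_subset_coe.mpr hXZ) hyC⟩
    rw [h, Subgroup.mem_bot] at h1
    exact hy1 h1
  obtain ⟨hCXM, -⟩ := h126.2.2 _ hXA hXcard hne
  have hCxCX : Subgroup.centralizer ({x} : Set G) ≤
      Subgroup.centralizer ((Subgroup.zpowers w : Subgroup G) : Set G) := by
    intro g hg
    rw [Subgroup.mem_centralizer_iff]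
    intro z hz
    obtain ⟨k, rfl⟩ := Subgroup.mem_zpowers_iff.mp hz
    have h1 : Commute x g := (Subgroup.mem_centralizer_singleton_iff.mp hg).symm
    rw [hw_def]
    exact ((h1.pow_left _).zpow_left k).eq
  refine ⟨hCxCX.trans hCXM, ?_⟩
  intro L hL hCL
  by_contra hLM
  have h1 := h125.2.2.2.2.1 L hL hLM (hAx.trans hCL)
  have hyL : y ∈ L := hCL (by
    rw [Subgroup.mem_centralizer_singleton_iff]
    exact hxy.symm)
  have h2 : y ∈ Cfsg.sigmaCore M ⊓ L := ⟨hy, hyL⟩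
  rw [h1, Subgroup.mem_bot] at h2
  exact hy1 h2

end Cfsg.Agent.Helper4.BG12
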