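import Mathlib
import Cfsg.Prelude
import Cfsg.Agent.Helper4.BG12d
import Cfsg.Agent.Helper3.BGAlpha

set_option autoImplicit false

/-!
Towards Bender–Glauberman Lemma 12.16 (our statement S1426): for a complement `E` of `M_σ` in `M`,
`C_{M_σ}(E) ≤ (M_σ)'`, `[M_σ, E] = M_σ`, and `M_σ ∩ M^g` (`g ∉ M`) is a cyclic `β(M)'`-group meeting
`(M_σ)'` trivially.
-/

namespace Cfsg.Agent.Helper4.BG12

open Cfsg Cfsg.Agent.Helper1 Cfsg.Agent.Helper2 Cfsg.Agent.Helper1.BGT Cfsg.Agent.Helper1.BGU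
  Cfsg.Agent.Helper1.BGV Cfsg.Agent.Helper1.BGW Cfsg.Agent.Helper1.BGX Cfsg.Agent.Lead.BG12
  Cfsg.Agent.Lead.BG108 Cfsg.Agent.Helper4.BG10
open scoped commutatorElement Pointwise

universe u

/-- If `H = K E` with `K` normal and solvable, `(|K|, |E|) = 1` and `K ≤ H'`, then `[K, E] = K`
(Bender–Glauberman 1.? / `coprime_der1_sdprod`). -/
theorem commutator_eq_of_le_commutator {H : Type*} [Group H] [Finite H] (K E : Subgroup H)
    [hKn : K.Normal] (hKE : K ⊔ E = ⊤) (hcop : (Nat.card K).Coprime (Nat.card E))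
    (hsol : Group.IsSolvable ↥K) (hK : K ≤ commutator H) : ⁅K, E⁆ = K := by
  have hNK : ⁅K, E⁆ ≤ K := Subgroup.commutator_le_left K E
  refine le_antisymm hNK ?_
  haveI hNn : (⁅K, E⁆ : Subgroup H).Normal := by
    rw [← Subgroup.normalizer_eq_top_iff, eq_top_iff, ← hKE]
    exact sup_le (Subgroup.normalizer_commutator_ge_left K E)
      (Subgroup.normalizer_commutator_ge_right K E)
  set π := QuotientGroup.mk' (⁅K, E⁆ : Subgroup H) with hπ
  have hπs : Function.Surjective π := QuotientGroup.mk'_surjective _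
  set Kb := K.map π with hKb
  set Eb := E.map π with hEb
  -- `Kb` and `Eb` commute elementwise
  have hcomm : ∀ (a : ↥Kb) (b : ↥Eb), Commute (Kb.subtype a) (Eb.subtype b) := by
    rintro ⟨_, k, hk, rfl⟩ ⟨_, e, he, rfl⟩
    show π k * π e = π e * π k
    rw [← map_mul, ← map_mul, hπ, QuotientGroup.mk'_apply, QuotientGroup.mk'_apply,
      QuotientGroup.eq]
    have h1 : ⁅k, e⁆ ∈ ⁅K, E⁆ := Subgroup.commutator_mem_commutator hk he
    have h2 := Subgroup.inv_mem _ (hNn.conj_mem _ h1 (e⁻¹ * k⁻¹))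
    convert h2 using 1
    rw [commutatorElement_def]; group
  set φ := MonoidHom.noncommCoprod Kb.subtype Eb.subtype hcomm with hφ
  have hφs : Function.Surjective φ := by
    rw [← MonoidHom.range_eq_top, hφ, MonoidHom.noncommCoprod_range, Subgroup.range_subtype,
      Subgroup.range_subtype, hKb, hEb, ← Subgroup.map_sup, hKE,
      Subgroup.map_top_of_surjective _ hπs]
  -- the commutator subgroup of the quotient
  have hcQ : commutator (H ⧸ (⁅K, E⁆ : Subgroup H)) =
      ((commutator ↥Kb).prod (commutator ↥Eb)).map φ := by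
    rw [commutator_def, commutator_def, commutator_def, ← Subgroup.commutator_prod_prod,
      Subgroup.top_prod_top, Subgroup.map_commutator, Subgroup.map_top_of_surjective _ hφs]
  have hdisj : Kb ⊓ Eb = ⊥ := by
    refine (Subgroup.disjoint_of_coprime_natCard ?_).eq_bot
    exact Nat.Coprime.coprime_dvd_left (Subgroup.card_map_dvd K π)
      (Nat.Coprime.coprime_dvd_right (Subgroup.card_map_dvd E π) hcop)
  have hKbc : Kb ≤ commutator (H ⧸ (⁅K, E⁆ : Subgroup H)) := by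
    rw [commutator_def, ← Subgroup.map_top_of_surjective _ hπs, ← Subgroup.map_commutator,
      ← commutator_def]
    exact Subgroup.map_mono hK
  -- `Kb` is perfect
  have hperf : commutator ↥Kb = ⊤ := by
    rw [eq_top_iff]
    rintro ⟨x, hx⟩ -
    have h1 := hKbc hx
    rw [hcQ] at h1
    obtain ⟨⟨u, v⟩, ⟨hu, hv⟩, huv⟩ := h1
    rw [hφ, MonoidHom.noncommCoprod_apply] at huv
    simp only [Subgroup.coe_subtype] at huv
    have hv1 : (v : H ⧸ (⁅K, E⁆ : Subgroup H)) ∈ Kb ⊓ Eb := by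
      refine ⟨?_, v.2⟩
      have : (v : H ⧸ (⁅K, E⁆ : Subgroup H)) = (u : H ⧸ (⁅K, E⁆ : Subgroup H))⁻¹ * x := by
        rw [← huv]; group
      rw [this]
      exact Kb.mul_mem (Kb.inv_mem u.2) hx
    rw [hdisj, Subgroup.mem_bot] at hv1
    rw [hv1, mul_one] at huv
    have : (⟨x, hx⟩ : ↥Kb) = u := Subtype.ext huv.symm
    rw [this]
    exact hu
  -- hence trivial
  have hKb1 : Kb = ⊥ := by
    by_contra hne
    haveI : Nontrivial ↥Kb := (Subgroup.nontrivial_iff_ne_bot Kb).mpr hne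
    haveI : Group.IsSolvable ↥Kb :=
      Group.isSolvable_of_surjective (MonoidHom.subgroupMap_surjective π K)
    exact (Group.IsSolvable.commutator_lt_top_of_nontrivial ↥Kb).ne hperf
  intro k hk
  have h1 : π k ∈ Kb := ⟨k, hk, rfl⟩
  rw [hKb1, Subgroup.mem_bot, hπ, QuotientGroup.mk'_apply, QuotientGroup.eq_one_iff] at h1
  exact h1

/-- Conjugation by an element normalizing `K`, as an endomorphism of `↥K`. -/
def conjHom {G : Type*} [Group G] (K : Subgroup G) (e : G)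
    (he : e ∈ Subgroup.normalizer (K : Set G)) : ↥K →* ↥K where
  toFun k := ⟨e * k * e⁻¹, (Subgroup.mem_normalizer_iff.mp he k).mp k.2⟩
  map_one' := by apply Subtype.ext; simp
  map_mul' a b := by apply Subtype.ext; simp

/-- If `[K, E] = K` for a coprime action of `E` on `K`, then `C_K(E) ≤ K'` (norm map on the
abelianization). -/
theorem inf_centralizer_le_commutator_of_commutator_eq {G : Type*} [Group G] [Finite G]
    (K E : Subgroup G) (hEK : E ≤ Subgroup.normalizer (K : Set G))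
    (hcop : (Nat.card K).Coprime (Nat.card E)) (hKE : ⁅K, E⁆ = K) :
    K ⊓ Subgroup.centralizer (E : Set G) ≤ ⁅K, K⁆ := by
  classical
  letI : Fintype ↥E := Fintype.ofFinite _
  -- the norm map
  let ψ : ↥E → (Abelianization ↥K →* Abelianization ↥K) :=
    fun e => Abelianization.map (conjHom K e.1 (hEK e.2))
  let Nm : Abelianization ↥K →* Abelianization ↥K := ∏ e : ↥E, ψ e
  have hNm : ∀ k : ↥K, Nm (Abelianization.of k) =
      ∏ e : ↥E, Abelianization.of (conjHom K e.1 (hEK e.2) k) := by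
    intro k
    show (∏ e : ↥E, ψ e) (Abelianization.of k) = _
    rw [MonoidHom.finset_prod_apply]
    apply Finset.prod_congr rfl
    intro e _
    exact Abelianization.map_of _ _
  -- invariance of the norm
  have hinv : ∀ (e₀ : ↥E) (k : ↥K),
      Nm (Abelianization.of (conjHom K e₀.1 (hEK e₀.2) k)) = Nm (Abelianization.of k) := by
    intro e₀ k
    rw [hNm, hNm]
    apply Fintype.prod_equiv (Equiv.mulRight e₀)
    intro e
    congr 1
    apply Subtype.ext
    simp only [conjHom, MonoidHom.coe_mk, OneHom.coe_mk, Equiv.coe_mulRight, Subgroup.coe_mul,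
      mul_inv_rev]
    group
  -- the norm kills `[K, E] = K`
  have hkill : ∀ k : ↥K, Nm (Abelianization.of k) = 1 := by
    have h1 : ⁅K, E⁆ ≤ ((Nm.comp Abelianization.of).ker).map K.subtype := by
      rw [Subgroup.commutator_le]
      intro k hk e he
      have hmem : ⁅k, e⁆ ∈ K := hKE ▸ Subgroup.commutator_mem_commutator hk he
      refine ⟨⟨⁅k, e⁆, hmem⟩, ?_, rfl⟩
      rw [SetLike.mem_coe, MonoidHom.mem_ker, MonoidHom.comp_apply]
      have h2 : (⟨⁅k, e⁆, hmem⟩ : ↥K) = ⟨k, hk⟩ * (conjHom K e (hEK he) ⟨k, hk⟩)⁻¹ := by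
        apply Subtype.ext
        simp only [conjHom, MonoidHom.coe_mk, OneHom.coe_mk, Subgroup.coe_mul,
          Subgroup.coe_inv, commutatorElement_def]
        group
      rw [h2, map_mul, map_mul, map_inv, map_inv, hinv ⟨e, he⟩ ⟨k, hk⟩, mul_inv_cancel]
    intro k
    have h2 : (k : G) ∈ ((Nm.comp Abelianization.of).ker).map K.subtype := h1 (hKE.symm ▸ k.2)
    obtain ⟨k', hk', hkk'⟩ := h2
    have : k' = k := Subtype.ext hkk'
    rw [← this]
    exact hk'
  intro c hc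
  have hcK : c ∈ K := hc.1
  have hfix : ∀ e : ↥E, conjHom K e.1 (hEK e.2) ⟨c, hcK⟩ = ⟨c, hcK⟩ := by
    intro e
    apply Subtype.ext
    simp only [conjHom, MonoidHom.coe_mk, OneHom.coe_mk]
    have := Subgroup.mem_centralizer_iff.mp hc.2 e.1 e.2
    rw [this, mul_inv_cancel_right]
  have h1 : (Abelianization.of (⟨c, hcK⟩ : ↥K)) ^ Nat.card ↥E = 1 := by
    have h2 := hkill ⟨c, hcK⟩
    rw [hNm] at h2
    simp only [hfix] at h2
    rw [Finset.prod_const, Finset.card_univ, ← Nat.card_eq_fintype_card] at h2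
    exact h2
  have h2 : (Abelianization.of (⟨c, hcK⟩ : ↥K)) ^ Nat.card ↥K = 1 := by
    rw [← map_pow, pow_card_eq_one', map_one]
  have h3 : Abelianization.of (⟨c, hcK⟩ : ↥K) = 1 := by
    have h4 := orderOf_dvd_of_pow_eq_one h1
    have h5 := orderOf_dvd_of_pow_eq_one h2
    have h6 := Nat.Coprime.eq_one_of_dvd (Nat.Coprime.coprime_dvd_left h5 hcop) h4
    exact orderOf_eq_one_iff.mp h6
  have h4 : (⟨c, hcK⟩ : ↥K) ∈ commutator ↥K := by
    rw [← Abelianization.ker_of, MonoidHom.mem_ker]; exact h3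
  rw [← Subgroup.map_subtype_commutator]
  exact ⟨⟨c, hcK⟩, h4, rfl⟩

variable {G : Type u} [Group G] [Finite G]

/-- `|M_σ|` and `|E|` are coprime. -/
theorem coprime_card_sigmaCore_compl (hG : Cfsg.IsMinSimpleOddOrder G) {M : Subgroup G}
    (hM : IsCoatom M) {E : Subgroup G} (hE : Cfsg.IsComplIn E (Cfsg.sigmaCore M) M) :
    (Nat.card (Cfsg.sigmaCore M)).Coprime (Nat.card E) := by
  apply Nat.coprime_of_dvd
  intro t ht h1 h2
  exact not_mem_sigma_of_dvd_card_compl hG hM hE ht h2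
    (Cfsg.Agent.Lead.BG12.mem_sigma_of_dvd_card_sigmaCore ht h1)

/-- **Bender–Glauberman 12.16(b)**: `[M_σ, E] = M_σ`. -/
theorem commutator_sigmaCore_compl (hG : Cfsg.IsMinSimpleOddOrder G) {M : Subgroup G}
    (hM : IsCoatom M) {E : Subgroup G} (hE : Cfsg.IsComplIn E (Cfsg.sigmaCore M) M) :
    ⁅Cfsg.sigmaCore M, E⁆ = Cfsg.sigmaCore M := by
  have hKM : Cfsg.sigmaCore M ≤ M := hE.2.1
  have hEM : E ≤ M := hE.1
  haveI hKn : ((Cfsg.sigmaCore M).subgroupOf M).Normal := by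
    have h1 : (Cfsg.sigmaCore M).subgroupOf M = Cfsg.piCore (Cfsg.sigma M) ↥M := by
      ext x
      rw [Subgroup.mem_subgroupOf]
      constructor
      · rintro ⟨y, hy, hxy⟩
        have : y = x := Subtype.ext hxy
        exact this ▸ hy
      · intro hx
        exact ⟨x, hx, rfl⟩
    rw [h1]
    infer_instance
  have hsup : (Cfsg.sigmaCore M).subgroupOf M ⊔ E.subgroupOf M = ⊤ := by
    rw [eq_top_iff]
    rintro ⟨m, hm⟩ -
    obtain ⟨a, ha, b, hb, e⟩ := hE.2.2.2 m hm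
    have hba : m = (a * b * a⁻¹) * a := by rw [e]; group
    have hbn : a * b * a⁻¹ ∈ Cfsg.sigmaCore M :=
      (Subgroup.mem_normalizer_iff.mp (le_normalizer_sigmaCore M (hEM ha)) b).mp hb
    have : (⟨m, hm⟩ : ↥M) = ⟨a * b * a⁻¹, hKM hbn⟩ * ⟨a, hEM ha⟩ := Subtype.ext hba
    rw [this]
    exact Subgroup.mul_mem _ (Subgroup.mem_sup_left (Subgroup.mem_subgroupOf.mpr hbn))
      (Subgroup.mem_sup_right (Subgroup.mem_subgroupOf.mpr ha))
  have hcop : (Nat.card ↥((Cfsg.sigmaCore M).subgroupOf M)).Coprime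
      (Nat.card ↥(E.subgroupOf M)) := by
    rw [Cfsg.Agent.Lead.card_subgroupOf_of_le hKM, Cfsg.Agent.Lead.card_subgroupOf_of_le hEM]
    exact coprime_card_sigmaCore_compl hG hM hE
  have hsolM : Group.IsSolvable ↥M := hG.2.2.2 M hM.1
  have hsol : Group.IsSolvable ↥((Cfsg.sigmaCore M).subgroupOf M) :=
    Group.isSolvable_of_isSolvable_injective (Subgroup.subtype_injective _)
  have hle : (Cfsg.sigmaCore M).subgroupOf M ≤ commutator ↥M := by
    intro x hx
    have h1 : (x : G) ∈ ⁅M, M⁆ := sigmaCore_le_commutator hG hM (Subgroup.mem_subgroupOf.mp hx)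
    rw [← Subgroup.map_subtype_commutator] at h1
    obtain ⟨y, hy, hxy⟩ := h1
    have : y = x := Subtype.ext hxy
    exact this ▸ hy
  have key := commutator_eq_of_le_commutator ((Cfsg.sigmaCore M).subgroupOf M)
    (E.subgroupOf M) hsup hcop hsol hle
  have h2 := congrArg (Subgroup.map M.subtype) key
  rw [Subgroup.map_commutator, Subgroup.map_subgroupOf_eq_of_le hKM,
    Subgroup.map_subgroupOf_eq_of_le hEM] at h2
  exact h2

/-- **Bender–Glauberman 12.16(a)**: `C_{M_σ}(E) ≤ (M_σ)'`. -/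
theorem sigmaCore_inf_centralizer_compl_le (hG : Cfsg.IsMinSimpleOddOrder G) {M : Subgroup G}
    (hM : IsCoatom M) {E : Subgroup G} (hE : Cfsg.IsComplIn E (Cfsg.sigmaCore M) M) :
    Cfsg.sigmaCore M ⊓ Subgroup.centralizer (E : Set G) ≤
      ⁅Cfsg.sigmaCore M, Cfsg.sigmaCore M⁆ :=
  inf_centralizer_le_commutator_of_commutator_eq (Cfsg.sigmaCore M) E
    (hE.1.trans (le_normalizer_sigmaCore M)) (coprime_card_sigmaCore_compl hG hM hE)
    (commutator_sigmaCore_compl hG hM hE)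

/-- For `g ∉ M` and a nontrivial `q`-subgroup `X` of `M_σ ∩ M^g`: `C(X) ⊄ M`. -/
theorem not_centralizer_le_of_le_inf_conj (hG : Cfsg.IsMinSimpleOddOrder G) {M : Subgroup G}
    (hM : IsCoatom M) {g : G} (hg : g ∉ M) {q : ℕ} [hq : Fact q.Prime] {X : Subgroup G}
    (hXq : IsPGroup q ↥X) (hX1 : X ≠ ⊥)
    (hXD : X ≤ Cfsg.sigmaCore M ⊓ M.map (MulAut.conj g).toMonoidHom) :
    ¬ Subgroup.centralizer (X : Set G) ≤ M := by
  intro hC
  have hXK : X ≤ Cfsg.sigmaCore M := hXD.trans inf_le_left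
  have hKM : Cfsg.sigmaCore M ≤ M := Subgroup.map_subtype_le _
  have hqσ : q ∈ Cfsg.sigma M :=
    Cfsg.Agent.Lead.BG12.mem_sigma_of_dvd_card_sigmaCore hq.out
      ((dvd_card_of_isPGroup_ne_bot hXq hX1).trans (Subgroup.card_dvd_of_le hXK))
  obtain ⟨Q, cMq⟩ := exists_sigCtx hG hM hqσ
  obtain ⟨m, hm, c, hc, e⟩ := cMq.trans X (hXK.trans hKM) hXq hX1 g⁻¹ (by
    intro x hx
    obtain ⟨m, hm, hmx⟩ := (hXD hx).2
    simp only [MulEquiv.coe_toMonoidHom, MulAut.conj_apply] at hmx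
    rw [← hmx]
    have : g⁻¹ * (g * m * g⁻¹) * g⁻¹⁻¹ = m := by group
    rw [this]
    exact hm)
  apply hg
  have h1 : g⁻¹ ∈ M := e ▸ M.mul_mem hm (hC hc)
  simpa using M.inv_mem h1

/-- **Bender–Glauberman 12.16(c)**, given the conclusion `C(X) ≤ M` of 12.13 (our S1423). -/
theorem sigmaCore_inf_conj_structure (hG : Cfsg.IsMinSimpleOddOrder G) {M : Subgroup G}
    (hM : IsCoatom M)
    (h23 : ∀ (q : ℕ) [Fact q.Prime], q ∈ Cfsg.sigma M → ∀ X : Subgroup G, X ≤ M →
      Nat.card X = q → (q ∈ Cfsg.beta M ∨ X ≤ ⁅Cfsg.sigmaCore M, Cfsg.sigmaCore M⁆) →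
      Subgroup.centralizer (X : Set G) ≤ M)
    {g : G} (hg : g ∉ M) :
    IsCyclic ↥(Cfsg.sigmaCore M ⊓ M.map (MulAut.conj g).toMonoidHom) ∧
      (∀ p : ℕ, p.Prime →
        p ∣ Nat.card ↥(Cfsg.sigmaCore M ⊓ M.map (MulAut.conj g).toMonoidHom) →
        p ∉ Cfsg.beta M) ∧
      Cfsg.sigmaCore M ⊓ M.map (MulAut.conj g).toMonoidHom ⊓
        ⁅Cfsg.sigmaCore M, Cfsg.sigmaCore M⁆ = ⊥ := by
  set D := Cfsg.sigmaCore M ⊓ M.map (MulAut.conj g).toMonoidHom with hD
  have hKM : Cfsg.sigmaCore M ≤ M := Subgroup.map_subtype_le _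
  have hDK : D ≤ Cfsg.sigmaCore M := inf_le_left
  -- subgroups of prime order of `D`
  have hpt : ∀ (q : ℕ) [Fact q.Prime] (x : G), x ∈ D → orderOf x = q →
      ¬ (q ∈ Cfsg.beta M ∨ Subgroup.zpowers x ≤ ⁅Cfsg.sigmaCore M, Cfsg.sigmaCore M⁆) := by
    intro q hq x hx hox hor
    have hXD : Subgroup.zpowers x ≤ D := Subgroup.zpowers_le.mpr hx
    have hcard : Nat.card (Subgroup.zpowers x) = q := by rw [Nat.card_zpowers, hox]
    have hXq : IsPGroup q ↥(Subgroup.zpowers x) :=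
      IsPGroup.of_card (n := 1) (by rw [hcard, pow_one])
    have hX1 : Subgroup.zpowers x ≠ ⊥ := by
      intro h
      rw [h, Subgroup.card_bot] at hcard
      exact hq.out.one_lt.ne hcard
    have hqσ : q ∈ Cfsg.sigma M :=
      Cfsg.Agent.Lead.BG12.mem_sigma_of_dvd_card_sigmaCore hq.out
        ((dvd_card_of_isPGroup_ne_bot hXq hX1).trans
          (Subgroup.card_dvd_of_le (hXD.trans hDK)))
    exact not_centralizer_le_of_le_inf_conj hG hM hg hXq hX1 hXD
      (h23 q hqσ _ ((hXD.trans hDK).trans hKM) hcard hor)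
  have hβ : ∀ p : ℕ, p.Prime → p ∣ Nat.card ↥D → p ∉ Cfsg.beta M := by
    intro p hp hd hβ
    haveI := Fact.mk hp
    obtain ⟨x, hx⟩ := exists_prime_orderOf_dvd_card' p hd
    exact hpt p (x : G) x.2 (by rw [Subgroup.orderOf_coe]; exact hx) (Or.inl hβ)
  have hdisj : D ⊓ ⁅Cfsg.sigmaCore M, Cfsg.sigmaCore M⁆ = ⊥ := by
    by_contra hne
    have h1 : Nat.card ↥(D ⊓ ⁅Cfsg.sigmaCore M, Cfsg.sigmaCore M⁆) ≠ 1 :=
      fun h => hne (Subgroup.card_eq_one.mp h)
    obtain ⟨p, hp, hd⟩ := Nat.exists_prime_and_dvd h1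
    haveI := Fact.mk hp
    obtain ⟨x, hx⟩ := exists_prime_orderOf_dvd_card' p hd
    exact hpt p (x : G) x.2.1 (by rw [Subgroup.orderOf_coe]; exact hx)
      (Or.inr (Subgroup.zpowers_le.mpr x.2.2))
  refine ⟨?_, hβ, hdisj⟩
  -- `D` is abelian
  have hcomm : ∀ a b : ↥D, a * b = b * a := by
    intro a b
    have h0 : ⁅(a : G), (b : G)⁆ ∈ D := by
      rw [commutatorElement_def]
      exact D.mul_mem (D.mul_mem (D.mul_mem a.2 b.2) (D.inv_mem a.2)) (D.inv_mem b.2)
    have h1 : ⁅(a : G), (b : G)⁆ ∈ D ⊓ ⁅Cfsg.sigmaCore M, Cfsg.sigmaCore M⁆ :=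
      ⟨h0, Subgroup.commutator_mem_commutator (hDK a.2) (hDK b.2)⟩
    rw [hdisj, Subgroup.mem_bot, commutatorElement_eq_one_iff_mul_comm] at h1
    exact Subtype.ext h1
  letI : CommGroup ↥D := { (inferInstance : Group ↥D) with mul_comm := hcomm }
  haveI : Group.IsNilpotent ↥D := CommGroup.isNilpotent
  haveI : IsZGroup ↥D := by
    rw [isZGroup_iff]
    intro p hp P
    haveI := Fact.mk hp
    by_contra hnc
    -- the image of `P` in `G`
    have hP1 : (P : Subgroup ↥D).map D.subtype ≤ D := Subgroup.map_subtype_le _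
    have hPp : IsPGroup p ↥((P : Subgroup ↥D).map D.subtype) := P.2.map _
    have hnc' : ¬ IsCyclic ↥((P : Subgroup ↥D).map D.subtype) := by
      intro hc
      apply hnc
      exact isCyclic_of_surjective _
        ((P : Subgroup ↥D).equivMapOfInjective D.subtype D.subtype_injective).symm.surjective
    have hX1 := ne_bot_of_not_isCyclic hnc'
    have hpσ : p ∈ Cfsg.sigma M :=
      Cfsg.Agent.Lead.BG12.mem_sigma_of_dvd_card_sigmaCore hp
        ((dvd_card_of_isPGroup_ne_bot hPp hX1).trans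
          (Subgroup.card_dvd_of_le (hP1.trans hDK)))
    have hN := normalizer_le_of_not_isCyclic hG (Cfsg.Agent.Helper3.BGAlpha.hypAlpha hG) hM hpσ
      hPp ((hP1.trans hDK).trans hKM) hnc'
    exact not_centralizer_le_of_le_inf_conj hG hM hg hPp hX1 hP1
      ((Subgroup.centralizer_le_normalizer _).trans hN)
  infer_instance

end Cfsg.Agent.Helper4.BG12
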