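import Mathlib
import Cfsg.Prelude
import Cfsg.Agent.Helper4.BG12e
import Cfsg.Agent.Lead.BG127b
import Cfsg.Agent.Helper1.BG127a

set_option autoImplicit false

/-!
Bender–Glauberman 12.10(b), key step: for distinct primes `p, q ∈ τ₂(M)` a Sylow `p`-subgroup of a
complement `E` of `M_σ` centralizes a Sylow `q`-subgroup of `E` (and both are Sylow in `G`).
-/

namespace Cfsg.Agent.Helper4.BG12

open Cfsg Cfsg.Agent.Helper1 Cfsg.Agent.Helper2 Cfsg.Agent.Helper1.BGT Cfsg.Agent.Helper1.BGU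
  Cfsg.Agent.Helper1.BGV Cfsg.Agent.Helper1.BGW Cfsg.Agent.Helper1.BGX Cfsg.Agent.Lead.BG12
  Cfsg.Agent.Lead.BG108 Cfsg.Agent.Helper4.BG10
open scoped commutatorElement Pointwise

universe u

variable {G : Type u} [Group G] [Finite G]

/-- an elementary abelian group of order `p²` is not cyclic -/
theorem not_isCyclic_of_ea2 {p : ℕ} [hp : Fact p.Prime] {N : Subgroup G}
    (hN : ∀ x ∈ N, x ^ p = 1) (hcard : Nat.card N = p ^ 2) : ¬ IsCyclic ↥N := by
  intro hc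
  obtain ⟨g, hg⟩ := hc.exists_generator
  have h1 : orderOf g = Nat.card N := orderOf_eq_card_of_forall_mem_zpowers hg
  have h2 : g ^ p = 1 := by
    apply Subtype.ext
    have := hN g g.2
    simpa using this
  have h3 : orderOf g ∣ p := orderOf_dvd_of_pow_eq_one h2
  rw [h1, hcard] at h3
  have h4 : p ^ 2 ≤ p := Nat.le_of_dvd hp.out.pos h3
  have := hp.out.two_le
  nlinarith

omit [Finite G] in
/-- a group containing a non-cyclic subgroup is not cyclic -/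
theorem not_isCyclic_of_le_of_not_isCyclic {N T : Subgroup G} (hNT : N ≤ T) (hN : ¬ IsCyclic ↥N) :
    ¬ IsCyclic ↥T := by
  intro hT
  apply hN
  haveI := hT
  have : IsCyclic ↥(N.subgroupOf T) := inferInstance
  exact isCyclic_of_surjective (Subgroup.subgroupOfEquivOfLe hNT).toMonoidHom
    (Subgroup.subgroupOfEquivOfLe hNT).surjective

/-- For `p ≠ q` in `τ₂(M)` the normal elementary abelian subgroups `A_p`, `A_q` of `E` commute. -/
theorem tau2_ea_commute (hG : Cfsg.IsMinSimpleOddOrder G) {M : Subgroup G} (hM : IsCoatom M)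
    {E : Subgroup G} (hE : Cfsg.IsComplIn E (Cfsg.sigmaCore M) M) {p q : ℕ} [hp : Fact p.Prime]
    [hq : Fact q.Prime] (hpτ : p ∈ Cfsg.tau2 M) (hqτ : q ∈ Cfsg.tau2 M) (hpq : p ≠ q)
    {A B : Subgroup G} (hA : A ≤ E ∧ Cfsg.IsElementaryAbelian p A ∧ Nat.card A = p ^ 2)
    (hB : B ≤ E ∧ Cfsg.IsElementaryAbelian q B ∧ Nat.card B = q ^ 2) :
    B ≤ Subgroup.centralizer (A : Set G) := by
  have hEA := (cor126 hG hM hpτ hE hA).1.1
  have hEB := (cor126 hG hM hqτ hE hB).1.1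
  have hcop : (Nat.card A).Coprime (Nat.card B) := by
    rw [hA.2.2, hB.2.2]
    exact Nat.Coprime.pow _ _ ((Nat.coprime_primes hp.out hq.out).2 hpq)
  have hdisj : A ⊓ B = ⊥ := (Subgroup.disjoint_of_coprime_natCard hcop).eq_bot
  intro b hb
  rw [Subgroup.mem_centralizer_iff]
  intro a ha
  exact commute_of_normalize_of_disjoint (hA.1.trans hEB) (hB.1.trans hEA) hdisj ha hb

/-- **Bender–Glauberman 12.10(b)**, key step. -/
theorem exists_sylow_commuting (hG : Cfsg.IsMinSimpleOddOrder G) {M : Subgroup G}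
    (hM : IsCoatom M) {E : Subgroup G} (hE : Cfsg.IsComplIn E (Cfsg.sigmaCore M) M) {p q : ℕ}
    [hp : Fact p.Prime] [hq : Fact q.Prime] (hpτ : p ∈ Cfsg.tau2 M) (hqτ : q ∈ Cfsg.tau2 M)
    (hpq : p ≠ q) :
    ∃ P : Sylow p G, ∃ Q : Sylow q G, (P : Subgroup G) ≤ E ∧ (Q : Subgroup G) ≤ E ∧
      (P : Subgroup G) ≤ Subgroup.centralizer ((Q : Subgroup G) : Set G) := by
  obtain ⟨A, hAE, hAe, hAc⟩ := Cfsg.Agent.Lead.BG127.exists_elementary_le_compl hG hM hE hpτ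
  obtain ⟨B, hBE, hBe, hBc⟩ := Cfsg.Agent.Lead.BG127.exists_elementary_le_compl hG hM hE hqτ
  have hEM : E ≤ M := hE.1
  have h126A := cor126 hG hM hpτ hE ⟨hAE, hAe, hAc⟩
  have h126B := cor126 hG hM hqτ hE ⟨hBE, hBe, hBc⟩
  have hCA : Subgroup.centralizer (A : Set G) ≤ E := by
    have := h126A.2.1.1
    rwa [h126A.2.1.2.1] at this
  have hCB : Subgroup.centralizer (B : Set G) ≤ E := by
    have := h126B.2.1.1
    rwa [h126B.2.1.2.1] at this
  have hBA : B ≤ Subgroup.centralizer (A : Set G) :=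
    tau2_ea_commute hG hM hE hpτ hqτ hpq ⟨hAE, hAe, hAc⟩ ⟨hBE, hBe, hBc⟩
  have hAB : A ≤ Subgroup.centralizer (B : Set G) := Subgroup.le_centralizer_iff.mp hBA
  obtain ⟨A₀, eA⟩ := exists_exc_of_tau2' hG hM hpτ ⟨hAE.trans hEM, hAe, hAc⟩
  obtain ⟨B₀, eB⟩ := exists_exc_of_tau2' hG hM hqτ ⟨hBE.trans hEM, hBe, hBc⟩
  have hAq : IsPGroup p ↥A := IsPGroup.of_card hAc
  have hBq : IsPGroup q ↥B := IsPGroup.of_card hBc
  have hAnc : ¬ IsCyclic ↥A :=
    not_isCyclic_of_ea2 hAe.2 hAc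
  have hBnc : ¬ IsCyclic ↥B :=
    not_isCyclic_of_ea2 hBe.2 hBc
  have hA1 : A ≠ ⊥ := ne_bot_of_not_isCyclic hAnc
  have hB1 : B ≠ ⊥ := ne_bot_of_not_isCyclic hBnc
  -- a Sylow `q`-subgroup of `G` inside `C(A) ≤ E`
  obtain ⟨Q, hBQ, hQA⟩ := Cfsg.Agent.Helper1.BG127.exists_sylow_le_centralizer eB hpτ.2.1 hpq
    (hAE.trans hEM) hAq (hBA.trans (Subgroup.centralizer_le_normalizer _)) hAnc
    ((dvd_card_of_isPGroup_ne_bot hAq hA1).trans (Subgroup.card_dvd_of_le hAB))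
  have hQE : (Q : Subgroup G) ≤ E := hQA.trans hCA
  have hAQ : A ≤ Subgroup.centralizer ((Q : Subgroup G) : Set G) :=
    Subgroup.le_centralizer_iff.mp hQA
  -- a Sylow `p`-subgroup of `G` centralizing `Q`
  obtain ⟨P, hAP, hPQ⟩ := Cfsg.Agent.Helper1.BG127.exists_sylow_le_centralizer eA hqτ.2.1
    (Ne.symm hpq) (hQE.trans hEM) Q.2 (hAQ.trans (Subgroup.centralizer_le_normalizer _))
    (not_isCyclic_of_le_of_not_isCyclic hBQ hBnc)
    ((dvd_card_of_isPGroup_ne_bot hBq hB1).trans (Subgroup.card_dvd_of_le hBA))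
  refine ⟨P, Q, ?_, hQE, hPQ⟩
  exact (hPQ.trans (Subgroup.centralizer_le (SetLike.coe_subset_coe.mpr hBQ))).trans hCB

end Cfsg.Agent.Helper4.BG12
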