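import Mathlib
import Cfsg.Prelude
import Cfsg.Agent.Helper4.BG12f
import Cfsg.Agent.Helper5.PPrimeCore
import Cfsg.Agent.S1414
import Cfsg.Agent.Helper4.BG11z

set_option autoImplicit false

/-!
Bender–Glauberman 12.14(e) (the case `q ∉ σ(M*)`) and 12.15(b) (`sigma_Jsub`, second part).
-/

namespace Cfsg.Agent.Helper4.BG12

open Cfsg Cfsg.Agent.Helper1 Cfsg.Agent.Helper2 Cfsg.Agent.Helper1.BGT Cfsg.Agent.Helper1.BGU
  Cfsg.Agent.Helper1.BGV Cfsg.Agent.Helper1.BGW Cfsg.Agent.Helper1.BGX Cfsg.Agent.Lead.BG12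
  Cfsg.Agent.Lead.BG108 Cfsg.Agent.Helper4.BG10
open scoped commutatorElement Pointwise

universe u

variable {G : Type u} [Group G] [Finite G]

/-- If `a ∈ L ∩ K` acts fixed-point-freely on `N`, where `N, L` are normalized by `K ≥ N`, then
`N ≤ L`. -/
theorem le_of_fpf_elt {K N L : Subgroup G} (hNK : N ≤ K)
    (hKN : K ≤ Subgroup.normalizer (N : Set G)) (hKL : K ≤ Subgroup.normalizer (L : Set G))
    {a : G} (haL : a ∈ L) (haK : a ∈ K) (hfpf : ∀ n ∈ N, a * n = n * a → n = 1) : N ≤ L := by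
  have hmem : ∀ n : ↥N, (n : G) * a * (n : G)⁻¹ * a⁻¹ ∈ N := by
    intro n
    have h1 : a * (n : G)⁻¹ * a⁻¹ ∈ N :=
      (Subgroup.mem_normalizer_iff.mp (hKN haK) _).mp (N.inv_mem n.2)
    have : (n : G) * a * (n : G)⁻¹ * a⁻¹ = (n : G) * (a * (n : G)⁻¹ * a⁻¹) := by group
    rw [this]
    exact N.mul_mem n.2 h1
  let φ : ↥N → ↥N := fun n => ⟨(n : G) * a * (n : G)⁻¹ * a⁻¹, hmem n⟩
  have hinj : Function.Injective φ := by
    intro n m h
    have h1 : (n : G) * a * (n : G)⁻¹ * a⁻¹ = (m : G) * a * (m : G)⁻¹ * a⁻¹ :=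
      congrArg Subtype.val h
    have h2 : (n : G) * a * (n : G)⁻¹ = (m : G) * a * (m : G)⁻¹ := mul_right_cancel h1
    have h3 : a * ((m : G)⁻¹ * (n : G)) = ((m : G)⁻¹ * (n : G)) * a := by
      have : a = (m : G)⁻¹ * ((n : G) * a * (n : G)⁻¹) * (m : G) := by rw [h2]; group
      calc a * ((m : G)⁻¹ * (n : G)) = (m : G)⁻¹ * ((n : G) * a * (n : G)⁻¹) * (m : G) *
            ((m : G)⁻¹ * (n : G)) := by rw [← this]
        _ = ((m : G)⁻¹ * (n : G)) * a := by group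
    have h4 := hfpf _ (N.mul_mem (N.inv_mem m.2) n.2) h3
    apply Subtype.ext
    rw [inv_mul_eq_one] at h4
    exact h4.symm
  have hsurj : Function.Surjective φ := Finite.surjective_of_injective hinj
  intro n hn
  obtain ⟨m, hm⟩ := hsurj ⟨n, hn⟩
  have h1 : (m : G) * a * (m : G)⁻¹ * a⁻¹ = n := congrArg Subtype.val hm
  rw [← h1]
  exact L.mul_mem ((Subgroup.mem_normalizer_iff.mp (hKL (hNK m.2)) a).mp haL) (L.inv_mem haL)

/-- **Bender–Glauberman 12.14(e), data.**  `q ∈ σ(M) \ σ(K)`, `X ≤ M` a nontrivial `q`-subgroup with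
`N(X) ≤ K ≠ M`.  Then there is `A ≤ M ∩ K` elementary abelian of order `q²` with `N(A) ≤ M`,
`q ∈ τ₂(K)`, `K_σ ∩ M = 1` and `M ∩ K` is a complement of `K_σ` in `K`. -/
theorem ecfg_data (hG : Cfsg.IsMinSimpleOddOrder G) {M K : Subgroup G} (hM : IsCoatom M)
    (hK : IsCoatom K) (hne : K ≠ M) {q : ℕ} [hq : Fact q.Prime] (hqσ : q ∈ Cfsg.sigma M)
    (hqK : q ∉ Cfsg.sigma K) {X : Subgroup G} (hXM : X ≤ M) (hXq : IsPGroup q ↥X) (hX1 : X ≠ ⊥)
    (hNX : Subgroup.normalizer (X : Set G) ≤ K) :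
    ∃ A : Subgroup G, A ≤ M ⊓ K ∧ Cfsg.IsElementaryAbelian q A ∧ Nat.card A = q ^ 2 ∧
      Subgroup.normalizer (A : Set G) ≤ M ∧ q ∈ Cfsg.tau2 K ∧ Cfsg.sigmaCore K ⊓ M = ⊥ ∧
      Cfsg.IsComplIn (M ⊓ K) (Cfsg.sigmaCore K) K := by
  have hα := Cfsg.Agent.Helper3.BGAlpha.hypAlpha hG
  have hD : HypD G := Cfsg.Agent.Helper1.BG116.hypD
  have hXK : X ≤ K := Subgroup.le_normalizer.trans hNX
  obtain ⟨S, hXS, hSMK, hSq, hScard⟩ :=
    Cfsg.Agent.Lead.exists_le_card_eq_ppart hXq (le_inf hXM hXK)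
  have hmax : ∀ T : Subgroup G, IsPGroup q ↥T → S ≤ T → T ≤ M ⊓ K → T = S := by
    intro T hT hST hTMK
    refine (Subgroup.eq_of_le_of_card_ge hST ?_).symm
    rw [hScard]
    exact Cfsg.Agent.Lead.card_le_ppart_of_isPGroup hT hTMK
  obtain ⟨hNS, hScK⟩ :=
    sigma_subgroup_embedding hG hM hK hne hqσ hX1 hXS hNX hSq hSMK hmax
  have hSM : S ≤ M := hSMK.trans inf_le_left
  have hSK : S ≤ K := hSMK.trans inf_le_right
  have hqτ : q ∈ Cfsg.tau2 K := (lemma122a hG hK hXq hX1 hNX).resolve_left hqK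
  have hS1 : S ≠ ⊥ := fun h => hX1 (le_bot_iff.mp (h ▸ hXS))
  have hnc : ¬ IsCyclic ↥S := by
    intro hc
    apply hqτ.2.2.2
    have hcard' : Nat.card ↥(S.subgroupOf K) = q ^ (Nat.card ↥K).factorization q := by
      rw [Cfsg.Agent.Lead.card_subgroupOf_of_le hSK]; exact hScK
    apply pRankLE_of_sylow (Sylow.ofCard (S.subgroupOf K) hcard')
    rw [Sylow.coe_ofCard]
    exact Cfsg.Agent.Helper2.pRankLE_of_injective q 1
      (Subgroup.subgroupOfEquivOfLe hSK).toMonoidHom (Subgroup.subgroupOfEquivOfLe hSK).injective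
      (pRankLE_one_of_isCyclic hc q)
  obtain ⟨A, hAS, hAe, hAcard, -⟩ :=
    exists_normal_ea2 (prime_ne_two_of_ne_bot hG hSq hS1) hSq hnc
  have hAM : A ≤ M := hAS.trans hSM
  have hAK : A ≤ K := hAS.trans hSK
  have hAq : IsPGroup q ↥A := hSq.to_le hAS
  have hNA : Subgroup.normalizer (A : Set G) ≤ M :=
    normalizer_le_of_not_isCyclic hG hα hM hqσ hAq hAM (not_isCyclic_of_ea2 hAe.2 hAcard)
  have hbot : Cfsg.sigmaCore K ⊓ M = ⊥ :=
    (thm125 hG hK hqτ ⟨hAK, hAe, hAcard⟩).2.2.2.2.1 M hM (Ne.symm hne) hAM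
  obtain ⟨E, hE, hEM⟩ := exists_compl_le hG hD hα hM hK hne hqσ hqK hXM hXq hX1 hNX
  have hEeq : M ⊓ K = E := by
    apply le_antisymm _ (le_inf hEM hE.1)
    intro x hx
    obtain ⟨e, he, s, hs, hxes⟩ := hE.2.2.2 x hx.2
    have hsM : s ∈ M := by
      have : s = e⁻¹ * x := by rw [hxes]; group
      rw [this]
      exact M.mul_mem (M.inv_mem (hEM he)) hx.1
    have hs1 : s = 1 := by
      have : s ∈ Cfsg.sigmaCore K ⊓ M := ⟨hs, hsM⟩
      rw [hbot] at this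
      exact Subgroup.mem_bot.mp this
    rw [hxes, hs1, mul_one]
    exact he
  exact ⟨A, le_inf hAM hAK, hAe, hAcard, hNA, hqτ, hbot, hEeq ▸ hE⟩

/-- A prime `q` with an elementary abelian `q`-subgroup of order `q²` that is maximal among
elementary abelian `q`-subgroups is not ideal. -/
theorem not_isIdealPrime_of_max_ea2 {q : ℕ} [hq : Fact q.Prime] {A : Subgroup G}
    (hAe : Cfsg.IsElementaryAbelian q A) (hAcard : Nat.card A = q ^ 2)
    (hmax : ∀ B : Subgroup G, Cfsg.IsElementaryAbelian q B → A ≤ B → B = A) :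
    ¬ Cfsg.IsIdealPrime q G := by
  intro hid
  have hAq : IsPGroup q ↥A := IsPGroup.of_card hAcard
  obtain ⟨P, hAP⟩ := hAq.exists_le_sylow
  obtain ⟨B, -, hBe, hAB⟩ := hid.2.2 P A hAP hAe hAcard
  exact hAB.ne (hmax B hBe hAB.le).symm

/-- `p ∈ σ(K)` divides `|K_σ|`. -/
theorem dvd_card_sigmaCore_of_mem_sigma (hG : Cfsg.IsMinSimpleOddOrder G) {K : Subgroup G}
    (hK : IsCoatom K) {p : ℕ} (hpK : p ∈ Cfsg.sigma K) : p ∣ Nat.card (Cfsg.sigmaCore K) := by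
  obtain ⟨⟨hle, hπ, hidx⟩, -, -⟩ := Cfsg.Agent.Lead.BG12.sigmaCore_hall hG K hK
  obtain ⟨hcard, -⟩ := card_eq_relIndex_mul_card_sigmaCore hG hK
  have h1 : p ∣ (Cfsg.sigmaCore K).relIndex K * Nat.card (Cfsg.sigmaCore K) := hcard ▸ hpK.2.1
  exact (hpK.1.dvd_mul.mp h1).resolve_left (hidx p hpK.1 hpK)

/-- **Bender–Glauberman 12.14(e2)**: `π(M) ∩ σ(K) ⊆ β(K)` in the case `q ∉ σ(K)`. -/
theorem ecfg_mem_beta (hG : Cfsg.IsMinSimpleOddOrder G) {M K : Subgroup G} (hM : IsCoatom M)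
    (hK : IsCoatom K) (hne : K ≠ M) {q : ℕ} [hq : Fact q.Prime] (hqσ : q ∈ Cfsg.sigma M)
    (hqK : q ∉ Cfsg.sigma K) {X : Subgroup G} (hXM : X ≤ M) (hXq : IsPGroup q ↥X) (hX1 : X ≠ ⊥)
    (hNX : Subgroup.normalizer (X : Set G) ≤ K) {p : ℕ} (hp : p.Prime) (hpM : p ∣ Nat.card M)
    (hpK : p ∈ Cfsg.sigma K) : p ∈ Cfsg.beta K := by
  obtain ⟨A, hAMK, hAe, hAcard, hNA, hqτ, hbot, hE⟩ :=
    ecfg_data hG hM hK hne hqσ hqK hXM hXq hX1 hNX
  haveI := Fact.mk hp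
  by_contra hpβ
  have hAM : A ≤ M := hAMK.trans inf_le_left
  have hAK : A ≤ K := hAMK.trans inf_le_right
  have hAq : IsPGroup q ↥A := IsPGroup.of_card hAcard
  have h125 := thm125 hG hK hqτ ⟨hAK, hAe, hAcard⟩
  have hnil := h125.1
  obtain ⟨A₁, hA₁A, hA₁card, hA₁fpf⟩ := h125.2.2.2.2.2
  have hpq : p ≠ q := fun h => hqK (h ▸ hpK)
  have hncK : ∀ g : G, K ≠ MulAut.conj g • M :=
    lemma122b hG hM hXq hX1 hXM hNX (Or.inl ⟨hqσ, hne⟩)
  have hncM : ∀ g : G, M ≠ MulAut.conj g • K := by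
    intro x hx
    apply hncK x⁻¹
    rw [hx, conj_smul_inv_smul]
  have hpKσ : p ∣ Nat.card (Cfsg.sigmaCore K) := dvd_card_sigmaCore_of_mem_sigma hG hK hpK
  have hKσK : Cfsg.sigmaCore K ≤ K := Subgroup.map_subtype_le _
  -- Step 1: `q < p`
  have hqp : q < p := by
    by_contra hle
    have hlt : p < q := lt_of_le_of_ne (not_lt.mp hle) hpq
    obtain ⟨-, -, hidx⟩ := (Cfsg.Agent.S1414.result hG K hK).2.2.2.2 p hp hpK.2.1 hpβ
    have hqidx : ¬ q ∣ (Cfsg.pPrimeCore p ↥K).index :=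
      fun hd => absurd (hidx q hq.out hd) (not_le.mpr hlt)
    haveI : Fact (Nat.card ↥A₁).Prime := ⟨hA₁card ▸ hq.out⟩
    have hA₁ne : A₁ ≠ ⊥ := by
      intro h
      rw [h, Subgroup.card_bot] at hA₁card
      exact hq.out.one_lt.ne hA₁card
    obtain ⟨a, haA₁, ha1⟩ := (Subgroup.ne_bot_iff_exists_ne_one).mp hA₁ne |>.imp
      (fun a h => h) |> fun ⟨a, h⟩ => (⟨(a : G), a.2, fun h1 => h (Subtype.ext h1)⟩ :
        ∃ a : G, a ∈ A₁ ∧ a ≠ 1)
    have haK : a ∈ K := hAK (hA₁A haA₁)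
    have haL : a ∈ Cfsg.Agent.Helper2.coreOf p K := by
      refine ⟨⟨a, haK⟩, ?_, rfl⟩
      apply mem_of_pow_eq_one_of_coprime_index (Cfsg.pPrimeCore p ↥K) (n := q)
        ((Nat.Prime.coprime_iff_not_dvd hq.out).mpr hqidx)
      apply Subtype.ext
      simpa using hAe.2 a (hA₁A haA₁)
    have hfpf : ∀ n ∈ Cfsg.sigmaCore K, a * n = n * a → n = 1 := by
      intro n hn hc
      have hmem : n ∈ Cfsg.sigmaCore K ⊓ Subgroup.centralizer (A₁ : Set G) := by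
        refine ⟨hn, ?_⟩
        show n ∈ Subgroup.centralizer (A₁ : Set G)
        rw [Subgroup.mem_centralizer_iff]
        intro b hb
        have hb' : (⟨b, hb⟩ : ↥A₁) ∈ Subgroup.zpowers (⟨a, haA₁⟩ : ↥A₁) :=
          mem_zpowers_of_prime_card (p := Nat.card ↥A₁) rfl
            (fun h => ha1 (congrArg Subtype.val h))
        obtain ⟨k, hk⟩ := Subgroup.mem_zpowers_iff.mp hb'
        have hbk : b = a ^ k := by
          have := congrArg Subtype.val hk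
          simpa using this.symm
        rw [hbk]
        exact ((Commute.zpow_left (show Commute a n from hc) k)).eq
      rw [hA₁fpf] at hmem
      exact Subgroup.mem_bot.mp hmem
    have hle' := le_of_fpf_elt hKσK (le_normalizer_sigmaCore K)
      (Cfsg.Agent.Helper1.BGT.le_normalizer_coreOf p K) haL haK hfpf
    have hcop := Cfsg.Agent.Helper2.card_coreOf_coprime p K
    have hd : p ∣ Nat.card ↥(Cfsg.Agent.Helper2.coreOf p K) :=
      hpKσ.trans (Subgroup.card_dvd_of_le hle')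
    rw [Nat.coprime_comm, Nat.Prime.coprime_iff_not_dvd hp] at hcop
    exact hcop hd
  -- Step 2: `q` is not ideal, so `O_{q'}(M)` contains a Sylow `p`-subgroup of `M`
  have hqid : ¬ Cfsg.IsIdealPrime q G := not_isIdealPrime_of_max_ea2 hAe hAcard
    (transHyp_of_not_mem_sigma hG hK hqK hAK hAe hAcard).2
  obtain ⟨-, -, hidxM⟩ := (Cfsg.Agent.S1414.result hG M hM).2.2.2.2 q hq.out hqσ.2.1
    (fun h => hqid h.2)
  have hpidx : ¬ p ∣ (Cfsg.pPrimeCore q ↥M).index :=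
    fun hd => absurd (hidxM p hp hd) (not_le.mpr hqp)
  set N := Cfsg.Agent.Helper2.coreOf q M with hN
  have hNM : N ≤ M := Cfsg.Agent.Helper2.coreOf_le q M
  have hNcop : (Nat.card A).Coprime (Nat.card N) := by
    rw [hAcard]
    exact Nat.Coprime.pow_left 2 (Cfsg.Agent.Helper2.card_coreOf_coprime q M).symm
  have hsolM : Group.IsSolvable ↥M := hG.2.2.2 M hM.1
  have hsolN : Group.IsSolvable ↥N :=
    Group.isSolvable_of_isSolvable_injective (Subgroup.inclusion_injective hNM)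
  obtain ⟨P, hP⟩ := Cfsg.Agent.Helper1.exists_invariant_sylow (p := p) A N
    (hAM.trans (Cfsg.Agent.Helper1.BGT.le_normalizer_coreOf q M)) hNcop (Or.inr hsolN)
  set P₁ := (P : Subgroup ↥N).map N.subtype with hP₁
  have hP₁M : P₁ ≤ M := (Subgroup.map_subtype_le _).trans hNM
  have hP₁p : IsPGroup p ↥P₁ := P.2.map _
  have hrel : N.relIndex M = (Cfsg.pPrimeCore q ↥M).index := by
    rw [Subgroup.relIndex, hN, Cfsg.Agent.Helper2.coreOf, Subgroup.subgroupOf,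
      Subgroup.comap_map_eq_self_of_injective M.subtype_injective]
  have hP₁card : Nat.card P₁ = p ^ (Nat.card M).factorization p := by
    rw [hP₁, Subgroup.card_map_of_injective (Subgroup.subtype_injective _),
      P.card_eq_multiplicity, factorization_eq_of_not_dvd_relIndex hNM hp (hrel ▸ hpidx)]
  -- Step 3: `p ∉ σ(M)`
  have hpσM : p ∉ Cfsg.sigma M :=
    Cfsg.Agent.Helper4.BG11.not_mem_sigma_of_isNilpotent_sigmaCore hG hK hM hnil hncM hpK
  -- Step 4: `P₁ ≤ C(A) ≤ K`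
  have hAσ : A ≤ Cfsg.sigmaCore M := le_sigmaCore' hG hM hqσ hAM hAq
  have hdisj : P₁ ⊓ Cfsg.sigmaCore M = ⊥ := by
    apply inf_eq_bot_of_coprime_card
    rw [hP₁card]
    apply Nat.Coprime.pow_left
    rw [Nat.Prime.coprime_iff_not_dvd hp]
    exact fun hd => hpσM (Cfsg.Agent.Lead.BG12.mem_sigma_of_dvd_card_sigmaCore hp hd)
  have hP₁C : P₁ ≤ Subgroup.centralizer (A : Set G) := by
    intro x hx
    rw [Subgroup.mem_centralizer_iff]
    intro a ha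
    exact (commute_of_mem_normalizer_of_disjoint hdisj hx (hAσ ha)
      (le_normalizer_sigmaCore M (hP₁M hx)) (hP ha)).symm
  have hP₁E : P₁ ≤ M ⊓ K :=
    le_inf hP₁M (hP₁C.trans (centralizer_le_of_tau2 hG hK hqτ ⟨hAK, hAe, hAcard⟩))
  have hpd : p ∣ Nat.card ↥(M ⊓ K) := by
    refine Dvd.dvd.trans ?_ (Subgroup.card_dvd_of_le hP₁E)
    rw [hP₁card]
    apply dvd_pow_self
    intro h0
    have := (Nat.factorization_eq_zero_iff _ _).mp h0
    rcases this with h | h | h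
    · exact h hp
    · exact h hpM
    · exact Nat.card_pos.ne' h
  exact not_mem_sigma_of_dvd_card_compl hG hK hE hp hpd hpK

/-- If `K = N J` with `N ⊴ K`, then `K' ≤ N J'`. -/
theorem commutator_le_sup_commutator_of_mul {K N J : Subgroup G}
    (hKN : K ≤ Subgroup.normalizer (N : Set G)) (hJK : J ≤ K)
    (hmul : ∀ k ∈ K, ∃ n ∈ N, ∃ j ∈ J, k = n * j) : ⁅K, K⁆ ≤ N ⊔ ⁅J, J⁆ := by
  rw [Subgroup.commutator_le]
  intro k hk k' hk'
  obtain ⟨n, hn, j, hj, rfl⟩ := hmul k hk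
  obtain ⟨n', hn', j', hj', rfl⟩ := hmul k' hk'
  have hconj : ∀ g ∈ K, ∀ x ∈ N, g * x * g⁻¹ ∈ N := fun g hg x hx =>
    (Subgroup.mem_normalizer_iff.mp (hKN hg) x).mp hx
  have hjK : j ∈ K := hJK hj
  have hj'K : j' ∈ K := hJK hj'
  have h1 : j * n' * j⁻¹ ∈ N := hconj j hjK n' hn'
  have h2 : (j * j' * j⁻¹) * n⁻¹ * (j * j' * j⁻¹)⁻¹ ∈ N :=
    hconj _ (K.mul_mem (K.mul_mem hjK hj'K) (K.inv_mem hjK)) _ (N.inv_mem hn)
  have h3 : ⁅j, j'⁆ * n'⁻¹ * ⁅j, j'⁆⁻¹ ∈ N := by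
    apply hconj _ _ _ (N.inv_mem hn')
    rw [commutatorElement_def]
    exact K.mul_mem (K.mul_mem (K.mul_mem hjK hj'K) (K.inv_mem hjK)) (K.inv_mem hj'K)
  have e : ⁅n * j, n' * j'⁆ = (n * (j * n' * j⁻¹) * ((j * j' * j⁻¹) * n⁻¹ * (j * j' * j⁻¹)⁻¹) *
      (⁅j, j'⁆ * n'⁻¹ * ⁅j, j'⁆⁻¹)) * ⁅j, j'⁆ := by
    simp only [commutatorElement_def]
    group
  rw [e]
  exact Subgroup.mul_mem _
    (Subgroup.mem_sup_left (N.mul_mem (N.mul_mem (N.mul_mem hn h1) h2) h3))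
    (Subgroup.mem_sup_right (Subgroup.commutator_mem_commutator hj hj'))

/-- If `K = N J` with `N ⊴ K` and `p ∤ |N|`, `p ∤ |J'|`, then `p ∤ |K'|`. -/
theorem not_dvd_card_commutator_of_mul {K N J : Subgroup G} {p : ℕ} (hp : p.Prime)
    (hKN : K ≤ Subgroup.normalizer (N : Set G)) (hJK : J ≤ K)
    (hmul : ∀ k ∈ K, ∃ n ∈ N, ∃ j ∈ J, k = n * j) (hpN : ¬ p ∣ Nat.card N)
    (hpJ : ¬ p ∣ Nat.card ↥⁅J, J⁆) : ¬ p ∣ Nat.card ↥⁅K, K⁆ := by
  intro hd
  have hle := commutator_le_sup_commutator_of_mul hKN hJK hmul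
  have hJ'N : ⁅J, J⁆ ≤ Subgroup.normalizer (N : Set G) :=
    ((Subgroup.commutator_le_self J).trans hJK).trans hKN
  have hcard := Cfsg.Agent.Helper1.card_sup_mul_card_inf (N := N) (A := ⁅J, J⁆) hJ'N
  have h1 : p ∣ Nat.card N * Nat.card ↥⁅J, J⁆ := by
    rw [← hcard]
    exact (hd.trans (Subgroup.card_dvd_of_le hle)).mul_right _
  rcases hp.dvd_mul.mp h1 with h | h
  · exact hpN h
  · exact hpJ h

/-- **Consequence of Bender–Glauberman 12.14(d),(e)**: `q ∈ σ(M)`, `X ≤ M` a nontrivial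
`q`-subgroup with `N(X) ≤ K ≠ M`; `p ∈ π(M)` a non-ideal prime.  Then every `p`-subgroup of `K` is
`K`-conjugate into `M`, and `p ∤ |M'|` implies `p ∤ |K'|`. -/
theorem transfer_of_normalizer_le (hG : Cfsg.IsMinSimpleOddOrder G) {M K : Subgroup G}
    (hM : IsCoatom M) (hK : IsCoatom K) (hne : K ≠ M) {q : ℕ} [hq : Fact q.Prime]
    (hqσ : q ∈ Cfsg.sigma M) {X : Subgroup G} (hXM : X ≤ M) (hXq : IsPGroup q ↥X) (hX1 : X ≠ ⊥)
    (hNX : Subgroup.normalizer (X : Set G) ≤ K) {p : ℕ} [hp : Fact p.Prime]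
    (hpM : p ∣ Nat.card M) (hpid : ¬ Cfsg.IsIdealPrime p G) :
    (∀ A' : Subgroup G, A' ≤ K → IsPGroup p ↥A' → ∃ k ∈ K, MulAut.conj k • A' ≤ M) ∧
      (¬ p ∣ Nat.card ↥⁅M, M⁆ → ¬ p ∣ Nat.card ↥⁅K, K⁆) := by
  have hα := Cfsg.Agent.Helper3.BGAlpha.hypAlpha hG
  have hD : HypD G := Cfsg.Agent.Helper1.BG116.hypD
  have hXK : X ≤ K := Subgroup.le_normalizer.trans hNX
  have hsolK : Group.IsSolvable ↥K := hG.2.2.2 K hK.1
  by_cases hqK : q ∈ Cfsg.sigma K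
  · -- case (d)
    obtain ⟨R, hXR, hRK, hRq, hRc⟩ := Cfsg.Agent.Lead.exists_le_card_eq_ppart hXq hXK
    obtain ⟨R', cM', cK'⟩ := exists_common_sigCtx hG hM hK hqσ hXM hXq hX1 hNX hqσ hqK hRK hRq hRc
      (hXR.trans Subgroup.le_normalizer)
    obtain ⟨⟨hle, hπ, hidx⟩, -⟩ := betaCore_hall hG hK
    have hpβ : ¬ p ∣ Nat.card ↥(Cfsg.piCoreOf (Cfsg.beta K) K) :=
      fun hd => hpid (hπ p hp.out hd).2
    have hcop : ((Cfsg.piCoreOf (Cfsg.beta K) K).relIndex K).Coprime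
        (Nat.card ↥(Cfsg.piCoreOf (Cfsg.beta K) K)) := by
      apply Nat.coprime_of_dvd
      intro t ht h1 h2
      exact hidx t ht (hπ t ht h2) h1
    constructor
    · intro A' hA'K hA'p
      have hA'cop : (Nat.card A').Coprime (Nat.card ↥(Cfsg.piCoreOf (Cfsg.beta K) K)) := by
        obtain ⟨k, hk⟩ := IsPGroup.iff_card.mp hA'p
        rw [hk]
        apply Nat.Coprime.pow_left
        rw [Nat.Prime.coprime_iff_not_dvd hp.out]
        exact hpβ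
      obtain ⟨k, hk, hkA⟩ := exists_conj_le_of_coprime_of_mul hsolK hle
        (le_normalizer_piCoreOf (Cfsg.beta K) K) hcop cK'.norm
        (sigCtx_exists_mul_betaCore cK') hA'K hA'cop
      exact ⟨k, hk, hkA.trans cM'.norm⟩
    · intro hpM'
      apply not_dvd_card_commutator_of_mul hp.out (le_normalizer_piCoreOf (Cfsg.beta K) K) cK'.norm
        (sigCtx_exists_mul_betaCore cK') hpβ
      intro hd
      exact hpM' (hd.trans (Subgroup.card_dvd_of_le (Subgroup.commutator_mono cM'.norm cM'.norm)))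
  · -- case (e)
    obtain ⟨A, hAMK, hAe, hAcard, hNA, hqτ, hbot, hE⟩ :=
      ecfg_data hG hM hK hne hqσ hqK hXM hXq hX1 hNX
    have hpK : p ∉ Cfsg.sigma K := fun hpK =>
      hpid (ecfg_mem_beta hG hM hK hne hqσ hqK hXM hXq hX1 hNX hp.out hpM hpK).2
    constructor
    · intro A' hA'K hA'p
      apply exists_conj_le_of_disjoint hG hD hα hM hK hne hqσ hqK hXM hXq hX1 hNX hA'K
      intro t ht hd
      obtain ⟨k, hk⟩ := IsPGroup.iff_card.mp hA'p
      rw [hk] at hd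
      have := (Nat.prime_dvd_prime_iff_eq ht hp.out).mp (ht.dvd_of_dvd_pow hd)
      exact this ▸ hpK
    · intro hpM'
      have hpKσ : ¬ p ∣ Nat.card ↥(Cfsg.sigmaCore K) :=
        fun hd => hpK (Cfsg.Agent.Lead.BG12.mem_sigma_of_dvd_card_sigmaCore hp.out hd)
      apply not_dvd_card_commutator_of_mul hp.out (le_normalizer_sigmaCore K)
        (inf_le_right : M ⊓ K ≤ K) _ hpKσ
      · intro hd
        exact hpM' (hd.trans (Subgroup.card_dvd_of_le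
          (Subgroup.commutator_mono inf_le_left inf_le_left)))
      · intro k hk
        obtain ⟨a, ha, b, hb, rfl⟩ := hE.2.2.2 k hk
        refine ⟨a * b * a⁻¹, ?_, a, ha, by group⟩
        exact (Subgroup.mem_normalizer_iff.mp (le_normalizer_sigmaCore K (hE.1 ha)) b).mp hb

/-- For `p ∉ σ(M)`: no elementary abelian `p`-subgroup of order `p²` of `M` lies in a maximal
subgroup `L ≠ M` meeting `M_σ` nontrivially. -/
theorem false_of_ea2_le_inf (hG : Cfsg.IsMinSimpleOddOrder G) {M : Subgroup G} (hM : IsCoatom M)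
    {p : ℕ} [hp : Fact p.Prime] (hpσ : p ∉ Cfsg.sigma M) {A' : Subgroup G} (hA'M : A' ≤ M)
    (hA'e : Cfsg.IsElementaryAbelian p A') (hA'c : Nat.card A' = p ^ 2) {L : Subgroup G}
    (hL : IsCoatom L) (hLM : L ≠ M) (hA'L : A' ≤ L) {Z : Subgroup G}
    (hZσ : Z ≤ Cfsg.sigmaCore M) (hZL : Z ≤ L) (hZ1 : Z ≠ ⊥) : False := by
  have hr1 : ¬ Cfsg.PRankLE p 1 ↥M := by
    apply not_pRankLE_of_hasEA
    refine ⟨A', hA'M, hA'e, ?_⟩
    rw [hA'c, pow_one]
    have := hp.out.one_lt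
    nlinarith
  have hpτ : p ∈ Cfsg.tau2 M := ⟨hp.out, hpσ, pRankLE_of_not_mem_sigma hG hM hp.out hpσ, hr1⟩
  have hbot := (thm125 hG hM hpτ ⟨hA'M, hA'e, hA'c⟩).2.2.2.2.1 L hL hLM hA'L
  exact hZ1 (le_bot_iff.mp (hbot ▸ le_inf hZσ hZL))

/-- **Bender–Glauberman 12.15(b)** (`sigma_Jsub`, second part) for `Y ≤ M_σ`. -/
theorem sigma_Jsub_part2_aux (hG : Cfsg.IsMinSimpleOddOrder G) {M : Subgroup G} (hM : IsCoatom M)
    {Y : Subgroup G} (hY1 : Y ≠ ⊥) (hYσ : Y ≤ Cfsg.sigmaCore M) {p : ℕ} [hp : Fact p.Prime]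
    (hpM : p ∣ Nat.card M) (hpσ : p ∉ Cfsg.sigma M) (hpid : ¬ Cfsg.IsIdealPrime p G)
    {H : Subgroup G} (hH : IsCoatom H) (hYH : Y ≤ H) (hHM : H ≠ M) :
    Cfsg.PRankLE p 1 ↥(H ⊓ Subgroup.normalizer (Y : Set G)) ∧
      (¬ p ∣ Nat.card ↥⁅M, M⁆ → ¬ p ∣ Nat.card
        ↥⁅H ⊓ Subgroup.normalizer (Y : Set G), H ⊓ Subgroup.normalizer (Y : Set G)⁆) := by
  have hKσM : Cfsg.sigmaCore M ≤ M := Subgroup.map_subtype_le _
  have hYM : Y ≤ M := hYσ.trans hKσM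
  have hYtop : Y ≠ ⊤ := ne_top_of_le_ne_top hM.1 hYM
  have hsolY : Group.IsSolvable ↥Y := hG.2.2.2 Y hYtop
  obtain ⟨q, hq, hXne⟩ := exists_pcoreOf_ne_bot hsolY hY1
  haveI := Fact.mk hq
  have hXq : IsPGroup q ↥(pcoreOf q Y) := pCoreOf_isPGroup q Y
  have hXY : pcoreOf q Y ≤ Y := pCoreOf_le q Y
  have hqσ : q ∈ Cfsg.sigma M :=
    Cfsg.Agent.Lead.BG12.mem_sigma_of_dvd_card_sigmaCore hq
      ((dvd_card_of_isPGroup_ne_bot hXq hXne).trans (Subgroup.card_dvd_of_le (hXY.trans hYσ)))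
  have hXM : pcoreOf q Y ≤ M := hXY.trans hYM
  have hXtop : pcoreOf q Y ≠ ⊤ := sylow_ne_top hG q _ hXq
  obtain ⟨K, hK, hNK⟩ := exists_coatom_ge (normalizer_ne_top_of_simple hG hXne hXtop)
  have hXK : pcoreOf q Y ≤ K := Subgroup.le_normalizer.trans hNK
  set D := H ⊓ Subgroup.normalizer (Y : Set G) with hD
  have hDK : D ≤ K := inf_le_right.trans ((normalizer_le_normalizer_pcoreOf q Y).trans hNK)
  have hDH : D ≤ H := inf_le_left
  by_cases hKM : K = M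
  · constructor
    · by_contra hr
      obtain ⟨A', hA'D, hA'e, hA'c⟩ := exists_ea2_of_not_pRankLE_one hG hr
      exact false_of_ea2_le_inf hG hM hpσ (hKM ▸ hA'D.trans hDK) hA'e hA'c hH hHM
        (hA'D.trans hDH) hYσ hYH hY1
    · intro hpM' hd
      exact hpM' (hd.trans (Subgroup.card_dvd_of_le
        (Subgroup.commutator_mono (hKM ▸ hDK) (hKM ▸ hDK))))
  · obtain ⟨htr, hcomm⟩ := transfer_of_normalizer_le hG hM hK hKM hqσ hXM hXq hXne hNK hpM hpid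
    constructor
    · by_contra hr
      obtain ⟨A', hA'D, hA'e, hA'c⟩ := exists_ea2_of_not_pRankLE_one hG hr
      have hA'K : A' ≤ K := hA'D.trans hDK
      obtain ⟨k, hk, hkA⟩ := htr A' hA'K (IsPGroup.of_card hA'c)
      have hkK : MulAut.conj k • A' ≤ K := by
        rw [conj_smul_eq_map]
        rintro _ ⟨x, hx, rfl⟩
        simp only [MulEquiv.coe_toMonoidHom, MulAut.conj_apply]
        exact K.mul_mem (K.mul_mem hk (hA'K hx)) (K.inv_mem hk)
      have hke : Cfsg.IsElementaryAbelian p (MulAut.conj k • A') := by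
        rw [conj_smul_eq_map]
        refine ⟨?_, ?_⟩
        · haveI := hA'e.1
          exact Subgroup.map_isMulCommutative _ _
        · rintro _ ⟨x, hx, rfl⟩
          rw [← map_pow, hA'e.2 x hx, map_one]
      have hkc : Nat.card ↥(MulAut.conj k • A') = p ^ 2 := by
        rw [conj_smul_eq_map, Cfsg.Agent.Lead.card_map_conj, hA'c]
      exact false_of_ea2_le_inf hG hM hpσ hkA hke hkc hK hKM hkK (hXY.trans hYσ) hXK hXne
    · intro hpM' hd
      exact hcomm hpM' (hd.trans (Subgroup.card_dvd_of_le (Subgroup.commutator_mono hDK hDK)))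

/-- **Bender–Glauberman 12.15(b)** (`sigma_Jsub`, second part): `Y` a nontrivial `σ(M)`-subgroup,
`p ∈ π(M) \ σ(M)` a non-ideal prime, `H` a maximal subgroup containing `Y` and not conjugate to `M`.
Then `N_H(Y)` has `p`-rank at most one and, if `p ∤ |M'|` (e.g. `p ∈ τ₁(M)`), `p ∤ |N_H(Y)'|`. -/
theorem sigma_Jsub_part2 (hG : Cfsg.IsMinSimpleOddOrder G) {M : Subgroup G} (hM : IsCoatom M)
    {Y : Subgroup G} (hY1 : Y ≠ ⊥)
    (hY : ∀ t : ℕ, t.Prime → t ∣ Nat.card Y → t ∈ Cfsg.sigma M) {p : ℕ} [hp : Fact p.Prime]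
    (hpM : p ∣ Nat.card M) (hpσ : p ∉ Cfsg.sigma M) (hpid : ¬ Cfsg.IsIdealPrime p G)
    {H : Subgroup G} (hH : IsCoatom H) (hYH : Y ≤ H) (hnc : ∀ g : G, H ≠ MulAut.conj g • M) :
    Cfsg.PRankLE p 1 ↥(H ⊓ Subgroup.normalizer (Y : Set G)) ∧
      (¬ p ∣ Nat.card ↥⁅M, M⁆ → ¬ p ∣ Nat.card
        ↥⁅H ⊓ Subgroup.normalizer (Y : Set G), H ⊓ Subgroup.normalizer (Y : Set G)⁆) := by
  have hα := Cfsg.Agent.Helper3.BGAlpha.hypAlpha hG
  have hD : HypD G := Cfsg.Agent.Helper1.BG116.hypD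
  obtain ⟨g, hg⟩ := sigma_Jsub_core hG hD hα hM hY1 hY
  set c := (MulAut.conj g).toMonoidHom with hc
  have hcinj : Function.Injective c := (MulAut.conj g).injective
  have hY1' : Y.map c ≠ ⊥ := fun h => hY1 ((Subgroup.map_eq_bot_iff_of_injective _ hcinj).mp h)
  have hH' : IsCoatom (H.map c) := by
    have := Cfsg.Agent.Helper1.BGU.isCoatom_conj_smul g hH
    rwa [conj_smul_eq_map] at this
  have hHM' : H.map c ≠ M := by
    intro h
    apply hnc g⁻¹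
    rw [← h, ← conj_smul_eq_map, conj_smul_inv_smul]
  obtain ⟨h1, h2⟩ := sigma_Jsub_part2_aux hG hM hY1' hg hpM hpσ hpid hH' (Subgroup.map_mono hYH) hHM'
  have hDeq : H.map c ⊓ Subgroup.normalizer ((Y.map c : Subgroup G) : Set G) =
      (H ⊓ Subgroup.normalizer (Y : Set G)).map c := by
    rw [Cfsg.Agent.Lead.normalizer_map_conj, Subgroup.map_inf _ _ _ hcinj]
  rw [hDeq] at h1 h2
  constructor
  · exact Cfsg.Agent.Helper2.pRankLE_of_injective p 1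
      (Subgroup.equivMapOfInjective (H ⊓ Subgroup.normalizer (Y : Set G)) c hcinj).toMonoidHom
      (Subgroup.equivMapOfInjective (H ⊓ Subgroup.normalizer (Y : Set G)) c hcinj).injective h1
  · intro hpM' hd
    apply h2 hpM'
    rw [← Subgroup.map_commutator, Subgroup.card_map_of_injective hcinj]
    exact hd

end Cfsg.Agent.Helper4.BG12
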