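import Mathlib
import Cfsg.Prelude
import Cfsg.Agent.Helper4.BG12g
import Cfsg.Agent.Helper1.HallExtra

set_option autoImplicit false

/-!
Bender–Glauberman 13.1(c): if `p ∈ τ₁(M)` divides `|H'|` for a maximal subgroup `H` not conjugate
to `M` such that some prime of `σ(M)` divides `|H'|`, then `p` is an ideal prime.
-/

namespace Cfsg.Agent.Helper4.BG13

open Cfsg Cfsg.Agent.Helper1 Cfsg.Agent.Helper2 Cfsg.Agent.Helper1.BGT Cfsg.Agent.Helper1.BGU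
  Cfsg.Agent.Helper1.BGV Cfsg.Agent.Helper1.BGW Cfsg.Agent.Helper1.BGX Cfsg.Agent.Lead.BG12
  Cfsg.Agent.Lead.BG108 Cfsg.Agent.Helper4.BG10 Cfsg.Agent.Helper4.BG12
open scoped commutatorElement Pointwise

universe u

variable {G : Type u} [Group G] [Finite G]

/-- Frattini argument for a "Sylow" subgroup `Q` of a subgroup `L` normalized by `H`. -/
theorem frattini_of_card_eq_ppart {H L Q : Subgroup G} {q : ℕ} [hq : Fact q.Prime]
    (hHL : H ≤ Subgroup.normalizer (L : Set G)) (hQL : Q ≤ L) (hQq : IsPGroup q ↥Q)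
    (hQcard : Nat.card Q = q ^ (Nat.card L).factorization q) :
    ∀ h ∈ H, ∃ c ∈ L, c⁻¹ * h ∈ Subgroup.normalizer (Q : Set G) := by
  intro h hh
  have hQhL : Q.map (MulAut.conj h).toMonoidHom ≤ L := by
    rintro _ ⟨x, hx, rfl⟩
    exact (Subgroup.mem_normalizer_iff.mp (hHL hh) x).mp (hQL hx)
  obtain ⟨m, hm, hmQ⟩ := Cfsg.Agent.Lead.exists_conj_le_of_card_eq_ppart hQL hQcard hQhL
    (hQq.map _)
  refine ⟨m⁻¹, L.inv_mem hm, ?_⟩
  rw [inv_inv]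
  have hle : Q.map (MulAut.conj (m * h)).toMonoidHom ≤ Q := by
    rintro _ ⟨x, hx, rfl⟩
    have : (MulAut.conj (m * h)).toMonoidHom x =
        (MulAut.conj m).toMonoidHom ((MulAut.conj h).toMonoidHom x) := by
      simp [MulAut.conj_apply, mul_assoc]
    rw [this]
    exact hmQ ⟨_, ⟨x, hx, rfl⟩, rfl⟩
  have heq : Q.map (MulAut.conj (m * h)).toMonoidHom = Q :=
    Subgroup.eq_of_le_of_card_ge hle (by rw [Cfsg.Agent.Lead.card_map_conj])
  apply Subgroup.mem_normalizer_fintype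
  intro x hx
  rw [← heq]
  exact ⟨x, hx, rfl⟩

/-- `H_β ≤ H'`. -/
theorem betaCore_le_commutator (hG : Cfsg.IsMinSimpleOddOrder G) {H : Subgroup G}
    (hH : IsCoatom H) : Cfsg.piCoreOf (Cfsg.beta H) H ≤ ⁅H, H⁆ := by
  refine (le_sigmaCore_of_isPi hG hH (piCoreOf_le _ _) ?_).trans (sigmaCore_le_commutator hG hH)
  intro t ht hd
  exact mem_sigma_of_mem_beta hG hH (piCoreOf_isPi (Cfsg.beta H) H t ht hd)

/-- For a prime `q ∉ β(H)` dividing `|H'|` there is a Sylow `q`-subgroup `Q` of `H'` with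
`H = H_β N_H(Q)` (Frattini argument, using that `H'/H_β` is nilpotent). -/
theorem exists_mul_betaCore_normalizer (hG : Cfsg.IsMinSimpleOddOrder G) {H : Subgroup G}
    (hH : IsCoatom H) {q : ℕ} [hq : Fact q.Prime] (hqβ : q ∉ Cfsg.beta H)
    (hqH' : q ∣ Nat.card ↥⁅H, H⁆) :
    ∃ Q : Subgroup G, Q ≤ ⁅H, H⁆ ∧ IsPGroup q ↥Q ∧ Q ≠ ⊥ ∧
      ∀ h ∈ H, ∃ b ∈ Cfsg.piCoreOf (Cfsg.beta H) H,
        ∃ j ∈ H ⊓ Subgroup.normalizer (Q : Set G), h = b * j := by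
  obtain ⟨N0, ⟨hN0le, hN0π, hN0idx⟩, hN0nil⟩ := (Cfsg.Agent.S1414.result hG H hH).2.2.1
  obtain ⟨⟨hβle, hβπ, hβidx⟩, -⟩ := betaCore_hall hG hH
  have hH'H : ⁅H, H⁆ ≤ H := Subgroup.commutator_le_self H
  have hβH' := betaCore_le_commutator hG hH
  -- the Sylow `q`-subgroup of `N0`
  obtain ⟨P₀⟩ : Nonempty (Sylow q ↥N0) := inferInstance
  haveI := hN0nil
  haveI hP₀n : (P₀ : Subgroup ↥N0).Normal := inferInstance
  set Q := (P₀ : Subgroup ↥N0).map N0.subtype with hQ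
  have hQN0 : Q ≤ N0 := Subgroup.map_subtype_le _
  have hQq : IsPGroup q ↥Q := P₀.2.map _
  have hN0Q : N0 ≤ Subgroup.normalizer (Q : Set G) := by
    intro n hn
    apply Subgroup.mem_normalizer_fintype
    rintro _ ⟨y, hy, rfl⟩
    exact ⟨⟨n, hn⟩ * y * ⟨n, hn⟩⁻¹, hP₀n.conj_mem y hy _, by simp⟩
  have hqidx : ¬ q ∣ N0.relIndex ⁅H, H⁆ := hN0idx q hq.out ⟨hq.out, hqβ⟩
  have hQcard : Nat.card Q = q ^ (Nat.card ↥⁅H, H⁆).factorization q := by
    rw [hQ, Subgroup.card_map_of_injective (Subgroup.subtype_injective _), P₀.card_eq_multiplicity,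
      factorization_eq_of_not_dvd_relIndex hN0le hq.out hqidx]
  have hQ1 : Q ≠ ⊥ := by
    intro h
    rw [h, Subgroup.card_bot] at hQcard
    have h0 : (Nat.card ↥⁅H, H⁆).factorization q = 0 := by
      by_contra hne
      exact absurd hQcard.symm (Nat.one_lt_pow hne hq.out.one_lt).ne'
    rcases (Nat.factorization_eq_zero_iff _ _).mp h0 with h | h | h
    · exact h hq.out
    · exact h hqH'
    · exact Nat.card_pos.ne' h
  refine ⟨Q, hQN0.trans hN0le, hQq, hQ1, ?_⟩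
  -- `H' = H_β N0`
  have hcop : ((Cfsg.piCoreOf (Cfsg.beta H) H).relIndex ⁅H, H⁆).Coprime
      (N0.relIndex ⁅H, H⁆) := by
    apply Nat.coprime_of_dvd
    intro t ht h1 h2
    by_cases htβ : t ∈ Cfsg.beta H
    · apply hβidx t ht htβ
      rw [← Subgroup.relIndex_mul_relIndex _ _ _ hβH' hH'H]
      exact h1.mul_right _
    · exact hN0idx t ht ⟨ht, htβ⟩ h2
  have hmul := Cfsg.Agent.Helper1.exists_mul_of_coprime_relIndex hcop
  have hfr := frattini_of_card_eq_ppart (H := H) (L := ⁅H, H⁆) (Q := Q)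
    (Subgroup.normalizer_commutator_ge_left H H) (hQN0.trans hN0le) hQq hQcard
  intro h hh
  obtain ⟨c, hc, hch⟩ := hfr h hh
  obtain ⟨b, hb, n, hn, rfl⟩ := hmul c hc
  refine ⟨b, hb, n * ((b * n)⁻¹ * h), ⟨?_, ?_⟩, by group⟩
  · exact H.mul_mem (hH'H (hN0le hn)) (H.mul_mem (H.inv_mem (hH'H hc)) hh)
  · exact Subgroup.mul_mem _ (hN0Q hn) hch

/-- **Bender–Glauberman 13.1(c)/13.2(c)**: `M`, `H` non-conjugate maximal subgroups, some prime of
`σ(M)` divides `|H'|`, and `p ∈ π(M) \ σ(M)` with `p ∤ |M'|` (e.g. `p ∈ τ₁(M)`) divides `|H'|`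
(e.g. `p ∈ σ(H) ∪ τ₃(H)`).  Then `p` is an ideal prime. -/
theorem isIdealPrime_of_dvd_card_commutator (hG : Cfsg.IsMinSimpleOddOrder G) {M H : Subgroup G}
    (hM : IsCoatom M) (hH : IsCoatom H) (hnc : ∀ g : G, H ≠ MulAut.conj g • M) {p : ℕ}
    [hp : Fact p.Prime] (hpM : p ∣ Nat.card M) (hpσ : p ∉ Cfsg.sigma M)
    (hpM' : ¬ p ∣ Nat.card ↥⁅M, M⁆) (hpH' : p ∣ Nat.card ↥⁅H, H⁆) {q : ℕ}
    (hqσ : q ∈ Cfsg.sigma M) (hqH' : q ∣ Nat.card ↥⁅H, H⁆) : Cfsg.IsIdealPrime p G := by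
  by_contra hpid
  haveI := Fact.mk hqσ.1
  have hqβ : q ∉ Cfsg.beta H := fun h =>
    Cfsg.Agent.Helper4.BG11.not_mem_alpha_of_mem_sigma_of_not_conj hG hM hH hnc hqσ h.1
  obtain ⟨Q, hQH', hQq, hQ1, hmul⟩ := exists_mul_betaCore_normalizer hG hH hqβ hqH'
  have hQσ : ∀ t : ℕ, t.Prime → t ∣ Nat.card Q → t ∈ Cfsg.sigma M := by
    intro t ht hd
    obtain ⟨k, hk⟩ := IsPGroup.iff_card.mp hQq
    rw [hk] at hd
    have := (Nat.prime_dvd_prime_iff_eq ht hqσ.1).mp (ht.dvd_of_dvd_pow hd)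
    exact this ▸ hqσ
  have h12 := (sigma_Jsub_part2 hG hM hQ1 hQσ hpM hpσ hpid hH
    (hQH'.trans (Subgroup.commutator_le_self H)) hnc).2 hpM'
  obtain ⟨⟨-, hβπ, -⟩, -⟩ := betaCore_hall hG hH
  have hpβ : ¬ p ∣ Nat.card ↥(Cfsg.piCoreOf (Cfsg.beta H) H) :=
    fun hd => hpid (hβπ p hp.out hd).2
  exact not_dvd_card_commutator_of_mul hp.out (le_normalizer_piCoreOf (Cfsg.beta H) H)
    (inf_le_left : H ⊓ Subgroup.normalizer (Q : Set G) ≤ H) hmul hpβ h12 hpH'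

end Cfsg.Agent.Helper4.BG13
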