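import Mathlib
import Cfsg.Prelude
import Cfsg.Agent.Helper4.BG13a
import Cfsg.Agent.Helper3.FrobActE
import Cfsg.Agent.S1446
import Cfsg.Agent.Helper1.SylowInt
import Cfsg.Agent.S1406
import Cfsg.Agent.S1405

set_option autoImplicit false

/-!
Bender–Glauberman Lemma 12.17 (`cent_Malpha_reg_tau1`).

* `frob_formula`: helper3's Theorem C for subgroups acting by conjugation.
* `exists_char_exponent`: a noncyclic `t`-group (`t` odd) has a noncyclic subgroup of exponent `t`
  normalized by the normalizer of the group.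
* `isCyclic_of_frob`: Lemma F.
-/

namespace Cfsg.Agent.Helper4.BG13

open Cfsg Cfsg.Agent.Helper1 Cfsg.Agent.Helper2 Cfsg.Agent.Helper1.BGT Cfsg.Agent.Helper1.BGU
  Cfsg.Agent.Helper1.BGV Cfsg.Agent.Helper1.BGW Cfsg.Agent.Helper1.BGX Cfsg.Agent.Lead.BG12
  Cfsg.Agent.Lead.BG108 Cfsg.Agent.Helper4.BG10 Cfsg.Agent.Helper4.BG12
open Cfsg.Agent.Helper3.FrobActA
open scoped commutatorElement Pointwise

universe u

section generic

variable {X : Type u} [Group X]

/-- In a group, if `y * x = c * x * y` with `c` commuting with `x` and `y`, then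
`y ^ n * x = c ^ n * x * y ^ n`. -/
theorem pow_mul_comm_of_central {x y c : X} (hcx : Commute c x) (hcy : Commute c y)
    (h : y * x = c * x * y) (n : ℕ) : y ^ n * x = c ^ n * x * y ^ n := by
  induction n with
  | zero => simp
  | succ n ih =>
    calc y ^ (n + 1) * x = y ^ n * (y * x) := by rw [pow_succ, mul_assoc]
      _ = y ^ n * (c * x * y) := by rw [h]
      _ = c * (y ^ n * x) * y := by
        have : y ^ n * c = c * y ^ n := ((hcy.pow_right n).eq).symm
        rw [mul_assoc c x y, ← mul_assoc (y ^ n) c, this, mul_assoc c, ← mul_assoc (y ^ n) x y,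
          mul_assoc c]
      _ = c * (c ^ n * x * y ^ n) * y := by rw [ih]
      _ = c ^ (n + 1) * x * y ^ (n + 1) := by
        rw [pow_succ' c, pow_succ y]; group

/-- The power formula in class two. -/
theorem mul_pow_of_central {x y c : X} (hcx : Commute c x) (hcy : Commute c y)
    (h : y * x = c * x * y) (n : ℕ) : (x * y) ^ n = x ^ n * y ^ n * c ^ (n.choose 2) := by
  induction n with
  | zero => simp
  | succ n ih =>
    have h1 := pow_mul_comm_of_central hcx hcy h n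
    have hcxn : Commute (c ^ (n.choose 2)) x := hcx.pow_left _
    have hcyn : Commute (c ^ (n.choose 2)) y := hcy.pow_left _
    have hcn : Commute (c ^ n) x := hcx.pow_left _
    have hcn' : Commute (c ^ n) (x ^ n) := (hcx.pow_left _).pow_right _
    calc (x * y) ^ (n + 1) = (x * y) ^ n * (x * y) := pow_succ _ _
      _ = x ^ n * y ^ n * c ^ (n.choose 2) * (x * y) := by rw [ih]
      _ = x ^ n * (y ^ n * x) * y * c ^ (n.choose 2) := by
        have e1 : c ^ (n.choose 2) * (x * y) = (x * y) * c ^ (n.choose 2) :=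
          (hcxn.mul_right hcyn).eq
        rw [mul_assoc (x ^ n * y ^ n), e1]; group
      _ = x ^ n * (c ^ n * x * y ^ n) * y * c ^ (n.choose 2) := by rw [h1]
      _ = x ^ (n + 1) * y ^ (n + 1) * (c ^ n * c ^ (n.choose 2)) := by
        have e2 : x ^ n * (c ^ n * x * y ^ n) = c ^ n * (x ^ (n + 1) * y ^ n) := by
          rw [← mul_assoc, ← mul_assoc, ← hcn'.eq, pow_succ]; group
        rw [e2]
        have e3 : Commute (c ^ n) (x ^ (n + 1) * y ^ (n + 1)) :=
          ((hcx.pow_left _).pow_right _).mul_right ((hcy.pow_left _).pow_right _)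
        calc c ^ n * (x ^ (n + 1) * y ^ n) * y * c ^ (n.choose 2)
            = c ^ n * (x ^ (n + 1) * y ^ (n + 1)) * c ^ (n.choose 2) := by
              rw [pow_succ y n]; group
          _ = x ^ (n + 1) * y ^ (n + 1) * c ^ n * c ^ (n.choose 2) := by rw [e3.eq]
          _ = _ := by rw [mul_assoc]
      _ = x ^ (n + 1) * y ^ (n + 1) * c ^ ((n + 1).choose 2) := by
        rw [← pow_add]
        congr 2
        rw [Nat.choose_succ_succ' n 1, Nat.choose_one_right]

/-- `⁅x * y, s⁆ = ⁅y, s⁆ * ⁅x, s⁆` when `⁅y, s⁆` commutes with `x`. -/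
theorem commutatorElement_mul_left_of_commute {x y s : X} (h : Commute ⁅y, s⁆ x) :
    ⁅x * y, s⁆ = ⁅y, s⁆ * ⁅x, s⁆ := by
  have h' : x * ⁅y, s⁆ = ⁅y, s⁆ * x := h.eq.symm
  calc ⁅x * y, s⁆ = x * ⁅y, s⁆ * x⁻¹ * ⁅x, s⁆ := by
        simp only [commutatorElement_def]; group
    _ = ⁅y, s⁆ * ⁅x, s⁆ := by rw [h']; group

end generic

section char

variable {X : Type u} [Group X] [Finite X]

/-- A noncyclic `t`-group `S` (`t` odd) has a noncyclic subgroup `D` of exponent `t` with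
`N(S) ≤ N(D)` (namely `Ω₁(Z₂(S))`). -/
theorem exists_char_exponent {t : ℕ} [ht : Fact t.Prime] (ht2 : t ≠ 2) {S : Subgroup X}
    (hS : IsPGroup t ↥S) (hnc : ¬ IsCyclic ↥S) :
    ∃ D : Subgroup X, D ≤ S ∧ (∀ x ∈ D, x ^ t = 1) ∧
      Subgroup.normalizer (S : Set X) ≤ Subgroup.normalizer (D : Set X) ∧ ¬ IsCyclic ↥D := by
  classical
  have htodd : Odd t := ht.out.odd_of_ne_two ht2
  have hchoose : t ∣ t.choose 2 := by
    obtain ⟨k, hk⟩ := htodd
    rw [Nat.choose_two_right]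
    refine ⟨k, ?_⟩
    have h1 : t - 1 = 2 * k := by omega
    rw [h1, mul_comm t, Nat.mul_assoc, Nat.mul_div_cancel_left _ (by norm_num : 0 < 2)]
    ring
  have hC : ∀ {z s : X}, z ∈ Subgroup.centralizer (S : Set X) → s ∈ S → Commute z s := by
    intro z s hz hs
    exact ((Subgroup.mem_centralizer_iff.mp hz) s hs).symm
  let D : Subgroup X :=
    { carrier := {x | x ∈ S ∧ x ^ t = 1 ∧ ∀ s ∈ S, ⁅x, s⁆ ∈ Subgroup.centralizer (S : Set X)}
      one_mem' := by
        refine ⟨S.one_mem, one_pow t, ?_⟩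
        intro s _
        rw [commutatorElement_one_left]
        exact Subgroup.one_mem _
      mul_mem' := by
        rintro x y ⟨hx, hxt, hxc⟩ ⟨hy, hyt, hyc⟩
        refine ⟨S.mul_mem hx hy, ?_, ?_⟩
        · set c := ⁅y, x⁆ with hc
          have hcC : c ∈ Subgroup.centralizer (S : Set X) := hyc x hx
          have hcx : Commute c x := hC hcC hx
          have hcy : Commute c y := hC hcC hy
          have h : y * x = c * x * y := by rw [hc, commutatorElement_def]; group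
          have hct : c ^ t = 1 := by
            have := pow_mul_comm_of_central hcx hcy h t
            rw [hyt, one_mul, mul_one] at this
            exact (mul_eq_right.mp this.symm)
          rw [mul_pow_of_central hcx hcy h t, hxt, hyt, one_mul, one_mul]
          obtain ⟨k, hk⟩ := hchoose
          rw [hk, pow_mul, hct, one_pow]
        · intro s hs
          rw [commutatorElement_mul_left_of_commute (hC (hyc s hs) hx)]
          exact Subgroup.mul_mem _ (hyc s hs) (hxc s hs)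
      inv_mem' := by
        rintro x ⟨hx, hxt, hxc⟩
        refine ⟨S.inv_mem hx, by rw [inv_pow, hxt, inv_one], ?_⟩
        intro s hs
        have h1 : Commute ⁅x, s⁆ x := hC (hxc s hs) hx
        have h2 : ⁅x⁻¹, s⁆ = ⁅x, s⁆⁻¹ := by
          have : ⁅x⁻¹, s⁆ = x⁻¹ * ⁅x, s⁆⁻¹ * x := by
            simp only [commutatorElement_def]; group
          rw [this, mul_assoc, (h1.inv_left).eq]; group
        rw [h2]
        exact Subgroup.inv_mem _ (hxc s hs) }
  have hDS : D ≤ S := fun x hx => hx.1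
  refine ⟨D, hDS, fun x hx => hx.2.1, ?_, ?_⟩
  · intro g hg
    have hg' : g⁻¹ ∈ Subgroup.normalizer (S : Set X) := Subgroup.inv_mem _ hg
    apply Subgroup.mem_normalizer_fintype
    rintro x ⟨hx, hxt, hxc⟩
    refine ⟨(Subgroup.mem_normalizer_iff.mp hg x).mp hx, ?_, ?_⟩
    · rw [conj_pow, hxt]; group
    · intro s hs
      have hs' : g⁻¹ * s * g ∈ S := by
        have := (Subgroup.mem_normalizer_iff.mp hg' s).mp hs
        rwa [inv_inv] at this
      have h1 : ⁅g * x * g⁻¹, s⁆ = g * ⁅x, g⁻¹ * s * g⁆ * g⁻¹ := by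
        simp only [commutatorElement_def]; group
      rw [h1, Subgroup.mem_centralizer_iff]
      intro u hu
      have hu' : g⁻¹ * u * g ∈ S := by
        have := (Subgroup.mem_normalizer_iff.mp hg' u).mp hu
        rwa [inv_inv] at this
      have h2 := (Subgroup.mem_centralizer_iff.mp (hxc _ hs')) _ hu'
      calc u * (g * ⁅x, g⁻¹ * s * g⁆ * g⁻¹)
          = g * ((g⁻¹ * u * g) * ⁅x, g⁻¹ * s * g⁆) * g⁻¹ := by group
        _ = g * (⁅x, g⁻¹ * s * g⁆ * (g⁻¹ * u * g)) * g⁻¹ := by rw [h2]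
        _ = g * ⁅x, g⁻¹ * s * g⁆ * g⁻¹ * u := by group
  · obtain ⟨E, hES, hEel, hEcard, hSE⟩ := exists_normal_ea2 ht2 hS hnc
    have hE1 : E ≠ ⊥ := by
      intro h
      rw [h, Subgroup.card_bot] at hEcard
      have := ht.out.two_le
      nlinarith
    have hlt := commutator_lt_of_isPGroup (hS.to_le hES) hS hSE hE1
    have hcomS : ⁅E, S⁆ ≤ S := hlt.le.trans hES
    have hcomN : S ≤ Subgroup.normalizer ((⁅E, S⁆ : Subgroup X) : Set X) := by
      intro g hg
      apply Subgroup.mem_normalizer_fintype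
      intro n hn
      have hcl : ∀ n ∈ ⁅E, S⁆, g * n * g⁻¹ ∈ ⁅E, S⁆ := by
        intro n hn
        rw [Subgroup.commutator_def] at hn ⊢
        refine Subgroup.closure_induction (p := fun n _ => g * n * g⁻¹ ∈ Subgroup.closure
          {c | ∃ a ∈ E, ∃ b ∈ S, ⁅a, b⁆ = c}) ?_ ?_ ?_ ?_ hn
        · rintro _ ⟨a, ha, b, hb, rfl⟩
          apply Subgroup.subset_closure
          refine ⟨g * a * g⁻¹, (Subgroup.mem_normalizer_iff.mp (hSE hg) a).mp ha, g * b * g⁻¹,
            S.mul_mem (S.mul_mem hg hb) (S.inv_mem hg), ?_⟩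
          simp only [commutatorElement_def]; group
        · simp
        · intro a b _ _ ha hb
          have : g * (a * b) * g⁻¹ = (g * a * g⁻¹) * (g * b * g⁻¹) := by group
          rw [this]; exact Subgroup.mul_mem _ ha hb
        · intro a _ ha
          have : g * a⁻¹ * g⁻¹ = (g * a * g⁻¹)⁻¹ := by group
          rw [this]; exact Subgroup.inv_mem _ ha
      exact hcl n hn
    have hcard : Nat.card ↥⁅E, S⁆ ≤ t := by
      obtain ⟨k, hk⟩ := IsPGroup.iff_card.mp (hS.to_le hcomS)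
      have h1 : Nat.card ↥⁅E, S⁆ < t ^ 2 := hEcard ▸ card_lt_card_of_lt hlt
      rw [hk] at h1 ⊢
      have hk2 : k < 2 := (Nat.pow_lt_pow_iff_right ht.out.one_lt).mp h1
      calc t ^ k ≤ t ^ 1 := Nat.pow_le_pow_right ht.out.pos (by omega)
        _ = t := pow_one t
    have hcen := le_centralizer_of_card_le hS hcomS hcomN hcard
    have hED : E ≤ D := by
      intro x hx
      refine ⟨hES hx, hEel.2 x hx, ?_⟩
      intro s hs
      exact hcen (Subgroup.commutator_mem_commutator hx hs)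
    exact not_isCyclic_of_le_of_not_isCyclic hED (not_isCyclic_of_ea2 hEel.2 hEcard)

end char


section frob

variable {X : Type u} [Group X] [Finite X]

open Cfsg.Agent.S1446 in
/-- **helper3's Theorem C for conjugation actions**: `Q` nilpotent, `P` of prime order normalizing `Q`
with `C_Q(P) = 1`, both normalizing the solvable group `S` of coprime order.  Then
`|C_S(QP)|^|P| |S| = |C_S(P)|^|P| |C_S(Q)|`. -/
theorem frob_formula (S Q P : Subgroup X) (hQS : Q ≤ Subgroup.normalizer (S : Set X))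
    (hPS : P ≤ Subgroup.normalizer (S : Set X)) (hPQ : P ≤ Subgroup.normalizer (Q : Set X))
    (hQnil : Group.IsNilpotent ↥Q) (hP : (Nat.card P).Prime)
    (hfpf : Q ⊓ Subgroup.centralizer (P : Set X) = ⊥) (hsolv : Group.IsSolvable ↥S)
    (hcop : (Nat.card ↥(Q ⊔ P)).Coprime (Nat.card S)) :
    Nat.card ↥(S ⊓ Subgroup.centralizer ((Q ⊔ P : Subgroup X) : Set X)) ^ Nat.card P * Nat.card S =
      Nat.card ↥(S ⊓ Subgroup.centralizer (P : Set X)) ^ Nat.card P *
        Nat.card ↥(S ⊓ Subgroup.centralizer (Q : Set X)) := by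
  classical
  have hQL : Q ≤ Q ⊔ P := le_sup_left
  have hPL : P ≤ Q ⊔ P := le_sup_right
  have hLS : Q ⊔ P ≤ Subgroup.normalizer (S : Set X) := sup_le hQS hPS
  have hLQ : Q ⊔ P ≤ Subgroup.normalizer (Q : Set X) := sup_le Subgroup.le_normalizer hPQ
  set φ := conjAct S (Q ⊔ P) hLS with hφ
  set F : Subgroup ↥(Q ⊔ P) := Q.subgroupOf (Q ⊔ P) with hF
  set H : Subgroup ↥(Q ⊔ P) := P.subgroupOf (Q ⊔ P) with hH
  haveI hFn : F.Normal := (Subgroup.normal_subgroupOf_iff_le_normalizer hQL).mpr hLQ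
  have hFnil : Group.IsNilpotent F :=
    (Group.isNilpotent_congr (Subgroup.subgroupOfEquivOfLe hQL)).mpr hQnil
  have hFH : F ⊔ H = ⊤ := by
    rw [hF, hH, ← Subgroup.subgroupOf_sup hQL hPL, Subgroup.subgroupOf_self]
  have hHcard : Nat.card H = Nat.card P :=
    Nat.card_congr (Subgroup.subgroupOfEquivOfLe hPL).toEquiv
  have hfpf' : ∀ h ∈ H, h ≠ 1 → ∀ f ∈ F, h * f * h⁻¹ = f → f = 1 := by
    intro h hh h1 f hf hfix
    have hhP : (h : X) ∈ P := Subgroup.mem_subgroupOf.mp hh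
    have hh1 : (h : X) ≠ 1 := fun e => h1 (Subtype.ext e)
    have hfQ : (f : X) ∈ Q := Subgroup.mem_subgroupOf.mp hf
    have hcomm : (h : X) * (f : X) = (f : X) * (h : X) := by
      have h2 := congrArg Subtype.val hfix
      simp only [Subgroup.coe_mul, Subgroup.coe_inv] at h2
      rw [mul_inv_eq_iff_eq_mul] at h2
      exact h2
    -- `h` generates `P`
    have hgen : ∀ y ∈ P, y ∈ Subgroup.zpowers (h : X) := by
      intro y hy
      haveI : Fact (Nat.card P).Prime := ⟨hP⟩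
      have hz : Subgroup.zpowers (⟨(h : X), hhP⟩ : P) = ⊤ :=
        zpowers_eq_top_of_prime_card rfl (fun e => hh1 (congrArg Subtype.val e))
      have : (⟨y, hy⟩ : P) ∈ Subgroup.zpowers (⟨(h : X), hhP⟩ : P) := by rw [hz]; trivial
      obtain ⟨n, hn⟩ := Subgroup.mem_zpowers_iff.mp this
      refine Subgroup.mem_zpowers_iff.mpr ⟨n, ?_⟩
      have := congrArg Subtype.val hn
      simpa using this
    have hmem : (f : X) ∈ Q ⊓ Subgroup.centralizer (P : Set X) := by
      refine ⟨hfQ, Subgroup.mem_centralizer_iff.mpr ?_⟩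
      intro y hy
      obtain ⟨n, rfl⟩ := Subgroup.mem_zpowers_iff.mp (hgen y hy)
      exact (Commute.zpow_left (show Commute (h : X) (f : X) from hcomm) n).eq
    rw [hfpf, Subgroup.mem_bot] at hmem
    exact Subtype.ext hmem
  have key := Cfsg.Agent.Helper3.FrobActE.card_fix_formula F H hFnil hfpf' hFH S φ hsolv hcop
  have e1 : Nat.card (fix φ ⊤) =
      Nat.card ↥(S ⊓ Subgroup.centralizer ((Q ⊔ P : Subgroup X) : Set X)) := by
    have := card_fix_conjAct S (Q ⊔ P) hLS (Q ⊔ P) le_rfl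
    rw [Subgroup.subgroupOf_self] at this
    exact this
  rw [e1, card_fix_conjAct S (Q ⊔ P) hLS P hPL, card_fix_conjAct S (Q ⊔ P) hLS Q hQL, hHcard]
    at key
  exact key

/-- In a cyclic `t`-group, an element of order dividing `t` lies in every nontrivial subgroup. -/
theorem mem_of_pow_eq_one_of_isCyclic {C : Type*} [Group C] [Finite C] [hc : IsCyclic C] {t : ℕ}
    [ht : Fact t.Prime] (hC : IsPGroup t C) {C₀ : Subgroup C} (h0 : C₀ ≠ ⊥) {x : C}
    (hx : x ^ t = 1) : x ∈ C₀ := by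
  by_cases hx1 : x = 1
  · rw [hx1]; exact C₀.one_mem
  have hord : orderOf x = t := orderOf_eq_prime hx hx1
  have hdvd : t ∣ Nat.card C₀ := by
    obtain ⟨k, hk⟩ := IsPGroup.iff_card.mp (hC.to_subgroup C₀)
    rw [hk]
    have hk0 : k ≠ 0 := by
      rintro rfl
      rw [pow_zero] at hk
      exact h0 (Subgroup.card_eq_one.mp hk)
    exact dvd_pow_self t hk0
  classical
  haveI := Fintype.ofFinite C
  obtain ⟨z, hz⟩ := exists_prime_orderOf_dvd_card' (G := C₀) t hdvd
  have hzt : (z : C) ^ t = 1 := by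
    rw [← Subgroup.orderOf_coe] at hz
    rw [← hz]; exact pow_orderOf_eq_one _
  have hle := IsCyclic.card_pow_eq_one_le (α := C) ht.out.pos
  have hsub : (Finset.univ.filter (fun a : C => a ∈ Subgroup.zpowers (z : C))) ⊆
      Finset.univ.filter (fun a : C => a ^ t = 1) := by
    intro a ha
    rw [Finset.mem_filter] at ha ⊢
    refine ⟨ha.1, ?_⟩
    obtain ⟨n, rfl⟩ := Subgroup.mem_zpowers_iff.mp ha.2
    rw [← zpow_natCast, ← zpow_mul, mul_comm, zpow_mul, zpow_natCast, hzt, one_zpow]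
  have hcardz : (Finset.univ.filter (fun a : C => a ∈ Subgroup.zpowers (z : C))).card = t := by
    have h1 : (Finset.univ.filter (fun a : C => a ∈ Subgroup.zpowers (z : C))).card =
        Nat.card (Subgroup.zpowers (z : C)) := by
      rw [Nat.card_eq_fintype_card, Fintype.card_subtype]
    rw [h1, Nat.card_zpowers, Subgroup.orderOf_coe, hz]
  have heq := Finset.eq_of_subset_of_card_le hsub (by rw [hcardz]; exact hle)
  have hxmem : x ∈ Finset.univ.filter (fun a : C => a ^ t = 1) := by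
    rw [Finset.mem_filter]; exact ⟨Finset.mem_univ _, hx⟩
  rw [← heq, Finset.mem_filter] at hxmem
  exact (Subgroup.zpowers_le.mpr z.2) hxmem.2

/-- **Lemma F.**  A Frobenius-type group `QP` acting coprimely on a `t`-group `S` (`t` odd) with
`C_S(Q)`, `C_S(P)` cyclic and `C_S(QP) ≠ 1`: then `S` is cyclic. -/
theorem isCyclic_of_frob {t : ℕ} [ht : Fact t.Prime] (ht2 : t ≠ 2) (S Q P : Subgroup X)
    (hS : IsPGroup t ↥S) (hQS : Q ≤ Subgroup.normalizer (S : Set X))
    (hPS : P ≤ Subgroup.normalizer (S : Set X)) (hPQ : P ≤ Subgroup.normalizer (Q : Set X))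
    (hQnil : Group.IsNilpotent ↥Q) (hP : (Nat.card P).Prime)
    (hfpf : Q ⊓ Subgroup.centralizer (P : Set X) = ⊥)
    (hcop : (Nat.card ↥(Q ⊔ P)).Coprime (Nat.card S))
    (hcQ : IsCyclic ↥(S ⊓ Subgroup.centralizer (Q : Set X)))
    (hcP : IsCyclic ↥(S ⊓ Subgroup.centralizer (P : Set X)))
    (hF : S ⊓ Subgroup.centralizer ((Q ⊔ P : Subgroup X) : Set X) ≠ ⊥) : IsCyclic ↥S := by
  by_contra hnc
  obtain ⟨D, hDS, hDexp, hND, hDnc⟩ := exists_char_exponent ht2 hS hnc
  have hDt : IsPGroup t ↥D := hS.to_le hDS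
  have hDsolv : Group.IsSolvable ↥D := by
    haveI := hDt.isNilpotent
    infer_instance
  have hcopD : (Nat.card ↥(Q ⊔ P)).Coprime (Nat.card D) :=
    hcop.coprime_dvd_right (Subgroup.card_dvd_of_le hDS)
  have key := frob_formula D Q P (hQS.trans hND) (hPS.trans hND) hPQ hQnil hP hfpf hDsolv hcopD
  have hCle_P : Subgroup.centralizer ((Q ⊔ P : Subgroup X) : Set X) ≤
      Subgroup.centralizer (P : Set X) :=
    Subgroup.centralizer_le (SetLike.coe_subset_coe.mpr le_sup_right)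
  have hCle_Q : Subgroup.centralizer ((Q ⊔ P : Subgroup X) : Set X) ≤
      Subgroup.centralizer (Q : Set X) :=
    Subgroup.centralizer_le (SetLike.coe_subset_coe.mpr le_sup_left)
  -- the general step
  have step : ∀ T : Subgroup X, IsCyclic ↥(S ⊓ Subgroup.centralizer (T : Set X)) →
      Subgroup.centralizer ((Q ⊔ P : Subgroup X) : Set X) ≤ Subgroup.centralizer (T : Set X) →
      D ⊓ Subgroup.centralizer (T : Set X) =
        D ⊓ Subgroup.centralizer ((Q ⊔ P : Subgroup X) : Set X) := by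
    intro T hcT hle
    apply le_antisymm
    · rintro x ⟨hxD, hxT⟩
      refine ⟨hxD, ?_⟩
      haveI := hcT
      have hCt : IsPGroup t ↥(S ⊓ Subgroup.centralizer (T : Set X)) := hS.to_le inf_le_left
      set C₀ : Subgroup ↥(S ⊓ Subgroup.centralizer (T : Set X)) :=
        (S ⊓ Subgroup.centralizer ((Q ⊔ P : Subgroup X) : Set X)).subgroupOf
          (S ⊓ Subgroup.centralizer (T : Set X)) with hC₀
      have hle' : S ⊓ Subgroup.centralizer ((Q ⊔ P : Subgroup X) : Set X) ≤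
          S ⊓ Subgroup.centralizer (T : Set X) := inf_le_inf_left S hle
      have h0 : C₀ ≠ ⊥ := by
        intro h
        rw [hC₀, Subgroup.subgroupOf_eq_bot, disjoint_iff, inf_eq_left.mpr hle'] at h
        exact hF h
      have hx' : (⟨x, ⟨hDS hxD, hxT⟩⟩ : ↥(S ⊓ Subgroup.centralizer (T : Set X))) ^ t = 1 := by
        apply Subtype.ext
        simpa using hDexp x hxD
      have := mem_of_pow_eq_one_of_isCyclic hCt h0 hx'
      rw [hC₀, Subgroup.mem_subgroupOf] at this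
      exact this.2
    · exact inf_le_inf_left D hle
  rw [step P hcP hCle_P, step Q hcQ hCle_Q] at key
  set a := Nat.card ↥(D ⊓ Subgroup.centralizer ((Q ⊔ P : Subgroup X) : Set X)) with ha
  have hapos : 0 < a := Nat.card_pos
  have hDa : Nat.card D = a := Nat.eq_of_mul_eq_mul_left (pow_pos hapos (Nat.card P)) key
  have hDle : D ≤ Subgroup.centralizer ((Q ⊔ P : Subgroup X) : Set X) := by
    have : D ⊓ Subgroup.centralizer ((Q ⊔ P : Subgroup X) : Set X) = D :=
      Subgroup.eq_of_le_of_card_ge inf_le_left (by rw [hDa])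
    exact inf_eq_left.mp this
  have hDle' : D ≤ S ⊓ Subgroup.centralizer (P : Set X) := le_inf hDS (hDle.trans hCle_P)
  exact not_isCyclic_of_le_of_not_isCyclic hDle' hDnc hcP

end frob

section bg1217

variable {G : Type u} [Group G] [Finite G]

/-- A subgroup of `M` carrying the full `t`-part of `|M|`, `t ∈ α(M)`, is not cyclic. -/
theorem not_isCyclic_of_card_eq_ppart_of_mem_alpha (hG : Cfsg.IsMinSimpleOddOrder G)
    {M S : Subgroup G} {t : ℕ} [ht : Fact t.Prime] (htα : t ∈ Cfsg.alpha M) (hSM : S ≤ M)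
    (hScard : Nat.card S = t ^ (Nat.card M).factorization t) : ¬ IsCyclic ↥S := by
  intro hcyc
  apply htα.2
  intro A hAc hAe
  -- `A` is an elementary abelian `t`-subgroup of `M`
  set A' : Subgroup G := A.map M.subtype with hA'
  have hA'M : A' ≤ M := Subgroup.map_subtype_le _
  have hA't : IsPGroup t ↥A' := by
    rw [hA']
    apply IsPGroup.map
    intro a
    exact ⟨1, by rw [pow_one]; exact Subtype.ext (by simpa using hAe a a.2)⟩
  obtain ⟨m, -, hm⟩ := Cfsg.Agent.Lead.exists_conj_le_of_card_eq_ppart hSM hScard hA'M hA't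
  have hcard : Nat.card A = Nat.card ↥(A'.map (MulAut.conj m).toMonoidHom) := by
    rw [Cfsg.Agent.Lead.card_map_conj, hA', Subgroup.card_map_of_injective M.subtype_injective]
  have hexp : ∀ x ∈ A'.map (MulAut.conj m).toMonoidHom, x ^ t = 1 := by
    rintro _ ⟨_, ⟨a, ha, rfl⟩, rfl⟩
    rw [← map_pow, ← map_pow, hAe a ha, map_one, map_one]
  -- a subgroup of exponent `t` of the cyclic group `S` has order at most `t`
  haveI := hcyc
  set B : Subgroup ↥S := (A'.map (MulAut.conj m).toMonoidHom).subgroupOf S with hB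
  have hBcard : Nat.card B = Nat.card ↥(A'.map (MulAut.conj m).toMonoidHom) :=
    Cfsg.Agent.Lead.card_subgroupOf_of_le hm
  haveI : IsCyclic ↥B := inferInstance
  have h1 : Monoid.exponent ↥B = Nat.card B := IsCyclic.exponent_eq_card
  have h2 : Monoid.exponent ↥B ∣ t := by
    apply Monoid.exponent_dvd_of_forall_pow_eq_one
    intro x
    apply Subtype.ext
    apply Subtype.ext
    have := hexp (x : ↥S) (Subgroup.mem_subgroupOf.mp x.2)
    simpa using this
  rw [hcard, ← hBcard, ← h1]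
  calc Monoid.exponent ↥B ≤ t := Nat.le_of_dvd ht.out.pos h2
    _ ≤ t ^ 2 := by nlinarith [ht.out.two_le]

/-- For `p ∉ σ(M)` with `M` of `p`-rank one, the normalizer of a subgroup of order `p` of `M` is not
contained in `M`. -/
theorem not_normalizer_le_of_rank_one (hG : Cfsg.IsMinSimpleOddOrder G) {M : Subgroup G} {p : ℕ}
    [hp : Fact p.Prime] (hpσ : p ∉ Cfsg.sigma M) (hpM : p ∣ Nat.card M)
    (hr : Cfsg.PRankLE p 1 ↥M) {P : Subgroup G} (hPM : P ≤ M) (hPp : IsPGroup p ↥P) (hP1 : P ≠ ⊥) :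
    ¬ Subgroup.normalizer (P : Set G) ≤ M := by
  intro hN
  obtain ⟨T', hT'⟩ := (hPp.comap_subtype (K := M)).exists_le_sylow
  set T : Subgroup G := (T' : Subgroup ↥M).map M.subtype with hT
  have hTM : T ≤ M := Subgroup.map_subtype_le _
  have hPT : P ≤ T := by
    intro x hx
    exact ⟨⟨x, hPM hx⟩, hT' (Subgroup.mem_subgroupOf.mpr hx), rfl⟩
  have hTc : IsCyclic ↥T := isCyclic_of_pRankLE_one hG.1 hr hTM (T'.2.map _)
  have hNT : Subgroup.normalizer (T : Set G) ≤ Subgroup.normalizer (P : Set G) :=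
    Cfsg.Agent.Lead.BG12.normalizer_le_normalizer_of_isCyclic hTc hPT
  exact hpσ ⟨hp.out, hpM, T', hNT.trans hN⟩

/-- **Bender–Glauberman Lemma 12.17(a)** (`cent_Malpha_reg_tau1`).  `p ∈ τ₁(M)`, `P ≤ M` of order `p`,
`Q ≠ 1` a `P`-invariant `q`-subgroup of `M` with `C_Q(P) = 1`, `q ∉ α(M)`, `M_α ≠ 1`, and `N(Q)` lies
in a maximal subgroup `L ≠ M`.  Then `C_{M_α}(P) ≠ 1` and `C_{M_α}(QP) = 1`. -/
theorem cent_alphaCore_reg_tau1 (hG : Cfsg.IsMinSimpleOddOrder G) {M : Subgroup G}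
    (hM : IsCoatom M) {p : ℕ} [hp : Fact p.Prime] (hpτ : p ∈ Cfsg.tau1 M) {P : Subgroup G}
    (hPM : P ≤ M) (hPcard : Nat.card P = p) {q : ℕ} [hq : Fact q.Prime] {Q : Subgroup G}
    (hQM : Q ≤ M) (hQq : IsPGroup q ↥Q) (hQ1 : Q ≠ ⊥)
    (hPQ : P ≤ Subgroup.normalizer (Q : Set G))
    (hfpf : Q ⊓ Subgroup.centralizer (P : Set G) = ⊥) {L : Subgroup G} (hL : IsCoatom L)
    (hLM : L ≠ M) (hNQ : Subgroup.normalizer (Q : Set G) ≤ L)
    (hα1 : Cfsg.alphaCore M ≠ ⊥) (hqα : q ∉ Cfsg.alpha M) :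
    Cfsg.alphaCore M ⊓ Subgroup.centralizer (P : Set G) ≠ ⊥ ∧
      Cfsg.alphaCore M ⊓ Subgroup.centralizer ((Q ⊔ P : Subgroup G) : Set G) = ⊥ := by
  classical
  obtain ⟨-, hpσ, hpM, -, hpr⟩ := hpτ
  have hodd : Odd (Nat.card G) := hG.1
  have hPp : IsPGroup p ↥P := IsPGroup.of_card (n := 1) (by rw [hPcard, pow_one])
  have hPprime : (Nat.card P).Prime := hPcard ▸ hp.out
  have hP1 : P ≠ ⊥ := by
    intro h
    rw [h, Subgroup.card_bot] at hPcard
    exact hp.out.one_lt.ne hPcard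
  have hpα : p ∉ Cfsg.alpha M := fun h => hpσ (alpha_subset_sigma hG hM h)
  set Mα := Cfsg.alphaCore M with hMα
  have hMαM : Mα ≤ M := by
    rw [hMα]; unfold Cfsg.alphaCore; exact Subgroup.map_subtype_le _
  have hMn : M ≤ Subgroup.normalizer (Mα : Set G) := Cfsg.Agent.Helper4.BG11.le_normalizer_alphaCore M
  have hFM : Q ⊔ P ≤ M := sup_le hQM hPM
  have hFn : Q ⊔ P ≤ Subgroup.normalizer (Mα : Set G) := hFM.trans hMn
  have hQnil : Group.IsNilpotent ↥Q := hQq.isNilpotent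
  -- prime divisors of `|QP|`
  have hFprimes : ∀ t : ℕ, t.Prime → t ∣ Nat.card ↥(Q ⊔ P) → t = q ∨ t = p := by
    intro t ht hd
    have h1 := card_sup_mul_card_inf (N := Q) (A := P) hPQ
    have h2 : t ∣ Nat.card Q * Nat.card P := h1 ▸ Dvd.dvd.mul_right hd _
    rcases (Nat.Prime.dvd_mul ht).mp h2 with h | h
    · left
      obtain ⟨k, hk⟩ := IsPGroup.iff_card.mp hQq
      rw [hk] at h
      exact (Nat.prime_dvd_prime_iff_eq ht hq.out).mp (ht.dvd_of_dvd_pow h)
    · right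
      rw [hPcard] at h
      exact (Nat.prime_dvd_prime_iff_eq ht hp.out).mp h
  have hcopα : ∀ S : Subgroup G, S ≤ Mα → (Nat.card ↥(Q ⊔ P)).Coprime (Nat.card S) := by
    intro S hS
    by_contra h
    obtain ⟨t, ht, hta, htb⟩ := Nat.Prime.not_coprime_iff_dvd.mp h
    have htα : t ∈ Cfsg.alpha M :=
      mem_alpha_of_dvd_card_alphaCore ht (htb.trans (Subgroup.card_dvd_of_le hS))
    rcases hFprimes t ht hta with rfl | rfl
    · exact hqα htα
    · exact hpα htα
  have hsolvα : Group.IsSolvable ↥Mα := by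
    haveI : Group.IsSolvable ↥M := hG.2.2.2 M hM.1
    exact isSolvable_of_le hMαM inferInstance
  -- a second maximal subgroup over `C_M(P)`
  have hNPtop : Subgroup.normalizer (P : Set G) ≠ ⊤ :=
    normalizer_ne_top_of_simple hG hP1 (sylow_ne_top hG p _ hPp)
  obtain ⟨L', hL', hNP⟩ := exists_coatom_ge hNPtop
  have hL'M : L' ≠ M := by
    rintro rfl
    exact not_normalizer_le_of_rank_one hG hpσ hpM hpr hPM hPp hP1 hNP
  -- rank one of the centralizers
  have hrankQ : Cfsg.RankLE 1 ↥(Mα ⊓ Subgroup.centralizer (Q : Set G)) := by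
    by_contra hr
    obtain ⟨K, -, hKuniq⟩ := Cfsg.Agent.S1406.result hG M hM Q hQM (by
      intro t ht hd
      obtain ⟨k, hk⟩ := IsPGroup.iff_card.mp hQq
      rw [hk] at hd
      have := (Nat.prime_dvd_prime_iff_eq ht hq.out).mp (ht.dvd_of_dvd_pow hd)
      exact this ▸ hqα) hr
    have h1 := hKuniq M ⟨hM, inf_le_left⟩
    have h2 := hKuniq L ⟨hL, inf_le_right.trans
      ((Subgroup.centralizer_le_normalizer _).trans hNQ)⟩
    exact hLM (h2.trans h1.symm)
  have hrankP : Cfsg.RankLE 1 ↥(Mα ⊓ Subgroup.centralizer (P : Set G)) := by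
    by_contra hr
    obtain ⟨K, -, hKuniq⟩ := Cfsg.Agent.S1406.result hG M hM P hPM (by
      intro t ht hd
      rw [hPcard] at hd
      have := (Nat.prime_dvd_prime_iff_eq ht hp.out).mp hd
      exact this ▸ hpα) hr
    have h1 := hKuniq M ⟨hM, inf_le_left⟩
    have h2 := hKuniq L' ⟨hL', inf_le_right.trans
      ((Subgroup.centralizer_le_normalizer _).trans hNP)⟩
    exact hL'M (h2.trans h1.symm)
  -- properties of an invariant Sylow subgroup of `M_α`
  have hSyl : ∀ (t : ℕ) [Fact t.Prime], t ∣ Nat.card Mα → ∀ S' : Sylow t ↥Mα,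
      Q ⊔ P ≤ Subgroup.normalizer (((S' : Subgroup ↥Mα).map Mα.subtype : Subgroup G) : Set G) →
      IsPGroup t ↥((S' : Subgroup ↥Mα).map Mα.subtype) ∧ t ≠ 2 ∧
      ¬ IsCyclic ↥((S' : Subgroup ↥Mα).map Mα.subtype) ∧
      IsCyclic ↥((S' : Subgroup ↥Mα).map Mα.subtype ⊓ Subgroup.centralizer (Q : Set G)) ∧
      IsCyclic ↥((S' : Subgroup ↥Mα).map Mα.subtype ⊓ Subgroup.centralizer (P : Set G)) := by
    intro t ht htd S' hSn
    have htα : t ∈ Cfsg.alpha M := mem_alpha_of_dvd_card_alphaCore ht.out htd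
    set S : Subgroup G := (S' : Subgroup ↥Mα).map Mα.subtype with hS
    have hSMα : S ≤ Mα := Subgroup.map_subtype_le _
    have hSt : IsPGroup t ↥S := S'.2.map _
    have hScard : Nat.card S = t ^ (Nat.card M).factorization t :=
      card_sylow_alphaCore hG hM htα S'
    have hSnc : ¬ IsCyclic ↥S :=
      not_isCyclic_of_card_eq_ppart_of_mem_alpha hG htα (hSMα.trans hMαM) hScard
    have hS1 : S ≠ ⊥ := ne_bot_of_not_isCyclic hSnc
    refine ⟨hSt, prime_ne_two_of_ne_bot hG hSt hS1, hSnc, ?_, ?_⟩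
    · exact isCyclic_of_pRankLE_one hodd (hrankQ t ht.out) (inf_le_inf_right _ hSMα)
        (hSt.to_le inf_le_left)
    · exact isCyclic_of_pRankLE_one hodd (hrankP t ht.out) (inf_le_inf_right _ hSMα)
        (hSt.to_le inf_le_left)
  have hCle_P : Subgroup.centralizer ((Q ⊔ P : Subgroup G) : Set G) ≤
      Subgroup.centralizer (P : Set G) :=
    Subgroup.centralizer_le (SetLike.coe_subset_coe.mpr le_sup_right)
  constructor
  · -- `C_{M_α}(P) ≠ 1`
    intro hbot
    have hcard : Nat.card Mα ≠ 1 := fun h => hα1 (Subgroup.card_eq_one.mp h)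
    obtain ⟨t, ht, htd⟩ := Nat.exists_prime_and_dvd hcard
    haveI := Fact.mk ht
    obtain ⟨S', hS'⟩ := Cfsg.Agent.Helper1.exists_invariant_sylow (p := t) (Q ⊔ P) Mα hFn
      (hcopα Mα le_rfl) (Or.inr hsolvα)
    obtain ⟨hSt, ht2, hSnc, hcQ, hcP⟩ := hSyl t htd S' hS'
    set S : Subgroup G := (S' : Subgroup ↥Mα).map Mα.subtype with hS
    have hSMα : S ≤ Mα := Subgroup.map_subtype_le _
    have hSsolv : Group.IsSolvable ↥S := by
      haveI := hSt.isNilpotent
      infer_instance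
    have key := frob_formula S Q P (le_sup_left.trans hS') (le_sup_right.trans hS') hPQ hQnil
      hPprime hfpf hSsolv (hcopα S hSMα)
    have hb : S ⊓ Subgroup.centralizer (P : Set G) = ⊥ :=
      le_bot_iff.mp (hbot ▸ inf_le_inf_right _ hSMα)
    have ha : S ⊓ Subgroup.centralizer ((Q ⊔ P : Subgroup G) : Set G) = ⊥ :=
      le_bot_iff.mp (hb ▸ inf_le_inf_left S hCle_P)
    rw [ha, hb, Subgroup.card_bot, one_pow, one_mul, one_mul] at key
    have hSle : S ⊓ Subgroup.centralizer (Q : Set G) = S :=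
      Subgroup.eq_of_le_of_card_ge inf_le_left (by rw [key])
    rw [hSle] at hcQ
    exact hSnc hcQ
  · -- `C_{M_α}(QP) = 1`
    by_contra hne
    have hcard : Nat.card ↥(Mα ⊓ Subgroup.centralizer ((Q ⊔ P : Subgroup G) : Set G)) ≠ 1 :=
      fun h => hne (Subgroup.card_eq_one.mp h)
    obtain ⟨t, ht, htd⟩ := Nat.exists_prime_and_dvd hcard
    haveI := Fact.mk ht
    -- a Sylow `t`-subgroup `U` of `C_{M_α}(QP)`
    obtain ⟨U₀⟩ : Nonempty (Sylow t ↥(Mα ⊓ Subgroup.centralizer ((Q ⊔ P : Subgroup G) : Set G))) :=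
      inferInstance
    set U : Subgroup G := (U₀ : Subgroup ↥(Mα ⊓
      Subgroup.centralizer ((Q ⊔ P : Subgroup G) : Set G))).map
        (Mα ⊓ Subgroup.centralizer ((Q ⊔ P : Subgroup G) : Set G)).subtype with hU
    have hUle : U ≤ Mα ⊓ Subgroup.centralizer ((Q ⊔ P : Subgroup G) : Set G) :=
      Subgroup.map_subtype_le _
    have hUt : IsPGroup t ↥U := U₀.2.map _
    have hU1 : U ≠ ⊥ := by
      intro h
      have h1 : Nat.card U = 1 := by rw [h, Subgroup.card_bot]
      rw [hU, Subgroup.card_map_of_injective (Subgroup.subtype_injective _),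
        U₀.card_eq_multiplicity] at h1
      have h2 : (Nat.card ↥(Mα ⊓ Subgroup.centralizer ((Q ⊔ P : Subgroup G) : Set G))).factorization t
          ≠ 0 := by
        have hpos : 0 < (Nat.card ↥(Mα ⊓
            Subgroup.centralizer ((Q ⊔ P : Subgroup G) : Set G))).factorization t :=
          ht.factorization_pos_of_dvd Nat.card_pos.ne' htd
        exact hpos.ne'
      exact h2 ((Nat.pow_eq_one.mp h1).resolve_left ht.one_lt.ne')
    have hUn : Q ⊔ P ≤ Subgroup.normalizer (U : Set G) := by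
      intro g hg
      apply Subgroup.mem_normalizer_fintype
      intro u hu
      have hc := (Subgroup.mem_centralizer_iff.mp (hUle hu).2) g hg
      have : g * u * g⁻¹ = u := by rw [hc]; group
      rw [this]; exact hu
    obtain ⟨S', hUS, hS'⟩ := Cfsg.Agent.Helper1.exists_invariant_sylow_ge (p := t) (Q ⊔ P) Mα hFn
      (hcopα Mα le_rfl) (Or.inr hsolvα) U (hUle.trans inf_le_left) hUt hUn
    have htd' : t ∣ Nat.card Mα :=
      htd.trans (Subgroup.card_dvd_of_le inf_le_left)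
    obtain ⟨hSt, ht2, hSnc, hcQ, hcP⟩ := hSyl t htd' S' hS'
    set S : Subgroup G := (S' : Subgroup ↥Mα).map Mα.subtype with hS
    have hSMα : S ≤ Mα := Subgroup.map_subtype_le _
    have hF : S ⊓ Subgroup.centralizer ((Q ⊔ P : Subgroup G) : Set G) ≠ ⊥ := by
      intro h
      apply hU1
      exact le_bot_iff.mp (h ▸ le_inf hUS (hUle.trans inf_le_right))
    exact hSnc (isCyclic_of_frob ht2 S Q P hSt (le_sup_left.trans hS') (le_sup_right.trans hS')
      hPQ hQnil hPprime hfpf (hcopα S hSMα) hcQ hcP hF)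

/-- `exists_mul_betaCore_normalizer` with the order of `Q` recorded. -/
theorem exists_mul_betaCore_normalizer' (hG : Cfsg.IsMinSimpleOddOrder G) {H : Subgroup G}
    (hH : IsCoatom H) {q : ℕ} [hq : Fact q.Prime] (hqβ : q ∉ Cfsg.beta H) :
    ∃ Q : Subgroup G, Q ≤ ⁅H, H⁆ ∧ IsPGroup q ↥Q ∧
      Nat.card Q = q ^ (Nat.card ↥⁅H, H⁆).factorization q ∧
      ∀ h ∈ H, ∃ b ∈ Cfsg.piCoreOf (Cfsg.beta H) H,
        ∃ j ∈ H ⊓ Subgroup.normalizer (Q : Set G), h = b * j := by
  obtain ⟨N0, ⟨hN0le, hN0π, hN0idx⟩, hN0nil⟩ := (Cfsg.Agent.S1414.result hG H hH).2.2.1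
  obtain ⟨⟨hβle, hβπ, hβidx⟩, -⟩ := betaCore_hall hG hH
  have hH'H : ⁅H, H⁆ ≤ H := Subgroup.commutator_le_self H
  have hβH' := betaCore_le_commutator hG hH
  obtain ⟨P₀⟩ : Nonempty (Sylow q ↥N0) := inferInstance
  haveI := hN0nil
  haveI hP₀n : (P₀ : Subgroup ↥N0).Normal := inferInstance
  set Q := (P₀ : Subgroup ↥N0).map N0.subtype with hQ
  have hQN0 : Q ≤ N0 := Subgroup.map_subtype_le _
  have hQq : IsPGroup q ↥Q := P₀.2.map _
  have hN0Q : N0 ≤ Subgroup.normalizer (Q : Set G) := by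
    intro n hn
    apply Subgroup.mem_normalizer_fintype
    rintro _ ⟨y, hy, rfl⟩
    exact ⟨⟨n, hn⟩ * y * ⟨n, hn⟩⁻¹, hP₀n.conj_mem y hy _, by simp⟩
  have hqidx : ¬ q ∣ N0.relIndex ⁅H, H⁆ := hN0idx q hq.out ⟨hq.out, hqβ⟩
  have hQcard : Nat.card Q = q ^ (Nat.card ↥⁅H, H⁆).factorization q := by
    rw [hQ, Subgroup.card_map_of_injective (Subgroup.subtype_injective _), P₀.card_eq_multiplicity,
      factorization_eq_of_not_dvd_relIndex hN0le hq.out hqidx]
  refine ⟨Q, hQN0.trans hN0le, hQq, hQcard, ?_⟩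
  have hcop : ((Cfsg.piCoreOf (Cfsg.beta H) H).relIndex ⁅H, H⁆).Coprime
      (N0.relIndex ⁅H, H⁆) := by
    apply Nat.coprime_of_dvd
    intro t ht h1 h2
    by_cases htβ : t ∈ Cfsg.beta H
    · apply hβidx t ht htβ
      rw [← Subgroup.relIndex_mul_relIndex _ _ _ hβH' hH'H]
      exact h1.mul_right _
    · exact hN0idx t ht ⟨ht, htβ⟩ h2
  have hmul := Cfsg.Agent.Helper1.exists_mul_of_coprime_relIndex hcop
  have hfr := frattini_of_card_eq_ppart (H := H) (L := ⁅H, H⁆) (Q := Q)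
    (Subgroup.normalizer_commutator_ge_left H H) (hQN0.trans hN0le) hQq hQcard
  intro h hh
  obtain ⟨c, hc, hch⟩ := hfr h hh
  obtain ⟨b, hb, n, hn, rfl⟩ := hmul c hc
  refine ⟨b, hb, n * ((b * n)⁻¹ * h), ⟨?_, ?_⟩, by group⟩
  · exact H.mul_mem (hH'H (hN0le hn)) (H.mul_mem (H.inv_mem (hH'H hc)) hh)
  · exact Subgroup.mul_mem _ (hN0Q hn) hch

/-- Frattini: `H = H_β N_H(Q)` for every Sylow `q`-subgroup `Q` of `H'`, `q ∉ β(H)`. -/
theorem mul_betaCore_normalizer_of_sylow (hG : Cfsg.IsMinSimpleOddOrder G) {H : Subgroup G}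
    (hH : IsCoatom H) {q : ℕ} [hq : Fact q.Prime] (hqβ : q ∉ Cfsg.beta H) {Q : Subgroup G}
    (hQH' : Q ≤ ⁅H, H⁆) (hQcard : Nat.card Q = q ^ (Nat.card ↥⁅H, H⁆).factorization q) :
    ∀ h ∈ H, ∃ b ∈ Cfsg.piCoreOf (Cfsg.beta H) H,
      ∃ j ∈ H ⊓ Subgroup.normalizer (Q : Set G), h = b * j := by
  obtain ⟨Q₀, hQ₀H', hQ₀q, hQ₀card, hdec⟩ := exists_mul_betaCore_normalizer' hG hH hqβ
  have hH'H : ⁅H, H⁆ ≤ H := Subgroup.commutator_le_self H
  obtain ⟨c, hc, hcQ⟩ := Cfsg.Agent.Lead.exists_conj_le_of_card_eq_ppart hQH' hQcard hQ₀H' hQ₀q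
  have hcQeq : Q₀.map (MulAut.conj c).toMonoidHom = Q :=
    Subgroup.eq_of_le_of_card_ge hcQ (by rw [Cfsg.Agent.Lead.card_map_conj, hQcard, hQ₀card])
  have hcH : c ∈ H := hH'H hc
  have hβn : H ≤ Subgroup.normalizer ((Cfsg.piCoreOf (Cfsg.beta H) H : Subgroup G) : Set G) :=
    le_normalizer_piCoreOf _ H
  intro h hh
  obtain ⟨b, hb, j, ⟨hjH, hjN⟩, hbj⟩ := hdec (c⁻¹ * h * c) (H.mul_mem (H.mul_mem (H.inv_mem hcH) hh) hcH)
  refine ⟨c * b * c⁻¹, (Subgroup.mem_normalizer_iff.mp (hβn hcH) b).mp hb, c * j * c⁻¹,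
    ⟨H.mul_mem (H.mul_mem hcH hjH) (H.inv_mem hcH), ?_⟩, ?_⟩
  · apply Subgroup.mem_normalizer_fintype
    intro x hx
    rw [← hcQeq] at hx ⊢
    obtain ⟨y, hy, rfl⟩ := hx
    refine ⟨j * y * j⁻¹, (Subgroup.mem_normalizer_iff.mp hjN y).mp hy, ?_⟩
    simp only [MulEquiv.coe_toMonoidHom, MulAut.conj_apply]
    group
  · have : h = c * (c⁻¹ * h * c) * c⁻¹ := by group
    rw [this, hbj]; group

/-- **Bender–Glauberman Lemma 12.17(b)**.  If moreover `Q` is a Sylow `q`-subgroup of `M`, then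
`q ∉ α(M)`, `α(M) = β(M)`, `M_α ≠ 1`, `M = M_β N_M(Q)`, and the conclusions of (a) hold. -/
theorem cent_alphaCore_reg_tau1_sylow (hG : Cfsg.IsMinSimpleOddOrder G) {M : Subgroup G}
    (hM : IsCoatom M) {p : ℕ} [hp : Fact p.Prime] (hpτ : p ∈ Cfsg.tau1 M) {P : Subgroup G}
    (hPM : P ≤ M) (hPcard : Nat.card P = p) {q : ℕ} [hq : Fact q.Prime] (hqp : q ≠ p)
    {Q : Subgroup G} (hQM : Q ≤ M) (hQq : IsPGroup q ↥Q) (hQ1 : Q ≠ ⊥)
    (hPQ : P ≤ Subgroup.normalizer (Q : Set G))
    (hfpf : Q ⊓ Subgroup.centralizer (P : Set G) = ⊥)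
    (hQcard : Nat.card Q = q ^ (Nat.card M).factorization q) {L : Subgroup G} (hL : IsCoatom L)
    (hLM : L ≠ M) (hNQ : Subgroup.normalizer (Q : Set G) ≤ L) :
    q ∉ Cfsg.alpha M ∧ (∀ t ∈ Cfsg.alpha M, t ∈ Cfsg.beta M) ∧ Cfsg.alphaCore M ≠ ⊥ ∧
      (∀ m ∈ M, ∃ b ∈ Cfsg.piCoreOf (Cfsg.beta M) M,
        ∃ j ∈ M ⊓ Subgroup.normalizer (Q : Set G), m = b * j) ∧
      Cfsg.alphaCore M ⊓ Subgroup.centralizer (P : Set G) ≠ ⊥ ∧
      Cfsg.alphaCore M ⊓ Subgroup.centralizer ((Q ⊔ P : Subgroup G) : Set G) = ⊥ := by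
  classical
  have hQL : Q ≤ L := Subgroup.le_normalizer.trans hNQ
  -- `q ∉ α(M)`
  have hqα : q ∉ Cfsg.alpha M := by
    intro hqα
    have hqσ := alpha_subset_sigma hG hM hqα
    have hcardG : Nat.card Q = q ^ (Nat.card G).factorization q := by
      rw [hQcard, factorization_eq_of_mem_sigma hG hM hqσ]
    exact hLM (eq_of_sylow_le_of_mem_alpha hG hM hqα (Sylow.ofCard Q hcardG) hQM hL hQL)
  have hqβ : q ∉ Cfsg.beta M := fun h => hqα h.1
  -- `Q ≤ M'`
  have hcopPQ : (Nat.card P).Coprime (Nat.card Q) := by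
    obtain ⟨k, hk⟩ := IsPGroup.iff_card.mp hQq
    rw [hPcard, hk]
    exact Nat.Coprime.pow_right _ ((Nat.coprime_primes hp.out hq.out).mpr hqp.symm)
  have hQcomm : Q ≤ ⁅M, M⁆ := by
    have h1 := coprime_commutator_sup_centralizer P Q hPQ hcopPQ
      (Or.inr (by haveI := hQq.isNilpotent; infer_instance))
    rw [hfpf, sup_bot_eq] at h1
    rw [← h1]
    exact Subgroup.commutator_mono hQM hPM
  have hQcard' : Nat.card Q = q ^ (Nat.card ↥⁅M, M⁆).factorization q :=
    Cfsg.Agent.Lead.card_eq_ppart_of_le hQcomm (Subgroup.commutator_le_self M) hQq hQcard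
  have hdec := mul_betaCore_normalizer_of_sylow hG hM hqβ hQcomm hQcard'
  set Mβ := Cfsg.piCoreOf (Cfsg.beta M) M with hMβ
  set J := M ⊓ Subgroup.normalizer (Q : Set G) with hJ
  have hMβM : Mβ ≤ M := piCoreOf_le _ _
  have hJM : J ≤ M := inf_le_left
  have hJL : J ≤ L := inf_le_right.trans hNQ
  have hsup : Mβ ⊔ J = M := by
    apply le_antisymm (sup_le hMβM hJM)
    intro m hm
    obtain ⟨b, hb, j, hj, rfl⟩ := hdec m hm
    exact Subgroup.mul_mem _ (Subgroup.mem_sup_left hb) (Subgroup.mem_sup_right hj)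
  have hJn : J ≤ Subgroup.normalizer (Mβ : Set G) := hJM.trans (le_normalizer_piCoreOf _ M)
  have hcardmul := card_sup_mul_card_inf (N := Mβ) (A := J) hJn
  rw [hsup] at hcardmul
  -- `α(M) ⊆ β(M)`
  have hαβ : ∀ t ∈ Cfsg.alpha M, t ∈ Cfsg.beta M := by
    intro t htα
    by_contra htβ
    haveI := Fact.mk htα.1
    have htσ := alpha_subset_sigma hG hM htα
    have htMβ : ¬ t ∣ Nat.card Mβ := fun h => htβ (piCoreOf_isPi _ M t htα.1 h)
    have hfac : (Nat.card J).factorization t = (Nat.card M).factorization t := by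
      apply le_antisymm
      · exact (Nat.factorization_le_iff_dvd Nat.card_pos.ne' Nat.card_pos.ne').mpr
          (Subgroup.card_dvd_of_le hJM) t
      · have h1 : (Nat.card M * Nat.card ↥(Mβ ⊓ J)).factorization t =
            (Nat.card Mβ * Nat.card J).factorization t := by rw [hcardmul]
        rw [Nat.factorization_mul Nat.card_pos.ne' Nat.card_pos.ne',
          Nat.factorization_mul Nat.card_pos.ne' Nat.card_pos.ne', Finsupp.add_apply,
          Finsupp.add_apply, Nat.factorization_eq_zero_of_not_dvd htMβ, zero_add] at h1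
        omega
    obtain ⟨R'⟩ : Nonempty (Sylow t ↥J) := inferInstance
    set R : Subgroup G := (R' : Subgroup ↥J).map J.subtype with hR
    have hRJ : R ≤ J := Subgroup.map_subtype_le _
    have hRcard : Nat.card R = t ^ (Nat.card G).factorization t := by
      rw [hR, Subgroup.card_map_of_injective (Subgroup.subtype_injective _),
        R'.card_eq_multiplicity, hfac, factorization_eq_of_mem_sigma hG hM htσ]
    exact hLM (eq_of_sylow_le_of_mem_alpha hG hM htα (Sylow.ofCard R hRcard) (hRJ.trans hJM) hL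
      (hRJ.trans hJL))
  -- `M_α ≠ 1`
  have hα1 : Cfsg.alphaCore M ≠ ⊥ := by
    intro hα
    have hMβ1 : Mβ = ⊥ := by
      rw [← Subgroup.card_eq_one]
      by_contra hcard
      obtain ⟨t, ht, htd⟩ := Nat.exists_prime_and_dvd hcard
      have htβ : t ∈ Cfsg.beta M := piCoreOf_isPi _ M t ht htd
      obtain ⟨⟨hαM, -, hidx⟩, -⟩ := Cfsg.Agent.S1405.result hG M hM
      have htM : t ∣ Nat.card M := htd.trans (Subgroup.card_dvd_of_le hMβM)
      have h1 : Nat.card (Cfsg.alphaCore M) * (Cfsg.alphaCore M).relIndex M = Nat.card M := by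
        rw [← Cfsg.Agent.Lead.card_subgroupOf_of_le hαM]
        exact Subgroup.card_mul_index _
      have hc1 : Nat.card (Cfsg.alphaCore M) = 1 := by rw [hα, Subgroup.card_bot]
      rw [← h1, hc1, one_mul] at htM
      exact hidx t ht htβ.1 htM
    have hMJ : M ≤ J := by
      rw [← hsup, hMβ1, bot_sup_eq]
    exact hLM ((hM.le_iff_eq hL.1).mp (hMJ.trans hJL))
  obtain ⟨h1, h2⟩ := cent_alphaCore_reg_tau1 hG hM hpτ hPM hPcard hQM hQq hQ1 hPQ hfpf hL hLM hNQ
    hα1 hqα
  exact ⟨hqα, hαβ, hα1, hdec, h1, h2⟩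

end bg1217

end Cfsg.Agent.Helper4.BG13
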