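import Mathlib

set_option autoImplicit false

namespace Cfsg.Agent.Helper4

section ClassTwo

variable {G : Type*} [Group G]

theorem twist_mul_pow (u v t : G) (h : v * u = u * v * t) (htu : Commute t u) :
    ∀ k : ℕ, v * u ^ k = u ^ k * v * t ^ k := by
  intro k
  induction k with
  | zero => simp
  | succ k ih =>
    have h1 : t ^ k * u = u * t ^ k := (htu.pow_left k).eq
    calc v * u ^ (k + 1) = (v * u ^ k) * u := by rw [pow_succ, mul_assoc]
      _ = u ^ k * v * t ^ k * u := by rw [ih]
      _ = u ^ k * v * (t ^ k * u) := by rw [mul_assoc]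
      _ = u ^ k * v * (u * t ^ k) := by rw [h1]
      _ = u ^ k * (v * u) * t ^ k := by simp only [mul_assoc]
      _ = u ^ k * (u * v * t) * t ^ k := by rw [h]
      _ = u ^ (k + 1) * v * t ^ (k + 1) := by
        rw [pow_succ u k, pow_succ' t k]; simp only [mul_assoc]

theorem twist_pow_mul (u v t : G) (h : v * u = u * v * t) (htv : Commute t v) :
    ∀ k : ℕ, v ^ k * u = u * v ^ k * t ^ k := by
  intro k
  induction k with
  | zero => simp
  | succ k ih =>
    have h1 : t * v ^ k = v ^ k * t := (htv.pow_right k).eq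
    calc v ^ (k + 1) * u = v * (v ^ k * u) := by rw [pow_succ', mul_assoc]
      _ = v * (u * v ^ k * t ^ k) := by rw [ih]
      _ = (v * u) * v ^ k * t ^ k := by simp only [mul_assoc]
      _ = u * v * t * v ^ k * t ^ k := by rw [h]
      _ = u * v * (t * v ^ k) * t ^ k := by simp only [mul_assoc]
      _ = u * v * (v ^ k * t) * t ^ k := by rw [h1]
      _ = u * v ^ (k + 1) * t ^ (k + 1) := by
        rw [pow_succ' v k, pow_succ' t k]; simp only [mul_assoc]

theorem twist_mul_pow_choose (u v t : G) (h : v * u = u * v * t) (htu : Commute t u)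
    (htv : Commute t v) : ∀ n : ℕ, (u * v) ^ n = u ^ n * v ^ n * t ^ (n.choose 2) := by
  intro n
  induction n with
  | zero => simp
  | succ n ih =>
    have h1 : t ^ (n.choose 2) * u = u * t ^ (n.choose 2) := (htu.pow_left _).eq
    have h2 : v ^ n * u = u * v ^ n * t ^ n := twist_pow_mul u v t h htv n
    have h3 : t ^ (n + n.choose 2) * v = v * t ^ (n + n.choose 2) := (htv.pow_left _).eq
    have hch : (n + 1).choose 2 = n + n.choose 2 := by
      rw [Nat.choose_succ_succ, Nat.choose_one_right]
    calc (u * v) ^ (n + 1) = (u * v) ^ n * (u * v) := pow_succ _ _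
      _ = u ^ n * v ^ n * t ^ (n.choose 2) * (u * v) := by rw [ih]
      _ = u ^ n * v ^ n * (t ^ (n.choose 2) * u) * v := by simp only [mul_assoc]
      _ = u ^ n * v ^ n * (u * t ^ (n.choose 2)) * v := by rw [h1]
      _ = u ^ n * (v ^ n * u) * t ^ (n.choose 2) * v := by simp only [mul_assoc]
      _ = u ^ n * (u * v ^ n * t ^ n) * t ^ (n.choose 2) * v := by rw [h2]
      _ = u ^ n * u * v ^ n * (t ^ (n + n.choose 2) * v) := by
        rw [pow_add]; simp only [mul_assoc]
      _ = u ^ n * u * v ^ n * (v * t ^ (n + n.choose 2)) := by rw [h3]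
      _ = u ^ (n + 1) * v ^ (n + 1) * t ^ ((n + 1).choose 2) := by
        rw [hch, pow_succ u n, pow_succ v n]; simp only [mul_assoc]

end ClassTwo

end Cfsg.Agent.Helper4
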