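import Mathlib
import Cfsg.Prelude
import Cfsg.Agent.Helper4.BG13b
import Cfsg.Agent.Helper2.T36b
import Cfsg.Agent.Helper1.Hall
import Cfsg.Agent.Lead.BG13iii

set_option autoImplicit false

/-!
Bender–Glauberman Lemma 13.6 (`tau1_mmaxI_asymmetry`).
-/

namespace Cfsg.Agent.Helper4.BG13

open Cfsg Cfsg.Agent.Helper1 Cfsg.Agent.Helper2 Cfsg.Agent.Helper1.BGT Cfsg.Agent.Helper1.BGU
  Cfsg.Agent.Helper1.BGV Cfsg.Agent.Helper1.BGW Cfsg.Agent.Helper1.BGX Cfsg.Agent.Lead.BG12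
  Cfsg.Agent.Lead.BG108 Cfsg.Agent.Helper4.BG10 Cfsg.Agent.Helper4.BG12
open scoped commutatorElement Pointwise

universe u

variable {G : Type u} [Group G] [Finite G]

/-- A `π`-subgroup of `M` lies in a normal subgroup `N` of `M` whose index involves no prime
of `π`. -/
theorem le_of_isPi_of_hall {π : Set ℕ} {N M Y : Subgroup G}
    (hMN : M ≤ Subgroup.normalizer (N : Set G))
    (hidx : ∀ t : ℕ, t.Prime → t ∈ π → ¬ t ∣ N.relIndex M) (hYM : Y ≤ M)
    (hY : ∀ t : ℕ, t.Prime → t ∣ Nat.card Y → t ∈ π) : Y ≤ N := by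
  have hcop : (Nat.card Y).Coprime (N.relIndex M) := by
    apply Nat.coprime_of_dvd
    intro t ht h1 h2
    exact hidx t ht (hY t ht h1) h2
  intro y hy
  apply mem_of_pow_eq_one_of_coprime_relIndex hMN hcop (hYM hy)
  have h1 : (⟨y, hy⟩ : ↥Y) ^ Nat.card ↥Y = 1 := pow_card_eq_one'
  have h2 := congrArg Subtype.val h1
  simp only [Subgroup.coe_pow, Subgroup.coe_one] at h2
  exact h2

/-- A Sylow `q`-subgroup `Q` of `D ≤ M` with `N_M(Q) ≤ D` is a Sylow `q`-subgroup of `M`. -/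
theorem card_eq_ppart_of_normalizer_inf_le {M D Q : Subgroup G} {q : ℕ} [hq : Fact q.Prime]
    (hDM : D ≤ M) (hQD : Q ≤ D) (hQq : IsPGroup q ↥Q)
    (hQcard : Nat.card Q = q ^ (Nat.card D).factorization q)
    (hN : M ⊓ Subgroup.normalizer (Q : Set G) ≤ D) :
    Nat.card Q = q ^ (Nat.card M).factorization q := by
  obtain ⟨T, hQT, hTM, hTq, hTcard⟩ := Cfsg.Agent.Lead.exists_le_card_eq_ppart hQq (hQD.trans hDM)
  by_cases hQT' : Q = T
  · rw [hQT']; exact hTcard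
  exfalso
  obtain ⟨x, hxT, hxQ, hxN⟩ := exists_normalizing_of_lt hTq (lt_of_le_of_ne hQT hQT')
  -- the `q`-subgroup `T ∩ N(Q)` of `D` properly contains `Q`
  set K := T ⊓ Subgroup.normalizer (Q : Set G) with hK
  have hKD : K ≤ D := fun y hy => hN ⟨hTM hy.1, hy.2⟩
  have hKq : IsPGroup q ↥K := hTq.to_le inf_le_left
  have hQK : Q ≤ K := le_inf hQT Subgroup.le_normalizer
  have h1 : Nat.card K ∣ Nat.card Q := hQcard ▸ Cfsg.Agent.Lead.card_dvd_ppart_of_isPGroup hKq hKD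
  have h2 : K = Q := (Subgroup.eq_of_le_of_card_ge hQK (Nat.le_of_dvd Nat.card_pos h1)).symm
  exact hxQ (h2 ▸ (⟨hxT, hxN⟩ : x ∈ K))

/-- In a group `D` of `p`-rank at most one, two subgroups of order `p` are conjugate. -/
theorem exists_conj_eq_of_card_prime (hodd : Odd (Nat.card G)) {D P₁ P₂ : Subgroup G} {p : ℕ}
    [hp : Fact p.Prime] (hr : Cfsg.PRankLE p 1 ↥D) (hP₁ : P₁ ≤ D) (hP₂ : P₂ ≤ D)
    (hc₁ : Nat.card P₁ = p) (hc₂ : Nat.card P₂ = p) :
    ∃ d ∈ D, P₁.map (MulAut.conj d).toMonoidHom = P₂ := by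
  have hP₂p : IsPGroup p ↥P₂ := IsPGroup.of_card (n := 1) (by rw [hc₂, pow_one])
  have hP₁p : IsPGroup p ↥P₁ := IsPGroup.of_card (n := 1) (by rw [hc₁, pow_one])
  obtain ⟨T, hP₂T, hTD, hTp, hTcard⟩ := Cfsg.Agent.Lead.exists_le_card_eq_ppart hP₂p hP₂
  obtain ⟨d, hd, hdT⟩ := Cfsg.Agent.Lead.exists_conj_le_of_card_eq_ppart hTD hTcard hP₁ hP₁p
  refine ⟨d, hd, ?_⟩
  have hTc : IsCyclic ↥T := isCyclic_of_pRankLE_one hodd hr hTD hTp
  have hP₂1 : P₂ ≠ ⊥ := by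
    intro h
    rw [h, Subgroup.card_bot] at hc₂
    exact hp.out.one_lt.ne hc₂
  apply Subgroup.eq_of_le_of_card_ge
  · intro x hx
    haveI := hTc
    have hxT : x ∈ T := hdT hx
    have hxp : x ^ p = 1 := by
      obtain ⟨y, hy, rfl⟩ := hx
      rw [← map_pow]
      have : y ^ p = 1 := by
        have h1 : (⟨y, hy⟩ : ↥P₁) ^ Nat.card ↥P₁ = 1 := pow_card_eq_one'
        rw [hc₁] at h1
        simpa using congrArg Subtype.val h1
      rw [this, map_one]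
    have h0 : P₂.subgroupOf T ≠ ⊥ := by
      intro h
      rw [Subgroup.subgroupOf_eq_bot, disjoint_iff, inf_eq_left.mpr hP₂T] at h
      exact hP₂1 h
    have hx' : (⟨x, hxT⟩ : ↥T) ^ p = 1 := Subtype.ext (by simpa using hxp)
    have := mem_of_pow_eq_one_of_isCyclic hTp h0 hx'
    exact Subgroup.mem_subgroupOf.mp this
  · rw [Cfsg.Agent.Lead.card_map_conj, hc₁, hc₂]

/-- `C(Q) ⊓ C(P) ≤ C(Q ⊔ P)`. -/
theorem mem_centralizer_sup {Q P : Subgroup G} {y : G}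
    (hQ : y ∈ Subgroup.centralizer (Q : Set G)) (hP : y ∈ Subgroup.centralizer (P : Set G)) :
    y ∈ Subgroup.centralizer ((Q ⊔ P : Subgroup G) : Set G) := by
  have h1 : Q ⊔ P ≤ Subgroup.centralizer ({y} : Set G) := by
    apply sup_le
    · intro g hg
      rw [Subgroup.mem_centralizer_singleton_iff]
      exact ((Subgroup.mem_centralizer_iff.mp hQ) g hg)
    · intro g hg
      rw [Subgroup.mem_centralizer_singleton_iff]
      exact ((Subgroup.mem_centralizer_iff.mp hP) g hg)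
  rw [Subgroup.mem_centralizer_iff]
  intro g hg
  exact (Subgroup.mem_centralizer_singleton_iff.mp (h1 hg))

/-- **Z-group lemma.**  `Z` with cyclic Sylow subgroups, acted on coprimely by `QP` with
`Q ≤ (QP)'` and `C_Z(QP) = 1`.  Then `C_Z(P) = 1`. -/
theorem inf_centralizer_eq_bot_of_cyclic_sylows {Z Q P : Subgroup G}
    (hQZ : Q ≤ Subgroup.normalizer (Z : Set G)) (hPZ : P ≤ Subgroup.normalizer (Z : Set G))
    (hQcomm : Q ≤ ⁅Q ⊔ P, Q ⊔ P⁆)
    (hcop : (Nat.card ↥(Q ⊔ P)).Coprime (Nat.card Z)) (hsolv : Group.IsSolvable ↥Z)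
    (hcyc : ∀ (t : ℕ) [Fact t.Prime] (T : Subgroup G), T ≤ Z → IsPGroup t ↥T → IsCyclic ↥T)
    (hfix : Z ⊓ Subgroup.centralizer ((Q ⊔ P : Subgroup G) : Set G) = ⊥) :
    Z ⊓ Subgroup.centralizer (P : Set G) = ⊥ := by
  by_contra hne
  have hcard : Nat.card ↥(Z ⊓ Subgroup.centralizer (P : Set G)) ≠ 1 :=
    fun h => hne (Subgroup.card_eq_one.mp h)
  obtain ⟨t, ht, htd⟩ := Nat.exists_prime_and_dvd hcard
  haveI := Fact.mk ht
  obtain ⟨x', hx'⟩ := exists_prime_orderOf_dvd_card' (G := ↥(Z ⊓ Subgroup.centralizer (P : Set G)))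
    t htd
  set x : G := (x' : G) with hx
  have hxord : orderOf x = t := by rw [hx, Subgroup.orderOf_coe]; exact hx'
  have hxZ : x ∈ Z := x'.2.1
  have hxP : x ∈ Subgroup.centralizer (P : Set G) := x'.2.2
  set U := Subgroup.zpowers x with hU
  have hUZ : U ≤ Z := Subgroup.zpowers_le.mpr hxZ
  have hUt : IsPGroup t ↥U := by
    rw [IsPGroup.iff_card, Nat.card_zpowers, hxord]
    exact ⟨1, (pow_one t).symm⟩
  have hUn : P ≤ Subgroup.normalizer (U : Set G) := by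
    intro g hg
    apply Subgroup.mem_normalizer_fintype
    intro u hu
    obtain ⟨n, rfl⟩ := Subgroup.mem_zpowers_iff.mp hu
    have hc : g * x = x * g := (Subgroup.mem_centralizer_iff.mp hxP g hg)
    have : g * x ^ n * g⁻¹ = x ^ n := by
      rw [mul_inv_eq_iff_eq_mul]
      exact (Commute.zpow_right (show Commute g x from hc) n).eq
    rw [this]; exact hu
  have hcopP : (Nat.card P).Coprime (Nat.card Z) :=
    hcop.coprime_dvd_left (Subgroup.card_dvd_of_le le_sup_right)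
  obtain ⟨S1, hUS1, hS1⟩ := exists_invariant_sylow_ge (p := t) P Z hPZ hcopP (Or.inr hsolv) U hUZ
    hUt hUn
  obtain ⟨S, hS⟩ := exists_invariant_sylow (p := t) (Q ⊔ P) Z (sup_le hQZ hPZ) hcop
    (Or.inr hsolv)
  obtain ⟨k, hk, hk'⟩ := exists_conj_sylow_map Z S S1
  obtain ⟨c, hc, hc'⟩ := glauberman_conj_subgroup P Z hPZ hcopP (Or.inr hsolv) _ _
    (fun a ha => conj_smul_eq_of_mem_normalizer ((le_sup_right.trans hS) ha))
    (fun a ha => conj_smul_eq_of_mem_normalizer (hS1 ha)) k hk hk'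
  set T : Subgroup G := (S : Subgroup ↥Z).map Z.subtype with hT
  have hTZ : T ≤ Z := Subgroup.map_subtype_le _
  have hTt : IsPGroup t ↥T := S.2.map _
  have hTc : IsCyclic ↥T := hcyc t T hTZ hTt
  have hxS1 : x ∈ MulAut.conj c • T := by
    rw [hc']; exact hUS1 (Subgroup.mem_zpowers x)
  rw [Subgroup.mem_pointwise_smul_iff_inv_smul_mem] at hxS1
  set y : G := c⁻¹ * x * c with hy
  have hyT : y ∈ T := by
    have : (MulAut.conj c)⁻¹ • x = y := by
      rw [hy, ← map_inv, MulAut.smul_def, MulAut.conj_apply, inv_inv]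
    rw [← this]; exact hxS1
  have hyP : y ∈ Subgroup.centralizer (P : Set G) :=
    Subgroup.mul_mem _ (Subgroup.mul_mem _ (Subgroup.inv_mem _ hc.2) hxP) hc.2
  have hQT : Q ≤ Subgroup.centralizer (T : Set G) :=
    hQcomm.trans (Cfsg.Agent.Helper2.T36.commutator_le_centralizer_of_isCyclic T (Q ⊔ P) hTc hS)
  have hyQ : y ∈ Subgroup.centralizer (Q : Set G) := by
    rw [Subgroup.mem_centralizer_iff]
    intro g hg
    exact ((Subgroup.mem_centralizer_iff.mp (hQT hg)) y hyT).symm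
  have hy1 : y = 1 := by
    have : y ∈ Z ⊓ Subgroup.centralizer ((Q ⊔ P : Subgroup G) : Set G) :=
      ⟨hTZ hyT, mem_centralizer_sup hyQ hyP⟩
    rw [hfix, Subgroup.mem_bot] at this
    exact this
  have hx1 : x = 1 := by
    have : x = c * y * c⁻¹ := by rw [hy]; group
    rw [this, hy1]; group
  rw [hx1, orderOf_one] at hxord
  exact ht.one_lt.ne hxord

/-- One side of the asymmetry lemma: consequences of BG 12.17(b) for `(M, P, Q)` with
`N(Q) ≤ M*`. -/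
theorem asym_side (hG : Cfsg.IsMinSimpleOddOrder G) {M Ms : Subgroup G} (hM : IsCoatom M)
    (hMs : IsCoatom Ms) (hne : Ms ≠ M) {p : ℕ} [hp : Fact p.Prime] (hpτ : p ∈ Cfsg.tau1 M)
    {P : Subgroup G} (hPD : P ≤ M ⊓ Ms) (hPcard : Nat.card P = p) {q : ℕ} [hq : Fact q.Prime]
    (hqp : q ≠ p) {Q : Subgroup G} (hQD : Q ≤ M ⊓ Ms) (hQq : IsPGroup q ↥Q)
    (hQcard : Nat.card Q = q ^ (Nat.card ↥(M ⊓ Ms)).factorization q)
    (hPQ : P ≤ Subgroup.normalizer (Q : Set G))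
    (hfpf : Q ⊓ Subgroup.centralizer (P : Set G) = ⊥)
    (hNQ : Subgroup.normalizer (Q : Set G) ≤ Ms) :
    (∀ t ∈ Cfsg.alpha M, t ∈ Cfsg.beta M) ∧
      (∀ m ∈ M, ∃ b ∈ Cfsg.piCoreOf (Cfsg.beta M) M, ∃ d ∈ M ⊓ Ms, m = b * d) ∧
      Cfsg.alphaCore M ⊓ Subgroup.centralizer (P : Set G) ≠ ⊥ ∧
      (Cfsg.piCoreOf (Cfsg.beta M) M ⊓ Ms) ⊓ Subgroup.centralizer (P : Set G) = ⊥ := by
  classical
  have hPM : P ≤ M := hPD.trans inf_le_left
  have hQM : Q ≤ M := hQD.trans inf_le_left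
  have hQ1 : Q ≠ ⊥ := by
    rintro rfl
    have : (⊤ : Subgroup G) ≤ Ms := by
      refine le_trans ?_ hNQ
      intro g _
      rw [Subgroup.mem_normalizer_iff]
      intro h
      simp only [Subgroup.mem_bot]
      constructor
      · rintro rfl; group
      · intro h1
        have : h = g⁻¹ * (g * h * g⁻¹) * g := by group
        rw [this, h1]; group
    exact hMs.1 (top_le_iff.mp this)
  have hQcardM : Nat.card Q = q ^ (Nat.card M).factorization q :=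
    card_eq_ppart_of_normalizer_inf_le inf_le_left hQD hQq hQcard
      (fun x hx => ⟨hx.1, hNQ hx.2⟩)
  obtain ⟨hqα, hαβ, hα1, hdec, hY, hfix⟩ := cent_alphaCore_reg_tau1_sylow hG hM hpτ hPM hPcard hqp
    hQM hQq hQ1 hPQ hfpf hQcardM hMs hne hNQ
  refine ⟨hαβ, ?_, hY, ?_⟩
  · intro m hm
    obtain ⟨b, hb, j, hj, rfl⟩ := hdec m hm
    exact ⟨b, hb, j, ⟨hj.1, hNQ hj.2⟩, rfl⟩
  · obtain ⟨-, hpσ, hpM, -, hpr⟩ := hpτ
    set Mβ := Cfsg.piCoreOf (Cfsg.beta M) M with hMβ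
    have hMβM : Mβ ≤ M := piCoreOf_le _ _
    have hMβn : M ≤ Subgroup.normalizer (Mβ : Set G) := le_normalizer_piCoreOf _ M
    have hMβα : Mβ ≤ Cfsg.alphaCore M := by
      have : Mβ ≤ Cfsg.piCoreOf (Cfsg.alpha M) M :=
        le_piCoreOf hMβM hMβn (fun t ht hd => (piCoreOf_isPi _ M t ht hd).1)
      exact this
    set Z := Mβ ⊓ Ms with hZ
    have hDZ : M ⊓ Ms ≤ Subgroup.normalizer (Z : Set G) :=
      le_normalizer_inf (inf_le_left.trans hMβn) (inf_le_right.trans Subgroup.le_normalizer)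
    have hcopPQ : (Nat.card P).Coprime (Nat.card Q) := by
      obtain ⟨k, hk⟩ := IsPGroup.iff_card.mp hQq
      rw [hPcard, hk]
      exact Nat.Coprime.pow_right _ ((Nat.coprime_primes hp.out hq.out).mpr hqp.symm)
    have hQcomm : Q ≤ ⁅Q ⊔ P, Q ⊔ P⁆ := by
      have h1 := coprime_commutator_sup_centralizer P Q hPQ hcopPQ
        (Or.inr (by haveI := hQq.isNilpotent; infer_instance))
      rw [hfpf, sup_bot_eq] at h1
      calc Q = ⁅Q, P⁆ := h1.symm
        _ ≤ ⁅Q ⊔ P, Q ⊔ P⁆ := Subgroup.commutator_mono le_sup_left le_sup_right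
    have hZβ : ∀ t : ℕ, t.Prime → t ∣ Nat.card Z → t ∈ Cfsg.beta M := fun t ht hd =>
      piCoreOf_isPi _ M t ht (hd.trans (Subgroup.card_dvd_of_le inf_le_left))
    have hcop : (Nat.card ↥(Q ⊔ P)).Coprime (Nat.card Z) := by
      by_contra h
      obtain ⟨t, ht, hta, htb⟩ := Nat.Prime.not_coprime_iff_dvd.mp h
      have htβ := hZβ t ht htb
      have h1 := card_sup_mul_card_inf (N := Q) (A := P) hPQ
      have h2 : t ∣ Nat.card Q * Nat.card P := h1 ▸ Dvd.dvd.mul_right hta _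
      rcases (Nat.Prime.dvd_mul ht).mp h2 with h | h
      · obtain ⟨k, hk⟩ := IsPGroup.iff_card.mp hQq
        rw [hk] at h
        have := (Nat.prime_dvd_prime_iff_eq ht hq.out).mp (ht.dvd_of_dvd_pow h)
        exact hqα (this ▸ htβ.1)
      · rw [hPcard] at h
        have := (Nat.prime_dvd_prime_iff_eq ht hp.out).mp h
        exact hpσ (mem_sigma_of_mem_beta hG hM (this ▸ htβ))
    have hsolv : Group.IsSolvable ↥Z := by
      haveI : Group.IsSolvable ↥M := hG.2.2.2 M hM.1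
      exact isSolvable_of_le (inf_le_left.trans hMβM) inferInstance
    have hcyc : ∀ (t : ℕ) [Fact t.Prime] (T : Subgroup G), T ≤ Z → IsPGroup t ↥T →
        IsCyclic ↥T := by
      intro t ht T hTZ hTt
      by_cases hT1 : T = ⊥
      · rw [hT1]; infer_instance
      have htd : t ∣ Nat.card T := dvd_card_of_isPGroup_ne_bot hTt hT1
      have htβ : t ∈ Cfsg.beta M := hZβ t ht.out (htd.trans (Subgroup.card_dvd_of_le hTZ))
      obtain ⟨w', hw'⟩ := exists_prime_orderOf_dvd_card' (G := ↥T) t htd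
      have hword : orderOf (w' : G) = t := by rw [Subgroup.orderOf_coe]; exact hw'
      have hw1 : (w' : G) ≠ 1 := by
        intro h
        rw [h, orderOf_one] at hword
        exact ht.out.one_lt.ne hword
      have hwt : (w' : G) ^ t = 1 := by rw [← hword]; exact pow_orderOf_eq_one _
      have hwZ : (w' : G) ∈ Z := hTZ w'.2
      have htσ : t ∉ Cfsg.sigma Ms :=
        not_mem_sigma_of_mem_beta_of_mem hG hM hMs hne htβ (hMβM hwZ.1) hwZ.2 hw1 hwt
      have hr1 : Cfsg.PRankLE t 1 ↥Ms :=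
        pRankLE_one_of_ideal_of_not_mem_sigma hG hMs htβ.2 htσ
      exact isCyclic_of_pRankLE_one hG.1 hr1 (hTZ.trans inf_le_right) hTt
    apply inf_centralizer_eq_bot_of_cyclic_sylows ((hQD.trans hDZ)) (hPD.trans hDZ) hQcomm hcop
      hsolv hcyc
    apply le_bot_iff.mp
    rw [← hfix]
    exact inf_le_inf_right _ (inf_le_left.trans hMβα)

/-- `C_M(P)` contains no element of prime order `t ∈ β(M*)` (step (ii) of the asymmetry lemma). -/
theorem false_of_mem_centralizer_of_beta (hG : Cfsg.IsMinSimpleOddOrder G) {M Ms : Subgroup G}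
    (hM : IsCoatom M) (hMs : IsCoatom Ms) (hnc : ∀ g : G, Ms ≠ MulAut.conj g • M) {p : ℕ}
    [hp : Fact p.Prime] (hpτ : p ∈ Cfsg.tau1 M) {P : Subgroup G} (hPD : P ≤ M ⊓ Ms)
    (hPcard : Nat.card P = p)
    (hdec : ∀ m ∈ M, ∃ b ∈ Cfsg.piCoreOf (Cfsg.beta M) M, ∃ d ∈ M ⊓ Ms, m = b * d)
    (hZs : (Cfsg.piCoreOf (Cfsg.beta Ms) Ms ⊓ M) ⊓ Subgroup.centralizer (P : Set G) = ⊥)
    {x : G} (hxM : x ∈ M) (hxP : x ∈ Subgroup.centralizer (P : Set G)) {t : ℕ}
    (hxt : orderOf x = t) (htβ : t ∈ Cfsg.beta Ms) : False := by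
  classical
  obtain ⟨-, hpσ, hpM, -, hpr⟩ := hpτ
  have ht : t.Prime := htβ.1.1
  haveI := Fact.mk ht
  have hPM : P ≤ M := hPD.trans inf_le_left
  set Mβ := Cfsg.piCoreOf (Cfsg.beta M) M with hMβ
  have hMβM : Mβ ≤ M := piCoreOf_le _ _
  have hMβn : M ≤ Subgroup.normalizer (Mβ : Set G) := le_normalizer_piCoreOf _ M
  set X := Subgroup.zpowers x with hX
  have hXM : X ≤ M := Subgroup.zpowers_le.mpr hxM
  have hXcard : Nat.card X = t := by rw [hX, Nat.card_zpowers, hxt]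
  have hPX : P ≤ Subgroup.normalizer (X : Set G) := by
    intro g hg
    apply Subgroup.mem_normalizer_fintype
    intro u hu
    obtain ⟨n, rfl⟩ := Subgroup.mem_zpowers_iff.mp hu
    have hc : g * x = x * g := (Subgroup.mem_centralizer_iff.mp hxP g hg)
    have : g * x ^ n * g⁻¹ = x ^ n := by
      rw [mul_inv_eq_iff_eq_mul]
      exact (Commute.zpow_right (show Commute g x from hc) n).eq
    rw [this]; exact hu
  have hcopY : (Nat.card ↥(X ⊔ P)).Coprime (Nat.card Mβ) := by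
    by_contra h
    obtain ⟨s, hs, hsa, hsb⟩ := Nat.Prime.not_coprime_iff_dvd.mp h
    have hsβ : s ∈ Cfsg.beta M := piCoreOf_isPi _ M s hs hsb
    have h1 := card_sup_mul_card_inf (N := X) (A := P) hPX
    have h2 : s ∣ Nat.card X * Nat.card P := h1 ▸ Dvd.dvd.mul_right hsa _
    rcases (Nat.Prime.dvd_mul hs).mp h2 with h | h
    · rw [hXcard] at h
      have := (Nat.prime_dvd_prime_iff_eq hs ht).mp h
      exact Cfsg.Agent.Helper4.BG11.not_mem_alpha_of_mem_sigma_of_not_conj hG hM hMs hnc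
        (mem_sigma_of_mem_beta hG hM hsβ) (this ▸ htβ.1)
    · rw [hPcard] at h
      have := (Nat.prime_dvd_prime_iff_eq hs hp.out).mp h
      exact hpσ (mem_sigma_of_mem_beta hG hM (this ▸ hsβ))
  obtain ⟨⟨hle, hπ, hidx⟩, -⟩ := betaCore_hall hG hM
  have hcop : (Mβ.relIndex M).Coprime (Nat.card Mβ) := by
    apply Nat.coprime_of_dvd
    intro s hs h1 h2
    exact hidx s hs (hπ s hs h2) h1
  have hsol : Group.IsSolvable ↥M := hG.2.2.2 M hM.1
  obtain ⟨m, hm, hmY⟩ := exists_conj_le_of_coprime_of_mul hsol hMβM hMβn hcop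
    (inf_le_left : M ⊓ Ms ≤ M) hdec (sup_le hXM hPM) hcopY
  -- `P₁ = m P m⁻¹ ≤ D`
  set P₁ : Subgroup G := P.map (MulAut.conj m).toMonoidHom with hP₁
  have hP₁D : P₁ ≤ M ⊓ Ms := by
    rintro _ ⟨g, hg, rfl⟩
    apply hmY
    exact Subgroup.smul_mem_pointwise_smul g (MulAut.conj m) _ (Subgroup.mem_sup_right hg)
  have hx₁D : m * x * m⁻¹ ∈ M ⊓ Ms := by
    apply hmY
    have := Subgroup.smul_mem_pointwise_smul x (MulAut.conj m) _
      (Subgroup.mem_sup_left (Subgroup.mem_zpowers x) : x ∈ X ⊔ P)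
    simpa [MulAut.smul_def] using this
  have hrD : Cfsg.PRankLE p 1 ↥(M ⊓ Ms) :=
    Cfsg.Agent.Helper1.Rank2Fitting.pRankLE_of_le inf_le_left hpr
  obtain ⟨d, hd, hdP⟩ := exists_conj_eq_of_card_prime hG.1 hrD hP₁D hPD
    (by rw [hP₁, Cfsg.Agent.Lead.card_map_conj, hPcard]) hPcard
  set x₂ : G := d * (m * x * m⁻¹) * d⁻¹ with hx₂
  have hx₂D : x₂ ∈ M ⊓ Ms :=
    Subgroup.mul_mem _ (Subgroup.mul_mem _ hd hx₁D) (Subgroup.inv_mem _ hd)
  have hx₂P : x₂ ∈ Subgroup.centralizer (P : Set G) := by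
    rw [Subgroup.mem_centralizer_iff]
    intro g hg
    rw [← hdP] at hg
    obtain ⟨_, ⟨g₀, hg₀, rfl⟩, rfl⟩ := hg
    have hc : g₀ * x = x * g₀ := (Subgroup.mem_centralizer_iff.mp hxP g₀ hg₀)
    simp only [MulEquiv.coe_toMonoidHom, MulAut.conj_apply, hx₂]
    calc d * (m * g₀ * m⁻¹) * d⁻¹ * (d * (m * x * m⁻¹) * d⁻¹)
        = d * (m * (g₀ * x) * m⁻¹) * d⁻¹ := by group
      _ = d * (m * (x * g₀) * m⁻¹) * d⁻¹ := by rw [hc]
      _ = d * (m * x * m⁻¹) * d⁻¹ * (d * (m * g₀ * m⁻¹) * d⁻¹) := by group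
  have hx₂ord : orderOf x₂ = t := by
    have h1 : x₂ = (d * m) * x * (d * m)⁻¹ := by rw [hx₂]; group
    rw [h1, ← hxt]
    exact orderOf_injective (MulAut.conj (d * m)).toMonoidHom (MulAut.conj (d * m)).injective x
  obtain ⟨⟨hles, hπs, hidxs⟩, -⟩ := betaCore_hall hG hMs
  have hx₂β : x₂ ∈ Cfsg.piCoreOf (Cfsg.beta Ms) Ms := by
    have hle : Subgroup.zpowers x₂ ≤ Cfsg.piCoreOf (Cfsg.beta Ms) Ms := by
      apply le_of_isPi_of_hall (π := Cfsg.beta Ms) (le_normalizer_piCoreOf _ Ms) hidxs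
        (Subgroup.zpowers_le.mpr hx₂D.2)
      intro s hs hd
      rw [Nat.card_zpowers, hx₂ord] at hd
      have := (Nat.prime_dvd_prime_iff_eq hs ht).mp hd
      exact this ▸ htβ
    exact hle (Subgroup.mem_zpowers x₂)
  have h1 : x₂ ∈ (Cfsg.piCoreOf (Cfsg.beta Ms) Ms ⊓ M) ⊓ Subgroup.centralizer (P : Set G) :=
    ⟨⟨hx₂β, hx₂D.1⟩, hx₂P⟩
  rw [hZs, Subgroup.mem_bot] at h1
  rw [h1, orderOf_one] at hx₂ord
  exact ht.one_lt.ne hx₂ord

/-- A normalized subgroup `N` of `W` lies in every subgroup `Y` of `W` whose index is prime to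
`|N|`. -/
theorem le_of_normal_of_coprime_index {W N Y : Subgroup G} (hNW : N ≤ W)
    (hWN : W ≤ Subgroup.normalizer (N : Set G)) (hYW : Y ≤ W) {k : ℕ}
    (hcard : Nat.card W = Nat.card Y * k) (hcop : (Nat.card N).Coprime k) : N ≤ Y := by
  have h1 := card_sup_mul_card_inf (N := N) (A := Y) (hYW.trans hWN)
  obtain ⟨j, hj⟩ := Subgroup.card_dvd_of_le (le_sup_right : Y ≤ N ⊔ Y)
  have h3 : Nat.card ↥(N ⊔ Y) ∣ Nat.card W := Subgroup.card_dvd_of_le (sup_le hNW hYW)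
  have hYpos : 0 < Nat.card Y := Nat.card_pos
  have hjk : j ∣ k := by
    rw [hj, hcard] at h3
    exact Nat.dvd_of_mul_dvd_mul_left hYpos h3
  have hjN : j * Nat.card ↥(N ⊓ Y) = Nat.card N := by
    rw [hj] at h1
    have : Nat.card Y * (j * Nat.card ↥(N ⊓ Y)) = Nat.card Y * Nat.card N := by
      rw [← mul_assoc, h1, mul_comm]
    exact Nat.eq_of_mul_eq_mul_left hYpos this
  have hj1 : j = 1 := by
    have : j ∣ Nat.gcd (Nat.card N) k := Nat.dvd_gcd (Dvd.intro _ hjN) hjk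
    rw [hcop] at this
    exact Nat.dvd_one.mp this
  rw [hj1, one_mul] at hjN
  have : N ⊓ Y = N := Subgroup.eq_of_le_of_card_ge inf_le_left hjN.ge
  exact this ▸ inf_le_right

/-- Two Hall subgroups `Y`, `Z` of coprime orders of a solvable group `C`: after conjugating by
some `c ∈ C`, they generate a Hall subgroup `W = Y (c Z c⁻¹)`, whose minimal normal subgroup lies
in `Y` or in `c Z c⁻¹`. -/
theorem exists_conj_normalizer_of_hall_pair {C Y Z : Subgroup G} (hsol : Group.IsSolvable ↥C)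
    (hYC : Y ≤ C) (hZC : Z ≤ C) (hY1 : Y ≠ ⊥) {n : ℕ}
    (hcard : Nat.card C = Nat.card Y * Nat.card Z * n)
    (hYZ : (Nat.card Y).Coprime (Nat.card Z)) (hYn : (Nat.card Y).Coprime n)
    (hZn : (Nat.card Z).Coprime n) :
    ∃ c ∈ C, ∃ N : Subgroup G, N ≠ ⊥ ∧
      ((N ≤ Y ∧ MulAut.conj c • Z ≤ Subgroup.normalizer (N : Set G)) ∨
        (N ≤ Z ∧ MulAut.conj c⁻¹ • Y ≤ Subgroup.normalizer (N : Set G))) := by
  classical
  haveI := hsol
  have hC := Cfsg.Agent.Helper1.hallProp_of_solvable _ ↥C rfl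
  -- a Hall subgroup `W ⊇ Y` of order `|Y||Z|`
  obtain ⟨W, hWC, hWcard, hYW⟩ := (hC.internal (Nat.card Y * Nat.card Z) n hcard
    (Nat.Coprime.mul_left hYn hZn)).2 Y hYC hYn
  have hWsol : Group.IsSolvable ↥W := isSolvable_of_le hWC hsol
  haveI := hWsol
  have hW := Cfsg.Agent.Helper1.hallProp_of_solvable _ ↥W rfl
  -- a subgroup `H ≤ W` of order `|Z|`
  obtain ⟨H, hHW, hHcard, -⟩ := (hW.internal (Nat.card Z) (Nat.card Y)
    (by rw [hWcard, mul_comm]) hYZ.symm).2 ⊥ bot_le (by simp)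
  -- `H` is conjugate to `Z` in `C`
  obtain ⟨c, hc, hcZ⟩ := (hC.internal (Nat.card Z) (Nat.card Y * n)
    (by rw [hcard]; ring) (Nat.Coprime.mul_right hYZ.symm hZn)).1 Z H hZC (hHW.trans hWC) rfl
    hHcard
  have hW1 : W ≠ ⊥ := fun h => hY1 (le_bot_iff.mp (h ▸ hYW))
  obtain ⟨s, hs, N, hNW, hN1, hNs, hWN⟩ := exists_normal_pgroup_sub hWsol hW1
  refine ⟨c, hc, ?_⟩
  have hsd : s ∣ Nat.card N := dvd_card_of_isPGroup_ne_bot hNs hN1
  have hsW : s ∣ Nat.card Y * Nat.card Z := hWcard ▸ hsd.trans (Subgroup.card_dvd_of_le hNW)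
  obtain ⟨k, hk⟩ := IsPGroup.iff_card.mp hNs
  rcases (Nat.Prime.dvd_mul hs.out).mp hsW with hsY | hsZ
  · -- `N ≤ Y`
    have hNY : N ≤ Y := by
      apply le_of_normal_of_coprime_index hNW hWN hYW hWcard
      rw [hk]
      apply Nat.Coprime.pow_left
      rw [Nat.Prime.coprime_iff_not_dvd hs.out]
      intro h
      exact Nat.Prime.one_lt hs.out |>.ne' (Nat.eq_one_of_dvd_coprimes hYZ hsY h)
    exact ⟨N, hN1, Or.inl ⟨hNY, hcZ ▸ hHW.trans hWN⟩⟩
  · -- `N ≤ H = c Z c⁻¹`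
    have hNH : N ≤ H := by
      apply le_of_normal_of_coprime_index hNW hWN hHW (k := Nat.card Y)
        (by rw [hWcard, hHcard, mul_comm])
      rw [hk]
      apply Nat.Coprime.pow_left
      rw [Nat.Prime.coprime_iff_not_dvd hs.out]
      intro h
      exact Nat.Prime.one_lt hs.out |>.ne' (Nat.eq_one_of_dvd_coprimes hYZ h hsZ)
    refine ⟨MulAut.conj c⁻¹ • N, ?_, Or.inr ⟨?_, ?_⟩⟩
    · intro h
      apply hN1
      have : N = MulAut.conj c • (MulAut.conj c⁻¹ • N) := by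
        rw [smul_smul, ← map_mul, mul_inv_cancel, map_one, one_smul]
      rw [this, h]
      simp
    · rw [← hcZ] at hNH
      have := conj_smul_mono hNH c⁻¹
      rwa [smul_smul, ← map_mul, inv_mul_cancel, map_one, one_smul] at this
    · intro x hx
      rw [Subgroup.mem_pointwise_smul_iff_inv_smul_mem] at hx
      have hx' : c * x * c⁻¹ ∈ Subgroup.normalizer (N : Set G) :=
        hWN (hYW (by simpa [MulAut.smul_def] using hx))
      rw [Subgroup.mem_normalizer_iff] at hx' ⊢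
      intro h
      rw [Subgroup.mem_pointwise_smul_iff_inv_smul_mem,
        Subgroup.mem_pointwise_smul_iff_inv_smul_mem]
      simp only [MulAut.smul_def, map_inv, inv_inv, MulAut.conj_apply]
      have := hx' (c * h * c⁻¹)
      convert this using 2
      group

/-- Final step of the asymmetry lemma (one side): a nontrivial subgroup `N ≤ M_α ⊓ C(P)`
normalized by a `C(P)`-conjugate of `M*_α ⊓ C(P) ≠ 1` is impossible. -/
theorem asym_final_side (hG : Cfsg.IsMinSimpleOddOrder G) {M Ms : Subgroup G}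
    (hM : IsCoatom M) (hMs : IsCoatom Ms) (hnc : ∀ g : G, Ms ≠ MulAut.conj g • M) {p : ℕ}
    [hp : Fact p.Prime] (hpτ : p ∈ Cfsg.tau1 M) {P : Subgroup G} (hPD : P ≤ M ⊓ Ms)
    (hPcard : Nat.card P = p)
    (hαβ : ∀ t ∈ Cfsg.alpha M, t ∈ Cfsg.beta M) (hαβs : ∀ t ∈ Cfsg.alpha Ms, t ∈ Cfsg.beta Ms)
    (hdec : ∀ m ∈ M, ∃ b ∈ Cfsg.piCoreOf (Cfsg.beta M) M, ∃ d ∈ M ⊓ Ms, m = b * d)
    (hZs : (Cfsg.piCoreOf (Cfsg.beta Ms) Ms ⊓ M) ⊓ Subgroup.centralizer (P : Set G) = ⊥)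
    (hYs1 : Cfsg.alphaCore Ms ⊓ Subgroup.centralizer (P : Set G) ≠ ⊥)
    {c : G} (hc : c ∈ Subgroup.centralizer (P : Set G)) {N : Subgroup G} (hN1 : N ≠ ⊥)
    (hNY : N ≤ Cfsg.alphaCore M ⊓ Subgroup.centralizer (P : Set G))
    (hN : MulAut.conj c • (Cfsg.alphaCore Ms ⊓ Subgroup.centralizer (P : Set G)) ≤
      Subgroup.normalizer (N : Set G)) : False := by
  classical
  have hKM : Cfsg.alphaCore M ≤ M := Subgroup.map_subtype_le _
  have hNM : N ≤ M := hNY.trans (inf_le_left.trans hKM)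
  have hNβ : ∀ t : ℕ, t.Prime → t ∣ Nat.card N → t ∈ Cfsg.beta M := fun t ht hd =>
    hαβ t (mem_alpha_of_dvd_card_alphaCore ht
      (hd.trans (Subgroup.card_dvd_of_le (hNY.trans inf_le_left))))
  have hNN : Subgroup.normalizer (N : Set G) ≤ M :=
    normalizer_le_of_beta_subgroup hG hM hNM hN1 hNβ
  set Ys := Cfsg.alphaCore Ms ⊓ Subgroup.centralizer (P : Set G) with hYs
  have hcard1 : Nat.card Ys ≠ 1 := fun h => hYs1 (Subgroup.card_eq_one.mp h)
  obtain ⟨t, ht, htd⟩ := Nat.exists_prime_and_dvd hcard1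
  haveI := Fact.mk ht
  obtain ⟨x', hx'⟩ := exists_prime_orderOf_dvd_card' (G := ↥Ys) t htd
  have hxord : orderOf (x' : G) = t := by rw [Subgroup.orderOf_coe]; exact hx'
  have htβ : t ∈ Cfsg.beta Ms :=
    hαβs t (mem_alpha_of_dvd_card_alphaCore ht (htd.trans (Subgroup.card_dvd_of_le inf_le_left)))
  have hy : c * (x' : G) * c⁻¹ ∈ MulAut.conj c • Ys := by
    have := Subgroup.smul_mem_pointwise_smul (x' : G) (MulAut.conj c) _ x'.2
    simpa [MulAut.smul_def] using this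
  have hyM : c * (x' : G) * c⁻¹ ∈ M := hNN (hN hy)
  have hyP : c * (x' : G) * c⁻¹ ∈ Subgroup.centralizer (P : Set G) :=
    Subgroup.mul_mem _ (Subgroup.mul_mem _ hc x'.2.2) (Subgroup.inv_mem _ hc)
  have hyord : orderOf (c * (x' : G) * c⁻¹) = t := by
    rw [← hxord]
    exact orderOf_injective (MulAut.conj c).toMonoidHom (MulAut.conj c).injective (x' : G)
  exact false_of_mem_centralizer_of_beta hG hM hMs hnc hpτ hPD hPcard hdec hZs hyM hyP hyord htβ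

/-- The asymmetry lemma BG 13.6, modulo the Hall property of `M_α ⊓ C(P)` in `C(P)`. -/
theorem tau1_asymmetry_aux (hG : Cfsg.IsMinSimpleOddOrder G) {M Ms : Subgroup G}
    (hM : IsCoatom M) (hMs : IsCoatom Ms) (hnc : ∀ g : G, Ms ≠ MulAut.conj g • M) {p : ℕ}
    [hp : Fact p.Prime] (hpτ : p ∈ Cfsg.tau1 M) (hpτs : p ∈ Cfsg.tau1 Ms) {P : Subgroup G}
    (hPD : P ≤ M ⊓ Ms) (hPcard : Nat.card P = p)
    {q : ℕ} [hq : Fact q.Prime] (hqp : q ≠ p) {Q : Subgroup G} (hQD : Q ≤ M ⊓ Ms)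
    (hQq : IsPGroup q ↥Q) (hQcard : Nat.card Q = q ^ (Nat.card ↥(M ⊓ Ms)).factorization q)
    (hPQ : P ≤ Subgroup.normalizer (Q : Set G))
    (hfpf : Q ⊓ Subgroup.centralizer (P : Set G) = ⊥)
    (hNQ : Subgroup.normalizer (Q : Set G) ≤ Ms)
    {qs : ℕ} [hqs : Fact qs.Prime] (hqsp : qs ≠ p) {Qs : Subgroup G} (hQsD : Qs ≤ M ⊓ Ms)
    (hQsq : IsPGroup qs ↥Qs)
    (hQscard : Nat.card Qs = qs ^ (Nat.card ↥(M ⊓ Ms)).factorization qs)
    (hPQs : P ≤ Subgroup.normalizer (Qs : Set G))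
    (hfpfs : Qs ⊓ Subgroup.centralizer (P : Set G) = ⊥)
    (hNQs : Subgroup.normalizer (Qs : Set G) ≤ M)
    (hall : ∀ K : Subgroup G, IsCoatom K → (∀ t ∈ Cfsg.alpha K, t ∈ Cfsg.beta K) →
      ∃ n : ℕ, Nat.card ↥(Subgroup.centralizer (P : Set G)) =
          Nat.card ↥(Cfsg.alphaCore K ⊓ Subgroup.centralizer (P : Set G)) * n ∧
        (Nat.card ↥(Cfsg.alphaCore K ⊓ Subgroup.centralizer (P : Set G))).Coprime n) :
    False := by
  classical
  have hne : Ms ≠ M := by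
    have := hnc 1
    simpa using this
  have hnc' : ∀ g : G, M ≠ MulAut.conj g • Ms := by
    intro g h
    apply hnc g⁻¹
    rw [h, smul_smul, ← map_mul, inv_mul_cancel, map_one, one_smul]
  have hcomm : Ms ⊓ M = M ⊓ Ms := inf_comm _ _
  obtain ⟨hαβ, hdec, hY1, hfix⟩ := asym_side hG hM hMs hne hpτ hPD hPcard hqp hQD hQq hQcard hPQ
    hfpf hNQ
  obtain ⟨hαβs, hdecs, hYs1, hfixs⟩ := asym_side hG hMs hM hne.symm hpτs (hcomm ▸ hPD) hPcard
    hqsp (hcomm ▸ hQsD) hQsq (by rw [hcomm]; exact hQscard) hPQs hfpfs hNQs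
  set C := Subgroup.centralizer (P : Set G) with hC
  set Y := Cfsg.alphaCore M ⊓ C with hY
  set Ys := Cfsg.alphaCore Ms ⊓ C with hYs
  -- `C(P)` is solvable
  have hPM : P ≤ M := hPD.trans inf_le_left
  have hP1 : P ≠ ⊥ := by
    intro h
    rw [h, Subgroup.card_bot] at hPcard
    exact hp.out.one_lt.ne hPcard
  have hPtop : P ≠ ⊤ := fun h => hM.1 (top_le_iff.mp (h ▸ hPM))
  have hNP := normalizer_ne_top_of_simple hG hP1 hPtop
  have hCsol : Group.IsSolvable ↥C :=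
    isSolvable_of_le (Subgroup.centralizer_le_normalizer _) (hG.2.2.2 _ hNP)
  -- coprimality
  have hYYs : (Nat.card Y).Coprime (Nat.card Ys) := by
    by_contra h
    obtain ⟨t, ht, hta, htb⟩ := Nat.Prime.not_coprime_iff_dvd.mp h
    have h1 : t ∈ Cfsg.alpha M :=
      mem_alpha_of_dvd_card_alphaCore ht (hta.trans (Subgroup.card_dvd_of_le inf_le_left))
    have h2 : t ∈ Cfsg.alpha Ms :=
      mem_alpha_of_dvd_card_alphaCore ht (htb.trans (Subgroup.card_dvd_of_le inf_le_left))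
    exact Cfsg.Agent.Helper4.BG11.not_mem_alpha_of_mem_sigma_of_not_conj hG hM hMs hnc
      (alpha_subset_sigma hG hM h1) h2
  obtain ⟨n₁, hn₁, hcop₁⟩ := hall M hM hαβ
  obtain ⟨n₂, hn₂, hcop₂⟩ := hall Ms hMs hαβs
  have hd : Nat.card Ys ∣ n₁ := by
    have : Nat.card Ys ∣ Nat.card Y * n₁ := hn₁ ▸ Subgroup.card_dvd_of_le inf_le_right
    exact hYYs.symm.dvd_of_dvd_mul_left this
  obtain ⟨n, rfl⟩ := hd
  have hcard : Nat.card C = Nat.card Y * Nat.card Ys * n := by rw [hn₁, mul_assoc]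
  have hYn : (Nat.card Y).Coprime n := Nat.Coprime.coprime_mul_left_right hcop₁
  have hYspos : 0 < Nat.card Ys := Nat.card_pos
  have hn₂' : n₂ = Nat.card Y * n := by
    have : Nat.card Ys * n₂ = Nat.card Ys * (Nat.card Y * n) := by rw [← hn₂, hcard]; ring
    exact Nat.eq_of_mul_eq_mul_left hYspos this
  have hYsn : (Nat.card Ys).Coprime n := by
    rw [hn₂'] at hcop₂
    exact Nat.Coprime.coprime_mul_left_right hcop₂
  obtain ⟨c, hc, N, hN1, h | h⟩ := exists_conj_normalizer_of_hall_pair hCsol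
    (inf_le_right : Y ≤ C) (inf_le_right : Ys ≤ C) hY1 hcard hYYs hYn hYsn
  · exact asym_final_side hG hM hMs hnc hpτ hPD hPcard hαβ hαβs hdec hfixs hYs1 hc hN1 h.1 h.2
  · exact asym_final_side hG hMs hM hnc' hpτs (hcomm ▸ hPD) hPcard hαβs hαβ
      (fun m hm => by
        obtain ⟨b, hb, d, hd, rfl⟩ := hdecs m hm
        exact ⟨b, hb, d, hd, rfl⟩) hfix hY1 (Subgroup.inv_mem _ hc) hN1 h.1 h.2

/-- **Bender–Glauberman Lemma 13.6** (the asymmetry lemma).  Let `M`, `M*` be non-conjugate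
maximal subgroups, `p ∈ τ₁(M) ∩ τ₁(M*)`, `P ≤ M ⊓ M*` of order `p`, and `Q`, `Q*` two
`P`-invariant Sylow subgroups of `M ⊓ M*` on which `P` acts fixed-point-freely.  Then
`N(Q) ≤ M*` and `N(Q*) ≤ M` cannot both hold. -/
theorem tau1_asymmetry (hG : Cfsg.IsMinSimpleOddOrder G) {M Ms : Subgroup G}
    (hM : IsCoatom M) (hMs : IsCoatom Ms) (hnc : ∀ g : G, Ms ≠ MulAut.conj g • M) {p : ℕ}
    [hp : Fact p.Prime] (hpτ : p ∈ Cfsg.tau1 M) (hpτs : p ∈ Cfsg.tau1 Ms) {P : Subgroup G}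
    (hPD : P ≤ M ⊓ Ms) (hPcard : Nat.card P = p)
    {q : ℕ} [hq : Fact q.Prime] (hqp : q ≠ p) {Q : Subgroup G} (hQD : Q ≤ M ⊓ Ms)
    (hQq : IsPGroup q ↥Q) (hQcard : Nat.card Q = q ^ (Nat.card ↥(M ⊓ Ms)).factorization q)
    (hPQ : P ≤ Subgroup.normalizer (Q : Set G))
    (hfpf : Q ⊓ Subgroup.centralizer (P : Set G) = ⊥)
    (hNQ : Subgroup.normalizer (Q : Set G) ≤ Ms)
    {qs : ℕ} [hqs : Fact qs.Prime] (hqsp : qs ≠ p) {Qs : Subgroup G} (hQsD : Qs ≤ M ⊓ Ms)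
    (hQsq : IsPGroup qs ↥Qs)
    (hQscard : Nat.card Qs = qs ^ (Nat.card ↥(M ⊓ Ms)).factorization qs)
    (hPQs : P ≤ Subgroup.normalizer (Qs : Set G))
    (hfpfs : Qs ⊓ Subgroup.centralizer (P : Set G) = ⊥)
    (hNQs : Subgroup.normalizer (Qs : Set G) ≤ M) : False :=
  tau1_asymmetry_aux hG hM hMs hnc hpτ hpτs hPD hPcard hqp hQD hQq hQcard hPQ hfpf hNQ hqsp hQsD
    hQsq hQscard hPQs hfpfs hNQs
    (fun K hK hab => Cfsg.Agent.Lead.BG13iii.alphaCore_inf_hall hG hK hab _)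

end Cfsg.Agent.Helper4.BG13
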