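import Mathlib
import Cfsg.Prelude
import Cfsg.Agent.Helper4.BG13c
import Cfsg.Agent.S1414
import Cfsg.Agent.S1423
import Cfsg.Agent.S1426
import Cfsg.Agent.S1427
import Cfsg.Agent.S1428

set_option autoImplicit false

/-!
Bender–Glauberman Theorem 13.5 (`cent_cent_Msigma_tau1_uniq`): for `p ∈ τ₁(M)`, `P ≤ M` of order
`p` and `X ≤ C_{M_σ}(P)` of prime order `q`: `q ∈ β(M)` or `X ≤ (M_σ)'`; hence `𝓜(C(X)) = {M}`.
-/

namespace Cfsg.Agent.Helper4.BG13

open Cfsg Cfsg.Agent.Helper1 Cfsg.Agent.Helper2 Cfsg.Agent.Helper1.BGT Cfsg.Agent.Helper1.BGU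
  Cfsg.Agent.Helper1.BGV Cfsg.Agent.Helper1.BGW Cfsg.Agent.Helper1.BGX Cfsg.Agent.Lead.BG12
  Cfsg.Agent.Lead.BG108 Cfsg.Agent.Helper4.BG10 Cfsg.Agent.Helper4.BG12
open scoped commutatorElement Pointwise

universe u

variable {G : Type u} [Group G] [Finite G]

/-- In a group `D` with a normal `q`-complement, a `q'`-element normalizing a `q`-subgroup
centralizes it. -/
theorem commute_of_hasNormalPComplement {D S : Subgroup G} {q : ℕ} [hq : Fact q.Prime]
    (hN : Cfsg.HasNormalPComplement q ↥D) (hSD : S ≤ D) (hSq : IsPGroup q ↥S) {e : G}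
    (heD : e ∈ D) (heq : (orderOf e).Coprime q)
    (heS : e ∈ Subgroup.normalizer (S : Set G)) : ∀ s ∈ S, e * s = s * e := by
  obtain ⟨Sq, N, hNn, hcompl⟩ := hN
  have hidx : N.index = Nat.card (Sq : Subgroup ↥D) := hcompl.symm.index_eq_card
  obtain ⟨k, hk⟩ := IsPGroup.iff_card.mp Sq.2
  have hcopN : (Nat.card N).Coprime q := by
    have h1 := Sq.card_coprime_index
    rw [hcompl.index_eq_card, hk] at h1
    rcases Nat.eq_zero_or_pos k with h0 | h0
    · -- Sylow trivial: `N = ⊤`, still need coprimality of `|N|` and `q`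
      subst h0
      rw [pow_zero] at hk
      have hq' : ¬ q ∣ Nat.card ↥D := by
        intro hd
        have := Sq.card_eq_multiplicity
        rw [hk] at this
        have h2 : 0 < (Nat.card ↥D).factorization q :=
          (hq.out.factorization_pos_of_dvd Nat.card_pos.ne' hd)
        have h3 : 1 < q ^ (Nat.card ↥D).factorization q :=
          Nat.one_lt_pow h2.ne' hq.out.one_lt
        omega
      rw [Nat.coprime_comm, Nat.Prime.coprime_iff_not_dvd hq.out]
      intro hd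
      exact hq' (hd.trans (Subgroup.card_subgroup_dvd_card N))
    · exact (Nat.Coprime.coprime_dvd_left (dvd_pow_self q h0.ne') h1).symm
  -- `e ∈ N`
  have heN : (⟨e, heD⟩ : ↥D) ∈ N := by
    haveI := hNn
    apply Cfsg.Agent.Lead.BG12.mem_of_pow_eq_one_of_coprime_index N (n := orderOf e)
    · rw [hidx, hk]
      exact Nat.Coprime.pow_right _ heq
    · apply Subtype.ext
      simp [pow_orderOf_eq_one]
  intro s hs
  -- the commutator `s e s⁻¹ e⁻¹` lies in `N ∩ S`
  set c : G := s * e * s⁻¹ * e⁻¹ with hc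
  have hcS : c ∈ S := by
    have h1 : e * s⁻¹ * e⁻¹ ∈ S :=
      (Subgroup.mem_normalizer_iff.mp heS s⁻¹).mp (S.inv_mem hs)
    have : c = s * (e * s⁻¹ * e⁻¹) := by rw [hc]; group
    rw [this]
    exact S.mul_mem hs h1
  have hcN : (⟨c, hSD hcS⟩ : ↥D) ∈ N := by
    have h1 : (⟨s, hSD hs⟩ : ↥D) * ⟨e, heD⟩ * (⟨s, hSD hs⟩ : ↥D)⁻¹ ∈ N :=
      hNn.conj_mem _ heN _
    have h2 := N.mul_mem h1 (N.inv_mem heN)
    convert h2 using 1
    apply Subtype.ext
    simp [hc]
  have hc1 : c = 1 := by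
    obtain ⟨j, hj⟩ := exists_orderOf_eq_pow_of_mem_isPGroup hSq hcS
    have h1 : orderOf (⟨c, hSD hcS⟩ : ↥D) ∣ Nat.card N := by
      have := orderOf_dvd_natCard (⟨⟨c, hSD hcS⟩, hcN⟩ : ↥N)
      rwa [Subgroup.orderOf_mk] at this
    rw [Subgroup.orderOf_mk, hj] at h1
    have h2 : q ^ j = 1 :=
      Nat.eq_one_of_dvd_coprimes (Nat.Coprime.pow_right j hcopN) h1 (dvd_refl _)
    rw [h2] at hj
    exact orderOf_eq_one_iff.mp hj
  have : s * e = e * s := by
    have h1 : s * e * s⁻¹ * e⁻¹ = 1 := hc1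
    have h2 : s * e = (s * e * s⁻¹ * e⁻¹) * (e * s) := by group
    rw [h2, h1, one_mul]
  exact this.symm

/-- **Key observation.**  For `q ∉ β(M)`, the derived group `E'` of a complement `E` of `M_σ`
centralizes every `E`-invariant `q`-subgroup of `M_σ`. -/
theorem commutator_compl_le_centralizer (hG : Cfsg.IsMinSimpleOddOrder G) {M : Subgroup G}
    (hM : IsCoatom M) {E : Subgroup G} (hE : Cfsg.IsComplIn E (Cfsg.sigmaCore M) M) {q : ℕ}
    [hq : Fact q.Prime] (hqβ : q ∉ Cfsg.beta M) {S : Subgroup G} (hSσ : S ≤ Cfsg.sigmaCore M)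
    (hSq : IsPGroup q ↥S) (hES : E ≤ Subgroup.normalizer (S : Set G)) :
    ⁅E, E⁆ ≤ Subgroup.centralizer (S : Set G) := by
  by_cases hS1 : S = ⊥
  · rw [hS1]
    intro e _
    rw [Subgroup.mem_centralizer_iff]
    intro s hs
    rw [Subgroup.coe_bot, Set.mem_singleton_iff] at hs
    rw [hs, mul_one, one_mul]
  have hqS : q ∣ Nat.card S := dvd_card_of_isPGroup_ne_bot hSq hS1
  have hqσc : q ∣ Nat.card (Cfsg.sigmaCore M) := hqS.trans (Subgroup.card_dvd_of_le hSσ)
  have hqM : q ∣ Nat.card M :=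
    hqσc.trans (Subgroup.card_dvd_of_le Cfsg.Agent.Lead.BG12.sigmaCore_le)
  have hnpc := ((Cfsg.Agent.S1414.result hG M hM).2.2.2.2 q hq.out hqM hqβ).1
  have hcop := coprime_card_sigmaCore_compl hG hM hE
  have hSM' : S ≤ ⁅M, M⁆ := hSσ.trans (sigmaCore_le_commutator hG hM)
  intro e he
  have heE : e ∈ E := Subgroup.commutator_le_self E he
  have heM' : e ∈ ⁅M, M⁆ := Cfsg.Agent.Lead.BG12.commutator_le_of_le hE.1 he
  have hecop : (orderOf e).Coprime q := by
    have h1 : orderOf e ∣ Nat.card E := by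
      have := orderOf_dvd_natCard (⟨e, heE⟩ : ↥E)
      rwa [Subgroup.orderOf_mk] at this
    exact Nat.Coprime.coprime_dvd_left h1 (Nat.Coprime.coprime_dvd_right hqσc hcop.symm)
  have := commute_of_hasNormalPComplement hnpc hSM' hSq heM' hecop (hES heE)
  rw [Subgroup.mem_centralizer_iff]
  intro s hs
  exact (this s hs).symm

/-- `C_{M_σ}(P)` centralizes every `s`-subgroup of `C_E(P)` when `r_s(M) ≤ 1`
(BG 13.3 and 13.4 combined). -/
theorem sigmaCore_cent_le_centralizer_of_pRankLE_one (hG : Cfsg.IsMinSimpleOddOrder G)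
    {M : Subgroup G} (hM : IsCoatom M) {E : Subgroup G}
    (hE : Cfsg.IsComplIn E (Cfsg.sigmaCore M) M) {p : ℕ} (hp : p ∈ Cfsg.tau1 M) {P : Subgroup G}
    (hPE : P ≤ E) (hP : Nat.card P = p) {s : ℕ} [hs : Fact s.Prime]
    (hs1 : Cfsg.PRankLE s 1 ↥M) {T : Subgroup G}
    (hTE : T ≤ E ⊓ Subgroup.centralizer (P : Set G)) (hTs : IsPGroup s ↥T) :
    Cfsg.sigmaCore M ⊓ Subgroup.centralizer (P : Set G) ≤ Subgroup.centralizer (T : Set G) := by
  by_cases hT1 : T = ⊥
  · rw [hT1]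
    intro y _
    rw [Subgroup.mem_centralizer_iff]
    intro t ht
    rw [Subgroup.coe_bot, Set.mem_singleton_iff] at ht
    rw [ht, mul_one, one_mul]
  have hsd : s ∣ Nat.card T := dvd_card_of_isPGroup_ne_bot hTs hT1
  obtain ⟨x', hx'⟩ := exists_prime_orderOf_dvd_card' (G := ↥T) s hsd
  have hxord : orderOf (x' : G) = s := by rw [Subgroup.orderOf_coe]; exact hx'
  have hx1 : (x' : G) ≠ 1 := by
    intro h
    rw [h, orderOf_one] at hxord
    exact hs.out.one_lt.ne hxord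
  set x : G := (x' : G) with hx
  set R := Subgroup.zpowers x with hR
  have hRcard : Nat.card R = s := by rw [hR, Nat.card_zpowers, hxord]
  have hRle : R ≤ E ⊓ Subgroup.centralizer (P : Set G) := Subgroup.zpowers_le.mpr (hTE x'.2)
  have h28 := Cfsg.Agent.S1428.result hG M hM E hE p hp P hPE hP R hRle (hRcard ▸ hs.out)
  have hTE' : T ≤ E := hTE.trans inf_le_left
  obtain ⟨Th, hTh⟩ := (hTs.comap_subtype (K := E)).exists_le_sylow
  have hTmap : T ≤ (Th : Subgroup ↥E).map E.subtype := by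
    intro t ht
    exact ⟨⟨t, hTE' ht⟩, hTh (Subgroup.mem_subgroupOf.mpr ht), rfl⟩
  have hTh1 : (Th : Subgroup ↥E) ≠ ⊥ := by
    intro h
    have : x ∈ (Th : Subgroup ↥E).map E.subtype := hTmap x'.2
    rw [h, Subgroup.map_bot, Subgroup.mem_bot] at this
    exact hx1 this
  have hc : IsCyclic ↥((Th : Subgroup ↥E).map E.subtype) :=
    isCyclic_of_pRankLE_one hG.1 hs1 ((Subgroup.map_subtype_le _).trans hE.1) (Th.2.map _)
  have e : ↥(Th : Subgroup ↥E) ≃* ↥((Th : Subgroup ↥E).map E.subtype) :=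
    (Th : Subgroup ↥E).equivMapOfInjective E.subtype E.subtype_injective
  have hc' : IsCyclic ↥(Th : Subgroup ↥E) :=
    isCyclic_of_surjective e.symm.toMonoidHom e.symm.surjective
  have h27 := Cfsg.Agent.S1427.result hG M hM E hE s Th hTh1 hc' x (hTmap x'.2) hx1
  intro y hy
  have h1 := h28 hy
  have h2 : y ∈ Cfsg.sigmaCore M ⊓ Subgroup.centralizer ({x} : Set G) := by
    refine ⟨h1.1, ?_⟩
    rw [← Cfsg.Agent.Helper1.BGX.centralizer_zpowers_eq]
    exact h1.2
  rw [h27] at h2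
  exact Subgroup.centralizer_le (SetLike.coe_subset_coe.mpr hTmap) h2.2

/-- A subgroup `D ≤ K` containing every subgroup of prime power order of `K` is all of `K`. -/
theorem eq_of_forall_pgroup_le {K D : Subgroup G} (hDK : D ≤ K)
    (h : ∀ (s : ℕ) [Fact s.Prime] (T : Subgroup G), T ≤ K → IsPGroup s ↥T → T ≤ D) : D = K := by
  apply Subgroup.eq_of_le_of_card_ge hDK
  apply Nat.le_of_dvd Nat.card_pos
  rw [← Nat.factorization_prime_le_iff_dvd Nat.card_pos.ne' Nat.card_pos.ne']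
  intro s hs
  haveI := Fact.mk hs
  obtain ⟨T, -, hTK, hTs, hTcard⟩ :=
    Cfsg.Agent.Lead.exists_le_card_eq_ppart (p := s) (H := K) (U := ⊥) IsPGroup.of_bot bot_le
  have hTD : T ≤ D := h s T hTK hTs
  have hd : s ^ (Nat.card K).factorization s ∣ Nat.card D :=
    hTcard ▸ Subgroup.card_dvd_of_le hTD
  exact (Nat.Prime.pow_dvd_iff_le_factorization hs Nat.card_pos.ne').mp hd

/-- For `p ∈ τ₁(M)` and `P ≤ M` of order `p`: `N_M(P) = C_M(P)`. -/
theorem normalizer_inf_le_centralizer_of_tau1 {M : Subgroup G} {p : ℕ} [hp : Fact p.Prime]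
    (hpτ : p ∈ Cfsg.tau1 M) {P : Subgroup G} (hPM : P ≤ M) (hP : Nat.card P = p) :
    M ⊓ Subgroup.normalizer (P : Set G) ≤ Subgroup.centralizer (P : Set G) := by
  obtain ⟨-, -, -, hpM', -⟩ := hpτ
  intro n hn
  rw [Subgroup.mem_centralizer_iff]
  intro u hu
  have h1 : n * u * n⁻¹ ∈ P := (Subgroup.mem_normalizer_iff.mp hn.2 u).mp hu
  have h2 : n * u * n⁻¹ * u⁻¹ ∈ P := P.mul_mem h1 (P.inv_mem hu)
  have h3 : n * u * n⁻¹ * u⁻¹ ∈ ⁅M, M⁆ := Subgroup.commutator_mem_commutator hn.1 (hPM hu)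
  have h4 : n * u * n⁻¹ * u⁻¹ = 1 := by
    by_contra hne
    apply hpM'
    have hord : orderOf (n * u * n⁻¹ * u⁻¹) ∣ p := by
      have := orderOf_dvd_natCard (⟨_, h2⟩ : ↥P)
      rwa [Subgroup.orderOf_mk, hP] at this
    rcases (Nat.dvd_prime hp.out).mp hord with h | h
    · exact absurd (orderOf_eq_one_iff.mp h) hne
    · rw [← h]
      have := orderOf_dvd_natCard (⟨_, h3⟩ : ↥⁅M, M⁆)
      rwa [Subgroup.orderOf_mk] at this
  have : n * u = (n * u * n⁻¹ * u⁻¹) * (u * n) := by group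
  rw [this, h4, one_mul]

/-- Frattini argument: for `p ∈ τ₁(M)`, `P ≤ E ≤ M` of order `p`: `E = E' C_E(P)`. -/
theorem exists_mul_commutator_centralizer_of_tau1 {M E : Subgroup G} (hEM : E ≤ M) {p : ℕ}
    [hp : Fact p.Prime] (hpτ : p ∈ Cfsg.tau1 M) {P : Subgroup G} (hPE : P ≤ E)
    (hP : Nat.card P = p) :
    ∀ e ∈ E, ∃ c ∈ ⁅E, E⁆, c⁻¹ * e ∈ E ⊓ Subgroup.centralizer (P : Set G) := by
  have hpM' : ¬ p ∣ Nat.card ↥⁅M, M⁆ := hpτ.2.2.2.1
  set E' : Subgroup G := ⁅E, E⁆ with hE'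
  have hE'E : E' ≤ E := Subgroup.commutator_le_self E
  have hE'M' : E' ≤ ⁅M, M⁆ := Cfsg.Agent.Lead.BG12.commutator_le_of_le hEM
  have hPN : P ≤ Subgroup.normalizer (E' : Set G) :=
    hPE.trans (Cfsg.Agent.Lead.BG12.le_normalizer_commutator_self E)
  have hpE' : ¬ p ∣ Nat.card E' := fun h => hpM' (h.trans (Subgroup.card_dvd_of_le hE'M'))
  have hdisj : E' ⊓ P = ⊥ := by
    rw [eq_bot_iff]
    intro x hx
    rw [Subgroup.mem_bot]
    by_contra hne
    apply hpE'
    have hord : orderOf x ∣ p := by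
      have := orderOf_dvd_natCard (⟨x, hx.2⟩ : ↥P)
      rwa [Subgroup.orderOf_mk, hP] at this
    rcases (Nat.dvd_prime hp.out).mp hord with h | h
    · exact absurd (orderOf_eq_one_iff.mp h) hne
    · rw [← h]
      have := orderOf_dvd_natCard (⟨x, hx.1⟩ : ↥E')
      rwa [Subgroup.orderOf_mk] at this
  set L : Subgroup G := E' ⊔ P with hL
  have hLE : L ≤ E := sup_le hE'E hPE
  have hLcard : Nat.card L = Nat.card E' * p := by
    have h1 := card_sup_mul_card_inf (N := E') (A := P) hPN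
    rw [hdisj, Subgroup.card_bot, mul_one, hP] at h1
    exact h1
  have hfac : (Nat.card L).factorization p = 1 := by
    rw [hLcard, Nat.factorization_mul Nat.card_pos.ne' hp.out.ne_zero]
    simp [Nat.factorization_eq_zero_of_not_dvd hpE', hp.out.factorization_self]
  have hEL : E ≤ Subgroup.normalizer (L : Set G) := by
    intro e he
    apply Subgroup.mem_normalizer_fintype
    intro x hx
    have h1 : e * x * e⁻¹ * x⁻¹ ∈ E' := Subgroup.commutator_mem_commutator he (hLE hx)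
    have h2 : e * x * e⁻¹ = (e * x * e⁻¹ * x⁻¹) * x := by group
    rw [h2]
    exact L.mul_mem (Subgroup.mem_sup_left h1) hx
  have hPp : IsPGroup p ↥P := IsPGroup.of_card (n := 1) (by rw [hP, pow_one])
  have hfr := frattini_of_card_eq_ppart (H := E) (L := L) (Q := P) hEL le_sup_right hPp
    (by rw [hfac, pow_one, hP])
  intro e he
  obtain ⟨c, hcL, hcn⟩ := hfr e he
  have hcmem : c ∈ ((E' ⊔ P : Subgroup G) : Set G) := hcL
  rw [Subgroup.coe_mul_of_right_le_normalizer_left E' P hPN] at hcmem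
  obtain ⟨c', hc', u, hu, rfl⟩ := hcmem
  refine ⟨c', hc', ?_⟩
  have h1 : c'⁻¹ * e = u * ((c' * u)⁻¹ * e) := by group
  have h2 : c'⁻¹ * e ∈ Subgroup.normalizer (P : Set G) := by
    rw [h1]
    exact Subgroup.mul_mem _ (Subgroup.le_normalizer hu) hcn
  have h3 : c'⁻¹ * e ∈ E := E.mul_mem (E.inv_mem (hE'E hc')) he
  exact ⟨h3, normalizer_inf_le_centralizer_of_tau1 hpτ (hPE.trans hEM) hP ⟨hEM h3, h2⟩⟩

/-- Core of BG 13.5: an `E`-invariant `q`-subgroup `S` of `M_σ`, `q ∉ β(M)`; every subgroup of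
`C_S(P)` lies in `(M_σ)'`. -/
theorem le_commutator_sigmaCore_aux (hG : Cfsg.IsMinSimpleOddOrder G) {M : Subgroup G}
    (hM : IsCoatom M) {E : Subgroup G} (hE : Cfsg.IsComplIn E (Cfsg.sigmaCore M) M) {p : ℕ}
    [hp : Fact p.Prime] (hpτ : p ∈ Cfsg.tau1 M) {P : Subgroup G} (hPE : P ≤ E)
    (hP : Nat.card P = p) {q : ℕ} [hq : Fact q.Prime] (hqβ : q ∉ Cfsg.beta M) {S : Subgroup G}
    (hSσ : S ≤ Cfsg.sigmaCore M) (hSq : IsPGroup q ↥S)
    (hES : E ≤ Subgroup.normalizer (S : Set G)) {X : Subgroup G} (hXS : X ≤ S)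
    (hXP : X ≤ Subgroup.centralizer (P : Set G)) :
    X ≤ ⁅Cfsg.sigmaCore M, Cfsg.sigmaCore M⁆ := by
  classical
  have hE'X : ⁅E, E⁆ ≤ Subgroup.centralizer (X : Set G) :=
    (commutator_compl_le_centralizer hG hM hE hqβ hSσ hSq hES).trans
      (Subgroup.centralizer_le (SetLike.coe_subset_coe.mpr hXS))
  have hXσP : X ≤ Cfsg.sigmaCore M ⊓ Subgroup.centralizer (P : Set G) :=
    le_inf (hXS.trans hSσ) hXP
  have hPM : P ≤ M := hPE.trans hE.1
  by_cases hτ2 : ∃ r, r ∈ Cfsg.tau2 M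
  · -- `τ₂(M) ≠ ∅`: `X ≤ C_{M_σ}(A) = 1`
    obtain ⟨r, hr⟩ := hτ2
    haveI := Fact.mk hr.1
    obtain ⟨A₀, hA₀M, hA₀e, hA₀card⟩ := exists_ea2_of_not_pRankLE_one hG (H := M) hr.2.2.2
    obtain ⟨E₂, hE₂, hA₀E₂⟩ := Cfsg.Agent.Helper4.BG10.exists_compl_sigmaCore_ge hG hM hA₀M (by
      intro t ht hd
      rw [hA₀card] at hd
      have := (Nat.prime_dvd_prime_iff_eq ht hr.1).mp (ht.dvd_of_dvd_pow hd)
      exact this ▸ hr.2.1)
    obtain ⟨k, hk, hkE⟩ := compl_sigmaCore_conj hG hM hE₂ hE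
    set A : Subgroup G := A₀.map (MulAut.conj k).toMonoidHom with hA
    have hAE : A ≤ E := by
      rw [← hkE]
      rintro _ ⟨a, ha, rfl⟩
      exact Subgroup.smul_mem_pointwise_smul a (MulAut.conj k) _ (hA₀E₂ ha)
    have hAe : Cfsg.IsElementaryAbelian r A :=
      Cfsg.Agent.Helper3.BGAlpha.elementary_map_conj hA₀e k
    have hAcard : Nat.card A = r ^ 2 := by
      rw [hA, Cfsg.Agent.Lead.card_map_conj, hA₀card]
    have hAM : A ≤ M := hAE.trans hE.1
    obtain ⟨⟨hEA, -⟩, -, -⟩ := cor126 hG hM hr hE ⟨hAE, hAe, hAcard⟩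
    obtain ⟨-, -, -, hCA, -, -⟩ := thm125 hG hM hr ⟨hAM, hAe, hAcard⟩
    have hpr : p ≠ r := by
      rintro rfl
      exact hr.2.2.2 hpτ.2.2.2.2
    have hcopPA : (Nat.card P).Coprime (Nat.card A) := by
      rw [hP, hAcard]
      exact Nat.Coprime.pow_right _ ((Nat.coprime_primes hp.out hr.1).mpr hpr)
    have hdec := coprime_commutator_sup_centralizer P A (hPE.trans hEA) hcopPA
      (Or.inl (by
        haveI : Group.IsSolvable ↥M := hG.2.2.2 M hM.1
        exact isSolvable_of_le hPM inferInstance))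
    have hAX : A ≤ Subgroup.centralizer (X : Set G) := by
      rw [← hdec]
      apply sup_le
      · exact (Subgroup.commutator_mono hAE hPE).trans hE'X
      · intro a ha
        by_cases ha1 : a = 1
        · rw [ha1]; exact Subgroup.one_mem _
        have har : a ^ r = 1 := hAe.2 a ha.1
        have hord : orderOf a = r := by
          rcases (Nat.dvd_prime hr.1).mp (orderOf_dvd_of_pow_eq_one har) with h | h
          · exact absurd (orderOf_eq_one_iff.mp h) ha1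
          · exact h
        set R := Subgroup.zpowers a with hR
        have hRcard : Nat.card R = r := by rw [hR, Nat.card_zpowers, hord]
        have hRle : R ≤ E ⊓ Subgroup.centralizer (P : Set G) :=
          Subgroup.zpowers_le.mpr ⟨hAE ha.1, ha.2⟩
        have h28 := Cfsg.Agent.S1428.result hG M hM E hE p hpτ P hPE hP R hRle
          (hRcard ▸ hr.1)
        rw [Subgroup.mem_centralizer_iff]
        intro y hy
        have h1 := (h28 (hXσP hy)).2
        exact (Subgroup.mem_centralizer_iff.mp h1 a (Subgroup.mem_zpowers a)).symm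
    have hXA : X ≤ Cfsg.sigmaCore M ⊓ Subgroup.centralizer (A : Set G) :=
      le_inf (hXS.trans hSσ) (Subgroup.le_centralizer_iff.mp hAX)
    rw [hCA] at hXA
    exact hXA.trans bot_le
  · -- `τ₂(M) = ∅`: `X ≤ C_{M_σ}(E) ≤ (M_σ)'`
    push Not at hτ2
    have hCE : E ⊓ Subgroup.centralizer (P : Set G) ≤ Subgroup.centralizer (X : Set G) := by
      have key : (E ⊓ Subgroup.centralizer (P : Set G)) ⊓ Subgroup.centralizer (X : Set G) =
          E ⊓ Subgroup.centralizer (P : Set G) := by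
        apply eq_of_forall_pgroup_le inf_le_left
        intro s hs T hT hTs
        refine le_inf hT ?_
        by_cases hT1 : T = ⊥
        · rw [hT1]; exact bot_le
        have hsd : s ∣ Nat.card E :=
          (dvd_card_of_isPGroup_ne_bot hTs hT1).trans
            (Subgroup.card_dvd_of_le (hT.trans inf_le_left))
        have hsσ : s ∉ Cfsg.sigma M := not_mem_sigma_of_dvd_card_compl hG hM hE hs.out hsd
        have hr2 : Cfsg.PRankLE s 2 ↥M := pRankLE_of_not_mem_sigma hG hM hs.out hsσ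
        have hr1 : Cfsg.PRankLE s 1 ↥M := by
          by_contra h
          exact hτ2 s ⟨hs.out, hsσ, hr2, h⟩
        have h3 := sigmaCore_cent_le_centralizer_of_pRankLE_one hG hM hE hpτ hPE hP hr1 hT hTs
        exact Subgroup.le_centralizer_iff.mp (hXσP.trans h3)
      rw [← key]
      exact inf_le_right
    have hEX : E ≤ Subgroup.centralizer (X : Set G) := by
      intro e he
      obtain ⟨c, hc, hce⟩ := exists_mul_commutator_centralizer_of_tau1 hE.1 hpτ hPE hP e he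
      have : e = c * (c⁻¹ * e) := by group
      rw [this]
      exact Subgroup.mul_mem _ (hE'X hc) (hCE hce)
    have hXE : X ≤ Cfsg.sigmaCore M ⊓ Subgroup.centralizer (E : Set G) :=
      le_inf (hXS.trans hSσ) (Subgroup.le_centralizer_iff.mp hEX)
    exact hXE.trans (Cfsg.Agent.S1426.result hG M hM E hE).1

/-- For `p ∈ τ₁(M)`, `P ≤ M` of order `p`, `q ∉ β(M)`: every `q`-subgroup of `C_{M_σ}(P)` lies in
`(M_σ)'`. -/
theorem le_commutator_sigmaCore_of_le_centralizer_tau1 (hG : Cfsg.IsMinSimpleOddOrder G)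
    {M : Subgroup G} (hM : IsCoatom M) {p : ℕ} [hp : Fact p.Prime] (hpτ : p ∈ Cfsg.tau1 M)
    {P : Subgroup G} (hPM : P ≤ M) (hP : Nat.card P = p) {q : ℕ} [hq : Fact q.Prime]
    (hqβ : q ∉ Cfsg.beta M) {X : Subgroup G}
    (hXle : X ≤ Cfsg.sigmaCore M ⊓ Subgroup.centralizer (P : Set G)) (hXq : IsPGroup q ↥X) :
    X ≤ ⁅Cfsg.sigmaCore M, Cfsg.sigmaCore M⁆ := by
  classical
  have hpσ : p ∉ Cfsg.sigma M := hpτ.2.1
  obtain ⟨E, hE, hPE⟩ := Cfsg.Agent.Helper4.BG10.exists_compl_sigmaCore_ge hG hM hPM (by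
    intro t ht hd
    rw [hP] at hd
    have := (Nat.prime_dvd_prime_iff_eq ht hp.out).mp hd
    exact this ▸ hpσ)
  set K := Cfsg.sigmaCore M with hK
  have hKn : M ≤ Subgroup.normalizer (K : Set G) := le_normalizer_sigmaCore M
  have hEK : E ≤ Subgroup.normalizer (K : Set G) := hE.1.trans hKn
  have hPK : P ≤ Subgroup.normalizer (K : Set G) := hPM.trans hKn
  have hcopE : (Nat.card E).Coprime (Nat.card K) := (coprime_card_sigmaCore_compl hG hM hE).symm
  have hcopP : (Nat.card P).Coprime (Nat.card K) :=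
    Nat.Coprime.coprime_dvd_left (Subgroup.card_dvd_of_le hPE) hcopE
  have hKsol : Group.IsSolvable ↥K := by
    haveI : Group.IsSolvable ↥M := hG.2.2.2 M hM.1
    exact isSolvable_of_le Cfsg.Agent.Lead.BG12.sigmaCore_le inferInstance
  obtain ⟨S₁, hS₁⟩ := exists_invariant_sylow (p := q) E K hEK hcopE (Or.inr hKsol)
  have hPX : P ≤ Subgroup.normalizer (X : Set G) := by
    intro u hu
    apply Subgroup.mem_normalizer_fintype
    intro x hx
    have hc : u * x = x * u :=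
      (Subgroup.mem_centralizer_iff.mp (hXle hx).2 u hu)
    have : u * x * u⁻¹ = x := by rw [hc]; group
    rw [this]; exact hx
  obtain ⟨S₂, hXS₂, hS₂⟩ := exists_invariant_sylow_ge (p := q) P K hPK hcopP (Or.inr hKsol) X
    (hXle.trans inf_le_left) hXq hPX
  obtain ⟨c, hcP, hc⟩ := invariant_sylow_conj P K hPK hcopP (Or.inr hKsol) S₂ S₁ hS₂
    (hPE.trans hS₁)
  have hmap : ((S₁ : Subgroup ↥K)).map K.subtype =
      MulAut.conj (c : G) • (S₂ : Subgroup ↥K).map K.subtype := by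
    rw [← hc]
    exact sylow_smul_map K S₂ c
  set X' : Subgroup G := X.map (MulAut.conj (c : G)).toMonoidHom with hX'
  have hX'S : X' ≤ (S₁ : Subgroup ↥K).map K.subtype := by
    rw [hmap]
    rintro _ ⟨x, hx, rfl⟩
    exact Subgroup.smul_mem_pointwise_smul x (MulAut.conj (c : G)) _ (hXS₂ hx)
  have hX'P : X' ≤ Subgroup.centralizer (P : Set G) := by
    rintro _ ⟨x, hx, rfl⟩
    simp only [MulEquiv.coe_toMonoidHom, MulAut.conj_apply]
    exact Subgroup.mul_mem _ (Subgroup.mul_mem _ hcP (hXle hx).2) (Subgroup.inv_mem _ hcP)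
  have h1 := le_commutator_sigmaCore_aux hG hM hE hpτ hPE hP hqβ
    (Subgroup.map_subtype_le (S₁ : Subgroup ↥K)) (S₁.2.map _) hS₁ hX'S hX'P
  intro x hx
  have hx' : (c : G) * x * (c : G)⁻¹ ∈ ⁅K, K⁆ := h1 ⟨x, hx, rfl⟩
  have hcn : (c : G)⁻¹ ∈ Subgroup.normalizer ((⁅K, K⁆ : Subgroup G) : Set G) :=
    Cfsg.Agent.Lead.BG12.le_normalizer_commutator_self K (K.inv_mem c.2)
  have := (Subgroup.mem_normalizer_iff.mp hcn _).mp hx'
  convert this using 1
  group

/-- **Bender–Glauberman Theorem 13.5.**  Let `p ∈ τ₁(M)`, `P ≤ M` of order `p` and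
`X ≤ C_{M_σ}(P)` of prime order `q`.  Then `C(X) ≤ M`, `M` is the only maximal subgroup containing
`C(X)`, and every Sylow `q`-subgroup of `M_σ` lies in no maximal subgroup other than `M`. -/
theorem cent_tau1_uniq (hG : Cfsg.IsMinSimpleOddOrder G) {M : Subgroup G} (hM : IsCoatom M)
    {p : ℕ} [hp : Fact p.Prime] (hpτ : p ∈ Cfsg.tau1 M) {P : Subgroup G} (hPM : P ≤ M)
    (hP : Nat.card P = p) {q : ℕ} [hq : Fact q.Prime] {X : Subgroup G}
    (hXle : X ≤ Cfsg.sigmaCore M ⊓ Subgroup.centralizer (P : Set G)) (hX : Nat.card X = q)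
    (S : Sylow q ↥(Cfsg.sigmaCore M)) :
    (q ∈ Cfsg.beta M ∨ X ≤ ⁅Cfsg.sigmaCore M, Cfsg.sigmaCore M⁆) ∧
    (Subgroup.centralizer (X : Set G) ≤ M ∧
      ∀ L : Subgroup G, IsCoatom L → Subgroup.centralizer (X : Set G) ≤ L → L = M) ∧
    Cfsg.InUniqueMaximal ((S : Subgroup ↥(Cfsg.sigmaCore M)).map (Cfsg.sigmaCore M).subtype) ∧
      (S : Subgroup ↥(Cfsg.sigmaCore M)).map (Cfsg.sigmaCore M).subtype ≤ M := by
  have hXq : IsPGroup q ↥X := IsPGroup.of_card (n := 1) (by rw [hX, pow_one])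
  have hqσ : q ∈ Cfsg.sigma M := by
    apply Cfsg.Agent.Lead.BG12.mem_sigma_of_dvd_card_sigmaCore hq.out
    rw [← hX]
    exact Subgroup.card_dvd_of_le (hXle.trans inf_le_left)
  have hXM : X ≤ M := (hXle.trans inf_le_left).trans Cfsg.Agent.Lead.BG12.sigmaCore_le
  have h : q ∈ Cfsg.beta M ∨ X ≤ ⁅Cfsg.sigmaCore M, Cfsg.sigmaCore M⁆ := by
    by_cases hβ : q ∈ Cfsg.beta M
    · exact Or.inl hβ
    · exact Or.inr (le_commutator_sigmaCore_of_le_centralizer_tau1 hG hM hpτ hPM hP hβ hXle hXq)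
  exact ⟨h, Cfsg.Agent.S1423.result hG M hM q hqσ X hXM hX S h⟩

end Cfsg.Agent.Helper4.BG13
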