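import Mathlib
import Cfsg.Prelude
import Cfsg.Agent.Helper3.BG134c
import Cfsg.Agent.Helper4.BG13d
import Cfsg.Agent.Helper1.AbelianAct
import Cfsg.Agent.Helper1.BGPartC
import Cfsg.Agent.S1419

set_option autoImplicit false
set_option linter.unusedSectionVars false
set_option linter.unusedVariables false

/-!
Bender–Glauberman Section 14, preparatory step **(P5)**: if `p ∉ σ(M)`, `M` has cyclic Sylow
`p`-subgroups, `X ≤ M` has order `p`, `C_{M_σ}(X) ≠ 1` and `N(X) ≤ H ∈ 𝓜`, then `p ∈ σ(H)`.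
The proof (helper1) uses **(P6)**, taken here as the hypothesis `HypP6 G`.
-/

namespace Cfsg.Agent.Helper4.BG14

open Cfsg Cfsg.Agent.Helper1 Cfsg.Agent.Helper2 Cfsg.Agent.Helper1.BGT Cfsg.Agent.Helper1.BGU
  Cfsg.Agent.Helper1.BGV Cfsg.Agent.Helper1.BGW Cfsg.Agent.Helper1.BGX Cfsg.Agent.Lead.BG12
  Cfsg.Agent.Lead.BG108 Cfsg.Agent.Helper4.BG10 Cfsg.Agent.Helper4.BG12
open scoped commutatorElement Pointwise

universe u

variable {G : Type u} [Group G] [Finite G]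

/-- **(P6)** as a hypothesis: for `t ∈ τ₂(M)`, `A ≤ E` elementary abelian of order `t²`,
`p ∈ τ₁(M)` and `X ≤ E` of order `p` with `C_{M_σ}(X) ≠ 1`, `X` centralizes no nontrivial element
of `A`. -/
def HypP6 (G : Type u) [Group G] : Prop :=
  ∀ {M E A X : Subgroup G} {t p : ℕ}, IsCoatom M → Cfsg.IsComplIn E (Cfsg.sigmaCore M) M →
    t.Prime → t ∈ Cfsg.tau2 M → (A ≤ E ∧ Cfsg.IsElementaryAbelian t A ∧ Nat.card A = t ^ 2) →
    p.Prime → p ∈ Cfsg.tau1 M → X ≤ E → Nat.card X = p →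
    Cfsg.sigmaCore M ⊓ Subgroup.centralizer (X : Set G) ≠ ⊥ →
    A ⊓ Subgroup.centralizer (X : Set G) = ⊥

/-- For `p ∈ τ₂(H)`, `A ≤ E_H` elementary abelian of order `p²`: every maximal subgroup `L`
containing `N(A)` is different from `H` and has `p ∈ σ(L)`. -/
theorem mem_sigma_of_normalizer_ea_le (hG : Cfsg.IsMinSimpleOddOrder G) {H L : Subgroup G}
    (hH : IsCoatom H) (hL : IsCoatom L) {p : ℕ} [hp : Fact p.Prime] (hpτ : p ∈ Cfsg.tau2 H)
    {E A : Subgroup G} (hE : Cfsg.IsComplIn E (Cfsg.sigmaCore H) H)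
    (hA : A ≤ E ∧ Cfsg.IsElementaryAbelian p A ∧ Nat.card A = p ^ 2)
    (hNL : Subgroup.normalizer (A : Set G) ≤ L) : L ≠ H ∧ p ∈ Cfsg.sigma L := by
  have c126 := Cfsg.Agent.Helper4.BG12.cor126 hG hH hpτ hE hA
  refine ⟨fun h => c126.2.1.2.2 (h ▸ hNL), ?_⟩
  by_contra hσ
  have hAL : A ≤ L := Subgroup.le_normalizer.trans hNL
  have hAp : IsPGroup p ↥A := Cfsg.Agent.Helper3.BGAlpha.isPGroup_of_elementary hA.2.1
  have hr2 : Cfsg.PRankLE p 2 ↥L := pRankLE_of_not_mem_sigma hG hL hp.out hσ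
  have hr1 : ¬ Cfsg.PRankLE p 1 ↥L := by
    refine not_pRankLE_of_hasEA ⟨A, hAL, hA.2.1, ?_⟩
    rw [hA.2.2, pow_one]
    have := hp.out.one_lt
    nlinarith
  have hpτL : p ∈ Cfsg.tau2 L := ⟨hp.out, hσ, hr2, hr1⟩
  have hπ : ∀ t : ℕ, t.Prime → t ∣ Nat.card A → t ∉ Cfsg.sigma L := by
    intro t ht hd
    rw [hA.2.2] at hd
    have := (Nat.prime_dvd_prime_iff_eq ht hp.out).1 (ht.dvd_of_dvd_pow hd)
    rw [this]; exact hσ
  obtain ⟨EL, hEL, hAEL⟩ := Cfsg.Agent.Helper4.BG10.exists_compl_sigmaCore_ge hG hL hAL hπ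
  have c126L := Cfsg.Agent.Helper4.BG12.cor126 hG hL hpτL hEL ⟨hAEL, hA.2⟩
  exact c126L.2.1.2.2 hNL

/-- the `p`-subgroups of `G` are abelian if some Sylow `p`-subgroup is -/
theorem commute_of_sylow_comm {p : ℕ} [hp : Fact p.Prime] {S : Sylow p G}
    (hS : IsMulCommutative (S : Subgroup G)) {T : Subgroup G} (hT : IsPGroup p ↥T) :
    ∀ a ∈ T, ∀ b ∈ T, a * b = b * a := by
  obtain ⟨S', hS'⟩ := hT.exists_le_sylow
  obtain ⟨g, hg⟩ := MulAction.exists_smul_eq G S S'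
  intro a ha b hb
  have ha' : a ∈ ((g • S : Sylow p G) : Subgroup G) := hg ▸ hS' ha
  have hb' : b ∈ ((g • S : Sylow p G) : Subgroup G) := hg ▸ hS' hb
  rw [Sylow.coe_subgroup_smul, Subgroup.mem_smul_pointwise_iff_exists] at ha' hb'
  obtain ⟨a₀, ha₀, rfl⟩ := ha'
  obtain ⟨b₀, hb₀, rfl⟩ := hb'
  have h := hS.is_comm.comm ⟨a₀, ha₀⟩ ⟨b₀, hb₀⟩
  have h' : a₀ * b₀ = b₀ * a₀ := congrArg Subtype.val h
  simp only [MulAut.smul_def, MulAut.conj_apply]
  calc g * a₀ * g⁻¹ * (g * b₀ * g⁻¹) = g * (a₀ * b₀) * g⁻¹ := by group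
    _ = g * (b₀ * a₀) * g⁻¹ := by rw [h']
    _ = g * b₀ * g⁻¹ * (g * a₀ * g⁻¹) := by group

/-- **(P5)**, the core: the case `p ∈ τ₂(H)` is impossible. -/
theorem p5_aux (hG : Cfsg.IsMinSimpleOddOrder G) (hP6 : HypP6 G) {M H : Subgroup G}
    (hM : IsCoatom M) (hH : IsCoatom H) {p : ℕ} [hp : Fact p.Prime]
    (hpσ : p ∉ Cfsg.sigma M) (hp1 : Cfsg.PRankLE p 1 ↥M) {X : Subgroup G} (hXM : X ≤ M)
    (hX : Nat.card X = p)
    (hY : Cfsg.sigmaCore M ⊓ Subgroup.centralizer (X : Set G) ≠ ⊥)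
    (hNX : Subgroup.normalizer (X : Set G) ≤ H) (hpτ2 : p ∈ Cfsg.tau2 H) : False := by
  have hp1' := hp.out.one_lt
  have hXp : IsPGroup p ↥X := IsPGroup.of_card (n := 1) (by rw [hX, pow_one])
  have hX1 : X ≠ ⊥ := by
    intro h
    rw [h, Subgroup.card_bot] at hX
    exact hp1'.ne hX
  have hCXH : Subgroup.centralizer (X : Set G) ≤ H :=
    (Subgroup.centralizer_le_normalizer _).trans hNX
  have hXH : X ≤ H := Subgroup.le_normalizer.trans hNX
  have hpσH : p ∉ Cfsg.sigma H := hpτ2.2.1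
  -- a cyclic Sylow `p`-subgroup `S ≥ X` of `M`
  obtain ⟨S, hXS, hSM, hSp, hScard⟩ := Cfsg.Agent.Lead.exists_le_card_eq_ppart hXp hXM
  have hSc : IsCyclic ↥S := Cfsg.Agent.Lead.BG12.isCyclic_of_pRankLE_one hG.1 hp1 hSM hSp
  have hS1 : S ≠ ⊥ := fun h => hX1 (le_bot_iff.1 (h ▸ hXS))
  have hNS : Subgroup.normalizer (S : Set G) ≤ Subgroup.normalizer (X : Set G) :=
    Cfsg.Agent.Lead.BG12.normalizer_le_normalizer_of_isCyclic hSc hXS
  have hSH : S ≤ H := Subgroup.le_normalizer.trans (hNS.trans hNX)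
  -- `H` is not conjugate to `M`
  have hnc : ∀ g : G, M ≠ MulAut.conj g • H := by
    intro g hg
    have hcardMH : Nat.card M = Nat.card H := by
      rw [hg]
      exact (Nat.card_congr (Subgroup.equivSMul (MulAut.conj g) H).toEquiv).symm
    have hcardH : Nat.card S = p ^ (Nat.card H).factorization p := by
      rw [hScard, hcardMH]
    exact hpσH
      (Cfsg.Agent.Lead.BG12.mem_sigma_of_normalizer_le hSH hS1 hSp hcardH (hNS.trans hNX))
  have hnc' : ∀ g : G, H ≠ MulAut.conj g • M := by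
    intro g hg
    apply hnc g⁻¹
    rw [hg, Cfsg.Agent.Helper1.BGT.conj_smul_smul, inv_mul_cancel, map_one, one_smul]
  have hHM : H ≠ M := by
    intro h
    apply hnc 1
    rw [map_one, one_smul, h]
  -- an element `y` of prime order `q` of `C_{M_σ}(X)`
  obtain ⟨⟨y₀, hy₀⟩, hy₀1⟩ := (Subgroup.ne_bot_iff_exists_ne_one).1 hY
  have hy₀1' : y₀ ≠ 1 := fun h => hy₀1 (Subtype.ext h)
  have hord' : orderOf y₀ ≠ 1 := fun h => hy₀1' (orderOf_eq_one_iff.1 h)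
  obtain ⟨q, hq, hqd⟩ := Nat.exists_prime_and_dvd hord'
  haveI hqF := Fact.mk hq
  obtain ⟨y, hydef⟩ : ∃ y : G, y = y₀ ^ (orderOf y₀ / q) := ⟨_, rfl⟩
  have hyq : orderOf y = q := by
    rw [hydef]; exact orderOf_pow_orderOf_div (orderOf_pos y₀).ne' hqd
  have hyσ : y ∈ Cfsg.sigmaCore M := by rw [hydef]; exact Subgroup.pow_mem _ hy₀.1 _
  have hyC : y ∈ Subgroup.centralizer (X : Set G) := by
    rw [hydef]; exact Subgroup.pow_mem _ hy₀.2 _
  have hy1 : y ≠ 1 := by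
    rintro rfl
    rw [orderOf_one] at hyq
    exact hq.one_lt.ne hyq
  obtain ⟨Y₁, hY₁⟩ : ∃ Y₁ : Subgroup G, Y₁ = Subgroup.zpowers y := ⟨_, rfl⟩
  have hY₁card : Nat.card Y₁ = q := by rw [hY₁, Nat.card_zpowers, hyq]
  have hY₁q : IsPGroup q ↥Y₁ := IsPGroup.of_card (n := 1) (by rw [hY₁card, pow_one])
  have hyY₁ : y ∈ Y₁ := by rw [hY₁]; exact Subgroup.mem_zpowers y
  have hY₁C : Y₁ ≤ Subgroup.centralizer (X : Set G) := by
    rw [hY₁]; exact Subgroup.zpowers_le.2 hyC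
  have hY₁H : Y₁ ≤ H := hY₁C.trans hCXH
  have hyH : y ∈ H := hY₁H hyY₁
  have hqσM : q ∈ Cfsg.sigma M := by
    apply Cfsg.Agent.Lead.BG12.mem_sigma_of_dvd_card_sigmaCore hq
    rw [← hyq]
    exact Subgroup.orderOf_dvd_natCard _ hyσ
  have hqp : q ≠ p := fun h => hpσ (h ▸ hqσM)
  -- `H_σ` is nilpotent, so `σ(M) ∩ σ(H) = ∅`
  obtain ⟨A₀, hA₀H, hA₀e, hA₀card⟩ :=
    Cfsg.Agent.Helper4.BG12.exists_ea2_of_not_pRankLE_one hG hpτ2.2.2.2
  have t125 := Cfsg.Agent.Helper4.BG12.thm125 hG hH hpτ2 ⟨hA₀H, hA₀e, hA₀card⟩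
  have hnil := t125.1
  have hqσH : q ∉ Cfsg.sigma H := fun h =>
    Cfsg.Agent.Helper4.BG11.not_mem_sigma_of_isNilpotent_sigmaCore hG hH hM hnil hnc h hqσM
  -- a complement `E_H ⊇ Y₁ X`
  have hY₁NX : Y₁ ≤ Subgroup.normalizer (X : Set G) :=
    hY₁C.trans (Subgroup.centralizer_le_normalizer _)
  have hcardD := Cfsg.Agent.Helper1.card_sup_mul_card_inf (N := X) (A := Y₁) hY₁NX
  have hDH : X ⊔ Y₁ ≤ H := sup_le hXH hY₁H
  have hDπ : ∀ t : ℕ, t.Prime → t ∣ Nat.card ↥(X ⊔ Y₁) → t ∉ Cfsg.sigma H := by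
    intro t ht hd
    have h1 : t ∣ Nat.card X * Nat.card Y₁ := by
      rw [← hcardD]; exact Dvd.dvd.mul_right hd _
    rw [hX, hY₁card] at h1
    rcases (Nat.Prime.dvd_mul ht).1 h1 with h4 | h4
    · rw [(Nat.prime_dvd_prime_iff_eq ht hp.out).1 h4]; exact hpσH
    · rw [(Nat.prime_dvd_prime_iff_eq ht hq).1 h4]; exact hqσH
  obtain ⟨EH, hEH, hDE⟩ := Cfsg.Agent.Helper4.BG10.exists_compl_sigmaCore_ge hG hH hDH hDπ
  obtain ⟨A', hA'E, hA'e, hA'card⟩ :=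
    Cfsg.Agent.Lead.BG127.exists_elementary_le_compl hG hH hEH hpτ2
  have c126 := Cfsg.Agent.Helper4.BG12.cor126 hG hH hpτ2 hEH ⟨hA'E, hA'e, hA'card⟩
  have hEN : EH ≤ Subgroup.normalizer (A' : Set G) := c126.1.1
  have hXE : X ≤ EH := le_sup_left.trans hDE
  have hY₁E : Y₁ ≤ EH := le_sup_right.trans hDE
  have hXA' : X ≤ A' := c126.1.2 X hXE hX
  have hA'H : A' ≤ H := hA'E.trans hEH.1
  have hA'p : IsPGroup p ↥A' := Cfsg.Agent.Helper3.BGAlpha.isPGroup_of_elementary hA'e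
  have hY₁NA : Y₁ ≤ Subgroup.normalizer (A' : Set G) := hY₁E.trans hEN
  -- `y` does not centralize `A'`
  have hyA' : y ∉ Subgroup.centralizer (A' : Set G) := fun h =>
    Cfsg.Agent.Helper3.BG134.false_of_centralizing_ea' hG hM hH hHM hpτ2 hpσ hXM hXA' hX1
      ⟨hA'H, hA'e, hA'card⟩ hyσ hyq h
  have hCY₁ : Subgroup.centralizer (Y₁ : Set G) = Subgroup.centralizer ({y} : Set G) := by
    rw [hY₁]; exact Cfsg.Agent.Helper1.BGX.centralizer_zpowers_eq y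
  -- `C_{A'}(Y₁) = X`
  have hXB : X ≤ A' ⊓ Subgroup.centralizer (Y₁ : Set G) := by
    intro x hx
    refine ⟨hXA' hx, ?_⟩
    show x ∈ Subgroup.centralizer (Y₁ : Set G)
    rw [hCY₁, Subgroup.mem_centralizer_singleton_iff]
    exact ((Subgroup.mem_centralizer_iff.1 hyC) x hx)
  have hBne : A' ⊓ Subgroup.centralizer (Y₁ : Set G) ≠ A' := by
    intro h
    apply hyA'
    rw [Subgroup.mem_centralizer_iff]
    intro a ha
    have h1 : a ∈ A' ⊓ Subgroup.centralizer (Y₁ : Set G) := by rw [h]; exact ha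
    have h2 : a ∈ Subgroup.centralizer (Y₁ : Set G) := h1.2
    rw [hCY₁, Subgroup.mem_centralizer_singleton_iff] at h2
    exact h2
  have hCA : A' ⊓ Subgroup.centralizer (Y₁ : Set G) = X := by
    have hd : Nat.card ↥(A' ⊓ Subgroup.centralizer (Y₁ : Set G)) ∣ p ^ 2 :=
      hA'card ▸ Subgroup.card_dvd_of_le inf_le_left
    obtain ⟨k, hk2, hk⟩ := (Nat.dvd_prime_pow hp.out).1 hd
    have hXd : p ∣ Nat.card ↥(A' ⊓ Subgroup.centralizer (Y₁ : Set G)) :=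
      hX ▸ Subgroup.card_dvd_of_le hXB
    have hk0 : k ≠ 0 := by
      rintro rfl
      rw [hk, pow_zero] at hXd
      exact hp.out.one_lt.ne' (Nat.dvd_one.1 hXd)
    have hk2' : k ≠ 2 := by
      rintro rfl
      apply hBne
      apply Subgroup.eq_of_le_of_card_ge inf_le_left
      rw [hk, hA'card]
    have hk1 : k = 1 := by omega
    rw [hk1, pow_one] at hk
    exact (Subgroup.eq_of_le_of_card_ge hXB (by rw [hk, hX])).symm
  -- a maximal subgroup `L ≥ N(A')`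
  have hA'1 : A' ≠ ⊥ := fun h => hX1 (le_bot_iff.1 (h ▸ hXA'))
  have hA'top : A' ≠ ⊤ := sylow_ne_top hG p _ hA'p
  obtain ⟨L, hL, hNL⟩ := exists_coatom_ge (normalizer_ne_top_of_simple hG hA'1 hA'top)
  obtain ⟨hLH, hpσL⟩ :=
    mem_sigma_of_normalizer_ea_le hG hH hL hpτ2 hEH ⟨hA'E, hA'e, hA'card⟩ hNL
  have hA'L : A' ≤ L := Subgroup.le_normalizer.trans hNL
  have hA'σ : A' ≤ Cfsg.sigmaCore L := Cfsg.Agent.Lead.BG12.le_sigmaCore' hG hL hpσL hA'L hA'p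
  have hyL : y ∈ L := hNL (hY₁NA hyY₁)
  have hncLH : ∀ g : G, L ≠ MulAut.conj g • H := by
    intro g hg
    have hH' : IsCoatom (MulAut.conj g • H) := hg ▸ hL
    exact hpσH (Cfsg.Agent.Lead.BG12.mem_sigma_of_mem_sigma_conj_smul hG hH' (hg ▸ hpσL))
  have hqσL : q ∉ Cfsg.sigma L := by
    intro h
    obtain ⟨g, hg⟩ := Cfsg.Agent.Helper1.BGPart.exists_conj_of_mem_sigma_inter hG hM hL hqσM h
    have hM' : IsCoatom (MulAut.conj g • M) := hg ▸ hL
    exact hpσ (Cfsg.Agent.Lead.BG12.mem_sigma_of_mem_sigma_conj_smul hG hM' (hg ▸ hpσL))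
  -- `q ∈ τ₁(H)`
  have hqτH : q ∈ Cfsg.tau1 H := by
    by_contra hcon
    apply hyA'
    rw [Subgroup.mem_centralizer_iff]
    intro a ha
    exact Cfsg.Agent.Helper3.BG134.commute_of_not_mem_tau1 hG hL hH hncLH hqσL hcon (hA'σ ha)
      (hA'H ha) hyL hyH (hY₁ ▸ hY₁q)
  have hXCY : X ≤ Subgroup.centralizer (Y₁ : Set G) := hXB.trans inf_le_right
  by_cases hSyl : ∀ S : Sylow p G, ¬ IsMulCommutative (S : Subgroup G)
  · -- nonabelian Sylow `p`-subgroups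
    obtain ⟨-, ⟨hA0card, -⟩, hfpf⟩ :=
      Cfsg.Agent.S1419.result hG H hH EH hEH p hpτ2 hSyl A' ⟨hA'E, hA'e, hA'card⟩
    have hXA0 : X = A' ⊓ Subgroup.centralizer (Cfsg.sigmaCore H : Set G) := by
      by_contra hne
      exact (hfpf X hXE hX hne).2 hCXH
    haveI : IsMulCommutative ↥A' := hA'e.1
    have hcop : (Nat.card Y₁).Coprime (Nat.card A') := by
      rw [hY₁card, hA'card]
      exact ((Nat.coprime_primes hq hp.out).2 hqp).pow_right 2
    obtain ⟨hd1, hd2⟩ := Cfsg.Agent.Helper1.abelian_coprime_decomp Y₁ A' hY₁NA hcop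
    rw [hCA] at hd1 hd2
    obtain ⟨X2, hX2⟩ : ∃ X2 : Subgroup G, X2 = ⁅A', Y₁⁆ := ⟨_, rfl⟩
    rw [← hX2] at hd1 hd2
    have hX2A : X2 ≤ A' := by rw [← hd2]; exact le_sup_right
    have hXNY : X ≤ Subgroup.normalizer (Y₁ : Set G) :=
      hXCY.trans (Subgroup.centralizer_le_normalizer _)
    have hXNA : X ≤ Subgroup.normalizer (A' : Set G) := hXA'.trans Subgroup.le_normalizer
    have hXNX2 : X ≤ Subgroup.normalizer (X2 : Set G) := by
      rw [hX2]; exact Cfsg.Agent.Helper1.le_normalizer_commutator hXNA hXNY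
    have hYNX2 : Y₁ ≤ Subgroup.normalizer (X2 : Set G) := by
      rw [hX2]; exact Cfsg.Agent.Helper1.le_normalizer_commutator hY₁NA Subgroup.le_normalizer
    have hcard2 := Cfsg.Agent.Helper1.card_sup_mul_card_inf (N := X2) (A := X) hXNX2
    rw [sup_comm, hd2, inf_comm, hd1, Subgroup.card_bot, mul_one, hA'card, hX] at hcard2
    have hX2card : Nat.card X2 = p := by
      have h1 : p * p = Nat.card X2 * p := by rw [← hcard2]; ring
      exact (Nat.eq_of_mul_eq_mul_right hp.out.pos h1).symm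
    have hX2ne : X2 ≠ A' ⊓ Subgroup.centralizer (Cfsg.sigmaCore H : Set G) := by
      rw [← hXA0]
      intro h
      rw [h, inf_idem] at hd1
      exact hX1 hd1
    have hfpf2 : Cfsg.sigmaCore H ⊓ Subgroup.centralizer (X2 : Set G) = ⊥ :=
      (hfpf X2 (hX2A.trans hA'E) hX2card hX2ne).1
    have hX2p : IsPGroup p ↥X2 := hA'p.to_le hX2A
    have hX2H : X2 ≤ H := hX2A.trans hA'H
    have hfpfY : X2 ⊓ Subgroup.centralizer (Y₁ : Set G) = ⊥ := by
      rw [eq_bot_iff, ← hd1, ← hCA]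
      exact le_inf (le_inf (inf_le_left.trans hX2A) inf_le_right) inf_le_left
    haveI : Group.IsSolvable ↥H := hG.2.2.2 H hH.1
    have hsolv : Group.IsSolvable ↥(Cfsg.sigmaCore H) :=
      Cfsg.Agent.Helper1.isSolvable_of_le Cfsg.Agent.Lead.BG12.sigmaCore_le inferInstance
    have hcop2 : (Nat.card ↥(X2 ⊔ Y₁)).Coprime (Nat.card ↥(Cfsg.sigmaCore H)) := by
      have hc := Cfsg.Agent.Helper1.card_sup_mul_card_inf (N := X2) (A := Y₁) hYNX2
      have hdv : Nat.card ↥(X2 ⊔ Y₁) ∣ p * q := by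
        rw [← hX2card, ← hY₁card, ← hc]; exact Dvd.intro _ rfl
      refine Nat.Coprime.coprime_dvd_left hdv (Nat.Coprime.mul_left ?_ ?_)
      · exact (Nat.Prime.coprime_iff_not_dvd hp.out).2 (fun h =>
          hpσH (Cfsg.Agent.Lead.BG12.mem_sigma_of_dvd_card_sigmaCore hp.out h))
      · exact (Nat.Prime.coprime_iff_not_dvd hq).2 (fun h =>
          hqσH (Cfsg.Agent.Lead.BG12.mem_sigma_of_dvd_card_sigmaCore hq h))
    have hform := Cfsg.Agent.Helper4.BG13.frob_formula (Cfsg.sigmaCore H) X2 Y₁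
      (hX2H.trans (Cfsg.Agent.Lead.BG12.le_normalizer_sigmaCore H))
      (hY₁H.trans (Cfsg.Agent.Lead.BG12.le_normalizer_sigmaCore H)) hYNX2
      hX2p.isNilpotent (hY₁card ▸ hq) hfpfY hsolv hcop2
    have hbot : Cfsg.sigmaCore H ⊓ Subgroup.centralizer ((X2 ⊔ Y₁ : Subgroup G) : Set G) = ⊥ := by
      rw [eq_bot_iff, ← hfpf2]
      exact le_inf inf_le_left (inf_le_right.trans
        (Subgroup.centralizer_le (SetLike.coe_subset_coe.2 le_sup_left)))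
    rw [hbot, hfpf2, Subgroup.card_bot, one_pow, one_mul, mul_one] at hform
    have hne : Cfsg.sigmaCore H ⊓ Subgroup.centralizer (Y₁ : Set G) ≠ ⊥ := by
      intro h
      rw [h, Subgroup.card_bot, one_pow] at hform
      exact Cfsg.Agent.Lead.BG12.sigmaCore_ne_bot hG hH (Subgroup.card_eq_one.1 hform)
    have h6 := hP6 hH hEH hp.out hpτ2 ⟨hA'E, hA'e, hA'card⟩ hq hqτH hY₁E hY₁card hne
    rw [hCA] at h6
    exact hX1 h6
  · -- abelian Sylow `p`-subgroups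
    push Not at hSyl
    obtain ⟨S₀, hS₀⟩ := hSyl
    obtain ⟨N, hN⟩ : ∃ N : Subgroup G, N = Subgroup.normalizer (A' : Set G) := ⟨_, rfl⟩
    have hA'N : A' ≤ N := hN ▸ Subgroup.le_normalizer
    obtain ⟨T, hA'T, hTN, hTp, hTcard⟩ := Cfsg.Agent.Lead.exists_le_card_eq_ppart hA'p hA'N
    have hTC : T ≤ Subgroup.centralizer (A' : Set G) := by
      intro a ha
      rw [Subgroup.mem_centralizer_iff]
      intro b hb
      exact commute_of_sylow_comm hS₀ hTp b (hA'T hb) a ha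
    have hnd : ¬ p ∣ (N ⊓ Subgroup.centralizer (A' : Set G)).relIndex N :=
      Cfsg.Agent.Helper3.BG134.not_dvd_relIndex_of_ppart_le (le_inf hTN hTC) inf_le_left hTcard
    have hoddG : Odd (Nat.card G) := hG.1
    have hoddN : Odd (Nat.card N) := Odd.of_dvd_nat hoddG (Subgroup.card_subgroup_dvd_card N)
    have hp2 : p ≠ 2 := by
      rintro rfl
      have h2 : 2 ∣ Nat.card G := by
        rw [← hX]; exact Subgroup.card_subgroup_dvd_card X
      exact (Nat.not_even_iff_odd.2 hoddG) (even_iff_two_dvd.2 h2)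
    have hcomm := Cfsg.Agent.Helper2.GL2Odd.commutator_le_centralizer_of_card_prime_sq p hp2 A' N
      hoddN (hN ▸ le_rfl) hA'card hA'e.2 hnd
    have hyN : y ∈ N := hN ▸ hY₁NA hyY₁
    have hNNX : N ≤ Subgroup.normalizer (X : Set G) := by
      apply Cfsg.Agent.Helper1.le_normalizer_of_forall_conj_mem
      intro n hn x hx
      rw [← hCA]
      have hxA' : x ∈ A' := hXA' hx
      have hnN : n ∈ Subgroup.normalizer (A' : Set G) := hN ▸ hn
      refine ⟨(Subgroup.mem_normalizer_iff.1 hnN x).1 hxA', ?_⟩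
      show n * x * n⁻¹ ∈ Subgroup.centralizer (Y₁ : Set G)
      rw [hCY₁, Subgroup.mem_centralizer_singleton_iff]
      obtain ⟨c, hcdef⟩ : ∃ c : G, c = ⁅y⁻¹, n⁻¹⁆ := ⟨_, rfl⟩
      have hcN : c ∈ ⁅N, N⁆ := by
        rw [hcdef]
        exact Subgroup.commutator_mem_commutator (N.inv_mem hyN) (N.inv_mem hn)
      have hcA : c ∈ Subgroup.centralizer (A' : Set G) := hcomm hcN
      have e1 : x * c = c * x := (Subgroup.mem_centralizer_iff.1 hcA) x hxA'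
      have e2 : x * y = y * x := (Subgroup.mem_centralizer_iff.1 hyC) x hx
      have hc : y * c = n⁻¹ * y * n := by
        rw [hcdef, commutatorElement_def]; group
      calc n * x * n⁻¹ * y = n * x * (n⁻¹ * y * n) * n⁻¹ := by group
        _ = n * x * (y * c) * n⁻¹ := by rw [hc]
        _ = n * (x * y) * c * n⁻¹ := by group
        _ = n * (y * x) * c * n⁻¹ := by rw [e2]
        _ = n * y * (x * c) * n⁻¹ := by group
        _ = n * y * (c * x) * n⁻¹ := by rw [e1]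
        _ = n * (y * c) * x * n⁻¹ := by group
        _ = n * (n⁻¹ * y * n) * x * n⁻¹ := by rw [hc]
        _ = y * (n * x * n⁻¹) := by group
    exact c126.2.1.2.2 (hN ▸ hNNX.trans hNX)

/-- **(P5)**: if `p ∉ σ(M)`, `M` has `p`-rank at most `1`, `X ≤ M` has order `p` with
`C_{M_σ}(X) ≠ 1` and `N(X) ≤ H ∈ 𝓜`, then `p ∈ σ(H)` and `X ≤ H_σ`. -/
theorem p5 (hG : Cfsg.IsMinSimpleOddOrder G) (hP6 : HypP6 G) {M H : Subgroup G}
    (hM : IsCoatom M) (hH : IsCoatom H) {p : ℕ} [hp : Fact p.Prime]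
    (hpσ : p ∉ Cfsg.sigma M) (hp1 : Cfsg.PRankLE p 1 ↥M) {X : Subgroup G} (hXM : X ≤ M)
    (hX : Nat.card X = p)
    (hY : Cfsg.sigmaCore M ⊓ Subgroup.centralizer (X : Set G) ≠ ⊥)
    (hNX : Subgroup.normalizer (X : Set G) ≤ H) : p ∈ Cfsg.sigma H ∧ X ≤ Cfsg.sigmaCore H := by
  have hXp : IsPGroup p ↥X := IsPGroup.of_card (n := 1) (by rw [hX, pow_one])
  have hX1 : X ≠ ⊥ := by
    intro h
    rw [h, Subgroup.card_bot] at hX
    exact hp.out.one_lt.ne hX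
  have hσ : p ∈ Cfsg.sigma H := by
    rcases Cfsg.Agent.Lead.BG12.lemma122a hG hH hXp hX1 hNX with h | h
    · exact h
    · exact (p5_aux hG hP6 hM hH hpσ hp1 hXM hX hY hNX h).elim
  exact ⟨hσ, Cfsg.Agent.Lead.BG12.le_sigmaCore' hG hH hσ (Subgroup.le_normalizer.trans hNX) hXp⟩

/-- For `p ∈ κ(M)`, `M` has `p`-rank at most one. -/
theorem pRankLE_one_of_mem_kappa {M : Subgroup G} {p : ℕ} [hp : Fact p.Prime]
    (hpκ : p ∈ Cfsg.kappa M) : Cfsg.PRankLE p 1 ↥M := by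
  obtain ⟨P⟩ : Nonempty (Sylow p ↥M) := inferInstance
  exact pRankLE_of_sylow P (pRankLE_one_of_isCyclic (hpκ.2.2.2 P).1 p)

/-- For `p ∈ κ(M)`, every subgroup `X ≤ M` of order `p` has `C_{M_σ}(X) ≠ 1`. -/
theorem sigmaCore_inf_centralizer_ne_bot_of_mem_kappa {M : Subgroup G} {p : ℕ}
    [hp : Fact p.Prime] (hpκ : p ∈ Cfsg.kappa M) {X : Subgroup G} (hXM : X ≤ M)
    (hX : Nat.card X = p) :
    Cfsg.sigmaCore M ⊓ Subgroup.centralizer (X : Set G) ≠ ⊥ := by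
  have hXp : IsPGroup p ↥X := IsPGroup.of_card (n := 1) (by rw [hX, pow_one])
  obtain ⟨P, hP⟩ := (hXp.comap_subtype : IsPGroup p ↥(X.subgroupOf M)).exists_le_sylow
  obtain ⟨hPc, x, hxP, hx1, y, hyσ, hy1, hxy⟩ := hpκ.2.2.2 P
  obtain ⟨P', hP'⟩ : ∃ P' : Subgroup G, P' = (P : Subgroup ↥M).map M.subtype := ⟨_, rfl⟩
  have hP'c : IsCyclic ↥P' := by
    rw [hP']
    haveI := hPc
    exact isCyclic_of_surjective ((P : Subgroup ↥M).equivMapOfInjective M.subtype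
      M.subtype_injective) (MulEquiv.surjective _)
  have hXP' : X ≤ P' := by
    intro a ha
    rw [hP']
    exact ⟨⟨a, hXM ha⟩, hP (Subgroup.mem_subgroupOf.2 ha), rfl⟩
  have hxP' : (x : G) ∈ P' := by rw [hP']; exact ⟨x, hxP, rfl⟩
  have hZP' : Subgroup.zpowers (x : G) ≤ P' := Subgroup.zpowers_le.2 hxP'
  have hx1' : (x : G) ≠ 1 := fun h => hx1 (Subtype.ext h)
  have hZp : IsPGroup p ↥(Subgroup.zpowers (x : G)) := by
    have hP'p : IsPGroup p ↥P' := by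
      rw [hP']; exact P.2.map _
    exact hP'p.to_le hZP'
  have hZ1 : Subgroup.zpowers (x : G) ≠ ⊥ := fun h => hx1' (Subgroup.zpowers_eq_bot.1 h)
  have hd : Nat.card X ∣ Nat.card ↥(Subgroup.zpowers (x : G)) := by
    rw [hX]; exact Cfsg.Agent.Helper1.BGV.dvd_card_of_isPGroup_ne_bot hZp hZ1
  have hXZ : X ≤ Subgroup.zpowers (x : G) :=
    Cfsg.Agent.Helper1.BGW.le_of_card_dvd_of_isCyclic hP'c hXP' hZP' hd
  intro hbot
  apply hy1
  have hy : y ∈ Cfsg.sigmaCore M ⊓ Subgroup.centralizer (X : Set G) := by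
    refine ⟨hyσ, ?_⟩
    apply Subgroup.centralizer_le (SetLike.coe_subset_coe.2 hXZ)
    rw [Cfsg.Agent.Helper1.BGX.centralizer_zpowers_eq, Subgroup.mem_centralizer_singleton_iff]
    exact hxy.symm
  rw [hbot] at hy
  exact Subgroup.mem_bot.1 hy

/-- **(P5) for `κ(M)`** (last clause of `S1430`): for `p ∈ κ(M)`, `X ≤ M` of order `p` and
`N(X) ≤ M* ∈ 𝓜`: `X ≤ M*_σ`. -/
theorem le_sigmaCore_of_mem_kappa (hG : Cfsg.IsMinSimpleOddOrder G) (hP6 : HypP6 G)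
    {M H : Subgroup G} (hM : IsCoatom M) (hH : IsCoatom H) {p : ℕ} [hp : Fact p.Prime]
    (hpκ : p ∈ Cfsg.kappa M) {X : Subgroup G} (hXM : X ≤ M) (hX : Nat.card X = p)
    (hNX : Subgroup.normalizer (X : Set G) ≤ H) : p ∈ Cfsg.sigma H ∧ X ≤ Cfsg.sigmaCore H :=
  p5 hG hP6 hM hH hpκ.2.2.1 (pRankLE_one_of_mem_kappa hpκ) hXM hX
    (sigmaCore_inf_centralizer_ne_bot_of_mem_kappa hpκ hXM hX) hNX

end Cfsg.Agent.Helper4.BG14
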