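import Mathlib
import Cfsg.Prelude
import Cfsg.Agent.Helper4.BG14P5

set_option autoImplicit false
set_option linter.unusedSectionVars false
set_option linter.unusedVariables false

/-!
Bender–Glauberman 13.7 (`tau12_regular`) = **(P6)**, by helper1's short proof: for `t ∈ τ₂(M)`,
`A ≤ E` elementary abelian of order `t²`, `p ∈ τ₁(M)`, `X ≤ E` of order `p` with `C_{M_σ}(X) ≠ 1`:
`C_A(X) = 1`.  Consequently **(P5)** holds unconditionally.
-/

namespace Cfsg.Agent.Helper4.BG14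

open Cfsg Cfsg.Agent.Helper1 Cfsg.Agent.Helper2 Cfsg.Agent.Helper1.BGT Cfsg.Agent.Helper1.BGU
  Cfsg.Agent.Helper1.BGV Cfsg.Agent.Helper1.BGW Cfsg.Agent.Helper1.BGX Cfsg.Agent.Lead.BG12
  Cfsg.Agent.Lead.BG108 Cfsg.Agent.Helper4.BG10 Cfsg.Agent.Helper4.BG12
open scoped commutatorElement Pointwise

universe u

variable {G : Type u} [Group G] [Finite G]

/-- **(P6)** = Bender–Glauberman 13.7. -/
theorem p6 (hG : Cfsg.IsMinSimpleOddOrder G) {M : Subgroup G} (hM : IsCoatom M)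
    {E : Subgroup G} (hE : Cfsg.IsComplIn E (Cfsg.sigmaCore M) M)
    {t : ℕ} [ht : Fact t.Prime] (htτ : t ∈ Cfsg.tau2 M)
    {A : Subgroup G} (hA : A ≤ E ∧ Cfsg.IsElementaryAbelian t A ∧ Nat.card A = t ^ 2)
    {p : ℕ} [hp : Fact p.Prime] (hpτ : p ∈ Cfsg.tau1 M)
    {X : Subgroup G} (hXE : X ≤ E) (hX : Nat.card X = p)
    (hY : Cfsg.sigmaCore M ⊓ Subgroup.centralizer (X : Set G) ≠ ⊥) :
    A ⊓ Subgroup.centralizer (X : Set G) = ⊥ := by
  by_contra hne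
  obtain ⟨hAE, hAe, hAcard⟩ := hA
  have hAM : A ≤ M := hAE.trans hE.1
  have hXM : X ≤ M := hXE.trans hE.1
  have hAt : IsPGroup t ↥A := Cfsg.Agent.Helper3.BGAlpha.isPGroup_of_elementary hAe
  have hXp : IsPGroup p ↥X := IsPGroup.of_card (n := 1) (by rw [hX, pow_one])
  have c126 := Cfsg.Agent.Helper4.BG12.cor126 hG hM htτ hE ⟨hAE, hAe, hAcard⟩
  have t125 := Cfsg.Agent.Helper4.BG12.thm125 hG hM htτ ⟨hAM, hAe, hAcard⟩
  -- S1428 for cyclic subgroups of `A ∩ C(X)`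
  have h1428 : ∀ a ∈ A ⊓ Subgroup.centralizer (X : Set G), a ≠ 1 →
      Cfsg.sigmaCore M ⊓ Subgroup.centralizer (X : Set G) ≤
        Cfsg.sigmaCore M ⊓ Subgroup.centralizer ((Subgroup.zpowers a : Subgroup G) : Set G) := by
    intro a ha ha1
    have hord : orderOf a = t := by
      have h1 : orderOf a ∣ t := orderOf_dvd_of_pow_eq_one (hAe.2 a ha.1)
      rcases (Nat.dvd_prime ht.out).1 h1 with h2 | h2
      · exact (ha1 (orderOf_eq_one_iff.1 h2)).elim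
      · exact h2
    apply Cfsg.Agent.S1428.result hG M hM E hE p hpτ X hXE hX (Subgroup.zpowers a)
    · exact Subgroup.zpowers_le.2 ⟨hAE ha.1, ha.2⟩
    · rw [Nat.card_zpowers, hord]; exact ht.out
  -- `X` does not centralize `A`
  have hXA : ¬ A ≤ Subgroup.centralizer (X : Set G) := by
    intro hAC
    apply hY
    rw [eq_bot_iff, ← t125.2.2.2.1]
    intro y hy
    refine ⟨hy.1, ?_⟩
    show y ∈ Subgroup.centralizer (A : Set G)
    rw [Subgroup.mem_centralizer_iff]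
    intro a ha
    by_cases ha1 : a = 1
    · rw [ha1, one_mul, mul_one]
    · have h2 := (h1428 a ⟨ha, hAC ha⟩ ha1 hy).2
      exact (Subgroup.mem_centralizer_iff.1 h2) a (Subgroup.mem_zpowers a)
  -- a subgroup `R ≤ C_A(X)` of order `t`
  obtain ⟨⟨r, hr⟩, hr1⟩ := (Subgroup.ne_bot_iff_exists_ne_one).1 hne
  have hr1' : r ≠ 1 := fun h => hr1 (Subtype.ext h)
  have hrord : orderOf r = t := by
    have h1 : orderOf r ∣ t := orderOf_dvd_of_pow_eq_one (hAe.2 r hr.1)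
    rcases (Nat.dvd_prime ht.out).1 h1 with h2 | h2
    · exact (hr1' (orderOf_eq_one_iff.1 h2)).elim
    · exact h2
  obtain ⟨R, hR⟩ : ∃ R : Subgroup G, R = Subgroup.zpowers r := ⟨_, rfl⟩
  have hRcard : Nat.card R = t := by rw [hR, Nat.card_zpowers, hrord]
  have hRA : R ≤ A := by rw [hR]; exact Subgroup.zpowers_le.2 hr.1
  have hRC : R ≤ Subgroup.centralizer (X : Set G) := by rw [hR]; exact Subgroup.zpowers_le.2 hr.2
  have hYR : Cfsg.sigmaCore M ⊓ Subgroup.centralizer (R : Set G) ≠ ⊥ := by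
    intro h
    apply hY
    rw [eq_bot_iff, ← h, hR]
    exact h1428 r hr hr1'
  have hCR := c126.2.2 R hRA hRcard hYR
  -- a maximal subgroup `L ≥ N(A)`
  have hA1 : A ≠ ⊥ := fun h => hne (by rw [h, bot_inf_eq])
  have hAtop : A ≠ ⊤ := sylow_ne_top hG t _ hAt
  obtain ⟨L, hL, hNL⟩ := exists_coatom_ge (normalizer_ne_top_of_simple hG hA1 hAtop)
  obtain ⟨hLM, htσL⟩ :=
    mem_sigma_of_normalizer_ea_le hG hM hL htτ hE ⟨hAE, hAe, hAcard⟩ hNL
  have hAL : A ≤ L := Subgroup.le_normalizer.trans hNL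
  have hEL : E ≤ L := c126.1.1.trans hNL
  have hXL : X ≤ L := hXE.trans hEL
  have hXNA : X ≤ Subgroup.normalizer (A : Set G) := hXE.trans c126.1.1
  have hML : Cfsg.sigmaCore M ⊓ L = ⊥ := t125.2.2.2.2.1 L hL hLM hAL
  have hAσL : A ≤ Cfsg.sigmaCore L := Cfsg.Agent.Lead.BG12.le_sigmaCore' hG hL htσL hAL hAt
  have hrσL : r ∈ Cfsg.sigmaCore L := hAσL hr.1
  have hpt : p ≠ t := by
    rintro rfl
    exact htτ.2.2.2 hpτ.2.2.2.2
  -- case (i): `X ≤ L'`
  have hcase1 : ¬ X ≤ ⁅L, L⁆ := by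
    intro hXL'
    apply hXA
    have htβ : t ∉ Cfsg.beta L := fun h =>
      Cfsg.Agent.Helper3.BG131.false_of_ideal_tau2 hG hM htτ ⟨hAM, hAe, hAcard⟩ h.2
    have htL : t ∣ Nat.card L := by
      have h1 : t ∣ Nat.card A := by rw [hAcard]; exact dvd_pow_self t (by norm_num)
      exact h1.trans (Subgroup.card_dvd_of_le hAL)
    have hN := ((Cfsg.Agent.S1414.result hG L hL).2.2.2.2 t ht.out htL htβ).1
    have hAL' : A ≤ ⁅L, L⁆ := hAσL.trans (sigmaCore_le_commutator hG hL)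
    intro a ha
    rw [Subgroup.mem_centralizer_iff]
    intro x hx
    have hxord : (orderOf x).Coprime t := by
      have h1 : orderOf x ∣ p := by
        rw [← hX]; exact Subgroup.orderOf_dvd_natCard _ hx
      exact Nat.Coprime.coprime_dvd_left h1 ((Nat.coprime_primes hp.out ht.out).2 hpt)
    exact Cfsg.Agent.Helper4.BG13.commute_of_hasNormalPComplement hN hAL' hAt (hXL' hx) hxord
      (hXNA hx) a ha
  have hpσL : p ∉ Cfsg.sigma L := fun h =>
    hcase1 ((Cfsg.Agent.Lead.BG12.le_sigmaCore' hG hL h hXL hXp).trans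
      (sigmaCore_le_commutator hG hL))
  have hr2 : Cfsg.PRankLE p 2 ↥L := pRankLE_of_not_mem_sigma hG hL hp.out hpσL
  have hpL : p ∣ Nat.card L := hX ▸ Subgroup.card_dvd_of_le hXL
  by_cases hr1 : Cfsg.PRankLE p 1 ↥L
  · by_cases hd : p ∣ Nat.card ↥⁅L, L⁆
    · -- `p ∈ τ₃(L)`
      apply hcase1
      intro x hx
      exact Cfsg.Agent.Helper3.BG134.mem_commutator_of_mem_tau3 hG ⟨hp.out, hpσL, hd, hr1⟩
        (hXL hx) (hXp.to_le (Subgroup.zpowers_le.2 hx))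
    · -- `p ∈ τ₁(L)`
      have hpτL : p ∈ Cfsg.tau1 L := ⟨hp.out, hpσL, hpL, hd, hr1⟩
      obtain ⟨S⟩ : Nonempty (Sylow t ↥(Cfsg.sigmaCore L)) := inferInstance
      have h135 := Cfsg.Agent.Helper4.BG13.cent_tau1_uniq hG hL hpτL hXL hX
        (le_inf (hRA.trans hAσL) hRC) hRcard S
      exact hLM (hCR.2 L hL h135.2.1.1)
  · -- `p ∈ τ₂(L)`
    have hpτL : p ∈ Cfsg.tau2 L := ⟨hp.out, hpσL, hr2, hr1⟩
    have hX1 : X ≠ ⊥ := by
      intro h
      rw [h, Subgroup.card_bot] at hX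
      exact hp.out.one_lt.ne hX
    obtain ⟨⟨x, hx⟩, hx1⟩ := (Subgroup.ne_bot_iff_exists_ne_one).1 hX1
    have hx1' : x ≠ 1 := fun h => hx1 (Subtype.ext h)
    have hxord : orderOf x ∣ p := by
      rw [← hX]; exact Subgroup.orderOf_dvd_natCard _ hx
    have hcx := (Cfsg.Agent.Helper4.BG12.centralizer_le_of_tau2_elt hG hL (hXL hx) hx1'
      (fun p' hp' hd' => by
        have := (Nat.prime_dvd_prime_iff_eq hp' hp.out).1 (hd'.trans hxord)
        rw [this]; exact hpτL)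
      ⟨hXL hx, r, hrσL, hr1', (Subgroup.mem_centralizer_iff.1 hr.2) x hx⟩).1
    apply hY
    rw [eq_bot_iff, ← hML]
    intro y hy
    refine ⟨hy.1, hcx ?_⟩
    rw [Subgroup.mem_centralizer_singleton_iff]
    exact ((Subgroup.mem_centralizer_iff.1 hy.2) x hx).symm

/-- **(P6)** holds. -/
theorem hypP6 (hG : Cfsg.IsMinSimpleOddOrder G) : HypP6 G := by
  intro M E A X t p hM hE ht htτ hA hp hpτ hXE hX hY
  haveI := Fact.mk ht
  haveI := Fact.mk hp
  exact p6 hG hM hE htτ hA hpτ hXE hX hY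

/-- **(P5)**, unconditionally. -/
theorem p5' (hG : Cfsg.IsMinSimpleOddOrder G) {M H : Subgroup G}
    (hM : IsCoatom M) (hH : IsCoatom H) {p : ℕ} [hp : Fact p.Prime]
    (hpσ : p ∉ Cfsg.sigma M) (hp1 : Cfsg.PRankLE p 1 ↥M) {X : Subgroup G} (hXM : X ≤ M)
    (hX : Nat.card X = p)
    (hY : Cfsg.sigmaCore M ⊓ Subgroup.centralizer (X : Set G) ≠ ⊥)
    (hNX : Subgroup.normalizer (X : Set G) ≤ H) : p ∈ Cfsg.sigma H ∧ X ≤ Cfsg.sigmaCore H :=
  p5 hG (hypP6 hG) hM hH hpσ hp1 hXM hX hY hNX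

/-- **(P5) for `κ(M)`**, unconditionally: the last clause of `S1430`. -/
theorem le_sigmaCore_of_mem_kappa' (hG : Cfsg.IsMinSimpleOddOrder G)
    {M H : Subgroup G} (hM : IsCoatom M) (hH : IsCoatom H) {p : ℕ} [hp : Fact p.Prime]
    (hpκ : p ∈ Cfsg.kappa M) {X : Subgroup G} (hXM : X ≤ M) (hX : Nat.card X = p)
    (hNX : Subgroup.normalizer (X : Set G) ≤ H) : p ∈ Cfsg.sigma H ∧ X ≤ Cfsg.sigmaCore H :=
  le_sigmaCore_of_mem_kappa hG (hypP6 hG) hM hH hpκ hXM hX hNX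

end Cfsg.Agent.Helper4.BG14
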