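import Mathlib
import Cfsg.Prelude
import Cfsg.Agent.Helper4.BG14P6

set_option autoImplicit false
set_option linter.unusedSectionVars false
set_option linter.unusedVariables false

/-!
Bender–Glauberman Section 14: the action of a cyclic Hall `κ(M)`-subgroup `K` (with
`κ(M) ⊆ τ₁(M)`): prime action on `M_σ`, and `C_M(k) = K × K*`.
-/

namespace Cfsg.Agent.Helper4.BG14

open Cfsg Cfsg.Agent.Helper1 Cfsg.Agent.Helper2 Cfsg.Agent.Helper1.BGT Cfsg.Agent.Helper1.BGU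
  Cfsg.Agent.Helper1.BGV Cfsg.Agent.Helper1.BGW Cfsg.Agent.Helper1.BGX Cfsg.Agent.Lead.BG12
  Cfsg.Agent.Lead.BG108 Cfsg.Agent.Helper4.BG10 Cfsg.Agent.Helper4.BG12
open scoped commutatorElement Pointwise

universe u

variable {G : Type u} [Group G] [Finite G]

/-- A prime `r ∉ σ(M)` for which `M` has `r`-rank at most one and some element of order `r` of `M`
centralizes a nontrivial element of `M_σ` lies in `κ(M)`. -/
theorem mem_kappa_of_commute (hG : Cfsg.IsMinSimpleOddOrder G) {M : Subgroup G} {r : ℕ}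
    [hr : Fact r.Prime] (hrσ : r ∉ Cfsg.sigma M) (hr1 : Cfsg.PRankLE r 1 ↥M) {d y : G}
    (hdM : d ∈ M) (hd : orderOf d = r) (hy : y ∈ Cfsg.sigmaCore M) (hy1 : y ≠ 1)
    (hdy : d * y = y * d) : r ∈ Cfsg.kappa M := by
  have hrM : r ∣ Nat.card M := by
    rw [← hd]; exact Subgroup.orderOf_dvd_natCard _ hdM
  refine ⟨hr.out, hrM, hrσ, ?_⟩
  intro S
  -- `S` is cyclic
  have hSc : IsCyclic ↥(S : Subgroup ↥M) := by
    have h1 : IsCyclic ↥((S : Subgroup ↥M).map M.subtype) :=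
      Cfsg.Agent.Lead.BG12.isCyclic_of_pRankLE_one hG.1 hr1 (Subgroup.map_subtype_le _)
        (S.2.map _)
    haveI := h1
    exact isCyclic_of_surjective
      ((S : Subgroup ↥M).equivMapOfInjective M.subtype M.subtype_injective).symm
      (MulEquiv.surjective _)
  refine ⟨hSc, ?_⟩
  -- a conjugate of `d` lies in `S`
  have hZr : IsPGroup r ↥(Subgroup.zpowers (⟨d, hdM⟩ : ↥M)) := by
    apply IsPGroup.of_card (n := 1)
    rw [Nat.card_zpowers, pow_one, ← hd]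
    exact Subgroup.orderOf_mk d hdM
  obtain ⟨g, hg⟩ := hZr.exists_le_sylow
  obtain ⟨m, hm⟩ := MulAction.exists_smul_eq ↥M g S
  have hdg : (⟨d, hdM⟩ : ↥M) ∈ (g : Subgroup ↥M) := hg (Subgroup.mem_zpowers _)
  have hmd : m * ⟨d, hdM⟩ * m⁻¹ ∈ (S : Subgroup ↥M) := by
    rw [← hm, Sylow.coe_subgroup_smul, Subgroup.mem_smul_pointwise_iff_exists]
    exact ⟨_, hdg, by simp [MulAut.smul_def]⟩
  have hd1 : d ≠ 1 := by
    rintro rfl
    rw [orderOf_one] at hd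
    exact hr.out.one_lt.ne hd
  refine ⟨m * ⟨d, hdM⟩ * m⁻¹, hmd, ?_, (m : G) * y * (m : G)⁻¹, ?_, ?_, ?_⟩
  · intro h
    apply hd1
    have h2 : (⟨d, hdM⟩ : ↥M) = m⁻¹ * (m * ⟨d, hdM⟩ * m⁻¹) * m := by group
    rw [h, mul_one, inv_mul_cancel] at h2
    exact congrArg Subtype.val h2
  · have := le_normalizer_sigmaCore M m.2
    exact (Subgroup.mem_normalizer_iff.mp this y).mp hy
  · intro h
    apply hy1
    have : y = (m : G)⁻¹ * ((m : G) * y * (m : G)⁻¹) * m := by group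
    rw [this, h]; group
  · push_cast
    calc (m : G) * d * (m : G)⁻¹ * ((m : G) * y * (m : G)⁻¹) = (m : G) * (d * y) * (m : G)⁻¹ := by
          group
      _ = (m : G) * (y * d) * (m : G)⁻¹ := by rw [hdy]
      _ = _ := by group

/-- **Key lemma**: if `k₀ ∈ M` has prime order `p ∈ τ₁(M)` and is not regular on `M_σ`, then every
element `d ∈ C_M(k₀)` of prime order `r ∉ σ(M)` has `r ∈ κ(M)`; moreover `C_{M_σ}(k₀) ≤ C_{M_σ}(d)`. -/
theorem mem_kappa_of_commute_tau1 (hG : Cfsg.IsMinSimpleOddOrder G) {M : Subgroup G}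
    (hM : IsCoatom M) {p : ℕ} [hp : Fact p.Prime] (hpτ : p ∈ Cfsg.tau1 M) {k₀ : G}
    (hk₀M : k₀ ∈ M) (hk₀ : orderOf k₀ = p)
    (hk₀σ : Cfsg.sigmaCore M ⊓ Subgroup.centralizer ({k₀} : Set G) ≠ ⊥) {r : ℕ}
    [hr : Fact r.Prime] (hrσ : r ∉ Cfsg.sigma M) {d : G} (hdM : d ∈ M) (hd : orderOf d = r)
    (hdk : d * k₀ = k₀ * d) :
    r ∈ Cfsg.kappa M ∧ Cfsg.sigmaCore M ⊓ Subgroup.centralizer ({k₀} : Set G) ≤
      Cfsg.sigmaCore M ⊓ Subgroup.centralizer ({d} : Set G) := by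
  obtain ⟨P, hP⟩ : ∃ P : Subgroup G, P = Subgroup.zpowers k₀ := ⟨_, rfl⟩
  obtain ⟨R, hR⟩ : ∃ R : Subgroup G, R = Subgroup.zpowers d := ⟨_, rfl⟩
  have hPcard : Nat.card P = p := by rw [hP, Nat.card_zpowers, hk₀]
  have hRcard : Nat.card R = r := by rw [hR, Nat.card_zpowers, hd]
  have hPM : P ≤ M := by rw [hP]; exact Subgroup.zpowers_le.2 hk₀M
  have hRM : R ≤ M := by rw [hR]; exact Subgroup.zpowers_le.2 hdM
  have hCP : Subgroup.centralizer (P : Set G) = Subgroup.centralizer ({k₀} : Set G) := by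
    rw [hP]; exact Cfsg.Agent.Helper1.BGX.centralizer_zpowers_eq k₀
  have hCR : Subgroup.centralizer (R : Set G) = Subgroup.centralizer ({d} : Set G) := by
    rw [hR]; exact Cfsg.Agent.Helper1.BGX.centralizer_zpowers_eq d
  have hRCP : R ≤ Subgroup.centralizer (P : Set G) := by
    rw [hR, hCP]
    apply Subgroup.zpowers_le.2
    rw [Subgroup.mem_centralizer_singleton_iff]
    exact hdk
  have hd1 : d ≠ 1 := by
    rintro rfl
    rw [orderOf_one] at hd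
    exact hr.out.one_lt.ne hd
  have hR1 : R ≠ ⊥ := by
    rw [hR]; exact fun h => hd1 (Subgroup.zpowers_eq_bot.1 h)
  have hpσ : p ∉ Cfsg.sigma M := hpτ.2.1
  have hYP : Cfsg.sigmaCore M ⊓ Subgroup.centralizer (P : Set G) ≠ ⊥ := by rw [hCP]; exact hk₀σ
  -- a complement containing `P R`
  have hRNP : R ≤ Subgroup.normalizer (P : Set G) :=
    hRCP.trans (Subgroup.centralizer_le_normalizer _)
  have hcardB := Cfsg.Agent.Helper1.card_sup_mul_card_inf (N := P) (A := R) hRNP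
  have hBπ : ∀ t : ℕ, t.Prime → t ∣ Nat.card ↥(P ⊔ R) → t ∉ Cfsg.sigma M := by
    intro t ht hdv
    have h1 : t ∣ Nat.card P * Nat.card R := by
      rw [← hcardB]; exact Dvd.dvd.mul_right hdv _
    rw [hPcard, hRcard] at h1
    rcases (Nat.Prime.dvd_mul ht).1 h1 with h4 | h4
    · rw [(Nat.prime_dvd_prime_iff_eq ht hp.out).1 h4]; exact hpσ
    · rw [(Nat.prime_dvd_prime_iff_eq ht hr.out).1 h4]; exact hrσ
  obtain ⟨E, hE, hBE⟩ :=
    Cfsg.Agent.Helper4.BG10.exists_compl_sigmaCore_ge hG hM (sup_le hPM hRM) hBπ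
  have hPE : P ≤ E := le_sup_left.trans hBE
  have hRE : R ≤ E := le_sup_right.trans hBE
  have hr1 : Cfsg.PRankLE r 1 ↥M := by
    by_contra hr1
    have hrτ : r ∈ Cfsg.tau2 M := ⟨hr.out, hrσ, pRankLE_of_not_mem_sigma hG hM hr.out hrσ, hr1⟩
    obtain ⟨A, hAE, hAe, hAcard⟩ :=
      Cfsg.Agent.Lead.BG127.exists_elementary_le_compl hG hM hE hrτ
    have c126 := Cfsg.Agent.Helper4.BG12.cor126 hG hM hrτ hE ⟨hAE, hAe, hAcard⟩
    have hRA : R ≤ A := c126.1.2 R hRE hRcard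
    have h6 := p6 hG hM hE hrτ ⟨hAE, hAe, hAcard⟩ hpτ hPE hPcard hYP
    exact hR1 (le_bot_iff.1 (h6 ▸ le_inf hRA hRCP))
  have h1428 := Cfsg.Agent.S1428.result hG M hM E hE p hpτ P hPE hPcard R (le_inf hRE hRCP)
    (hRcard ▸ hr.out)
  rw [hCP, hCR] at h1428
  refine ⟨?_, h1428⟩
  obtain ⟨⟨y, hy⟩, hy1⟩ := (Subgroup.ne_bot_iff_exists_ne_one).1 hk₀σ
  have hy1' : y ≠ 1 := fun h => hy1 (Subtype.ext h)
  have hyd : y ∈ Subgroup.centralizer ({d} : Set G) := (h1428 hy).2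
  rw [Subgroup.mem_centralizer_singleton_iff] at hyd
  exact mem_kappa_of_commute hG hrσ hr1 hdM hd hy.1 hy1' hyd.symm

/-- **Prime action of `K`** (BG 14.2(b)): for a cyclic Hall `κ(M)`-subgroup `K` with
`κ(M) ⊆ τ₁(M)`, `C_{M_σ}(k) = C_{M_σ}(K)` for every `k ∈ K^#`. -/
theorem sigmaCore_inf_centralizer_eq_of_kappaHall (hG : Cfsg.IsMinSimpleOddOrder G)
    {M : Subgroup G} (hM : IsCoatom M) {K : Subgroup G} (hKc : IsCyclic ↥K)
    (hK : Cfsg.IsPiHallOf (Cfsg.kappa M) K M) (hκ : ∀ p : ℕ, p ∈ Cfsg.kappa M → p ∈ Cfsg.tau1 M)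
    {k : G} (hk : k ∈ K) (hk1 : k ≠ 1) :
    Cfsg.sigmaCore M ⊓ Subgroup.centralizer ({k} : Set G) =
      Cfsg.sigmaCore M ⊓ Subgroup.centralizer (K : Set G) := by
  apply le_antisymm
  swap
  · exact inf_le_inf_left _ (Subgroup.centralizer_le (by
      intro x hx; rw [Set.mem_singleton_iff] at hx; rw [hx]; exact hk))
  intro y hy
  refine ⟨hy.1, ?_⟩
  by_cases hy1 : y = 1
  · rw [hy1]; exact Subgroup.one_mem _
  obtain ⟨hKM, hKπ, hKidx⟩ := hK
  -- a complement containing `K`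
  have hKσ : ∀ t : ℕ, t.Prime → t ∣ Nat.card K → t ∉ Cfsg.sigma M := fun t ht hd =>
    (hKπ t ht hd).2.2.1
  obtain ⟨E, hE, hKE⟩ := Cfsg.Agent.Helper4.BG10.exists_compl_sigmaCore_ge hG hM hKM hKσ
  -- an element `s₀` of prime order of `⟨k⟩`
  have hord' : orderOf k ≠ 1 := fun h => hk1 (orderOf_eq_one_iff.1 h)
  obtain ⟨p, hp, hpd⟩ := Nat.exists_prime_and_dvd hord'
  haveI hpF := Fact.mk hp
  obtain ⟨s₀, hs₀def⟩ : ∃ s₀ : G, s₀ = k ^ (orderOf k / p) := ⟨_, rfl⟩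
  have hs₀p : orderOf s₀ = p := by
    rw [hs₀def]; exact orderOf_pow_orderOf_div (orderOf_pos k).ne' hpd
  have hs₀K : s₀ ∈ K := by rw [hs₀def]; exact K.pow_mem hk _
  have hpK : p ∣ Nat.card K := by
    rw [← hs₀p]; exact Subgroup.orderOf_dvd_natCard _ hs₀K
  have hpτ : p ∈ Cfsg.tau1 M := hκ p (hKπ p hp hpK)
  have hyk : y ∈ Subgroup.centralizer ({k} : Set G) := hy.2
  rw [Subgroup.mem_centralizer_singleton_iff] at hyk
  have hys₀ : y ∈ Cfsg.sigmaCore M ⊓ Subgroup.centralizer ({s₀} : Set G) := by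
    refine ⟨hy.1, ?_⟩
    show y ∈ Subgroup.centralizer ({s₀} : Set G)
    rw [Subgroup.mem_centralizer_singleton_iff, hs₀def]
    exact ((Commute.pow_right (show Commute y k from hyk) _).eq)
  have hk₀σ : Cfsg.sigmaCore M ⊓ Subgroup.centralizer ({s₀} : Set G) ≠ ⊥ := by
    intro h
    rw [h] at hys₀
    exact hy1 (Subgroup.mem_bot.1 hys₀)
  -- `K ∩ C(y) = K`
  have hD : K ⊓ Subgroup.centralizer ({y} : Set G) = K := by
    apply Cfsg.Agent.Helper4.BG13.eq_of_forall_pgroup_le inf_le_left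
    intro s hs T hTK hTs
    by_cases hT1 : T = ⊥
    · rw [hT1]; exact bot_le
    have hsT : s ∣ Nat.card T := Cfsg.Agent.Helper1.BGV.dvd_card_of_isPGroup_ne_bot hTs hT1
    have hsκ : s ∈ Cfsg.kappa M := hKπ s hs.out (hsT.trans (Subgroup.card_dvd_of_le hTK))
    have hsτ : s ∈ Cfsg.tau1 M := hκ s hsκ
    obtain ⟨x₀, hx₀⟩ := exists_prime_orderOf_dvd_card' (G := ↥T) s hsT
    have hx₀' : orderOf (x₀ : G) = s := by rw [Subgroup.orderOf_coe]; exact hx₀
    have hx₀K : (x₀ : G) ∈ K := hTK x₀.2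
    have hcomm : (x₀ : G) * s₀ = s₀ * (x₀ : G) :=
      Cfsg.Agent.Helper1.BGPart.commute_of_isCyclic hKc hx₀K hs₀K
    have hKL := (mem_kappa_of_commute_tau1 hG hM hpτ (hKM hs₀K) hs₀p hk₀σ hsτ.2.1
      (hKM hx₀K) hx₀' hcomm).2
    have hyx₀ := hKL hys₀
    -- a cyclic Sylow `s`-subgroup of `E` containing `T`
    have hTE : T ≤ E := hTK.trans hKE
    obtain ⟨S, hS⟩ := (hTs.comap_subtype : IsPGroup s ↥(T.subgroupOf E)).exists_le_sylow
    have hTS : T ≤ (S : Subgroup ↥E).map E.subtype := by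
      intro a ha
      exact ⟨⟨a, hTE ha⟩, hS (Subgroup.mem_subgroupOf.2 ha), rfl⟩
    have hS1 : (S : Subgroup ↥E) ≠ ⊥ := by
      intro h
      rw [h, Subgroup.map_bot] at hTS
      exact hT1 (le_bot_iff.1 hTS)
    have hSc : IsCyclic ↥(S : Subgroup ↥E) := by
      have h1 : IsCyclic ↥((S : Subgroup ↥E).map E.subtype) :=
        Cfsg.Agent.Lead.BG12.isCyclic_of_pRankLE_one hG.1 hsτ.2.2.2.2
          ((Subgroup.map_subtype_le _).trans hE.1) (S.2.map _)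
      haveI := h1
      exact isCyclic_of_surjective
        ((S : Subgroup ↥E).equivMapOfInjective E.subtype E.subtype_injective).symm
        (MulEquiv.surjective _)
    have h1427 := Cfsg.Agent.S1427.result hG M hM E hE s S hS1 hSc (x₀ : G) (hTS x₀.2)
      (by
        intro h
        rw [h, orderOf_one] at hx₀'
        exact hs.out.one_lt.ne hx₀')
    rw [h1427] at hyx₀
    intro a ha
    refine ⟨hTK ha, ?_⟩
    show a ∈ Subgroup.centralizer ({y} : Set G)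
    rw [Subgroup.mem_centralizer_singleton_iff]
    exact ((Subgroup.mem_centralizer_iff.1 hyx₀.2) a (hTS ha))
  show y ∈ Subgroup.centralizer (K : Set G)
  rw [Subgroup.mem_centralizer_iff]
  intro x hx
  have hx' : x ∈ K ⊓ Subgroup.centralizer ({y} : Set G) := by rw [hD]; exact hx
  have hx2 : x ∈ Subgroup.centralizer ({y} : Set G) := hx'.2
  rw [Subgroup.mem_centralizer_singleton_iff] at hx2
  exact hx2

/-- the order of a subgroup divides `n` if the orders of its subgroups of prime power order do -/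
theorem card_dvd_of_forall_pgroup {C : Subgroup G} {n : ℕ} (hn : n ≠ 0)
    (h : ∀ (r : ℕ) [Fact r.Prime] (T : Subgroup G), T ≤ C → IsPGroup r ↥T → Nat.card T ∣ n) :
    Nat.card C ∣ n := by
  rw [← Nat.factorization_prime_le_iff_dvd Nat.card_pos.ne' hn]
  intro r hr
  haveI := Fact.mk hr
  obtain ⟨T, -, hTC, hTr, hTcard⟩ :=
    Cfsg.Agent.Lead.exists_le_card_eq_ppart (p := r) (H := C) (U := ⊥) IsPGroup.of_bot bot_le
  have hd : r ^ (Nat.card C).factorization r ∣ n := hTcard ▸ h r T hTC hTr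
  exact (Nat.Prime.pow_dvd_iff_le_factorization hr hn).mp hd

/-- an `r`-subgroup of `M`, `r ∈ π`, has order dividing that of a Hall `π`-subgroup -/
theorem card_dvd_card_of_isPiHallOf {π : Set ℕ} {K M T : Subgroup G}
    (hK : Cfsg.IsPiHallOf π K M) {r : ℕ} [hr : Fact r.Prime] (hrπ : r ∈ π) (hTM : T ≤ M)
    (hTr : IsPGroup r ↥T) : Nat.card T ∣ Nat.card K := by
  obtain ⟨a, ha⟩ := IsPGroup.iff_card.mp hTr
  have h1 : Nat.card T ∣ K.relIndex M * Nat.card K := by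
    rw [Cfsg.Agent.Helper1.relIndex_mul_card_of_le hK.1]
    exact Subgroup.card_dvd_of_le hTM
  have hcop : (Nat.card T).Coprime (K.relIndex M) := by
    rw [ha]
    exact Nat.Coprime.pow_left _ ((Nat.Prime.coprime_iff_not_dvd hr.out).2 (hK.2.2 r hr.out hrπ))
  exact hcop.dvd_of_dvd_mul_left h1

/-- `K ∩ M_σ = 1` for a `κ(M)`-subgroup `K` of `M`. -/
theorem kappa_inf_sigmaCore_eq_bot {M K : Subgroup G}
    (hKπ : ∀ p : ℕ, p.Prime → p ∣ Nat.card K → p ∈ Cfsg.kappa M) :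
    K ⊓ Cfsg.sigmaCore M = ⊥ := by
  rw [← Subgroup.card_eq_one]
  by_contra hne
  obtain ⟨r, hr, hrd⟩ := Nat.exists_prime_and_dvd hne
  have h1 : r ∈ Cfsg.kappa M := hKπ r hr (hrd.trans (Subgroup.card_dvd_of_le inf_le_left))
  exact h1.2.2.1 (Cfsg.Agent.Lead.BG12.mem_sigma_of_dvd_card_sigmaCore hr
    (hrd.trans (Subgroup.card_dvd_of_le inf_le_right)))

/-- **BG 14.2**: `C_M(k) = K × K*` for `k ∈ K^#`, `K` a cyclic Hall `κ(M)`-subgroup with
`κ(M) ⊆ τ₁(M)`. -/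
theorem inf_centralizer_eq_of_kappaHall (hG : Cfsg.IsMinSimpleOddOrder G)
    {M : Subgroup G} (hM : IsCoatom M) {K : Subgroup G} (hKc : IsCyclic ↥K)
    (hK : Cfsg.IsPiHallOf (Cfsg.kappa M) K M) (hκ : ∀ p : ℕ, p ∈ Cfsg.kappa M → p ∈ Cfsg.tau1 M)
    {k : G} (hk : k ∈ K) (hk1 : k ≠ 1) :
    M ⊓ Subgroup.centralizer ({k} : Set G) =
      K ⊔ (Cfsg.sigmaCore M ⊓ Subgroup.centralizer (K : Set G)) := by
  have hsemi := sigmaCore_inf_centralizer_eq_of_kappaHall hG hM hKc hK hκ hk hk1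
  obtain ⟨hKM, hKπ, hKidx⟩ := hK
  obtain ⟨Ks, hKs⟩ : ∃ Ks : Subgroup G,
    Ks = Cfsg.sigmaCore M ⊓ Subgroup.centralizer (K : Set G) := ⟨_, rfl⟩
  rw [← hKs] at hsemi ⊢
  have hKsσ : Ks ≤ Cfsg.sigmaCore M := by rw [hKs]; exact inf_le_left
  have hKsC : Ks ≤ Subgroup.centralizer (K : Set G) := by rw [hKs]; exact inf_le_right
  have hle : K ⊔ Ks ≤ M ⊓ Subgroup.centralizer ({k} : Set G) := by
    refine sup_le (le_inf hKM ?_) (le_inf (hKsσ.trans sigmaCore_le) ?_)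
    · intro x hx
      rw [Subgroup.mem_centralizer_singleton_iff]
      exact Cfsg.Agent.Helper1.BGPart.commute_of_isCyclic hKc hx hk
    · rw [← hsemi]; exact inf_le_right
  symm
  apply Subgroup.eq_of_le_of_card_ge hle
  apply Nat.le_of_dvd Nat.card_pos
  -- `|K ⊔ K*| = |K| |K*|`
  have hKNKs : K ≤ Subgroup.normalizer (Ks : Set G) := by
    refine le_trans ?_ (Subgroup.centralizer_le_normalizer _)
    rw [Subgroup.le_centralizer_iff]; exact hKsC
  have hcard := Cfsg.Agent.Helper1.card_sup_mul_card_inf (N := Ks) (A := K) hKNKs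
  have hinf : Ks ⊓ K = ⊥ := by
    rw [eq_bot_iff, ← kappa_inf_sigmaCore_eq_bot hKπ, inf_comm]
    exact inf_le_inf_left _ hKsσ
  rw [hinf, Subgroup.card_bot, mul_one, sup_comm] at hcard
  rw [hcard]
  -- the order of `C_M(k)` divides `|K*| |K|`
  apply card_dvd_of_forall_pgroup (mul_pos Nat.card_pos Nat.card_pos).ne'
  intro r hr T hTC hTr
  have hTM : T ≤ M := hTC.trans inf_le_left
  by_cases hrσ : r ∈ Cfsg.sigma M
  · have hTσ : T ≤ Cfsg.sigmaCore M := Cfsg.Agent.Lead.BG12.le_sigmaCore' hG hM hrσ hTM hTr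
    have hTKs : T ≤ Ks := by
      rw [← hsemi]; exact le_inf hTσ (hTC.trans inf_le_right)
    exact (Subgroup.card_dvd_of_le hTKs).trans (Dvd.intro _ rfl)
  · by_cases hT1 : T = ⊥
    · rw [hT1, Subgroup.card_bot]; exact one_dvd _
    have hrT : r ∣ Nat.card T := Cfsg.Agent.Helper1.BGV.dvd_card_of_isPGroup_ne_bot hTr hT1
    obtain ⟨d, hd⟩ := exists_prime_orderOf_dvd_card' (G := ↥T) r hrT
    have hd' : orderOf (d : G) = r := by rw [Subgroup.orderOf_coe]; exact hd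
    have hdC : (d : G) ∈ Subgroup.centralizer ({k} : Set G) := (hTC d.2).2
    rw [Subgroup.mem_centralizer_singleton_iff] at hdC
    -- an element `s₀` of prime order of `⟨k⟩`
    have hord' : orderOf k ≠ 1 := fun h => hk1 (orderOf_eq_one_iff.1 h)
    obtain ⟨p, hp, hpd⟩ := Nat.exists_prime_and_dvd hord'
    haveI hpF := Fact.mk hp
    obtain ⟨s₀, hs₀def⟩ : ∃ s₀ : G, s₀ = k ^ (orderOf k / p) := ⟨_, rfl⟩
    have hs₀p : orderOf s₀ = p := by
      rw [hs₀def]; exact orderOf_pow_orderOf_div (orderOf_pos k).ne' hpd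
    have hs₀K : s₀ ∈ K := by rw [hs₀def]; exact K.pow_mem hk _
    have hpK : p ∣ Nat.card K := by
      rw [← hs₀p]; exact Subgroup.orderOf_dvd_natCard _ hs₀K
    have hpκ : p ∈ Cfsg.kappa M := hKπ p hp hpK
    have hpτ : p ∈ Cfsg.tau1 M := hκ p hpκ
    have hds₀ : (d : G) * s₀ = s₀ * (d : G) := by
      rw [hs₀def]
      exact ((Commute.pow_right (show Commute (d : G) k from hdC) _).eq)
    have hk₀σ : Cfsg.sigmaCore M ⊓ Subgroup.centralizer ({s₀} : Set G) ≠ ⊥ := by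
      have h1 := sigmaCore_inf_centralizer_ne_bot_of_mem_kappa hpκ
        (X := Subgroup.zpowers s₀) (Subgroup.zpowers_le.2 (hKM hs₀K))
        (by rw [Nat.card_zpowers, hs₀p])
      rwa [Cfsg.Agent.Helper1.BGX.centralizer_zpowers_eq] at h1
    have hrκ := (mem_kappa_of_commute_tau1 hG hM hpτ (hKM hs₀K) hs₀p hk₀σ hrσ
      (hTM d.2) hd' hds₀).1
    have h2 := card_dvd_card_of_isPiHallOf (π := Cfsg.kappa M) ⟨hKM, hKπ, hKidx⟩ hrκ hTM hTr
    exact h2.trans (Dvd.intro_left _ rfl)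

/-- a prime-order power of a nontrivial element -/
theorem exists_prime_order_pow {k : G} (hk1 : k ≠ 1) :
    ∃ p : ℕ, p.Prime ∧ orderOf (k ^ (orderOf k / p)) = p := by
  have hord' : orderOf k ≠ 1 := fun h => hk1 (orderOf_eq_one_iff.1 h)
  obtain ⟨p, hp, hpd⟩ := Nat.exists_prime_and_dvd hord'
  haveI := Fact.mk hp
  exact ⟨p, hp, orderOf_pow_orderOf_div (orderOf_pos k).ne' hpd⟩

/-- **BG 14.2**: `K* = C_{M_σ}(K) ≠ 1`. -/
theorem kstar_ne_bot (hG : Cfsg.IsMinSimpleOddOrder G)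
    {M : Subgroup G} (hM : IsCoatom M) {K : Subgroup G} (hKc : IsCyclic ↥K)
    (hK : Cfsg.IsPiHallOf (Cfsg.kappa M) K M) (hκ : ∀ p : ℕ, p ∈ Cfsg.kappa M → p ∈ Cfsg.tau1 M) :
    Cfsg.sigmaCore M ⊓ Subgroup.centralizer (K : Set G) ≠ ⊥ := by
  by_cases hK1 : K = ⊥
  · have h1 : Subgroup.centralizer ((K : Subgroup G) : Set G) = ⊤ := by
      rw [hK1, Subgroup.centralizer_eq_top_iff_subset]
      intro x hx
      rw [SetLike.mem_coe, Subgroup.mem_bot] at hx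
      rw [hx]; exact Subgroup.one_mem _
    rw [h1, inf_top_eq]
    exact Cfsg.Agent.Lead.BG12.sigmaCore_ne_bot hG hM
  · obtain ⟨⟨k, hk⟩, hk1⟩ := (Subgroup.ne_bot_iff_exists_ne_one).1 hK1
    have hk1' : k ≠ 1 := fun h => hk1 (Subtype.ext h)
    obtain ⟨p, hp, hs₀p⟩ := exists_prime_order_pow hk1'
    haveI := Fact.mk hp
    have hs₀K : k ^ (orderOf k / p) ∈ K := K.pow_mem hk _
    have hs₀1 : k ^ (orderOf k / p) ≠ 1 := by
      intro h
      rw [h, orderOf_one] at hs₀p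
      exact hp.one_lt.ne hs₀p
    have hpκ : p ∈ Cfsg.kappa M := by
      apply hK.2.1 p hp
      rw [← hs₀p]; exact Subgroup.orderOf_dvd_natCard _ hs₀K
    rw [← sigmaCore_inf_centralizer_eq_of_kappaHall hG hM hKc hK hκ hs₀K hs₀1]
    have h1 := sigmaCore_inf_centralizer_ne_bot_of_mem_kappa hpκ
      (X := Subgroup.zpowers (k ^ (orderOf k / p))) (Subgroup.zpowers_le.2 (hK.1 hs₀K))
      (by rw [Nat.card_zpowers, hs₀p])
    rwa [Cfsg.Agent.Helper1.BGX.centralizer_zpowers_eq] at h1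

/-- **BG 14.2(a)**: for a standard factorisation `M = K U M_σ` with `κ(M) ⊆ τ₁(M)`: `C_U(k) = 1`
for `k ∈ K^#`. -/
theorem compl_inf_centralizer_eq_bot (hG : Cfsg.IsMinSimpleOddOrder G)
    {M : Subgroup G} (hM : IsCoatom M) {K U : Subgroup G}
    (hKU : Cfsg.IsSigmaDecomposition M K U)
    (hκ : ∀ p : ℕ, p ∈ Cfsg.kappa M → p ∈ Cfsg.tau1 M) {k : G} (hk : k ∈ K) (hk1 : k ≠ 1) :
    U ⊓ Subgroup.centralizer ({k} : Set G) = ⊥ := by
  obtain ⟨hKc, hK, hU, -⟩ := hKU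
  obtain ⟨hKM, hKπ, hKidx⟩ := hK
  -- orders
  have hKN : K ≤ Subgroup.normalizer ((Cfsg.sigmaCore M : Subgroup G) : Set G) :=
    hKM.trans (le_normalizer_sigmaCore M)
  have hc1 := Cfsg.Agent.Helper1.card_sup_mul_card_inf (N := Cfsg.sigmaCore M) (A := K) hKN
  rw [inf_comm, kappa_inf_sigmaCore_eq_bot hKπ, Subgroup.card_bot, mul_one, sup_comm] at hc1
  have hc2 := Cfsg.Agent.Helper1.IsComplIn_card_mul hU
  rw [hc1] at hc2
  -- `card U * (card M_σ * card K) = card M`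
  by_contra hne
  obtain ⟨⟨u, hu⟩, hu1⟩ := (Subgroup.ne_bot_iff_exists_ne_one).1 hne
  have hu1' : u ≠ 1 := fun h => hu1 (Subtype.ext h)
  obtain ⟨r, hr, hdr⟩ := exists_prime_order_pow hu1'
  haveI := Fact.mk hr
  obtain ⟨d, hddef⟩ : ∃ d : G, d = u ^ (orderOf u / r) := ⟨_, rfl⟩
  rw [← hddef] at hdr
  have hdU : d ∈ U := by rw [hddef]; exact U.pow_mem hu.1 _
  have hdC : d ∈ Subgroup.centralizer ({k} : Set G) := by
    rw [hddef]; exact Subgroup.pow_mem _ hu.2 _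
  rw [Subgroup.mem_centralizer_singleton_iff] at hdC
  have hrU : r ∣ Nat.card U := by
    rw [← hdr]; exact Subgroup.orderOf_dvd_natCard _ hdU
  have hrσ : r ∉ Cfsg.sigma M := by
    intro h
    have h1 := (Cfsg.Agent.Lead.BG12.sigmaCore_hall hG M hM).1.2.2 r hr h
    apply h1
    have h2 := Cfsg.Agent.Helper1.relIndex_mul_card_of_le
      (Cfsg.Agent.Lead.BG12.sigmaCore_le (M := M))
    have h3 : (Cfsg.sigmaCore M).relIndex M = Nat.card U * Nat.card K := by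
      apply Nat.eq_of_mul_eq_mul_right (Nat.card_pos (α := ↥(Cfsg.sigmaCore M)))
      rw [h2, ← hc2]; ring
    rw [h3]; exact Dvd.dvd.mul_right hrU _
  have hrκ : r ∉ Cfsg.kappa M := by
    intro h
    apply hKidx r hr h
    have h2 := Cfsg.Agent.Helper1.relIndex_mul_card_of_le hKM
    have h3 : K.relIndex M = Nat.card U * Nat.card ↥(Cfsg.sigmaCore M) := by
      apply Nat.eq_of_mul_eq_mul_right (Nat.card_pos (α := ↥K))
      rw [h2, ← hc2]; ring
    rw [h3]; exact Dvd.dvd.mul_right hrU _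
  -- the key lemma
  obtain ⟨p, hp, hs₀p⟩ := exists_prime_order_pow hk1
  haveI := Fact.mk hp
  have hs₀K : k ^ (orderOf k / p) ∈ K := K.pow_mem hk _
  have hpκ : p ∈ Cfsg.kappa M := by
    apply hKπ p hp
    rw [← hs₀p]; exact Subgroup.orderOf_dvd_natCard _ hs₀K
  have hk₀σ : Cfsg.sigmaCore M ⊓
      Subgroup.centralizer ({k ^ (orderOf k / p)} : Set G) ≠ ⊥ := by
    have h1 := sigmaCore_inf_centralizer_ne_bot_of_mem_kappa hpκ
      (X := Subgroup.zpowers (k ^ (orderOf k / p))) (Subgroup.zpowers_le.2 (hKM hs₀K))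
      (by rw [Nat.card_zpowers, hs₀p])
    rwa [Cfsg.Agent.Helper1.BGX.centralizer_zpowers_eq] at h1
  have hds₀ : d * k ^ (orderOf k / p) = k ^ (orderOf k / p) * d :=
    ((Commute.pow_right (show Commute d k from hdC) _).eq)
  exact hrκ (mem_kappa_of_commute_tau1 hG hM (hκ p hpκ) (hKM hs₀K) hs₀p hk₀σ hrσ
    (hU.1 hdU) hdr hds₀).1

end Cfsg.Agent.Helper4.BG14
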