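import Mathlib
import Cfsg.Prelude
import Cfsg.Agent.Helper4.BG14K
import Cfsg.Agent.S1404
import Cfsg.Agent.S1415
import Cfsg.Agent.S1420
import Cfsg.Agent.S1425
import Cfsg.Agent.S1446

set_option autoImplicit false
set_option linter.unusedSectionVars false
set_option linter.unusedVariables false

/-!
Bender–Glauberman Theorem 14.2 (`S1430`, `S1431`), the regular branch: `κ(M) ⊆ τ₁(M)`.
-/

namespace Cfsg.Agent.Helper4.BG14

open Cfsg Cfsg.Agent.Helper1 Cfsg.Agent.Helper2 Cfsg.Agent.Helper1.BGT Cfsg.Agent.Helper1.BGU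
  Cfsg.Agent.Helper1.BGV Cfsg.Agent.Helper1.BGW Cfsg.Agent.Helper1.BGX Cfsg.Agent.Lead.BG12
  Cfsg.Agent.Lead.BG108 Cfsg.Agent.Helper4.BG10 Cfsg.Agent.Helper4.BG12
open scoped commutatorElement Pointwise

universe u

variable {G : Type u} [Group G] [Finite G]

/-- A Hall `κ(M)`-subgroup of `M` is cyclic when `κ(M) ⊆ τ₁(M)`; moreover it lies in a complement
of `M_σ`. -/
theorem exists_compl_of_kappaHall (hG : Cfsg.IsMinSimpleOddOrder G) {M : Subgroup G}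
    (hM : IsCoatom M) {K : Subgroup G} (hK : Cfsg.IsPiHallOf (Cfsg.kappa M) K M)
    (hκ : ∀ p : ℕ, p ∈ Cfsg.kappa M → p ∈ Cfsg.tau1 M) :
    IsCyclic ↥K ∧ ∃ E : Subgroup G, Cfsg.IsComplIn E (Cfsg.sigmaCore M) M ∧ K ≤ E := by
  obtain ⟨hKM, hKπ, -⟩ := hK
  have hKσ : ∀ t : ℕ, t.Prime → t ∣ Nat.card K → t ∉ Cfsg.sigma M := fun t ht hd =>
    (hKπ t ht hd).2.2.1
  obtain ⟨E, hE, hKE⟩ := Cfsg.Agent.Helper4.BG10.exists_compl_sigmaCore_ge hG hM hKM hKσ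
  refine ⟨?_, E, hE, hKE⟩
  haveI hsolvM : Group.IsSolvable ↥M := hG.2.2.2 M hM.1
  have hsolv : Group.IsSolvable ↥E :=
    Group.isSolvable_of_isSolvable_injective (Subgroup.inclusion_injective hE.1)
  obtain ⟨m, n, hd⟩ := Cfsg.Agent.Helper3.exists_piDecomp (Cfsg.tau1 M) (Nat.card E)
    Nat.card_pos.ne'
  have hcop : (Nat.card K).Coprime n := by
    apply Nat.coprime_of_dvd
    intro t ht h1 h2
    exact hd.right t ht h2 (hκ t (hKπ t ht h1))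
  obtain ⟨E₁, hE₁E, hE₁card, hKE₁⟩ := (Cfsg.Agent.Helper3.hall_internal E hsolv hd).2 K hKE hcop
  have hE₁ : Cfsg.IsPiHallOf (Cfsg.tau1 M) E₁ E :=
    (Cfsg.Agent.Helper3.isPiHallOf_iff_card hd).2 ⟨hE₁E, hE₁card⟩
  have hc := (Cfsg.Agent.S1415.result hG M hM E hE).2.1 E₁ hE₁
  exact @Subgroup.isCyclic_of_le _ _ _ _ hKE₁ hc

/-- `C_U(k) = 1` for `k ∈ K^#` and a `(κ(M) ∪ σ(M))'`-subgroup `U` of `M`. -/
theorem inf_centralizer_eq_bot_of_kappa' (hG : Cfsg.IsMinSimpleOddOrder G)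
    {M : Subgroup G} (hM : IsCoatom M) {K U : Subgroup G}
    (hK : Cfsg.IsPiHallOf (Cfsg.kappa M) K M)
    (hκ : ∀ p : ℕ, p ∈ Cfsg.kappa M → p ∈ Cfsg.tau1 M) (hUM : U ≤ M)
    (hUπ : ∀ r : ℕ, r.Prime → r ∣ Nat.card U → r ∉ Cfsg.kappa M ∧ r ∉ Cfsg.sigma M)
    {k : G} (hk : k ∈ K) (hk1 : k ≠ 1) :
    U ⊓ Subgroup.centralizer ({k} : Set G) = ⊥ := by
  obtain ⟨hKM, hKπ, hKidx⟩ := hK
  by_contra hne
  obtain ⟨⟨u, hu⟩, hu1⟩ := (Subgroup.ne_bot_iff_exists_ne_one).1 hne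
  have hu1' : u ≠ 1 := fun h => hu1 (Subtype.ext h)
  obtain ⟨r, hr, hdr⟩ := exists_prime_order_pow hu1'
  haveI := Fact.mk hr
  obtain ⟨d, hddef⟩ : ∃ d : G, d = u ^ (orderOf u / r) := ⟨_, rfl⟩
  rw [← hddef] at hdr
  have hdU : d ∈ U := by rw [hddef]; exact U.pow_mem hu.1 _
  have hdC : d ∈ Subgroup.centralizer ({k} : Set G) := by
    rw [hddef]; exact Subgroup.pow_mem _ hu.2 _
  rw [Subgroup.mem_centralizer_singleton_iff] at hdC
  have hrU : r ∣ Nat.card U := by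
    rw [← hdr]; exact Subgroup.orderOf_dvd_natCard _ hdU
  obtain ⟨hrκ, hrσ⟩ := hUπ r hr hrU
  obtain ⟨p, hp, hs₀p⟩ := exists_prime_order_pow hk1
  haveI := Fact.mk hp
  have hs₀K : k ^ (orderOf k / p) ∈ K := K.pow_mem hk _
  have hpκ : p ∈ Cfsg.kappa M := by
    apply hKπ p hp
    rw [← hs₀p]; exact Subgroup.orderOf_dvd_natCard _ hs₀K
  have hk₀σ : Cfsg.sigmaCore M ⊓
      Subgroup.centralizer ({k ^ (orderOf k / p)} : Set G) ≠ ⊥ := by
    have h1 := sigmaCore_inf_centralizer_ne_bot_of_mem_kappa hpκ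
      (X := Subgroup.zpowers (k ^ (orderOf k / p))) (Subgroup.zpowers_le.2 (hKM hs₀K))
      (by rw [Nat.card_zpowers, hs₀p])
    rwa [Cfsg.Agent.Helper1.BGX.centralizer_zpowers_eq] at h1
  have hds₀ : d * k ^ (orderOf k / p) = k ^ (orderOf k / p) * d :=
    ((Commute.pow_right (show Commute d k from hdC) _).eq)
  exact hrκ (mem_kappa_of_commute_tau1 hG hM (hκ p hpκ) (hKM hs₀K) hs₀p hk₀σ hrσ
    (hUM hdU) hdr hds₀).1

/-- A complement `E ⊇ K` of `M_σ` has a normal Hall `κ(M)'`-subgroup `U`, which is a Hall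
`(κ(M) ∪ σ(M))'`-subgroup of `M`. -/
theorem exists_kappa_compl (hG : Cfsg.IsMinSimpleOddOrder G) {M : Subgroup G}
    (hM : IsCoatom M) (hκ : ∀ p : ℕ, p ∈ Cfsg.kappa M → p ∈ Cfsg.tau1 M) {E : Subgroup G}
    (hE : Cfsg.IsComplIn E (Cfsg.sigmaCore M) M) :
    ∃ U : Subgroup G, U ≤ E ∧ E ≤ Subgroup.normalizer (U : Set G) ∧
      Cfsg.IsPiHallOf {q | q.Prime ∧ q ∉ Cfsg.kappa M ∧ q ∉ Cfsg.sigma M} U M := by
  haveI hsolvM : Group.IsSolvable ↥M := hG.2.2.2 M hM.1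
  have hsolv : Group.IsSolvable ↥E :=
    Group.isSolvable_of_isSolvable_injective (Subgroup.inclusion_injective hE.1)
  obtain ⟨m, n, hd⟩ := Cfsg.Agent.Helper3.exists_piDecomp {q | q ∉ Cfsg.kappa M} (Nat.card E)
    Nat.card_pos.ne'
  have hint := Cfsg.Agent.Helper3.hall_internal E hsolv hd
  obtain ⟨U, hUE, hUcard, -⟩ := hint.2 ⊥ bot_le
    (by rw [Subgroup.card_bot]; exact Nat.coprime_one_left _)
  -- `E' ≤ U`
  have hE'E : ⁅E, E⁆ ≤ E := Subgroup.commutator_le_self E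
  have hE'cop : (Nat.card ↥⁅E, E⁆).Coprime n := by
    apply Nat.coprime_of_dvd
    intro t ht h1 h2
    have htκ : t ∈ Cfsg.kappa M := not_not.1 (hd.right t ht h2)
    have htτ := hκ t htκ
    apply htτ.2.2.2.1
    exact h1.trans (Subgroup.card_dvd_of_le (Subgroup.commutator_mono hE.1 hE.1))
  obtain ⟨U', hU'E, hU'card, hE'U'⟩ := hint.2 ⁅E, E⁆ hE'E hE'cop
  obtain ⟨g, hgE, hg⟩ := hint.1 U' U hU'E hUE hU'card hUcard
  have hE'U : ⁅E, E⁆ ≤ U := by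
    rw [← hg]
    intro x hx
    rw [Subgroup.mem_smul_pointwise_iff_exists]
    refine ⟨g⁻¹ * x * g, hE'U' ?_, by simp [MulAut.smul_def]; group⟩
    have hn := Cfsg.Agent.Lead.BG12.le_normalizer_commutator_self E (E.inv_mem hgE)
    have := (Subgroup.mem_normalizer_iff.1 hn x).1 hx
    simpa using this
  have hEN : E ≤ Subgroup.normalizer (U : Set G) := by
    apply Cfsg.Agent.Helper1.le_normalizer_of_forall_conj_mem
    intro e he x hx
    have h1 : e * x * e⁻¹ * x⁻¹ ∈ ⁅E, E⁆ := Subgroup.commutator_mem_commutator he (hUE hx)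
    have h2 : e * x * e⁻¹ = (e * x * e⁻¹ * x⁻¹) * x := by group
    rw [h2]
    exact U.mul_mem (hE'U h1) hx
  refine ⟨U, hUE, hEN, hUE.trans hE.1, ?_, ?_⟩
  · intro q hq hqd
    refine ⟨hq, hd.left q hq (hUcard ▸ hqd), ?_⟩
    exact Cfsg.Agent.Helper4.BG12.not_mem_sigma_of_dvd_card_compl hG hM hE hq
      (hqd.trans (Subgroup.card_dvd_of_le hUE))
  · rintro q hq ⟨-, hqκ, hqσ⟩ hqd
    have h1 := Cfsg.Agent.Helper1.relIndex_mul_card_of_le (hUE.trans hE.1)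
    have h2 := Cfsg.Agent.Helper1.IsComplIn_card_mul hE
    have h3 : U.relIndex M = n * Nat.card ↥(Cfsg.sigmaCore M) := by
      apply Nat.eq_of_mul_eq_mul_right (Nat.card_pos (α := ↥U))
      rw [h1, ← h2, hd.eq, hUcard]; ring
    rw [h3] at hqd
    rcases (Nat.Prime.dvd_mul hq).1 hqd with h4 | h4
    · exact hd.right q hq h4 hqκ
    · exact hqσ (Cfsg.Agent.Lead.BG12.mem_sigma_of_dvd_card_sigmaCore hq h4)

/-- **`S1430`, regular branch** (`κ(M) ⊆ τ₁(M)`). -/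
theorem s1430_regular (hG : Cfsg.IsMinSimpleOddOrder G)
    (M : Subgroup G) (hM : IsCoatom M) (K : Subgroup G)
    (hK : Cfsg.IsPiHallOf (Cfsg.kappa M) K M) (hK1 : K ≠ ⊥)
    (hκ : ∀ p : ℕ, p ∈ Cfsg.kappa M → p ∈ Cfsg.tau1 M) :
    (∀ k ∈ K, k ≠ 1 → Cfsg.sigmaCore M ⊓ Subgroup.centralizer ({k} : Set G) = (Cfsg.sigmaCore M ⊓ Subgroup.centralizer (K : Set G))) ∧
      (∃ U : Subgroup G, IsMulCommutative U ∧ Cfsg.IsPiHallOf {q | q.Prime ∧ q ∉ Cfsg.kappa M ∧ q ∉ Cfsg.sigma M} U M ∧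
        K ≤ Subgroup.normalizer (U : Set G) ∧ ∀ k ∈ K, k ≠ 1 → U ⊓ Subgroup.centralizer ({k} : Set G) = ⊥) ∧
      ∀ X : Subgroup G, X ≤ K → (Nat.card X).Prime →
        M ⊓ Subgroup.normalizer (X : Set G) = K ⊔ (Cfsg.sigmaCore M ⊓ Subgroup.centralizer (K : Set G)) ∧ M ⊓ Subgroup.normalizer (K : Set G) = K ⊔ (Cfsg.sigmaCore M ⊓ Subgroup.centralizer (K : Set G)) ∧
        ∀ Mstar : Subgroup G, IsCoatom Mstar → Subgroup.normalizer (X : Set G) ≤ Mstar → X ≤ Cfsg.sigmaCore Mstar := by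
  obtain ⟨hKc, E, hE, hKE⟩ := exists_compl_of_kappaHall hG hM hK hκ
  have hKM : K ≤ M := hK.1
  refine ⟨fun k hk hk1 => sigmaCore_inf_centralizer_eq_of_kappaHall hG hM hKc hK hκ hk hk1, ?_, ?_⟩
  · obtain ⟨U, hUE, hEN, hUH⟩ := exists_kappa_compl hG hM hκ hE
    have hKNU : K ≤ Subgroup.normalizer (U : Set G) := hKE.trans hEN
    have hfpf : ∀ k ∈ K, k ≠ 1 → U ⊓ Subgroup.centralizer ({k} : Set G) = ⊥ := by
      intro k hk hk1
      apply inf_centralizer_eq_bot_of_kappa' hG hM hK hκ hUH.1 _ hk hk1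
      intro r hr hrd
      exact (hUH.2.1 r hr hrd).2
    refine ⟨U, ?_, hUH, hKNU, hfpf⟩
    by_cases hU1 : U = ⊥
    · rw [hU1]
      refine ⟨⟨fun a b => ?_⟩⟩
      have ha : a = 1 := Subtype.ext (Subgroup.mem_bot.1 a.2)
      have hb : b = 1 := Subtype.ext (Subgroup.mem_bot.1 b.2)
      rw [ha, hb]
    · have hnil := Cfsg.Agent.S1446.nilpotent_of_fpf U K hU1 hK1 hKNU hfpf
      exact (Cfsg.Agent.S1420.result hG M hM E hE).1 U hUH.1 hnil
        (fun p hp hpd => (hUH.2.1 p hp hpd).2.2)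
  · intro X hXK hXp
    obtain ⟨p, hp⟩ : ∃ p : ℕ, p = Nat.card X := ⟨_, rfl⟩
    rw [← hp] at hXp
    haveI := Fact.mk hXp
    have hpκ : p ∈ Cfsg.kappa M :=
      hK.2.1 p hXp (hp ▸ Subgroup.card_dvd_of_le hXK)
    have hpτ : p ∈ Cfsg.tau1 M := hκ p hpκ
    have hXM : X ≤ M := hXK.trans hKM
    -- a generator of `X`
    have hX1 : X ≠ ⊥ := by
      intro h
      rw [h, Subgroup.card_bot] at hp
      exact hXp.one_lt.ne' hp
    obtain ⟨⟨x, hx⟩, hx1⟩ := (Subgroup.ne_bot_iff_exists_ne_one).1 hX1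
    have hx1' : x ≠ 1 := fun h => hx1 (Subtype.ext h)
    have hCx := inf_centralizer_eq_of_kappaHall hG hM hKc hK hκ (hXK hx) hx1'
    have hKsup : K ⊔ (Cfsg.sigmaCore M ⊓ Subgroup.centralizer (K : Set G)) ≤
        Subgroup.normalizer (K : Set G) :=
      sup_le Subgroup.le_normalizer (inf_le_right.trans (Subgroup.centralizer_le_normalizer _))
    have hKsupM : K ⊔ (Cfsg.sigmaCore M ⊓ Subgroup.centralizer (K : Set G)) ≤ M :=
      sup_le hKM (inf_le_left.trans sigmaCore_le)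
    have hNKX : Subgroup.normalizer (K : Set G) ≤ Subgroup.normalizer (X : Set G) :=
      Cfsg.Agent.Lead.BG12.normalizer_le_normalizer_of_isCyclic hKc hXK
    have hNX : M ⊓ Subgroup.normalizer (X : Set G) ≤
        K ⊔ (Cfsg.sigmaCore M ⊓ Subgroup.centralizer (K : Set G)) := by
      rw [← hCx]
      refine le_inf inf_le_left ?_
      refine (Cfsg.Agent.Helper4.BG13.normalizer_inf_le_centralizer_of_tau1 hpτ hXM hp.symm).trans ?_
      apply Subgroup.centralizer_le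
      intro z hz
      rw [Set.mem_singleton_iff] at hz
      rw [hz]; exact hx
    refine ⟨le_antisymm hNX (le_inf hKsupM (hKsup.trans hNKX)), ?_, ?_⟩
    · exact le_antisymm ((inf_le_inf_left _ hNKX).trans hNX) (le_inf hKsupM hKsup)
    · intro Mstar hMstar hNXM
      exact (le_sigmaCore_of_mem_kappa' hG hM hMstar hpκ hXM hp.symm hNXM).2

/-- a subgroup `P ≤ K` of prime order `p ∈ τ₁(M)` -/
theorem exists_prime_le_kappaHall {M K : Subgroup G}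
    (hK : Cfsg.IsPiHallOf (Cfsg.kappa M) K M) (hK1 : K ≠ ⊥)
    (hκ : ∀ p : ℕ, p ∈ Cfsg.kappa M → p ∈ Cfsg.tau1 M) :
    ∃ (p : ℕ) (P : Subgroup G), p.Prime ∧ p ∈ Cfsg.tau1 M ∧ P ≤ K ∧ Nat.card P = p := by
  obtain ⟨⟨k, hk⟩, hk1⟩ := (Subgroup.ne_bot_iff_exists_ne_one).1 hK1
  have hk1' : k ≠ 1 := fun h => hk1 (Subtype.ext h)
  obtain ⟨p, hp, hs₀p⟩ := exists_prime_order_pow hk1'
  have hs₀K : k ^ (orderOf k / p) ∈ K := K.pow_mem hk _
  refine ⟨p, Subgroup.zpowers (k ^ (orderOf k / p)), hp, ?_, Subgroup.zpowers_le.2 hs₀K, ?_⟩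
  · apply hκ p
    apply hK.2.1 p hp
    rw [← hs₀p]; exact Subgroup.orderOf_dvd_natCard _ hs₀K
  · rw [Nat.card_zpowers, hs₀p]

/-- `C(Z) ≤ M` and `M` is the only maximal subgroup containing `C(Z)`, for `1 ≠ Z ≤ K*`; moreover
every Sylow subgroup of `M_σ` for a prime of `Z` lies in `M` only. -/
theorem kstar_uniq (hG : Cfsg.IsMinSimpleOddOrder G)
    {M : Subgroup G} (hM : IsCoatom M) {K : Subgroup G}
    (hK : Cfsg.IsPiHallOf (Cfsg.kappa M) K M) (hK1 : K ≠ ⊥)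
    (hκ : ∀ p : ℕ, p ∈ Cfsg.kappa M → p ∈ Cfsg.tau1 M) {q : ℕ} [hq : Fact q.Prime]
    {Z : Subgroup G} (hZ : Z ≤ Cfsg.sigmaCore M ⊓ Subgroup.centralizer (K : Set G))
    (hZcard : Nat.card Z = q) (S : Sylow q ↥(Cfsg.sigmaCore M)) :
    (Subgroup.centralizer (Z : Set G) ≤ M ∧
      ∀ L : Subgroup G, IsCoatom L → Subgroup.centralizer (Z : Set G) ≤ L → L = M) ∧
    Cfsg.InUniqueMaximal ((S : Subgroup ↥(Cfsg.sigmaCore M)).map (Cfsg.sigmaCore M).subtype) ∧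
      (S : Subgroup ↥(Cfsg.sigmaCore M)).map (Cfsg.sigmaCore M).subtype ≤ M := by
  obtain ⟨p, P, hp, hpτ, hPK, hPcard⟩ := exists_prime_le_kappaHall hK hK1 hκ
  haveI := Fact.mk hp
  have hZle : Z ≤ Cfsg.sigmaCore M ⊓ Subgroup.centralizer (P : Set G) :=
    hZ.trans (inf_le_inf_left _ (Subgroup.centralizer_le (SetLike.coe_subset_coe.2 hPK)))
  exact (Cfsg.Agent.Helper4.BG13.cent_tau1_uniq hG hM hpτ (hPK.trans hK.1) hPcard hZle hZcard S).2

/-- If a nontrivial subgroup of `K*` is conjugated into `M` by `g`, then `g ∈ M`. -/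
theorem mem_of_map_conj_le_of_le_kstar (hG : Cfsg.IsMinSimpleOddOrder G)
    {M : Subgroup G} (hM : IsCoatom M) {K : Subgroup G}
    (hK : Cfsg.IsPiHallOf (Cfsg.kappa M) K M) (hK1 : K ≠ ⊥)
    (hκ : ∀ p : ℕ, p ∈ Cfsg.kappa M → p ∈ Cfsg.tau1 M)
    {Y₁ : Subgroup G} (hY₁ : Y₁ ≤ Cfsg.sigmaCore M ⊓ Subgroup.centralizer (K : Set G))
    (hY₁1 : Y₁ ≠ ⊥) {g : G} (hg : Y₁.map (MulAut.conj g).toMonoidHom ≤ M) : g ∈ M := by
  obtain ⟨⟨y, hy⟩, hy1⟩ := (Subgroup.ne_bot_iff_exists_ne_one).1 hY₁1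
  have hy1' : y ≠ 1 := fun h => hy1 (Subtype.ext h)
  obtain ⟨q, hq, hzq⟩ := exists_prime_order_pow hy1'
  haveI := Fact.mk hq
  obtain ⟨Z, hZdef⟩ : ∃ Z : Subgroup G, Z = Subgroup.zpowers (y ^ (orderOf y / q)) := ⟨_, rfl⟩
  have hZY : Z ≤ Y₁ := by rw [hZdef]; exact Subgroup.zpowers_le.2 (Y₁.pow_mem hy _)
  have hZcard : Nat.card Z = q := by rw [hZdef, Nat.card_zpowers, hzq]
  have hZq : IsPGroup q ↥Z := IsPGroup.of_card (n := 1) (by rw [hZcard, pow_one])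
  have hZ1 : Z ≠ ⊥ := by
    intro h
    rw [h, Subgroup.card_bot] at hZcard
    exact hq.one_lt.ne hZcard
  have hZσ : Z ≤ Cfsg.sigmaCore M := (hZY.trans hY₁).trans inf_le_left
  have hqσ : q ∈ Cfsg.sigma M :=
    Cfsg.Agent.Lead.BG12.mem_sigma_of_dvd_card_sigmaCore hq (hZcard ▸ Subgroup.card_dvd_of_le hZσ)
  obtain ⟨S⟩ : Nonempty (Sylow q ↥(Cfsg.sigmaCore M)) := inferInstance
  have hu := (kstar_uniq hG hM hK hK1 hκ (hZY.trans hY₁) hZcard S).1.1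
  have h1404 := (Cfsg.Agent.S1404.result hG M hM q hqσ Z hZq hZ1 (hZσ.trans sigmaCore_le)).1 g
    ((Subgroup.map_mono hZY).trans hg)
  obtain ⟨m, hm, c, hc, rfl⟩ := h1404
  exact M.mul_mem hm (hu hc)

/-- **`S1431`, regular branch** (`κ(M) ⊆ τ₁(M)`). -/
theorem s1431_regular (hG : Cfsg.IsMinSimpleOddOrder G)
    (M : Subgroup G) (hM : IsCoatom M) (K : Subgroup G)
    (hK : Cfsg.IsPiHallOf (Cfsg.kappa M) K M) (hK1 : K ≠ ⊥)
    (hκ : ∀ p : ℕ, p ∈ Cfsg.kappa M → p ∈ Cfsg.tau1 M) :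
    (∀ g : G, g ∉ M → (Cfsg.sigmaCore M ⊓ Subgroup.centralizer (K : Set G)) ⊓ M.map (MulAut.conj g).toMonoidHom = ⊥) ∧
      (∀ g ∈ M, g ∉ K ⊔ (Cfsg.sigmaCore M ⊓ Subgroup.centralizer (K : Set G)) → K ⊓ K.map (MulAut.conj g).toMonoidHom = ⊥) ∧
      (∀ (p : ℕ), p.Prime → p ∣ Nat.card ↥(Cfsg.sigmaCore M ⊓ Subgroup.centralizer (K : Set G)) → ∀ S : Sylow p ↥(Cfsg.sigmaCore M),
        Cfsg.InUniqueMaximal ((S : Subgroup ↥(Cfsg.sigmaCore M)).map (Cfsg.sigmaCore M).subtype) ∧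
        (S : Subgroup ↥(Cfsg.sigmaCore M)).map (Cfsg.sigmaCore M).subtype ≤ M ∧
        ¬ (S : Subgroup ↥(Cfsg.sigmaCore M)).map (Cfsg.sigmaCore M).subtype ≤ (Cfsg.sigmaCore M ⊓ Subgroup.centralizer (K : Set G))) ∧
      ∀ Y : Subgroup G, (∀ p : ℕ, p.Prime → p ∣ Nat.card Y → p ∈ Cfsg.sigma M) → Y ⊓ (Cfsg.sigmaCore M ⊓ Subgroup.centralizer (K : Set G)) ≠ ⊥ → Y ≤ Cfsg.sigmaCore M := by
  obtain ⟨hKc, E, hE, hKE⟩ := exists_compl_of_kappaHall hG hM hK hκ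
  have hKM : K ≤ M := hK.1
  have h1430 := s1430_regular hG M hM K hK hK1 hκ
  refine ⟨?_, ?_, ?_, ?_⟩
  · -- `K* ∩ M^g = 1`
    intro g hg
    by_contra hne
    apply hg
    have h1 : ((Cfsg.sigmaCore M ⊓ Subgroup.centralizer (K : Set G)) ⊓
        M.map (MulAut.conj g).toMonoidHom).map (MulAut.conj g⁻¹).toMonoidHom ≤ M := by
      rintro _ ⟨y, hy, rfl⟩
      obtain ⟨m, hm, hmy⟩ := hy.2
      rw [← hmy]
      simp only [MulEquiv.coe_toMonoidHom, MulAut.conj_apply]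
      have : g⁻¹ * (g * m * g⁻¹) * g⁻¹⁻¹ = m := by group
      rw [this]; exact hm
    have := mem_of_map_conj_le_of_le_kstar hG hM hK hK1 hκ inf_le_left hne h1
    simpa using M.inv_mem this
  · -- `K ∩ K^g = 1`
    intro g hgM hg
    by_contra hne
    apply hg
    obtain ⟨⟨x, hx⟩, hx1⟩ := (Subgroup.ne_bot_iff_exists_ne_one).1 hne
    have hx1' : x ≠ 1 := fun h => hx1 (Subtype.ext h)
    obtain ⟨p, hp, hxp⟩ := exists_prime_order_pow hx1'
    obtain ⟨x₁, hx₁def⟩ : ∃ x₁ : G, x₁ = x ^ (orderOf x / p) := ⟨_, rfl⟩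
    rw [← hx₁def] at hxp
    have hx₁K : x₁ ∈ K := by rw [hx₁def]; exact K.pow_mem hx.1 _
    have hx₁Kg : x₁ ∈ K.map (MulAut.conj g).toMonoidHom := by
      rw [hx₁def]; exact Subgroup.pow_mem _ hx.2 _
    obtain ⟨k', hk'K, hk'⟩ := hx₁Kg
    simp only [MulEquiv.coe_toMonoidHom, MulAut.conj_apply] at hk'
    obtain ⟨X, hXdef⟩ : ∃ X : Subgroup G, X = Subgroup.zpowers x₁ := ⟨_, rfl⟩
    have hXK : X ≤ K := by rw [hXdef]; exact Subgroup.zpowers_le.2 hx₁K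
    have hXcard : Nat.card X = p := by rw [hXdef, Nat.card_zpowers, hxp]
    have hk'ord : orderOf k' = p := by
      rw [← hxp, ← hk']
      have := orderOf_injective (MulAut.conj g).toMonoidHom (MulAut.conj g).injective k'
      simpa using this.symm
    have hXk' : Subgroup.zpowers k' = X :=
      Cfsg.Agent.Lead.BG12.eq_of_card_eq_of_le_isCyclic hKc (Subgroup.zpowers_le.2 hk'K) hXK
        (by rw [Nat.card_zpowers, hk'ord, hXcard])
    have hgN : g ∈ Subgroup.normalizer (X : Set G) := by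
      apply Cfsg.Agent.Helper1.mem_normalizer_of_conj_smul_eq
      rw [Cfsg.Agent.Helper1.conj_smul_eq_map]
      conv_lhs => rw [← hXk']
      rw [MonoidHom.map_zpowers, hXdef]
      simp only [MulEquiv.coe_toMonoidHom, MulAut.conj_apply]
      rw [hk']
    rw [← (h1430.2.2 X hXK (hXcard ▸ hp)).1]
    exact ⟨hgM, hgN⟩
  · -- Sylow subgroups
    intro p hp hpd S
    haveI := Fact.mk hp
    obtain ⟨z, hz⟩ := exists_prime_orderOf_dvd_card'
      (G := ↥(Cfsg.sigmaCore M ⊓ Subgroup.centralizer (K : Set G))) p hpd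
    have hz' : orderOf (z : G) = p := by rw [Subgroup.orderOf_coe]; exact hz
    have hu := kstar_uniq hG hM hK hK1 hκ (Z := Subgroup.zpowers (z : G))
      (Subgroup.zpowers_le.2 z.2) (by rw [Nat.card_zpowers, hz']) S
    refine ⟨hu.2.1, hu.2.2, ?_⟩
    intro hSle
    obtain ⟨p', P, hp', hpτ, hPK, hPcard⟩ := exists_prime_le_kappaHall hK hK1 hκ
    haveI := Fact.mk hp'
    have hPp : IsPGroup p' ↥P := IsPGroup.of_card (n := 1) (by rw [hPcard, pow_one])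
    have hP1 : P ≠ ⊥ := by
      intro h
      rw [h, Subgroup.card_bot] at hPcard
      exact hp'.one_lt.ne hPcard
    have hPtop : P ≠ ⊤ := sylow_ne_top hG p' _ hPp
    obtain ⟨H, hH, hNH⟩ := exists_coatom_ge (normalizer_ne_top_of_simple hG hP1 hPtop)
    have hHM : H ≠ M := by
      rintro rfl
      rcases Cfsg.Agent.Lead.BG12.lemma122a hG hH hPp hP1 hNH with h | h
      · exact hpτ.2.1 h
      · exact h.2.2.2 hpτ.2.2.2.2
    have hSH : (S : Subgroup ↥(Cfsg.sigmaCore M)).map (Cfsg.sigmaCore M).subtype ≤ H := by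
      refine hSle.trans (inf_le_right.trans ?_)
      exact ((Subgroup.centralizer_le (SetLike.coe_subset_coe.2 hPK)).trans
        (Subgroup.centralizer_le_normalizer _)).trans hNH
    obtain ⟨L, -, hLu⟩ := hu.2.1
    exact hHM ((hLu H ⟨hH, hSH⟩).trans (hLu M ⟨hM, hu.2.2⟩).symm)
  · -- `σ(M)`-subgroups meeting `K*`
    intro Y hYσ hYK
    have hY1 : Y ≠ ⊥ := fun h => hYK (by rw [h, bot_inf_eq])
    obtain ⟨g, hg⟩ := Cfsg.Agent.S1425.result hG M hM Y hY1 hYσ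
    have hgM : g ∈ M := by
      apply mem_of_map_conj_le_of_le_kstar hG hM hK hK1 hκ (Y₁ := Y ⊓ (Cfsg.sigmaCore M ⊓
        Subgroup.centralizer (K : Set G))) inf_le_right hYK
      exact ((Subgroup.map_mono inf_le_left).trans hg).trans sigmaCore_le
    intro y hy
    have h1 : g * y * g⁻¹ ∈ Cfsg.sigmaCore M := hg ⟨y, hy, rfl⟩
    have hn := le_normalizer_sigmaCore M (M.inv_mem hgM)
    have h2 := (Subgroup.mem_normalizer_iff.1 hn (g * y * g⁻¹)).1 h1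
    have h3 : g⁻¹ * (g * y * g⁻¹) * g⁻¹⁻¹ = y := by group
    rwa [h3] at h2

end Cfsg.Agent.Helper4.BG14
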