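import Mathlib
import Cfsg.Prelude
import Cfsg.Agent.Helper1.BG147a
import Cfsg.Agent.Lead.BG14IIb
import Cfsg.Agent.S1423

set_option autoImplicit false
set_option linter.unusedSectionVars false
set_option linter.unusedVariables false

/-!
Discharging helper1's hypothesis bundle `Hyp142` (the conclusions of Bender–Glauberman
Theorem 14.2 for all pairs `(M, K)`).
-/

namespace Cfsg.Agent.Helper4.BG147H

open Cfsg Cfsg.Agent.Helper1.BG147
open scoped commutatorElement Pointwise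

universe u

variable {G : Type u} [Group G] [Finite G]

/-- `K* ≠ 1` from the definition of `κ(M)` and the prime action of `K`. -/
theorem kstar_ne_bot' {M K : Subgroup G} (hK : Cfsg.IsPiHallOf (Cfsg.kappa M) K M) (hK1 : K ≠ ⊥)
    (hpa : ∀ k ∈ K, k ≠ 1 → Cfsg.sigmaCore M ⊓ Subgroup.centralizer ({k} : Set G) =
      Cfsg.sigmaCore M ⊓ Subgroup.centralizer (K : Set G)) :
    Cfsg.sigmaCore M ⊓ Subgroup.centralizer (K : Set G) ≠ ⊥ := by
  have hcard : Nat.card K ≠ 1 := fun h => hK1 (Subgroup.card_eq_one.mp h)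
  obtain ⟨p, hp, hpd⟩ := Nat.exists_prime_and_dvd hcard
  haveI : Fact p.Prime := ⟨hp⟩
  have hpκ : p ∈ Cfsg.kappa M := hK.2.1 p hp hpd
  -- a Sylow `p`-subgroup of `M` inside `K`
  obtain ⟨P₀⟩ : Nonempty (Sylow p ↥K) := inferInstance
  set P₁ : Subgroup G := (P₀ : Subgroup ↥K).map K.subtype with hP₁
  have hP₁K : P₁ ≤ K := Subgroup.map_subtype_le _
  have hP₁p : IsPGroup p ↥P₁ := P₀.2.map _
  have hP₁M : P₁ ≤ M := hP₁K.trans hK.1
  -- extend `P₁.subgroupOf M` to a Sylow subgroup of `M`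
  have hsub : IsPGroup p ↥(P₁.subgroupOf M) := by
    have e := (Subgroup.subgroupOfEquivOfLe hP₁M)
    exact hP₁p.of_equiv e.symm
  obtain ⟨P, hP⟩ := hsub.exists_le_sylow
  obtain ⟨hPc, x, hxP, hx1, y, hy, hy1, hxy⟩ := hpκ.2.2.2 P
  -- `P = P₁.subgroupOf M` by cardinality
  have hcardP₁ : Nat.card P₁ = p ^ (Nat.card K).factorization p := by
    rw [hP₁, Subgroup.card_map_of_injective K.subtype_injective]
    exact P₀.card_eq_multiplicity
  have hcardP : Nat.card (P : Subgroup ↥M) = p ^ (Nat.card M).factorization p :=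
    P.card_eq_multiplicity
  have hfac : (Nat.card K).factorization p = (Nat.card M).factorization p := by
    have h1 := Cfsg.Agent.Helper1.relIndex_mul_card_of_le hK.1
    have h2 : ¬ p ∣ K.relIndex M := hK.2.2 p hp hpκ
    rw [← h1, Nat.factorization_mul (fun h => by simp [h] at h2) Nat.card_pos.ne',
      Finsupp.add_apply, Nat.factorization_eq_zero_of_not_dvd h2, zero_add]
  have hPeq : P₁.subgroupOf M = (P : Subgroup ↥M) := by
    apply Subgroup.eq_of_le_of_card_ge hP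
    rw [hcardP, ← hfac, ← hcardP₁, Cfsg.Agent.Helper1.card_subgroupOf_of_le hP₁M]
  have hxK : (x : G) ∈ K := by
    have : x ∈ P₁.subgroupOf M := by rw [hPeq]; exact hxP
    exact hP₁K (Subgroup.mem_subgroupOf.mp this)
  have hx1' : (x : G) ≠ 1 := fun h => hx1 (Subtype.ext h)
  have hyK : y ∈ Cfsg.sigmaCore M ⊓ Subgroup.centralizer ({(x : G)} : Set G) := by
    refine ⟨hy, ?_⟩
    exact Subgroup.mem_centralizer_singleton_iff.mpr hxy.symm
  rw [hpa _ hxK hx1'] at hyK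
  intro h
  rw [h, Subgroup.mem_bot] at hyK
  exact hy1 hyK

/-- **Theorem 14.2 bundle** for every pair `(M, K)`. -/
theorem p142 (hG : Cfsg.IsMinSimpleOddOrder G) {M K : Subgroup G} (hM : IsCoatom M)
    (hK : Cfsg.IsPiHallOf (Cfsg.kappa M) K M) (hK1 : K ≠ ⊥) : P142 M K := by
  obtain ⟨h30a, h30b, h30c⟩ := Cfsg.Agent.Lead.BG14II.s1430 hG M hM K hK hK1
  obtain ⟨h31a, h31b, h31c, h31d⟩ := Cfsg.Agent.Lead.BG14II.s1431 hG M hM K hK hK1
  have hne := kstar_ne_bot' hK hK1 h30a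
  refine ⟨h30a, hne, ?_, fun X hXK hXp => (h30c X hXK hXp).1,
    fun X hXK hXp => (h30c X hXK hXp).2.2, h31a, h31b, ?_, h30b⟩
  · -- `K* ≠ M_σ`
    intro heq
    have hcard : Nat.card ↥(Cfsg.sigmaCore M ⊓ Subgroup.centralizer (K : Set G)) ≠ 1 :=
      fun h => hne (Subgroup.card_eq_one.mp h)
    obtain ⟨p, hp, hpd⟩ := Nat.exists_prime_and_dvd hcard
    haveI : Fact p.Prime := ⟨hp⟩
    obtain ⟨S⟩ : Nonempty (Sylow p ↥(Cfsg.sigmaCore M)) := inferInstance
    apply (h31c p hp hpd S).2.2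
    rw [heq]
    exact Subgroup.map_subtype_le _
  · -- uniqueness
    intro X hX hXp
    set q := Nat.card X with hq
    haveI : Fact q.Prime := ⟨hXp⟩
    obtain ⟨S⟩ : Nonempty (Sylow q ↥(Cfsg.sigmaCore M)) := inferInstance
    by_cases hκ : ∀ p : ℕ, p ∈ Cfsg.kappa M → p ∈ Cfsg.tau1 M
    · exact (Cfsg.Agent.Helper4.BG14.kstar_uniq hG hM hK hK1 hκ hX rfl S).1
    · have h2 := Cfsg.Agent.Lead.BG14II.isII2_of_not_regular hG hM hK hκ
      have hXσ : X ≤ Cfsg.sigmaCore M := hX.trans inf_le_left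
      have hqd : q ∣ Nat.card (Cfsg.sigmaCore M) := Subgroup.card_dvd_of_le hXσ
      have hqβ : q ∈ Cfsg.beta M := h2.beta q hXp hqd
      have hqσ : q ∈ Cfsg.sigma M :=
        Cfsg.Agent.Lead.BG12.mem_sigma_of_dvd_card_sigmaCore hXp hqd
      exact (Cfsg.Agent.S1423.result hG M hM q hqσ X
        (hXσ.trans Cfsg.Agent.Lead.BG12.sigmaCore_le) rfl S (Or.inl hqβ)).1

/-- helper1's global hypothesis `Hyp142` holds. -/
theorem hyp142 (hG : Cfsg.IsMinSimpleOddOrder G) : Hyp142 G :=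
  fun M K hM hK hK1 => p142 hG hM hK hK1

end Cfsg.Agent.Helper4.BG147H
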