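import Mathlib
import Cfsg.Agent.Helper3.FrobActF

set_option autoImplicit false

/-!
Frobenius-type groups `F ⋊ H` acting coprimely on a nilpotent group `M` with prime action of `H`
(`C_M(h) = C_M(H)` for `h ≠ 1`), **without** the hypothesis `C_M(F) = 1` of BG 3.10:
* if `F` acts nontrivially then `|H|` is prime;
* if `|H|` is prime and `C_M(H)` is cyclic then `F'` acts trivially.
-/

namespace Cfsg.Agent.Helper4.BG15

open Cfsg.Agent.Helper3.FrobActA Cfsg.Agent.Helper3.FrobActB Cfsg.Agent.Helper3.FrobActD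
  Cfsg.Agent.Helper3.FrobActE Cfsg.Agent.Helper3.FrobActF

universe u v

variable {G : Type u} [Group G] [Finite G]

/-- Induction principle for coprime actions on nilpotent groups (no fixed-point hypothesis). -/
theorem nilp_induction'
    (P : ∀ (M : Type v) [Group M] [Finite M], (G →* MulAut M) → Prop)
    (hbase : ∀ (M : Type v) [Group M] [Finite M] (φ : G →* MulAut M) (r : ℕ), r.Prime →
      (∀ a b : M, a * b = b * a) → (∀ a : M, a ^ r = 1) →
      (Nat.card G).Coprime (Nat.card M) → P M φ)
    (hstep : ∀ (M : Type v) [Group M] [Finite M] (φ : G →* MulAut M) (N : Subgroup M) [N.Normal]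
      (hN : Inv φ N), (∀ a ∈ N, ∀ b ∈ N, a * b = b * a) →
      (Nat.card G).Coprime (Nat.card M) →
      P N (resAct φ N hN) → P (M ⧸ N) (quotAct φ N hN) → P M φ) :
    ∀ (n : ℕ) (M : Type v) [Group M] [Finite M] (φ : G →* MulAut M), Nat.card M = n →
      Group.IsNilpotent M → (Nat.card G).Coprime (Nat.card M) → P M φ := by
  intro n
  induction n using Nat.strong_induction_on with
  | _ n ih =>
  intro M _ _ φ hn hnil hcop
  rcases subsingleton_or_nontrivial M with hsub | hnt
  · exact hbase M φ 2 Nat.prime_two (fun a b => Subsingleton.elim _ _)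
      (fun a => Subsingleton.elim _ _) hcop
  have hcne : Subgroup.center M ≠ ⊥ := Group.IsNilpotent.center_ne_bot M
  have hcard : Nat.card (Subgroup.center M) ≠ 1 := fun h1 => hcne ((Subgroup.card_eq_one).mp h1)
  obtain ⟨r, hr, hrdvd⟩ := Nat.exists_prime_and_dvd hcard
  haveI : Fact r.Prime := ⟨hr⟩
  obtain ⟨x, hx⟩ := exists_prime_orderOf_dvd_card' (G := Subgroup.center M) r hrdvd
  set N := omegaCenter M r with hNdef
  have hNinv : Inv φ N := omegaCenter_inv r φ
  have hNab := omegaCenter_comm (M := M) r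
  have hNne : N ≠ ⊥ := by
    intro h0
    have hxN : (x : M) ∈ N := by
      refine ⟨x.2, ?_⟩
      have : x ^ r = 1 := by rw [← hx]; exact pow_orderOf_eq_one x
      exact_mod_cast congrArg Subtype.val this
    rw [h0, Subgroup.mem_bot] at hxN
    have : x = 1 := Subtype.ext hxN
    rw [this, orderOf_one] at hx
    exact hr.one_lt.ne hx
  have hcardM : Nat.card M = Nat.card (M ⧸ N) * Nat.card N :=
    Subgroup.card_eq_card_quotient_mul_card_subgroup N
  have hcopN : (Nat.card G).Coprime (Nat.card N) :=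
    Nat.Coprime.coprime_dvd_right (Subgroup.card_subgroup_dvd_card N) hcop
  have hcopQ : (Nat.card G).Coprime (Nat.card (M ⧸ N)) :=
    Nat.Coprime.coprime_dvd_right ⟨_, hcardM⟩ hcop
  have hPN : P N (resAct φ N hNinv) :=
    hbase N (resAct φ N hNinv) r hr (fun a b => Subtype.ext (hNab a a.2 b b.2))
      (fun a => Subtype.ext a.2.2) hcopN
  have hNgt : 1 < Nat.card N := by
    rw [Finite.one_lt_card_iff_nontrivial]
    exact (Subgroup.nontrivial_iff_ne_bot N).mpr hNne
  have hlt : Nat.card (M ⧸ N) < n := by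
    rw [← hn, hcardM]
    have hpos : 0 < Nat.card (M ⧸ N) := Nat.card_pos
    nlinarith
  have hPQ : P (M ⧸ N) (quotAct φ N hNinv) :=
    ih _ hlt (M ⧸ N) (quotAct φ N hNinv) rfl inferInstance hcopQ
  exact hstep M φ N hNinv hNab hcop hPN hPQ

/-- **Theorem B'.** If `|H| = p` is prime, `G = F H` and `C_M(H)` is cyclic, then `F` acts on `M`
through an abelian group (no hypothesis on `C_M(F)`). -/
theorem comm_act_of_cyclic' (F H : Subgroup G) [hFn : F.Normal] (hnil : Group.IsNilpotent F)
    (hfpf : ∀ h ∈ H, h ≠ 1 → ∀ f ∈ F, h * f * h⁻¹ = f → f = 1)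
    (hFH : F ⊔ H = ⊤) (p : ℕ) (hp : p.Prime) (hH : Nat.card H = p)
    (M : Type v) [Group M] [Finite M] (φ : G →* MulAut M) (hMnil : Group.IsNilpotent M)
    (hcop : (Nat.card G).Coprime (Nat.card M))
    (hcyc : IsCyclic (fix φ H)) : ∀ a ∈ F, ∀ b ∈ F, φ (a * b) = φ (b * a) := by
  refine nilp_induction'
    (fun M _ _ φ => IsCyclic (fix φ H) → ∀ a ∈ F, ∀ b ∈ F, φ (a * b) = φ (b * a))
    ?_ ?_ (Nat.card M) M φ rfl hMnil hcop hcyc
  · intro M _ _ φ r hr hcomm hexp hcop hcyc
    have hle : Nat.card (fix φ H) ≤ r := by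
      have h1 : Monoid.exponent (fix φ H) = Nat.card (fix φ H) := IsCyclic.exponent_eq_card
      have h2 : Monoid.exponent (fix φ H) ∣ r := by
        apply Monoid.exponent_dvd_of_forall_pow_eq_one
        intro x
        apply Subtype.ext
        exact hexp (x : M)
      rw [h1] at h2
      exact Nat.le_of_dvd hr.pos h2
    exact comm_act_general r hr hcomm hexp φ F H hnil hfpf hFH p hp hH hcop hle
  · intro M _ _ φ N _ hN hNab hcop hPN hPQ hcyc a ha b hb
    have hcopN : (Nat.card G).Coprime (Nat.card N) :=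
      Nat.Coprime.coprime_dvd_right (Subgroup.card_subgroup_dvd_card N) hcop
    have hcopNH : (Nat.card N).Coprime (Nat.card H) :=
      (Nat.Coprime.coprime_dvd_left (Subgroup.card_subgroup_dvd_card H) hcopN).symm
    have hcycN : IsCyclic (fix (resAct φ N hN) H) := by
      let f : fix (resAct φ N hN) H →* fix φ H :=
        (N.subtype.comp (fix (resAct φ N hN) H).subtype).codRestrict (fix φ H) (by
          intro n g hg
          have := congrArg Subtype.val (n.2 g hg)
          simpa using this)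
      have hf : Function.Injective f := by
        intro x y hxy
        apply Subtype.ext
        apply Subtype.ext
        exact congrArg (fun z : fix φ H => (z : M)) hxy
      exact isCyclic_of_injective f hf
    have hcycQ : IsCyclic (fix (quotAct φ N hN) H) :=
      isCyclic_of_surjective (fixQuotHom φ H N hN) (fixQuotHom_surjective φ H N hN hNab hcopNH)
    have h1 := hPN hcycN a ha b hb
    have h2 := hPQ hcycQ a ha b hb
    have h3 : φ ((a * b) * (b * a)⁻¹) = 1 := by
      apply eq_one_of_res_quot φ N hN hcopN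
      · rw [map_mul, h1, ← map_mul, mul_inv_cancel, map_one]
      · rw [map_mul, h2, ← map_mul, mul_inv_cancel, map_one]
    rw [map_mul, map_inv, mul_inv_eq_one] at h3
    exact h3

section prime

variable {M : Type v} [Group M]

theorem fix_anti (φ : G →* MulAut M) {S T : Subgroup G} (h : S ≤ T) : fix φ T ≤ fix φ S :=
  fun _ hm g hg => hm g (h hg)

theorem center_inv (φ : G →* MulAut M) : Inv φ (Subgroup.center M) := by
  intro g z hz
  rw [Subgroup.mem_center_iff]
  intro m
  have h1 := Subgroup.mem_center_iff.mp hz ((φ g).symm m)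
  have h2 := congrArg (φ g) h1
  rw [map_mul, map_mul, MulEquiv.apply_symm_apply] at h2
  exact h2

/-- Prime action passes to the quotient by an abelian invariant normal subgroup of coprime order. -/
theorem prime_action_quot [Finite M] (φ : G →* MulAut M) (H : Subgroup G) (N : Subgroup M) [N.Normal]
    (hN : Inv φ N) (hNab : ∀ a ∈ N, ∀ b ∈ N, a * b = b * a)
    (hcop : (Nat.card G).Coprime (Nat.card N))
    (hpr : ∀ h ∈ H, h ≠ 1 → fix φ (Subgroup.zpowers h) = fix φ H) :
    ∀ h ∈ H, h ≠ 1 → fix (quotAct φ N hN) (Subgroup.zpowers h) = fix (quotAct φ N hN) H := by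
  intro h hh h1
  have hle : Subgroup.zpowers h ≤ H := by rw [Subgroup.zpowers_le]; exact hh
  apply le_antisymm _ (fix_anti _ hle)
  intro q hq
  have hc : (Nat.card N).Coprime (Nat.card (Subgroup.zpowers h)) :=
    (Nat.Coprime.coprime_dvd_left (Subgroup.card_subgroup_dvd_card _) hcop).symm
  obtain ⟨m, hm⟩ := fixQuotHom_surjective φ (Subgroup.zpowers h) N hN hNab hc ⟨q, hq⟩
  have h2 := congrArg Subtype.val hm
  rw [fixQuotHom_apply] at h2
  change ((m : M) : M ⧸ N) = q at h2
  have hmH : (m : M) ∈ fix φ H := (hpr h hh h1) ▸ m.2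
  intro g hg
  rw [← h2, quotAct_mk, hmH g hg]

/-- Prime action restricts to invariant subgroups. -/
theorem prime_action_res (φ : G →* MulAut M) (H : Subgroup G) (N : Subgroup M)
    (hN : Inv φ N)
    (hpr : ∀ h ∈ H, h ≠ 1 → fix φ (Subgroup.zpowers h) = fix φ H) :
    ∀ h ∈ H, h ≠ 1 → fix (resAct φ N hN) (Subgroup.zpowers h) = fix (resAct φ N hN) H := by
  intro h hh h1
  have hle : Subgroup.zpowers h ≤ H := by rw [Subgroup.zpowers_le]; exact hh
  apply le_antisymm _ (fix_anti _ hle)
  intro n hn
  have h2 : (n : M) ∈ fix φ (Subgroup.zpowers h) := by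
    intro g hg
    have := congrArg Subtype.val (hn g hg)
    simpa using this
  rw [hpr h hh h1] at h2
  intro g hg
  apply Subtype.ext
  rw [resAct_apply]
  exact h2 g hg

end prime

/-- **Primality.** If `H` acts with prime action on the nilpotent group `M` (coprime action of
`G ≥ F, H`, `F` normal nilpotent, `H` fixed-point-free on `F`) and `F` acts nontrivially on `M`,
then `|H|` is prime. -/
theorem card_prime_of_prime_action (F H : Subgroup G) [hFn : F.Normal]
    (hnil : Group.IsNilpotent F)
    (hfpf : ∀ h ∈ H, h ≠ 1 → ∀ f ∈ F, h * f * h⁻¹ = f → f = 1) (hH1 : H ≠ ⊥) :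
    ∀ (n : ℕ) (M : Type v) [Group M] [Finite M] (φ : G →* MulAut M), Nat.card M = n →
      Group.IsNilpotent M → (Nat.card G).Coprime (Nat.card M) →
      (∀ h ∈ H, h ≠ 1 → fix φ (Subgroup.zpowers h) = fix φ H) → fix φ F ≠ ⊤ →
      (Nat.card H).Prime := by
  intro n
  induction n using Nat.strong_induction_on with
  | _ n ih =>
  intro M _ _ φ hn hMnil hcop hpr hnt
  have hntM : Nontrivial M := by
    by_contra hns
    rw [not_nontrivial_iff_subsingleton] at hns
    exact hnt (Subsingleton.elim _ _)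
  set N := Subgroup.center M with hNdef
  have hNne : N ≠ ⊥ := Group.IsNilpotent.center_ne_bot M
  have hNinv : Inv φ N := center_inv φ
  have hNab : ∀ a ∈ N, ∀ b ∈ N, a * b = b * a :=
    fun a ha b _ => (Subgroup.mem_center_iff.mp ha b).symm
  have hcardM : Nat.card M = Nat.card (M ⧸ N) * Nat.card N :=
    Subgroup.card_eq_card_quotient_mul_card_subgroup N
  have hcopN : (Nat.card G).Coprime (Nat.card N) :=
    Nat.Coprime.coprime_dvd_right (Subgroup.card_subgroup_dvd_card N) hcop
  have hcopQ : (Nat.card G).Coprime (Nat.card (M ⧸ N)) :=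
    Nat.Coprime.coprime_dvd_right ⟨_, hcardM⟩ hcop
  have hNgt : 1 < Nat.card N := by
    rw [Finite.one_lt_card_iff_nontrivial]
    exact (Subgroup.nontrivial_iff_ne_bot N).mpr hNne
  by_cases hQ : fix (quotAct φ N hNinv) F = ⊤
  swap
  · -- `F` acts nontrivially on `M ⧸ N`
    have hlt : Nat.card (M ⧸ N) < n := by
      rw [← hn, hcardM]
      have hpos : 0 < Nat.card (M ⧸ N) := Nat.card_pos
      nlinarith
    exact ih _ hlt (M ⧸ N) (quotAct φ N hNinv) rfl inferInstance hcopQ
      (prime_action_quot φ H N hNinv hNab hcopN hpr) hQ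
  -- `F` acts trivially on `M ⧸ N`, hence nontrivially on `N`
  have hR : fix (resAct φ N hNinv) F ≠ ⊤ := by
    intro hR
    apply hnt
    rw [eq_top_iff]
    intro m _ f hf
    have h1 : resAct φ N hNinv f = 1 := by
      apply MulEquiv.ext
      intro x
      have : x ∈ fix (resAct φ N hNinv) F := by rw [hR]; trivial
      exact this f hf
    have h2 : quotAct φ N hNinv f = 1 := by
      apply MulEquiv.ext
      intro x
      have : x ∈ fix (quotAct φ N hNinv) F := by rw [hQ]; trivial
      exact this f hf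
    have h3 := eq_one_of_res_quot φ N hNinv hcopN f h1 h2
    rw [h3]; rfl
  by_cases hNtop : N = ⊤
  swap
  · have hlt : Nat.card N < n := by
      rw [← hn]
      have h1 : N < ⊤ := lt_top_iff_ne_top.mpr hNtop
      by_contra hge
      push Not at hge
      apply hNtop
      apply Subgroup.eq_top_of_card_eq
      exact le_antisymm (Subgroup.card_le_card_group N) hge
    exact ih _ hlt N (resAct φ N hNinv) rfl inferInstance hcopN
      (prime_action_res φ H N hNinv hpr) hR
  -- `M` abelian
  have hcomm : ∀ a b : M, a * b = b * a := by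
    intro a b
    have ha : a ∈ N := by rw [hNtop]; trivial
    exact (Subgroup.mem_center_iff.mp ha b).symm
  set C := fix φ F with hCdef
  haveI hCn : C.Normal := ⟨fun c hc g => by
    have : g * c * g⁻¹ = c := by rw [hcomm g c, mul_inv_cancel_right]
    rw [this]; exact hc⟩
  have hCinv : Inv φ C := fix_normal_inv F φ
  have hCab : ∀ a ∈ C, ∀ b ∈ C, a * b = b * a := fun a _ b _ => hcomm a b
  have hcopC : (Nat.card G).Coprime (Nat.card C) :=
    Nat.Coprime.coprime_dvd_right (Subgroup.card_subgroup_dvd_card C) hcop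
  have hc : ∀ S : Subgroup G, (Nat.card C).Coprime (Nat.card S) := fun S =>
    (Nat.Coprime.coprime_dvd_left (Subgroup.card_subgroup_dvd_card S) hcopC).symm
  set ψ := quotAct φ C hCinv with hψ
  have hCF : fix ψ F = ⊥ := fix_quot_fix_eq_bot φ F hCab (hc F)
  have hcardM' : Nat.card M = Nat.card (M ⧸ C) * Nat.card C :=
    Subgroup.card_eq_card_quotient_mul_card_subgroup C
  have hcopQ' : (Nat.card G).Coprime (Nat.card (M ⧸ C)) :=
    Nat.Coprime.coprime_dvd_right ⟨_, hcardM'⟩ hcop
  have hA1 : 1 < Nat.card (M ⧸ C) := by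
    rw [Finite.one_lt_card_iff_nontrivial]
    by_contra hns
    rw [not_nontrivial_iff_subsingleton] at hns
    apply hnt
    rw [eq_top_iff]
    intro m _
    have : (m : M ⧸ C) = ((1 : M) : M ⧸ C) := Subsingleton.elim _ _
    rw [QuotientGroup.eq, mul_one] at this
    exact C.inv_mem_iff.mp this
  have hprQ := prime_action_quot φ H C hCinv hCab hcopC hpr
  have hfpfT : ∀ T : Subgroup G, T ≤ H → ∀ h ∈ T, h ≠ 1 → ∀ f ∈ F, h * f * h⁻¹ = f → f = 1 :=
    fun T hT h hh => hfpf h (hT hh)
  have hA : ∀ T : Subgroup G, T ≤ H →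
      Nat.card (M ⧸ C) = Nat.card (fix ψ T) ^ Nat.card T := fun T hT =>
    card_eq_pow_fix F T hnil (hfpfT T hT) (M ⧸ C) ψ inferInstance hcopQ' hCF
  have hAH := hA H le_rfl
  set c := Nat.card (fix ψ H) with hcdef
  have hc2 : 2 ≤ c := by
    by_contra hlt
    push Not at hlt
    have hcpos : 0 < c := Nat.card_pos
    have hc1 : c = 1 := by omega
    rw [hAH, hc1, one_pow] at hA1
    exact lt_irrefl _ hA1
  have hord : ∀ x ∈ H, x ≠ 1 → orderOf x = Nat.card H := by
    intro x hx hx1
    have h1 := hA (Subgroup.zpowers x) (by rw [Subgroup.zpowers_le]; exact hx)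
    rw [hprQ x hx hx1, Nat.card_zpowers, hAH] at h1
    exact (Nat.pow_right_injective hc2 h1).symm
  have hHcard : Nat.card H ≠ 1 := fun h => hH1 (Subgroup.card_eq_one.mp h)
  obtain ⟨q, hq, hqdvd⟩ := Nat.exists_prime_and_dvd hHcard
  haveI : Fact q.Prime := ⟨hq⟩
  obtain ⟨x, hx⟩ := exists_prime_orderOf_dvd_card' (G := H) q hqdvd
  have hx1 : (x : G) ≠ 1 := by
    intro h
    have : x = 1 := Subtype.ext h
    rw [this, orderOf_one] at hx
    exact hq.one_lt.ne hx
  have h1 := hord (x : G) x.2 hx1
  rw [Subgroup.orderOf_coe, hx] at h1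
  rw [← h1]
  exact hq

end Cfsg.Agent.Helper4.BG15
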