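import Mathlib
import Cfsg.Agent.Helper4.BG15A
import Cfsg.Agent.S1446

set_option autoImplicit false

/-!
Subgroup form of the Frobenius prime-action lemmas of `BG15A` (a strengthening of BG 3.10 / S1446:
no hypothesis `C_M(K) = 1`).
-/

namespace Cfsg.Agent.Helper4.BG15

open Cfsg.Agent.Helper3.FrobActA Cfsg.Agent.S1446
open scoped commutatorElement

variable {X : Type*} [Group X]

theorem mem_fix_zpowers {G M : Type*} [Group G] [Group M] (φ : G →* MulAut M) (h : G) (m : M) :
    m ∈ fix φ (Subgroup.zpowers h) ↔ φ h m = m := by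
  constructor
  · intro hm
    exact hm h (Subgroup.mem_zpowers h)
  · intro hm g hg
    obtain ⟨n, rfl⟩ := Subgroup.mem_zpowers_iff.mp hg
    rw [map_zpow]
    have h1 : ∀ k : ℕ, (φ h ^ k) m = m := by
      intro k
      induction k with
      | zero => simp
      | succ k ih => rw [pow_succ, MulAut.mul_apply, hm, ih]
    have h2 : (φ h)⁻¹ m = m := by
      rw [MulAut.inv_apply, MulEquiv.symm_apply_eq, hm]
    have h3 : ∀ k : ℕ, ((φ h)⁻¹ ^ k) m = m := by
      intro k
      induction k with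
      | zero => simp
      | succ k ih => rw [pow_succ, MulAut.mul_apply, h2, ih]
    cases n with
    | ofNat k => simpa using h1 k
    | negSucc k =>
      rw [zpow_negSucc, ← inv_pow]
      exact h3 (k + 1)

/-- **BG 3.10 without `C_M(K) = 1`.**  `K ⋊ R` of Frobenius type (`R` fixed-point-free on `K`)
acting coprimely on a nilpotent `M` with prime action of `R`.  If `K` does not centralize `M` then
`|R|` is prime; and if `C_M(R)` is cyclic then `K'` centralizes `M`. -/
theorem primact [Finite X] (K R M : Subgroup X) (hK1 : K ≠ ⊥) (hR1 : R ≠ ⊥)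
    (hRK : R ≤ Subgroup.normalizer (K : Set X))
    (hfrob : ∀ r ∈ R, r ≠ 1 → K ⊓ Subgroup.centralizer ({r} : Set X) = ⊥)
    (hMn : Group.IsNilpotent M) (hKM : K ≤ Subgroup.normalizer (M : Set X))
    (hRM : R ≤ Subgroup.normalizer (M : Set X))
    (hcop : (Nat.card ↥(K ⊔ R)).Coprime (Nat.card M))
    (hpr : ∀ x ∈ R, x ≠ 1 → M ⊓ Subgroup.centralizer ({x} : Set X) =
      M ⊓ Subgroup.centralizer (R : Set X)) :
    (¬ K ≤ Subgroup.centralizer (M : Set X) → (Nat.card R).Prime) ∧
      (IsCyclic ↥(M ⊓ Subgroup.centralizer (R : Set X)) →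
        ⁅K, K⁆ ≤ Subgroup.centralizer (M : Set X)) := by
  classical
  have hKL : K ≤ K ⊔ R := le_sup_left
  have hRL : R ≤ K ⊔ R := le_sup_right
  have hLM : K ⊔ R ≤ Subgroup.normalizer (M : Set X) := sup_le hKM hRM
  have hLK : K ⊔ R ≤ Subgroup.normalizer (K : Set X) := sup_le Subgroup.le_normalizer hRK
  set φ := conjAct M (K ⊔ R) hLM with hφ
  set F : Subgroup ↥(K ⊔ R) := K.subgroupOf (K ⊔ R) with hF
  haveI hFn : F.Normal := (Subgroup.normal_subgroupOf_iff_le_normalizer hKL).mpr hLK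
  have hKnil : Group.IsNilpotent K := nilpotent_of_fpf K R hK1 hR1 hRK hfrob
  have hFnil : Group.IsNilpotent F :=
    (Group.isNilpotent_congr (Subgroup.subgroupOfEquivOfLe hKL)).mpr hKnil
  set H : Subgroup ↥(K ⊔ R) := R.subgroupOf (K ⊔ R) with hH
  have hfpf : ∀ h ∈ H, h ≠ 1 → ∀ f ∈ F, h * f * h⁻¹ = f → f = 1 := by
    intro h hh h1 f hf hfix
    have hr : (h : X) ∈ R := Subgroup.mem_subgroupOf.mp hh
    have hr1 : (h : X) ≠ 1 := fun e => h1 (Subtype.ext e)
    have hfK : (f : X) ∈ K := Subgroup.mem_subgroupOf.mp hf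
    have hmem : (f : X) ∈ K ⊓ Subgroup.centralizer ({(h : X)} : Set X) := by
      refine ⟨hfK, ?_⟩
      change (f : X) ∈ Subgroup.centralizer ({(h : X)} : Set X)
      rw [Subgroup.mem_centralizer_iff]
      intro y hy
      rw [Set.mem_singleton_iff] at hy
      rw [hy]
      have h2 := congrArg Subtype.val hfix
      simp only [Subgroup.coe_mul, Subgroup.coe_inv] at h2
      rw [mul_inv_eq_iff_eq_mul] at h2
      exact h2
    rw [hfrob _ hr hr1, Subgroup.mem_bot] at hmem
    exact Subtype.ext hmem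
  have hH1 : H ≠ ⊥ := by
    intro h0
    apply hR1
    rw [eq_bot_iff]
    intro r hr
    have : (⟨r, hRL hr⟩ : ↥(K ⊔ R)) ∈ H := Subgroup.mem_subgroupOf.mpr hr
    rw [h0, Subgroup.mem_bot] at this
    rw [Subgroup.mem_bot]
    exact congrArg Subtype.val this
  have hHcard : Nat.card H = Nat.card R :=
    Nat.card_congr (Subgroup.subgroupOfEquivOfLe hRL).toEquiv
  -- translation of fixed points
  have hfixH : ∀ m : M, m ∈ fix φ H ↔ (m : X) ∈ Subgroup.centralizer (R : Set X) := by
    intro m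
    have h1 := map_fix_conjAct M (K ⊔ R) hLM R hRL
    constructor
    · intro hm
      have : (m : X) ∈ (fix φ H).map M.subtype := ⟨m, hm, rfl⟩
      rw [hφ, hH, h1] at this
      exact this.2
    · intro hm
      have : (m : X) ∈ M ⊓ Subgroup.centralizer (R : Set X) := ⟨m.2, hm⟩
      rw [← h1] at this
      obtain ⟨m', hm', hmm⟩ := this
      have : m' = m := Subtype.ext hmm
      rw [← this]
      exact hm'
  have hfixh : ∀ (h : ↥(K ⊔ R)) (m : M), m ∈ fix φ (Subgroup.zpowers h) ↔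
      (m : X) ∈ Subgroup.centralizer ({(h : X)} : Set X) := by
    intro h m
    rw [mem_fix_zpowers, Subgroup.mem_centralizer_iff]
    constructor
    · intro hm y hy
      rw [Set.mem_singleton_iff] at hy
      rw [hy]
      have := congrArg Subtype.val hm
      rw [hφ, conjAct_apply] at this
      rw [mul_inv_eq_iff_eq_mul] at this
      exact this
    · intro hm
      apply Subtype.ext
      rw [hφ, conjAct_apply]
      rw [mul_inv_eq_iff_eq_mul]
      exact hm (h : X) rfl
  have hpr' : ∀ h ∈ H, h ≠ 1 → fix φ (Subgroup.zpowers h) = fix φ H := by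
    intro h hh h1
    have hr : (h : X) ∈ R := Subgroup.mem_subgroupOf.mp hh
    have hr1 : (h : X) ≠ 1 := fun e => h1 (Subtype.ext e)
    ext m
    rw [hfixh, hfixH]
    have h2 := hpr _ hr hr1
    constructor
    · intro hm
      have : (m : X) ∈ M ⊓ Subgroup.centralizer ({(h : X)} : Set X) := ⟨m.2, hm⟩
      rw [h2] at this
      exact this.2
    · intro hm
      have : (m : X) ∈ M ⊓ Subgroup.centralizer (R : Set X) := ⟨m.2, hm⟩
      rw [← h2] at this
      exact this.2
  have hprime : ¬ K ≤ Subgroup.centralizer (M : Set X) → (Nat.card R).Prime := by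
    intro hnc
    rw [← hHcard]
    refine card_prime_of_prime_action F H hFnil hfpf hH1 (Nat.card M) M φ rfl hMn hcop hpr' ?_
    intro htop
    apply hnc
    have h1 := map_fix_conjAct M (K ⊔ R) hLM K hKL
    rw [← hφ, ← hF, htop] at h1
    rw [Subgroup.le_centralizer_iff]
    intro m hm
    have : m ∈ (⊤ : Subgroup M).map M.subtype := ⟨⟨m, hm⟩, trivial, rfl⟩
    rw [h1] at this
    exact this.2
  refine ⟨hprime, ?_⟩
  intro hcyc
  by_cases hnc : K ≤ Subgroup.centralizer (M : Set X)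
  · rw [Subgroup.commutator_le]
    intro k₁ hk₁ k₂ hk₂
    exact Subgroup.mul_mem _ (Subgroup.mul_mem _ (Subgroup.mul_mem _ (hnc hk₁) (hnc hk₂))
      (Subgroup.inv_mem _ (hnc hk₁))) (Subgroup.inv_mem _ (hnc hk₂))
  have hp := hprime hnc
  have hFH : F ⊔ H = ⊤ := by
    rw [hF, hH, ← Subgroup.subgroupOf_sup hKL hRL, Subgroup.subgroupOf_self]
  have hcycfix : IsCyclic (fix φ H) := by
    haveI := hcyc
    exact isCyclic_of_surjective (fixEquiv M (K ⊔ R) hLM R hRL).symm
      (fixEquiv M (K ⊔ R) hLM R hRL).symm.surjective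
  have hB := comm_act_of_cyclic' F H hFnil hfpf hFH (Nat.card R) hp hHcard M φ hMn hcop hcycfix
  rw [Subgroup.commutator_le]
  intro k₁ hk₁ k₂ hk₂
  rw [Subgroup.mem_centralizer_iff]
  intro m hm
  set a : ↥(K ⊔ R) := ⟨k₁, hKL hk₁⟩ with ha
  set b : ↥(K ⊔ R) := ⟨k₂, hKL hk₂⟩ with hb
  have h1 := hB a (Subgroup.mem_subgroupOf.mpr hk₁) b (Subgroup.mem_subgroupOf.mpr hk₂)
  have h2 : φ ((a * b) * (b * a)⁻¹) = 1 := by
    rw [map_mul, h1, ← map_mul, mul_inv_cancel, map_one]
  have h3 := congrArg (fun e : MulAut M => ((e ⟨m, hm⟩ : M) : X)) h2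
  simp only [MulAut.one_apply] at h3
  rw [hφ, conjAct_apply] at h3
  have h4 : ((a * b * (b * a)⁻¹ : ↥(K ⊔ R)) : X) = ⁅k₁, k₂⁆ := by
    rw [commutatorElement_def]
    simp only [Subgroup.coe_mul, Subgroup.coe_inv, ha, hb, mul_inv_rev]
    group
  rw [h4] at h3
  change ⁅k₁, k₂⁆ * m * ⁅k₁, k₂⁆⁻¹ = m at h3
  rw [mul_inv_eq_iff_eq_mul] at h3
  exact h3.symm

end Cfsg.Agent.Helper4.BG15
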