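import Mathlib
import Cfsg.Prelude
import Cfsg.Agent.Helper4.BG14L
import Cfsg.Agent.Helper4.BG15B
import Cfsg.Agent.Helper2.CNMaxA
import Cfsg.Agent.Helper3.BG142b

set_option autoImplicit false
set_option linter.unusedSectionVars false
set_option linter.unusedVariables false

/-!
Bender–Glauberman §15: basic facts on `M_F` (the largest normal nilpotent Hall subgroup of `M`).
-/

namespace Cfsg.Agent.Helper4.BG15

open Cfsg Cfsg.Agent.Helper1 Cfsg.Agent.Helper2 Cfsg.Agent.Helper1.BGT Cfsg.Agent.Helper1.BGU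
  Cfsg.Agent.Helper1.BGV Cfsg.Agent.Helper1.BGW Cfsg.Agent.Helper1.BGX Cfsg.Agent.Lead.BG12
  Cfsg.Agent.Lead.BG108 Cfsg.Agent.Helper4.BG10 Cfsg.Agent.Helper4.BG12
open scoped commutatorElement Pointwise

universe u

variable {G : Type u} [Group G] [Finite G]

theorem fittingHallOf_coprime (M : Subgroup G) :
    (Nat.card (fittingHallOf M)).Coprime ((fittingHallOf M).relIndex M) := by
  rw [card_fittingHallOf, relIndex_fittingHallOf]
  exact fittingHall_coprime M

/-- every prime divisor of `|M_F|` lies in `σ(M)` -/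
theorem mem_sigma_of_dvd_card_fittingHallOf (hG : Cfsg.IsMinSimpleOddOrder G) {M : Subgroup G}
    (hM : IsCoatom M) {p : ℕ} (hp : p.Prime) (hd : p ∣ Nat.card (fittingHallOf M)) :
    p ∈ Cfsg.sigma M := by
  haveI : Fact p.Prime := ⟨hp⟩
  rw [card_fittingHallOf] at hd
  have hcop := fittingHall_coprime M
  obtain ⟨P⟩ : Nonempty (Sylow p ↥M) := inferInstance
  have hPle : (P : Subgroup ↥M) ≤ fittingHall ↥M := by
    apply le_of_coprime_card_index
    obtain ⟨n, hn⟩ := (IsPGroup.iff_card.mp P.2)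
    rw [hn]
    apply Nat.Coprime.pow_left
    rw [Nat.Prime.coprime_iff_not_dvd hp]
    intro h
    exact hp.one_lt.ne' (Nat.eq_one_of_dvd_coprimes hcop hd h)
  have hPn : (P : Subgroup ↥M).Normal :=
    CNFrob.sylow_normal_of_le_nilpotent_normal P (fittingHall ↥M) CNFrob.fittingHall_isNilpotent hPle
  have hpM : p ∣ Nat.card M := hd.trans (Subgroup.card_subgroup_dvd_card _)
  refine ⟨hp, hpM, P, ?_⟩
  set P' : Subgroup G := (P : Subgroup ↥M).map M.subtype with hP'
  have hP'M : P' ≤ M := Subgroup.map_subtype_le _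
  have hMN : M ≤ Subgroup.normalizer (P' : Set G) := by
    have h1 := le_normalizer_map_subtype (P : Subgroup ↥M)
    exact h1
  have hP'1 : P' ≠ ⊥ := by
    intro h0
    have h1 : Nat.card P' = 1 := by rw [h0]; exact Subgroup.card_bot
    rw [hP', Subgroup.card_map_of_injective M.subtype_injective] at h1
    have h2 : p ∣ Nat.card (P : Subgroup ↥M) := P.dvd_card_of_dvd_card hpM
    rw [h1] at h2
    exact hp.one_lt.ne' (Nat.dvd_one.mp h2)
  have hP'top : P' ≠ ⊤ := fun h => hM.1 (top_le_iff.mp (h ▸ hP'M))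
  have hNtop := normalizer_ne_top_of_simple hG hP'1 hP'top
  rcases eq_or_lt_of_le hMN with h | h
  · exact h.ge
  · exact absurd (hM.2 _ h) hNtop

theorem fittingHallOf_le_sigmaCore (hG : Cfsg.IsMinSimpleOddOrder G) {M : Subgroup G}
    (hM : IsCoatom M) : fittingHallOf M ≤ Cfsg.sigmaCore M := by
  intro x hx
  have hσ := (Cfsg.Agent.Lead.BG12.sigmaCore_hall hG M hM).1
  apply mem_of_pow_eq_one_of_coprime_relIndex (le_normalizer_sigmaCore M)
    (n := Nat.card (fittingHallOf M)) _ (Cfsg.Agent.Helper1.fittingHallOf_le M hx)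
  · have h1 : (⟨x, hx⟩ : ↥(fittingHallOf M)) ^ Nat.card ↥(fittingHallOf M) = 1 := pow_card_eq_one'
    exact congrArg Subtype.val h1
  · apply Nat.coprime_of_dvd
    intro k hk h1 h2
    exact hσ.2.2 k hk (mem_sigma_of_dvd_card_fittingHallOf hG hM hk h1) h2

theorem sigmaCore_le_fittingHallOf (hG : Cfsg.IsMinSimpleOddOrder G) {M : Subgroup G}
    (hM : IsCoatom M) (hnil : Group.IsNilpotent ↥(Cfsg.sigmaCore M)) :
    Cfsg.sigmaCore M ≤ fittingHallOf M :=
  CNMax.le_fittingHallOf M _ sigmaCore_le (le_normalizer_sigmaCore M) hnil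
    (Cfsg.Agent.Helper3.BG142.coprime_of_isPiHallOf (Cfsg.Agent.Lead.BG12.sigmaCore_hall hG M hM).1).symm

theorem fittingHallOf_eq_sigmaCore (hG : Cfsg.IsMinSimpleOddOrder G) {M : Subgroup G}
    (hM : IsCoatom M) (hnil : Group.IsNilpotent ↥(Cfsg.sigmaCore M)) :
    fittingHallOf M = Cfsg.sigmaCore M :=
  le_antisymm (fittingHallOf_le_sigmaCore hG hM) (sigmaCore_le_fittingHallOf hG hM hnil)

/-- if `M_F = M_σ` then `M_σ` is nilpotent -/
theorem isNilpotent_sigmaCore_of_eq {M : Subgroup G} (h : fittingHallOf M = Cfsg.sigmaCore M) :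
    Group.IsNilpotent ↥(Cfsg.sigmaCore M) := h ▸ CNMax.fittingHallOf_isNilpotent M

/-- elements of `M` whose order is a `π(M_F)`-number lie in `M_F` -/
theorem mem_fittingHallOf_of_pow {M : Subgroup G} {x : G} (hx : x ∈ M) {n : ℕ}
    (hn : n.Coprime ((fittingHallOf M).relIndex M)) (hxn : x ^ n = 1) : x ∈ fittingHallOf M :=
  mem_of_pow_eq_one_of_coprime_relIndex (CNMax.le_normalizer_fittingHallOf M) hn hx hxn

end Cfsg.Agent.Helper4.BG15
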