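import Mathlib
import Cfsg.Prelude
import Cfsg.Agent.Helper4.BG15C
import Cfsg.Agent.Helper3.CoprimeHall
import Cfsg.Agent.Helper1.BGT3regC
import Cfsg.Agent.S1429
import Cfsg.Agent.S1365

set_option autoImplicit false
set_option linter.unusedSectionVars false
set_option linter.unusedVariables false

/-!
Bender–Glauberman Theorem 15.2, structural part, for a maximal subgroup with a standard
factorisation `M = K U M_σ` (`K` cyclic).
-/

namespace Cfsg.Agent.Helper4.BG15

open Cfsg Cfsg.Agent.Helper1 Cfsg.Agent.Helper2 Cfsg.Agent.Helper1.BGT Cfsg.Agent.Helper1.BGU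
  Cfsg.Agent.Helper1.BGV Cfsg.Agent.Helper1.BGW Cfsg.Agent.Helper1.BGX Cfsg.Agent.Lead.BG12
  Cfsg.Agent.Lead.BG108 Cfsg.Agent.Helper4.BG10 Cfsg.Agent.Helper4.BG12
open scoped commutatorElement Pointwise

universe u

variable {G : Type u} [Group G] [Finite G]

section decomp

variable {M K U : Subgroup G}

theorem decomp_K_le (hKU : Cfsg.IsSigmaDecomposition M K U) : K ≤ M := hKU.hall.1

theorem decomp_U_le (hKU : Cfsg.IsSigmaDecomposition M K U) : U ≤ M := hKU.compl.1

theorem decomp_coprime_K_sigmaCore (hKU : Cfsg.IsSigmaDecomposition M K U) :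
    (Nat.card K).Coprime (Nat.card (Cfsg.sigmaCore M)) := by
  apply Nat.coprime_of_dvd
  intro p hp h1 h2
  exact (hKU.hall.2.1 p hp h1).2.2.1 (Cfsg.Agent.Lead.BG12.mem_sigma_of_dvd_card_sigmaCore hp h2)

theorem decomp_K_inf_sigmaCore (hKU : Cfsg.IsSigmaDecomposition M K U) :
    K ⊓ Cfsg.sigmaCore M = ⊥ :=
  inf_eq_bot_of_coprime_card (decomp_coprime_K_sigmaCore hKU)

theorem decomp_card_K_sup (hKU : Cfsg.IsSigmaDecomposition M K U) :
    Nat.card (K ⊔ Cfsg.sigmaCore M : Subgroup G) = Nat.card K * Nat.card (Cfsg.sigmaCore M) := by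
  rw [sup_comm]
  exact card_sup_of_le_normalizer ((decomp_K_le hKU).trans (le_normalizer_sigmaCore M))
    (decomp_K_inf_sigmaCore hKU)

theorem decomp_card (hKU : Cfsg.IsSigmaDecomposition M K U) :
    Nat.card U * (Nat.card K * Nat.card (Cfsg.sigmaCore M)) = Nat.card M := by
  rw [← decomp_card_K_sup hKU]
  exact IsComplIn_card_mul hKU.compl

/-- primes of `|U|` are outside `σ(M)` and `κ(M)` -/
theorem decomp_U_primes (hG : Cfsg.IsMinSimpleOddOrder G) (hM : IsCoatom M)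
    (hKU : Cfsg.IsSigmaDecomposition M K U) {p : ℕ} (hp : p.Prime) (hd : p ∣ Nat.card U) :
    p ∉ Cfsg.sigma M ∧ p ∉ Cfsg.kappa M := by
  have hcard := decomp_card hKU
  constructor
  · intro hσ
    have h1 := (Cfsg.Agent.Lead.BG12.sigmaCore_hall hG M hM).1.2.2 p hp hσ
    apply h1
    have h2 := relIndex_mul_card_of_le (sigmaCore_le (M := M))
    have h3 : (Cfsg.sigmaCore M).relIndex M = Nat.card U * Nat.card K := by
      have hpos : 0 < Nat.card (Cfsg.sigmaCore M) := Nat.card_pos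
      apply Nat.eq_of_mul_eq_mul_right hpos
      rw [h2, ← hcard]; ring
    rw [h3]
    exact Dvd.dvd.mul_right hd _
  · intro hκ
    have h1 := hKU.hall.2.2 p hp hκ
    apply h1
    have h2 := relIndex_mul_card_of_le (decomp_K_le hKU)
    have h3 : K.relIndex M = Nat.card U * Nat.card (Cfsg.sigmaCore M) := by
      have hpos : 0 < Nat.card K := Nat.card_pos
      apply Nat.eq_of_mul_eq_mul_right hpos
      rw [h2, ← hcard]; ring
    rw [h3]
    exact Dvd.dvd.mul_right hd _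

/-- if `U ≠ 1` then `M_σ` is nilpotent (BG 13.? = `S1429`) -/
theorem isNilpotent_sigmaCore_of_U_ne_bot (hG : Cfsg.IsMinSimpleOddOrder G) (hM : IsCoatom M)
    (hKU : Cfsg.IsSigmaDecomposition M K U) (hU : U ≠ ⊥) :
    Group.IsNilpotent ↥(Cfsg.sigmaCore M) := by
  have hcard : Nat.card U ≠ 1 := fun h => hU (Subgroup.card_eq_one.mp h)
  obtain ⟨p, hp, hpd⟩ := Nat.exists_prime_and_dvd hcard
  haveI : Fact p.Prime := ⟨hp⟩
  obtain ⟨hpσ, hpκ⟩ := decomp_U_primes hG hM hKU hp hpd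
  have hpM : p ∣ Nat.card M := hpd.trans (Subgroup.card_dvd_of_le (decomp_U_le hKU))
  obtain ⟨S⟩ : Nonempty (Sylow p ↥M) := inferInstance
  refine (Cfsg.Agent.S1429.result hG M hM ?_ p hpM ?_ S).2.2
  · intro h
    exact hpκ (h p hp hpM hpσ)
  · rintro (h | h)
    · exact hpσ h
    · exact hpκ h

/-- if `U = 1` then `M = K M_σ` -/
theorem decomp_eq_of_U_eq_bot (hKU : Cfsg.IsSigmaDecomposition M K U) (hU : U = ⊥) :
    M = K ⊔ Cfsg.sigmaCore M := by
  apply le_antisymm
  · intro m hm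
    obtain ⟨a, ha, b, hb, rfl⟩ := hKU.compl.2.2.2 m hm
    rw [hU, Subgroup.mem_bot] at ha
    rw [ha, one_mul]
    exact hb
  · exact sup_le (decomp_K_le hKU) sigmaCore_le

theorem commutator_lt_self (hG : Cfsg.IsMinSimpleOddOrder G) (hM : IsCoatom M) : ⁅M, M⁆ < M := by
  haveI hsolvM : Group.IsSolvable ↥M := hG.2.2.2 M hM.1
  have hM1 : M ≠ ⊥ := by
    intro h
    exact sigmaCore_ne_bot hG hM (le_bot_iff.mp (h ▸ sigmaCore_le))
  haveI : Nontrivial ↥M := (Subgroup.nontrivial_iff_ne_bot M).mpr hM1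
  have h1 := Group.IsSolvable.commutator_lt_top_of_nontrivial ↥M
  have h2 : ⁅M, M⁆ ≤ M := Cfsg.Agent.Helper1.commutator_self_le M
  refine lt_of_le_of_ne h2 ?_
  intro h
  apply h1.ne
  rw [eq_top_iff]
  intro x _
  have hx : (x : G) ∈ ⁅M, M⁆ := by rw [h]; exact x.2
  rw [← Subgroup.map_subtype_commutator] at hx
  obtain ⟨y, hy, hyx⟩ := hx
  have : y = x := Subtype.ext hyx
  rwa [← this]

/-- if `U = 1` then `K ≠ 1` -/
theorem decomp_K_ne_bot (hG : Cfsg.IsMinSimpleOddOrder G) (hM : IsCoatom M)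
    (hKU : Cfsg.IsSigmaDecomposition M K U) (hU : U = ⊥) : K ≠ ⊥ := by
  intro hK
  have h1 := decomp_eq_of_U_eq_bot hKU hU
  rw [hK, bot_sup_eq] at h1
  have h2 := sigmaCore_le_commutator hG hM
  have h3 := commutator_lt_self hG hM
  rw [← h1] at h2
  exact absurd h2 (not_le_of_gt h3)

/-- **Type `P₁` structure** (`U = 1`): `M_σ = M_F ⋊ D` with `D` a `K`-invariant nilpotent Hall
subgroup on which `K` acts fixed-point-freely, `D' ≤ C(M_F)`, and if `D ≠ 1` then `|K|` is prime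
and `D` does not centralize `M_F`. -/
theorem p1_structure (hG : Cfsg.IsMinSimpleOddOrder G) (hM : IsCoatom M)
    (hKU : Cfsg.IsSigmaDecomposition M K U) (hU : U = ⊥)
    (h1364 : IsCyclic ↥(Cfsg.sigmaCore M ⊓ Subgroup.centralizer (K : Set G)) ∧
      (Cfsg.sigmaCore M ⊓ Subgroup.centralizer (K : Set G)) ≠ ⊥ ∧
      (Cfsg.sigmaCore M ⊓ Subgroup.centralizer (K : Set G)) ≤ Cfsg.fittingHallOf M ∧
      ¬ IsCyclic (Cfsg.fittingHallOf M)) :
    ∃ D : Subgroup G, D ≤ Cfsg.sigmaCore M ∧ K ≤ Subgroup.normalizer (D : Set G) ∧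
      Cfsg.fittingHallOf M ⊓ D = ⊥ ∧ Cfsg.fittingHallOf M ⊔ D = Cfsg.sigmaCore M ∧
      (Nat.card (Cfsg.fittingHallOf M)).Coprime (Nat.card D) ∧ Group.IsNilpotent ↥D ∧
      (∀ k ∈ K, k ≠ 1 → D ⊓ Subgroup.centralizer ({k} : Set G) = ⊥) ∧
      ⁅D, D⁆ ≤ Subgroup.centralizer (Cfsg.fittingHallOf M : Set G) ∧
      (D ≠ ⊥ → (Nat.card K).Prime ∧ ¬ D ≤ Subgroup.centralizer (Cfsg.fittingHallOf M : Set G)) := by
  classical
  have hK1 := decomp_K_ne_bot hG hM hKU hU
  have hκ := Cfsg.Agent.Helper1.BGT3reg.kappa_subset_tau1_of_cyclic hG hM hKU.cyclic hKU.hall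
  have hpr := (Cfsg.Agent.Helper4.BG14.s1430_regular hG M hM K hKU.hall hK1 hκ).1
  obtain ⟨hKsc, hKs1, hKsF, hFnc⟩ := h1364
  set F := Cfsg.fittingHallOf M with hF
  set S := Cfsg.sigmaCore M with hS
  have hFS : F ≤ S := fittingHallOf_le_sigmaCore hG hM
  have hKM : K ≤ M := decomp_K_le hKU
  have hSM : S ≤ M := sigmaCore_le
  have hMS : M ≤ Subgroup.normalizer (S : Set G) := le_normalizer_sigmaCore M
  have hMF : M ≤ Subgroup.normalizer (F : Set G) := CNMax.le_normalizer_fittingHallOf M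
  have hFnil : Group.IsNilpotent ↥F := CNMax.fittingHallOf_isNilpotent M
  have hKS : K ≤ Subgroup.normalizer (S : Set G) := hKM.trans hMS
  have hcopKS : (Nat.card K).Coprime (Nat.card S) := decomp_coprime_K_sigmaCore hKU
  have hsolvM : Group.IsSolvable ↥M := hG.2.2.2 M hM.1
  have hsolvS : Group.IsSolvable ↥S := isSolvable_of_le hSM hsolvM
  obtain ⟨D, hDhall, hKD⟩ := Cfsg.Agent.Helper3.exists_invariant_hall K S hKS hcopKS hsolvS
    {q | q.Prime ∧ ¬ q ∣ Nat.card F}
  have hDS : D ≤ S := hDhall.1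
  have hcopFD : (Nat.card F).Coprime (Nat.card D) :=
    Nat.coprime_of_dvd (fun q hq h1 h2 => (hDhall.2.1 q hq h2).2 h1)
  have hFD : F ⊓ D = ⊥ := inf_eq_bot_of_coprime_card hcopFD
  have hcopFidx : (Nat.card F).Coprime (F.relIndex S) := by
    have h1 : (Nat.card F).Coprime (F.relIndex M) := fittingHallOf_coprime M
    have h2 : F.relIndex S ∣ F.relIndex M := by
      have h3 := Subgroup.relIndex_mul_relIndex F S M hFS hSM
      exact ⟨_, h3.symm⟩
    exact Nat.Coprime.coprime_dvd_right h2 h1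
  have hd : Cfsg.Agent.Helper3.PiDecomp {q | q.Prime ∧ ¬ q ∣ Nat.card F} (Nat.card S)
      (F.relIndex S) (Nat.card F) := by
    refine ⟨(relIndex_mul_card_of_le hFS).symm, ?_, ?_⟩
    · intro p hp hpd
      refine ⟨hp, fun h => ?_⟩
      exact hp.one_lt.ne' (Nat.eq_one_of_dvd_coprimes hcopFidx h hpd)
    · intro p hp hpd h
      exact h.2 hpd
  have hDcard : Nat.card D = F.relIndex S :=
    ((Cfsg.Agent.Helper3.isPiHallOf_iff_card hd).1 hDhall).2
  have hDF : D ≤ Subgroup.normalizer (F : Set G) := (hDS.trans hSM).trans hMF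
  have hFsupD : F ⊔ D = S := by
    apply Subgroup.eq_of_le_of_card_ge (sup_le hFS hDS)
    rw [card_sup_of_le_normalizer hDF (by rw [inf_comm]; exact hFD), hDcard,
      relIndex_mul_card_of_le hFS]
  have hfpf : ∀ k ∈ K, k ≠ 1 → D ⊓ Subgroup.centralizer ({k} : Set G) = ⊥ := by
    intro k hk hk1
    rw [eq_bot_iff]
    intro d hd
    have h1 : d ∈ S ⊓ Subgroup.centralizer ({k} : Set G) := ⟨hDS hd.1, hd.2⟩
    rw [hpr k hk hk1] at h1
    have h2 : d ∈ F ⊓ D := ⟨hKsF h1, hd.1⟩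
    rwa [hFD] at h2
  have hKF : K ≤ Subgroup.normalizer (F : Set G) := hKM.trans hMF
  have hprF : ∀ x ∈ K, x ≠ 1 → F ⊓ Subgroup.centralizer ({x} : Set G) =
      F ⊓ Subgroup.centralizer (K : Set G) := by
    intro x hx hx1
    have h1 : F ⊓ S = F := inf_eq_left.mpr hFS
    calc F ⊓ Subgroup.centralizer ({x} : Set G)
        = (F ⊓ S) ⊓ Subgroup.centralizer ({x} : Set G) := by rw [h1]
      _ = F ⊓ (S ⊓ Subgroup.centralizer ({x} : Set G)) := inf_assoc _ _ _
      _ = F ⊓ (S ⊓ Subgroup.centralizer (K : Set G)) := by rw [hpr x hx hx1]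
      _ = (F ⊓ S) ⊓ Subgroup.centralizer (K : Set G) := (inf_assoc _ _ _).symm
      _ = F ⊓ Subgroup.centralizer (K : Set G) := by rw [h1]
  have hcycF : IsCyclic ↥(F ⊓ Subgroup.centralizer (K : Set G)) := by
    have : F ⊓ Subgroup.centralizer (K : Set G) = S ⊓ Subgroup.centralizer (K : Set G) :=
      le_antisymm (inf_le_inf_right _ hFS) (le_inf hKsF inf_le_right)
    rw [this]; exact hKsc
  by_cases hD1 : D = ⊥
  · refine ⟨D, hDS, hKD, hFD, hFsupD, hcopFD, ?_, hfpf, ?_, fun h => absurd hD1 h⟩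
    · rw [hD1]
      infer_instance
    · rw [hD1, Subgroup.commutator_bot_left]
      exact bot_le
  have hDnil : Group.IsNilpotent ↥D := Cfsg.Agent.S1446.nilpotent_of_fpf D K hD1 hK1 hKD hfpf
  have hKD0 : K ⊓ D = ⊥ := by
    have h1 : K ⊓ S = ⊥ := decomp_K_inf_sigmaCore hKU
    exact le_bot_iff.mp (h1 ▸ inf_le_inf_left K hDS)
  have hcop : (Nat.card ↥(D ⊔ K)).Coprime (Nat.card F) := by
    rw [card_sup_of_le_normalizer hKD hKD0]
    apply Nat.Coprime.mul_left
    · exact Nat.Coprime.coprime_dvd_right (Subgroup.card_dvd_of_le hFS) hcopKS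
    · exact hcopFD.symm
  obtain ⟨hP1, hP2⟩ := primact D K F hD1 hK1 hKD hfpf hFnil hDF hKF hcop hprF
  have hnc : ¬ D ≤ Subgroup.centralizer (F : Set G) := by
    intro hDC
    apply hD1
    have hMD : M ≤ Subgroup.normalizer (D : Set G) := by
      have hMeq : M = K ⊔ S := decomp_eq_of_U_eq_bot hKU hU
      rw [hMeq, ← hFsupD]
      refine sup_le hKD (sup_le ?_ Subgroup.le_normalizer)
      have : F ≤ Subgroup.centralizer (D : Set G) := by
        rw [Subgroup.le_centralizer_iff]; exact hDC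
      exact this.trans (Subgroup.centralizer_le_normalizer _)
    have hDM : D ≤ M := hDS.trans hSM
    have hDidx : (Nat.card D).Coprime (D.relIndex M) := by
      have h1 := relIndex_mul_card_of_le hDM
      have h2 : D.relIndex M = Nat.card K * Nat.card F := by
        have hpos : 0 < Nat.card D := Nat.card_pos
        apply Nat.eq_of_mul_eq_mul_right hpos
        rw [h1]
        have h3 := decomp_card hKU
        rw [hU, Subgroup.card_bot, one_mul] at h3
        rw [← h3, ← relIndex_mul_card_of_le hFS, ← hDcard]; ring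
      rw [h2]
      apply Nat.Coprime.mul_right
      · exact (Nat.Coprime.coprime_dvd_right (Subgroup.card_dvd_of_le hDS) hcopKS).symm
      · exact hcopFD.symm
    have hDle : D ≤ F := CNMax.le_fittingHallOf M D hDM hMD hDnil hDidx
    exact le_bot_iff.mp (hFD ▸ le_inf hDle le_rfl)
  exact ⟨D, hDS, hKD, hFD, hFsupD, hcopFD, hDnil, hfpf, hP2 hcycF, fun _ => ⟨hP1 hnc, hnc⟩⟩

end decomp

end Cfsg.Agent.Helper4.BG15
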