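import Mathlib
import Cfsg.Prelude
import Cfsg.Agent.Helper4.BG147H
import Cfsg.Agent.Helper4.BG15B
import Cfsg.Agent.S1429

set_option autoImplicit false
set_option linter.unusedSectionVars false
set_option linter.unusedVariables false

/-!
Bender–Glauberman 14.7, the local step: if `U ≠ 1` then `|K|` is prime.
-/

namespace Cfsg.Agent.Helper4.BG147H

open Cfsg Cfsg.Agent.Helper1.BG147
open scoped commutatorElement Pointwise

universe u

variable {G : Type u} [Group G] [Finite G]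

/-- A Hall `π`-subgroup `H` of `M` contains a Sylow `p`-subgroup of `M` for each `p ∈ π`. -/
theorem exists_sylow_map_le_of_hall {π : Set ℕ} {H M : Subgroup G} (hH : Cfsg.IsPiHallOf π H M)
    {p : ℕ} [hp : Fact p.Prime] (hpπ : p ∈ π) :
    ∃ P : Sylow p ↥M, (P : Subgroup ↥M).map M.subtype ≤ H := by
  obtain ⟨P₀⟩ : Nonempty (Sylow p ↥H) := inferInstance
  set P₁ : Subgroup G := (P₀ : Subgroup ↥H).map H.subtype with hP₁
  have hP₁H : P₁ ≤ H := Subgroup.map_subtype_le _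
  have hP₁p : IsPGroup p ↥P₁ := P₀.2.map _
  have hP₁M : P₁ ≤ M := hP₁H.trans hH.1
  have hsub : IsPGroup p ↥(P₁.subgroupOf M) := by
    have e := (Subgroup.subgroupOfEquivOfLe hP₁M)
    exact hP₁p.of_equiv e.symm
  obtain ⟨P, hP⟩ := hsub.exists_le_sylow
  have hcardP₁ : Nat.card P₁ = p ^ (Nat.card H).factorization p := by
    rw [hP₁, Subgroup.card_map_of_injective H.subtype_injective]
    exact P₀.card_eq_multiplicity
  have hcardP : Nat.card (P : Subgroup ↥M) = p ^ (Nat.card M).factorization p :=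
    P.card_eq_multiplicity
  have hfac : (Nat.card H).factorization p = (Nat.card M).factorization p := by
    have h1 := Cfsg.Agent.Helper1.relIndex_mul_card_of_le hH.1
    have h2 : ¬ p ∣ H.relIndex M := hH.2.2 p hp.out hpπ
    rw [← h1, Nat.factorization_mul (fun h => by simp [h] at h2) Nat.card_pos.ne',
      Finsupp.add_apply, Nat.factorization_eq_zero_of_not_dvd h2, zero_add]
  have hPeq : P₁.subgroupOf M = (P : Subgroup ↥M) := by
    apply Subgroup.eq_of_le_of_card_ge hP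
    rw [hcardP, ← hfac, ← hcardP₁, Cfsg.Agent.Helper1.card_subgroupOf_of_le hP₁M]
  refine ⟨P, ?_⟩
  rw [← hPeq, Subgroup.map_subgroupOf_eq_of_le hP₁M]
  exact hP₁H

/-- **BG 14.7, local step (D).**  If the Hall `(σ(M) ∪ κ(M))'`-subgroup `U` of `M` (normalized by
`K`, with `K` acting fixed-point-freely) is nontrivial, then `|K|` is prime. -/
theorem card_kappaHall_prime (hG : Cfsg.IsMinSimpleOddOrder G) {M K U : Subgroup G}
    (hM : IsCoatom M) (hK : Cfsg.IsPiHallOf (Cfsg.kappa M) K M) (hK1 : K ≠ ⊥)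
    (hU : Cfsg.IsPiHallOf {q | q.Prime ∧ q ∉ Cfsg.kappa M ∧ q ∉ Cfsg.sigma M} U M) (hU1 : U ≠ ⊥)
    (hKU : K ≤ Subgroup.normalizer (U : Set G))
    (hfpf : ∀ k ∈ K, k ≠ 1 → U ⊓ Subgroup.centralizer ({k} : Set G) = ⊥) :
    (Nat.card K).Prime := by
  have hcardU : Nat.card U ≠ 1 := fun h => hU1 (Subgroup.card_eq_one.mp h)
  obtain ⟨p, hp, hpd⟩ := Nat.exists_prime_and_dvd hcardU
  haveI : Fact p.Prime := ⟨hp⟩
  have hpπ := hU.2.1 p hp hpd
  obtain ⟨S, hSU⟩ := exists_sylow_map_le_of_hall hU hpπ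
  have hpM : p ∣ Nat.card M := hpd.trans (Subgroup.card_dvd_of_le hU.1)
  have hP1 : ¬ (∀ q : ℕ, q.Prime → q ∣ Nat.card M → q ∉ Cfsg.sigma M → q ∈ Cfsg.kappa M) :=
    fun h => hpπ.2.1 (h p hp hpM hpπ.2.2)
  obtain ⟨-, hcent, hnil⟩ := Cfsg.Agent.S1429.result hG M hM hP1 p hpM (by
    rintro (h | h)
    · exact hpπ.2.2 h
    · exact hpπ.2.1 h) S
  have hpa := (Cfsg.Agent.Lead.BG14II.s1430 hG M hM K hK hK1).1
  have hσn := Cfsg.Agent.Lead.BG12.le_normalizer_sigmaCore M
  have hcopKU : (Nat.card K).Coprime (Nat.card U) := by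
    apply Nat.coprime_of_dvd
    intro q hq h1 h2
    exact (hU.2.1 q hq h2).2.1 (hK.2.1 q hq h1)
  have hdisj : K ⊓ U = ⊥ := Cfsg.Agent.Helper1.inf_eq_bot_of_coprime_card hcopKU
  have hcardsup : Nat.card (U ⊔ K : Subgroup G) = Nat.card K * Nat.card U :=
    Cfsg.Agent.Helper1.card_sup_of_le_normalizer hKU hdisj
  have hcop : (Nat.card ↥(U ⊔ K)).Coprime (Nat.card (Cfsg.sigmaCore M)) := by
    rw [hcardsup]
    apply Nat.coprime_of_dvd
    intro q hq h1 h2
    have hqσ : q ∈ Cfsg.sigma M := Cfsg.Agent.Lead.BG12.mem_sigma_of_dvd_card_sigmaCore hq h2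
    rcases (Nat.Prime.dvd_mul hq).mp h1 with h | h
    · exact (hK.2.1 q hq h).2.2.1 hqσ
    · exact (hU.2.1 q hq h).2.2 hqσ
  have hact : ¬ U ≤ Subgroup.centralizer ((Cfsg.sigmaCore M : Subgroup G) : Set G) := by
    intro hUc
    have hσ1 := Cfsg.Agent.Lead.BG12.sigmaCore_ne_bot hG hM
    apply hσ1
    rw [← hcent]
    refine (inf_eq_left.mpr ?_).symm
    intro y hy
    rw [Subgroup.mem_centralizer_iff]
    intro z hz
    have hzU : z ∈ U := by
      have h1 : Subgroup.closure {x : G | x ∈ (S : Subgroup ↥M).map M.subtype ∧ x ^ p = 1} ≤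
          (S : Subgroup ↥M).map M.subtype := by
        rw [Subgroup.closure_le]
        intro x hx
        exact hx.1
      exact hSU (h1 hz)
    exact (Subgroup.mem_centralizer_iff.mp (hUc hzU) y hy).symm
  exact (Cfsg.Agent.Helper4.BG15.primact U K (Cfsg.sigmaCore M) hU1 hK1 hKU hfpf hnil
    (hU.1.trans hσn) (hK.1.trans hσn) hcop hpa).1 hact

end Cfsg.Agent.Helper4.BG147H
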