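import Mathlib
import Cfsg.Prelude
import Cfsg.Agent.Helper4.BG15D

set_option autoImplicit false
set_option linter.unusedSectionVars false
set_option linter.unusedVariables false

/-!
Bender–Glauberman Theorem 15.2(a) (`S1355`) for a maximal subgroup with a standard factorisation.
-/

namespace Cfsg.Agent.Helper4.BG15

open Cfsg Cfsg.Agent.Helper1 Cfsg.Agent.Helper2 Cfsg.Agent.Helper1.BGT Cfsg.Agent.Helper1.BGU
  Cfsg.Agent.Helper1.BGV Cfsg.Agent.Helper1.BGW Cfsg.Agent.Helper1.BGX Cfsg.Agent.Lead.BG12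
  Cfsg.Agent.Lead.BG108 Cfsg.Agent.Helper4.BG10 Cfsg.Agent.Helper4.BG12
open scoped commutatorElement Pointwise

universe u

variable {G : Type u} [Group G] [Finite G]

theorem isNilpotent_of_isMulCommutative {A : Subgroup G} (h : IsMulCommutative ↥A) :
    Group.IsNilpotent ↥A := by
  letI : CommGroup ↥A := { (inferInstance : Group ↥A) with mul_comm := h.is_comm.comm }
  infer_instance

/-- If `M' ≤ M_F D₁` with `D₁ ≤ M` nilpotent, then the image of `M'` in `M / M_F` is nilpotent. -/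
theorem isNilpotent_map_of_le {M D₁ : Subgroup G} (hD₁M : D₁ ≤ M)
    (hnil : Group.IsNilpotent ↥D₁) (h : ⁅M, M⁆ ≤ Cfsg.fittingHallOf M ⊔ D₁) :
    Group.IsNilpotent ↥((commutator ↥M).map (QuotientGroup.mk' (Cfsg.fittingHall ↥M))) := by
  set q := QuotientGroup.mk' (Cfsg.fittingHall ↥M) with hq
  set D' := D₁.subgroupOf M with hD'
  have hD'nil : Group.IsNilpotent ↥D' :=
    Group.nilpotent_of_mulEquiv (Subgroup.subgroupOfEquivOfLe hD₁M).symm
  have hmapnil : Group.IsNilpotent ↥(D'.map q) :=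
    Group.nilpotent_of_surjective (q.subgroupMap D') (MonoidHom.subgroupMap_surjective q D')
  have hle : (commutator ↥M).map q ≤ D'.map q := by
    rintro _ ⟨x, hx, rfl⟩
    have hxG : (x : G) ∈ ⁅M, M⁆ := by
      rw [← Subgroup.map_subtype_commutator]
      exact ⟨x, hx, rfl⟩
    have hDF : D₁ ≤ Subgroup.normalizer (Cfsg.fittingHallOf M : Set G) :=
      hD₁M.trans (CNMax.le_normalizer_fittingHallOf M)
    obtain ⟨f, hf, d, hd, hfd⟩ := mem_sup_of_le_normalizer hDF (h hxG)
    obtain ⟨f', hf', rfl⟩ := hf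
    have hx' : x = f' * ⟨d, hD₁M hd⟩ := Subtype.ext hfd
    refine ⟨⟨d, hD₁M hd⟩, Subgroup.mem_subgroupOf.mpr hd, ?_⟩
    rw [hx', map_mul]
    have : q f' = 1 := by
      rw [hq, QuotientGroup.mk'_apply, QuotientGroup.eq_one_iff]
      exact hf'
    rw [this, one_mul]
  exact CNFrob.nilp_of_le hle hmapnil

variable {M K U : Subgroup G}

/-- **BG Theorem 15.2(a)** for `M` with a standard factorisation. -/
theorem thm152a (hG : Cfsg.IsMinSimpleOddOrder G) (hM : IsCoatom M)
    (hKU : Cfsg.IsSigmaDecomposition M K U)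
    (h1364 : K ≠ ⊥ → IsCyclic ↥(Cfsg.sigmaCore M ⊓ Subgroup.centralizer (K : Set G)) ∧
      (Cfsg.sigmaCore M ⊓ Subgroup.centralizer (K : Set G)) ≠ ⊥ ∧
      (Cfsg.sigmaCore M ⊓ Subgroup.centralizer (K : Set G)) ≤ Cfsg.fittingHallOf M ∧
      ¬ IsCyclic (Cfsg.fittingHallOf M)) :
    Cfsg.fittingHallOf M ≠ ⊥ ∧ Cfsg.fittingHallOf M ≤ Cfsg.sigmaCore M ∧
      Cfsg.sigmaCore M ≤ ⁅M, M⁆ ∧ ⁅M, M⁆ < M ∧
      Group.IsNilpotent ↥((commutator ↥M).map (QuotientGroup.mk' (Cfsg.fittingHall ↥M))) := by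
  refine ⟨?_, fittingHallOf_le_sigmaCore hG hM, sigmaCore_le_commutator hG hM,
    commutator_lt_self hG hM, ?_⟩
  · by_cases hU : U = ⊥
    · have hK1 := decomp_K_ne_bot hG hM hKU hU
      obtain ⟨-, h1, h2, -⟩ := h1364 hK1
      intro h0
      exact h1 (le_bot_iff.mp (h0 ▸ h2))
    · rw [fittingHallOf_eq_sigmaCore hG hM (isNilpotent_sigmaCore_of_U_ne_bot hG hM hKU hU)]
      exact sigmaCore_ne_bot hG hM
  · by_cases hU : U = ⊥
    · have hK1 := decomp_K_ne_bot hG hM hKU hU
      obtain ⟨D, hDS, hKD, hFD, hFsupD, hcopFD, hDnil, -⟩ := p1_structure hG hM hKU hU (h1364 hK1)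
      apply isNilpotent_map_of_le (hDS.trans sigmaCore_le) hDnil
      rw [hFsupD]
      have hMeq := decomp_eq_of_U_eq_bot hKU hU
      have h1 : ⁅M, M⁆ ≤ Cfsg.sigmaCore M ⊔ ⁅K, K⁆ :=
        commutator_le_sup_commutator_of_le_normalizer sigmaCore_le (decomp_K_le hKU)
          (le_normalizer_sigmaCore M) (by rw [sup_comm]; exact hMeq.le)
      have h2 : ⁅K, K⁆ = ⊥ := by
        haveI := hKU.cyclic
        rw [Subgroup.commutator_eq_bot_iff_le_centralizer]
        intro a ha b hb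
        letI : CommGroup ↥K := IsCyclic.commGroup
        have := mul_comm (⟨a, ha⟩ : ↥K) ⟨b, hb⟩
        exact (congrArg Subtype.val this).symm
      rwa [h2, sup_bot_eq] at h1
    · have hnil := isNilpotent_sigmaCore_of_U_ne_bot hG hM hKU hU
      obtain ⟨E, hE, -⟩ := exists_compl_sigmaCore_ge hG hM (U := ⊥) bot_le (by
        intro t ht hd
        rw [Subgroup.card_bot] at hd
        exact absurd (Nat.dvd_one.mp hd) ht.one_lt.ne')
      have hEab := (Cfsg.Agent.S1420.result hG M hM E hE).2.1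
      have hEM : E ≤ M := hE.1
      apply isNilpotent_map_of_le ((Cfsg.Agent.Helper1.commutator_self_le E).trans hEM)
        (isNilpotent_of_isMulCommutative hEab)
      rw [fittingHallOf_eq_sigmaCore hG hM hnil]
      apply commutator_le_sup_commutator_of_le_normalizer sigmaCore_le hEM
        (le_normalizer_sigmaCore M)
      intro m hm
      obtain ⟨a, ha, b, hb, rfl⟩ := hE.2.2.2 m hm
      -- m = a * b with a ∈ E, b ∈ M_σ
      have hab : a * b = (a * b * a⁻¹) * a := by group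
      rw [hab]
      refine Subgroup.mul_mem _ (Subgroup.mem_sup_left ?_) (Subgroup.mem_sup_right ha)
      exact (Subgroup.mem_normalizer_iff.mp (le_normalizer_sigmaCore M (hEM ha)) b).mp hb

end Cfsg.Agent.Helper4.BG15
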