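import Mathlib
import Cfsg.Prelude
import Cfsg.Agent.Helper4.BG15E
import Cfsg.Agent.S1352
import Cfsg.Agent.S1439

set_option autoImplicit false
set_option linter.unusedSectionVars false
set_option linter.unusedVariables false

/-!
Bender–Glauberman Theorem 15.2(b) (`S1356`) for a maximal subgroup with a standard factorisation.
-/

namespace Cfsg.Agent.Helper4.BG15

open Cfsg Cfsg.Agent.Helper1 Cfsg.Agent.Helper2 Cfsg.Agent.Helper1.BGT Cfsg.Agent.Helper1.BGU
  Cfsg.Agent.Helper1.BGV Cfsg.Agent.Helper1.BGW Cfsg.Agent.Helper1.BGX Cfsg.Agent.Lead.BG12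
  Cfsg.Agent.Lead.BG108 Cfsg.Agent.Helper4.BG10 Cfsg.Agent.Helper4.BG12
open scoped commutatorElement Pointwise

universe u

variable {G : Type u} [Group G] [Finite G]

theorem isCyclic_of_le' {A R : Subgroup G} (hR : IsCyclic ↥R) (h : A ≤ R) : IsCyclic ↥A := by
  haveI := hR
  have h1 : IsCyclic ↥(A.subgroupOf R) := inferInstance
  exact isCyclic_of_surjective (Subgroup.subgroupOfEquivOfLe h).toMonoidHom
    (Subgroup.subgroupOfEquivOfLe h).surjective

/-- conjugation by an element of the normalizer of `F` preserves centralizing `F` -/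
theorem conj_mem_centralizer_of_mem_normalizer {F : Subgroup G} {m x : G}
    (hm : m ∈ Subgroup.normalizer (F : Set G)) (hx : x ∈ Subgroup.centralizer (F : Set G)) :
    m * x * m⁻¹ ∈ Subgroup.centralizer (F : Set G) := by
  rw [Subgroup.mem_centralizer_iff] at hx ⊢
  intro y hy
  have h1 : m⁻¹ * y * m ∈ F := by
    have := (Subgroup.mem_normalizer_iff.mp (Subgroup.inv_mem _ hm) y).mp hy
    rwa [inv_inv] at this
  have h2 := hx _ h1
  calc y * (m * x * m⁻¹) = m * ((m⁻¹ * y * m) * x) * m⁻¹ := by group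
    _ = m * (x * (m⁻¹ * y * m)) * m⁻¹ := by rw [h2]
    _ = m * x * m⁻¹ * y := by group

variable {M K U : Subgroup G}

/-- **Step 1.** No prime of `κ(M)` divides `|C_M(M_F)|` (when `K ≠ 1`). -/
theorem kappa_not_dvd_card_centralizer (hG : Cfsg.IsMinSimpleOddOrder G) (hM : IsCoatom M)
    (hKU : Cfsg.IsSigmaDecomposition M K U) (hK1 : K ≠ ⊥)
    (hKsc : IsCyclic ↥(Cfsg.sigmaCore M ⊓ Subgroup.centralizer (K : Set G)))
    (hFnc : ¬ IsCyclic (Cfsg.fittingHallOf M)) {r : ℕ} (hr : r.Prime) (hrκ : r ∈ Cfsg.kappa M) :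
    ¬ r ∣ Nat.card ↥(M ⊓ Subgroup.centralizer (Cfsg.fittingHallOf M : Set G)) := by
  intro hd
  haveI : Fact r.Prime := ⟨hr⟩
  have hκ := Cfsg.Agent.Helper1.BGT3reg.kappa_subset_tau1_of_cyclic hG hM hKU.cyclic hKU.hall
  have hpr := (Cfsg.Agent.Helper4.BG14.s1430_regular hG M hM K hKU.hall hK1 hκ).1
  obtain ⟨x, hx⟩ := exists_prime_orderOf_dvd_card' (G := ↥(M ⊓ Subgroup.centralizer
    (Cfsg.fittingHallOf M : Set G))) r hd
  have hxo : orderOf (x : G) = r := by rw [Subgroup.orderOf_coe]; exact hx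
  have hxM : (x : G) ∈ M := x.2.1
  have hxC : (x : G) ∈ Subgroup.centralizer (Cfsg.fittingHallOf M : Set G) := x.2.2
  have hT : IsPGroup r ↥(Subgroup.zpowers (x : G)) := by
    apply IsPGroup.of_card (n := 1)
    rw [Nat.card_zpowers, hxo, pow_one]
  obtain ⟨A, -, hAK, hAr, hAcard⟩ :=
    Cfsg.Agent.Lead.exists_le_card_eq_ppart (p := r) (H := K) (U := ⊥) IsPGroup.of_bot bot_le
  have hKM : K ≤ M := decomp_K_le hKU
  have hfac : (Nat.card K).factorization r = (Nat.card M).factorization r := by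
    have h1 := relIndex_mul_card_of_le hKM
    have h2 : ¬ r ∣ K.relIndex M := hKU.hall.2.2 r hr hrκ
    rw [← h1, Nat.factorization_mul (fun h => by simp [h] at h2) Nat.card_pos.ne',
      Finsupp.add_apply, Nat.factorization_eq_zero_of_not_dvd h2, zero_add]
  rw [hfac] at hAcard
  obtain ⟨m, hm, hmT⟩ := Cfsg.Agent.Lead.exists_conj_le_of_card_eq_ppart (hAK.trans hKM) hAcard
    (Subgroup.zpowers_le.mpr hxM) hT
  have hkK : m * (x : G) * m⁻¹ ∈ K := hAK (hmT ⟨x, Subgroup.mem_zpowers _, rfl⟩)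
  have hk1 : m * (x : G) * m⁻¹ ≠ 1 := by
    intro h
    have : (x : G) = 1 := by
      have := congrArg (fun z => m⁻¹ * z * m) h
      simpa [mul_assoc] using this
    rw [this, orderOf_one] at hxo
    exact hr.one_lt.ne hxo
  have hkC : m * (x : G) * m⁻¹ ∈ Subgroup.centralizer (Cfsg.fittingHallOf M : Set G) :=
    conj_mem_centralizer_of_mem_normalizer (CNMax.le_normalizer_fittingHallOf M hm) hxC
  have hFle : Cfsg.fittingHallOf M ≤
      Cfsg.sigmaCore M ⊓ Subgroup.centralizer ({m * (x : G) * m⁻¹} : Set G) := by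
    refine le_inf (fittingHallOf_le_sigmaCore hG hM) ?_
    intro y hy
    rw [Subgroup.mem_centralizer_iff]
    intro z hz
    rw [Set.mem_singleton_iff] at hz
    rw [hz]
    exact ((Subgroup.mem_centralizer_iff.mp hkC) y hy).symm
  rw [hpr _ hkK hk1] at hFle
  exact hFnc (isCyclic_of_le' hKsc hFle)

/-- **N2.**  A subgroup `C ≤ M` centralizing `M_F` and contained in `M_F D₁` with `D₁ ≤ M`
nilpotent is nilpotent. -/
theorem isNilpotent_of_le_sup {M C D₁ : Subgroup G} (hCM : C ≤ M)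
    (hCF : C ≤ Subgroup.centralizer (Cfsg.fittingHallOf M : Set G)) (hD₁M : D₁ ≤ M)
    (hnil : Group.IsNilpotent ↥D₁) (h : C ≤ Cfsg.fittingHallOf M ⊔ D₁) :
    Group.IsNilpotent ↥C := by
  set q := QuotientGroup.mk' (Cfsg.fittingHall ↥M) with hq
  set D' := D₁.subgroupOf M with hD'
  set C' := C.subgroupOf M with hC'
  have hD'nil : Group.IsNilpotent ↥D' :=
    Group.nilpotent_of_mulEquiv (Subgroup.subgroupOfEquivOfLe hD₁M).symm
  have hmapnil : Group.IsNilpotent ↥(D'.map q) :=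
    Group.nilpotent_of_surjective (q.subgroupMap D') (MonoidHom.subgroupMap_surjective q D')
  set f : ↥C' →* ↥M ⧸ Cfsg.fittingHall ↥M := q.comp C'.subtype with hf
  have hrange : f.range ≤ D'.map q := by
    rintro _ ⟨x, rfl⟩
    have hxC : ((x : ↥M) : G) ∈ C := Subgroup.mem_subgroupOf.mp x.2
    have hDF : D₁ ≤ Subgroup.normalizer (Cfsg.fittingHallOf M : Set G) :=
      hD₁M.trans (CNMax.le_normalizer_fittingHallOf M)
    obtain ⟨a, ha, d, hd, hfd⟩ := mem_sup_of_le_normalizer hDF (h hxC)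
    obtain ⟨a', ha', rfl⟩ := ha
    have hx' : (x : ↥M) = a' * ⟨d, hD₁M hd⟩ := Subtype.ext hfd
    refine ⟨⟨d, hD₁M hd⟩, Subgroup.mem_subgroupOf.mpr hd, ?_⟩
    change q ⟨d, hD₁M hd⟩ = q (x : ↥M)
    rw [hx', map_mul]
    have : q a' = 1 := by
      rw [hq, QuotientGroup.mk'_apply, QuotientGroup.eq_one_iff]
      exact ha'
    rw [this, one_mul]
  have hrnil : Group.IsNilpotent ↥f.range := CNFrob.nilp_of_le hrange hmapnil
  have hker : f.rangeRestrict.ker ≤ Subgroup.center ↥C' := by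
    intro x hx
    rw [MonoidHom.mem_ker] at hx
    have hx1 : f x = 1 := by
      have := congrArg Subtype.val hx
      simpa using this
    have hxF : (x : ↥M) ∈ Cfsg.fittingHall ↥M := by
      rw [hf, MonoidHom.comp_apply, hq, QuotientGroup.mk'_apply, QuotientGroup.eq_one_iff] at hx1
      exact hx1
    have hxF' : ((x : ↥M) : G) ∈ Cfsg.fittingHallOf M := ⟨_, hxF, rfl⟩
    rw [Subgroup.mem_center_iff]
    intro y
    have hyC : ((y : ↥M) : G) ∈ C := Subgroup.mem_subgroupOf.mp y.2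
    have := (Subgroup.mem_centralizer_iff.mp (hCF hyC)) _ hxF'
    apply Subtype.ext
    apply Subtype.ext
    simp only [Subgroup.coe_mul]
    exact this.symm
  have hC'nil : Group.IsNilpotent ↥C' := by
    haveI := hrnil
    exact Subgroup.isNilpotent_of_ker_le_center f.rangeRestrict hker
  exact Group.nilpotent_of_mulEquiv (Subgroup.subgroupOfEquivOfLe hCM)

/-- a subgroup of `L` of order coprime to `|L : H|` (with `H ⊴ L`) lies in `H` -/
theorem le_of_coprime_card_relIndex {H L C : Subgroup G}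
    (hLN : L ≤ Subgroup.normalizer (H : Set G)) (hCL : C ≤ L)
    (hcop : (Nat.card C).Coprime (H.relIndex L)) : C ≤ H := by
  intro y hy
  apply Cfsg.Agent.Lead.BG12.mem_of_pow_eq_one_of_coprime_relIndex hLN hcop (hCL hy)
  have h1 : (⟨y, hy⟩ : ↥C) ^ Nat.card C = 1 := pow_card_eq_one'
  have h2 := congrArg Subtype.val h1
  rw [Subgroup.coe_pow, Subgroup.coe_one] at h2
  exact h2

/-- `N.relIndex C ∣ N.relIndex M` for `C ≤ M ≤ N_G(N)`. -/
theorem relIndex_dvd_relIndex_of_le {N C M : Subgroup G} (hCM : C ≤ M)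
    (hMN : M ≤ Subgroup.normalizer (N : Set G)) : N.relIndex C ∣ N.relIndex M := by
  haveI hn : (N.subgroupOf M).Normal := Subgroup.normal_subgroupOf_of_le_normalizer hMN
  have h1 := Subgroup.relIndex_dvd_index_of_normal (N.subgroupOf M) (C.subgroupOf M)
  rwa [Subgroup.relIndex_subgroupOf hCM] at h1

/-- **Step 1'.** No prime of `κ(M)` divides `|C_M(M_F)|`. -/
theorem kappa_not_dvd_card_centralizer' (hG : Cfsg.IsMinSimpleOddOrder G) (hM : IsCoatom M)
    (hKU : Cfsg.IsSigmaDecomposition M K U)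
    (h1364 : K ≠ ⊥ → IsCyclic ↥(Cfsg.sigmaCore M ⊓ Subgroup.centralizer (K : Set G)) ∧
      (Cfsg.sigmaCore M ⊓ Subgroup.centralizer (K : Set G)) ≠ ⊥ ∧
      (Cfsg.sigmaCore M ⊓ Subgroup.centralizer (K : Set G)) ≤ Cfsg.fittingHallOf M ∧
      ¬ IsCyclic (Cfsg.fittingHallOf M)) {r : ℕ} (hr : r.Prime) (hrκ : r ∈ Cfsg.kappa M) :
    ¬ r ∣ Nat.card ↥(M ⊓ Subgroup.centralizer (Cfsg.fittingHallOf M : Set G)) := by
  by_cases hK1 : K = ⊥
  · intro hd
    have h1 : ¬ r ∣ K.relIndex M := hKU.hall.2.2 r hr hrκ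
    apply h1
    rw [hK1, Subgroup.relIndex_bot_left]
    exact hd.trans (Subgroup.card_dvd_of_le inf_le_left)
  · obtain ⟨h1, -, -, h4⟩ := h1364 hK1
    exact kappa_not_dvd_card_centralizer hG hM hKU hK1 h1 h4 hr hrκ

theorem coprime_card_centralizer_card_K (hG : Cfsg.IsMinSimpleOddOrder G) (hM : IsCoatom M)
    (hKU : Cfsg.IsSigmaDecomposition M K U)
    (h1364 : K ≠ ⊥ → IsCyclic ↥(Cfsg.sigmaCore M ⊓ Subgroup.centralizer (K : Set G)) ∧
      (Cfsg.sigmaCore M ⊓ Subgroup.centralizer (K : Set G)) ≠ ⊥ ∧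
      (Cfsg.sigmaCore M ⊓ Subgroup.centralizer (K : Set G)) ≤ Cfsg.fittingHallOf M ∧
      ¬ IsCyclic (Cfsg.fittingHallOf M)) :
    (Nat.card ↥(M ⊓ Subgroup.centralizer (Cfsg.fittingHallOf M : Set G))).Coprime (Nat.card K) := by
  apply Nat.coprime_of_dvd
  intro p hp h1 h2
  exact kappa_not_dvd_card_centralizer' hG hM hKU h1364 hp (hKU.hall.2.1 p hp h2) h1

end Cfsg.Agent.Helper4.BG15
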