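import Mathlib
import Cfsg.Prelude
import Cfsg.Agent.Helper4.BG15F
import Cfsg.Agent.Helper1.SplitResidual

set_option autoImplicit false
set_option linter.unusedSectionVars false
set_option linter.unusedVariables false

/-!
Bender–Glauberman Theorem 15.2(b): `C_M(M_F)` is nilpotent.
-/

namespace Cfsg.Agent.Helper4.BG15

open Cfsg Cfsg.Agent.Helper1 Cfsg.Agent.Helper2 Cfsg.Agent.Helper1.BGT Cfsg.Agent.Helper1.BGU
  Cfsg.Agent.Helper1.BGV Cfsg.Agent.Helper1.BGW Cfsg.Agent.Helper1.BGX Cfsg.Agent.Lead.BG12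
  Cfsg.Agent.Lead.BG108 Cfsg.Agent.Helper4.BG10 Cfsg.Agent.Helper4.BG12
open scoped commutatorElement Pointwise

universe u

variable {G : Type u} [Group G] [Finite G]

variable {M K U : Subgroup G}

/-- `(M_σ).relIndex M = |U| * |K|` -/
theorem decomp_relIndex_sigmaCore (hKU : Cfsg.IsSigmaDecomposition M K U) :
    (Cfsg.sigmaCore M).relIndex M = Nat.card U * Nat.card K := by
  have h1 := relIndex_mul_card_of_le (sigmaCore_le (M := M))
  have h2 := decomp_card hKU
  apply Nat.eq_of_mul_eq_mul_right (Nat.card_pos (α := ↥(Cfsg.sigmaCore M)))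
  rw [h1, ← h2]; ring

/-- a subgroup of `M` of order coprime to `|K| |M_σ|` is `M`-conjugate into `U` -/
theorem exists_conj_le_U (hG : Cfsg.IsMinSimpleOddOrder G) (hM : IsCoatom M)
    (hKU : Cfsg.IsSigmaDecomposition M K U) {B : Subgroup G} (hBM : B ≤ M)
    (hcop : (Nat.card B).Coprime (Nat.card K * Nat.card (Cfsg.sigmaCore M))) :
    ∃ g ∈ M, MulAut.conj g • B ≤ U := by
  haveI hsolvM : Group.IsSolvable ↥M := hG.2.2.2 M hM.1
  have hd : Cfsg.Agent.Helper3.PiDecomp {p | p ∣ Nat.card U} (Nat.card M) (Nat.card U)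
      (Nat.card K * Nat.card (Cfsg.sigmaCore M)) := by
    refine ⟨(decomp_card hKU).symm, fun p hp h => h, ?_⟩
    intro p hp h hpU
    obtain ⟨h1, h2⟩ := decomp_U_primes hG hM hKU hp hpU
    rcases (Nat.Prime.dvd_mul hp).mp h with h | h
    · exact h2 (hKU.hall.2.1 p hp h)
    · exact h1 (Cfsg.Agent.Lead.BG12.mem_sigma_of_dvd_card_sigmaCore hp h)
  obtain ⟨hC, hD⟩ := Cfsg.Agent.Helper3.hall_internal M hsolvM hd
  obtain ⟨H, hHM, hHcard, hBH⟩ := hD B hBM hcop
  obtain ⟨g, hg, hgH⟩ := hC H U hHM (decomp_U_le hKU) hHcard rfl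
  refine ⟨g, hg, ?_⟩
  rw [← hgH]
  exact Cfsg.Agent.Helper1.conj_smul_mono hBH g

/-- **Theorem 15.2(b), the key step.**  `C_M(M_F)` is nilpotent. -/
theorem isNilpotent_centralizer_fittingHallOf (hG : Cfsg.IsMinSimpleOddOrder G) (hM : IsCoatom M)
    (hKU : Cfsg.IsSigmaDecomposition M K U)
    (h1364 : K ≠ ⊥ → IsCyclic ↥(Cfsg.sigmaCore M ⊓ Subgroup.centralizer (K : Set G)) ∧
      (Cfsg.sigmaCore M ⊓ Subgroup.centralizer (K : Set G)) ≠ ⊥ ∧
      (Cfsg.sigmaCore M ⊓ Subgroup.centralizer (K : Set G)) ≤ Cfsg.fittingHallOf M ∧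
      ¬ IsCyclic (Cfsg.fittingHallOf M))
    (h1359 : IsMulCommutative ↥(Subgroup.closure ((U : Set G) ∩ Cfsg.sigmaHat M))) :
    Group.IsNilpotent ↥(M ⊓ Subgroup.centralizer (Cfsg.fittingHallOf M : Set G)) := by
  set C := M ⊓ Subgroup.centralizer (Cfsg.fittingHallOf M : Set G) with hC
  have hCM : C ≤ M := inf_le_left
  have hCF : C ≤ Subgroup.centralizer (Cfsg.fittingHallOf M : Set G) := inf_le_right
  have hcopK := coprime_card_centralizer_card_K hG hM hKU h1364
  by_cases hU : U = ⊥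
  · have hK1 := decomp_K_ne_bot hG hM hKU hU
    obtain ⟨D, hDσ, hKD, hFD, hFDsup, hcopFD, hDnil, -, -, -⟩ :=
      p1_structure hG hM hKU hU (h1364 hK1)
    have hCσ : C ≤ Cfsg.sigmaCore M := by
      apply le_of_coprime_card_relIndex (le_normalizer_sigmaCore M) hCM
      rw [decomp_relIndex_sigmaCore hKU, hU, Subgroup.card_bot, one_mul]
      exact hcopK
    exact isNilpotent_of_le_sup hCM hCF (hDσ.trans sigmaCore_le) hDnil (hFDsup ▸ hCσ)
  · have hσnil := isNilpotent_sigmaCore_of_U_ne_bot hG hM hKU hU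
    have hFσ : Cfsg.fittingHallOf M = Cfsg.sigmaCore M := fittingHallOf_eq_sigmaCore hG hM hσnil
    have hσhall := (Cfsg.Agent.Lead.BG12.sigmaCore_hall hG M hM).1
    have hσcop : (Nat.card (Cfsg.sigmaCore M)).Coprime ((Cfsg.sigmaCore M).relIndex M) :=
      (Cfsg.Agent.Helper3.BG142.coprime_of_isPiHallOf hσhall).symm
    set N := C ⊓ Cfsg.sigmaCore M with hN
    have hNC : N ≤ C := inf_le_left
    have hCN : C ≤ Subgroup.normalizer (N : Set G) := by
      intro c hc
      rw [Subgroup.mem_normalizer_iff]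
      intro y
      constructor
      · rintro ⟨h1, h2⟩
        exact ⟨C.mul_mem (C.mul_mem hc h1) (C.inv_mem hc),
          (Subgroup.mem_normalizer_iff.mp (le_normalizer_sigmaCore M (hCM hc)) y).mp h2⟩
      · rintro ⟨h1, h2⟩
        refine ⟨?_, (Subgroup.mem_normalizer_iff.mp (le_normalizer_sigmaCore M (hCM hc)) y).mpr h2⟩
        have h3 := C.mul_mem (C.mul_mem (C.inv_mem hc) h1) hc
        have h4 : c⁻¹ * (c * y * c⁻¹) * c = y := by group
        rw [h4] at h3
        exact h3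
    have hrel : N.relIndex C ∣ (Cfsg.sigmaCore M).relIndex M := by
      rw [hN, Subgroup.inf_relIndex_left]
      exact relIndex_dvd_relIndex_of_le hCM (le_normalizer_sigmaCore M)
    have hcopN : (Nat.card N).Coprime (N.relIndex C) :=
      Nat.Coprime.coprime_dvd_left (Subgroup.card_dvd_of_le inf_le_right)
        (Nat.Coprime.coprime_dvd_right hrel hσcop)
    obtain ⟨B, hBC, hBN, hNB, hBcard⟩ :=
      Cfsg.Agent.Helper1.exists_complement_internal' C N hNC hCN hcopN
    have hBM : B ≤ M := hBC.trans hCM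
    have hBcop : (Nat.card B).Coprime (Nat.card K * Nat.card (Cfsg.sigmaCore M)) := by
      apply Nat.Coprime.mul_right
      · exact Nat.Coprime.coprime_dvd_left (Subgroup.card_dvd_of_le hBC) hcopK
      · rw [hBcard]
        exact (Nat.Coprime.coprime_dvd_right hrel hσcop).symm
    obtain ⟨g, hg, hgB⟩ := exists_conj_le_U hG hM hKU hBM hBcop
    have hσ1 := sigmaCore_ne_bot hG hM
    obtain ⟨y, hy1⟩ := (Subgroup.ne_bot_iff_exists_ne_one).mp hσ1
    have hyσ : (y : G) ∈ Cfsg.sigmaCore M := y.2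
    have hgBle : MulAut.conj g • B ≤ Subgroup.closure ((U : Set G) ∩ Cfsg.sigmaHat M) := by
      intro z hz
      apply Subgroup.subset_closure
      refine ⟨hgB hz, ?_⟩
      obtain ⟨b, hb, rfl⟩ := hz
      have hbC : b ∈ C := hBC hb
      have hzM : g * b * g⁻¹ ∈ M := M.mul_mem (M.mul_mem hg (hCM hbC)) (M.inv_mem hg)
      have hzF : g * b * g⁻¹ ∈ Subgroup.centralizer (Cfsg.fittingHallOf M : Set G) :=
        conj_mem_centralizer_of_mem_normalizer (CNMax.le_normalizer_fittingHallOf M hg) (hCF hbC)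
      refine ⟨hzM, (y : G), hyσ, ?_, ?_⟩
      · intro h
        apply hy1
        exact Subtype.ext h
      · have hyF : (y : G) ∈ Cfsg.fittingHallOf M := by rw [hFσ]; exact hyσ
        have := (Subgroup.mem_centralizer_iff.mp hzF) (y : G) hyF
        exact this.symm
    have hBcomm : ∀ a ∈ B, ∀ b ∈ B, a * b = b * a := by
      intro a ha b hb
      have h1 : g * a * g⁻¹ ∈ Subgroup.closure ((U : Set G) ∩ Cfsg.sigmaHat M) :=
        hgBle ⟨a, ha, rfl⟩
      have h2 : g * b * g⁻¹ ∈ Subgroup.closure ((U : Set G) ∩ Cfsg.sigmaHat M) :=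
        hgBle ⟨b, hb, rfl⟩
      have h3 := h1359.is_comm.comm ⟨_, h1⟩ ⟨_, h2⟩
      have h4 := congrArg Subtype.val h3
      simp only [Subgroup.coe_mul] at h4
      have h5 : g * (a * b) * g⁻¹ = g * (b * a) * g⁻¹ := by
        calc g * (a * b) * g⁻¹ = (g * a * g⁻¹) * (g * b * g⁻¹) := by group
          _ = (g * b * g⁻¹) * (g * a * g⁻¹) := h4
          _ = g * (b * a) * g⁻¹ := by group
      exact mul_left_cancel (mul_right_cancel h5)
    have hBnil : Group.IsNilpotent ↥B := by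
      apply isNilpotent_of_isMulCommutative
      exact ⟨⟨fun a b => Subtype.ext (hBcomm a a.2 b b.2)⟩⟩
    apply isNilpotent_of_le_sup hCM hCF hBM hBnil
    rw [hFσ, ← hNB]
    exact sup_le_sup_right inf_le_right B

end Cfsg.Agent.Helper4.BG15
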