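import Mathlib
import Cfsg.Prelude
import Cfsg.Agent.Helper4.BG15G
import Cfsg.Agent.S1365
import Cfsg.Agent.Helper4.PiParts

set_option autoImplicit false
set_option linter.unusedSectionVars false
set_option linter.unusedVariables false

/-!
Bender–Glauberman Theorem 15.2(b) (`S1356`) for a maximal subgroup with a standard factorisation.
-/

namespace Cfsg.Agent.Helper4.BG15

open Cfsg Cfsg.Agent.Helper1 Cfsg.Agent.Helper2 Cfsg.Agent.Helper1.BGT Cfsg.Agent.Helper1.BGU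
  Cfsg.Agent.Helper1.BGV Cfsg.Agent.Helper1.BGW Cfsg.Agent.Helper1.BGX Cfsg.Agent.Lead.BG12
  Cfsg.Agent.Lead.BG108 Cfsg.Agent.Helper4.BG10 Cfsg.Agent.Helper4.BG12
open scoped commutatorElement Pointwise

universe u

variable {G : Type u} [Group G] [Finite G]

variable {M K U : Subgroup G}

/-- `M ⊓ C(M_F)` is normalized by `M` -/
theorem le_normalizer_inf_centralizer_fittingHallOf (M : Subgroup G) :
    M ≤ Subgroup.normalizer
      ((M ⊓ Subgroup.centralizer (Cfsg.fittingHallOf M : Set G) : Subgroup G) : Set G) := by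
  intro m hm
  rw [Subgroup.mem_normalizer_iff]
  intro y
  constructor
  · rintro ⟨h1, h2⟩
    exact ⟨M.mul_mem (M.mul_mem hm h1) (M.inv_mem hm),
      conj_mem_centralizer_of_mem_normalizer (CNMax.le_normalizer_fittingHallOf M hm) h2⟩
  · rintro ⟨h1, h2⟩
    have h3 := M.mul_mem (M.mul_mem (M.inv_mem hm) h1) hm
    have h4 : m⁻¹ * (m * y * m⁻¹) * m = y := by group
    have h5 := conj_mem_centralizer_of_mem_normalizer
      (CNMax.le_normalizer_fittingHallOf M (M.inv_mem hm)) h2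
    rw [inv_inv, h4] at h5
    rw [h4] at h3
    exact ⟨h3, h5⟩

/-- `F(M) ≤ C_M(M_F) M_F` (always). -/
theorem fittingOf_le_sup (M : Subgroup G) :
    Cfsg.fittingOf M ≤
      (M ⊓ Subgroup.centralizer (Cfsg.fittingHallOf M : Set G)) ⊔ Cfsg.fittingHallOf M := by
  intro x hx
  have hFnil : Group.IsNilpotent ↥(Cfsg.fittingOf M) := fittingOf_isNilpotent M
  have hFM : Cfsg.fittingOf M ≤ M := fittingOf_le M
  have hMFF : Cfsg.fittingHallOf M ≤ Cfsg.fittingOf M :=
    Cfsg.Agent.Lead.BG127.le_fittingOf_of_normal_nilpotent (Cfsg.Agent.Helper1.fittingHallOf_le M)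
      (CNMax.le_normalizer_fittingHallOf M) (CNMax.fittingHallOf_isNilpotent M)
  obtain ⟨a, b, ha, hb, hapi, hbpi, hab⟩ :=
    Cfsg.Agent.Helper4.PiParts.exists_decomp {p | p ∣ Nat.card (Cfsg.fittingHallOf M)} x
  have hzF : Subgroup.zpowers x ≤ Cfsg.fittingOf M := Subgroup.zpowers_le.mpr hx
  have haF := hzF ha
  have hbF := hzF hb
  have hcomm : a * b = b * a := by
    obtain ⟨i, hi⟩ := Subgroup.mem_zpowers_iff.mp ha
    obtain ⟨j, hj⟩ := Subgroup.mem_zpowers_iff.mp hb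
    rw [← hi, ← hj, ← zpow_add, ← zpow_add, add_comm]
  rw [← hab, hcomm]
  have haMF : a ∈ Cfsg.fittingHallOf M := by
    apply mem_fittingHallOf_of_pow (hFM haF) (n := orderOf a) _ (pow_orderOf_eq_one a)
    apply Nat.coprime_of_dvd
    intro q hq h1 h2
    have h3 : q ∣ Nat.card (Cfsg.fittingHallOf M) := hapi q hq h1
    have h4 := fittingHallOf_coprime M
    exact hq.one_lt.ne' (Nat.eq_one_of_dvd_coprimes h4 h3 h2)
  have hbC : b ∈ Subgroup.centralizer (Cfsg.fittingHallOf M : Set G) := by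
    rw [Subgroup.mem_centralizer_iff]
    intro y hy
    have hyF : y ∈ Cfsg.fittingOf M := hMFF hy
    apply commute_of_coprime_orderOf_of_mem hFnil hyF hbF
    apply Nat.coprime_of_dvd
    intro q hq h1 h2
    apply hbpi q hq h2
    exact h1.trans (Subgroup.orderOf_dvd_natCard _ hy)
  exact Subgroup.mul_mem _ (Subgroup.mem_sup_left ⟨hFM hbF, hbC⟩) (Subgroup.mem_sup_right haMF)

theorem decomp_U_inf_sigmaCore (hKU : Cfsg.IsSigmaDecomposition M K U) :
    U ⊓ Cfsg.sigmaCore M = ⊥ := by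
  have h := hKU.compl.2.2.1
  exact le_bot_iff.mp (h ▸ inf_le_inf_left U le_sup_right)

/-- `|M : U M_σ| = |K|` -/
theorem decomp_relIndex_U_sup (hKU : Cfsg.IsSigmaDecomposition M K U) :
    (U ⊔ Cfsg.sigmaCore M).relIndex M = Nat.card K := by
  have hle : U ⊔ Cfsg.sigmaCore M ≤ M := sup_le (decomp_U_le hKU) sigmaCore_le
  have h1 := relIndex_mul_card_of_le hle
  have h2 : Nat.card (U ⊔ Cfsg.sigmaCore M : Subgroup G) =
      Nat.card U * Nat.card (Cfsg.sigmaCore M) := by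
    rw [sup_comm]
    exact card_sup_of_le_normalizer ((decomp_U_le hKU).trans (le_normalizer_sigmaCore M))
      (decomp_U_inf_sigmaCore hKU)
  have h3 := decomp_card hKU
  have hpos : 0 < Nat.card U * Nat.card (Cfsg.sigmaCore M) := Nat.mul_pos Nat.card_pos Nat.card_pos
  apply Nat.eq_of_mul_eq_mul_right hpos
  rw [← h2, h1, h2, ← h3]; ring

theorem decomp_K_ne_bot_of_kappa (hKU : Cfsg.IsSigmaDecomposition M K U)
    (hκ : (Cfsg.kappa M).Nonempty) : K ≠ ⊥ := by
  obtain ⟨r, hr⟩ := hκ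
  intro hK
  have h1 : ¬ r ∣ K.relIndex M := hKU.hall.2.2 r hr.1 hr
  apply h1
  rw [hK, Subgroup.relIndex_bot_left]
  exact hr.2.1

/-- **BG Theorem 15.2(b)** for `M` with a standard factorisation. -/
theorem thm152b (hG : Cfsg.IsMinSimpleOddOrder G) (hM : IsCoatom M)
    (hKU : Cfsg.IsSigmaDecomposition M K U)
    (h1364 : K ≠ ⊥ → IsCyclic ↥(Cfsg.sigmaCore M ⊓ Subgroup.centralizer (K : Set G)) ∧
      (Cfsg.sigmaCore M ⊓ Subgroup.centralizer (K : Set G)) ≠ ⊥ ∧
      (Cfsg.sigmaCore M ⊓ Subgroup.centralizer (K : Set G)) ≤ Cfsg.fittingHallOf M ∧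
      ¬ IsCyclic (Cfsg.fittingHallOf M))
    (h1359 : IsMulCommutative ↥(Subgroup.closure ((U : Set G) ∩ Cfsg.sigmaHat M))) :
    ⁅⁅M, M⁆, ⁅M, M⁆⁆ ≤ Cfsg.fittingOf M ∧
      Cfsg.fittingOf M =
        (M ⊓ Subgroup.centralizer (Cfsg.fittingHallOf M : Set G)) ⊔ Cfsg.fittingHallOf M ∧
      ((Cfsg.kappa M).Nonempty → Cfsg.fittingOf M ≤ ⁅M, M⁆) := by
  set C := M ⊓ Subgroup.centralizer (Cfsg.fittingHallOf M : Set G) with hC
  have hCnil := isNilpotent_centralizer_fittingHallOf hG hM hKU h1364 h1359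
  have hCF : C ≤ Cfsg.fittingOf M :=
    Cfsg.Agent.Lead.BG127.le_fittingOf_of_normal_nilpotent inf_le_left
      (le_normalizer_inf_centralizer_fittingHallOf M) hCnil
  have hMFF : Cfsg.fittingHallOf M ≤ Cfsg.fittingOf M :=
    Cfsg.Agent.Lead.BG127.le_fittingOf_of_normal_nilpotent (Cfsg.Agent.Helper1.fittingHallOf_le M)
      (CNMax.le_normalizer_fittingHallOf M) (CNMax.fittingHallOf_isNilpotent M)
  have hFeq : Cfsg.fittingOf M = C ⊔ Cfsg.fittingHallOf M :=
    le_antisymm (fittingOf_le_sup M) (sup_le hCF hMFF)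
  refine ⟨?_, hFeq, ?_⟩
  · by_cases hU : U = ⊥
    · have hK1 := decomp_K_ne_bot hG hM hKU hU
      obtain ⟨D, hDS, hKD, hFD, hFsupD, hcopFD, hDnil, -, hDD, -⟩ :=
        p1_structure hG hM hKU hU (h1364 hK1)
      have hMeq := decomp_eq_of_U_eq_bot hKU hU
      have h1 : ⁅M, M⁆ ≤ Cfsg.sigmaCore M ⊔ ⁅K, K⁆ :=
        commutator_le_sup_commutator_of_le_normalizer sigmaCore_le (decomp_K_le hKU)
          (le_normalizer_sigmaCore M) (by rw [sup_comm]; exact hMeq.le)
      have h2 : ⁅K, K⁆ = ⊥ := by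
        haveI := hKU.cyclic
        rw [Subgroup.commutator_eq_bot_iff_le_centralizer]
        intro a ha b hb
        letI : CommGroup ↥K := IsCyclic.commGroup
        have := mul_comm (⟨a, ha⟩ : ↥K) ⟨b, hb⟩
        exact (congrArg Subtype.val this).symm
      rw [h2, sup_bot_eq] at h1
      have h3 : ⁅⁅M, M⁆, ⁅M, M⁆⁆ ≤ ⁅Cfsg.sigmaCore M, Cfsg.sigmaCore M⁆ :=
        Subgroup.commutator_mono h1 h1
      have hFS : Cfsg.fittingHallOf M ≤ Cfsg.sigmaCore M := fittingHallOf_le_sigmaCore hG hM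
      have h4 : ⁅Cfsg.sigmaCore M, Cfsg.sigmaCore M⁆ ≤ Cfsg.fittingHallOf M ⊔ ⁅D, D⁆ :=
        commutator_le_sup_commutator_of_le_normalizer hFS hDS
          (sigmaCore_le.trans (CNMax.le_normalizer_fittingHallOf M)) hFsupD.ge
      refine h3.trans (h4.trans (sup_le hMFF ?_))
      refine le_trans ?_ hCF
      exact le_inf (((Cfsg.Agent.Helper1.commutator_self_le D).trans hDS).trans sigmaCore_le) hDD
    · have hnil := isNilpotent_sigmaCore_of_U_ne_bot hG hM hKU hU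
      obtain ⟨E, hE, -⟩ := exists_compl_sigmaCore_ge hG hM (U := ⊥) bot_le (by
        intro t ht hd
        rw [Subgroup.card_bot] at hd
        exact absurd (Nat.dvd_one.mp hd) ht.one_lt.ne')
      have hEab := (Cfsg.Agent.S1420.result hG M hM E hE).2.1
      have hEM : E ≤ M := hE.1
      have hE'M : ⁅E, E⁆ ≤ M := (Cfsg.Agent.Helper1.commutator_self_le E).trans hEM
      have h1 : ⁅M, M⁆ ≤ Cfsg.sigmaCore M ⊔ ⁅E, E⁆ := by
        apply commutator_le_sup_commutator_of_le_normalizer sigmaCore_le hEM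
          (le_normalizer_sigmaCore M)
        intro m hm
        obtain ⟨a, ha, b, hb, rfl⟩ := hE.2.2.2 m hm
        have hab : a * b = (a * b * a⁻¹) * a := by group
        rw [hab]
        refine Subgroup.mul_mem _ (Subgroup.mem_sup_left ?_) (Subgroup.mem_sup_right ha)
        exact (Subgroup.mem_normalizer_iff.mp (le_normalizer_sigmaCore M (hEM ha)) b).mp hb
      have h2 : ⁅⁅M, M⁆, ⁅M, M⁆⁆ ≤
          ⁅Cfsg.sigmaCore M ⊔ ⁅E, E⁆, Cfsg.sigmaCore M ⊔ ⁅E, E⁆⁆ := Subgroup.commutator_mono h1 h1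
      have h3 : ⁅Cfsg.sigmaCore M ⊔ ⁅E, E⁆, Cfsg.sigmaCore M ⊔ ⁅E, E⁆⁆ ≤
          Cfsg.sigmaCore M ⊔ ⁅⁅E, E⁆, ⁅E, E⁆⁆ :=
        commutator_le_sup_commutator_of_le_normalizer le_sup_left le_sup_right
          ((sup_le sigmaCore_le hE'M).trans (le_normalizer_sigmaCore M)) le_rfl
      have h4 : ⁅⁅E, E⁆, ⁅E, E⁆⁆ = ⊥ := by
        rw [Subgroup.commutator_eq_bot_iff_le_centralizer]
        intro a ha b hb
        have := hEab.is_comm.comm (⟨a, ha⟩ : ↥⁅E, E⁆) ⟨b, hb⟩
        exact (congrArg Subtype.val this).symm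
      rw [h4, sup_bot_eq] at h3
      refine h2.trans (h3.trans ?_)
      rw [← fittingHallOf_eq_sigmaCore hG hM hnil]
      exact hMFF
  · intro hκ
    have hK1 := decomp_K_ne_bot_of_kappa hKU hκ
    have h1 := (Cfsg.Agent.S1365.result hG M hM K U hKU hK1).1
    have h2 := (Cfsg.Agent.S1352.result hG M hM K hKU.cyclic hKU.hall).2 U hKU
    rw [hFeq, h1]
    refine sup_le ?_ ((fittingHallOf_le_sigmaCore hG hM).trans le_sup_right)
    apply le_of_coprime_card_relIndex h2 inf_le_left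
    rw [decomp_relIndex_U_sup hKU]
    exact coprime_card_centralizer_card_K hG hM hKU h1364

end Cfsg.Agent.Helper4.BG15
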