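import Mathlib
import Cfsg.Prelude
import Cfsg.Agent.Helper4.BG15H
import Cfsg.Agent.Helper4.BG13d
import Cfsg.Agent.Helper4.BG10b
import Cfsg.Agent.Helper2.BG144a
import Cfsg.Agent.S1414

set_option autoImplicit false
set_option linter.unusedSectionVars false
set_option linter.unusedVariables false

/-!
Bender–Glauberman Theorem 15.2(c) (`S1357`).
-/

namespace Cfsg.Agent.Helper4.BG15

open Cfsg Cfsg.Agent.Helper1 Cfsg.Agent.Helper2 Cfsg.Agent.Helper1.BGT Cfsg.Agent.Helper1.BGU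
  Cfsg.Agent.Helper1.BGV Cfsg.Agent.Helper1.BGW Cfsg.Agent.Helper1.BGX Cfsg.Agent.Lead.BG12
  Cfsg.Agent.Lead.BG108 Cfsg.Agent.Helper4.BG10 Cfsg.Agent.Helper4.BG12
open scoped commutatorElement Pointwise

universe u

variable {G : Type u} [Group G] [Finite G]

variable {M K U : Subgroup G}

theorem fittingHallOf_le_fittingOf (M : Subgroup G) : Cfsg.fittingHallOf M ≤ Cfsg.fittingOf M :=
  Cfsg.Agent.Lead.BG127.le_fittingOf_of_normal_nilpotent (Cfsg.Agent.Helper1.fittingHallOf_le M)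
    (CNMax.le_normalizer_fittingHallOf M) (CNMax.fittingHallOf_isNilpotent M)

/-- a `q`-subgroup of `M` with `q ∣ |M_F|` lies in `M_F` -/
theorem le_fittingHallOf_of_isPGroup {q : ℕ} [hq : Fact q.Prime] {Q : Subgroup G} (hQM : Q ≤ M)
    (hQq : IsPGroup q ↥Q) (hqF : q ∣ Nat.card (Cfsg.fittingHallOf M)) :
    Q ≤ Cfsg.fittingHallOf M := by
  intro g hg
  obtain ⟨j, hj⟩ := hQq ⟨g, hg⟩
  have hj' : g ^ q ^ j = 1 := by
    have := congrArg Subtype.val hj
    simpa using this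
  apply mem_fittingHallOf_of_pow (hQM hg) _ hj'
  apply Nat.Coprime.pow_left
  rw [Nat.Prime.coprime_iff_not_dvd hq.out]
  intro h2
  have h4 := fittingHallOf_coprime M
  exact hq.out.one_lt.ne' (Nat.eq_one_of_dvd_coprimes h4 hqF h2)

/-- some prime divisor of `|M_F|` lies in `β(M)` when a subgroup `D ≤ M_σ` of order coprime to
`|M_F|` does not centralize `M_F`. -/
theorem exists_beta_prime (hG : Cfsg.IsMinSimpleOddOrder G) (hM : IsCoatom M) {D : Subgroup G}
    (hDσ : D ≤ Cfsg.sigmaCore M)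
    (hcop : (Nat.card (Cfsg.fittingHallOf M)).Coprime (Nat.card D))
    (hDC : ¬ D ≤ Subgroup.centralizer (Cfsg.fittingHallOf M : Set G)) :
    ∃ q : ℕ, q.Prime ∧ q ∣ Nat.card (Cfsg.fittingHallOf M) ∧ q ∈ Cfsg.beta M := by
  by_contra hcon
  push Not at hcon
  apply hDC
  intro d hd
  rw [Subgroup.mem_centralizer_iff]
  intro y hy
  have hyc : y ∈ Subgroup.centralizer ({d} : Set G) := by
    apply mem_of_forall_primePow_mem
    intro z hz hzpp
    obtain ⟨q, k, hq', hk, hqk⟩ := hzpp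
    have hq : q.Prime := Nat.prime_iff.mpr hq'
    haveI : Fact q.Prime := ⟨hq⟩
    have hzF : z ∈ Cfsg.fittingHallOf M := (Subgroup.zpowers_le.mpr hy) hz
    have hqz : q ∣ orderOf z := by rw [← hqk]; exact dvd_pow_self q hk.ne'
    have hqF : q ∣ Nat.card (Cfsg.fittingHallOf M) := hqz.trans (Subgroup.orderOf_dvd_natCard _ hzF)
    have hqβ : q ∉ Cfsg.beta M := hcon q hq hqF
    have hqσ : q ∈ Cfsg.sigma M := mem_sigma_of_dvd_card_fittingHallOf hG hM hq hqF
    have hqM : q ∣ Nat.card M := hqσ.2.1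
    have hnpc := ((Cfsg.Agent.S1414.result hG M hM).2.2.2.2 q hq hqM hqβ).2.1
    have hZq : IsPGroup q ↥(Subgroup.zpowers z) := by
      apply IsPGroup.of_card (n := k)
      rw [Nat.card_zpowers, hqk]
    have hZS : Subgroup.zpowers z ≤ pcoreOf q M :=
      le_pCoreOf_of_le_fittingOf hZq (Subgroup.zpowers_le.mpr (fittingHallOf_le_fittingOf M hzF))
    have hSσ : pcoreOf q M ≤ Cfsg.sigmaCore M :=
      Cfsg.Agent.Lead.BG12.le_sigmaCore' hG hM hqσ (pCoreOf_le q M) (pCoreOf_isPGroup q M)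
    have hdq : (orderOf d).Coprime q := by
      have h1 : (Nat.card D).Coprime q := (Nat.Coprime.coprime_dvd_left hqF hcop).symm
      exact Nat.Coprime.coprime_dvd_left (Subgroup.orderOf_dvd_natCard _ hd) h1
    have hdN : d ∈ Subgroup.normalizer ((pcoreOf q M : Subgroup G) : Set G) :=
      le_normalizer_pCoreOf q M (sigmaCore_le (hDσ hd))
    have := Cfsg.Agent.Helper4.BG13.commute_of_hasNormalPComplement hnpc hSσ
      (pCoreOf_isPGroup q M) (hDσ hd) hdq hdN z (hZS (Subgroup.mem_zpowers z))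
    rw [Subgroup.mem_centralizer_singleton_iff]
    exact this.symm
  rw [Subgroup.mem_centralizer_singleton_iff] at hyc
  exact hyc

/-- if some prime `q ∈ β(M)` divides `|M_F|`, then `C_G(x) ≤ M` for every `x ∈ F(M)` of prime
order. -/
theorem centralizer_le_of_mem_fittingOf (hG : Cfsg.IsMinSimpleOddOrder G) (hM : IsCoatom M)
    {q : ℕ} (hq : q.Prime) (hqF : q ∣ Nat.card (Cfsg.fittingHallOf M)) (hqβ : q ∈ Cfsg.beta M)
    {x : G} (hx : x ∈ Cfsg.fittingOf M) {r : ℕ} (hr : r.Prime) (hxr : orderOf x = r) :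
    Subgroup.centralizer ({x} : Set G) ≤ M := by
  haveI : Fact q.Prime := ⟨hq⟩
  have hx1 : x ≠ 1 := by
    intro h
    rw [h, orderOf_one] at hxr
    exact hr.one_lt.ne hxr
  have hxM : x ∈ M := fittingOf_le M hx
  by_cases hrβ : r ∈ Cfsg.beta M
  · have h1 : Subgroup.normalizer ((Subgroup.zpowers x : Subgroup G) : Set G) ≤ M := by
      apply normalizer_le_of_beta_subgroup hG hM (Subgroup.zpowers_le.mpr hxM)
      · intro h
        exact hx1 (Subgroup.zpowers_eq_bot.mp h)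
      · intro p hp hpd
        rw [Nat.card_zpowers, hxr] at hpd
        rw [(Nat.prime_dvd_prime_iff_eq hp hr).mp hpd]
        exact hrβ
    refine le_trans ?_ h1
    intro c hc
    rw [Subgroup.mem_centralizer_singleton_iff] at hc
    rw [Subgroup.mem_normalizer_iff]
    intro y
    have hcy : ∀ y ∈ Subgroup.zpowers x, c * y * c⁻¹ = y := by
      intro y hy
      obtain ⟨i, rfl⟩ := Subgroup.mem_zpowers_iff.mp hy
      have : Commute c (x ^ i) := (Commute.zpow_right hc i)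
      rw [this.eq, mul_inv_cancel_right]
    constructor
    · intro hy
      rw [hcy y hy]; exact hy
    · intro hy
      have h2 := hcy _ hy
      have h3 : c * (c * y * c⁻¹) * c⁻¹ = c * y * c⁻¹ := h2
      have h4 : c * y * c⁻¹ = y := mul_left_cancel (mul_right_cancel h3)
      rw [← h4]; exact hy
  · have hrq : r ≠ q := fun h => hrβ (h ▸ hqβ)
    have hqα : q ∈ Cfsg.alpha M := hqβ.1
    have hqσ := alpha_subset_sigma hG hM hqα
    obtain ⟨Q, -, hQM, -⟩ := exists_sylow_ge_of_mem_sigma hG hM hqσ (Y := ⊥) bot_le IsPGroup.of_bot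
    have hQ3 := not_pRankLE_sylow_of_mem_alpha hqα Q
    have hQea : HasEA q 2 (Q : Subgroup G) := hasEA_of_not_pRankLE hQ3
    have hQtop : (Q : Subgroup G) ≠ ⊤ := sylow_ne_top hG q _ Q.2
    have hQU : Cfsg.InUniqueMaximal (Q : Subgroup G) :=
      thm96 hG _ hQtop (not_rankLE_of_hasEA hq (hasEA_weaken hQea (by norm_num)))
        (Or.inl (not_rankLE_of_hasEA hq hQea))
    have hQF : (Q : Subgroup G) ≤ Cfsg.fittingOf M :=
      (le_fittingHallOf_of_isPGroup hQM Q.2 hqF).trans (fittingHallOf_le_fittingOf M)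
    have hFnil : Group.IsNilpotent ↥(Cfsg.fittingOf M) := fittingOf_isNilpotent M
    have hQC : (Q : Subgroup G) ≤ Subgroup.centralizer ({x} : Set G) := by
      intro g hg
      rw [Subgroup.mem_centralizer_singleton_iff]
      apply commute_of_coprime_orderOf_of_mem hFnil (hQF hg) hx
      rw [hxr]
      obtain ⟨j, hj⟩ := (IsPGroup.iff_orderOf.mp Q.2) ⟨g, hg⟩
      rw [Subgroup.orderOf_mk] at hj
      rw [hj]
      apply Nat.Coprime.pow_left
      rw [Nat.coprime_primes hq hr]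
      exact fun h => hrq h.symm
    obtain ⟨L, hL, hCL⟩ := exists_coatom_ge (centralizer_singleton_ne_top hG hx1)
    have hLM : L = M := hQU.unique ⟨hL, hQC.trans hCL⟩ ⟨hM, hQM⟩
    exact hLM ▸ hCL

/-- **BG Theorem 15.2(c)** for `M` with a standard factorisation. -/
theorem thm152c (hG : Cfsg.IsMinSimpleOddOrder G) (hM : IsCoatom M)
    (hKU : Cfsg.IsSigmaDecomposition M K U)
    (h1364 : K ≠ ⊥ → IsCyclic ↥(Cfsg.sigmaCore M ⊓ Subgroup.centralizer (K : Set G)) ∧
      (Cfsg.sigmaCore M ⊓ Subgroup.centralizer (K : Set G)) ≠ ⊥ ∧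
      (Cfsg.sigmaCore M ⊓ Subgroup.centralizer (K : Set G)) ≤ Cfsg.fittingHallOf M ∧
      ¬ IsCyclic (Cfsg.fittingHallOf M))
    (hne : Cfsg.fittingHallOf M ≠ Cfsg.sigmaCore M) :
    U = ⊥ ∧ Cfsg.IsTISubset (Cfsg.fittingOf M : Set G) ∧ (Nat.card K).Prime := by
  have hU : U = ⊥ := by
    by_contra hU
    exact hne (fittingHallOf_eq_sigmaCore hG hM (isNilpotent_sigmaCore_of_U_ne_bot hG hM hKU hU))
  have hK1 := decomp_K_ne_bot hG hM hKU hU
  obtain ⟨D, hDσ, hKD, hFD, hFDsup, hcopFD, hDnil, hfpf, hDD, hD1⟩ :=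
    p1_structure hG hM hKU hU (h1364 hK1)
  have hDne : D ≠ ⊥ := by
    intro h
    rw [h, sup_bot_eq] at hFDsup
    exact hne hFDsup
  obtain ⟨hKprime, hDC⟩ := hD1 hDne
  refine ⟨hU, ?_, hKprime⟩
  obtain ⟨q, hq, hqF, hqβ⟩ := exists_beta_prime hG hM hDσ hcopFD hDC
  have h1359 : IsMulCommutative ↥(Subgroup.closure ((U : Set G) ∩ Cfsg.sigmaHat M)) := by
    have h0 : Subgroup.closure ((U : Set G) ∩ Cfsg.sigmaHat M) = ⊥ := by
      rw [Subgroup.closure_eq_bot_iff]
      rintro y ⟨hy, -⟩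
      rw [hU] at hy
      exact hy
    constructor
    constructor
    intro a b
    have ha : (a : G) = 1 := Subgroup.mem_bot.mp (h0.le a.2)
    have hb : (b : G) = 1 := Subgroup.mem_bot.mp (h0.le b.2)
    apply Subtype.ext
    rw [Subgroup.coe_mul, Subgroup.coe_mul, ha, hb]
  have hκne : (Cfsg.kappa M).Nonempty := by
    have hcard : Nat.card K ≠ 1 := fun h => hK1 (Subgroup.card_eq_one.mp h)
    obtain ⟨p, hp, hpd⟩ := Nat.exists_prime_and_dvd hcard
    exact ⟨p, hKU.hall.2.1 p hp hpd⟩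
  have hFle : Cfsg.fittingOf M ≤ Cfsg.sigmaCore M := by
    have h1 := (thm152b hG hM hKU h1364 h1359).2.2 hκne
    have h2 := (Cfsg.Agent.S1365.result hG M hM K U hKU hK1).1
    rw [h2, hU, bot_sup_eq] at h1
    exact h1
  intro g hg x hx hgx
  by_contra hx1
  obtain ⟨r, hr, hord⟩ := Cfsg.Agent.Helper4.BG14.exists_prime_order_pow hx1
  set x' := x ^ (orderOf x / r) with hx'
  have hx'F : x' ∈ Cfsg.fittingOf M := Subgroup.pow_mem _ hx _
  have hgx' : g * x' * g⁻¹ ∈ Cfsg.fittingOf M := by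
    have h1 : g * x' * g⁻¹ = (g * x * g⁻¹) ^ (orderOf x / r) := by rw [conj_pow]
    rw [h1]; exact Subgroup.pow_mem _ hgx _
  have hx'1 : x' ≠ 1 := by
    intro h
    rw [h, orderOf_one] at hord
    exact hr.one_lt.ne hord
  obtain ⟨m, hm, hmeq⟩ := Cfsg.Agent.Helper2.BG144.fusion_control hG hM (hFle hx'F) hx'1
    (fittingOf_le M hgx')
  have hC := centralizer_le_of_mem_fittingOf hG hM hq hqF hqβ hx'F hr hord
  have hmg : m⁻¹ * g ∈ Subgroup.centralizer ({x'} : Set G) := by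
    rw [Subgroup.mem_centralizer_singleton_iff]
    have h1 : m⁻¹ * (g * x' * g⁻¹) * m = x' := by rw [hmeq]; group
    calc m⁻¹ * g * x' = (m⁻¹ * (g * x' * g⁻¹) * m) * (m⁻¹ * g) := by group
      _ = x' * (m⁻¹ * g) := by rw [h1]
  have hgM : g ∈ M := by
    have h1 := M.mul_mem hm (hC hmg)
    rwa [mul_inv_cancel_left] at h1
  exact hg (le_normalizer_fittingOf M hgM)

end Cfsg.Agent.Helper4.BG15
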