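import Mathlib
import Cfsg.Prelude
import Cfsg.Agent.Helper4.BG15I
import Cfsg.Agent.Helper4.BG147I
import Cfsg.Agent.S1432
import Cfsg.Agent.S1417

set_option autoImplicit false
set_option linter.unusedSectionVars false
set_option linter.unusedVariables false

/-!
Bender–Glauberman Corollary 15.3(a) (`S1438`, first part).
-/

namespace Cfsg.Agent.Helper4.BG15

open Cfsg Cfsg.Agent.Helper1 Cfsg.Agent.Helper2 Cfsg.Agent.Helper1.BGT Cfsg.Agent.Helper1.BGU
  Cfsg.Agent.Helper1.BGV Cfsg.Agent.Helper1.BGW Cfsg.Agent.Helper1.BGX Cfsg.Agent.Lead.BG12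
  Cfsg.Agent.Lead.BG108 Cfsg.Agent.Helper4.BG10 Cfsg.Agent.Helper4.BG12
open scoped commutatorElement Pointwise

universe u

variable {G : Type u} [Group G] [Finite G]

variable {M K U : Subgroup G}

/-- A complement in `C ≤ M` of `C ∩ M_σ`. -/
theorem exists_compl_inf_sigmaCore (hG : Cfsg.IsMinSimpleOddOrder G) (hM : IsCoatom M)
    {C : Subgroup G} (hCM : C ≤ M) :
    ∃ B : Subgroup G, B ≤ C ∧ B ⊓ (C ⊓ Cfsg.sigmaCore M) = ⊥ ∧ (C ⊓ Cfsg.sigmaCore M) ⊔ B = C ∧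
      (Nat.card B).Coprime (Nat.card (Cfsg.sigmaCore M)) := by
  have hσhall := (Cfsg.Agent.Lead.BG12.sigmaCore_hall hG M hM).1
  have hσcop : (Nat.card (Cfsg.sigmaCore M)).Coprime ((Cfsg.sigmaCore M).relIndex M) :=
    (Cfsg.Agent.Helper3.BG142.coprime_of_isPiHallOf hσhall).symm
  set N := C ⊓ Cfsg.sigmaCore M with hN
  have hNC : N ≤ C := inf_le_left
  have hCN : C ≤ Subgroup.normalizer (N : Set G) := by
    intro c hc
    rw [Subgroup.mem_normalizer_iff]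
    intro y
    constructor
    · rintro ⟨h1, h2⟩
      exact ⟨C.mul_mem (C.mul_mem hc h1) (C.inv_mem hc),
        (Subgroup.mem_normalizer_iff.mp (le_normalizer_sigmaCore M (hCM hc)) y).mp h2⟩
    · rintro ⟨h1, h2⟩
      refine ⟨?_, (Subgroup.mem_normalizer_iff.mp (le_normalizer_sigmaCore M (hCM hc)) y).mpr h2⟩
      have h3 := C.mul_mem (C.mul_mem (C.inv_mem hc) h1) hc
      have h4 : c⁻¹ * (c * y * c⁻¹) * c = y := by group
      rw [h4] at h3
      exact h3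
  have hrel : N.relIndex C ∣ (Cfsg.sigmaCore M).relIndex M := by
    rw [hN, Subgroup.inf_relIndex_left]
    exact relIndex_dvd_relIndex_of_le hCM (le_normalizer_sigmaCore M)
  have hcopN : (Nat.card N).Coprime (N.relIndex C) :=
    Nat.Coprime.coprime_dvd_left (Subgroup.card_dvd_of_le inf_le_right)
      (Nat.Coprime.coprime_dvd_right hrel hσcop)
  obtain ⟨B, hBC, hBN, hNB, hBcard⟩ :=
    Cfsg.Agent.Helper1.exists_complement_internal' C N hNC hCN hcopN
  refine ⟨B, hBC, hBN, hNB, ?_⟩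
  rw [hBcard]
  exact (Nat.Coprime.coprime_dvd_right hrel hσcop).symm

/-- A nontrivial Hall subgroup of `M_σ` is not contained in `K*`. -/
theorem hall_not_le_kstar (hG : Cfsg.IsMinSimpleOddOrder G) (hM : IsCoatom M)
    (hK : Cfsg.IsPiHallOf (Cfsg.kappa M) K M) (hK1 : K ≠ ⊥) {H : Subgroup G}
    (hH : H ≤ Cfsg.sigmaCore M) (hH1 : H ≠ ⊥)
    (hHall : (Nat.card H).Coprime (H.relIndex (Cfsg.sigmaCore M))) :
    ¬ H ≤ Cfsg.sigmaCore M ⊓ Subgroup.centralizer (K : Set G) := by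
  intro hle
  have hcard : Nat.card H ≠ 1 := fun h => hH1 (Subgroup.card_eq_one.mp h)
  obtain ⟨p, hp, hpd⟩ := Nat.exists_prime_and_dvd hcard
  haveI : Fact p.Prime := ⟨hp⟩
  have hHπ : Cfsg.IsPiHallOf {q | q ∣ Nat.card H} H (Cfsg.sigmaCore M) := by
    refine ⟨hH, fun q hq h => h, fun q hq hqH hqi => ?_⟩
    exact hq.one_lt.ne' (Nat.eq_one_of_dvd_coprimes hHall hqH hqi)
  obtain ⟨S, hS⟩ := Cfsg.Agent.Helper4.BG147H.exists_sylow_map_le_of_hall hHπ
    (show p ∈ {q | q ∣ Nat.card H} from hpd)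
  have h31 := (Cfsg.Agent.Lead.BG14II.s1431 hG M hM K hK hK1).2.2.1
  have hpK : p ∣ Nat.card ↥(Cfsg.sigmaCore M ⊓ Subgroup.centralizer (K : Set G)) :=
    hpd.trans (Subgroup.card_dvd_of_le hle)
  exact (h31 p hp hpK S).2.2 (hS.trans hle)

/-- an element of prime order `r ∈ κ(M)` of `M` does not centralize a nontrivial Hall subgroup of
`M_σ` -/
theorem not_commute_hall_of_kappa (hG : Cfsg.IsMinSimpleOddOrder G) (hM : IsCoatom M)
    {H : Subgroup G} (hH : H ≤ Cfsg.sigmaCore M) (hH1 : H ≠ ⊥)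
    (hHall : (Nat.card H).Coprime (H.relIndex (Cfsg.sigmaCore M))) {x : G} (hxM : x ∈ M)
    {r : ℕ} (hr : r.Prime) (hrκ : r ∈ Cfsg.kappa M) (hxr : orderOf x = r)
    (hxH : x ∈ Subgroup.centralizer (H : Set G)) : False := by
  haveI hsolvM : Group.IsSolvable ↥M := hG.2.2.2 M hM.1
  have hx1 : x ≠ 1 := by
    intro h
    rw [h, orderOf_one] at hxr
    exact hr.one_lt.ne hxr
  obtain ⟨m, n, hd⟩ := Cfsg.Agent.Helper3.exists_piDecomp (Cfsg.kappa M) (Nat.card M)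
    Nat.card_pos.ne'
  have hcop : (Nat.card (Subgroup.zpowers x)).Coprime n := by
    rw [Nat.card_zpowers, hxr, Nat.Prime.coprime_iff_not_dvd hr]
    intro h
    exact hd.right r hr h hrκ
  obtain ⟨K', hK'M, hK'card, hxK'⟩ := (Cfsg.Agent.Helper3.hall_internal M hsolvM hd).2
    (Subgroup.zpowers x) (Subgroup.zpowers_le.mpr hxM) hcop
  have hK' : Cfsg.IsPiHallOf (Cfsg.kappa M) K' M :=
    (Cfsg.Agent.Helper3.isPiHallOf_iff_card hd).2 ⟨hK'M, hK'card⟩
  have hxK : x ∈ K' := hxK' (Subgroup.mem_zpowers x)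
  have hK'1 : K' ≠ ⊥ := by
    intro h
    rw [h, Subgroup.mem_bot] at hxK
    exact hx1 hxK
  have hpa := (Cfsg.Agent.Lead.BG14II.s1430 hG M hM K' hK' hK'1).1 x hxK hx1
  apply hall_not_le_kstar hG hM hK' hK'1 hH hH1 hHall
  rw [← hpa]
  refine le_inf hH ?_
  intro y hy
  rw [Subgroup.mem_centralizer_singleton_iff]
  exact Subgroup.mem_centralizer_iff.mp hxH y hy

/-- a `(σ ∪ κ)'`-subgroup of `M` centralizing a non-identity element of `M_σ` is abelian -/
theorem commute_of_centralizes_sigma (hG : Cfsg.IsMinSimpleOddOrder G) (hM : IsCoatom M)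
    (hKU : Cfsg.IsSigmaDecomposition M K U)
    (h1359 : IsMulCommutative ↥(Subgroup.closure ((U : Set G) ∩ Cfsg.sigmaHat M)))
    {B : Subgroup G} (hBM : B ≤ M)
    (hBcop : (Nat.card B).Coprime (Nat.card K * Nat.card (Cfsg.sigmaCore M)))
    {y : G} (hy : y ∈ Cfsg.sigmaCore M) (hy1 : y ≠ 1) (hBy : ∀ b ∈ B, b * y = y * b) :
    ∀ a ∈ B, ∀ b ∈ B, a * b = b * a := by
  obtain ⟨g, hg, hgB⟩ := exists_conj_le_U hG hM hKU hBM hBcop
  have hgy : g * y * g⁻¹ ∈ Cfsg.sigmaCore M :=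
    (Subgroup.mem_normalizer_iff.mp (le_normalizer_sigmaCore M hg) y).mp hy
  have hgy1 : g * y * g⁻¹ ≠ 1 := by
    intro h
    apply hy1
    have h2 : g * y * g⁻¹ = g * 1 * g⁻¹ := by rw [h]; group
    exact mul_left_cancel (mul_right_cancel h2)
  have hgBle : MulAut.conj g • B ≤ Subgroup.closure ((U : Set G) ∩ Cfsg.sigmaHat M) := by
    intro z hz
    apply Subgroup.subset_closure
    refine ⟨hgB hz, ?_⟩
    obtain ⟨b, hb, rfl⟩ := hz
    have hzM : g * b * g⁻¹ ∈ M := M.mul_mem (M.mul_mem hg (hBM hb)) (M.inv_mem hg)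
    refine ⟨hzM, g * y * g⁻¹, hgy, hgy1, ?_⟩
    have := hBy b hb
    calc g * b * g⁻¹ * (g * y * g⁻¹) = g * (b * y) * g⁻¹ := by group
      _ = g * (y * b) * g⁻¹ := by rw [this]
      _ = g * y * g⁻¹ * (g * b * g⁻¹) := by group
  intro a ha b hb
  have h1 : g * a * g⁻¹ ∈ Subgroup.closure ((U : Set G) ∩ Cfsg.sigmaHat M) :=
    hgBle ⟨a, ha, rfl⟩
  have h2 : g * b * g⁻¹ ∈ Subgroup.closure ((U : Set G) ∩ Cfsg.sigmaHat M) :=
    hgBle ⟨b, hb, rfl⟩
  have h3 := h1359.is_comm.comm ⟨_, h1⟩ ⟨_, h2⟩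
  have h4 := congrArg Subtype.val h3
  simp only [Subgroup.coe_mul] at h4
  have h5 : g * (a * b) * g⁻¹ = g * (b * a) * g⁻¹ := by
    calc g * (a * b) * g⁻¹ = (g * a * g⁻¹) * (g * b * g⁻¹) := by group
      _ = (g * b * g⁻¹) * (g * a * g⁻¹) := h4
      _ = g * (b * a) * g⁻¹ := by group
  exact mul_left_cancel (mul_right_cancel h5)

/-- **BG Corollary 15.3(a)**. -/
theorem cor153a (hG : Cfsg.IsMinSimpleOddOrder G) (hM : IsCoatom M)
    (hKU : Cfsg.IsSigmaDecomposition M K U)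
    (h1359 : IsMulCommutative ↥(Subgroup.closure ((U : Set G) ∩ Cfsg.sigmaHat M)))
    {H : Subgroup G} (hH : H ≤ Cfsg.sigmaCore M) (hH1 : H ≠ ⊥)
    (hHall : (Nat.card H).Coprime (H.relIndex (Cfsg.sigmaCore M))) :
    ∃ X : Subgroup G, IsCyclic X ∧ (∀ p : ℕ, p.Prime → p ∣ Nat.card X → p ∈ Cfsg.tau2 M) ∧
      M ⊓ Subgroup.centralizer (H : Set G) =
        (Cfsg.sigmaCore M ⊓ Subgroup.centralizer (H : Set G)) ⊔ X := by
  obtain ⟨X, hXC, hXN, hNX, hXcop⟩ := exists_compl_inf_sigmaCore hG hM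
    (C := M ⊓ Subgroup.centralizer (H : Set G)) inf_le_left
  have hXM : X ≤ M := hXC.trans inf_le_left
  have hXH : X ≤ Subgroup.centralizer (H : Set G) := hXC.trans inf_le_right
  have hNeq : (M ⊓ Subgroup.centralizer (H : Set G)) ⊓ Cfsg.sigmaCore M =
      Cfsg.sigmaCore M ⊓ Subgroup.centralizer (H : Set G) := by
    rw [inf_comm, ← inf_assoc, inf_eq_left.mpr (sigmaCore_le (M := M))]
  rw [hNeq] at hNX
  obtain ⟨h, hh1⟩ := (Subgroup.ne_bot_iff_exists_ne_one).mp hH1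
  have hhH : (h : G) ∈ H := h.2
  have hh1' : (h : G) ≠ 1 := fun e => hh1 (Subtype.ext e)
  have hhσ : (h : G) ∈ Cfsg.sigmaCore M := hH hhH
  have hXh : ∀ b ∈ X, b * (h : G) = (h : G) * b := fun b hb =>
    (Subgroup.mem_centralizer_iff.mp (hXH hb) (h : G) hhH).symm
  -- `X` is a `κ'`-group
  have hXκ : ∀ r : ℕ, r.Prime → r ∈ Cfsg.kappa M → ¬ r ∣ Nat.card X := by
    intro r hr hrκ hd
    haveI : Fact r.Prime := ⟨hr⟩
    obtain ⟨x, hx⟩ := exists_prime_orderOf_dvd_card' (G := ↥X) r hd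
    have hxo : orderOf (x : G) = r := by rw [Subgroup.orderOf_coe]; exact hx
    exact not_commute_hall_of_kappa hG hM hH hH1 hHall (hXM x.2) hr hrκ hxo (hXH x.2)
  have hXσ : ∀ r : ℕ, r.Prime → r ∣ Nat.card X → r ∉ Cfsg.sigma M := by
    intro r hr hd hrσ
    have h1 : ¬ r ∣ (Cfsg.sigmaCore M).relIndex M :=
      (Cfsg.Agent.Lead.BG12.sigmaCore_hall hG M hM).1.2.2 r hr hrσ
    have h2 : r ∣ Nat.card (Cfsg.sigmaCore M) := by
      have h3 := relIndex_mul_card_of_le (sigmaCore_le (M := M))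
      have h4 : r ∣ Nat.card M := hrσ.2.1
      rw [← h3] at h4
      exact ((Nat.Prime.dvd_mul hr).mp h4).resolve_left h1
    exact hr.one_lt.ne' (Nat.eq_one_of_dvd_coprimes hXcop hd h2)
  -- primes of `X` lie in `τ₂(M)`
  have hXτ : ∀ p : ℕ, p.Prime → p ∣ Nat.card X → p ∈ Cfsg.tau2 M := by
    intro p hp hd
    haveI : Fact p.Prime := ⟨hp⟩
    obtain ⟨x, hx⟩ := exists_prime_orderOf_dvd_card' (G := ↥X) p hd
    have hxo : orderOf (x : G) = p := by rw [Subgroup.orderOf_coe]; exact hx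
    have hx1 : (x : G) ≠ 1 := by
      intro e
      rw [e, orderOf_one] at hxo
      exact hp.one_lt.ne hxo
    have hxmem : (x : G) ∈ M ⊓ Subgroup.centralizer ({(h : G)} : Set G) :=
      ⟨hXM x.2, Subgroup.mem_centralizer_singleton_iff.mpr (hXh x x.2)⟩
    have hσ' : ∀ q : ℕ, q.Prime → q ∣ orderOf (x : G) → q ∉ Cfsg.sigma M := by
      intro q hq hqd
      rw [hxo] at hqd
      rw [(Nat.prime_dvd_prime_iff_eq hq hp).mp hqd]
      exact hXσ p hp hd
    rcases Cfsg.Agent.S1432.result hG M hM (h : G) hhσ hh1' (x : G) hxmem hx1 hσ' with h1 | h1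
    · exact absurd hd (hXκ p hp (h1.1 p hp (by rw [hxo])))
    · exact h1.1 p hp (by rw [hxo])
  -- `X` is abelian
  have hXcopK : (Nat.card X).Coprime (Nat.card K * Nat.card (Cfsg.sigmaCore M)) := by
    apply Nat.Coprime.mul_right _ hXcop
    apply Nat.coprime_of_dvd
    intro q hq h1 h2
    exact hXκ q hq (hKU.hall.2.1 q hq h2) h1
  have hXcomm := commute_of_centralizes_sigma hG hM hKU h1359 hXM hXcopK hhσ hh1' hXh
  haveI hXnil : Group.IsNilpotent ↥X :=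
    isNilpotent_of_isMulCommutative ⟨⟨fun a b => Subtype.ext (hXcomm a a.2 b b.2)⟩⟩
  -- Sylow subgroups of `X` are cyclic
  haveI hXZ : IsZGroup ↥X := by
    constructor
    intro p hp P
    haveI : Fact p.Prime := ⟨hp⟩
    by_contra hnc
    set P' : Subgroup G := (P : Subgroup ↥X).map X.subtype with hP'
    have hP'X : P' ≤ X := Subgroup.map_subtype_le _
    have hP'p : IsPGroup p ↥P' := P.2.map _
    have hP'nc : ¬ IsCyclic ↥P' := by
      intro hc
      apply hnc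
      have e : ↥(P : Subgroup ↥X) ≃* ↥P' :=
        (P : Subgroup ↥X).equivMapOfInjective X.subtype X.subtype_injective
      exact isCyclic_of_surjective e.symm.toMonoidHom e.symm.surjective
    have hP'1 : P' ≠ ⊥ := ne_bot_of_not_isCyclic hP'nc
    have hp2 : p ≠ 2 := prime_ne_two_of_ne_bot hG hP'p hP'1
    obtain ⟨A, hAP, hAe, hAcard, -⟩ := exists_normal_ea2 hp2 hP'p hP'nc
    have hpX : p ∣ Nat.card X :=
      (dvd_card_of_isPGroup_ne_bot hP'p hP'1).trans (Subgroup.card_dvd_of_le hP'X)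
    have hpτ := hXτ p hp hpX
    have hAX : A ≤ X := hAP.trans hP'X
    have h17 := (Cfsg.Agent.S1417.result hG M hM p hpτ A ⟨hAX.trans hXM, hAe, hAcard⟩).2.2.2.1
    have hmem : (h : G) ∈ Cfsg.sigmaCore M ⊓ Subgroup.centralizer (A : Set G) := by
      refine ⟨hhσ, ?_⟩
      exact Subgroup.mem_centralizer_iff.mpr (fun a ha => hXh a (hAX ha))
    rw [h17, Subgroup.mem_bot] at hmem
    exact hh1' hmem
  refine ⟨X, inferInstance, hXτ, hNX.symm⟩

end Cfsg.Agent.Helper4.BG15
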