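import Mathlib
import Cfsg.Prelude
import Cfsg.Agent.Helper4.BG15J
import Cfsg.Agent.Helper1.HallNilp

set_option autoImplicit false
set_option linter.unusedSectionVars false
set_option linter.unusedVariables false

/-!
Bender–Glauberman Corollary 15.3(b) (`S1438`, second part).
-/

namespace Cfsg.Agent.Helper4.BG15

open Cfsg Cfsg.Agent.Helper1 Cfsg.Agent.Helper2 Cfsg.Agent.Helper1.BGT Cfsg.Agent.Helper1.BGU
  Cfsg.Agent.Helper1.BGV Cfsg.Agent.Helper1.BGW Cfsg.Agent.Helper1.BGX Cfsg.Agent.Lead.BG12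
  Cfsg.Agent.Lead.BG108 Cfsg.Agent.Helper4.BG10 Cfsg.Agent.Helper4.BG12
open scoped commutatorElement Pointwise

universe u

variable {G : Type u} [Group G] [Finite G]

variable {M K U : Subgroup G}

/-- If `M_σ / M_F` is nilpotent, then `M_F H` is `M`-invariant for every Hall subgroup `H` of
`M_σ`: conjugates of elements of `H` by elements of `M` lie in `M_F H`. -/
theorem conj_mem_fittingHallOf_sup (hG : Cfsg.IsMinSimpleOddOrder G) (hM : IsCoatom M)
    (hnil : Group.IsNilpotent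
      ↥((commutator ↥M).map (QuotientGroup.mk' (Cfsg.fittingHall ↥M))))
    {H : Subgroup G} (hH : H ≤ Cfsg.sigmaCore M)
    (hHall : (Nat.card H).Coprime (H.relIndex (Cfsg.sigmaCore M))) {m x : G} (hm : m ∈ M)
    (hx : x ∈ H) : m * x * m⁻¹ ∈ Cfsg.fittingHallOf M ⊔ H := by
  have hσM : Cfsg.sigmaCore M ≤ M := sigmaCore_le
  have hHM : H ≤ M := hH.trans hσM
  set F' := Cfsg.fittingHall ↥M with hF'
  set q := QuotientGroup.mk' F' with hq
  set S' := (Cfsg.sigmaCore M).subgroupOf M with hS'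
  set H' := H.subgroupOf M with hH'
  have hF'S' : F' ≤ S' := by
    intro f hf
    rw [hS', Subgroup.mem_subgroupOf]
    exact fittingHallOf_le_sigmaCore hG hM ⟨f, hf, rfl⟩
  have hS'comm : S' ≤ commutator ↥M := by
    intro s hs
    rw [hS', Subgroup.mem_subgroupOf] at hs
    have h1 : (s : G) ∈ ⁅M, M⁆ := sigmaCore_le_commutator hG hM hs
    rw [← Subgroup.map_subtype_commutator] at h1
    obtain ⟨t, ht, hts⟩ := h1
    have : t = s := Subtype.ext hts
    rw [← this]; exact ht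
  have hH'S' : H' ≤ S' := by
    intro h hh
    rw [hH', Subgroup.mem_subgroupOf] at hh
    rw [hS', Subgroup.mem_subgroupOf]
    exact hH hh
  have hSnil : Group.IsNilpotent ↥(S'.map q) :=
    CNFrob.nilp_of_le (Subgroup.map_mono hS'comm) hnil
  have hHS : H'.map q ≤ S'.map q := Subgroup.map_mono hH'S'
  have hker : q.ker = F' := QuotientGroup.ker_mk' F'
  have hcop : (Nat.card ↥(H'.map q)).Coprime ((H'.map q).relIndex (S'.map q)) := by
    have h1 : Nat.card ↥(H'.map q) ∣ Nat.card H := by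
      have := Subgroup.card_map_dvd (H := H') q
      rwa [hH', card_subgroupOf_of_le hHM] at this
    have h2 : (H'.map q).relIndex (S'.map q) ∣ H.relIndex (Cfsg.sigmaCore M) := by
      rw [Subgroup.relIndex_map_map, hker, sup_eq_left.mpr hF'S']
      have h3 : (H' ⊔ F').relIndex S' ∣ H'.relIndex S' :=
        Subgroup.relIndex_dvd_of_le_left S' le_sup_left
      rwa [hH', hS', Subgroup.relIndex_subgroupOf hσM] at h3
    exact Nat.Coprime.coprime_dvd_left h1 (Nat.Coprime.coprime_dvd_right h2 hHall)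
  have hnorm : S'.map q ≤ Subgroup.normalizer ((H'.map q : Subgroup (↥M ⧸ F')) : Set (↥M ⧸ F')) :=
    le_normalizer_of_hall_nilpotent hSnil hHS hcop
  haveI hS'n : S'.Normal := Subgroup.normal_subgroupOf_of_le_normalizer (le_normalizer_sigmaCore M)
  haveI hSn : (S'.map q).Normal := Subgroup.Normal.map hS'n q (QuotientGroup.mk'_surjective F')
  have key : ∀ m' : ↥M, MulAut.conj (q m') • (H'.map q) ≤ H'.map q := by
    intro m'
    apply le_of_normal_hall_rel hHS hnorm _ hcop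
    · rw [Cfsg.Agent.Helper1.card_conj_smul]
    · intro y hy
      obtain ⟨z, hz, rfl⟩ := hy
      exact hSn.conj_mem z (hHS hz) (q m')
  set m' : ↥M := ⟨m, hm⟩ with hm'
  set x' : ↥M := ⟨x, hHM hx⟩ with hx'
  have hx'H : x' ∈ H' := by rw [hH', Subgroup.mem_subgroupOf]; exact hx
  have h1 : q (m' * x' * m'⁻¹) ∈ H'.map q := by
    apply key m'
    refine ⟨q x', ⟨x', hx'H, rfl⟩, ?_⟩
    simp [MulAut.conj_apply, map_mul, map_inv]
  obtain ⟨h', hh', hq'⟩ := h1
  have h2 : h'⁻¹ * (m' * x' * m'⁻¹) ∈ F' := by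
    rw [← QuotientGroup.eq_one_iff]
    have : ((h'⁻¹ * (m' * x' * m'⁻¹) : ↥M) : ↥M ⧸ F') = (q h')⁻¹ * q (m' * x' * m'⁻¹) := by
      simp [hq]
    rw [this, hq', inv_mul_cancel]
  have h3 : ((h'⁻¹ * (m' * x' * m'⁻¹) : ↥M) : G) ∈ Cfsg.fittingHallOf M := ⟨_, h2, rfl⟩
  have h4 : m * x * m⁻¹ = (h' : G) * ((h'⁻¹ * (m' * x' * m'⁻¹) : ↥M) : G) := by
    simp [hm', hx']
  rw [h4]
  refine Subgroup.mul_mem _ (Subgroup.mem_sup_right ?_) (Subgroup.mem_sup_left h3)
  exact Subgroup.mem_subgroupOf.mp hh'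

omit [Finite G] in
theorem conj_smul_le_of_le_normalizer {F W : Subgroup G} {m : G}
    (hm : m ∈ Subgroup.normalizer (F : Set G)) (hWF : W ≤ F) : MulAut.conj m • W ≤ F := by
  intro z hz
  rw [mem_conj_smul] at hz
  have h1 := (Subgroup.mem_normalizer_iff.mp hm _).mp (hWF hz)
  have h2 : m * (m⁻¹ * z * m) * m⁻¹ = z := by group
  rwa [h2] at h1

/-- Hall subgroups of a nilpotent subgroup `F` normalized by `M` are normalized by `M`. -/
theorem le_normalizer_of_hall_of_nilpotent_normal {F W M : Subgroup G}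
    (hFnil : Group.IsNilpotent ↥F) (hMF : M ≤ Subgroup.normalizer (F : Set G)) (hWF : W ≤ F)
    (hcop : (Nat.card W).Coprime (W.relIndex F)) : M ≤ Subgroup.normalizer (W : Set G) := by
  intro m hm
  have hFW : F ≤ Subgroup.normalizer (W : Set G) := le_normalizer_of_hall_nilpotent hFnil hWF hcop
  have h1 : MulAut.conj m • W ≤ W :=
    le_of_normal_hall_rel hWF hFW (conj_smul_le_of_le_normalizer (hMF hm) hWF) hcop
      (by rw [card_conj_smul])
  apply mem_normalizer_of_conj_smul_eq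
  exact Subgroup.eq_of_le_of_card_ge h1 (by rw [card_conj_smul])

/-- a normal `π`-subgroup of a solvable group `S` lies in every Hall `π`-subgroup `H` of `S` -/
theorem le_hall_of_normal {S H V : Subgroup G} (hsolv : Group.IsSolvable ↥S) (hHS : H ≤ S)
    (hHall : (Nat.card H).Coprime (H.relIndex S)) (hVS : V ≤ S)
    (hSV : S ≤ Subgroup.normalizer (V : Set G))
    (hVπ : ∀ p : ℕ, p.Prime → p ∣ Nat.card V → p ∣ Nat.card H) : V ≤ H := by
  have hd : Cfsg.Agent.Helper3.PiDecomp {p | p ∣ Nat.card H} (Nat.card S) (Nat.card H)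
      (H.relIndex S) := by
    refine ⟨?_, fun p hp h => h, ?_⟩
    · rw [mul_comm]; exact (relIndex_mul_card_of_le hHS).symm
    · intro p hp h1 h2
      exact hp.one_lt.ne' (Nat.eq_one_of_dvd_coprimes hHall h2 h1)
  obtain ⟨hC, hD⟩ := Cfsg.Agent.Helper3.hall_internal S hsolv hd
  have hVcop : (Nat.card V).Coprime (H.relIndex S) := by
    apply Nat.coprime_of_dvd
    intro p hp h1 h2
    exact hp.one_lt.ne' (Nat.eq_one_of_dvd_coprimes hHall (hVπ p hp h1) h2)
  obtain ⟨H₁, hH₁S, hH₁card, hVH₁⟩ := hD V hVS hVcop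
  obtain ⟨s, hs, hsH⟩ := hC H₁ H hH₁S hHS hH₁card rfl
  rw [← hsH, ← conj_smul_eq_of_mem_normalizer (hSV hs)]
  exact Cfsg.Agent.Helper1.conj_smul_mono hVH₁ s

/-- **BG Corollary 15.3(b)** (given that `M' / M_F` is nilpotent). -/
theorem cor153b (hG : Cfsg.IsMinSimpleOddOrder G) (hM : IsCoatom M)
    (hnil : Group.IsNilpotent
      ↥((commutator ↥M).map (QuotientGroup.mk' (Cfsg.fittingHall ↥M))))
    {H : Subgroup G} (hH : H ≤ Cfsg.sigmaCore M)
    (hHall : (Nat.card H).Coprime (H.relIndex (Cfsg.sigmaCore M))) :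
    ∀ x ∈ H, ∀ g : G, g * x * g⁻¹ ∈ H →
      ∃ n ∈ M ⊓ Subgroup.normalizer (H : Set G), n * x * n⁻¹ = g * x * g⁻¹ := by
  intro x hx g hgx
  have hσM : Cfsg.sigmaCore M ≤ M := sigmaCore_le
  have hHM : H ≤ M := hH.trans hσM
  by_cases hx1 : x = 1
  · subst hx1
    exact ⟨1, ⟨M.one_mem, Subgroup.one_mem _⟩, by group⟩
  obtain ⟨m, hm, hmeq⟩ := Cfsg.Agent.Helper2.BG144.fusion_control hG hM (hH hx) hx1 (hHM hgx)
  haveI hsolvM : Group.IsSolvable ↥M := hG.2.2.2 M hM.1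
  set MF := Cfsg.fittingHallOf M with hMF
  have hMFM : MF ≤ M := Cfsg.Agent.Helper1.fittingHallOf_le M
  have hMFσ : MF ≤ Cfsg.sigmaCore M := fittingHallOf_le_sigmaCore hG hM
  have hMFnil : Group.IsNilpotent ↥MF := CNMax.fittingHallOf_isNilpotent M
  have hMFn : M ≤ Subgroup.normalizer (MF : Set G) := CNMax.le_normalizer_fittingHallOf M
  have hsolvF : Group.IsSolvable ↥MF := Cfsg.Agent.Helper1.isSolvable_of_le hMFM hsolvM
  have hsolvσ : Group.IsSolvable ↥(Cfsg.sigmaCore M) := Cfsg.Agent.Helper1.isSolvable_of_le hσM hsolvM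
  obtain ⟨b, a, hd⟩ := Cfsg.Agent.Helper3.exists_piDecomp {p | p ∣ Nat.card H} (Nat.card MF)
    Nat.card_pos.ne'
  have hd' : Cfsg.Agent.Helper3.PiDecomp {p | p ∣ Nat.card H}ᶜ (Nat.card MF) a b :=
    ⟨by rw [hd.eq, mul_comm], hd.right, fun p hp h hc => hc (hd.left p hp h)⟩
  obtain ⟨V, hVF, hVcard, -⟩ := (Cfsg.Agent.Helper3.hall_internal MF hsolvF hd).2 ⊥ bot_le
    (by rw [Subgroup.card_bot]; exact Nat.coprime_one_left _)
  obtain ⟨W, hWF, hWcard, -⟩ := (Cfsg.Agent.Helper3.hall_internal MF hsolvF hd').2 ⊥ bot_le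
    (by rw [Subgroup.card_bot]; exact Nat.coprime_one_left _)
  have hcopba : b.Coprime a := hd.coprime
  have hVrel : V.relIndex MF = a := by
    have h1 := relIndex_mul_card_of_le hVF
    rw [hVcard, hd.eq, mul_comm] at h1
    exact Nat.eq_of_mul_eq_mul_left (hd.pos_left Nat.card_pos.ne') h1
  have hWrel : W.relIndex MF = b := by
    have h1 := relIndex_mul_card_of_le hWF
    rw [hWcard, hd.eq] at h1
    exact Nat.eq_of_mul_eq_mul_right (hd.pos_right Nat.card_pos.ne') h1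
  have hMV : M ≤ Subgroup.normalizer (V : Set G) :=
    le_normalizer_of_hall_of_nilpotent_normal hMFnil hMFn hVF (by rw [hVcard, hVrel]; exact hcopba)
  have hMW : M ≤ Subgroup.normalizer (W : Set G) :=
    le_normalizer_of_hall_of_nilpotent_normal hMFnil hMFn hWF
      (by rw [hWcard, hWrel]; exact hcopba.symm)
  -- `V ≤ H`
  have hVH : V ≤ H := by
    apply le_hall_of_normal hsolvσ hH hHall (hVF.trans hMFσ) (hσM.trans hMV)
    intro p hp hpd
    rw [hVcard] at hpd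
    exact hd.left p hp hpd
  -- `M_F = W ⊔ V`
  have hWV : V ⊓ W = ⊥ :=
    inf_eq_bot_of_coprime_card (by rw [hVcard, hWcard]; exact hcopba)
  have hsupeq : W ⊔ V = MF := by
    apply Subgroup.eq_of_le_of_card_ge (sup_le hWF hVF)
    rw [card_sup_of_le_normalizer ((hVF.trans hMFM).trans hMW) hWV, hVcard, hWcard, ← hd.eq]
  have hcopWH : (Nat.card W).Coprime (Nat.card H) := by
    apply Nat.coprime_of_dvd
    intro p hp h1 h2
    rw [hWcard] at h1
    exact hd.right p hp h1 h2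
  have hHW : H ⊓ W = ⊥ := inf_eq_bot_of_coprime_card hcopWH.symm
  -- `m H m⁻¹ ≤ W H`
  have hconj : MulAut.conj m • H ≤ W ⊔ H := by
    intro z hz
    rw [mem_conj_smul] at hz
    have h1 := conj_mem_fittingHallOf_sup hG hM hnil hH hHall hm hz
    have h2 : m * (m⁻¹ * z * m) * m⁻¹ = z := by group
    rw [h2] at h1
    have h3 : MF ⊔ H ≤ W ⊔ H := by
      rw [← hsupeq]
      exact sup_le (sup_le le_sup_left (hVH.trans le_sup_right)) le_sup_right
    exact h3 h1
  obtain ⟨w, hw, hwH⟩ := sz_conj_internal W H (MulAut.conj m • H) (hHM.trans hMW) hconj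
    (by rw [card_conj_smul]) hcopWH (Or.inl (Cfsg.Agent.Helper1.isSolvable_of_le (hWF.trans hMFM) hsolvM))
  have hwM : w ∈ M := hMFM (hWF hw)
  set n := w⁻¹ * m with hn
  have hnM : n ∈ M := M.mul_mem (M.inv_mem hwM) hm
  have hnH : n ∈ Subgroup.normalizer (H : Set G) := by
    apply mem_normalizer_of_conj_smul_eq
    rw [hn, map_mul, mul_smul, ← hwH, ← mul_smul, ← map_mul, inv_mul_cancel, map_one, one_smul]
  refine ⟨n, ⟨hnM, hnH⟩, ?_⟩
  set y := m * x * m⁻¹ with hy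
  have hyH : y ∈ H := by
    have : y = g * x * g⁻¹ := hmeq.symm
    rw [this]; exact hgx
  have hnx : n * x * n⁻¹ = w⁻¹ * y * w := by rw [hn, hy]; group
  have hnxH : n * x * n⁻¹ ∈ H := (Subgroup.mem_normalizer_iff.mp hnH x).mp hx
  have hc : y⁻¹ * (w⁻¹ * y * w) ∈ H ⊓ W := by
    constructor
    · rw [← hnx]; exact H.mul_mem (H.inv_mem hyH) hnxH
    · have h1 : y⁻¹ * w⁻¹ * y⁻¹⁻¹ ∈ W :=
        (Subgroup.mem_normalizer_iff.mp (hMW (M.inv_mem (hHM hyH))) _).mp (W.inv_mem hw)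
      have h2 : y⁻¹ * (w⁻¹ * y * w) = (y⁻¹ * w⁻¹ * y⁻¹⁻¹) * w := by group
      rw [h2]
      exact W.mul_mem h1 hw
  rw [hHW, Subgroup.mem_bot] at hc
  rw [hnx, hmeq]
  have : w⁻¹ * y * w = y := by
    have h3 : y * (y⁻¹ * (w⁻¹ * y * w)) = y * 1 := by rw [hc]
    rw [mul_inv_cancel_left, mul_one] at h3
    exact h3
  rw [this]

/-- **BG Corollary 15.3** (`S1438` body) for `M` with a standard factorisation. -/
theorem thm153 (hG : Cfsg.IsMinSimpleOddOrder G) (hM : IsCoatom M)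
    (hKU : Cfsg.IsSigmaDecomposition M K U)
    (h1364 : K ≠ ⊥ → IsCyclic ↥(Cfsg.sigmaCore M ⊓ Subgroup.centralizer (K : Set G)) ∧
      (Cfsg.sigmaCore M ⊓ Subgroup.centralizer (K : Set G)) ≠ ⊥ ∧
      (Cfsg.sigmaCore M ⊓ Subgroup.centralizer (K : Set G)) ≤ Cfsg.fittingHallOf M ∧
      ¬ IsCyclic (Cfsg.fittingHallOf M))
    (h1359 : IsMulCommutative ↥(Subgroup.closure ((U : Set G) ∩ Cfsg.sigmaHat M)))
    (H : Subgroup G) (hH : H ≤ Cfsg.sigmaCore M) (hH1 : H ≠ ⊥)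
    (hHall : (Nat.card H).Coprime (H.relIndex (Cfsg.sigmaCore M))) :
    (∃ X : Subgroup G, IsCyclic X ∧ (∀ p : ℕ, p.Prime → p ∣ Nat.card X → p ∈ Cfsg.tau2 M) ∧
        M ⊓ Subgroup.centralizer (H : Set G) =
          (Cfsg.sigmaCore M ⊓ Subgroup.centralizer (H : Set G)) ⊔ X) ∧
      ∀ x ∈ H, ∀ g : G, g * x * g⁻¹ ∈ H →
        ∃ n ∈ M ⊓ Subgroup.normalizer (H : Set G), n * x * n⁻¹ = g * x * g⁻¹ :=
  ⟨cor153a hG hM hKU h1359 hH hH1 hHall,
    cor153b hG hM (thm152a hG hM hKU h1364).2.2.2.2 hH hHall⟩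

end Cfsg.Agent.Helper4.BG15
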