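import Mathlib
import Cfsg.Prelude
import Cfsg.Agent.Helper3.ShActB
import Cfsg.Agent.Helper3.CoprimeHall
import Cfsg.Agent.Helper1.Coprime
import Cfsg.Agent.S1446

set_option autoImplicit false
set_option linter.unusedSectionVars false
set_option linter.unusedVariables false

/-!
Tools for "Theorem X": Shult's theorem in concrete form, elementary abelian normal subgroups,
quotient bookkeeping.
-/

namespace Cfsg.Agent.Helper4.BG15X

open Cfsg
open scoped commutatorElement Pointwise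

universe u

variable {X : Type u} [Group X] [Finite X]

/-- `Ω_r(Z(P))` as a subgroup of the ambient group. -/
def omegaZ (P : Subgroup X) (r : ℕ) : Subgroup X where
  carrier := {z | z ∈ P ∧ (∀ y ∈ P, y * z = z * y) ∧ z ^ r = 1}
  one_mem' := ⟨P.one_mem, fun y _ => by rw [mul_one, one_mul], one_pow r⟩
  mul_mem' := by
    rintro a b ⟨ha, hac, har⟩ ⟨hb, hbc, hbr⟩
    refine ⟨P.mul_mem ha hb, fun y hy => ?_, ?_⟩
    · rw [← mul_assoc, hac y hy, mul_assoc, hbc y hy, mul_assoc]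
    · have hab : Commute a b := (hbc a ha)
      rw [hab.mul_pow, har, hbr, one_mul]
  inv_mem' := by
    rintro a ⟨ha, hac, har⟩
    refine ⟨P.inv_mem ha, fun y hy => ?_, by rw [inv_pow, har, inv_one]⟩
    have h := hac y hy
    calc y * a⁻¹ = a⁻¹ * (a * y) * a⁻¹ := by group
      _ = a⁻¹ * (y * a) * a⁻¹ := by rw [h]
      _ = a⁻¹ * y := by group

omit [Finite X] in
theorem mem_omegaZ {P : Subgroup X} {r : ℕ} {z : X} :
    z ∈ omegaZ P r ↔ z ∈ P ∧ (∀ y ∈ P, y * z = z * y) ∧ z ^ r = 1 := Iff.rfl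

omit [Finite X] in
theorem omegaZ_le (P : Subgroup X) (r : ℕ) : omegaZ P r ≤ P := fun _ hz => hz.1

omit [Finite X] in
theorem omegaZ_normal (P : Subgroup X) [hP : P.Normal] (r : ℕ) : (omegaZ P r).Normal := by
  constructor
  rintro z ⟨hz, hzc, hzr⟩ x
  refine ⟨hP.conj_mem z hz x, fun y hy => ?_, ?_⟩
  · have hy' : x⁻¹ * y * x ∈ P := by
      have := hP.conj_mem y hy x⁻¹
      rwa [inv_inv] at this
    have h := hzc _ hy'
    calc y * (x * z * x⁻¹) = x * ((x⁻¹ * y * x) * z) * x⁻¹ := by group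
      _ = x * (z * (x⁻¹ * y * x)) * x⁻¹ := by rw [h]
      _ = x * z * x⁻¹ * y := by group
  · rw [conj_pow, hzr]; group

omit [Finite X] in
theorem omegaZ_elementary (P : Subgroup X) (r : ℕ) : Cfsg.IsElementaryAbelian r (omegaZ P r) := by
  refine ⟨⟨⟨fun a b => ?_⟩⟩, fun a ha => ha.2.2⟩
  apply Subtype.ext
  rw [Subgroup.coe_mul, Subgroup.coe_mul]
  exact b.2.2.1 a a.2.1

theorem omegaZ_ne_bot {P : Subgroup X} {r : ℕ} [hr : Fact r.Prime] (hP : IsPGroup r ↥P)
    (hP1 : P ≠ ⊥) : omegaZ P r ≠ ⊥ := by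
  haveI : Nontrivial ↥P := (Subgroup.nontrivial_iff_ne_bot P).mpr hP1
  haveI : Nontrivial ↥(Subgroup.center ↥P) := hP.center_nontrivial
  have hZp : IsPGroup r ↥(Subgroup.center ↥P) := hP.to_subgroup _
  have hcard : r ∣ Nat.card ↥(Subgroup.center ↥P) := by
    obtain ⟨n, hn⟩ := IsPGroup.iff_card.mp hZp
    rw [hn]
    have hn0 : n ≠ 0 := by
      intro h0
      rw [h0, pow_zero] at hn
      exact (Finite.one_lt_card (α := ↥(Subgroup.center ↥P))).ne' hn
    exact dvd_pow_self r hn0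
  obtain ⟨z, hz⟩ := exists_prime_orderOf_dvd_card' (G := ↥(Subgroup.center ↥P)) r hcard
  have hz1 : z ≠ 1 := by
    intro h
    rw [h, orderOf_one] at hz
    exact hr.out.one_lt.ne hz
  intro hbot
  have hmem : ((z : ↥P) : X) ∈ omegaZ P r := by
    refine ⟨(z : ↥P).2, fun y hy => ?_, ?_⟩
    · have h := Subgroup.mem_center_iff.mp z.2 ⟨y, hy⟩
      exact congrArg Subtype.val h
    · have h : z ^ r = 1 := by rw [← hz]; exact pow_orderOf_eq_one z
      have h2 := congrArg (fun w : ↥(Subgroup.center ↥P) => ((w : ↥P) : X)) h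
      simpa using h2
  rw [hbot, Subgroup.mem_bot] at hmem
  apply hz1
  apply Subtype.ext
  apply Subtype.ext
  rw [hmem]; rfl

/-- A nontrivial solvable normal subgroup contains a nontrivial elementary abelian normal
subgroup of the whole group. -/
theorem exists_normal_elementary_le (S : Subgroup X) [S.Normal] (hsolv : Group.IsSolvable ↥S)
    (hS : S ≠ ⊥) :
    ∃ (r : ℕ) (_ : Fact r.Prime) (N : Subgroup X), N.Normal ∧ N ≤ S ∧ N ≠ ⊥ ∧
      Cfsg.IsElementaryAbelian r N := by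
  obtain ⟨r, hr, P, hPn, hPS, hP1, hPr⟩ := Cfsg.Agent.Helper3.exists_normal_pgroup_le S hsolv hS
  haveI := hr
  haveI := hPn
  exact ⟨r, hr, omegaZ P r, omegaZ_normal P r, (omegaZ_le P r).trans hPS, omegaZ_ne_bot hPr hP1,
    omegaZ_elementary P r⟩

/-- **Shult's theorem**, concrete form: if `k` (with `k ^ p = 1`) acts fixed-point-freely on the
elementary abelian `r`-group `N` and normalizes the `q`-group `Q` (`q` odd), which normalizes
`N`, then `[k, Q]` centralizes `N`. -/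
theorem shult_concrete {p q r : ℕ} (hp : p.Prime) (hq : q.Prime) (hr : r.Prime) (hrq : r ≠ q)
    (hrp : r ≠ p) (hqp : q ≠ p) (hq2 : q ≠ 2) (N Q : Subgroup X) (k : X) (hk : k ^ p = 1)
    (hN : Cfsg.IsElementaryAbelian r N) (hQ : IsPGroup q ↥Q)
    (hkN : k ∈ Subgroup.normalizer (N : Set X)) (hQN : Q ≤ Subgroup.normalizer (N : Set X))
    (hkQ : k ∈ Subgroup.normalizer (Q : Set X))
    (hfix : ∀ a ∈ N, k * a * k⁻¹ = a → a = 1) :
    ∀ g ∈ Q, k * g * k⁻¹ * g⁻¹ ∈ Subgroup.centralizer (N : Set X) := by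
  classical
  by_contra hcon
  push Not at hcon
  obtain ⟨g, hg, hgc⟩ := hcon
  set Γ := Subgroup.normalizer (N : Set X) with hΓ
  set ψ := Cfsg.Agent.S1446.conjAct N Γ le_rfl with hψ
  have hψapp : ∀ (γ : ↥Γ) (v : ↥N), ((ψ γ v : ↥N) : X) = (γ : X) * v * (γ : X)⁻¹ := by
    intro γ v
    rw [hψ, Cfsg.Agent.S1446.conjAct_apply]
  have hcommN : ∀ a b : ↥N, a * b = b * a := fun a b => hN.1.is_comm.comm a b
  have hexpN : ∀ a : ↥N, a ^ r = 1 := by
    intro a
    apply Subtype.ext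
    have := hN.2 a a.2
    simpa using this
  set k' : ↥Γ := ⟨k, hkN⟩ with hk'
  have hmain := Cfsg.Agent.Helper3.Shult.shult_act_B (Γ := ↥Γ) (A := ↥N) r q p hr hq hp hrq hrp
    hqp hcommN hexpN ψ k'
    (by
      apply Subtype.ext
      rw [Subgroup.coe_pow, hk', hk, Subgroup.coe_one])
    (Q.subgroupOf Γ) hQ.comap_subtype
    (by
      intro γ hγ
      rw [Subgroup.mem_subgroupOf] at hγ ⊢
      rw [Subgroup.coe_mul, Subgroup.coe_mul, Subgroup.coe_inv, hk']
      exact (Subgroup.mem_normalizer_iff.1 hkQ _).1 hγ)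
    (by
      refine ⟨⟨g, hQN hg⟩, Subgroup.mem_subgroupOf.2 hg, ?_⟩
      intro heq
      apply hgc
      rw [Subgroup.mem_centralizer_iff]
      intro v hv
      have hw : g⁻¹ * v * g ∈ N := by
        have := (Subgroup.mem_normalizer_iff.1 (Subgroup.inv_mem _ (hQN hg)) v).1 hv
        rwa [inv_inv] at this
      have h0 : (ψ (k' * ⟨g, hQN hg⟩ * k'⁻¹)) ⟨g⁻¹ * v * g, hw⟩ =
          (ψ ⟨g, hQN hg⟩) ⟨g⁻¹ * v * g, hw⟩ := by rw [heq]
      have h1 := congrArg Subtype.val h0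
      rw [hψapp, hψapp] at h1
      simp only [Subgroup.coe_mul, Subgroup.coe_inv, hk'] at h1
      -- h1 : (k g k⁻¹) (g⁻¹ v g) (k g k⁻¹)⁻¹ = g (g⁻¹ v g) g⁻¹
      have h2 : g * (g⁻¹ * v * g) * g⁻¹ = v := by group
      rw [h2] at h1
      calc v * (k * g * k⁻¹ * g⁻¹) = (k * g * k⁻¹ * (g⁻¹ * v * g) * (k * g * k⁻¹)⁻¹) * (k * g * k⁻¹ * g⁻¹) := by
            rw [h1]
        _ = k * g * k⁻¹ * g⁻¹ * v := by group)
    (by
      intro v hv
      have h1 := congrArg Subtype.val hv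
      rw [hψapp, hk'] at h1
      exact Subtype.ext (hfix v v.2 h1))
  exact hq2 hmain.1

end Cfsg.Agent.Helper4.BG15X
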