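import Mathlib
import Cfsg.Prelude
import Cfsg.Agent.Helper4.BG15X1

set_option autoImplicit false
set_option linter.unusedSectionVars false
set_option linter.unusedVariables false

/-!
Quotient bookkeeping for "Theorem X".
-/

namespace Cfsg.Agent.Helper4.BG15X

open Cfsg
open scoped commutatorElement Pointwise

universe u

variable {X : Type u} [Group X] [Finite X]

/-- `|SN/N| · |N| = |S|` for `N ≤ S`. -/
theorem card_map_mk' (N S : Subgroup X) [N.Normal] (hNS : N ≤ S) :
    Nat.card ↥(S.map (QuotientGroup.mk' N)) * Nat.card N = Nat.card S := by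
  have h1 := Subgroup.relIndex_map_map (QuotientGroup.mk' N) ⊥ S
  rw [Subgroup.map_bot, Subgroup.relIndex_bot_left, QuotientGroup.ker_mk', bot_sup_eq,
    sup_eq_left.mpr hNS] at h1
  rw [h1]
  exact Cfsg.Agent.Helper1.relIndex_mul_card_of_le hNS

/-- fixed points of a coprime action pass to quotients -/
theorem fix_map_mk' (N S : Subgroup X) [N.Normal] [S.Normal] (hNS : N ≤ S) (k : X)
    (hcop : (orderOf k).Coprime (Nat.card S)) :
    S.map (QuotientGroup.mk' N) ⊓ Subgroup.centralizer ({QuotientGroup.mk' N k} : Set (X ⧸ N)) =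
      (S ⊓ Subgroup.centralizer ({k} : Set X)).map (QuotientGroup.mk' N) := by
  apply le_antisymm
  · rintro _ ⟨⟨s, hs, rfl⟩, hc⟩
    replace hc := Subgroup.mem_centralizer_singleton_iff.mp
      (show QuotientGroup.mk' N s ∈ Subgroup.centralizer ({QuotientGroup.mk' N k} : Set (X ⧸ N))
        from hc)
    set A := Subgroup.zpowers k with hA
    have hAS : A ≤ Subgroup.normalizer (S : Set X) := by
      rw [Subgroup.normalizer_eq_top]; exact le_top
    have hAN : A ≤ Subgroup.normalizer (N : Set X) := by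
      rw [Subgroup.normalizer_eq_top]; exact le_top
    have hSN : S ≤ Subgroup.normalizer (N : Set X) := by
      rw [Subgroup.normalizer_eq_top]; exact le_top
    have hcop' : (Nat.card A).Coprime (Nat.card S) := by
      rw [hA, Nat.card_zpowers]; exact hcop
    have hsolvA : Group.IsSolvable ↥A := by
      haveI : IsCyclic ↥A := by rw [hA]; infer_instance
      letI : CommGroup ↥A := IsCyclic.commGroup
      infer_instance
    have hfix : ∀ a ∈ A, a * s * a⁻¹ * s⁻¹ ∈ N := by
      intro a ha
      obtain ⟨i, rfl⟩ := Subgroup.mem_zpowers_iff.mp ha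
      rw [← QuotientGroup.eq_one_iff]
      have h1 : ((k ^ i * s * (k ^ i)⁻¹ * s⁻¹ : X) : X ⧸ N) =
          (QuotientGroup.mk' N k) ^ i * (QuotientGroup.mk' N s) *
            ((QuotientGroup.mk' N k) ^ i)⁻¹ * (QuotientGroup.mk' N s)⁻¹ := by
        simp
      rw [h1]
      have hcomm : Commute (QuotientGroup.mk' N s) (QuotientGroup.mk' N k) := hc
      have h2 := (hcomm.zpow_right i).eq
      rw [← h2]; group
    obtain ⟨c, hc', hcN⟩ := Cfsg.Agent.Helper1.coprime_fixed_coset A S hAS hcop' (Or.inl hsolvA) N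
      hNS hSN hAN s hs hfix
    refine ⟨c, ⟨hc'.1, ?_⟩, ?_⟩
    · have h3 := hc'.2
      rw [hA, Cfsg.Agent.S1446.centralizer_zpowers_eq] at h3
      exact h3
    · have h4 : ((s⁻¹ * c : X) : X ⧸ N) = 1 := (QuotientGroup.eq_one_iff _).mpr hcN
      have h5 : (QuotientGroup.mk' N s)⁻¹ * QuotientGroup.mk' N c = 1 := by
        simpa using h4
      exact (inv_mul_eq_one.mp h5).symm
  · rintro _ ⟨c, ⟨hcS, hck⟩, rfl⟩
    refine ⟨⟨c, hcS, rfl⟩, ?_⟩
    replace hck := Subgroup.mem_centralizer_singleton_iff.mp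
      (show c ∈ Subgroup.centralizer ({k} : Set X) from hck)
    show QuotientGroup.mk' N c ∈ Subgroup.centralizer ({QuotientGroup.mk' N k} : Set (X ⧸ N))
    rw [Subgroup.mem_centralizer_singleton_iff, ← map_mul, ← map_mul, hck]

end Cfsg.Agent.Helper4.BG15X
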