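import Mathlib
import Cfsg.Prelude
import Cfsg.Agent.Helper4.BG15X2

set_option autoImplicit false
set_option linter.unusedSectionVars false
set_option linter.unusedVariables false

/-!
Transfer into the centre: a central Hall subgroup meets the commutator subgroup trivially.
-/

namespace Cfsg.Agent.Helper4.BG15X

open Cfsg
open scoped commutatorElement Pointwise

universe u

open scoped IsMulCommutative in
/-- A central subgroup whose order is coprime to its index meets the commutator subgroup
trivially (Schur's transfer into the centre). -/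
theorem central_inf_commutator_eq_bot {H : Type u} [Group H] [Finite H] (Z : Subgroup H)
    (hZ : Z ≤ Subgroup.center H) (hcop : (Nat.card Z).Coprime Z.index) :
    Z ⊓ commutator H = ⊥ := by
  rw [eq_bot_iff]
  rintro g ⟨hgZ, hgC⟩
  have h1 : MonoidHom.transferCenterPow H g = 1 := by
    have h := Abelianization.commutator_subset_ker (MonoidHom.transferCenterPow H)
    exact MonoidHom.mem_ker.mp (h hgC)
  have h2 : g ^ (Subgroup.center H).index = 1 := by
    have := congrArg Subtype.val h1
    rwa [MonoidHom.transferCenterPow_apply] at this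
  have h3 : g ^ Nat.card Z = 1 := by
    have := pow_card_eq_one' (G := ↥Z) (x := ⟨g, hgZ⟩)
    exact congrArg Subtype.val this
  have h4 : (Subgroup.center H).index ∣ Z.index := Subgroup.index_dvd_of_le hZ
  have h5 : orderOf g ∣ Z.index := (orderOf_dvd_of_pow_eq_one h2).trans h4
  have h6 : orderOf g ∣ Nat.card Z := orderOf_dvd_of_pow_eq_one h3
  have h7 : orderOf g = 1 := Nat.eq_one_of_dvd_coprimes hcop h6 h5
  exact Subgroup.mem_bot.mpr (orderOf_eq_one_iff.mp h7)

variable {X : Type u} [Group X] [Finite X]

/-- relative form inside an ambient group -/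
theorem inf_commutator_eq_bot_of_central (S T : Subgroup X) (hTS : T ≤ S)
    (hcent : T ≤ Subgroup.centralizer (S : Set X))
    (hcop : (Nat.card T).Coprime (T.relIndex S)) : T ⊓ ⁅S, S⁆ = ⊥ := by
  have hZ : T.subgroupOf S ≤ Subgroup.center ↥S := by
    intro z hz
    rw [Subgroup.mem_center_iff]
    intro y
    apply Subtype.ext
    have := hcent (Subgroup.mem_subgroupOf.mp hz) (y : X) y.2
    simpa using this
  have hcop' : (Nat.card ↥(T.subgroupOf S)).Coprime (T.subgroupOf S).index := by
    rw [Cfsg.Agent.Helper1.card_subgroupOf_of_le hTS]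
    exact hcop
  have h := central_inf_commutator_eq_bot (T.subgroupOf S) hZ hcop'
  rw [eq_bot_iff]
  rintro g ⟨hgT, hgC⟩
  have hgS : g ∈ S := hTS hgT
  rw [← Subgroup.map_subtype_commutator] at hgC
  obtain ⟨y, hy, hyg⟩ := hgC
  have hy' : y ∈ T.subgroupOf S ⊓ commutator ↥S := by
    refine ⟨?_, hy⟩
    show y ∈ T.subgroupOf S
    rw [Subgroup.mem_subgroupOf]
    have : (y : X) = g := hyg
    rw [this]; exact hgT
  rw [h] at hy'
  have hy1 : y = 1 := Subgroup.mem_bot.mp hy'
  rw [Subgroup.mem_bot, ← hyg, hy1]
  rfl

end Cfsg.Agent.Helper4.BG15X
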