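import Mathlib
import Cfsg.Prelude
import Cfsg.Agent.Helper4.BG15X3
import Cfsg.Agent.Helper1.HallNilp

set_option autoImplicit false
set_option linter.unusedSectionVars false
set_option linter.unusedVariables false

/-!
"Theorem X", part 1: small lemmas and the case `C_S(k) ≤ N`.
-/

namespace Cfsg.Agent.Helper4.BG15X

open Cfsg Cfsg.Agent.Helper1
open scoped commutatorElement Pointwise

universe u

variable {X : Type u} [Group X] [Finite X]

/-- a subgroup of prime order is contained in or disjoint from any subgroup -/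
theorem le_or_inf_eq_bot_of_card_prime {K N : Subgroup X} {q : ℕ} (hq : q.Prime)
    (hK : Nat.card K = q) : K ≤ N ∨ K ⊓ N = ⊥ := by
  have h1 : Nat.card ↥(K ⊓ N) ∣ q := hK ▸ Subgroup.card_dvd_of_le inf_le_left
  rcases (Nat.dvd_prime hq).mp h1 with h | h
  · right; exact Subgroup.card_eq_one.mp h
  · left
    have : K ⊓ N = K := Subgroup.eq_of_le_of_card_ge inf_le_left (by rw [h, hK])
    exact inf_eq_left.mp this

/-- `|SN/N| = [S : N]` -/
theorem card_map_mk'_eq_relIndex (N S : Subgroup X) [N.Normal] (hNS : N ≤ S) :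
    Nat.card ↥(S.map (QuotientGroup.mk' N)) = N.relIndex S := by
  have h1 := Subgroup.relIndex_map_map (QuotientGroup.mk' N) ⊥ S
  rw [Subgroup.map_bot, Subgroup.relIndex_bot_left, QuotientGroup.ker_mk', bot_sup_eq,
    sup_eq_left.mpr hNS] at h1
  exact h1

/-- the image of a subgroup disjoint from the kernel has the same order -/
theorem card_map_mk'_of_inf_eq_bot (N K : Subgroup X) [N.Normal] (h : K ⊓ N = ⊥) :
    Nat.card ↥(K.map (QuotientGroup.mk' N)) = Nat.card K := by
  symm
  apply Nat.card_congr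
  refine Equiv.ofBijective ((QuotientGroup.mk' N).subgroupMap K) ⟨?_, ?_⟩
  · rw [injective_iff_map_eq_one]
    intro a ha
    have h1 : (QuotientGroup.mk' N) (a : X) = 1 := by
      have := congrArg Subtype.val ha
      simpa using this
    have h2 : (a : X) ∈ N := by
      rw [← QuotientGroup.ker_mk' N]; exact MonoidHom.mem_ker.mpr h1
    have h3 : (a : X) ∈ K ⊓ N := ⟨a.2, h2⟩
    rw [h] at h3
    exact Subtype.ext (Subgroup.mem_bot.mp h3)
  · exact MonoidHom.subgroupMap_surjective _ _

/-- A normal Hall subgroup of a normal subgroup is normal. -/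
theorem normal_of_normal_hall {T Q : Subgroup X} [hT : T.Normal] (hQT : Q ≤ T)
    (hTQ : T ≤ Subgroup.normalizer (Q : Set X))
    (hcop : (Nat.card Q).Coprime (Q.relIndex T)) : Q.Normal := by
  rw [← Subgroup.normalizer_eq_top_iff, eq_top_iff]
  intro g _
  apply mem_normalizer_of_conj_smul_eq
  have h1 : MulAut.conj g • Q ≤ T := by
    intro x hx
    rw [mem_conj_smul] at hx
    have h2 := hT.conj_mem _ (hQT hx) g
    have h3 : g * (g⁻¹ * x * g) * g⁻¹ = x := by group
    rwa [h3] at h2
  have h2 : MulAut.conj g • Q ≤ Q :=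
    le_of_normal_hall_rel hQT hTQ h1 hcop (by rw [card_conj_smul])
  exact Subgroup.eq_of_le_of_card_ge h2 (by rw [card_conj_smul])

/-- a `q`-group of `q'`-index is a Hall subgroup -/
theorem coprime_card_relIndex_of_isPGroup {q : ℕ} [hq : Fact q.Prime] {Q T : Subgroup X}
    (hQ : IsPGroup q ↥Q) (hq' : ¬ q ∣ Q.relIndex T) : (Nat.card Q).Coprime (Q.relIndex T) := by
  obtain ⟨n, hn⟩ := hQ.exists_card_eq
  rw [hn]
  exact Nat.Coprime.pow_left n ((Nat.Prime.coprime_iff_not_dvd hq.out).mpr hq')

/-- the image of a solvable subgroup is solvable -/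
theorem isSolvable_map {Y : Type u} [Group Y] (f : X →* Y) (S : Subgroup X)
    (hS : Group.IsSolvable ↥S) : Group.IsSolvable ↥(S.map f) :=
  Group.isSolvable_of_surjective (MonoidHom.subgroupMap_surjective f S)

/-- centralizers of generators of a subgroup of prime order coincide -/
theorem centralizer_singleton_eq_of_mem_zpowers {p : ℕ} (hp : p.Prime) {k r : X} (hk : k ^ p = 1)
    (hr : r ∈ Subgroup.zpowers k) (hr1 : r ≠ 1) :
    Subgroup.centralizer ({r} : Set X) = Subgroup.centralizer ({k} : Set X) := by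
  haveI : Fact p.Prime := ⟨hp⟩
  have hk1 : k ≠ 1 := by
    rintro rfl
    rw [Subgroup.zpowers_one_eq_bot, Subgroup.mem_bot] at hr
    exact hr1 hr
  have hok : orderOf k = p := orderOf_eq_prime hk hk1
  have hrp : r ^ p = 1 := by
    obtain ⟨i, rfl⟩ := Subgroup.mem_zpowers_iff.mp hr
    rw [← zpow_natCast, ← zpow_mul, mul_comm, zpow_mul, zpow_natCast, hk, one_zpow]
  have hor : orderOf r = p := orderOf_eq_prime hrp hr1
  have hle : Subgroup.zpowers r ≤ Subgroup.zpowers k := by
    rw [Subgroup.zpowers_le]; exact hr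
  have heq : Subgroup.zpowers r = Subgroup.zpowers k :=
    Subgroup.eq_of_le_of_card_ge hle (by rw [Nat.card_zpowers, Nat.card_zpowers, hok, hor])
  rw [← Cfsg.Agent.S1446.centralizer_zpowers_eq r, ← Cfsg.Agent.S1446.centralizer_zpowers_eq k,
    heq]

/-- **Theorem X, case 1**: if the fixed points of `k` on `S` lie in a normal `q`-subgroup `N`,
then `S` has a normal Sylow `q`-subgroup. -/
theorem thmX_case1 {p q : ℕ} (hp : p.Prime) (hq : q.Prime) (S N : Subgroup X) [S.Normal]
    [N.Normal] (hNS : N ≤ S) (hNq : IsPGroup q ↥N) (hsolv : Group.IsSolvable ↥S) (k : X)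
    (hk : k ^ p = 1) (hpS : ¬ p ∣ Nat.card S)
    (hfix : S ⊓ Subgroup.centralizer ({k} : Set X) ≤ N) :
    ∃ Q : Subgroup X, Q ≤ S ∧ Q.Normal ∧ IsPGroup q ↥Q ∧ ¬ q ∣ Q.relIndex S := by
  haveI : Fact p.Prime := ⟨hp⟩
  haveI : Fact q.Prime := ⟨hq⟩
  set π := QuotientGroup.mk' N with hπ
  have hπs : Function.Surjective π := QuotientGroup.mk'_surjective N
  have hker : π.ker = N := QuotientGroup.ker_mk' N
  set S' := S.map π with hS'
  haveI hS'n : S'.Normal := Subgroup.Normal.map inferInstance π hπs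
  have hcop : (orderOf k).Coprime (Nat.card S) := by
    have h1 : orderOf k ∣ p := orderOf_dvd_of_pow_eq_one hk
    rcases (Nat.dvd_prime hp).mp h1 with h | h
    · rw [h]; exact Nat.coprime_one_left _
    · rw [h]; exact (Nat.Prime.coprime_iff_not_dvd hp).mpr hpS
  have hfix' : S' ⊓ Subgroup.centralizer ({π k} : Set (X ⧸ N)) = ⊥ := by
    rw [hS', hπ, fix_map_mk' N S hNS k hcop, Subgroup.map_eq_bot_iff, QuotientGroup.ker_mk']
    exact hfix
  -- the Hall `q`-subgroup of `S'`
  have hsolv' : Group.IsSolvable ↥S' := isSolvable_map π S hsolv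
  obtain ⟨H, ⟨hHS', hHq, hHq'⟩, -⟩ := Cfsg.Agent.Helper3.exists_invariant_hall
    (⊥ : Subgroup (X ⧸ N)) S' bot_le (by rw [Subgroup.card_bot]; exact Nat.coprime_one_left _)
    hsolv' {q}
  have hHp : IsPGroup q ↥H := by
    apply IsPGroup.of_card (n := (Nat.card H).factorization q)
    apply Nat.eq_pow_of_factorization_eq_single Nat.card_pos.ne'
    ext ℓ
    by_cases hℓ : ℓ = q
    · subst hℓ; simp
    · rw [Finsupp.single_apply, if_neg (Ne.symm hℓ)]
      by_cases hℓp : ℓ.Prime
      · apply Nat.factorization_eq_zero_of_not_dvd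
        intro hd
        exact hℓ (hHq ℓ hℓp hd)
      · exact Nat.factorization_eq_zero_of_not_prime _ hℓp
  have hHq'' : ¬ q ∣ H.relIndex S' := hHq' q hq rfl
  have hHcop : (Nat.card H).Coprime (H.relIndex S') := coprime_card_relIndex_of_isPGroup hHp hHq''
  -- `S'` is nilpotent
  have hS'H : S' ≤ Subgroup.normalizer (H : Set (X ⧸ N)) := by
    by_cases hS'1 : S' = ⊥
    · rw [hS'1]; exact bot_le
    have hk1 : π k ≠ 1 := by
      intro h1
      apply hS'1
      rw [h1] at hfix'
      have : Subgroup.centralizer ({1} : Set (X ⧸ N)) = ⊤ := by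
        rw [eq_top_iff]; intro x _
        rw [Subgroup.mem_centralizer_singleton_iff]; simp
      rw [this, inf_top_eq] at hfix'
      exact hfix'
    have hkp : (π k) ^ p = 1 := by rw [← map_pow, hk, map_one]
    have hnil : Group.IsNilpotent ↥S' := by
      apply Cfsg.Agent.S1446.nilpotent_of_fpf S' (Subgroup.zpowers (π k)) hS'1
      · intro h
        apply hk1
        have : π k ∈ Subgroup.zpowers (π k) := Subgroup.mem_zpowers _
        rw [h] at this
        exact Subgroup.mem_bot.mp this
      · rw [Subgroup.normalizer_eq_top]; exact le_top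
      · intro r hr hr1
        rw [centralizer_singleton_eq_of_mem_zpowers hp hkp hr hr1]
        exact hfix'
    exact le_normalizer_of_hall_nilpotent hnil hHS' hHcop
  haveI hHn : H.Normal := normal_of_normal_hall hHS' hS'H hHcop
  refine ⟨H.comap π, ?_, hHn.comap π, ?_, ?_⟩
  · have h1 : H.comap π ≤ S'.comap π := Subgroup.comap_mono hHS'
    rw [hS', Subgroup.comap_map_eq, hker, sup_eq_left.mpr hNS] at h1
    exact h1
  · apply IsPGroup.comap_of_ker_isPGroup hHp
    rw [hker]; exact hNq
  · rw [Subgroup.relIndex_comap]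
    exact hHq''

end Cfsg.Agent.Helper4.BG15X
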