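import Mathlib
import Cfsg.Prelude
import Cfsg.Agent.Helper4.BG15X4

set_option autoImplicit false
set_option linter.unusedSectionVars false
set_option linter.unusedVariables false

/-!
"Theorem X", part 2: the case of an elementary abelian normal `r`-subgroup `N`, `r ≠ q`,
below a normal subgroup `T` with `T/N` a `q`-group of `q'`-index in `S`.
-/

namespace Cfsg.Agent.Helper4.BG15X

open Cfsg Cfsg.Agent.Helper1
open scoped commutatorElement Pointwise

universe u

variable {X : Type u} [Group X] [Finite X]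

/-- a group all of whose prime divisors equal `q` is a `q`-group -/
theorem isPGroup_of_forall_prime_dvd {q : ℕ} (H : Subgroup X)
    (h : ∀ ℓ : ℕ, ℓ.Prime → ℓ ∣ Nat.card H → ℓ ∈ ({q} : Set ℕ)) : IsPGroup q ↥H := by
  apply IsPGroup.of_card (n := (Nat.card H).factorization q)
  apply Nat.eq_pow_of_factorization_eq_single Nat.card_pos.ne'
  ext ℓ
  by_cases hℓ : ℓ = q
  · subst hℓ; simp
  · rw [Finsupp.single_apply, if_neg (Ne.symm hℓ)]
    by_cases hℓp : ℓ.Prime
    · apply Nat.factorization_eq_zero_of_not_dvd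
      intro hd
      exact hℓ (h ℓ hℓp hd)
    · exact Nat.factorization_eq_zero_of_not_prime _ hℓp

theorem isPGroup_of_elementary {r : ℕ} {N : Subgroup X} (hN : Cfsg.IsElementaryAbelian r N) :
    IsPGroup r ↥N := by
  intro g
  refine ⟨1, ?_⟩
  apply Subtype.ext
  have := hN.2 g g.2
  simpa using this

theorem thmX_case2 {p q r : ℕ} (hp : p.Prime) (hq : q.Prime) (hr : r.Prime) (hrq : r ≠ q)
    (S T N : Subgroup X) [hSn : S.Normal] [hTn : T.Normal] [hNn : N.Normal] (hNT : N ≤ T)
    (hTS : T ≤ S) (hN : Cfsg.IsElementaryAbelian r N) (hN1 : N ≠ ⊥)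
    (hTN : ∃ a, N.relIndex T = q ^ a)
    (hodd : Odd (Nat.card S)) (hsolv : Group.IsSolvable ↥S) (k : X) (hk : k ^ p = 1)
    (hpS : ¬ p ∣ Nat.card S)
    (hKq : Nat.card ↥(S ⊓ Subgroup.centralizer ({k} : Set X)) = q)
    (hKT : S ⊓ Subgroup.centralizer ({k} : Set X) ≤ T)
    (hKS' : S ⊓ Subgroup.centralizer ({k} : Set X) ≤ ⁅S, S⁆)
    (hTq : ¬ q ∣ T.relIndex S) :
    ∃ Q : Subgroup X, Q ≤ S ∧ Q.Normal ∧ IsPGroup q ↥Q ∧ ¬ q ∣ Q.relIndex S := by
  haveI : Fact p.Prime := ⟨hp⟩
  haveI : Fact q.Prime := ⟨hq⟩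
  haveI : Fact r.Prime := ⟨hr⟩
  set Ks := S ⊓ Subgroup.centralizer ({k} : Set X) with hKs
  set A := Subgroup.zpowers k with hA
  -- numerics
  have hqS : q ∣ Nat.card S := hKq ▸ Subgroup.card_dvd_of_le inf_le_left
  have hqp : q ≠ p := fun h => hpS (h ▸ hqS)
  have hq2 : q ≠ 2 := by
    rintro rfl
    exact (Nat.not_even_iff_odd.mpr hodd) (even_iff_two_dvd.mpr hqS)
  have hNr : IsPGroup r ↥N := isPGroup_of_elementary hN
  obtain ⟨n, hn⟩ := hNr.exists_card_eq
  have hrS : r ∣ Nat.card S := by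
    have hn0 : n ≠ 0 := by
      rintro rfl
      rw [pow_zero] at hn
      exact hN1 (Subgroup.card_eq_one.mp hn)
    have : r ∣ Nat.card N := hn ▸ dvd_pow_self r hn0
    exact this.trans (Subgroup.card_dvd_of_le (hNT.trans hTS))
  have hrp : r ≠ p := fun h => hpS (h ▸ hrS)
  have hcopA_S : (Nat.card A).Coprime (Nat.card S) := by
    rw [hA, Nat.card_zpowers]
    have h1 : orderOf k ∣ p := orderOf_dvd_of_pow_eq_one hk
    rcases (Nat.dvd_prime hp).mp h1 with h | h
    · rw [h]; exact Nat.coprime_one_left _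
    · rw [h]; exact (Nat.Prime.coprime_iff_not_dvd hp).mpr hpS
  have hcopA_T : (Nat.card A).Coprime (Nat.card T) :=
    Nat.Coprime.coprime_dvd_right (Subgroup.card_dvd_of_le hTS) hcopA_S
  have hsolvT : Group.IsSolvable ↥T := isSolvable_of_le hTS hsolv
  have hAT : A ≤ Subgroup.normalizer (T : Set X) := by
    rw [Subgroup.normalizer_eq_top]; exact le_top
  have hAcent : Subgroup.centralizer (A : Set X) = Subgroup.centralizer ({k} : Set X) :=
    Cfsg.Agent.S1446.centralizer_zpowers_eq k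
  have hAKs : A ≤ Subgroup.normalizer (Ks : Set X) := by
    have h1 : A ≤ Subgroup.centralizer (Ks : Set X) := by
      rw [Subgroup.le_centralizer_iff, hAcent]; exact inf_le_right
    exact h1.trans (Subgroup.centralizer_le_normalizer _)
  obtain ⟨Q, ⟨hQT, hQq, hQq'⟩, hAQ, hKQ⟩ := Cfsg.Agent.Helper3.exists_invariant_hall_ge A T hAT
    hcopA_T hsolvT {q} Ks hKT hAKs (by
      intro ℓ hℓ hd
      rw [hKq] at hd
      exact (Nat.prime_dvd_prime_iff_eq hℓ hq).mp hd)
  have hQp : IsPGroup q ↥Q := isPGroup_of_forall_prime_dvd Q hQq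
  have hQq'' : ¬ q ∣ Q.relIndex T := hQq' q hq rfl
  have hQcop : (Nat.card Q).Coprime (Q.relIndex T) := coprime_card_relIndex_of_isPGroup hQp hQq''
  -- `T = N Q`
  have hTNQ : T ≤ N ⊔ Q := by
    rw [← Subgroup.relIndex_eq_one]
    obtain ⟨a, ha⟩ := hTN
    have h1 : (N ⊔ Q).relIndex T ∣ q ^ a := ha ▸ Subgroup.relIndex_dvd_of_le_left T le_sup_left
    have h2 : (N ⊔ Q).relIndex T ∣ Q.relIndex T := Subgroup.relIndex_dvd_of_le_left T le_sup_right
    obtain ⟨b, -, hb⟩ := (Nat.dvd_prime_pow hq).mp h1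
    rcases Nat.eq_zero_or_pos b with rfl | hbpos
    · rw [hb, pow_zero]
    · exfalso
      apply hQq''
      exact (dvd_pow_self q hbpos.ne').trans (hb ▸ h2)
  -- `N ∩ K* = 1`
  have hNK : Ks ⊓ N = ⊥ := by
    apply inf_eq_bot_of_coprime_card
    rw [hKq, hn]
    exact Nat.Coprime.pow_right n ((Nat.coprime_primes hq hr).mpr (Ne.symm hrq))
  have hfixN : ∀ a ∈ N, k * a * k⁻¹ = a → a = 1 := by
    intro a ha hka
    have h1 : a ∈ Ks ⊓ N := by
      refine ⟨⟨hTS (hNT ha), ?_⟩, ha⟩
      show a ∈ Subgroup.centralizer ({k} : Set X)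
      rw [Subgroup.mem_centralizer_singleton_iff]
      calc a * k = (k * a * k⁻¹) * k := by rw [hka]
        _ = k * a := by group
    rw [hNK] at h1
    exact Subgroup.mem_bot.mp h1
  have hshult := shult_concrete hp hq hr hrq hrp hqp hq2 N Q k hk hN hQp
    (by rw [Subgroup.normalizer_eq_top]; exact Subgroup.mem_top _)
    (by rw [Subgroup.normalizer_eq_top]; exact le_top)
    (hAQ (Subgroup.mem_zpowers k)) hfixN
  -- `C_T(N)`
  haveI hCn : (Subgroup.centralizer (N : Set X)).Normal := Subgroup.normal_centralizer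
  set CT := T ⊓ Subgroup.centralizer (N : Set X) with hCT
  haveI hCTn : CT.Normal := Subgroup.normal_inf_normal _ _
  have hNCT : N ≤ CT := by
    refine le_inf hNT ?_
    intro x hx
    rw [Subgroup.mem_centralizer_iff]
    intro y hy
    have := hN.1.is_comm.comm (⟨y, hy⟩ : ↥N) ⟨x, hx⟩
    exact congrArg Subtype.val this
  have hQA : ⁅Q, A⁆ ≤ CT := by
    rw [Subgroup.commutator_le]
    intro g hg a ha
    refine ⟨?_, ?_⟩
    · have h2 := hTn.conj_mem _ (T.inv_mem (hQT hg)) a
      rw [commutatorElement_def]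
      have h3 : g * a * g⁻¹ * a⁻¹ = g * (a * g⁻¹ * a⁻¹) := by group
      rw [h3]
      exact T.mul_mem (hQT hg) h2
    · obtain ⟨i, rfl⟩ := Subgroup.mem_zpowers_iff.mp ha
      set C := Subgroup.centralizer (N : Set X) with hC
      have hc : Commute (QuotientGroup.mk' C k) (QuotientGroup.mk' C g) := by
        have h4 := hshult g hg
        have h5 : (QuotientGroup.mk' C) (k * g * k⁻¹ * g⁻¹) = 1 :=
          (QuotientGroup.eq_one_iff _).mpr h4
        rw [map_mul, map_mul, map_mul, map_inv, map_inv] at h5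
        show (QuotientGroup.mk' C k) * (QuotientGroup.mk' C g) =
          (QuotientGroup.mk' C g) * (QuotientGroup.mk' C k)
        calc (QuotientGroup.mk' C k) * (QuotientGroup.mk' C g)
            = ((QuotientGroup.mk' C) k * (QuotientGroup.mk' C) g * ((QuotientGroup.mk' C) k)⁻¹ *
                ((QuotientGroup.mk' C) g)⁻¹) * ((QuotientGroup.mk' C g) *
                  (QuotientGroup.mk' C k)) := by group
          _ = (QuotientGroup.mk' C g) * (QuotientGroup.mk' C k) := by rw [h5, one_mul]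
      have hc' : Commute (QuotientGroup.mk' C g) ((QuotientGroup.mk' C k) ^ i) :=
        (hc.zpow_left i).symm
      have h6 : (QuotientGroup.mk' C) ⁅g, k ^ i⁆ = 1 := by
        rw [commutatorElement_def, map_mul, map_mul, map_mul, map_inv, map_inv, map_zpow,
          hc'.eq]
        group
      exact (QuotientGroup.eq_one_iff _).mp h6
  -- `Q ≤ C_T(N) K*`
  have hcopA_Q : (Nat.card A).Coprime (Nat.card Q) :=
    Nat.Coprime.coprime_dvd_right (Subgroup.card_dvd_of_le hQT) hcopA_T
  have hsolvA : Group.IsSolvable ↥A := by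
    haveI : IsCyclic ↥A := by rw [hA]; infer_instance
    letI : CommGroup ↥A := IsCyclic.commGroup
    infer_instance
  have hdecQ := coprime_commutator_sup_centralizer A Q hAQ hcopA_Q (Or.inl hsolvA)
  have hQCK : Q ≤ CT ⊔ Ks := by
    rw [← hdecQ]
    apply sup_le (hQA.trans le_sup_left)
    refine le_trans ?_ le_sup_right
    rw [hAcent]
    exact inf_le_inf_right _ (hQT.trans hTS)
  have hTCK : T ≤ CT ⊔ Ks := hTNQ.trans (sup_le (hNCT.trans le_sup_left) hQCK)
  -- pass to `X / C_T(N)`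
  set π := QuotientGroup.mk' CT with hπ
  have hπs : Function.Surjective π := QuotientGroup.mk'_surjective CT
  have hker : π.ker = CT := QuotientGroup.ker_mk' CT
  set S' := S.map π with hS'
  set T' := T.map π with hT'
  set K' := Ks.map π with hK'
  have hT'K' : T' = K' := by
    apply le_antisymm
    · have h1 : T' ≤ (CT ⊔ Ks).map π := Subgroup.map_mono hTCK
      rw [Subgroup.map_sup] at h1
      have h2 : CT.map π = ⊥ := by rw [Subgroup.map_eq_bot_iff, hker]
      rw [h2, bot_sup_eq] at h1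
      exact h1
    · exact Subgroup.map_mono hKT
  haveI hT'n : T'.Normal := hTn.map π hπs
  haveI hKcyc : IsCyclic ↥Ks := isCyclic_of_prime_card hKq
  have hKcomm : ∀ x ∈ Ks, ∀ y ∈ Ks, x * y = y * x := by
    intro x hx y hy
    letI : CommGroup ↥Ks := IsCyclic.commGroup
    have := mul_comm (⟨x, hx⟩ : ↥Ks) ⟨y, hy⟩
    exact congrArg Subtype.val this
  have hD : S' ≤ Subgroup.centralizer (T' : Set (X ⧸ CT)) := by
    haveI hDn : (Subgroup.centralizer (T' : Set (X ⧸ CT))).Normal := Subgroup.normal_centralizer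
    have hAS : A ≤ Subgroup.normalizer (S : Set X) := by
      rw [Subgroup.normalizer_eq_top]; exact le_top
    have hdecS := coprime_commutator_sup_centralizer A S hAS hcopA_S (Or.inl hsolvA)
    rw [hAcent] at hdecS
    have h1 : S' = ⁅S', A.map π⁆ ⊔ K' := by
      conv_lhs => rw [hS', ← hdecS, Subgroup.map_sup, Subgroup.map_commutator]
    rw [h1]
    apply sup_le
    · have hA'D : A.map π ≤ Subgroup.centralizer (T' : Set (X ⧸ CT)) := by
        rw [hT'K', Subgroup.map_le_iff_le_comap]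
        intro a ha
        rw [Subgroup.mem_comap, Subgroup.mem_centralizer_iff]
        rintro _ ⟨x, hx, rfl⟩
        have hxa : x * a = a * x := by
          have hx' : x ∈ Subgroup.centralizer (A : Set X) := by rw [hAcent]; exact hx.2
          exact (Subgroup.mem_centralizer_iff.mp hx' a ha).symm
        rw [← map_mul, ← map_mul, hxa]
      exact (Subgroup.commutator_mono le_rfl hA'D).trans (Subgroup.commutator_le_right _ _)
    · rw [hT'K']
      rintro _ ⟨x0, hx0, rfl⟩
      rw [Subgroup.mem_centralizer_iff]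
      rintro _ ⟨y0, hy0, rfl⟩
      rw [← map_mul, ← map_mul, hKcomm y0 hy0 x0 hx0]
  have hT'cent : T' ≤ Subgroup.centralizer (S' : Set (X ⧸ CT)) := Subgroup.le_centralizer_iff.mp hD
  have hcardT' : Nat.card T' ∣ q := by
    rw [hT'K']
    exact hKq ▸ Subgroup.card_map_dvd Ks π
  have hrelT' : T'.relIndex S' = T.relIndex S := by
    rw [hT', hS', Subgroup.relIndex_map_map, hker, sup_eq_left.mpr inf_le_left,
      sup_eq_left.mpr (inf_le_left.trans hTS)]
  have hcop' : (Nat.card T').Coprime (T'.relIndex S') := by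
    rw [hrelT']
    exact Nat.Coprime.coprime_dvd_left hcardT' ((Nat.Prime.coprime_iff_not_dvd hq).mpr hTq)
  have hbot := inf_commutator_eq_bot_of_central S' T' (Subgroup.map_mono hTS) hT'cent hcop'
  have hK'bot : K' = ⊥ := by
    rw [eq_bot_iff, ← hbot]
    refine le_inf (hT'K' ▸ le_rfl) ?_
    rw [hS', ← Subgroup.map_commutator]
    exact Subgroup.map_mono hKS'
  have hKCT : Ks ≤ CT := by
    have := (Subgroup.map_eq_bot_iff Ks).mp hK'bot
    rwa [hker] at this
  have hTCT : T ≤ CT := hTCK.trans (sup_le le_rfl hKCT)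
  have hQcentN : Q ≤ Subgroup.centralizer (N : Set X) := hQT.trans (hTCT.trans inf_le_right)
  have hTQn : T ≤ Subgroup.normalizer (Q : Set X) := by
    refine hTNQ.trans (sup_le ?_ Subgroup.le_normalizer)
    exact (Subgroup.le_centralizer_iff.mp hQcentN).trans (Subgroup.centralizer_le_normalizer _)
  haveI hQn : Q.Normal := normal_of_normal_hall hQT hTQn hQcop
  refine ⟨Q, hQT.trans hTS, hQn, hQp, ?_⟩
  rw [← Subgroup.relIndex_mul_relIndex Q T S hQT hTS]
  intro hd
  rcases (Nat.Prime.dvd_mul hq).mp hd with h | h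
  exacts [hQq'' h, hTq h]

end Cfsg.Agent.Helper4.BG15X
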