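import Mathlib
import Cfsg.Prelude
import Cfsg.Agent.Helper4.BG15X5

set_option autoImplicit false
set_option linter.unusedSectionVars false
set_option linter.unusedVariables false

/-!
"Theorem X": let `S` be a solvable normal subgroup of odd order of `X`, `k` an element of
prime order `p` not dividing `|S|`, such that `C_S(k)` has prime order `q` and lies in `S'`.
Then `S` has a normal Sylow `q`-subgroup.
-/

namespace Cfsg.Agent.Helper4.BG15X

open Cfsg Cfsg.Agent.Helper1
open scoped commutatorElement Pointwise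

universe u

theorem thmX_aux {p q : ℕ} (hp : p.Prime) (hq : q.Prime) : ∀ (n : ℕ) (X : Type u) [Group X]
    [Finite X] (S : Subgroup X) (hSn : S.Normal) (k : X), Nat.card S = n → Odd (Nat.card S) →
    Group.IsSolvable ↥S → k ^ p = 1 → ¬ p ∣ Nat.card S →
    Nat.card ↥(S ⊓ Subgroup.centralizer ({k} : Set X)) = q →
    S ⊓ Subgroup.centralizer ({k} : Set X) ≤ ⁅S, S⁆ →
    ∃ Q : Subgroup X, Q ≤ S ∧ Q.Normal ∧ IsPGroup q ↥Q ∧ ¬ q ∣ Q.relIndex S := by
  intro n
  induction n using Nat.strong_induction_on with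
  | _ n ih =>
  intro X _ _ S hSn k hn hodd hsolv hk hpS hKq hKS'
  haveI := hSn
  haveI : Fact q.Prime := ⟨hq⟩
  set Ks := S ⊓ Subgroup.centralizer ({k} : Set X) with hKs
  have hS1 : S ≠ ⊥ := by
    intro h
    have h1 : Ks = ⊥ := by rw [hKs, h, bot_inf_eq]
    rw [h1, Subgroup.card_bot] at hKq
    exact hq.one_lt.ne hKq
  obtain ⟨r, hr, N, hNn, hNS, hN1, hN⟩ := exists_normal_elementary_le S hsolv hS1
  haveI := hNn
  have hrp : r.Prime := hr.out
  rcases le_or_inf_eq_bot_of_card_prime hq hKq (N := N) with hKN | hKN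
  · -- case 1
    have hrq : r = q := by
      have hNr := isPGroup_of_elementary hN
      obtain ⟨m, hm⟩ := hNr.exists_card_eq
      have h1 : q ∣ r ^ m := hm ▸ hKq ▸ Subgroup.card_dvd_of_le hKN
      exact ((Nat.prime_dvd_prime_iff_eq hq hrp).mp (hq.dvd_of_dvd_pow h1)).symm
    subst hrq
    exact thmX_case1 hp hrp S N hNS (isPGroup_of_elementary hN) hsolv k hk hpS hKN
  · -- case 2
    set π := QuotientGroup.mk' N with hπ
    have hπs : Function.Surjective π := QuotientGroup.mk'_surjective N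
    have hker : π.ker = N := QuotientGroup.ker_mk' N
    set S' := S.map π with hS'
    have hS'n : S'.Normal := hSn.map π hπs
    have hcop : (orderOf k).Coprime (Nat.card S) := by
      have h1 : orderOf k ∣ p := orderOf_dvd_of_pow_eq_one hk
      rcases (Nat.dvd_prime hp).mp h1 with h | h
      · rw [h]; exact Nat.coprime_one_left _
      · rw [h]; exact (Nat.Prime.coprime_iff_not_dvd hp).mpr hpS
    have hfix' : S' ⊓ Subgroup.centralizer ({π k} : Set (X ⧸ N)) = Ks.map π :=
      fix_map_mk' N S hNS k hcop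
    have hcardS' : Nat.card S' * Nat.card N = Nat.card S := card_map_mk' N S hNS
    have hNcard : 1 < Nat.card N := (Subgroup.one_lt_card_iff_ne_bot N).mpr hN1
    have hlt : Nat.card S' < n := by
      rw [← hn, ← hcardS']
      have := Nat.card_pos (α := ↥S')
      nlinarith
    have hdvd : Nat.card S' ∣ Nat.card S := Dvd.intro _ hcardS'
    have hcardK' : Nat.card ↥(Ks.map π) = q := by
      rw [card_map_mk'_of_inf_eq_bot N Ks hKN]; exact hKq
    obtain ⟨Q', hQ'S', hQ'n, hQ'q, hQ'q'⟩ := ih (Nat.card S') hlt (X ⧸ N) S' hS'n (π k) rfl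
      (hodd.of_dvd_nat hdvd) (isSolvable_map π S hsolv) (by rw [← map_pow, hk, map_one])
      (fun h => hpS (h.trans hdvd)) (by rw [hfix']; exact hcardK')
      (by rw [hfix', hS', ← Subgroup.map_commutator]; exact Subgroup.map_mono hKS')
    haveI := hQ'n
    set T := Q'.comap π with hT
    haveI hTn : T.Normal := hQ'n.comap π
    have hNT : N ≤ T := by
      intro x hx
      rw [hT, Subgroup.mem_comap]
      have : π x = 1 := by
        rw [← MonoidHom.mem_ker, hker]; exact hx
      rw [this]; exact Q'.one_mem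
    have hTS : T ≤ S := by
      have h1 : T ≤ S'.comap π := Subgroup.comap_mono hQ'S'
      rwa [hS', Subgroup.comap_map_eq, hker, sup_eq_left.mpr hNS] at h1
    have hTq : ¬ q ∣ T.relIndex S := by
      rw [hT, Subgroup.relIndex_comap]; exact hQ'q'
    have hTmap : T.map π = Q' := Subgroup.map_comap_eq_self_of_surjective hπs Q'
    have hQ'cop : (Nat.card Q').Coprime (Q'.relIndex S') :=
      coprime_card_relIndex_of_isPGroup hQ'q hQ'q'
    have hKT : Ks ≤ T := by
      rw [hT, ← Subgroup.map_le_iff_le_comap]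
      apply le_of_normal_hall_rel hQ'S' (by rw [Subgroup.normalizer_eq_top]; exact le_top)
        (Subgroup.map_mono inf_le_left) hQ'cop
      rw [hcardK']
      have h1 : q ∣ Nat.card S' := by
        have := Subgroup.card_dvd_of_le (show Ks.map π ≤ S' from Subgroup.map_mono inf_le_left)
        rwa [hcardK'] at this
      rw [← relIndex_mul_card_of_le hQ'S'] at h1
      exact ((Nat.Prime.dvd_mul hq).mp h1).resolve_left hQ'q'
    by_cases hrq : r = q
    · subst hrq
      refine ⟨T, hTS, hTn, ?_, hTq⟩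
      apply IsPGroup.comap_of_ker_isPGroup hQ'q
      rw [hker]; exact isPGroup_of_elementary hN
    · have hTN : ∃ a, N.relIndex T = q ^ a := by
        obtain ⟨a, ha⟩ := hQ'q.exists_card_eq
        refine ⟨a, ?_⟩
        rw [← card_map_mk'_eq_relIndex N T hNT, hTmap]; exact ha
      exact thmX_case2 hp hq hrp hrq S T N hNT hTS hN hN1 hTN hodd hsolv k hk hpS hKq hKT hKS' hTq

/-- **Theorem X**. -/
theorem thmX {X : Type u} [Group X] [Finite X] {p q : ℕ} (hp : p.Prime) (hq : q.Prime)
    (S : Subgroup X) [hSn : S.Normal] (k : X) (hodd : Odd (Nat.card S))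
    (hsolv : Group.IsSolvable ↥S) (hk : k ^ p = 1) (hpS : ¬ p ∣ Nat.card S)
    (hKq : Nat.card ↥(S ⊓ Subgroup.centralizer ({k} : Set X)) = q)
    (hKS' : S ⊓ Subgroup.centralizer ({k} : Set X) ≤ ⁅S, S⁆) :
    ∃ Q : Subgroup X, Q ≤ S ∧ Q.Normal ∧ IsPGroup q ↥Q ∧ ¬ q ∣ Q.relIndex S :=
  thmX_aux hp hq _ X S hSn k rfl hodd hsolv hk hpS hKq hKS'

end Cfsg.Agent.Helper4.BG15X
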