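import Mathlib
import Cfsg.Prelude
import Cfsg.Agent.Helper4.BG15X6

set_option autoImplicit false
set_option linter.unusedSectionVars false
set_option linter.unusedVariables false

/-!
"Theorem X", relative form: `S` need not be normal in the ambient group.
-/

namespace Cfsg.Agent.Helper4.BG15X

open Cfsg Cfsg.Agent.Helper1
open scoped commutatorElement Pointwise

universe u

variable {X : Type u} [Group X] [Finite X]

/-- **Theorem X**, relative form. -/
theorem thmX_rel {p q : ℕ} (hp : p.Prime) (hq : q.Prime) (S : Subgroup X) (k : X)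
    (hkS : k ∈ Subgroup.normalizer (S : Set X)) (hodd : Odd (Nat.card S))
    (hsolv : Group.IsSolvable ↥S) (hk : k ^ p = 1) (hpS : ¬ p ∣ Nat.card S)
    (hKq : Nat.card ↥(S ⊓ Subgroup.centralizer ({k} : Set X)) = q)
    (hKS' : S ⊓ Subgroup.centralizer ({k} : Set X) ≤ ⁅S, S⁆) :
    ∃ Q : Subgroup X, Q ≤ S ∧ Subgroup.normalizer (S : Set X) ≤ Subgroup.normalizer (Q : Set X) ∧
      IsPGroup q ↥Q ∧ ¬ q ∣ Q.relIndex S := by
  set H := Subgroup.normalizer (S : Set X) with hH
  have hSH : S ≤ H := Subgroup.le_normalizer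
  set SH := S.subgroupOf H with hSH'
  haveI hSHn : SH.Normal := Subgroup.normal_in_normalizer
  set kH : ↥H := ⟨k, hkS⟩ with hkH
  have hcardSH : Nat.card SH = Nat.card S := card_subgroupOf_of_le hSH
  have hmapSH : SH.map H.subtype = S := by
    rw [hSH', Subgroup.subgroupOf_map_subtype]
    exact inf_eq_left.mpr hSH
  have hsolvSH : Group.IsSolvable ↥SH :=
    Group.isSolvable_of_surjective (f := (Subgroup.subgroupOfEquivOfLe hSH).symm.toMonoidHom)
      (Subgroup.subgroupOfEquivOfLe hSH).symm.surjective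
  have hfixeq : SH ⊓ Subgroup.centralizer ({kH} : Set ↥H) =
      (S ⊓ Subgroup.centralizer ({k} : Set X)).subgroupOf H := by
    ext x
    rw [Subgroup.mem_inf, Subgroup.mem_subgroupOf, Subgroup.mem_subgroupOf, Subgroup.mem_inf,
      Subgroup.mem_centralizer_singleton_iff, Subgroup.mem_centralizer_singleton_iff]
    constructor
    · rintro ⟨h1, h2⟩
      exact ⟨h1, congrArg Subtype.val h2⟩
    · rintro ⟨h1, h2⟩
      exact ⟨h1, Subtype.ext h2⟩
  have hcomm : (⁅SH, SH⁆).map H.subtype = ⁅S, S⁆ := by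
    rw [Subgroup.map_commutator, hmapSH]
  obtain ⟨QH, hQS, hQn, hQq, hQq'⟩ := thmX hp hq SH kH (hcardSH ▸ hodd) hsolvSH
    (Subtype.ext (by simpa using hk)) (hcardSH ▸ hpS)
    (by rw [hfixeq, card_subgroupOf_of_le (inf_le_left.trans hSH)]; exact hKq)
    (by
      intro x hx
      rw [hfixeq, Subgroup.mem_subgroupOf] at hx
      have h1 := hKS' hx
      rw [← hcomm] at h1
      obtain ⟨y, hy, hyx⟩ := h1
      have : y = x := Subtype.ext hyx
      rwa [← this])
  refine ⟨QH.map H.subtype, ?_, ?_, hQq.map _, ?_⟩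
  · rw [← hmapSH]; exact Subgroup.map_mono hQS
  · intro h hh
    rw [Subgroup.mem_normalizer_iff]
    intro x
    constructor
    · rintro ⟨y, hy, rfl⟩
      exact ⟨⟨h, hh⟩ * y * ⟨h, hh⟩⁻¹, hQn.conj_mem y hy ⟨h, hh⟩, rfl⟩
    · rintro ⟨y, hy, hyx⟩
      have h1 := hQn.conj_mem y hy (⟨h, hh⟩ : ↥H)⁻¹
      refine ⟨(⟨h, hh⟩ : ↥H)⁻¹ * y * (⟨h, hh⟩ : ↥H)⁻¹⁻¹, h1, ?_⟩
      have : (y : X) = h * x * h⁻¹ := hyx
      simp only [Subgroup.coe_subtype, Subgroup.coe_mul, Subgroup.coe_inv, this]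
      group
  · have h1 := Subgroup.relIndex_map_map H.subtype QH SH
    rw [Subgroup.ker_subtype, sup_bot_eq, sup_bot_eq, hmapSH] at h1
    rw [h1]; exact hQq'

end Cfsg.Agent.Helper4.BG15X
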