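import Mathlib
import Cfsg.Prelude
import Cfsg.Agent.Helper4.BG15K
import Cfsg.Agent.Helper4.BG15X7
import Cfsg.Agent.Helper1.BG147h
import Cfsg.Agent.Helper1.BGWc
import Cfsg.Agent.Helper1.AbelianAct
import Cfsg.Agent.S1365
import Cfsg.Agent.S1430
import Cfsg.Agent.S1431

set_option autoImplicit false
set_option linter.unusedSectionVars false
set_option linter.unusedVariables false

/-!
Bender–Glauberman Theorem 15.1 (`S1364`): `K*` is cyclic, non-trivial and contained in `M_F`,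
and `M_F` is not cyclic.
-/

namespace Cfsg.Agent.Helper4.BG15

open Cfsg Cfsg.Agent.Helper1 Cfsg.Agent.Helper2 Cfsg.Agent.Helper1.BGT Cfsg.Agent.Helper1.BGU
  Cfsg.Agent.Helper1.BGV Cfsg.Agent.Helper1.BGW Cfsg.Agent.Helper1.BGX Cfsg.Agent.Lead.BG12
  Cfsg.Agent.Lead.BG108 Cfsg.Agent.Helper4.BG10 Cfsg.Agent.Helper4.BG12
open scoped commutatorElement Pointwise

universe u

variable {G : Type u} [Group G] [Finite G]

variable {M K U : Subgroup G}

/-- `K*` is cyclic. -/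
theorem kstar_isCyclic (hG : Cfsg.IsMinSimpleOddOrder G) (hM : IsCoatom M)
    (hK : Cfsg.IsPiHallOf (Cfsg.kappa M) K M) (hK1 : K ≠ ⊥) :
    IsCyclic ↥(Cfsg.sigmaCore M ⊓ Subgroup.centralizer (K : Set G)) := by
  obtain ⟨Ms, e⟩ := Cfsg.Agent.Helper1.BG147.exists_emb' hG hM hK hK1
  exact Cfsg.Agent.Helper1.BG147.kappaHall_cyclic' hG e.coatom e.hall

/-- `K* ≠ 1`. -/
theorem kstar_ne_bot (hG : Cfsg.IsMinSimpleOddOrder G) (hM : IsCoatom M)
    (hK : Cfsg.IsPiHallOf (Cfsg.kappa M) K M) (hK1 : K ≠ ⊥) :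
    Cfsg.sigmaCore M ⊓ Subgroup.centralizer (K : Set G) ≠ ⊥ :=
  Cfsg.Agent.Helper4.BG147H.kstar_ne_bot' hK hK1 (Cfsg.Agent.S1430.result hG M hM K hK hK1).1

/-- if every prime divisor of `|M|` lies in `σ(M) ∪ κ(M)` then `U = 1` -/
theorem U_eq_bot_of_not_notP1 (hG : Cfsg.IsMinSimpleOddOrder G) (hM : IsCoatom M)
    (hKU : Cfsg.IsSigmaDecomposition M K U) (h : ¬ Cfsg.Agent.Helper1.BG147.NotP1 M) : U = ⊥ := by
  by_contra hU
  have hcard : Nat.card U ≠ 1 := fun h => hU (Subgroup.card_eq_one.mp h)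
  obtain ⟨p, hp, hpd⟩ := Nat.exists_prime_and_dvd hcard
  obtain ⟨hpσ, hpκ⟩ := decomp_U_primes hG hM hKU hp hpd
  exact h ⟨p, hp, hpd.trans (Subgroup.card_dvd_of_le (decomp_U_le hKU)), hpκ, hpσ⟩

/-- `|K*|` is prime when `U = 1` (`S1373`). -/
theorem kstar_card_prime_of_not_notP1 (hG : Cfsg.IsMinSimpleOddOrder G) (hM : IsCoatom M)
    (hK : Cfsg.IsPiHallOf (Cfsg.kappa M) K M) (hK1 : K ≠ ⊥)
    (h : ¬ Cfsg.Agent.Helper1.BG147.NotP1 M) :
    (Nat.card ↥(Cfsg.sigmaCore M ⊓ Subgroup.centralizer (K : Set G))).Prime := by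
  obtain ⟨Ms, e⟩ := Cfsg.Agent.Helper1.BG147.exists_emb' hG hM hK hK1
  rcases e.prime with h1 | h1
  · exact absurd h1.2 h
  · exact h1.1

/-- **`K* ≤ M_F`** (BG Theorem 15.1(b)). -/
theorem kstar_le_fittingHallOf (hG : Cfsg.IsMinSimpleOddOrder G) (hM : IsCoatom M)
    (hKU : Cfsg.IsSigmaDecomposition M K U) (hK1 : K ≠ ⊥) :
    Cfsg.sigmaCore M ⊓ Subgroup.centralizer (K : Set G) ≤ Cfsg.fittingHallOf M := by
  have hK := hKU.hall
  by_cases hP1 : Cfsg.Agent.Helper1.BG147.NotP1 M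
  · have hnil := Cfsg.Agent.Helper1.BG147.isNilpotent_sigmaCore_of_notP1 hG hM hP1
    exact inf_le_left.trans (sigmaCore_le_fittingHallOf hG hM hnil)
  · have hU : U = ⊥ := U_eq_bot_of_not_notP1 hG hM hKU hP1
    have hprime := kstar_card_prime_of_not_notP1 hG hM hK hK1 hP1
    set Ks := Cfsg.sigmaCore M ⊓ Subgroup.centralizer (K : Set G) with hKs
    set q := Nat.card Ks with hq
    haveI : Fact q.Prime := ⟨hprime⟩
    have hcardK : Nat.card K ≠ 1 := fun h => hK1 (Subgroup.card_eq_one.mp h)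
    obtain ⟨p, hp, hpd⟩ := Nat.exists_prime_and_dvd hcardK
    haveI : Fact p.Prime := ⟨hp⟩
    obtain ⟨k, hk⟩ := exists_prime_orderOf_dvd_card' (G := ↥K) p hpd
    have hk1 : (k : G) ≠ 1 := by
      intro h
      have : k = 1 := Subtype.ext h
      rw [this, orderOf_one] at hk
      exact hp.one_lt.ne hk
    have hkp : (k : G) ^ p = 1 := by
      have h1 : k ^ p = 1 := by rw [← hk]; exact pow_orderOf_eq_one k
      have := congrArg Subtype.val h1
      simpa using this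
    have h1430 := (Cfsg.Agent.S1430.result hG M hM K hK hK1).1 k k.2 hk1
    have h1365 := Cfsg.Agent.S1365.result hG M hM K U hKU hK1
    have hM' : ⁅M, M⁆ = Cfsg.sigmaCore M := by rw [h1365.1, hU, bot_sup_eq]
    have hKs'' : Ks ≤ ⁅Cfsg.sigmaCore M, Cfsg.sigmaCore M⁆ := by
      have := h1365.2
      rwa [hM'] at this
    have hσM : Cfsg.sigmaCore M ≤ M := sigmaCore_le
    have hsolvM : Group.IsSolvable ↥M := hG.2.2.2 M hM.1
    have hpσ : ¬ p ∣ Nat.card (Cfsg.sigmaCore M) := by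
      intro h
      exact (hK.2.1 p hp hpd).2.2.1 (Cfsg.Agent.Lead.BG12.mem_sigma_of_dvd_card_sigmaCore hp h)
    obtain ⟨Q, hQS, hQn, hQq, hQq'⟩ := Cfsg.Agent.Helper4.BG15X.thmX_rel hp hprime
      (Cfsg.sigmaCore M) (k : G) (le_normalizer_sigmaCore M (hK.1 k.2))
      (hG.1.of_dvd_nat (Subgroup.card_subgroup_dvd_card _))
      (isSolvable_of_le hσM hsolvM) hkp hpσ (by rw [h1430]) (by rw [h1430]; exact hKs'')
    have hqσ : q ∣ Nat.card (Cfsg.sigmaCore M) := Subgroup.card_dvd_of_le inf_le_left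
    have hqQ : q ∣ Nat.card Q := by
      rw [← relIndex_mul_card_of_le hQS] at hqσ
      exact ((Nat.Prime.dvd_mul hprime).mp hqσ).resolve_left hQq'
    have hQcop : (Nat.card Q).Coprime (Q.relIndex (Cfsg.sigmaCore M)) :=
      Cfsg.Agent.Helper4.BG15X.coprime_card_relIndex_of_isPGroup hQq hQq'
    have hKQ : Ks ≤ Q :=
      le_of_normal_hall_rel hQS (Subgroup.le_normalizer.trans hQn) inf_le_left hQcop hqQ
    have hMQ : M ≤ Subgroup.normalizer (Q : Set G) := (le_normalizer_sigmaCore M).trans hQn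
    have hqσ' : q ∈ Cfsg.sigma M := Cfsg.Agent.Lead.BG12.mem_sigma_of_dvd_card_sigmaCore hprime hqσ
    have hQM : ¬ q ∣ Q.relIndex M := by
      rw [← Subgroup.relIndex_mul_relIndex Q (Cfsg.sigmaCore M) M hQS hσM]
      intro hd
      rcases (Nat.Prime.dvd_mul hprime).mp hd with h | h
      · exact hQq' h
      · exact (Cfsg.Agent.Lead.BG12.sigmaCore_hall hG M hM).1.2.2 q hprime hqσ' h
    have hQF : Q ≤ Cfsg.fittingHallOf M :=
      CNMax.le_fittingHallOf M Q (hQS.trans hσM) hMQ hQq.isNilpotent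
        (Cfsg.Agent.Helper4.BG15X.coprime_card_relIndex_of_isPGroup hQq hQM)
    exact hKQ.trans hQF

/-- **`M_F` is not cyclic** (BG Theorem 15.1(b)). -/
theorem fittingHallOf_not_isCyclic (hG : Cfsg.IsMinSimpleOddOrder G) (hM : IsCoatom M)
    (hKU : Cfsg.IsSigmaDecomposition M K U) (hK1 : K ≠ ⊥) :
    ¬ IsCyclic ↥(Cfsg.fittingHallOf M) := by
  intro hcyc
  have hK := hKU.hall
  set F := Cfsg.fittingHallOf M with hF
  set Ks := Cfsg.sigmaCore M ⊓ Subgroup.centralizer (K : Set G) with hKs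
  have hKsF : Ks ≤ F := kstar_le_fittingHallOf hG hM hKU hK1
  have hKs1 : Ks ≠ ⊥ := kstar_ne_bot hG hM hK hK1
  have hFσ : F ≤ Cfsg.sigmaCore M := fittingHallOf_le_sigmaCore hG hM
  have hσM : Cfsg.sigmaCore M ≤ M := sigmaCore_le
  have hFM : F ≤ M := hFσ.trans hσM
  have hFcomm' : ∀ x ∈ F, ∀ y ∈ F, x * y = y * x := by
    intro x hx y hy
    letI : CommGroup ↥F := IsCyclic.commGroup
    have := mul_comm (⟨x, hx⟩ : ↥F) ⟨y, hy⟩
    exact congrArg Subtype.val this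
  haveI hFcomm : IsMulCommutative ↥F :=
    ⟨⟨fun a b => Subtype.ext (hFcomm' a a.2 b b.2)⟩⟩
  have hKF : K ≤ Subgroup.normalizer (F : Set G) :=
    hK.1.trans (CNMax.le_normalizer_fittingHallOf M)
  have hcop : (Nat.card K).Coprime (Nat.card F) :=
    Nat.Coprime.coprime_dvd_right (Subgroup.card_dvd_of_le hFσ) (decomp_coprime_K_sigmaCore hKU)
  obtain ⟨hdisj, hsup⟩ := abelian_coprime_decomp K F hKF hcop
  have hFC : F ⊓ Subgroup.centralizer (K : Set G) = Ks :=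
    le_antisymm (inf_le_inf_right _ hFσ) (le_inf hKsF inf_le_right)
  rw [hFC] at hdisj hsup
  set D := ⁅F, K⁆ with hD
  have hDF : D ≤ F := Subgroup.le_normalizer_iff_commutator_le_left.mp hKF
  have hcardKs : Nat.card Ks ≠ 1 := fun h => hKs1 (Subgroup.card_eq_one.mp h)
  obtain ⟨p', hp', hp'd⟩ := Nat.exists_prime_and_dvd hcardKs
  haveI : Fact p'.Prime := ⟨hp'⟩
  have hp'D : ¬ p' ∣ Nat.card D := by
    intro hd
    obtain ⟨x, hx⟩ := exists_prime_orderOf_dvd_card' (G := ↥Ks) p' hp'd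
    obtain ⟨y, hy⟩ := exists_prime_orderOf_dvd_card' (G := ↥D) p' hd
    have hxo : orderOf (x : G) = p' := by rw [Subgroup.orderOf_coe]; exact hx
    have hyo : orderOf (y : G) = p' := by rw [Subgroup.orderOf_coe]; exact hy
    have h1 : Subgroup.zpowers (x : G) ≤ Subgroup.zpowers (y : G) :=
      le_of_card_dvd_of_isCyclic hcyc
        (by rw [Subgroup.zpowers_le]; exact hKsF x.2)
        (by rw [Subgroup.zpowers_le]; exact hDF y.2)
        (by rw [Nat.card_zpowers, Nat.card_zpowers, hxo, hyo])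
    have h2 : (x : G) ∈ Ks ⊓ D := by
      refine ⟨x.2, ?_⟩
      have h3 : Subgroup.zpowers (y : G) ≤ D := by rw [Subgroup.zpowers_le]; exact y.2
      exact h3 (h1 (Subgroup.mem_zpowers _))
    rw [hdisj, Subgroup.mem_bot] at h2
    rw [h2, orderOf_one] at hxo
    exact hp'.one_lt.ne hxo
  obtain ⟨S⟩ : Nonempty (Sylow p' ↥(Cfsg.sigmaCore M)) := inferInstance
  set S' := (S : Subgroup ↥(Cfsg.sigmaCore M)).map (Cfsg.sigmaCore M).subtype with hS'
  have h1431 := ((Cfsg.Agent.S1431.result hG M hM K hK hK1).2.2.1 p' hp' hp'd S).2.2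
  apply h1431
  have hS'σ : S' ≤ Cfsg.sigmaCore M := Subgroup.map_subtype_le _
  have hS'p : IsPGroup p' ↥S' := S.2.map _
  have hS'F : S' ≤ F :=
    le_fittingHallOf_of_isPGroup (hS'σ.trans hσM) hS'p
      (hp'd.trans (Subgroup.card_dvd_of_le hKsF))
  apply le_of_card_dvd_of_isCyclic hcyc hS'F hKsF
  have hKsD : Ks ≤ Subgroup.normalizer (D : Set G) := by
    intro x hx
    apply Subgroup.centralizer_le_normalizer
    rw [Subgroup.mem_centralizer_iff]
    intro y hy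
    exact hFcomm' y (hDF hy) x (hKsF hx)
  have hcardF : Nat.card F = Nat.card Ks * Nat.card D := by
    have h5 := card_sup_of_le_normalizer (N := D) (A := Ks) hKsD hdisj
    rw [sup_comm, hsup] at h5
    exact h5
  obtain ⟨a, ha⟩ := hS'p.exists_card_eq
  have h3 : Nat.card S' ∣ Nat.card Ks * Nat.card D := hcardF ▸ Subgroup.card_dvd_of_le hS'F
  have h4 : (Nat.card S').Coprime (Nat.card D) := by
    rw [ha]
    exact Nat.Coprime.pow_left a ((Nat.Prime.coprime_iff_not_dvd hp').mpr hp'D)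
  exact h4.dvd_of_dvd_mul_right h3

/-- **BG Theorem 15.1(b)** = `S1364`. -/
theorem thm1364 (hG : Cfsg.IsMinSimpleOddOrder G) (hM : IsCoatom M)
    (hKU : Cfsg.IsSigmaDecomposition M K U) (hK1 : K ≠ ⊥) :
    IsCyclic ↥(Cfsg.sigmaCore M ⊓ Subgroup.centralizer (K : Set G)) ∧
      (Cfsg.sigmaCore M ⊓ Subgroup.centralizer (K : Set G)) ≠ ⊥ ∧
      (Cfsg.sigmaCore M ⊓ Subgroup.centralizer (K : Set G)) ≤ Cfsg.fittingHallOf M ∧
      ¬ IsCyclic (Cfsg.fittingHallOf M) :=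
  ⟨kstar_isCyclic hG hM hKU.hall hK1, kstar_ne_bot hG hM hKU.hall hK1,
    kstar_le_fittingHallOf hG hM hKU hK1, fittingHallOf_not_isCyclic hG hM hKU hK1⟩

end Cfsg.Agent.Helper4.BG15
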