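import Mathlib
import Cfsg.Prelude
import Cfsg.Agent.Helper4.BG15L
import Cfsg.Agent.S1351
import Cfsg.Agent.S1352
import Cfsg.Agent.S1359

set_option autoImplicit false
set_option linter.unusedSectionVars false
set_option linter.unusedVariables false

/-!
Bender–Glauberman Theorem 15.2 and Corollary 15.3, unconditional versions.
-/

namespace Cfsg.Agent.Helper4.BG15

open Cfsg
open scoped commutatorElement Pointwise

universe u

variable {G : Type u} [Group G] [Finite G]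

variable {M K U : Subgroup G}

/-- Every maximal subgroup has a standard factorisation. -/
theorem exists_sigmaDecomposition (hG : Cfsg.IsMinSimpleOddOrder G) (hM : IsCoatom M) :
    ∃ K U : Subgroup G, Cfsg.IsSigmaDecomposition M K U := by
  obtain ⟨⟨K, hK⟩, hcyc⟩ := Cfsg.Agent.S1351.result hG M hM
  obtain ⟨⟨U, hKU⟩, -⟩ := Cfsg.Agent.S1352.result hG M hM K (hcyc K hK) hK
  exact ⟨K, U, hKU⟩

/-- `S1355` -/
theorem thm152a' (hG : Cfsg.IsMinSimpleOddOrder G) (hM : IsCoatom M) :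
    Cfsg.fittingHallOf M ≠ ⊥ ∧ Cfsg.fittingHallOf M ≤ Cfsg.sigmaCore M ∧
      Cfsg.sigmaCore M ≤ ⁅M, M⁆ ∧ ⁅M, M⁆ < M ∧
      Group.IsNilpotent ↥((commutator ↥M).map (QuotientGroup.mk' (Cfsg.fittingHall ↥M))) := by
  obtain ⟨K, U, hKU⟩ := exists_sigmaDecomposition hG hM
  exact thm152a hG hM hKU (fun hK1 => thm1364 hG hM hKU hK1)

/-- `S1356` -/
theorem thm152b' (hG : Cfsg.IsMinSimpleOddOrder G) (hM : IsCoatom M) :
    ⁅⁅M, M⁆, ⁅M, M⁆⁆ ≤ Cfsg.fittingOf M ∧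
      Cfsg.fittingOf M =
        (M ⊓ Subgroup.centralizer (Cfsg.fittingHallOf M : Set G)) ⊔ Cfsg.fittingHallOf M ∧
      ((Cfsg.kappa M).Nonempty → Cfsg.fittingOf M ≤ ⁅M, M⁆) := by
  obtain ⟨K, U, hKU⟩ := exists_sigmaDecomposition hG hM
  exact thm152b hG hM hKU (fun hK1 => thm1364 hG hM hKU hK1)
    (Cfsg.Agent.S1359.result hG M hM K U hKU)

/-- `S1357` -/
theorem thm152c' (hG : Cfsg.IsMinSimpleOddOrder G) (hM : IsCoatom M)
    (hKU : Cfsg.IsSigmaDecomposition M K U) (hne : Cfsg.fittingHallOf M ≠ Cfsg.sigmaCore M) :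
    U = ⊥ ∧ Cfsg.IsTISubset (Cfsg.fittingOf M : Set G) ∧ (Nat.card K).Prime :=
  thm152c hG hM hKU (fun hK1 => thm1364 hG hM hKU hK1) hne

/-- `S1438` -/
theorem thm153' (hG : Cfsg.IsMinSimpleOddOrder G) (hM : IsCoatom M)
    (H : Subgroup G) (hH : H ≤ Cfsg.sigmaCore M) (hH1 : H ≠ ⊥)
    (hHall : (Nat.card H).Coprime (H.relIndex (Cfsg.sigmaCore M))) :
    (∃ X : Subgroup G, IsCyclic X ∧ (∀ p : ℕ, p.Prime → p ∣ Nat.card X → p ∈ Cfsg.tau2 M) ∧
        M ⊓ Subgroup.centralizer (H : Set G) =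
          (Cfsg.sigmaCore M ⊓ Subgroup.centralizer (H : Set G)) ⊔ X) ∧
      ∀ x ∈ H, ∀ g : G, g * x * g⁻¹ ∈ H →
        ∃ n ∈ M ⊓ Subgroup.normalizer (H : Set G), n * x * n⁻¹ = g * x * g⁻¹ := by
  obtain ⟨K, U, hKU⟩ := exists_sigmaDecomposition hG hM
  exact thm153 hG hM hKU (fun hK1 => thm1364 hG hM hKU hK1)
    (Cfsg.Agent.S1359.result hG M hM K U hKU) H hH hH1 hHall

end Cfsg.Agent.Helper4.BG15
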