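import Mathlib
import Cfsg.Prelude
import Cfsg.Agent.Helper4.BG13b
import Cfsg.Agent.Helper4.BG15X4
import Cfsg.Agent.Helper4.FrattiniQuotient
import Cfsg.Agent.Helper1.FrattiniAct

set_option autoImplicit false
set_option linter.unusedSectionVars false
set_option linter.unusedVariables false

/-!
A `q`-group `Q` acted on by a Frobenius group `D K` (`K` of prime order `p`, `D` a nilpotent
`q'`-group) with `|C_Q(K)| = q` and `[Q, D] ≠ 1`: then `|Q : C_Q(D)| = q ^ p`,
`Φ(Q) ≤ C_Q(D)`, and `Q / C_Q(D)` is `D K`-irreducible.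
-/

namespace Cfsg.Agent.Helper4.BG15

open Cfsg Cfsg.Agent.Helper1
open scoped commutatorElement Pointwise

universe u

variable {X : Type u} [Group X] [Finite X]

/-- the normalizer of `D` normalizes the centralizer of `D` -/
theorem normalizer_le_normalizer_centralizer (D : Subgroup X) :
    Subgroup.normalizer (D : Set X) ≤
      Subgroup.normalizer ((Subgroup.centralizer (D : Set X) : Subgroup X) : Set X) := by
  have key : ∀ g ∈ Subgroup.normalizer (D : Set X), ∀ x ∈ Subgroup.centralizer (D : Set X),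
      g * x * g⁻¹ ∈ Subgroup.centralizer (D : Set X) := by
    intro g hg x hx
    rw [Subgroup.mem_centralizer_iff] at hx ⊢
    intro d hd
    have hd' : g⁻¹ * d * g ∈ D := by
      have := (Subgroup.mem_normalizer_iff.mp (inv_mem hg) d).mp hd
      simpa using this
    have h1 := hx _ hd'
    calc d * (g * x * g⁻¹) = g * ((g⁻¹ * d * g) * x) * g⁻¹ := by group
      _ = g * (x * (g⁻¹ * d * g)) * g⁻¹ := by rw [h1]
      _ = g * x * g⁻¹ * d := by group
  intro g hg
  rw [Subgroup.mem_normalizer_iff]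
  intro x
  refine ⟨key g hg x, fun h => ?_⟩
  have := key g⁻¹ (inv_mem hg) _ h
  simpa [mul_assoc] using this

theorem le_normalizer_inf {A H₁ H₂ : Subgroup X} (h₁ : A ≤ Subgroup.normalizer (H₁ : Set X))
    (h₂ : A ≤ Subgroup.normalizer (H₂ : Set X)) :
    A ≤ Subgroup.normalizer ((H₁ ⊓ H₂ : Subgroup X) : Set X) := by
  intro a ha
  rw [Subgroup.mem_normalizer_iff]
  intro x
  rw [Subgroup.mem_inf, Subgroup.mem_inf, (Subgroup.mem_normalizer_iff.mp (h₁ ha) x),
    (Subgroup.mem_normalizer_iff.mp (h₂ ha) x)]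

theorem le_normalizer_sup {A H₁ H₂ : Subgroup X} (h₁ : A ≤ Subgroup.normalizer (H₁ : Set X))
    (h₂ : A ≤ Subgroup.normalizer (H₂ : Set X)) :
    A ≤ Subgroup.normalizer ((H₁ ⊔ H₂ : Subgroup X) : Set X) := by
  intro a ha
  apply mem_normalizer_of_conj_smul_eq
  rw [Subgroup.smul_sup, conj_smul_eq_of_mem_normalizer (h₁ ha),
    conj_smul_eq_of_mem_normalizer (h₂ ha)]

/-- `C(D ⊔ K) = C(D) ⊓ C(K)` -/
theorem centralizer_sup_eq (D K : Subgroup X) :
    Subgroup.centralizer ((D ⊔ K : Subgroup X) : Set X) =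
      Subgroup.centralizer (D : Set X) ⊓ Subgroup.centralizer (K : Set X) := by
  apply le_antisymm
  · exact le_inf (Subgroup.centralizer_le (by exact_mod_cast (le_sup_left : D ≤ D ⊔ K)))
      (Subgroup.centralizer_le (by exact_mod_cast (le_sup_right : K ≤ D ⊔ K)))
  · intro x hx
    have h1 : D ≤ Subgroup.centralizer ({x} : Set X) := by
      intro d hd
      rw [Subgroup.mem_centralizer_singleton_iff]
      exact Subgroup.mem_centralizer_iff.mp hx.1 d hd
    have h2 : K ≤ Subgroup.centralizer ({x} : Set X) := by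
      intro d hd
      rw [Subgroup.mem_centralizer_singleton_iff]
      exact Subgroup.mem_centralizer_iff.mp hx.2 d hd
    rw [Subgroup.mem_centralizer_iff]
    intro y hy
    have := (sup_le h1 h2) hy
    rw [Subgroup.mem_centralizer_singleton_iff] at this
    exact this

/-- **Frobenius action on a `q`-group.** -/
theorem frobQ {p q : ℕ} (hp : p.Prime) (hq : q.Prime) (Q D K : Subgroup X)
    (hQq : IsPGroup q ↥Q) (hKQ : K ≤ Subgroup.normalizer (Q : Set X))
    (hDQ : D ≤ Subgroup.normalizer (Q : Set X)) (hKD : K ≤ Subgroup.normalizer (D : Set X))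
    (hKp : Nat.card K = p) (hDnil : Group.IsNilpotent ↥D) (hqD : ¬ q ∣ Nat.card D)
    (hqp : q ≠ p) (hfpf : D ⊓ Subgroup.centralizer (K : Set X) = ⊥)
    (hKs : Nat.card ↥(Q ⊓ Subgroup.centralizer (K : Set X)) = q)
    (hQD : ¬ Q ≤ Subgroup.centralizer (D : Set X)) :
    Nat.card Q = Nat.card ↥(Q ⊓ Subgroup.centralizer (D : Set X)) * q ^ p ∧
      (∀ a ∈ Q, ∀ b ∈ Q, a ^ q ∈ Q ⊓ Subgroup.centralizer (D : Set X) ∧
        a * b * a⁻¹ * b⁻¹ ∈ Q ⊓ Subgroup.centralizer (D : Set X)) ∧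
      Q ≤ Subgroup.normalizer ((Q ⊓ Subgroup.centralizer (D : Set X) : Subgroup X) : Set X) ∧
      (Q ⊓ Subgroup.centralizer (K : Set X)) ⊓ (Q ⊓ Subgroup.centralizer (D : Set X)) = ⊥ ∧
      ∀ N : Subgroup X, Q ⊓ Subgroup.centralizer (D : Set X) ≤ N → N ≤ Q →
        K ≤ Subgroup.normalizer (N : Set X) → D ≤ Subgroup.normalizer (N : Set X) →
        N = Q ⊓ Subgroup.centralizer (D : Set X) ∨ N = Q := by
  haveI : Fact p.Prime := ⟨hp⟩
  haveI : Fact q.Prime := ⟨hq⟩
  set Q₀ := Q ⊓ Subgroup.centralizer (D : Set X) with hQ₀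
  set Ks := Q ⊓ Subgroup.centralizer (K : Set X) with hKs'
  have hKprime : (Nat.card K).Prime := hKp ▸ hp
  -- `K ∩ D = 1`
  have hKcomm : K ≤ Subgroup.centralizer (K : Set X) := by
    haveI : IsCyclic ↥K := isCyclic_of_prime_card hKp
    intro x hx
    rw [Subgroup.mem_centralizer_iff]
    intro y hy
    letI : CommGroup ↥K := IsCyclic.commGroup
    have := mul_comm (⟨y, hy⟩ : ↥K) ⟨x, hx⟩
    exact congrArg Subtype.val this
  have hKDbot : K ⊓ D = ⊥ := by
    rw [eq_bot_iff, ← hfpf]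
    exact le_inf inf_le_right (inf_le_left.trans hKcomm)
  have hcardDK : Nat.card ↥(D ⊔ K) = Nat.card K * Nat.card D :=
    card_sup_of_le_normalizer hKD hKDbot
  -- the key formula
  have key : ∀ N : Subgroup X, N ≤ Q → K ≤ Subgroup.normalizer (N : Set X) →
      D ≤ Subgroup.normalizer (N : Set X) →
      Nat.card ↥(N ⊓ (Q₀ ⊓ Ks)) ^ p * Nat.card N =
        Nat.card ↥(N ⊓ Ks) ^ p * Nat.card ↥(N ⊓ Q₀) := by
    intro N hNQ hKN hDN
    have hNq : IsPGroup q ↥N := hQq.to_le hNQ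
    obtain ⟨n, hn⟩ := hNq.exists_card_eq
    have hsolvN : Group.IsSolvable ↥N := by
      haveI := hNq.isNilpotent
      infer_instance
    have hcop : (Nat.card ↥(D ⊔ K)).Coprime (Nat.card N) := by
      rw [hcardDK, hn, hKp]
      apply Nat.Coprime.pow_right
      apply Nat.Coprime.mul_left
      · exact (Nat.coprime_primes hp hq).mpr (Ne.symm hqp)
      · exact ((Nat.Prime.coprime_iff_not_dvd hq).mpr hqD).symm
    have h := Cfsg.Agent.Helper4.BG13.frob_formula N D K hDN hKN hKD hDnil hKprime hfpf hsolvN hcop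
    rw [hKp] at h
    have e1 : N ⊓ Subgroup.centralizer ((D ⊔ K : Subgroup X) : Set X) = N ⊓ (Q₀ ⊓ Ks) := by
      rw [centralizer_sup_eq, hQ₀, hKs']
      apply le_antisymm
      · exact le_inf inf_le_left (le_inf (le_inf (inf_le_left.trans hNQ)
          (inf_le_right.trans inf_le_left)) (le_inf (inf_le_left.trans hNQ)
          (inf_le_right.trans inf_le_right)))
      · exact le_inf inf_le_left (le_inf (inf_le_right.trans (inf_le_left.trans inf_le_right))
          (inf_le_right.trans (inf_le_right.trans inf_le_right)))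
    have e2 : N ⊓ Subgroup.centralizer (K : Set X) = N ⊓ Ks := by
      rw [hKs']
      apply le_antisymm
      · exact le_inf inf_le_left (le_inf (inf_le_left.trans hNQ) inf_le_right)
      · exact le_inf inf_le_left (inf_le_right.trans inf_le_right)
    have e3 : N ⊓ Subgroup.centralizer (D : Set X) = N ⊓ Q₀ := by
      rw [hQ₀]
      apply le_antisymm
      · exact le_inf inf_le_left (le_inf (inf_le_left.trans hNQ) inf_le_right)
      · exact le_inf inf_le_left (inf_le_right.trans inf_le_right)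
    rw [e1, e2, e3] at h
    exact h
  have hQ₀Q : Q₀ ≤ Q := inf_le_left
  have hKsQ : Ks ≤ Q := inf_le_left
  have hqpos : 0 < q ^ p := pow_pos hq.pos p
  -- F1
  have hF1 : Ks ⊓ Q₀ = ⊥ := by
    rcases Cfsg.Agent.Helper4.BG15X.le_or_inf_eq_bot_of_card_prime hq hKs (N := Q₀) with h | h
    · exfalso
      apply hQD
      have h1 := key Q le_rfl hKQ hDQ
      have e1 : Q ⊓ (Q₀ ⊓ Ks) = Ks := by
        apply le_antisymm (inf_le_right.trans inf_le_right)
        exact le_inf hKsQ (le_inf h le_rfl)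
      have e2 : Q ⊓ Ks = Ks := inf_eq_right.mpr hKsQ
      have e3 : Q ⊓ Q₀ = Q₀ := inf_eq_right.mpr hQ₀Q
      rw [e1, e2, e3, hKs] at h1
      have h2 : Nat.card Q = Nat.card Q₀ := Nat.eq_of_mul_eq_mul_left hqpos h1
      have h3 : Q₀ = Q := Subgroup.eq_of_le_of_card_ge hQ₀Q h2.le
      rw [← h3]
      exact inf_le_right
    · exact h
  -- F2
  have hF2 : ∀ N : Subgroup X, N ≤ Q → K ≤ Subgroup.normalizer (N : Set X) →
      D ≤ Subgroup.normalizer (N : Set X) → Ks ≤ N →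
      Nat.card N = q ^ p * Nat.card ↥(N ⊓ Q₀) := by
    intro N hNQ hKN hDN hKsN
    have h1 := key N hNQ hKN hDN
    have e1 : N ⊓ (Q₀ ⊓ Ks) = ⊥ := by
      rw [eq_bot_iff, ← hF1, inf_comm Ks Q₀]
      exact inf_le_right
    have e2 : N ⊓ Ks = Ks := inf_eq_right.mpr hKsN
    rw [e1, e2, hKs, Subgroup.card_bot, one_pow, one_mul] at h1
    exact h1
  -- F3
  have hF3 : ∀ N : Subgroup X, N ≤ Q → K ≤ Subgroup.normalizer (N : Set X) →
      D ≤ Subgroup.normalizer (N : Set X) → Ks ⊓ N = ⊥ → N ≤ Q₀ := by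
    intro N hNQ hKN hDN hKsN
    have h1 := key N hNQ hKN hDN
    have e2 : N ⊓ Ks = ⊥ := by rw [inf_comm]; exact hKsN
    have e1 : N ⊓ (Q₀ ⊓ Ks) = ⊥ := by
      rw [eq_bot_iff, ← e2]
      exact le_inf inf_le_left (inf_le_right.trans inf_le_right)
    rw [e1, e2, Subgroup.card_bot, one_pow, one_mul, one_mul] at h1
    have h3 : N ⊓ Q₀ = N := Subgroup.eq_of_le_of_card_ge inf_le_left h1.le
    exact inf_eq_left.mp h3
  have hcardQ : Nat.card Q = q ^ p * Nat.card Q₀ := by
    have := hF2 Q le_rfl hKQ hDQ hKsQ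
    rwa [inf_eq_right.mpr hQ₀Q] at this
  have hQ₀ne : Q₀ ≠ Q := by
    intro h
    apply hQD
    rw [← h]
    exact inf_le_right
  -- invariance of `Q₀`
  have hKQ₀ : K ≤ Subgroup.normalizer (Q₀ : Set X) :=
    le_normalizer_inf hKQ (hKD.trans (normalizer_le_normalizer_centralizer D))
  have hDQ₀ : D ≤ Subgroup.normalizer (Q₀ : Set X) :=
    le_normalizer_inf hDQ (Subgroup.le_normalizer.trans (normalizer_le_normalizer_centralizer D))
  -- the Frattini subgroup
  set Φ := (frattini ↥Q).map Q.subtype with hΦ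
  have hΦQ : Φ ≤ Q := Subgroup.map_subtype_le _
  have hNΦ : Subgroup.normalizer (Q : Set X) ≤ Subgroup.normalizer (Φ : Set X) :=
    le_normalizer_map_of_characteristic Q (frattini ↥Q)
  have hΦQ₀ : Φ ≤ Q₀ := by
    apply hF3 Φ hΦQ (hKQ.trans hNΦ) (hDQ.trans hNΦ)
    rcases Cfsg.Agent.Helper4.BG15X.le_or_inf_eq_bot_of_card_prime hq hKs (N := Φ) with h | h
    · exfalso
      apply hQ₀ne
      set N := Φ ⊔ Q₀ with hN
      have hNQ : N ≤ Q := sup_le hΦQ hQ₀Q
      have h1 := hF2 N hNQ (le_normalizer_sup (hKQ.trans hNΦ) hKQ₀)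
        (le_normalizer_sup (hDQ.trans hNΦ) hDQ₀) (h.trans le_sup_left)
      rw [inf_eq_right.mpr (le_sup_right : Q₀ ≤ N), ← hcardQ] at h1
      have h2 : N = Q := Subgroup.eq_of_le_of_card_ge hNQ h1.ge
      -- nongenerating
      have h3 : Q₀.subgroupOf Q ⊔ frattini ↥Q = ⊤ := by
        have e : (frattini ↥Q) = Φ.subgroupOf Q := by
          rw [hΦ, Subgroup.subgroupOf]
          exact (Subgroup.comap_map_eq_self_of_injective (Subgroup.subtype_injective Q) _).symm
        rw [e, ← Subgroup.subgroupOf_sup hQ₀Q hΦQ, sup_comm, ← hN, h2]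
        exact Subgroup.subgroupOf_self Q
      have h4 := frattini_nongenerating h3
      apply le_antisymm hQ₀Q
      intro x hx
      have : (⟨x, hx⟩ : ↥Q) ∈ Q₀.subgroupOf Q := by rw [h4]; trivial
      exact Subgroup.mem_subgroupOf.mp this
    · exact h
  have hpow : ∀ a ∈ Q, a ^ q ∈ Q₀ := by
    intro a ha
    apply hΦQ₀
    refine ⟨⟨a, ha⟩ ^ q, Cfsg.Agent.Helper4.pgroup_pow_mem_frattini hQq ⟨a, ha⟩, ?_⟩
    simp
  have hcomm : ∀ a ∈ Q, ∀ b ∈ Q, a * b * a⁻¹ * b⁻¹ ∈ Q₀ := by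
    intro a ha b hb
    apply hΦQ₀
    refine ⟨⟨a, ha⟩ * ⟨b, hb⟩ * ⟨a, ha⟩⁻¹ * ⟨b, hb⟩⁻¹,
      Cfsg.Agent.Helper4.pgroup_commutator_mem_frattini hQq ⟨a, ha⟩ ⟨b, hb⟩, ?_⟩
    simp
  refine ⟨by rw [hcardQ, mul_comm], fun a ha b hb => ⟨hpow a ha, hcomm a ha b hb⟩, ?_, hF1, ?_⟩
  · rw [Subgroup.le_normalizer_iff_commutator_le_left, Subgroup.commutator_le]
    intro x hx a ha
    rw [commutatorElement_def]
    exact hcomm x (hQ₀Q hx) a ha
  · intro N hQ₀N hNQ hKN hDN
    rcases Cfsg.Agent.Helper4.BG15X.le_or_inf_eq_bot_of_card_prime hq hKs (N := N) with h | h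
    · right
      have h1 := hF2 N hNQ hKN hDN h
      rw [inf_eq_right.mpr hQ₀N, ← hcardQ] at h1
      exact Subgroup.eq_of_le_of_card_ge hNQ h1.ge
    · left
      exact le_antisymm (hF3 N hNQ hKN hDN h) hQ₀N

end Cfsg.Agent.Helper4.BG15
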