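import Mathlib
import Cfsg.Prelude
import Cfsg.Agent.Helper4.BG15M
import Cfsg.Agent.Helper4.BG15N
import Cfsg.Agent.S1414

set_option autoImplicit false
set_option linter.unusedSectionVars false
set_option linter.unusedVariables false

/-!
Bender–Glauberman Theorem 15.2(a)–(f) for `M_F ≠ M_σ` (`S1437`).
-/

namespace Cfsg.Agent.Helper4.BG15

open Cfsg Cfsg.Agent.Helper1 Cfsg.Agent.Helper2 Cfsg.Agent.Helper1.BGT Cfsg.Agent.Helper1.BGU
  Cfsg.Agent.Helper1.BGV Cfsg.Agent.Helper1.BGW Cfsg.Agent.Helper1.BGX Cfsg.Agent.Lead.BG12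
  Cfsg.Agent.Lead.BG108 Cfsg.Agent.Helper4.BG10 Cfsg.Agent.Helper4.BG12
open scoped commutatorElement Pointwise

universe u

variable {G : Type u} [Group G] [Finite G]

variable {M K U : Subgroup G}

/-- if `U = 1` then every prime divisor of `|M|` lies in `σ(M) ∪ κ(M)` -/
theorem not_notP1_of_U_eq_bot (hG : Cfsg.IsMinSimpleOddOrder G) (hM : IsCoatom M)
    (hKU : Cfsg.IsSigmaDecomposition M K U) (hU : U = ⊥) :
    ¬ Cfsg.Agent.Helper1.BG147.NotP1 M := by
  rintro ⟨t, ht, htM, htκ, htσ⟩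
  have hcard := decomp_card hKU
  rw [hU, Subgroup.card_bot, one_mul] at hcard
  rw [← hcard] at htM
  rcases (Nat.Prime.dvd_mul ht).mp htM with h | h
  · exact htκ (hKU.hall.2.1 t ht h)
  · exact htσ (Cfsg.Agent.Lead.BG12.mem_sigma_of_dvd_card_sigmaCore ht h)

/-- the normal Sylow `q`-subgroup of `M_σ`, `q = |K*|`, for `M` of type `P₁` -/
theorem exists_normal_sylow_kstar (hG : Cfsg.IsMinSimpleOddOrder G) (hM : IsCoatom M)
    (hKU : Cfsg.IsSigmaDecomposition M K U) (hU : U = ⊥) :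
    ∃ Q : Subgroup G, Q ≤ Cfsg.sigmaCore M ∧ M ≤ Subgroup.normalizer (Q : Set G) ∧
      IsPGroup (Nat.card ↥(Cfsg.sigmaCore M ⊓ Subgroup.centralizer (K : Set G))) ↥Q ∧
      ¬ Nat.card ↥(Cfsg.sigmaCore M ⊓ Subgroup.centralizer (K : Set G)) ∣
        Q.relIndex (Cfsg.sigmaCore M) ∧
      Cfsg.sigmaCore M ⊓ Subgroup.centralizer (K : Set G) ≤ Q ∧ Q ≤ Cfsg.fittingHallOf M := by
  have hK := hKU.hall
  have hK1 := decomp_K_ne_bot hG hM hKU hU
  have hP1 := not_notP1_of_U_eq_bot hG hM hKU hU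
  have hprime := kstar_card_prime_of_not_notP1 hG hM hK hK1 hP1
  set Ks := Cfsg.sigmaCore M ⊓ Subgroup.centralizer (K : Set G) with hKs
  set q := Nat.card Ks with hq
  haveI : Fact q.Prime := ⟨hprime⟩
  have hcardK : Nat.card K ≠ 1 := fun h => hK1 (Subgroup.card_eq_one.mp h)
  obtain ⟨p, hp, hpd⟩ := Nat.exists_prime_and_dvd hcardK
  haveI : Fact p.Prime := ⟨hp⟩
  obtain ⟨k, hk⟩ := exists_prime_orderOf_dvd_card' (G := ↥K) p hpd
  have hk1 : (k : G) ≠ 1 := by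
    intro h
    have : k = 1 := Subtype.ext h
    rw [this, orderOf_one] at hk
    exact hp.one_lt.ne hk
  have hkp : (k : G) ^ p = 1 := by
    have h1 : k ^ p = 1 := by rw [← hk]; exact pow_orderOf_eq_one k
    have := congrArg Subtype.val h1
    simpa using this
  have h1430 := (Cfsg.Agent.S1430.result hG M hM K hK hK1).1 k k.2 hk1
  have h1365 := Cfsg.Agent.S1365.result hG M hM K U hKU hK1
  have hM' : ⁅M, M⁆ = Cfsg.sigmaCore M := by rw [h1365.1, hU, bot_sup_eq]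
  have hKs'' : Ks ≤ ⁅Cfsg.sigmaCore M, Cfsg.sigmaCore M⁆ := by
    have := h1365.2
    rwa [hM'] at this
  have hσM : Cfsg.sigmaCore M ≤ M := sigmaCore_le
  have hsolvM : Group.IsSolvable ↥M := hG.2.2.2 M hM.1
  have hpσ : ¬ p ∣ Nat.card (Cfsg.sigmaCore M) := by
    intro h
    exact (hK.2.1 p hp hpd).2.2.1 (Cfsg.Agent.Lead.BG12.mem_sigma_of_dvd_card_sigmaCore hp h)
  obtain ⟨Q, hQS, hQn, hQq, hQq'⟩ := Cfsg.Agent.Helper4.BG15X.thmX_rel hp hprime
    (Cfsg.sigmaCore M) (k : G) (le_normalizer_sigmaCore M (hK.1 k.2))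
    (hG.1.of_dvd_nat (Subgroup.card_subgroup_dvd_card _))
    (isSolvable_of_le hσM hsolvM) hkp hpσ (by rw [h1430]) (by rw [h1430]; exact hKs'')
  have hqσ : q ∣ Nat.card (Cfsg.sigmaCore M) := Subgroup.card_dvd_of_le inf_le_left
  have hqQ : q ∣ Nat.card Q := by
    rw [← relIndex_mul_card_of_le hQS] at hqσ
    exact ((Nat.Prime.dvd_mul hprime).mp hqσ).resolve_left hQq'
  have hQcop : (Nat.card Q).Coprime (Q.relIndex (Cfsg.sigmaCore M)) :=
    Cfsg.Agent.Helper4.BG15X.coprime_card_relIndex_of_isPGroup hQq hQq'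
  have hKQ : Ks ≤ Q :=
    le_of_normal_hall_rel hQS (Subgroup.le_normalizer.trans hQn) inf_le_left hQcop hqQ
  have hMQ : M ≤ Subgroup.normalizer (Q : Set G) := (le_normalizer_sigmaCore M).trans hQn
  have hqσ' : q ∈ Cfsg.sigma M := Cfsg.Agent.Lead.BG12.mem_sigma_of_dvd_card_sigmaCore hprime hqσ
  have hQM : ¬ q ∣ Q.relIndex M := by
    rw [← Subgroup.relIndex_mul_relIndex Q (Cfsg.sigmaCore M) M hQS hσM]
    intro hd
    rcases (Nat.Prime.dvd_mul hprime).mp hd with h | h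
    · exact hQq' h
    · exact (Cfsg.Agent.Lead.BG12.sigmaCore_hall hG M hM).1.2.2 q hprime hqσ' h
  have hQF : Q ≤ Cfsg.fittingHallOf M :=
    CNMax.le_fittingHallOf M Q (hQS.trans hσM) hMQ hQq.isNilpotent
      (Cfsg.Agent.Helper4.BG15X.coprime_card_relIndex_of_isPGroup hQq hQM)
  exact ⟨Q, hQS, hMQ, hQq, hQq', hKQ, hQF⟩

/-- a `K`-invariant complement of `Q` in `M_σ` -/
theorem p1_invariant (hG : Cfsg.IsMinSimpleOddOrder G) (hM : IsCoatom M)
    (hKU : Cfsg.IsSigmaDecomposition M K U) (hU : U = ⊥)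
    (hne : Cfsg.fittingHallOf M ≠ Cfsg.sigmaCore M) {q : ℕ} (hq : q.Prime) {Q : Subgroup G}
    (hQS : Q ≤ Cfsg.sigmaCore M) (hMQ : M ≤ Subgroup.normalizer (Q : Set G))
    (hQq : IsPGroup q ↥Q) (hQq' : ¬ q ∣ Q.relIndex (Cfsg.sigmaCore M))
    (hKQ : Cfsg.sigmaCore M ⊓ Subgroup.centralizer (K : Set G) ≤ Q)
    (hQF : Q ≤ Cfsg.fittingHallOf M) :
    ∃ D : Subgroup G, D ≤ Cfsg.sigmaCore M ∧ K ≤ Subgroup.normalizer (D : Set G) ∧ Q ⊓ D = ⊥ ∧
      Q ⊔ D = Cfsg.sigmaCore M ∧ ¬ q ∣ Nat.card D ∧ Group.IsNilpotent ↥D ∧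
      D ⊓ Subgroup.centralizer (K : Set G) = ⊥ ∧ ¬ Q ≤ Subgroup.centralizer (D : Set G) := by
  haveI : Fact q.Prime := ⟨hq⟩
  have hK := hKU.hall
  have hK1 := decomp_K_ne_bot hG hM hKU hU
  set S := Cfsg.sigmaCore M with hS
  set Ks := S ⊓ Subgroup.centralizer (K : Set G) with hKs
  have hSM : S ≤ M := sigmaCore_le
  have hKM : K ≤ M := hK.1
  have hMS : M ≤ Subgroup.normalizer (S : Set G) := le_normalizer_sigmaCore M
  have hsolvM : Group.IsSolvable ↥M := hG.2.2.2 M hM.1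
  have hsolvS : Group.IsSolvable ↥S := isSolvable_of_le hSM hsolvM
  have hcopKS : (Nat.card K).Coprime (Nat.card S) := decomp_coprime_K_sigmaCore hKU
  obtain ⟨D, ⟨hDS, hDπ, hDπ'⟩, hKD⟩ := Cfsg.Agent.Helper3.exists_invariant_hall K S
    (hKM.trans hMS) hcopKS hsolvS {t | t.Prime ∧ t ≠ q}
  have hqD : ¬ q ∣ Nat.card D := fun h => (hDπ q hq h).2 rfl
  obtain ⟨n, hn⟩ := hQq.exists_card_eq
  have hQD0 : Q ⊓ D = ⊥ := by
    apply inf_eq_bot_of_coprime_card
    rw [hn]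
    exact Nat.Coprime.pow_left n ((Nat.Prime.coprime_iff_not_dvd hq).mpr hqD)
  have hQDS : Q ⊔ D = S := by
    apply le_antisymm (sup_le hQS hDS)
    rw [← Subgroup.relIndex_eq_one, Nat.eq_one_iff_not_exists_prime_dvd]
    intro t ht htd
    have h1 : t ∣ Q.relIndex S := htd.trans (Subgroup.relIndex_dvd_of_le_left S le_sup_left)
    have h2 : t ∣ D.relIndex S := htd.trans (Subgroup.relIndex_dvd_of_le_left S le_sup_right)
    have h3 : t = q := by
      by_contra h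
      exact hDπ' t ht ⟨ht, h⟩ h2
    exact hQq' (h3 ▸ h1)
  have hDK0 : D ⊓ Subgroup.centralizer (K : Set G) = ⊥ := by
    rw [eq_bot_iff, ← hQD0]
    refine le_inf ?_ inf_le_left
    exact (inf_le_inf_right _ hDS).trans hKQ
  have h1430 := (Cfsg.Agent.S1430.result hG M hM K hK hK1).1
  have hDnil : Group.IsNilpotent ↥D := by
    by_cases hD1 : D = ⊥
    · rw [hD1]
      exact Group.isNilpotent_of_subsingleton
    · apply Cfsg.Agent.S1446.nilpotent_of_fpf D K hD1 hK1 hKD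
      intro k hk hk1
      rw [eq_bot_iff, ← hQD0]
      refine le_inf ?_ inf_le_left
      have h2 : D ⊓ Subgroup.centralizer ({k} : Set G) ≤ S ⊓ Subgroup.centralizer ({k} : Set G) :=
        inf_le_inf_right _ hDS
      rw [h1430 k hk hk1] at h2
      exact h2.trans hKQ
  refine ⟨D, hDS, hKD, hQD0, hQDS, hqD, hDnil, hDK0, ?_⟩
  intro hQcD
  apply hne
  have hMeq : M = K ⊔ S := decomp_eq_of_U_eq_bot hKU hU
  have hMD : M ≤ Subgroup.normalizer (D : Set G) := by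
    rw [hMeq, ← hQDS]
    refine sup_le hKD (sup_le ?_ Subgroup.le_normalizer)
    exact (Subgroup.le_centralizer_iff.mp hQcD |> fun h => (Subgroup.le_centralizer_iff.mpr h)).trans
      (Subgroup.centralizer_le_normalizer _)
  have hDcop : (Nat.card D).Coprime (D.relIndex M) := by
    apply Nat.coprime_of_dvd
    intro t ht h1 h2
    rw [← Subgroup.relIndex_mul_relIndex D S M hDS hSM] at h2
    rcases (Nat.Prime.dvd_mul ht).mp h2 with h | h
    · exact hDπ' t ht (hDπ t ht h1) h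
    · have htσ : t ∈ Cfsg.sigma M :=
        Cfsg.Agent.Lead.BG12.mem_sigma_of_dvd_card_sigmaCore ht
          (h1.trans (Subgroup.card_dvd_of_le hDS))
      exact (Cfsg.Agent.Lead.BG12.sigmaCore_hall hG M hM).1.2.2 t ht htσ h
  have hDF : D ≤ Cfsg.fittingHallOf M :=
    CNMax.le_fittingHallOf M D (hDS.trans hSM) hMD hDnil hDcop
  apply le_antisymm (fittingHallOf_le_sigmaCore hG hM)
  have h9 : S ≤ Cfsg.fittingHallOf M := by
    rw [← hQDS]
    exact sup_le hQF hDF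
  exact h9

/-- `q ∈ β(M)` when the normal Sylow `q`-subgroup `Q` of `M_σ` is not centralized by a complement -/
theorem mem_beta_of_not_centralizes (hG : Cfsg.IsMinSimpleOddOrder G) (hM : IsCoatom M) {q : ℕ}
    (hq : q.Prime) {Q D : Subgroup G} (hQS : Q ≤ Cfsg.sigmaCore M)
    (hMQ : M ≤ Subgroup.normalizer (Q : Set G)) (hQq : IsPGroup q ↥Q)
    (hDS : D ≤ Cfsg.sigmaCore M) (hqD : ¬ q ∣ Nat.card D)
    (hQD : ¬ Q ≤ Subgroup.centralizer (D : Set G)) (hqM : q ∣ Nat.card M) : q ∈ Cfsg.beta M := by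
  haveI : Fact q.Prime := ⟨hq⟩
  by_contra hβ
  apply hQD
  set S := Cfsg.sigmaCore M with hS
  have hSM : S ≤ M := sigmaCore_le
  obtain ⟨P, N, hNn, hNP⟩ := ((Cfsg.Agent.S1414.result hG M hM).2.2.2.2 q hq hqM hβ).2.1
  haveI := hNn
  set N' := N.map S.subtype with hN'
  have hN'S : N' ≤ S := Subgroup.map_subtype_le _
  have hSN' : S ≤ Subgroup.normalizer (N' : Set G) := le_normalizer_map_subtype N
  have hcardN' : Nat.card N' = Nat.card N := Subgroup.card_map_of_injective S.subtype_injective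
  have hqN : ¬ q ∣ Nat.card N' := by
    rw [hcardN', ← hNP.index_eq_card]
    exact P.not_dvd_index
  have hrel : N'.relIndex S = Nat.card (P : Subgroup ↥S) := by
    have h1 : N'.subgroupOf S = N :=
      Subgroup.comap_map_eq_self_of_injective S.subtype_injective N
    rw [Subgroup.relIndex, h1]
    exact hNP.symm.index_eq_card
  obtain ⟨m, hm⟩ := P.2.exists_card_eq
  have hDN' : D ≤ N' := by
    intro x hx
    apply mem_of_pow_eq_one_of_coprime_relIndex hSN' (n := Nat.card D) _ (hDS hx)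
    · have := pow_card_eq_one' (G := ↥D) (x := ⟨x, hx⟩)
      exact congrArg Subtype.val this
    · rw [hrel, hm]
      exact (Nat.Coprime.pow_left m ((Nat.Prime.coprime_iff_not_dvd hq).mpr hqD)).symm
  obtain ⟨n, hn⟩ := hQq.exists_card_eq
  have hQN0 : Q ⊓ N' = ⊥ := by
    apply inf_eq_bot_of_coprime_card
    rw [hn]
    exact Nat.Coprime.pow_left n ((Nat.Prime.coprime_iff_not_dvd hq).mpr hqN)
  have hQcN : Q ≤ Subgroup.centralizer (N' : Set G) := by
    intro x hx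
    rw [Subgroup.mem_centralizer_iff]
    intro y hy
    have h1 : x * y * x⁻¹ * y⁻¹ ∈ Q ⊓ N' := by
      constructor
      · have h2 : y * x⁻¹ * y⁻¹ ∈ Q :=
          (Subgroup.mem_normalizer_iff.mp (hMQ (hSM (hN'S hy))) _).mp (Q.inv_mem hx)
        have h3 : x * y * x⁻¹ * y⁻¹ = x * (y * x⁻¹ * y⁻¹) := by group
        rw [h3]
        exact Q.mul_mem hx h2
      · have h2 : x * y * x⁻¹ ∈ N' :=
          (Subgroup.mem_normalizer_iff.mp (hSN' (hQS hx)) _).mp hy
        exact N'.mul_mem h2 (N'.inv_mem hy)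
    rw [hQN0, Subgroup.mem_bot] at h1
    calc y * x = (x * y * x⁻¹ * y⁻¹)⁻¹ * (x * y) := by group
      _ = x * y := by rw [h1, inv_one, one_mul]
  exact hQcN.trans (Subgroup.centralizer_le (by exact_mod_cast hDN'))

/-- **BG Theorem 15.2(a)–(f)** for `M_F ≠ M_σ` = `S1437`. -/
theorem thm1437 (hG : Cfsg.IsMinSimpleOddOrder G) (hM : IsCoatom M)
    (hKU : Cfsg.IsSigmaDecomposition M K U) (hne : Cfsg.fittingHallOf M ≠ Cfsg.sigmaCore M) :
    U = ⊥ ∧ Cfsg.sigmaCore M = ⁅M, M⁆ ∧ (Nat.card K).Prime ∧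
      (Nat.card ↥(Cfsg.sigmaCore M ⊓ Subgroup.centralizer (K : Set G))).Prime ∧
      Nat.card ↥(Cfsg.sigmaCore M ⊓ Subgroup.centralizer (K : Set G)) ∣
        Nat.card (Cfsg.fittingHallOf M) ∧
      Nat.card ↥(Cfsg.sigmaCore M ⊓ Subgroup.centralizer (K : Set G)) ∈ Cfsg.beta M ∧
      ∃ Q : Subgroup G, Q ≤ Cfsg.fittingHallOf M ∧ M ≤ Subgroup.normalizer (Q : Set G) ∧
        IsPGroup (Nat.card ↥(Cfsg.sigmaCore M ⊓ Subgroup.centralizer (K : Set G))) Q ∧
        ¬ Nat.card ↥(Cfsg.sigmaCore M ⊓ Subgroup.centralizer (K : Set G)) ∣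
          Q.relIndex (Cfsg.sigmaCore M) ∧
        ∀ D : Subgroup G, Cfsg.IsComplIn Q D (Cfsg.sigmaCore M) →
          Group.IsNilpotent D ∧
          M ≤ Subgroup.normalizer ((Q ⊓ Subgroup.centralizer (D : Set G) : Subgroup G) : Set G) ∧
          Q ⊓ Subgroup.centralizer (D : Set G) < Q ∧
          Nat.card Q = Nat.card ↥(Q ⊓ Subgroup.centralizer (D : Set G)) *
            Nat.card ↥(Cfsg.sigmaCore M ⊓ Subgroup.centralizer (K : Set G)) ^ Nat.card K ∧
          (∀ a ∈ Q, ∀ b ∈ Q,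
            a ^ Nat.card ↥(Cfsg.sigmaCore M ⊓ Subgroup.centralizer (K : Set G)) ∈
              Q ⊓ Subgroup.centralizer (D : Set G) ∧
            a * b * a⁻¹ * b⁻¹ ∈ Q ⊓ Subgroup.centralizer (D : Set G)) ∧
          ∀ N : Subgroup G, Q ⊓ Subgroup.centralizer (D : Set G) < N → N < Q →
            ¬ M ≤ Subgroup.normalizer (N : Set G) := by
  obtain ⟨hU, -, hKprime⟩ := thm152c' hG hM hKU hne
  have hK := hKU.hall
  have hK1 := decomp_K_ne_bot hG hM hKU hU
  have hP1 := not_notP1_of_U_eq_bot hG hM hKU hU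
  have hqprime := kstar_card_prime_of_not_notP1 hG hM hK hK1 hP1
  have h1365 := Cfsg.Agent.S1365.result hG M hM K U hKU hK1
  have hM' : Cfsg.sigmaCore M = ⁅M, M⁆ := by rw [h1365.1, hU, bot_sup_eq]
  have hKsF := kstar_le_fittingHallOf hG hM hKU hK1
  obtain ⟨Q, hQS, hMQ, hQq, hQq', hKQ, hQF⟩ := exists_normal_sylow_kstar hG hM hKU hU
  obtain ⟨D₂, hD₂S, hKD₂, hQD₂0, hQD₂S, hqD₂, hD₂nil, hD₂K0, hQD₂⟩ :=
    p1_invariant hG hM hKU hU hne hqprime hQS hMQ hQq hQq' hKQ hQF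
  set S := Cfsg.sigmaCore M with hS
  set Ks := S ⊓ Subgroup.centralizer (K : Set G) with hKs
  set q := Nat.card Ks with hq
  set p := Nat.card K with hp
  haveI : Fact q.Prime := ⟨hqprime⟩
  have hSM : S ≤ M := sigmaCore_le
  have hKM : K ≤ M := hK.1
  have hsolvM : Group.IsSolvable ↥M := hG.2.2.2 M hM.1
  have hsolvS : Group.IsSolvable ↥S := isSolvable_of_le hSM hsolvM
  have hqS : q ∣ Nat.card S := Subgroup.card_dvd_of_le inf_le_left
  have hqM : q ∣ Nat.card M := hqS.trans (Subgroup.card_dvd_of_le hSM)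
  have hqβ : q ∈ Cfsg.beta M :=
    mem_beta_of_not_centralizes hG hM hqprime hQS hMQ hQq hD₂S hqD₂ hQD₂ hqM
  have hqp : q ≠ p := by
    intro h
    have h1 : q ∣ Nat.card K := by rw [← hp, ← h]
    exact (hK.2.1 q hqprime h1).2.2.1
      (Cfsg.Agent.Lead.BG12.mem_sigma_of_dvd_card_sigmaCore hqprime hqS)
  have hQK : Q ⊓ Subgroup.centralizer (K : Set G) = Ks :=
    le_antisymm (inf_le_inf_right _ hQS) (le_inf hKQ inf_le_right)
  have hKQn : K ≤ Subgroup.normalizer (Q : Set G) := hKM.trans hMQ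
  have hD₂Qn : D₂ ≤ Subgroup.normalizer (Q : Set G) := (hD₂S.trans hSM).trans hMQ
  obtain ⟨hcard, hpc, hQQ₀, hKsQ₀, hirr⟩ := frobQ hKprime hqprime Q D₂ K hQq hKQn hD₂Qn hKD₂ rfl
    hD₂nil hqD₂ hqp hD₂K0 (by rw [hQK]) hQD₂
  set Q₀ := Q ⊓ Subgroup.centralizer (D₂ : Set G) with hQ₀
  have hMeq : M = K ⊔ S := decomp_eq_of_U_eq_bot hKU hU
  have hMQ₀ : M ≤ Subgroup.normalizer (Q₀ : Set G) := by
    have h1 : K ≤ Subgroup.normalizer (Q₀ : Set G) :=
      le_normalizer_inf hKQn (hKD₂.trans (normalizer_le_normalizer_centralizer D₂))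
    have h2 : D₂ ≤ Subgroup.normalizer (Q₀ : Set G) :=
      le_normalizer_inf hD₂Qn
        (Subgroup.le_normalizer.trans (normalizer_le_normalizer_centralizer D₂))
    rw [hMeq, ← hQD₂S]
    exact sup_le h1 (sup_le hQQ₀ h2)
  have hQ₀lt : Q₀ < Q := by
    refine lt_of_le_of_ne inf_le_left ?_
    intro h
    apply hQD₂
    rw [← h]
    exact inf_le_right
  refine ⟨hU, hM', hKprime, hqprime, Subgroup.card_dvd_of_le hKsF, hqβ, Q, hQF, hMQ, hQq, hQq',
    ?_⟩
  intro D hD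
  obtain ⟨-, hDS, hQD0, hmul⟩ := hD
  have hcardS1 : Nat.card Q * Nat.card D = Nat.card S :=
    IsComplIn_card_mul ⟨hQS, hDS, hQD0, hmul⟩
  have hcardS2 : Nat.card S = Nat.card D₂ * Nat.card Q := by
    rw [← hQD₂S]
    exact card_sup_of_le_normalizer hD₂Qn (by rw [inf_comm]; exact hQD₂0)
  have hcardD : Nat.card D₂ = Nat.card D := by
    have h1 : Nat.card Q * Nat.card D = Nat.card Q * Nat.card D₂ := by
      rw [hcardS1, hcardS2, mul_comm]
    exact (Nat.eq_of_mul_eq_mul_left Nat.card_pos h1).symm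
  have hrel : D₂.relIndex S = Nat.card Q := by
    have h1 := relIndex_mul_card_of_le hD₂S
    rw [hcardS2, mul_comm] at h1
    exact Nat.eq_of_mul_eq_mul_left Nat.card_pos h1
  obtain ⟨n, hn⟩ := hQq.exists_card_eq
  have hd : Cfsg.Agent.Helper3.PiDecomp {t | t ∣ Nat.card D₂} (Nat.card S) (Nat.card D₂)
      (D₂.relIndex S) := by
    refine ⟨?_, fun t ht h => h, ?_⟩
    · rw [hrel]; exact hcardS2
    · intro t ht h1 h2
      rw [hrel, hn] at h1
      have h3 : t = q := (Nat.prime_dvd_prime_iff_eq ht hqprime).mp (ht.dvd_of_dvd_pow h1)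
      exact hqD₂ (h3 ▸ h2)
  obtain ⟨hC, -⟩ := Cfsg.Agent.Helper3.hall_internal S hsolvS hd
  obtain ⟨g, hg, hgD⟩ := hC D₂ D hD₂S hDS rfl hcardD.symm
  have hgM : g ∈ M := hSM hg
  have hcentEq : Q ⊓ Subgroup.centralizer (D : Set G) = Q₀ := by
    ext x
    have hgQ := Subgroup.mem_normalizer_iff.mp (hMQ (M.inv_mem hgM))
    have hgQ₀ := Subgroup.mem_normalizer_iff.mp (hMQ₀ (M.inv_mem hgM))
    have key : x ∈ Subgroup.centralizer (D : Set G) ↔
        g⁻¹ * x * g ∈ Subgroup.centralizer (D₂ : Set G) := by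
      rw [Subgroup.mem_centralizer_iff, Subgroup.mem_centralizer_iff]
      constructor
      · intro h d hd
        have hd' : g * d * g⁻¹ ∈ D := by
          rw [← hgD, mem_conj_smul]
          have : g⁻¹ * (g * d * g⁻¹) * g = d := by group
          rw [this]; exact hd
        have h1 := h _ hd'
        calc d * (g⁻¹ * x * g) = g⁻¹ * ((g * d * g⁻¹) * x) * g := by group
          _ = g⁻¹ * (x * (g * d * g⁻¹)) * g := by rw [h1]
          _ = g⁻¹ * x * g * d := by group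
      · intro h d hd
        have hd' : g⁻¹ * d * g ∈ D₂ := by
          have hd2 : d ∈ MulAut.conj g • D₂ := by rw [hgD]; exact hd
          rw [mem_conj_smul] at hd2
          exact hd2
        have h1 := h _ hd'
        calc d * x = g * ((g⁻¹ * d * g) * (g⁻¹ * x * g)) * g⁻¹ := by group
          _ = g * ((g⁻¹ * x * g) * (g⁻¹ * d * g)) * g⁻¹ := by rw [h1]
          _ = x * d := by group
    rw [Subgroup.mem_inf, key]
    have h2 := hgQ x
    have h3 := hgQ₀ (x)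
    rw [inv_inv] at h2 h3
    rw [h3, hQ₀, Subgroup.mem_inf, ← h2]
  rw [hcentEq]
  refine ⟨?_, hMQ₀, hQ₀lt, hcard, hpc, ?_⟩
  · rw [← hgD]
    haveI := hD₂nil
    exact Group.nilpotent_of_mulEquiv (Subgroup.equivSMul (MulAut.conj g) D₂)
  · intro N hN1 hN2 hMN
    rcases hirr N hN1.le hN2.le (hKM.trans hMN) ((hD₂S.trans hSM).trans hMN) with h | h
    · exact hN1.ne' h
    · exact hN2.ne h

end Cfsg.Agent.Helper4.BG15
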