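import Mathlib
import Cfsg.Prelude
import Cfsg.Agent.Helper4.BG15O
import Cfsg.Agent.Helper4.BG147I

set_option autoImplicit false
set_option linter.unusedSectionVars false
set_option linter.unusedVariables false

/-!
Bender–Glauberman §16: from type data to the `σ`-decomposition.
-/

namespace Cfsg.Agent.Helper4.BG16

open Cfsg Cfsg.Agent.Helper1 Cfsg.Agent.Helper2 Cfsg.Agent.Helper1.BGT Cfsg.Agent.Helper1.BGU
  Cfsg.Agent.Helper1.BGV Cfsg.Agent.Helper1.BGW Cfsg.Agent.Helper1.BGX Cfsg.Agent.Lead.BG12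
  Cfsg.Agent.Lead.BG108 Cfsg.Agent.Helper4.BG10 Cfsg.Agent.Helper4.BG12 Cfsg.Agent.Helper4.BG15
open scoped commutatorElement Pointwise

universe u

variable {G : Type u} [Group G] [Finite G]

variable {M K U W₁ U' W₂ : Subgroup G}

/-- the primes of `W₁` lie in `κ(M)` -/
theorem mem_kappa_of_typeP (hG : Cfsg.IsMinSimpleOddOrder G) (hM : IsCoatom M)
    (T : Cfsg.IsTypePWith M W₁ U' W₂) {p : ℕ} (hp : p.Prime) (hpd : p ∣ Nat.card W₁) :
    p ∈ Cfsg.kappa M := by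
  haveI : Fact p.Prime := ⟨hp⟩
  have hW₁M : W₁ ≤ M := T.W₁_compl.2.1
  have hM'M : ⁅M, M⁆ ≤ M := T.W₁_compl.1
  have hcard : Nat.card ↥⁅M, M⁆ * Nat.card W₁ = Nat.card M := IsComplIn_card_mul T.W₁_compl
  have hrel : W₁.relIndex M = Nat.card ↥⁅M, M⁆ := by
    have h1 := relIndex_mul_card_of_le hW₁M
    rw [← hcard] at h1
    exact Nat.eq_of_mul_eq_mul_right Nat.card_pos h1
  have hpM' : ¬ p ∣ Nat.card ↥⁅M, M⁆ := by
    intro h
    rw [← hrel] at h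
    exact hp.one_lt.ne' (Nat.eq_one_of_dvd_coprimes T.W₁_hall hpd h)
  have hpM : p ∣ Nat.card M := hpd.trans (Subgroup.card_dvd_of_le hW₁M)
  have hσ := (Cfsg.Agent.Lead.BG12.sigmaCore_hall hG M hM).1
  have hσM' : Cfsg.sigmaCore M ≤ ⁅M, M⁆ := sigmaCore_le_commutator hG hM
  have hpσ : p ∉ Cfsg.sigma M := by
    intro h
    have h1 : ¬ p ∣ (Cfsg.sigmaCore M).relIndex M := hσ.2.2 p hp h
    have h2 : p ∣ Nat.card (Cfsg.sigmaCore M) := by
      have h3 := relIndex_mul_card_of_le hσ.1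
      rw [← h3] at hpM
      exact ((Nat.Prime.dvd_mul hp).mp hpM).resolve_left h1
    exact hpM' (h2.trans (Subgroup.card_dvd_of_le hσM'))
  have hHall : Cfsg.IsPiHallOf {t | t ∣ Nat.card W₁} W₁ M := by
    refine ⟨hW₁M, fun t _ h => h, fun t ht h1 h2 => ?_⟩
    exact ht.one_lt.ne' (Nat.eq_one_of_dvd_coprimes T.W₁_hall h1 h2)
  obtain ⟨P₁, hP₁⟩ := Cfsg.Agent.Helper4.BG147H.exists_sylow_map_le_of_hall hHall
    (show p ∈ {t | t ∣ Nat.card W₁} from hpd)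
  refine ⟨hp, hpM, hpσ, fun P => ?_⟩
  obtain ⟨g, hg⟩ := MulAction.exists_smul_eq (↥M) P₁ P
  -- `P₁` is cyclic and nontrivial
  haveI hW₁c : IsCyclic ↥W₁ := T.W₁_cyclic
  have hP₁cyc : IsCyclic ↥(P₁ : Subgroup ↥M) := by
    have hinj : Function.Injective
        (fun x : ↥(P₁ : Subgroup ↥M) => (⟨(x : ↥M), hP₁ ⟨x, x.2, rfl⟩⟩ : ↥W₁)) := by
      intro a b hab
      have := congrArg Subtype.val hab
      exact Subtype.ext (Subtype.ext this)
    let f : ↥(P₁ : Subgroup ↥M) →* ↥W₁ :=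
      { toFun := fun x => ⟨(x : ↥M), hP₁ ⟨x, x.2, rfl⟩⟩
        map_one' := rfl
        map_mul' := fun a b => rfl }
    exact isCyclic_of_injective f hinj
  have hP₁ne : (P₁ : Subgroup ↥M) ≠ ⊥ := by
    intro h
    have h1 : p ∣ Nat.card (P₁ : Subgroup ↥M) := P₁.dvd_card_of_dvd_card hpM
    rw [h, Subgroup.card_bot] at h1
    exact hp.one_lt.ne' (Nat.dvd_one.mp h1)
  obtain ⟨⟨x₁, hx₁⟩, hx₁0⟩ := (Subgroup.ne_bot_iff_exists_ne_one).mp hP₁ne
  have hx₁1 : x₁ ≠ 1 := fun h => hx₁0 (Subtype.ext h)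
  have hx₁W : ((x₁ : ↥M) : G) ∈ W₁ := hP₁ ⟨x₁, hx₁, rfl⟩
  have hx₁1' : ((x₁ : ↥M) : G) ≠ 1 := fun h => hx₁1 (Subtype.ext h)
  have hW₂ := T.W₂_centralizer _ hx₁W hx₁1'
  obtain ⟨-, hW₂1, -⟩ := T.selfNormalizing
  obtain ⟨⟨y₁, hy₁⟩, hy₁0⟩ := (Subgroup.ne_bot_iff_exists_ne_one).mp hW₂1
  have hy₁1 : y₁ ≠ 1 := fun h => hy₁0 (Subtype.ext h)
  have hy₁σ : y₁ ∈ Cfsg.sigmaCore M :=
    fittingHallOf_le_sigmaCore hG hM (T.W₂_le.trans inf_le_left hy₁)
  have hy₁c : y₁ ∈ Subgroup.centralizer ({((x₁ : ↥M) : G)} : Set G) := by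
    have : y₁ ∈ ⁅M, M⁆ ⊓ Subgroup.centralizer ({((x₁ : ↥M) : G)} : Set G) := by rw [hW₂]; exact hy₁
    exact this.2
  rw [Subgroup.mem_centralizer_singleton_iff] at hy₁c
  constructor
  · rw [← hg]
    have e : ↥(P₁ : Subgroup ↥M) ≃* ↥((g • P₁ : Sylow p ↥M) : Subgroup ↥M) := by
      rw [Sylow.coe_subgroup_smul]
      exact Subgroup.equivSMul (MulAut.conj g) (P₁ : Subgroup ↥M)
    exact isCyclic_of_surjective e e.surjective
  · refine ⟨g * x₁ * g⁻¹, ?_, ?_, (g : G) * y₁ * (g : G)⁻¹, ?_, ?_, ?_⟩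
    · rw [← hg, Sylow.coe_subgroup_smul]
      exact conj_mem_conj_smul hx₁
    · intro h
      apply hx₁1
      have : x₁ = g⁻¹ * (g * x₁ * g⁻¹) * g := by group
      rw [this, h]; group
    · exact (Subgroup.mem_normalizer_iff.mp (le_normalizer_sigmaCore M g.2) _).mp hy₁σ
    · intro h
      apply hy₁1
      have : y₁ = (g : G)⁻¹ * ((g : G) * y₁ * (g : G)⁻¹) * (g : G) := by group
      rw [this, h]; group
    · simp only [Subgroup.coe_mul, Subgroup.coe_inv]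
      calc (g : G) * (x₁ : G) * (g : G)⁻¹ * ((g : G) * y₁ * (g : G)⁻¹)
          = (g : G) * ((x₁ : G) * y₁) * (g : G)⁻¹ := by group
        _ = (g : G) * (y₁ * (x₁ : G)) * (g : G)⁻¹ := by rw [hy₁c]
        _ = (g : G) * y₁ * (g : G)⁻¹ * ((g : G) * (x₁ : G) * (g : G)⁻¹) := by group

/-- type-P data force `K ≠ 1` -/
theorem K_ne_bot_of_typeP (hG : Cfsg.IsMinSimpleOddOrder G) (hM : IsCoatom M)
    (hKU : Cfsg.IsSigmaDecomposition M K U) (T : Cfsg.IsTypePWith M W₁ U' W₂) : K ≠ ⊥ := by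
  have hcard : Nat.card W₁ ≠ 1 := fun h => T.W₁_ne (Subgroup.card_eq_one.mp h)
  obtain ⟨p, hp, hpd⟩ := Nat.exists_prime_and_dvd hcard
  have hκ := mem_kappa_of_typeP hG hM T hp hpd
  have hK := hKU.hall
  intro hK0
  have h1 : ¬ p ∣ K.relIndex M := hK.2.2 p hp hκ
  rw [hK0, Subgroup.relIndex_bot_left] at h1
  exact h1 hκ.2.1

/-- **From type III/IV data to the `σ`-decomposition** (given `N_G(U) ≰ M` for `K ≠ 1`,
i.e. `S1363`). -/
theorem of_typeP_normalizer_le (hG : Cfsg.IsMinSimpleOddOrder G) (hM : IsCoatom M)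
    (hKU : Cfsg.IsSigmaDecomposition M K U) (T : Cfsg.IsTypePWith M W₁ U' W₂) (hU'1 : U' ≠ ⊥)
    (hN : Subgroup.normalizer (U' : Set G) ≤ M)
    (h1363 : K ≠ ⊥ → U ≠ ⊥ → ¬ Subgroup.normalizer (U : Set G) ≤ M) :
    K ≠ ⊥ ∧ U = ⊥ ∧ Cfsg.fittingHallOf M ≠ Cfsg.sigmaCore M := by
  have hK1 := K_ne_bot_of_typeP hG hM hKU T
  have h1365 := (Cfsg.Agent.S1365.result hG M hM K U hKU hK1).1
  have hσM : Cfsg.sigmaCore M ≤ M := sigmaCore_le
  have hM'M : ⁅M, M⁆ ≤ M := T.W₁_compl.1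
  have hsolvM : Group.IsSolvable ↥M := hG.2.2.2 M hM.1
  have hU : U = ⊥ := by
    by_contra hU
    apply h1363 hK1 hU
    have hnil := isNilpotent_sigmaCore_of_U_ne_bot hG hM hKU hU
    have hFσ := fittingHallOf_eq_sigmaCore hG hM hnil
    have hc := T.U_compl
    rw [hFσ] at hc
    -- `|U'| = |U|`
    have hc1 : Nat.card (Cfsg.sigmaCore M) * Nat.card U' = Nat.card ↥⁅M, M⁆ := IsComplIn_card_mul hc
    have hc2 : Nat.card ↥⁅M, M⁆ = Nat.card U * Nat.card (Cfsg.sigmaCore M) := by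
      rw [h1365, sup_comm]
      exact card_sup_of_le_normalizer ((decomp_U_le hKU).trans (le_normalizer_sigmaCore M))
        (decomp_U_inf_sigmaCore hKU)
    have hcardU : Nat.card U = Nat.card U' := by
      have h3 : Nat.card (Cfsg.sigmaCore M) * Nat.card U' =
          Nat.card (Cfsg.sigmaCore M) * Nat.card U := by rw [hc1, hc2, mul_comm]
      exact (Nat.eq_of_mul_eq_mul_left Nat.card_pos h3).symm
    have hUM' : U ≤ ⁅M, M⁆ := by rw [h1365]; exact le_sup_left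
    have hU'M' : U' ≤ ⁅M, M⁆ := hc.2.1
    have hrel : U.relIndex ⁅M, M⁆ = Nat.card (Cfsg.sigmaCore M) := by
      have h1 := relIndex_mul_card_of_le hUM'
      rw [hc2, mul_comm] at h1
      exact Nat.eq_of_mul_eq_mul_left Nat.card_pos h1
    have hd : Cfsg.Agent.Helper3.PiDecomp {t | t ∣ Nat.card U} (Nat.card ↥⁅M, M⁆) (Nat.card U)
        (U.relIndex ⁅M, M⁆) := by
      refine ⟨?_, fun t ht h => h, ?_⟩
      · rw [hrel]; exact hc2
      · intro t ht h1 h2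
        rw [hrel] at h1
        have h3 := (decomp_U_primes hG hM hKU ht h2).1
        exact h3 (Cfsg.Agent.Lead.BG12.mem_sigma_of_dvd_card_sigmaCore ht h1)
    obtain ⟨hC, -⟩ := Cfsg.Agent.Helper3.hall_internal ⁅M, M⁆ (isSolvable_of_le hM'M hsolvM) hd
    obtain ⟨g, hg, hgU⟩ := hC U U' hUM' hU'M' rfl hcardU.symm
    have hgM : g ∈ M := hM'M hg
    intro x hx
    -- `g x g⁻¹ ∈ N(U') ≤ M`
    have h1 : g * x * g⁻¹ ∈ Subgroup.normalizer (U' : Set G) := by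
      apply mem_normalizer_of_conj_smul_eq
      rw [← hgU, ← mul_smul, ← map_mul]
      have h2 : MulAut.conj (g * x * g⁻¹ * g) = MulAut.conj g * MulAut.conj x := by
        rw [← map_mul]; congr 1; group
      rw [h2, mul_smul, conj_smul_eq_of_mem_normalizer hx]
    have h3 := hN h1
    have h4 : x = g⁻¹ * (g * x * g⁻¹) * g := by group
    rw [h4]
    exact M.mul_mem (M.mul_mem (M.inv_mem hgM) h3) hgM
  refine ⟨hK1, hU, ?_⟩
  intro hFσ
  apply hU'1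
  have hc := T.U_compl
  have hM' : ⁅M, M⁆ = Cfsg.sigmaCore M := by rw [h1365, hU, bot_sup_eq]
  rw [hFσ, hM'] at hc
  rw [eq_bot_iff, ← hc.2.2.1]
  exact le_inf hc.2.1 le_rfl

end Cfsg.Agent.Helper4.BG16
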