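import Mathlib
import Cfsg.Prelude
import Cfsg.Agent.Helper4.BG16A
import Cfsg.Agent.Helper1.BG147m

set_option autoImplicit false
set_option linter.unusedSectionVars false
set_option linter.unusedVariables false

/-!
Bender–Glauberman §16: Hall subgroups of `M_σ` and their Sylow normalizers; the type `P₁` builder.
-/

namespace Cfsg.Agent.Helper4.BG16

open Cfsg Cfsg.Agent.Helper1 Cfsg.Agent.Helper2 Cfsg.Agent.Helper1.BGT Cfsg.Agent.Helper1.BGU
  Cfsg.Agent.Helper1.BGV Cfsg.Agent.Helper1.BGW Cfsg.Agent.Helper1.BGX Cfsg.Agent.Lead.BG12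
  Cfsg.Agent.Lead.BG108 Cfsg.Agent.Helper4.BG10 Cfsg.Agent.Helper4.BG12 Cfsg.Agent.Helper4.BG15
open scoped commutatorElement Pointwise

universe u

variable {G : Type u} [Group G] [Finite G]

variable {M K U T D : Subgroup G}

/-- a Hall subgroup of `M_σ` is a Hall subgroup of `G` -/
theorem coprime_index_of_le_sigmaCore (hG : Cfsg.IsMinSimpleOddOrder G) (hM : IsCoatom M)
    (hTS : T ≤ Cfsg.sigmaCore M)
    (hHall : (Nat.card T).Coprime (T.relIndex (Cfsg.sigmaCore M))) :
    (Nat.card T).Coprime T.index := by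
  apply Nat.coprime_of_dvd
  intro p hp h1 h2
  have hpσ : p ∈ Cfsg.sigma M :=
    Cfsg.Agent.Lead.BG12.mem_sigma_of_dvd_card_sigmaCore hp (h1.trans (Subgroup.card_dvd_of_le hTS))
  have h3 : T.relIndex (Cfsg.sigmaCore M) * (Cfsg.sigmaCore M).index = T.index :=
    Subgroup.relIndex_mul_index hTS
  rw [← h3] at h2
  rcases (Nat.Prime.dvd_mul hp).mp h2 with h | h
  · exact hp.one_lt.ne' (Nat.eq_one_of_dvd_coprimes hHall h1 h)
  · exact not_dvd_index_sigmaCore hG hM hp hpσ h

/-- Sylow subgroups of a Hall subgroup of `M_σ` have their normalizers in `M` -/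
theorem normalizer_sylow_le (hG : Cfsg.IsMinSimpleOddOrder G) (hM : IsCoatom M)
    (hTS : T ≤ Cfsg.sigmaCore M)
    (hHall : (Nat.card T).Coprime (T.relIndex (Cfsg.sigmaCore M))) {p : ℕ} (hp : p.Prime)
    (P : Sylow p ↥T) (hP : (P : Subgroup ↥T) ≠ ⊥) :
    Subgroup.normalizer ((((P : Subgroup ↥T).map T.subtype : Subgroup G)) : Set G) ≤ M := by
  haveI : Fact p.Prime := ⟨hp⟩
  have hSM : Cfsg.sigmaCore M ≤ M := sigmaCore_le
  have hpT : p ∣ Nat.card T := by
    by_contra h
    apply hP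
    have h1 : Nat.card (P : Subgroup ↥T) = p ^ (Nat.card T).factorization p :=
      P.card_eq_multiplicity
    rw [Nat.factorization_eq_zero_of_not_dvd h, pow_zero] at h1
    exact Subgroup.card_eq_one.mp h1
  have hpσ : p ∈ Cfsg.sigma M :=
    Cfsg.Agent.Lead.BG12.mem_sigma_of_dvd_card_sigmaCore hp (hpT.trans (Subgroup.card_dvd_of_le hTS))
  set Q := (P : Subgroup ↥T).map T.subtype with hQ
  have hQT : Q ≤ T := Subgroup.map_subtype_le _
  have hQp : IsPGroup p ↥Q := P.isPGroup'.map _
  have hQcard : Nat.card Q = p ^ (Nat.card T).factorization p := by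
    rw [hQ, Subgroup.card_map_of_injective T.subtype_injective]
    exact P.card_eq_multiplicity
  have hfac : (Nat.card T).factorization p = (Nat.card M).factorization p := by
    have h1 := relIndex_mul_card_of_le hTS
    have h2 := relIndex_mul_card_of_le hSM
    have h3 : ¬ p ∣ T.relIndex (Cfsg.sigmaCore M) := fun h =>
      hp.one_lt.ne' (Nat.eq_one_of_dvd_coprimes hHall hpT h)
    have h4 : ¬ p ∣ (Cfsg.sigmaCore M).relIndex M := not_dvd_relIndex_sigmaCore hG hM hp hpσ
    rw [← h2, ← h1]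
    have hne1 : T.relIndex (Cfsg.sigmaCore M) ≠ 0 := by
      intro h; rw [h, zero_mul] at h1; exact Nat.card_pos.ne' h1.symm
    have hne2 : (Cfsg.sigmaCore M).relIndex M ≠ 0 := by
      intro h; rw [h, zero_mul] at h2; exact Nat.card_pos.ne' h2.symm
    rw [Nat.factorization_mul hne2 (mul_ne_zero hne1 Nat.card_pos.ne'),
      Nat.factorization_mul hne1 Nat.card_pos.ne']
    simp only [Finsupp.coe_add, Pi.add_apply]
    rw [Nat.factorization_eq_zero_of_not_dvd h3, Nat.factorization_eq_zero_of_not_dvd h4]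
    ring
  rw [hfac] at hQcard
  exact Cfsg.Agent.Lead.BG12.normalizer_le_of_sylow_of_mem_sigma hG hM hpσ
    (hQT.trans (hTS.trans hSM)) hQp hQcard

/-- the normalizer of a nontrivial nilpotent Hall subgroup of `M_σ` lies in `M` -/
theorem normalizer_le_of_hall_nilpotent (hG : Cfsg.IsMinSimpleOddOrder G) (hM : IsCoatom M)
    (hDS : D ≤ Cfsg.sigmaCore M)
    (hHall : (Nat.card D).Coprime (D.relIndex (Cfsg.sigmaCore M))) (hD1 : D ≠ ⊥)
    (hnil : Group.IsNilpotent ↥D) :
    Subgroup.normalizer (D : Set G) ≤ M := by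
  have hcard : Nat.card D ≠ 1 := fun h => hD1 (Subgroup.card_eq_one.mp h)
  obtain ⟨r, hr, hrd⟩ := Nat.exists_prime_and_dvd hcard
  haveI : Fact r.Prime := ⟨hr⟩
  obtain ⟨P⟩ : Nonempty (Sylow r ↥D) := inferInstance
  have hP1 : (P : Subgroup ↥D) ≠ ⊥ := by
    intro h
    have h1 : r ∣ Nat.card (P : Subgroup ↥D) := P.dvd_card_of_dvd_card hrd
    rw [h, Subgroup.card_bot] at h1
    exact hr.one_lt.ne' (Nat.dvd_one.mp h1)
  have hN := normalizer_sylow_le hG hM hDS hHall hr P hP1
  set R := (P : Subgroup ↥D).map D.subtype with hR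
  have hRD : R ≤ D := Subgroup.map_subtype_le _
  have hRcard : Nat.card R = r ^ (Nat.card D).factorization r := by
    rw [hR, Subgroup.card_map_of_injective D.subtype_injective]
    exact P.card_eq_multiplicity
  have hcopR : (Nat.card R).Coprime (R.relIndex D) := by
    have h1 := relIndex_mul_card_of_le hRD
    rw [hRcard]
    apply Nat.Coprime.pow_left
    rw [Nat.Prime.coprime_iff_not_dvd hr]
    intro h
    have h2 : r ^ ((Nat.card D).factorization r + 1) ∣ Nat.card D := by
      obtain ⟨c, hc⟩ := h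
      refine ⟨c, ?_⟩
      calc Nat.card D = R.relIndex D * Nat.card R := h1.symm
        _ = (r * c) * r ^ (Nat.card D).factorization r := by rw [← hc, ← hRcard]
        _ = r ^ ((Nat.card D).factorization r + 1) * c := by ring
    exact (Nat.pow_succ_factorization_not_dvd Nat.card_pos.ne' hr) h2
  have hDR : D ≤ Subgroup.normalizer (R : Set G) := le_normalizer_of_hall_nilpotent hnil hRD hcopR
  refine le_trans ?_ hN
  intro g hg
  apply mem_normalizer_of_conj_smul_eq
  have hle : MulAut.conj g • R ≤ R := by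
    apply le_of_normal_hall_rel hRD hDR _ hcopR
    · rw [card_conj_smul]
    · intro x hx
      rw [mem_conj_smul] at hx
      have h1 := hRD hx
      have h2 := (Subgroup.mem_normalizer_iff.mp hg (g⁻¹ * x * g)).mp h1
      have h3 : g * (g⁻¹ * x * g) * g⁻¹ = x := by group
      rwa [h3] at h2
  exact Subgroup.eq_of_le_of_card_ge hle (by rw [card_conj_smul])

/-- `K` and `K* = C_{M_σ}(K)` form a self-normalizing cyclic pair -/
theorem selfNormalizing_kstar (hG : Cfsg.IsMinSimpleOddOrder G) (hM : IsCoatom M)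
    (hK : Cfsg.IsPiHallOf (Cfsg.kappa M) K M) (hK1 : K ≠ ⊥) :
    Cfsg.IsSelfNormalizingCyclic K (Cfsg.sigmaCore M ⊓ Subgroup.centralizer (K : Set G)) := by
  have h142 := Cfsg.Agent.Helper4.BG147H.hyp142 hG
  obtain ⟨Ms, e⟩ := Cfsg.Agent.Helper1.BG147.exists_emb' hG hM hK hK1
  have hKc : IsCyclic ↥K := Cfsg.Agent.Helper1.BG147.kappaHall_cyclic' hG hM hK
  have hKsc := kstar_isCyclic hG hM hK hK1
  have hKs1 := kstar_ne_bot hG hM hK hK1
  have hZc := Cfsg.Agent.Helper1.BG147.isCyclic_Z hK hKc hKsc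
  set Ks := Cfsg.sigmaCore M ⊓ Subgroup.centralizer (K : Set G) with hKs
  refine ⟨hK1, hKs1, ?_, ?_, hZc, ?_⟩
  · exact inf_eq_bot_of_coprime_card (Cfsg.Agent.Helper1.BG147.coprime_card_kstar hK)
  · intro a ha b hb
    exact Subgroup.mem_centralizer_iff.mp hb.2 a ha
  · intro X hX hXne
    have hcomm : ∀ a ∈ K ⊔ Ks, ∀ b ∈ K ⊔ Ks, a * b = b * a := by
      intro a ha b hb
      haveI := hZc
      have := (IsCyclic.isMulCommutative (α := ↥(K ⊔ Ks))).is_comm.comm ⟨a, ha⟩ ⟨b, hb⟩
      exact congrArg Subtype.val this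
    apply le_antisymm
    · intro g hg
      obtain ⟨x, hx⟩ := hXne
      have hgx : g * x * g⁻¹ ∈ X := (Subgroup.mem_set_normalizer_iff.mp hg x).mp hx
      exact Cfsg.Agent.Helper1.BG147.Zhat_TI hG h142 hM hK hK1 e (z := x) (g := g) (hX hx)
        (hX hgx).1
    · intro g hg
      rw [Subgroup.mem_set_normalizer_iff]
      intro n
      constructor
      · intro hn
        have h1 : g * n * g⁻¹ = n := by
          rw [hcomm g hg n (hX hn).1]; group
        rwa [h1]
      · intro hn
        have h1 : g * n * g⁻¹ ∈ K ⊔ Ks := (hX hn).1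
        have h2 : n ∈ K ⊔ Ks := by
          have : n = g⁻¹ * (g * n * g⁻¹) * g := by group
          rw [this]
          exact Subgroup.mul_mem _ (Subgroup.mul_mem _ (Subgroup.inv_mem _ hg) h1) hg
        have h3 : g * n * g⁻¹ = n := by
          rw [hcomm g hg n h2]; group
        rwa [h3] at hn

end Cfsg.Agent.Helper4.BG16
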