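import Cfsg.Agent.S1100

/-!
Group-side hypotheses of `Helper5.BTMain.h5bt_main` (statement S2154) for the seven Chevalley data:
`B ≤ G`, `N ≤ G` and the Bruhat decomposition `G = B N B`.
-/

set_option autoImplicit false
open Cfsg Cfsg.Lie

namespace Cfsg.Agent.Helper4.BTBruhat

variable {F : Type*} [Field F]

/-- `B ≤ G` for the seven data. -/
theorem bt4_hBG (D : Cfsg.Lie.ChevalleyDatum)
    (hD : D ∈ [Cfsg.Lie.chevG2, Cfsg.Lie.chevB2, Cfsg.Lie.chevD4, Cfsg.Lie.chevF4, Cfsg.Lie.chevE6,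
      Cfsg.Lie.chevE7, Cfsg.Lie.chevE8]) : D.borelSubgroup F ≤ D.group F :=
  Cfsg.Agent.Helper7.Chev.borelSubgroup_le_group
    (Cfsg.Agent.Helper7.Chev.good3_of_mem D hD).toGood2.toGood1

/-- `N ≤ G` for the seven data. -/
theorem bt4_hNG (D : Cfsg.Lie.ChevalleyDatum)
    (hD : D ∈ [Cfsg.Lie.chevG2, Cfsg.Lie.chevB2, Cfsg.Lie.chevD4, Cfsg.Lie.chevF4, Cfsg.Lie.chevE6,
      Cfsg.Lie.chevE7, Cfsg.Lie.chevE8]) : D.monomialSubgroup F ≤ D.group F :=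
  Cfsg.Agent.Helper7.Chev.monomialSubgroup_le_group
    (Cfsg.Agent.Helper7.Chev.good3_of_mem D hD).toGood2.toGood1

/-- `U ≤ B`. -/
theorem bt4_posUnipotent_le_borel (D : Cfsg.Lie.ChevalleyDatum) :
    D.posUnipotent F ≤ D.borelSubgroup F := le_sup_left

/-- `H ≤ B`. -/
theorem bt4_diagonal_le_borel (D : Cfsg.Lie.ChevalleyDatum) :
    D.diagonalSubgroup F ≤ D.borelSubgroup F := le_sup_right

/-- `H ≤ N`. -/
theorem bt4_diagonal_le_monomial (D : Cfsg.Lie.ChevalleyDatum) :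
    D.diagonalSubgroup F ≤ D.monomialSubgroup F := le_sup_left

/-- The Bruhat decomposition `G = B N B` in the shape of `h5bt_main`. -/
theorem bt4_hBruhat (D : Cfsg.Lie.ChevalleyDatum)
    (hD : D ∈ [Cfsg.Lie.chevG2, Cfsg.Lie.chevB2, Cfsg.Lie.chevD4, Cfsg.Lie.chevF4, Cfsg.Lie.chevE6,
      Cfsg.Lie.chevE7, Cfsg.Lie.chevE8]) :
    ∀ g ∈ D.group F, ∃ b ∈ D.borelSubgroup F, ∃ n ∈ D.monomialSubgroup F,
      ∃ b' ∈ D.borelSubgroup F, g = b * n * b' := by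
  intro g hg
  obtain ⟨b, hb, n, hn, u, hu, e⟩ := (Cfsg.Agent.S1100.result (F := F) D hD).1 g hg
  refine ⟨b, hb, n, hn, u, ?_, e⟩
  have hle : Subgroup.closure {x : GL D.Idx F | ∃ (r : ℕ) (t : F), D.IsPosRoot r ∧
      (D.rootSubgroup F r).map (MulAut.conj n).toMonoidHom ≤ D.negUnipotent F ∧
      (x : Matrix D.Idx D.Idx F) = D.x F r t} ≤ D.posUnipotent F := by
    apply Subgroup.closure_mono
    rintro x ⟨r, t, hr, _, hx⟩
    exact ⟨r, t, hr, hx⟩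
  exact bt4_posUnipotent_le_borel D (hle hu)

/-- The sharper form: `g = b * n * u` with `u ∈ U`. -/
theorem bt4_hBruhat_U (D : Cfsg.Lie.ChevalleyDatum)
    (hD : D ∈ [Cfsg.Lie.chevG2, Cfsg.Lie.chevB2, Cfsg.Lie.chevD4, Cfsg.Lie.chevF4, Cfsg.Lie.chevE6,
      Cfsg.Lie.chevE7, Cfsg.Lie.chevE8]) :
    ∀ g ∈ D.group F, ∃ b ∈ D.borelSubgroup F, ∃ n ∈ D.monomialSubgroup F,
      ∃ u ∈ D.posUnipotent F, g = b * n * u := by
  intro g hg
  obtain ⟨b, hb, n, hn, u, hu, e⟩ := (Cfsg.Agent.S1100.result (F := F) D hD).1 g hg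
  refine ⟨b, hb, n, hn, u, ?_, e⟩
  have hle : Subgroup.closure {x : GL D.Idx F | ∃ (r : ℕ) (t : F), D.IsPosRoot r ∧
      (D.rootSubgroup F r).map (MulAut.conj n).toMonoidHom ≤ D.negUnipotent F ∧
      (x : Matrix D.Idx D.Idx F) = D.x F r t} ≤ D.posUnipotent F := by
    apply Subgroup.closure_mono
    rintro x ⟨r, t, hr, _, hx⟩
    exact ⟨r, t, hr, hx⟩
  exact hle hu

end Cfsg.Agent.Helper4.BTBruhat
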