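import Mathlib
import Cfsg.Prelude.Def_Characters
import Cfsg.Agent.Helper1.BswChDefs
import Cfsg.Agent.Helper6.IndFun
import Cfsg.Agent.Helper6.Degrees

/-!
# S3282 character side: pieces HC7 (`classInner_Dl`), HC8a (`Dl_apply_mem`),
HC8b (`Dl_apply_not_conj`)
-/

set_option autoImplicit false
set_option linter.style.haveILetI false

namespace Cfsg.Agent.Helper1.BswCh

open scoped ComplexConjugate Classical
open Cfsg.Agent.Lead.Bsw (F nInv)
open Cfsg.Agent.Helper6

universe u

variable {G : Type u} [Group G]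

/-- C7: Frobenius reciprocity for `D_l` -/
theorem classInner_Dl [Fintype G] (K : Subgroup G) (l : Dual K) (β : G → ℂ)
    (hβ : Cfsg.IsClassFunction G β) :
    Cfsg.classInner (Dl K l) β =
      (Nat.card K : ℂ)⁻¹ * ∑ x : ↥K, (1 - lam l x) * conj (β (x : G)) := by
  rw [Dl_def, frobenius_reciprocity K _ β hβ]
  rfl

/-- C8b: `D_l` vanishes off the conjugates of `K` -/
theorem Dl_apply_not_conj [Fintype G] (K : Subgroup G) (l : Dual K) {y : G} (hy : ¬ ConjInto K y) :
    Dl K l y = 0 := by
  rw [Dl_def, indFun_apply, Finset.sum_eq_zero, mul_zero]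
  intro x _
  apply extendByZero_not_mem
  intro hx
  apply hy
  refine ⟨x⁻¹, ?_⟩
  rwa [inv_inv]

/-- the sum defining `D_l` at a non-identity element of `K` -/
theorem h4_sum_ext_conj [Fintype G] {t : G} {K : Subgroup G} (I : Inp t K) (φ : ↥K → ℂ) {y : G}
    (hy : y ∈ K) (hy1 : y ≠ 1) :
    ∑ z : G, Cfsg.extendByZero K φ (z⁻¹ * y * z) =
      (Nat.card K : ℂ) * φ ⟨y, hy⟩ + (Nat.card K : ℂ) * φ ⟨y⁻¹, K.inv_mem hy⟩ := by
  have key : ∀ z : G, Cfsg.extendByZero K φ (z⁻¹ * y * z) =
      Cfsg.extendByZero K (fun _ => φ ⟨y, hy⟩) z +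
      (Cfsg.extendByZero (Subgroup.centralizer ({t} : Set G))
        (fun _ => φ ⟨y⁻¹, K.inv_mem hy⟩) z -
       Cfsg.extendByZero K (fun _ => φ ⟨y⁻¹, K.inv_mem hy⟩) z) := by
    intro z
    by_cases hz : z ∈ K
    · have hzH : z ∈ Subgroup.centralizer ({t} : Set G) := I.KH hz
      have hc : z⁻¹ * y * z = y := by
        rw [mul_assoc, I.comm y hy z hz, ← mul_assoc, inv_mul_cancel, one_mul]
      have hm : z⁻¹ * y * z ∈ K := by rw [hc]; exact hy
      simp only [fun θ => extendByZero_mem K θ hz,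
        fun θ => extendByZero_mem (Subgroup.centralizer ({t} : Set G)) θ hzH, sub_self, add_zero]
      rw [extendByZero_mem _ _ hm]
      congr 1
      exact Subtype.ext hc
    · by_cases hzH : z ∈ Subgroup.centralizer ({t} : Set G)
      · have hzi : z⁻¹ ∈ Subgroup.centralizer ({t} : Set G) := Subgroup.inv_mem _ hzH
        have hziK : z⁻¹ ∉ K := fun h => hz (by simpa using K.inv_mem h)
        have hc : z⁻¹ * y * z = y⁻¹ := by
          have := I.inv z⁻¹ hzi hziK y hy
          rwa [inv_inv] at this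
        have hm : z⁻¹ * y * z ∈ K := by rw [hc]; exact K.inv_mem hy
        simp only [fun θ => extendByZero_not_mem K θ hz,
          fun θ => extendByZero_mem (Subgroup.centralizer ({t} : Set G)) θ hzH, sub_zero, zero_add]
        rw [extendByZero_mem _ _ hm]
        congr 1
        exact Subtype.ext hc
      · have hm : z⁻¹ * y * z ∉ K := by
          intro h
          apply hzH
          have h1 : z⁻¹ * y * (z⁻¹)⁻¹ ∈ K := by rwa [inv_inv]
          have := I.ti z⁻¹ y hy hy1 h1
          simpa using Subgroup.inv_mem _ this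
        simp only [fun θ => extendByZero_not_mem K θ hz,
          fun θ => extendByZero_not_mem (Subgroup.centralizer ({t} : Set G)) θ hzH,
          fun θ => extendByZero_not_mem K θ hm, sub_zero, add_zero]
  rw [Finset.sum_congr rfl (fun z _ => key z), Finset.sum_add_distrib, Finset.sum_sub_distrib,
    sum_extendByZero, sum_extendByZero, sum_extendByZero]
  simp only [Finset.sum_const, Finset.card_univ, nsmul_eq_mul, ← Nat.card_eq_fintype_card]
  rw [I.cardH]
  push_cast
  ring

/-- C8a: values of `D_l` on `K` -/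
theorem Dl_apply_mem [Fintype G] {t : G} {K : Subgroup G} (I : Inp t K) (l : Dual K) (x : ↥K) :
    Dl K l (x : G) = (1 - lam l x) + (1 - lam l x⁻¹) := by
  have hK0 : (Nat.card K : ℂ) ≠ 0 := by
    have : 0 < Nat.card K := Nat.card_pos
    exact_mod_cast this.ne'
  by_cases hx1 : x = 1
  · subst hx1
    rw [Dl_def, Subgroup.coe_one, indFun_apply_one, inv_one, lam_apply, map_one, Units.val_one,
      sub_self, mul_zero, add_zero]
  · have hx1' : (x : G) ≠ 1 := fun h => hx1 (Subtype.ext h)
    rw [Dl_def, indFun_apply, h4_sum_ext_conj I _ x.2 hx1']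
    have e1 : (⟨(x : G), x.2⟩ : K) = x := rfl
    have e2 : (⟨(x : G)⁻¹, K.inv_mem x.2⟩ : K) = x⁻¹ := rfl
    rw [e1, e2]
    field_simp

end Cfsg.Agent.Helper1.BswCh
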