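import Mathlib
import Cfsg.Agent.Helper1.GlaubermanNPC
import Cfsg.Agent.Helper1.SylowInt
import Cfsg.Agent.Helper1.MaxSub

set_option autoImplicit false

/-!
A finite group with a maximal subgroup that is a `p`-group (`p` odd, or the subgroup abelian)
is solvable.
-/

namespace Cfsg.Agent.Helper4.MaxPGroupSolv

open Cfsg.Agent.Helper1 Cfsg.Agent.Helper1.ThompsonRed

universe u

/-- a finite `p`-group has a normal `p`-complement -/
theorem hasNormalPComplement_of_isPGroup {p : ℕ} [Fact p.Prime] {R : Type u} [Group R] [Finite R]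
    (hR : IsPGroup p R) : Cfsg.HasNormalPComplement p R := by
  obtain ⟨P, hP⟩ := (hR.to_subgroup (⊤ : Subgroup R)).exists_le_sylow
  have hPtop : (P : Subgroup R) = ⊤ := top_le_iff.1 hP
  refine ⟨P, ⊥, inferInstance, ?_⟩
  rw [hPtop]
  exact Subgroup.isComplement'_bot_top

theorem isSolvable_of_isPGroup {p : ℕ} [Fact p.Prime] {R : Type u} [Group R] [Finite R]
    (hR : IsPGroup p R) : Group.IsSolvable R := by
  have := hR.isNilpotent
  infer_instance

theorem isSolvable_quotient_of_normal_coatom {H : Type u} [Group H] (S : Subgroup H) [S.Normal]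
    (hS : IsCoatom S) : Group.IsSolvable (H ⧸ S) := by
  obtain ⟨g, hg⟩ : ∃ g : H, g ∉ S := by
    by_contra hcon
    push Not at hcon
    exact hS.1 (eq_top_iff.2 fun g _ => hcon g)
  have hsup : S ⊔ Subgroup.zpowers g = ⊤ := by
    apply hS.2
    refine lt_of_le_of_ne le_sup_left ?_
    intro h
    apply hg
    rw [h]
    exact Subgroup.mem_sup_right (Subgroup.mem_zpowers g)
  have hπ : Function.Surjective (QuotientGroup.mk' S) := QuotientGroup.mk'_surjective S
  have htop : Subgroup.zpowers (QuotientGroup.mk' S g) = ⊤ := by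
    have h1 := congrArg (Subgroup.map (QuotientGroup.mk' S)) hsup
    rw [Subgroup.map_sup, QuotientGroup.map_mk'_self, bot_sup_eq, MonoidHom.map_zpowers,
      Subgroup.map_top_of_surjective _ hπ] at h1
    exact h1
  apply Group.isSolvable_of_comm
  intro a b
  have ha : a ∈ Subgroup.zpowers (QuotientGroup.mk' S g) := by rw [htop]; trivial
  have hb : b ∈ Subgroup.zpowers (QuotientGroup.mk' S g) := by rw [htop]; trivial
  obtain ⟨i, rfl⟩ := Subgroup.mem_zpowers_iff.1 ha
  obtain ⟨j, rfl⟩ := Subgroup.mem_zpowers_iff.1 hb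
  rw [← zpow_add, ← zpow_add, add_comm]

theorem solvable_of_coatom_pgroup (p : ℕ) [hp : Fact p.Prime] :
    ∀ (n : ℕ) (H : Type u) [Group H] [Finite H], Nat.card H = n →
      ∀ S : Subgroup H, IsCoatom S → IsPGroup p S → (p ≠ 2 ∨ IsMulCommutative S) →
      Group.IsSolvable H := by
  intro n
  induction n using Nat.strong_induction_on with
  | _ n ih =>
  intro H _ _ hn S hS hSp hcase
  have hSsolv : Group.IsSolvable S := isSolvable_of_isPGroup hSp
  by_cases hSn : S.Normal
  · have := hSn
    have := isSolvable_quotient_of_normal_coatom S hS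
    exact (Group.isSolvable_iff_subgroup_quotient S).2 ⟨hSsolv, inferInstance⟩
  -- `S` is self-normalising
  have hNS : Subgroup.normalizer (S : Set H) = S := by
    by_contra hne
    have hlt : S < Subgroup.normalizer (S : Set H) :=
      lt_of_le_of_ne Subgroup.le_normalizer (Ne.symm hne)
    exact hSn (Subgroup.normalizer_eq_top_iff.1 (hS.2 _ hlt))
  have hSne : S ≠ ⊥ := by
    intro h
    apply hSn
    rw [h]
    infer_instance
  -- `S` is a Sylow subgroup, or `H` is a `p`-group
  obtain ⟨P, hSP⟩ := hSp.exists_le_sylow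
  by_cases hPtop : (P : Subgroup H) = ⊤
  · have h1 : IsPGroup p (⊤ : Subgroup H) := hPtop ▸ P.isPGroup'
    exact isSolvable_of_isPGroup (h1.of_equiv Subgroup.topEquiv)
  have hPS : (P : Subgroup H) = S := by
    by_contra hne
    exact hPtop (hS.2 _ (lt_of_le_of_ne hSP (Ne.symm hne)))
  -- a normal `p`-complement suffices
  have key : Cfsg.HasNormalPComplement p H → Group.IsSolvable H := by
    rintro ⟨P', K, hKn, hKc⟩
    have := hKn
    by_cases hK1 : K = ⊥
    · rw [hK1, Subgroup.isComplement'_bot_left] at hKc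
      have h1 : IsPGroup p (⊤ : Subgroup H) := hKc ▸ P'.isPGroup'
      exact isSolvable_of_isPGroup (h1.of_equiv Subgroup.topEquiv)
    have hpK : ¬ p ∣ Nat.card K := by
      rw [← hKc.index_eq_card]
      exact P'.not_dvd_index
    obtain ⟨k, hk⟩ := IsPGroup.iff_card.1 hSp
    have hcop : (Nat.card S).Coprime (Nat.card K) := by
      rw [hk]
      exact Nat.Coprime.pow_left k ((Nat.Prime.coprime_iff_not_dvd hp.out).2 hpK)
    have hSK : S ⊓ K = ⊥ := (Subgroup.disjoint_of_coprime_natCard hcop).eq_bot
    have hKcard : Nat.card K ≠ 1 := fun h => hK1 (Subgroup.card_eq_one.1 h)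
    obtain ⟨r, hr, hrK⟩ := Nat.exists_prime_and_dvd hKcard
    have : Fact r.Prime := ⟨hr⟩
    obtain ⟨R, hR⟩ := exists_invariant_sylow (p := r) S K
      (by rw [Subgroup.normalizer_eq_top_iff.2 hKn]; exact le_top) hcop (Or.inl hSsolv)
    obtain ⟨R', hR'⟩ : ∃ R' : Subgroup H, R' = (R : Subgroup K).map K.subtype := ⟨_, rfl⟩
    rw [← hR'] at hR
    have hR'K : R' ≤ K := by rw [hR']; exact Subgroup.map_subtype_le _
    have hR'ne : R' ≠ ⊥ := by
      rw [hR', Ne, Subgroup.map_eq_bot_iff_of_injective _ K.subtype_injective]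
      exact R.ne_bot_of_dvd_card hrK
    have hR'S : ¬ R' ≤ S := by
      intro hle
      apply hR'ne
      rw [← le_bot_iff, ← hSK]
      exact le_inf hle hR'K
    have hsup : S ⊔ R' = ⊤ := by
      apply hS.2
      refine lt_of_le_of_ne le_sup_left ?_
      intro h
      apply hR'S
      rw [h]
      exact le_sup_right
    have hR'n : R'.Normal := by
      rw [← Subgroup.normalizer_eq_top_iff, eq_top_iff, ← hsup]
      exact sup_le hR Subgroup.le_normalizer
    have := hR'n
    have hR'p : IsPGroup r R' := by
      rw [hR']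
      exact R.isPGroup'.map K.subtype
    have h1 : Group.IsSolvable R' := isSolvable_of_isPGroup hR'p
    have hmap : S.map (QuotientGroup.mk' R') = ⊤ := by
      have h3 := congrArg (Subgroup.map (QuotientGroup.mk' R')) hsup
      rw [Subgroup.map_sup, QuotientGroup.map_mk'_self, sup_bot_eq,
        Subgroup.map_top_of_surjective _ (QuotientGroup.mk'_surjective R')] at h3
      exact h3
    have hsurj : Function.Surjective ((QuotientGroup.mk' R').comp S.subtype) := by
      intro q
      have hq : q ∈ S.map (QuotientGroup.mk' R') := by rw [hmap]; trivial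
      obtain ⟨s, hs, rfl⟩ := hq
      exact ⟨⟨s, hs⟩, rfl⟩
    have h2 : Group.IsSolvable (H ⧸ R') := Group.isSolvable_of_surjective hsurj
    exact (Group.isSolvable_iff_subgroup_quotient R').2 ⟨h1, h2⟩
  rcases hcase with hp2 | hab
  · -- odd `p`: Glauberman--Thompson
    have hSW : S ≤ Subgroup.normalizer (Cfsg.centerThompsonAOf (P : Subgroup H) : Set H) := by
      rw [← zjFunctor_of]
      calc S ≤ Subgroup.normalizer (S : Set H) := Subgroup.le_normalizer
        _ = Subgroup.normalizer ((P : Subgroup H) : Set H) := by rw [hPS]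
        _ ≤ _ := CharFunctor.normalizer_le zjFunctor _
    by_cases hWtop : Subgroup.normalizer (Cfsg.centerThompsonAOf (P : Subgroup H) : Set H) = ⊤
    · obtain ⟨W, hW⟩ : ∃ W : Subgroup H, W = Cfsg.centerThompsonAOf (P : Subgroup H) := ⟨_, rfl⟩
      rw [← hW] at hWtop
      have hWn : W.Normal := Subgroup.normalizer_eq_top_iff.1 hWtop
      have hWS : W ≤ S := by
        rw [← hPS, hW, ← zjFunctor_of]
        exact CharFunctor.of_le zjFunctor (P : Subgroup H)
      have hWne : W ≠ ⊥ := by
        have hPne : (P : Subgroup H) ≠ ⊥ := by rw [hPS]; exact hSne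
        have h1 := zjFunctor_ne_bot (p := p) (↥(P : Subgroup H)) P.isPGroup'
          ((Subgroup.nontrivial_iff_ne_bot _).2 hPne)
        intro hbot
        apply h1
        have h2 : zjFunctor.of (P : Subgroup H) = ⊥ := by rw [zjFunctor_of, ← hW]; exact hbot
        unfold CharFunctor.of at h2
        exact (Subgroup.map_eq_bot_iff_of_injective _ (Subgroup.subtype_injective _)).1 h2
      have hlt : Nat.card (H ⧸ W) < n := by
        rw [← hn, Subgroup.card_eq_card_quotient_mul_card_subgroup W]
        have h1 : 1 < Nat.card W := by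
          rw [Finite.one_lt_card_iff_nontrivial]
          exact (Subgroup.nontrivial_iff_ne_bot W).2 hWne
        have h2 : 0 < Nat.card (H ⧸ W) := Nat.card_pos
        nlinarith
      have hquot : Group.IsSolvable (H ⧸ W) :=
        ih _ hlt (H ⧸ W) rfl (S.map (QuotientGroup.mk' W)) (isCoatom_map_mk' W S hWS hS)
          (hSp.map _) (Or.inl hp2)
      have : Group.IsSolvable W := isSolvable_of_isPGroup (hSp.to_le hWS)
      exact (Group.isSolvable_iff_subgroup_quotient W).2 ⟨inferInstance, inferInstance⟩
    · have hNW : Subgroup.normalizer (Cfsg.centerThompsonAOf (P : Subgroup H) : Set H) = S := by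
        by_contra hne
        exact hWtop (hS.2 _ (lt_of_le_of_ne hSW (Ne.symm hne)))
      apply key
      apply glauberman_npc hp2 H P
      apply hasNormalPComplement_of_isPGroup
      rw [hNW]
      exact hSp
  · -- abelian `S`: Burnside's transfer theorem
    have := hab
    apply key
    have hP : Subgroup.normalizer ((P : Subgroup H) : Set H) ≤
        Subgroup.centralizer ((P : Subgroup H) : Set H) := by
      rw [hPS, hNS]
      intro a ha
      rw [Subgroup.mem_centralizer_iff]
      intro b hb
      exact congrArg Subtype.val (mul_comm' (⟨b, hb⟩ : S) ⟨a, ha⟩)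
    exact ⟨P, (MonoidHom.transferSylow P hP).ker, inferInstance,
      MonoidHom.ker_transferSylow_isComplement' P hP⟩

end Cfsg.Agent.Helper4.MaxPGroupSolv
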