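import Mathlib
import Cfsg.Agent.Helper4.MaxPGroupSolv
import Cfsg.Agent.Helper1.AbelianCoatomHerstein

set_option autoImplicit false

/-!
A finite group in which the centralizer of every non-central element is a maximal subgroup
is solvable.
-/

namespace Cfsg.Agent.Helper4.CentMax

universe u

variable {G : Type u} [Group G]

/-- centralizer of an element -/
abbrev cz (g : G) : Subgroup G := Subgroup.centralizer ({g} : Set G)

theorem mem_cz {g k : G} : k ∈ cz g ↔ k * g = g * k := Subgroup.mem_centralizer_singleton_iff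

theorem cz_le_cz_pow (g : G) (k : ℕ) : cz g ≤ cz (g ^ k) := by
  intro u hu
  rw [mem_cz] at hu ⊢
  exact (Commute.pow_right (show Commute u g from hu) k).eq

theorem cz_mul_central {z g : G} (hz : z ∈ Subgroup.center G) : cz (z * g) = cz g := by
  ext u
  rw [mem_cz, mem_cz]
  have hzu : u * z = z * u := Subgroup.mem_center_iff.1 hz u
  constructor
  · intro h
    have : z * (u * g) = z * (g * u) := by
      rw [← mul_assoc, ← hzu, mul_assoc, h, mul_assoc]
    exact mul_left_cancel this
  · intro h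
    rw [← mul_assoc, hzu, mul_assoc, h, mul_assoc]

theorem main [Finite G]
    (h : ∀ g : G, g ∉ Subgroup.center G → IsCoatom (cz g)) : Group.IsSolvable G := by
  classical
  by_cases hab : ∀ g : G, g ∈ Subgroup.center G
  · apply Group.isSolvable_of_comm
    intro a b
    exact Subgroup.mem_center_iff.1 (hab b) a
  push Not at hab
  obtain ⟨x, hx⟩ := hab
  obtain ⟨M, hM⟩ : ∃ M : Subgroup G, M = cz x := ⟨_, rfl⟩
  have hMco : IsCoatom M := by rw [hM]; exact h x hx
  by_cases hMab : IsMulCommutative M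
  · have := hMab
    exact ⟨⟨3, Cfsg.Agent.Helper1.derivedSeries_three_of_abelian_coatom M hMco⟩⟩
  have hZM : Subgroup.center G ≤ M := by
    intro z hz
    rw [hM, mem_cz]
    exact (Subgroup.mem_center_iff.1 hz x).symm
  have hne_top : ∀ g : G, g ∉ Subgroup.center G → cz g ≠ ⊤ := fun g hg => (h g hg).1
  have hmax : ∀ g : G, g ∉ Subgroup.center G → ∀ L : Subgroup G, cz g ≤ L → L ≠ ⊤ →
      L = cz g := by
    intro g hg L hle hL
    by_contra hne
    exact hL ((h g hg).2 L (lt_of_le_of_ne hle (Ne.symm hne)))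
  obtain ⟨A, hA⟩ : ∃ A : Subgroup G, A = M ⊓ Subgroup.centralizer (M : Set G) := ⟨_, rfl⟩
  have memA : ∀ a : G, a ∈ A ↔ a ∈ M ∧ ∀ m ∈ M, m * a = a * m := by
    intro a
    rw [hA, Subgroup.mem_inf, Subgroup.mem_centralizer_iff]
    rfl
  have hxM : x ∈ M := by rw [hM, mem_cz]
  have hxA : x ∈ A := by
    rw [memA]
    refine ⟨hxM, ?_⟩
    intro m hm
    rw [hM, mem_cz] at hm
    exact hm
  have hZA : Subgroup.center G ≤ A := by
    intro z hz
    rw [memA]
    exact ⟨hZM hz, fun m _ => Subgroup.mem_center_iff.1 hz m⟩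
  have hczA : ∀ a ∈ A, a ∉ Subgroup.center G → cz a = M := by
    intro a ha haZ
    have hle : cz x ≤ cz a := by
      intro m hm
      rw [mem_cz]
      exact ((memA a).1 ha).2 m (by rw [hM]; exact hm)
    rw [hM]
    exact hmax x hx (cz a) hle (hne_top a haZ)
  obtain ⟨y₀, hy₀M, hy₀A⟩ : ∃ y ∈ M, y ∉ A := by
    by_contra hcon
    push Not at hcon
    apply hMab
    refine ⟨⟨fun a b => ?_⟩⟩
    apply Subtype.ext
    exact ((memA b.1).1 (hcon b.1 b.2)).2 a.1 a.2
  -- the core claim
  have CC : ∀ a ∈ A, a ∉ Subgroup.center G → ∀ y ∈ M, y ∉ A → ∀ k : ℕ,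
      (a ^ k ∈ Subgroup.center G ↔ y ^ k ∈ Subgroup.center G) := by
    intro a ha haZ y hyM hyA k
    have hyZ : y ∉ Subgroup.center G := fun hh => hyA (hZA hh)
    have hca : cz a = M := hczA a ha haZ
    have hay : y * a = a * y := ((memA a).1 ha).2 y hyM
    have haM : a ∈ M := ((memA a).1 ha).1
    have hcy : cz y ≠ M := by
      intro hh
      apply hyA
      rw [memA]
      refine ⟨hyM, fun m hm => ?_⟩
      rw [← hh, mem_cz] at hm
      exact hm
    obtain ⟨g, hg⟩ : ∃ g : G, g = a * y := ⟨_, rfl⟩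
    have hgM : g ∈ M := by rw [hg]; exact M.mul_mem haM hyM
    have hyg : y = a⁻¹ * g := by rw [hg, inv_mul_cancel_left]
    have hgZ : g ∉ Subgroup.center G := by
      intro hh
      apply hyA
      rw [hyg]
      exact A.mul_mem (A.inv_mem ha) (hZA hh)
    have hcomm : Commute a y := hay.symm
    have hgk : g ^ k = a ^ k * y ^ k := by rw [hg]; exact hcomm.mul_pow k
    constructor
    · intro hak
      by_contra hyk
      have h1 : cz (g ^ k) = cz (y ^ k) := by rw [hgk]; exact cz_mul_central hak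
      have hgkZ : g ^ k ∉ Subgroup.center G := by
        intro hh
        apply hyk
        have : y ^ k = (a ^ k)⁻¹ * g ^ k := by rw [hgk, inv_mul_cancel_left]
        rw [this]
        exact (Subgroup.center G).mul_mem ((Subgroup.center G).inv_mem hak) hh
      have h2 : cz (g ^ k) = cz g := hmax g hgZ _ (cz_le_cz_pow g k) (hne_top _ hgkZ)
      have h3 : cz (y ^ k) = cz y := hmax y hyZ _ (cz_le_cz_pow y k) (hne_top _ hyk)
      have h4 : cz g = cz y := by rw [← h2, h1, h3]
      have h5 : cz y ≤ cz a := by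
        intro m hm
        have hmg : m ∈ cz g := by rw [h4]; exact hm
        rw [mem_cz] at hm hmg ⊢
        rw [hg] at hmg
        have : m * a * y = a * m * y := by
          calc m * a * y = m * (a * y) := mul_assoc _ _ _
            _ = a * y * m := hmg
            _ = a * (y * m) := mul_assoc _ _ _
            _ = a * (m * y) := by rw [hm]
            _ = a * m * y := (mul_assoc _ _ _).symm
        exact mul_right_cancel this
      have h6 : cz a = cz y := hmax y hyZ (cz a) h5 (hne_top a haZ)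
      exact hcy (by rw [← h6, hca])
    · intro hyk
      by_contra hak
      have hgk' : g ^ k = y ^ k * a ^ k := by rw [hgk]; exact (hcomm.pow_pow k k).eq
      have h1 : cz (g ^ k) = cz (a ^ k) := by rw [hgk']; exact cz_mul_central hyk
      have hgkZ : g ^ k ∉ Subgroup.center G := by
        intro hh
        apply hak
        have : a ^ k = (y ^ k)⁻¹ * g ^ k := by rw [hgk', inv_mul_cancel_left]
        rw [this]
        exact (Subgroup.center G).mul_mem ((Subgroup.center G).inv_mem hyk) hh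
      have h2 : cz (g ^ k) = cz g := hmax g hgZ _ (cz_le_cz_pow g k) (hne_top _ hgkZ)
      have h3 : cz (a ^ k) = cz a := hmax a haZ _ (cz_le_cz_pow a k) (hne_top _ hak)
      have h4 : cz g = M := by rw [← h2, h1, h3, hca]
      have hgA : g ∈ A := by
        rw [memA]
        refine ⟨hgM, fun m hm => ?_⟩
        rw [← h4, mem_cz] at hm
        exact hm
      apply hyA
      rw [hyg]
      exact A.mul_mem (A.inv_mem ha) hgA
  -- the order of `x` modulo the centre
  have hex : ∃ k : ℕ, 0 < k ∧ x ^ k ∈ Subgroup.center G :=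
    ⟨orderOf x, orderOf_pos x, by rw [pow_orderOf_eq_one]; exact (Subgroup.center G).one_mem⟩
  obtain ⟨n, hn_spec, hn_min⟩ : ∃ n : ℕ, (0 < n ∧ x ^ n ∈ Subgroup.center G) ∧
      ∀ k : ℕ, 0 < k → k < n → x ^ k ∉ Subgroup.center G :=
    ⟨Nat.find hex, Nat.find_spec hex, fun k hk hkn hh => Nat.find_min hex hkn ⟨hk, hh⟩⟩
  have hn1 : n ≠ 1 := by
    intro h1
    apply hx
    have := hn_spec.2
    rwa [h1, pow_one] at this
  obtain ⟨p, hp⟩ : ∃ p : ℕ, p = n.minFac := ⟨_, rfl⟩
  have hpp : p.Prime := by rw [hp]; exact Nat.minFac_prime hn1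
  obtain ⟨m, hm⟩ : p ∣ n := by rw [hp]; exact Nat.minFac_dvd n
  have hm1 : m = 1 := by
    by_contra hm1
    have hm0 : 0 < m := by
      rcases Nat.eq_zero_or_pos m with h0 | h0
      · rw [h0, mul_zero] at hm
        have := hn_spec.1
        omega
      · exact h0
    have h2m : 2 * m ≤ p * m := Nat.mul_le_mul_right m hpp.two_le
    have hmlt : m < n := by rw [hm]; omega
    have hp2 : p * 2 ≤ p * m := Nat.mul_le_mul_left p (by omega)
    have hplt : p < n := by
      rw [hm]
      have := hpp.two_le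
      omega
    have hxpA : x ^ p ∈ A := A.pow_mem hxA p
    have hxpZ : x ^ p ∉ Subgroup.center G := hn_min p hpp.pos hplt
    have e1 := CC x hxA hx y₀ hy₀M hy₀A m
    have e2 := CC (x ^ p) hxpA hxpZ y₀ hy₀M hy₀A m
    have h3 : (x ^ p) ^ m ∈ Subgroup.center G := by rw [← pow_mul, ← hm]; exact hn_spec.2
    exact hn_min m hm0 hmlt (e1.2 (e2.1 h3))
  have hnp : n = p := by rw [hm, hm1, mul_one]
  have hxp : x ^ p ∈ Subgroup.center G := by rw [← hnp]; exact hn_spec.2
  have hy₀p : y₀ ^ p ∈ Subgroup.center G := (CC x hxA hx y₀ hy₀M hy₀A p).1 hxp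
  have KL : ∀ g ∈ M, g ^ p ∈ Subgroup.center G := by
    intro g hgM
    by_cases hgZ : g ∈ Subgroup.center G
    · exact (Subgroup.center G).pow_mem hgZ p
    by_cases hgA : g ∈ A
    · exact (CC g hgA hgZ y₀ hy₀M hy₀A p).2 hy₀p
    · exact (CC x hxA hx g hgM hgA p).1 hxp
  -- pass to the quotient by the centre
  have hpf : Fact p.Prime := ⟨hpp⟩
  obtain ⟨Mbar, hMbar⟩ : ∃ Mbar : Subgroup (G ⧸ Subgroup.center G),
      Mbar = M.map (QuotientGroup.mk' (Subgroup.center G)) := ⟨_, rfl⟩
  have hMbar_co : IsCoatom Mbar := by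
    rw [hMbar]
    exact Cfsg.Agent.Helper1.isCoatom_map_mk' (Subgroup.center G) M hZM hMco
  have hMbar_exp : ∀ q ∈ Mbar, q ^ p = 1 := by
    intro q hq
    rw [hMbar] at hq
    obtain ⟨g, hg, rfl⟩ := hq
    rw [← map_pow]
    exact (QuotientGroup.eq_one_iff _).2 (KL g hg)
  have hMbar_p : IsPGroup p Mbar := by
    intro q
    refine ⟨1, ?_⟩
    apply Subtype.ext
    rw [pow_one, Subgroup.coe_pow, Subgroup.coe_one]
    exact hMbar_exp q.1 q.2
  have hcase : p ≠ 2 ∨ IsMulCommutative Mbar := by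
    by_cases hp2 : p = 2
    · right
      refine ⟨⟨fun a b => ?_⟩⟩
      apply Subtype.ext
      have ha := hMbar_exp a.1 a.2
      have hb := hMbar_exp b.1 b.2
      have hab := hMbar_exp (a.1 * b.1) (Mbar.mul_mem a.2 b.2)
      rw [hp2] at ha hb hab
      show a.1 * b.1 = b.1 * a.1
      have h1 : a.1 * b.1 * (a.1 * b.1) = 1 := by rw [← pow_two]; exact hab
      have h2 : a.1 * a.1 = 1 := by rw [← pow_two]; exact ha
      have h3 : b.1 * b.1 = 1 := by rw [← pow_two]; exact hb
      have h4 : a.1 * (a.1 * b.1 * (a.1 * b.1)) * b.1 = a.1 * 1 * b.1 := by rw [h1]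
      have h5 : a.1 * (a.1 * b.1 * (a.1 * b.1)) * b.1 =
          (a.1 * a.1) * (b.1 * a.1) * (b.1 * b.1) := by group
      rw [h5, h2, h3] at h4
      simpa using h4.symm
    · exact Or.inl hp2
  have hquot : Group.IsSolvable (G ⧸ Subgroup.center G) :=
    MaxPGroupSolv.solvable_of_coatom_pgroup p _ (G ⧸ Subgroup.center G) rfl Mbar hMbar_co
      hMbar_p hcase
  have hZsolv : Group.IsSolvable (Subgroup.center G) :=
    Group.isSolvable_of_comm (fun a b => Subtype.ext (Subgroup.mem_center_iff.1 b.2 a.1))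
  exact (Group.isSolvable_iff_subgroup_quotient (Subgroup.center G)).2 ⟨hZsolv, hquot⟩

end Cfsg.Agent.Helper4.CentMax
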