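import Mathlib

set_option autoImplicit false

namespace Cfsg.Agent.Helper4

theorem le_normal_iff_map_mk_eq_bot {G : Type*} [Group G] (N : Subgroup G) [N.Normal]
    (X : Subgroup G) : X ≤ N ↔ X.map (QuotientGroup.mk' N) = ⊥ := by
  rw [Subgroup.map_eq_bot_iff, QuotientGroup.ker_mk']

/-- Three subgroups lemma modulo a normal subgroup. -/
theorem three_subgroups_normal {G : Type*} [Group G] (N : Subgroup G) [N.Normal]
    (A B C : Subgroup G) (h1 : ⁅⁅B, C⁆, A⁆ ≤ N) (h2 : ⁅⁅C, A⁆, B⁆ ≤ N) : ⁅⁅A, B⁆, C⁆ ≤ N := by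
  rw [le_normal_iff_map_mk_eq_bot, Subgroup.map_commutator, Subgroup.map_commutator] at h1 h2 ⊢
  exact Subgroup.commutator_commutator_eq_bot_of_rotate h1 h2

theorem commutator_lowerCentralSeries_le {G : Type*} [Group G] (H : ℕ → Subgroup G)
    (hN : ∀ i, (H i).Normal) (L : Subgroup G)
    (hL : ∀ i, ⁅H i, L⁆ ≤ H (i + 1)) (j : ℕ) :
    ∀ i, ⁅H i, L.lowerCentralSeries j⁆ ≤ H (i + j + 1) := by
  induction j with
  | zero => intro i; exact hL i
  | succ j ih =>
    intro i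
    have hn : (H (i + (j + 1) + 1)).Normal := hN _
    rw [Subgroup.lowerCentralSeries_succ, Subgroup.commutator_comm]
    apply three_subgroups_normal
    · -- ⁅⁅L, H i⁆, γ_j⁆
      rw [Subgroup.commutator_comm L (H i)]
      calc ⁅⁅H i, L⁆, L.lowerCentralSeries j⁆ ≤ ⁅H (i + 1), L.lowerCentralSeries j⁆ :=
            Subgroup.commutator_mono (hL i) le_rfl
        _ ≤ H (i + 1 + j + 1) := ih (i + 1)
        _ = H (i + (j + 1) + 1) := by congr 1; omega
    · -- ⁅⁅H i, γ_j⁆, L⁆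
      calc ⁅⁅H i, L.lowerCentralSeries j⁆, L⁆ ≤ ⁅H (i + j + 1), L⁆ :=
            Subgroup.commutator_mono (ih i) le_rfl
        _ ≤ H (i + j + 1 + 1) := hL _
        _ = H (i + (j + 1) + 1) := by congr 1

end Cfsg.Agent.Helper4
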