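import Mathlib
import Cfsg.Prelude.Def_Solvable
import Cfsg.Agent.Helper4.Frobenius

set_option autoImplicit false

namespace Cfsg.Agent.Helper4

open scoped Pointwise

/-- If a nontrivial group `K` acts on a nontrivial group `N` such that no nonidentity element of
`K` fixes a nonidentity element of `N`, then `K` is a Frobenius complement in `N ⋊ K`. -/
theorem isFrobeniusComplement_inr_range {N K : Type*} [Group N] [Group K] [Nontrivial N]
    [Nontrivial K] (φ : K →* MulAut N)
    (hfpf : ∀ k : K, k ≠ 1 → ∀ a : N, φ k a = a → a = 1) :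
    Cfsg.IsFrobeniusComplement
      ((SemidirectProduct.inr : K →* N ⋊[φ] K).range) := by
  have hmem : ∀ g : N ⋊[φ] K, g ∈ (SemidirectProduct.inr : K →* N ⋊[φ] K).range ↔
      g.left = 1 := by
    intro g
    constructor
    · rintro ⟨k, rfl⟩
      rfl
    · intro h
      refine ⟨g.right, ?_⟩
      apply SemidirectProduct.ext
      · rw [h]; rfl
      · rfl
  refine ⟨?_, ?_, ?_⟩
  · intro hbot
    obtain ⟨k, hk⟩ := exists_ne (1 : K)
    have h1 : (SemidirectProduct.inr k : N ⋊[φ] K) ∈
        (SemidirectProduct.inr : K →* N ⋊[φ] K).range := ⟨k, rfl⟩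
    rw [hbot, Subgroup.mem_bot] at h1
    apply hk
    apply SemidirectProduct.inr_injective (φ := φ)
    rw [h1, map_one]
  · intro htop
    obtain ⟨a, ha⟩ := exists_ne (1 : N)
    have h1 : (SemidirectProduct.inl a : N ⋊[φ] K) ∈
        (SemidirectProduct.inr : K →* N ⋊[φ] K).range := by
      rw [htop]; trivial
    rw [hmem] at h1
    exact ha h1
  · intro g hg
    rw [eq_bot_iff]
    intro x hx
    rw [Subgroup.mem_bot]
    obtain ⟨hx1, hx2⟩ := Subgroup.mem_inf.mp hx
    have hx2' : g⁻¹ * x * g ∈ (SemidirectProduct.inr : K →* N ⋊[φ] K).range :=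
      (mem_conj_smul_iff _ g x).mp hx2
    rw [hmem] at hx1 hx2' hg
    -- write y = g⁻¹ * x * g, so x * g = g * y
    set y := g⁻¹ * x * g with hy
    have hxy : x * g = g * y := by rw [hy]; group
    have hleft := congrArg SemidirectProduct.left hxy
    rw [SemidirectProduct.mul_left, SemidirectProduct.mul_left, hx1, hx2', one_mul, map_one,
      mul_one] at hleft
    by_contra hx
    have hxr : x.right ≠ 1 := by
      intro h
      apply hx
      apply SemidirectProduct.ext
      · rw [hx1]; rfl
      · rw [h]; rfl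
    exact hg (hfpf x.right hxr g.left hleft)

end Cfsg.Agent.Helper4
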