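import Mathlib
import Cfsg.Prelude.Def_Solvable
import Cfsg.Agent.Helper4.FrobeniusSemidirect

set_option autoImplicit false

namespace Cfsg.Agent.Helper4

open scoped Pointwise

universe u v

/-- Frobenius complements are transported by group isomorphisms. -/
theorem isFrobeniusComplement_map_equiv {L : Type u} {L' : Type v} [Group L] [Group L']
    (ψ : L ≃* L') (C : Subgroup L) (hC : Cfsg.IsFrobeniusComplement C) :
    Cfsg.IsFrobeniusComplement (C.map ψ.toMonoidHom) := by
  obtain ⟨h1, h2, h3⟩ := hC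
  refine ⟨?_, ?_, ?_⟩
  · intro h
    apply h1
    rw [eq_bot_iff] at h ⊢
    intro x hx
    have : ψ x ∈ C.map ψ.toMonoidHom := Subgroup.mem_map_of_mem _ hx
    have h4 := h this
    rw [Subgroup.mem_bot] at h4 ⊢
    exact ψ.injective (h4.trans (map_one ψ).symm)
  · intro h
    apply h2
    rw [eq_top_iff] at h ⊢
    intro x _
    have : ψ x ∈ C.map ψ.toMonoidHom := h trivial
    obtain ⟨c, hc, hcx⟩ := Subgroup.mem_map.mp this
    have : c = x := ψ.injective hcx
    rw [← this]; exact hc
  · intro g hg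
    rw [eq_bot_iff]
    intro x hx
    obtain ⟨hx1, hx2⟩ := Subgroup.mem_inf.mp hx
    obtain ⟨c₁, hc₁, hc₁x⟩ := Subgroup.mem_map.mp hx1
    rw [Subgroup.mem_pointwise_smul_iff_inv_smul_mem] at hx2
    obtain ⟨c₂, hc₂, hc₂x⟩ := Subgroup.mem_map.mp hx2
    have hg' : ψ.symm g ∉ C := by
      intro hmem
      apply hg
      have := Subgroup.mem_map_of_mem ψ.toMonoidHom hmem
      simpa using this
    have h4 := h3 (ψ.symm g) hg'
    have hc₁mem : c₁ ∈ C ⊓ (MulAut.conj (ψ.symm g) • C) := by
      refine Subgroup.mem_inf.mpr ⟨hc₁, ?_⟩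
      rw [Subgroup.mem_pointwise_smul_iff_inv_smul_mem]
      have : (MulAut.conj (ψ.symm g))⁻¹ • c₁ = c₂ := by
        apply ψ.injective
        have e1 : ψ c₂ = (MulAut.conj g)⁻¹ • x := hc₂x
        have e2 : ψ c₁ = x := hc₁x
        rw [e1, ← e2]
        simp [MulAut.smul_def]
      rw [this]; exact hc₂
    rw [h4, Subgroup.mem_bot] at hc₁mem
    rw [Subgroup.mem_bot]
    have e2 : ψ c₁ = x := hc₁x
    rw [← e2, hc₁mem, map_one]

/-- A bare copy of `Fin n` carrying no algebraic instances. -/
structure FinBox (n : ℕ) : Type where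
  /-- the underlying element -/
  val : Fin n

/-- `FinBox n` is `Fin n`. -/
def finBoxEquiv (n : ℕ) : FinBox n ≃ Fin n where
  toFun x := x.val
  invFun i := ⟨i⟩
  left_inv _ := rfl
  right_inv _ := rfl

instance finBox_finite (n : ℕ) : Finite (FinBox n) := Finite.of_equiv _ (finBoxEquiv n).symm

/-- A finite group with a Frobenius complement has a copy in `Type`. -/
theorem exists_small_frobenius_copy {L' : Type u} [Group L'] [Finite L'] (C' : Subgroup L')
    (hC' : Cfsg.IsFrobeniusComplement C') :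
    ∃ (L : Type) (_ : Group L) (_ : Finite L) (C : Subgroup L),
      Cfsg.IsFrobeniusComplement C ∧ Nonempty (C' ≃* C) := by
  let e : L' ≃ FinBox (Nat.card L') := (Finite.equivFin L').trans (finBoxEquiv _).symm
  letI : Group (FinBox (Nat.card L')) := e.symm.group
  let ψ : L' ≃* FinBox (Nat.card L') := (e.symm.mulEquiv).symm
  refine ⟨FinBox (Nat.card L'), inferInstance, inferInstance, C'.map ψ.toMonoidHom,
    isFrobeniusComplement_map_equiv ψ C' hC', ⟨?_⟩⟩
  exact Subgroup.equivMapOfInjective C' ψ.toMonoidHom ψ.injective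

end Cfsg.Agent.Helper4
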