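import Mathlib
import Cfsg.Agent.Helper4.FrobeniusTransport

set_option autoImplicit false

/-!
# Minimal normal subgroups are powers of a simple group

`exists_mulEquiv_pi_simple`: a finite nontrivial group `X` with a monoid `A` acting by automorphisms
such that `X` has no proper nontrivial `A`-invariant normal subgroup is isomorphic to `Fin m → T`
for a simple group `T : Type` and `m > 0`.  Consequences: minimal normal subgroups
(`minNormal_mulEquiv_pi_simple`) and characteristically simple groups.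
-/

namespace Cfsg.Agent.Helper4

universe u v

/-- Every finite group has an isomorphic copy in `Type`. -/
theorem exists_type0_copy (S : Type u) [Group S] [Finite S] :
    ∃ (T : Type) (_ : Group T), Nonempty (S ≃* T) := by
  let e : S ≃ FinBox (Nat.card S) := (Finite.equivFin S).trans (finBoxEquiv _).symm
  letI : Group (FinBox (Nat.card S)) := e.symm.group
  exact ⟨FinBox (Nat.card S), inferInstance, ⟨(e.symm.mulEquiv).symm⟩⟩

/-- `S` is a minimal normal subgroup of `X`. -/
def IsMinNormal {X : Type*} [Group X] (S : Subgroup X) : Prop :=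
  S.Normal ∧ S ≠ ⊥ ∧ ∀ R : Subgroup X, R.Normal → R ≤ S → R = ⊥ ∨ R = S

theorem exists_isMinNormal (X : Type*) [Group X] [Finite X] [Nontrivial X] :
    ∃ S : Subgroup X, IsMinNormal S := by
  have hfin : Set.Finite {S : Subgroup X | S.Normal ∧ S ≠ ⊥} := Set.toFinite _
  have hne : {S : Subgroup X | S.Normal ∧ S ≠ ⊥}.Nonempty := ⟨⊤, inferInstance, top_ne_bot⟩
  obtain ⟨S, hS, hmin⟩ := hfin.exists_minimal hne
  refine ⟨S, hS.1, hS.2, fun R hR hRS => ?_⟩
  by_cases h : R = ⊥
  · exact Or.inl h
  · exact Or.inr (le_antisymm hRS (hmin ⟨hR, h⟩ hRS))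

/-- Every nontrivial normal subgroup of a finite group contains a minimal normal subgroup. -/
theorem exists_isMinNormal_le {X : Type*} [Group X] [Finite X] (N : Subgroup X) (hN : N.Normal)
    (hN1 : N ≠ ⊥) : ∃ S : Subgroup X, IsMinNormal S ∧ S ≤ N := by
  have hfin : Set.Finite {S : Subgroup X | S.Normal ∧ S ≠ ⊥ ∧ S ≤ N} := Set.toFinite _
  have hne : {S : Subgroup X | S.Normal ∧ S ≠ ⊥ ∧ S ≤ N}.Nonempty := ⟨N, hN, hN1, le_rfl⟩
  obtain ⟨S, hS, hmin⟩ := hfin.exists_minimal hne
  refine ⟨S, ⟨hS.1, hS.2.1, fun R hR hRS => ?_⟩, hS.2.2⟩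
  by_cases h : R = ⊥
  · exact Or.inl h
  · exact Or.inr (le_antisymm hRS (hmin ⟨hR, h, hRS.trans hS.2.2⟩ hRS))

theorem IsMinNormal.map {X : Type*} [Group X] {S : Subgroup X} (hS : IsMinNormal S) (α : MulAut X) :
    IsMinNormal (S.map α.toMonoidHom) := by
  obtain ⟨hn, h1, hmin⟩ := hS
  refine ⟨hn.map α.toMonoidHom α.surjective, ?_, ?_⟩
  · intro h
    exact h1 ((Subgroup.map_eq_bot_iff_of_injective S α.injective).mp h)
  · intro R hR hRS
    have hR' : (R.comap α.toMonoidHom).Normal := hR.comap _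
    have hle : R.comap α.toMonoidHom ≤ S := by
      intro x hx
      obtain ⟨s, hs, hsx⟩ := hRS hx
      have : s = x := α.injective hsx
      rw [← this]; exact hs
    have hRmap : (R.comap α.toMonoidHom).map α.toMonoidHom = R :=
      Subgroup.map_comap_eq_self_of_surjective α.surjective R
    rcases hmin _ hR' hle with h | h
    · left
      rw [← hRmap, h, Subgroup.map_bot]
    · right
      rw [← hRmap, h]

theorem indep_insert_normal {X : Type*} [Group X] (S : Set (Subgroup X)) (hS : sSupIndep S)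
    (V : Subgroup X) (hV : V.Normal) (hVS : V ⊓ sSup S = ⊥) : sSupIndep (insert V S) := by
  intro a ha
  rw [disjoint_iff]
  rcases ha with rfl | haS
  · have h1 : sSup (insert a S \ {a}) ≤ sSup S := by
      apply sSup_le_sSup
      rintro b ⟨hb1, hb2⟩
      rcases hb1 with rfl | hb1
      · exact absurd rfl hb2
      · exact hb1
    exact le_bot_iff.mp (hVS ▸ inf_le_inf_left a h1)
  · by_cases hav : a = V
    · subst hav
      have h1 : sSup (insert a S \ {a}) ≤ sSup S := by
        apply sSup_le_sSup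
        rintro b ⟨hb1, hb2⟩
        rcases hb1 with rfl | hb1
        · exact absurd rfl hb2
        · exact hb1
      exact le_bot_iff.mp (hVS ▸ inf_le_inf_left a h1)
    · have h1 : insert V S \ {a} = insert V (S \ {a}) := by
        ext b
        simp only [Set.mem_sdiff, Set.mem_insert_iff, Set.mem_singleton_iff]
        constructor
        · rintro ⟨rfl | hb, hba⟩
          · exact Or.inl rfl
          · exact Or.inr ⟨hb, hba⟩
        · rintro (rfl | ⟨hb, hba⟩)
          · exact ⟨Or.inl rfl, fun h => hav h.symm⟩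
          · exact ⟨Or.inr hb, hba⟩
      rw [h1, sSup_insert, eq_bot_iff]
      set Y := sSup (S \ {a}) with hY
      have hYS : Y ≤ sSup S := sSup_le_sSup Set.sdiff_subset
      have haS' : a ≤ sSup S := le_sSup haS
      have haY : a ⊓ Y = ⊥ := disjoint_iff.mp (hS haS)
      intro x hx
      obtain ⟨hxa, hxVY⟩ := hx
      have h2 : x ∈ ((V ⊔ Y : Subgroup X) : Set X) := hxVY
      rw [Subgroup.normal_mul] at h2
      obtain ⟨v, hv, y, hy, hvy⟩ := Set.mem_mul.mp h2
      have hv' : v = x * y⁻¹ := by rw [← hvy]; group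
      have hvS : v ∈ sSup S := by
        rw [hv']
        exact Subgroup.mul_mem _ (haS' hxa) (Subgroup.inv_mem _ (hYS hy))
      have hv1 : v ∈ V ⊓ sSup S := ⟨hv, hvS⟩
      rw [hVS, Subgroup.mem_bot] at hv1
      have hxy : x = y := by rw [← hvy, hv1, one_mul]
      have : x ∈ a ⊓ Y := ⟨hxa, hxy ▸ hy⟩
      rwa [haY] at this

/-- From any set of minimal normal subgroups one can extract an independent finite family with the
same join. -/
theorem exists_indep_family {X : Type*} [Group X] [Finite X] (𝒞 : Set (Subgroup X))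
    (h𝒞 : ∀ S ∈ 𝒞, IsMinNormal S) :
    ∃ (n : ℕ) (V : Fin n → Subgroup X), (∀ i, V i ∈ 𝒞) ∧ iSupIndep V ∧ (⨆ i, V i) = sSup 𝒞 := by
  classical
  set 𝒮 : Set (Finset (Subgroup X)) :=
    {S | (↑S : Set (Subgroup X)) ⊆ 𝒞 ∧ sSupIndep (↑S : Set (Subgroup X))} with h𝒮
  have h𝒮fin : 𝒮.Finite := Set.toFinite 𝒮
  have h𝒮ne : 𝒮.Nonempty := ⟨∅, by simp [h𝒮, sSupIndep]⟩
  obtain ⟨S, hS𝒮, hSmax⟩ := Set.exists_max_image 𝒮 (fun S => S.card) h𝒮fin h𝒮ne
  obtain ⟨hS𝓜, hSind⟩ := hS𝒮
  have hWn : (sSup (↑S : Set (Subgroup X))).Normal :=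
    Subgroup.sSup_normal _ (fun V hV => (h𝒞 V (hS𝓜 hV)).1)
  have hsup : sSup (↑S : Set (Subgroup X)) = sSup 𝒞 := by
    apply le_antisymm (sSup_le_sSup hS𝓜)
    apply sSup_le
    intro V hV
    by_contra hVW
    obtain ⟨hVn, hV1, hVmin⟩ := h𝒞 V hV
    have hint : V ⊓ sSup (↑S : Set (Subgroup X)) = ⊥ := by
      rcases hVmin (V ⊓ sSup (↑S : Set (Subgroup X))) (Subgroup.normal_inf_normal _ _)
        inf_le_left with h | h
      · exact h
      · exact absurd (inf_eq_left.mp h) hVW
    have hVS : V ∉ S := fun h => hVW (le_sSup (Finset.mem_coe.mpr h))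
    have hins : insert V S ∈ 𝒮 := by
      refine ⟨?_, ?_⟩
      · rw [Finset.coe_insert]
        exact Set.insert_subset hV hS𝓜
      · rw [Finset.coe_insert]
        exact indep_insert_normal _ hSind V hVn hint
    have := hSmax _ hins
    rw [Finset.card_insert_of_notMem hVS] at this
    omega
  refine ⟨S.card, fun i => ((S.equivFin.symm i : {x // x ∈ S}) : Subgroup X), ?_, ?_, ?_⟩
  · intro i
    exact hS𝓜 (Finset.mem_coe.mpr (S.equivFin.symm i).2)
  · have h1 : iSupIndep (fun x : (↑S : Set (Subgroup X)) => (x : Subgroup X)) :=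
      (sSupIndep_iff _).mp hSind
    exact h1.comp (f := fun i => (⟨(S.equivFin.symm i).1,
      Finset.mem_coe.mpr (S.equivFin.symm i).2⟩ : (↑S : Set (Subgroup X))))
      (by
        intro i j hij
        have : (S.equivFin.symm i).1 = (S.equivFin.symm j).1 := congrArg Subtype.val hij
        exact S.equivFin.symm.injective (Subtype.ext this))
  · rw [← hsup, sSup_eq_iSup']
    apply le_antisymm
    · apply iSup_le
      intro i
      exact le_iSup (fun x : (↑S : Set (Subgroup X)) => (x : Subgroup X))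
        ⟨(S.equivFin.symm i).1, Finset.mem_coe.mpr (S.equivFin.symm i).2⟩
    · apply iSup_le
      rintro ⟨V, hV⟩
      have := le_iSup (fun i => ((S.equivFin.symm i : {x // x ∈ S}) : Subgroup X))
        (S.equivFin ⟨V, Finset.mem_coe.mp hV⟩)
      simpa using this

/-- An internal direct product of normal subgroups is isomorphic to the product. -/
theorem nonempty_mulEquiv_pi_of_indep {X : Type*} [Group X] {n : ℕ} (V : Fin n → Subgroup X)
    (hn : ∀ i, (V i).Normal) (hind : iSupIndep V) (htop : (⨆ i, V i) = ⊤) :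
    Nonempty (X ≃* ((i : Fin n) → V i)) := by
  have hcomm : Pairwise fun i j : Fin n => ∀ x y : X, x ∈ V i → y ∈ V j → Commute x y := by
    intro i j hij x y hx hy
    exact Subgroup.commute_of_normal_of_disjoint _ _ (hn i) (hn j) (hind.pairwiseDisjoint hij)
      x y hx hy
  have hinj : Function.Injective (Subgroup.noncommPiCoprod hcomm) :=
    Subgroup.injective_noncommPiCoprod_of_iSupIndep hind
  have hsurj : Function.Surjective (Subgroup.noncommPiCoprod hcomm) := by
    rw [← MonoidHom.range_eq_top, Subgroup.noncommPiCoprod_range, htop]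
  exact ⟨(MulEquiv.ofBijective (Subgroup.noncommPiCoprod hcomm) ⟨hinj, hsurj⟩).symm⟩

/-- In an internal direct product of normal subgroups, a factor that is a minimal normal subgroup is
a simple group. -/
theorem isSimpleGroup_of_indep_minNormal {X : Type*} [Group X] {n : ℕ} (V : Fin n → Subgroup X)
    (hn : ∀ i, (V i).Normal) (hind : iSupIndep V) (htop : (⨆ i, V i) = ⊤) (i : Fin n)
    (hi : IsMinNormal (V i)) : IsSimpleGroup (V i) := by
  have hnt : Nontrivial (V i) := (Subgroup.nontrivial_iff_ne_bot _).mpr hi.2.1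
  refine { toNontrivial := hnt, eq_bot_or_eq_top_of_normal := ?_ }
  intro R' hR'
  obtain ⟨R, hR⟩ : ∃ R : Subgroup X, R = R'.map (V i).subtype := ⟨_, rfl⟩
  have hRle : R ≤ V i := hR ▸ Subgroup.map_subtype_le R'
  have hRn : R.Normal := by
    rw [← Subgroup.normalizer_eq_top_iff, eq_top_iff, ← htop]
    apply iSup_le
    intro j
    by_cases hji : j = i
    · subst hji
      intro g hg
      rw [Subgroup.mem_normalizer_iff]
      intro x
      rw [hR]
      constructor
      · rintro ⟨x', hx', rfl⟩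
        exact ⟨⟨g, hg⟩ * x' * ⟨g, hg⟩⁻¹, hR'.conj_mem x' hx' ⟨g, hg⟩, rfl⟩
      · rintro ⟨y', hy', hy⟩
        refine ⟨⟨g, hg⟩⁻¹ * y' * ⟨g, hg⟩, ?_, ?_⟩
        · have := hR'.conj_mem y' hy' ⟨g, hg⟩⁻¹
          simpa using this
        · change g⁻¹ * (y' : X) * g = x
          have hy2 : (y' : X) = g * x * g⁻¹ := hy
          rw [hy2]; group
    · intro g hg
      rw [Subgroup.mem_normalizer_iff]
      intro x
      have hcomm : ∀ y ∈ V i, g * y * g⁻¹ = y := by
        intro y hy
        have := Subgroup.commute_of_normal_of_disjoint _ _ (hn j) (hn i)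
          (hind.pairwiseDisjoint hji) g y hg hy
        rw [this.eq, mul_inv_cancel_right]
      constructor
      · intro hx
        rw [hcomm x (hRle hx)]; exact hx
      · intro hx
        have hxV : x ∈ V i := by
          have := (hn i).conj_mem _ (hRle hx) g⁻¹
          simpa [mul_assoc] using this
        rw [hcomm x hxV] at hx
        exact hx
  rcases hi.2.2 R hRn hRle with h | h
  · left
    rw [hR] at h
    exact (Subgroup.map_eq_bot_iff_of_injective R' (V i).subtype_injective).mp h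
  · right
    rw [eq_top_iff]
    intro x _
    have hx : (x : X) ∈ R := h ▸ x.2
    rw [hR] at hx
    obtain ⟨y, hy, hyx⟩ := hx
    have : y = x := Subtype.ext hyx
    rw [← this]; exact hy

/-- A finite nontrivial group with no proper nontrivial normal subgroup invariant under a monoid
of automorphisms is a direct power of a simple group. -/
theorem exists_mulEquiv_pi_simple {X : Type u} [Group X] [Finite X] [Nontrivial X] {A : Type v}
    [Monoid A] (φ : A →* MulAut X)
    (hchar : ∀ D : Subgroup X, D.Normal → (∀ a : A, D.map (φ a).toMonoidHom ≤ D) →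
      D = ⊥ ∨ D = ⊤) :
    ∃ (T : Type) (_ : Group T) (m : ℕ), IsSimpleGroup T ∧ 0 < m ∧
      Nonempty (X ≃* (Fin m → T)) := by
  obtain ⟨S₀, hS₀⟩ := exists_isMinNormal X
  obtain ⟨𝒞, h𝒞def⟩ : ∃ 𝒞 : Set (Subgroup X), 𝒞 = {S | ∃ a : A, S = S₀.map (φ a).toMonoidHom} :=
    ⟨_, rfl⟩
  have h𝒞 : ∀ S ∈ 𝒞, IsMinNormal S := by
    intro S hS
    rw [h𝒞def] at hS
    obtain ⟨a, rfl⟩ := hS
    exact hS₀.map _
  have hS₀mem : S₀ ∈ 𝒞 := by
    rw [h𝒞def]
    refine ⟨1, ?_⟩
    rw [map_one]
    ext x
    simp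
  have hD : sSup 𝒞 = ⊤ := by
    have hDn : (sSup 𝒞).Normal := Subgroup.sSup_normal _ (fun S hS => (h𝒞 S hS).1)
    have hinv : ∀ a : A, (sSup 𝒞).map (φ a).toMonoidHom ≤ sSup 𝒞 := by
      intro a
      rw [Subgroup.map_le_iff_le_comap]
      apply sSup_le
      intro S hS
      rw [← Subgroup.map_le_iff_le_comap]
      apply le_sSup
      rw [h𝒞def] at hS ⊢
      obtain ⟨b, rfl⟩ := hS
      refine ⟨a * b, ?_⟩
      rw [Subgroup.map_map, map_mul]
      rfl
    rcases hchar (sSup 𝒞) hDn hinv with h | h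
    · exfalso
      have : S₀ ≤ sSup 𝒞 := le_sSup hS₀mem
      rw [h] at this
      exact hS₀.2.1 (le_bot_iff.mp this)
    · exact h
  obtain ⟨n, V, hV𝒞, hind, hsup⟩ := exists_indep_family 𝒞 h𝒞
  rw [hD] at hsup
  have hn0 : 0 < n := by
    by_contra h0
    have hn : n = 0 := by omega
    subst hn
    rw [iSup_of_empty] at hsup
    exact bot_ne_top hsup
  have hVn : ∀ i, (V i).Normal := fun i => (h𝒞 _ (hV𝒞 i)).1
  obtain ⟨e⟩ := nonempty_mulEquiv_pi_of_indep V hVn hind hsup
  obtain ⟨T, hT, ⟨eT⟩⟩ := exists_type0_copy S₀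
  have hVi : ∀ i, Nonempty (V i ≃* T) := by
    intro i
    have hi := hV𝒞 i
    rw [h𝒞def] at hi
    obtain ⟨a, ha⟩ := hi
    have e1 : S₀ ≃* V i := by
      rw [ha]
      exact (φ a).subgroupMap S₀
    exact ⟨e1.symm.trans eT⟩
  have hsimple : IsSimpleGroup T := by
    haveI h0 := isSimpleGroup_of_indep_minNormal V hVn hind hsup ⟨0, hn0⟩ (h𝒞 _ (hV𝒞 _))
    exact (Classical.choice (hVi ⟨0, hn0⟩)).symm.isSimpleGroup
  exact ⟨T, hT, n, hsimple, hn0,
    ⟨e.trans (MulEquiv.piCongrRight (fun i => Classical.choice (hVi i)))⟩⟩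

/-- A minimal normal subgroup of a finite group is a direct power of a simple group. -/
theorem minNormal_mulEquiv_pi_simple {H : Type u} [Group H] [Finite H] (N : Subgroup H)
    [hNn : N.Normal] (hN : N ≠ ⊥)
    (hmin : ∀ M : Subgroup H, M.Normal → M ≤ N → M = ⊥ ∨ M = N) :
    ∃ (T : Type) (_ : Group T) (m : ℕ), IsSimpleGroup T ∧ 0 < m ∧
      Nonempty (N ≃* (Fin m → T)) := by
  haveI : Nontrivial N := (Subgroup.nontrivial_iff_ne_bot _).mpr hN
  apply exists_mulEquiv_pi_simple (X := N) (A := H) (MulAut.conjNormal (H := N))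
  intro D hDn hDinv
  -- D.map N.subtype is normal in H
  have hnorm : (D.map N.subtype).Normal := by
    constructor
    rintro _ ⟨d, hd, rfl⟩ g
    have h1 := hDinv g ⟨d, hd, rfl⟩
    refine ⟨_, h1, ?_⟩
    simp [MulAut.conjNormal_apply]
  rcases hmin _ hnorm (Subgroup.map_subtype_le D) with h | h
  · left
    exact (Subgroup.map_eq_bot_iff_of_injective D N.subtype_injective).mp h
  · right
    rw [eq_top_iff]
    intro x _
    have hx : (x : H) ∈ D.map N.subtype := by rw [h]; exact x.2
    obtain ⟨y, hy, hyx⟩ := hx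
    have : y = x := Subtype.ext hyx
    rw [← this]; exact hy

end Cfsg.Agent.Helper4
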