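import Mathlib
import Cfsg.Agent.Helper4.MinNormalPower

set_option autoImplicit false

namespace Cfsg.Agent.Helper4

open MulAction

/-- A nontrivial normal subgroup of a faithful primitive group is transitive. -/
theorem normal_isPretransitive {G Ω : Type*} [Group G] [MulAction G Ω] [FaithfulSMul G Ω]
    [IsPreprimitive G Ω] (M : Subgroup G) [M.Normal] (hM : M ≠ ⊥) : IsPretransitive M Ω := by
  apply IsQuasiPreprimitive.isPretransitive_of_normal
  intro h
  apply hM
  rw [Subgroup.eq_bot_iff_forall]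
  intro m hm
  apply FaithfulSMul.eq_of_smul_eq_smul (α := Ω)
  intro ω
  have : ω ∈ fixedPoints M Ω := by rw [h]; trivial
  rw [one_smul]
  exact this ⟨m, hm⟩

/-- An element centralizing a transitive subgroup and fixing a point is trivial. -/
theorem eq_one_of_commute_transitive {G Ω : Type*} [Group G] [MulAction G Ω] [FaithfulSMul G Ω]
    (K : Subgroup G) [IsPretransitive K Ω] (c : G) (hc : ∀ k ∈ K, c * k = k * c) (ω : Ω)
    (hω : c • ω = ω) : c = 1 := by
  apply FaithfulSMul.eq_of_smul_eq_smul (α := Ω)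
  intro ω'
  obtain ⟨k, rfl⟩ := exists_smul_eq K ω ω'
  rw [one_smul]
  change c • ((k : G) • ω) = (k : G) • ω
  rw [← mul_smul, hc k k.2, mul_smul, hω]

/-- A transitive subgroup of a semiregular subgroup is everything. -/
theorem eq_of_le_transitive_semiregular {G Ω : Type*} [Group G] [MulAction G Ω] [Nonempty Ω]
    (L C : Subgroup G) (hLC : L ≤ C) [IsPretransitive L Ω]
    (hC : ∀ c ∈ C, ∀ ω : Ω, c • ω = ω → c = 1) : L = C := by
  apply le_antisymm hLC
  intro c hc
  obtain ⟨ω⟩ := ‹Nonempty Ω›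
  obtain ⟨l, hl⟩ := exists_smul_eq L ω (c • ω)
  have hl' : (l : G) • ω = c • ω := hl
  have h1 : ((l : G)⁻¹ * c) • ω = ω := by rw [mul_smul, ← hl', inv_smul_smul]
  have h2 := hC _ (C.mul_mem (C.inv_mem (hLC l.2)) hc) ω h1
  have : c = l := by
    rw [inv_mul_eq_one] at h2
    exact h2.symm
  rw [this]
  exact l.2

/-- Two commuting regular subgroups are isomorphic. -/
theorem nonempty_mulEquiv_of_commuting_regular {G Ω : Type*} [Group G] [MulAction G Ω]
    (K C : Subgroup G) (hcomm : ∀ k ∈ K, ∀ c ∈ C, k * c = c * k) [IsPretransitive K Ω]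
    [IsPretransitive C Ω] (hK : ∀ k ∈ K, ∀ ω : Ω, k • ω = ω → k = 1)
    (hC : ∀ c ∈ C, ∀ ω : Ω, c • ω = ω → c = 1) (ω : Ω) : Nonempty (K ≃* C) := by
  have hex : ∀ k : K, ∃ c : C, (c : G) • ω = (k : G) • ω := fun k => by
    obtain ⟨c, hc⟩ := exists_smul_eq C ω ((k : G) • ω)
    exact ⟨c, hc⟩
  choose f hf using hex
  have huniq : ∀ (c c' : C), (c : G) • ω = (c' : G) • ω → c = c' := by
    intro c c' h
    have h1 : ((c' : G)⁻¹ * c) • ω = ω := by rw [mul_smul, h, inv_smul_smul]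
    have h2 := hC _ (C.mul_mem (C.inv_mem c'.2) c.2) ω h1
    rw [inv_mul_eq_one] at h2
    exact Subtype.ext h2.symm
  have hmul : ∀ k₁ k₂ : K, f (k₁ * k₂) = f k₂ * f k₁ := by
    intro k₁ k₂
    apply huniq
    rw [hf]
    calc ((k₁ * k₂ : K) : G) • ω = (k₁ : G) • ((k₂ : G) • ω) := by
          rw [Subgroup.coe_mul, mul_smul]
      _ = (k₁ : G) • ((f k₂ : G) • ω) := by rw [hf]
      _ = (f k₂ : G) • ((k₁ : G) • ω) := by
          rw [← mul_smul, hcomm _ k₁.2 _ (f k₂).2, mul_smul]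
      _ = (f k₂ : G) • ((f k₁ : G) • ω) := by rw [hf]
      _ = ((f k₂ * f k₁ : C) : G) • ω := by rw [Subgroup.coe_mul, mul_smul]
  let ψ : K →* C := MonoidHom.mk' (fun k => (f k)⁻¹) (fun a b => by
    change (f (a * b))⁻¹ = (f a)⁻¹ * (f b)⁻¹
    rw [hmul, mul_inv_rev])
  refine ⟨MulEquiv.ofBijective ψ ⟨?_, ?_⟩⟩
  · rw [injective_iff_map_eq_one]
    intro k hk
    have hk' : (f k)⁻¹ = 1 := hk
    have hfk : f k = 1 := inv_eq_one.mp hk'
    have h1 := hf k
    rw [hfk, Subgroup.coe_one, one_smul] at h1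
    exact Subtype.ext (hK _ k.2 ω h1.symm)
  · intro c
    obtain ⟨k, hk⟩ := exists_smul_eq K ω (((c⁻¹ : C) : G) • ω)
    refine ⟨k, ?_⟩
    change (f k)⁻¹ = c
    rw [inv_eq_iff_eq_inv]
    apply huniq
    rw [hf]
    exact hk

/-- `(Fin m → T) × (Fin n → T) ≃* (Fin (m + n) → T)`. -/
def finAppendMulEquiv (T : Type*) [Mul T] (m n : ℕ) :
    (Fin m → T) × (Fin n → T) ≃* (Fin (m + n) → T) where
  toFun fg := Fin.append fg.1 fg.2
  invFun h := (fun i => h (Fin.castAdd n i), fun i => h (Fin.natAdd m i))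
  left_inv fg := by
    ext i <;> simp
  right_inv h := by
    ext i
    refine Fin.addCases (fun i => ?_) (fun i => ?_) i <;> simp
  map_mul' fg fg' := by
    ext i
    refine Fin.addCases (fun i => ?_) (fun i => ?_) i <;> simp

end Cfsg.Agent.Helper4
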