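import Mathlib

/-!
# The Petersen graph has no proper 3-edge-colouring

in the form: no map from the double transpositions of `S₅` to a 3-element set takes different values
on every two double transpositions sharing exactly one transposition.  (Generated case analysis.)
-/

set_option autoImplicit false

namespace Cfsg.Agent.Helper4.Petersen

set_option synthInstance.maxSize 100000 in
set_option synthInstance.maxHeartbeats 2000000 in
set_option maxRecDepth 100000 in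
theorem core : ∀ x0 : Fin 3, ∀ x1 : Fin 3, x0 ≠ x1 → ∀ x2 : Fin 3, x0 ≠ x2 → x1 ≠ x2 → ∀ x11 : Fin 3, x0 ≠ x11 → ∀ x14 : Fin 3, x0 ≠ x14 → x11 ≠ x14 → ∀ x8 : Fin 3, x1 ≠ x8 → ∀ x13 : Fin 3, x1 ≠ x13 → x8 ≠ x13 → ∀ x5 : Fin 3, x2 ≠ x5 → ∀ x12 : Fin 3, x2 ≠ x12 → x5 ≠ x12 → ∀ x9 : Fin 3, x11 ≠ x9 → x12 ≠ x9 → ∀ x10 : Fin 3, x9 ≠ x10 → x11 ≠ x10 → x13 ≠ x10 → ∀ x4 : Fin 3, x5 ≠ x4 → x14 ≠ x4 → ∀ x7 : Fin 3, x8 ≠ x7 → x4 ≠ x7 → x14 ≠ x7 → ∀ x6 : Fin 3, x7 ≠ x6 → x8 ≠ x6 → x9 ≠ x6 → x12 ≠ x6 → ∀ x3 : Fin 3, x4 ≠ x3 → x5 ≠ x3 → x10 ≠ x3 → x13 ≠ x3 → False := by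
  decide

theorem no_col {α : Type*} (c : Equiv.Perm (Fin 5) → α) (y₁ y₂ y₃ : α)
    (hval : ∀ i j k l : Fin 5, i ≠ j → k ≠ l → i ≠ k → i ≠ l → j ≠ k → j ≠ l →
      c (Equiv.swap i j * Equiv.swap k l) = y₁ ∨ c (Equiv.swap i j * Equiv.swap k l) = y₂ ∨
        c (Equiv.swap i j * Equiv.swap k l) = y₃)
    (hadj : ∀ i j k l m : Fin 5, i ≠ j → i ≠ k → i ≠ l → i ≠ m → j ≠ k → j ≠ l → j ≠ m →
      k ≠ l → k ≠ m → l ≠ m →
      c (Equiv.swap i j * Equiv.swap k l) ≠ c (Equiv.swap i j * Equiv.swap k m)) : False := by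
  classical
  let col : α → Fin 3 := fun x => if x = y₁ then 0 else if x = y₂ then 1 else 2
  have key : ∀ u : α, (u = y₁ ∨ u = y₂ ∨ u = y₃) →
      (col u = 0 → u = y₁) ∧ (col u = 1 → u = y₂) ∧ (col u = 2 → u = y₃) := by
    intro u hu
    simp only [col]
    by_cases h1 : u = y₁
    · rw [if_pos h1]
      exact ⟨fun _ => h1, fun h => absurd h (by decide), fun h => absurd h (by decide)⟩
    · rw [if_neg h1]
      by_cases h2 : u = y₂
      · rw [if_pos h2]
        exact ⟨fun h => absurd h (by decide), fun _ => h2, fun h => absurd h (by decide)⟩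
      · rw [if_neg h2]
        have h3 : u = y₃ := by
          rcases hu with h | h | h
          exacts [absurd h h1, absurd h h2, h]
        exact ⟨fun h => absurd h (by decide), fun h => absurd h (by decide), fun _ => h3⟩
  have hcol : ∀ x x' : α, (x = y₁ ∨ x = y₂ ∨ x = y₃) → (x' = y₁ ∨ x' = y₂ ∨ x' = y₃) → x ≠ x' →
      col x ≠ col x' := by
    intro x x' hx hx' hne heq
    apply hne
    obtain ⟨a0, a1, a2⟩ := key x hx
    obtain ⟨b0, b1, b2⟩ := key x' hx'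
    rcases (by decide : ∀ v : Fin 3, v = 0 ∨ v = 1 ∨ v = 2) (col x') with h | h | h
    · rw [a0 (heq.trans h), b0 h]
    · rw [a1 (heq.trans h), b1 h]
    · rw [a2 (heq.trans h), b2 h]
  have v0 := hval 0 1 2 3 (by decide) (by decide) (by decide) (by decide) (by decide) (by decide)
  have v1 := hval 0 1 2 4 (by decide) (by decide) (by decide) (by decide) (by decide) (by decide)
  have v2 := hval 0 1 3 4 (by decide) (by decide) (by decide) (by decide) (by decide) (by decide)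
  have v3 := hval 0 2 1 3 (by decide) (by decide) (by decide) (by decide) (by decide) (by decide)
  have v4 := hval 0 2 1 4 (by decide) (by decide) (by decide) (by decide) (by decide) (by decide)
  have v5 := hval 0 2 3 4 (by decide) (by decide) (by decide) (by decide) (by decide) (by decide)
  have v6 := hval 0 3 1 2 (by decide) (by decide) (by decide) (by decide) (by decide) (by decide)
  have v7 := hval 0 3 1 4 (by decide) (by decide) (by decide) (by decide) (by decide) (by decide)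
  have v8 := hval 0 3 2 4 (by decide) (by decide) (by decide) (by decide) (by decide) (by decide)
  have v9 := hval 0 4 1 2 (by decide) (by decide) (by decide) (by decide) (by decide) (by decide)
  have v10 := hval 0 4 1 3 (by decide) (by decide) (by decide) (by decide) (by decide) (by decide)
  have v11 := hval 0 4 2 3 (by decide) (by decide) (by decide) (by decide) (by decide) (by decide)
  have v12 := hval 1 2 3 4 (by decide) (by decide) (by decide) (by decide) (by decide) (by decide)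
  have v13 := hval 1 3 2 4 (by decide) (by decide) (by decide) (by decide) (by decide) (by decide)
  have v14 := hval 1 4 2 3 (by decide) (by decide) (by decide) (by decide) (by decide) (by decide)
  have n0_1 : c (Equiv.swap (0 : Fin 5) 1 * Equiv.swap (2 : Fin 5) 3) ≠ c (Equiv.swap (0 : Fin 5) 1 * Equiv.swap (2 : Fin 5) 4) := by
    have h := hadj 0 1 2 3 4 (by decide) (by decide) (by decide) (by decide) (by decide) (by decide) (by decide) (by decide) (by decide) (by decide)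
    have e1 : Equiv.swap (0 : Fin 5) 1 * Equiv.swap (2 : Fin 5) 3 = (Equiv.swap (0 : Fin 5) 1 * Equiv.swap (2 : Fin 5) 3) := by decide
    have e2 : Equiv.swap (0 : Fin 5) 1 * Equiv.swap (2 : Fin 5) 4 = (Equiv.swap (0 : Fin 5) 1 * Equiv.swap (2 : Fin 5) 4) := by decide
    rw [e1, e2] at h
    exact h
  have n0_2 : c (Equiv.swap (0 : Fin 5) 1 * Equiv.swap (2 : Fin 5) 3) ≠ c (Equiv.swap (0 : Fin 5) 1 * Equiv.swap (3 : Fin 5) 4) := by
    have h := hadj 0 1 3 2 4 (by decide) (by decide) (by decide) (by decide) (by decide) (by decide) (by decide) (by decide) (by decide) (by decide)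
    have e1 : Equiv.swap (0 : Fin 5) 1 * Equiv.swap (3 : Fin 5) 2 = (Equiv.swap (0 : Fin 5) 1 * Equiv.swap (2 : Fin 5) 3) := by decide
    have e2 : Equiv.swap (0 : Fin 5) 1 * Equiv.swap (3 : Fin 5) 4 = (Equiv.swap (0 : Fin 5) 1 * Equiv.swap (3 : Fin 5) 4) := by decide
    rw [e1, e2] at h
    exact h
  have n1_2 : c (Equiv.swap (0 : Fin 5) 1 * Equiv.swap (2 : Fin 5) 4) ≠ c (Equiv.swap (0 : Fin 5) 1 * Equiv.swap (3 : Fin 5) 4) := by
    have h := hadj 0 1 4 2 3 (by decide) (by decide) (by decide) (by decide) (by decide) (by decide) (by decide) (by decide) (by decide) (by decide)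
    have e1 : Equiv.swap (0 : Fin 5) 1 * Equiv.swap (4 : Fin 5) 2 = (Equiv.swap (0 : Fin 5) 1 * Equiv.swap (2 : Fin 5) 4) := by decide
    have e2 : Equiv.swap (0 : Fin 5) 1 * Equiv.swap (4 : Fin 5) 3 = (Equiv.swap (0 : Fin 5) 1 * Equiv.swap (3 : Fin 5) 4) := by decide
    rw [e1, e2] at h
    exact h
  have n3_4 : c (Equiv.swap (0 : Fin 5) 2 * Equiv.swap (1 : Fin 5) 3) ≠ c (Equiv.swap (0 : Fin 5) 2 * Equiv.swap (1 : Fin 5) 4) := by
    have h := hadj 0 2 1 3 4 (by decide) (by decide) (by decide) (by decide) (by decide) (by decide) (by decide) (by decide) (by decide) (by decide)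
    have e1 : Equiv.swap (0 : Fin 5) 2 * Equiv.swap (1 : Fin 5) 3 = (Equiv.swap (0 : Fin 5) 2 * Equiv.swap (1 : Fin 5) 3) := by decide
    have e2 : Equiv.swap (0 : Fin 5) 2 * Equiv.swap (1 : Fin 5) 4 = (Equiv.swap (0 : Fin 5) 2 * Equiv.swap (1 : Fin 5) 4) := by decide
    rw [e1, e2] at h
    exact h
  have n3_5 : c (Equiv.swap (0 : Fin 5) 2 * Equiv.swap (1 : Fin 5) 3) ≠ c (Equiv.swap (0 : Fin 5) 2 * Equiv.swap (3 : Fin 5) 4) := by
    have h := hadj 0 2 3 1 4 (by decide) (by decide) (by decide) (by decide) (by decide) (by decide) (by decide) (by decide) (by decide) (by decide)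
    have e1 : Equiv.swap (0 : Fin 5) 2 * Equiv.swap (3 : Fin 5) 1 = (Equiv.swap (0 : Fin 5) 2 * Equiv.swap (1 : Fin 5) 3) := by decide
    have e2 : Equiv.swap (0 : Fin 5) 2 * Equiv.swap (3 : Fin 5) 4 = (Equiv.swap (0 : Fin 5) 2 * Equiv.swap (3 : Fin 5) 4) := by decide
    rw [e1, e2] at h
    exact h
  have n4_5 : c (Equiv.swap (0 : Fin 5) 2 * Equiv.swap (1 : Fin 5) 4) ≠ c (Equiv.swap (0 : Fin 5) 2 * Equiv.swap (3 : Fin 5) 4) := by
    have h := hadj 0 2 4 1 3 (by decide) (by decide) (by decide) (by decide) (by decide) (by decide) (by decide) (by decide) (by decide) (by decide)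
    have e1 : Equiv.swap (0 : Fin 5) 2 * Equiv.swap (4 : Fin 5) 1 = (Equiv.swap (0 : Fin 5) 2 * Equiv.swap (1 : Fin 5) 4) := by decide
    have e2 : Equiv.swap (0 : Fin 5) 2 * Equiv.swap (4 : Fin 5) 3 = (Equiv.swap (0 : Fin 5) 2 * Equiv.swap (3 : Fin 5) 4) := by decide
    rw [e1, e2] at h
    exact h
  have n6_7 : c (Equiv.swap (0 : Fin 5) 3 * Equiv.swap (1 : Fin 5) 2) ≠ c (Equiv.swap (0 : Fin 5) 3 * Equiv.swap (1 : Fin 5) 4) := by
    have h := hadj 0 3 1 2 4 (by decide) (by decide) (by decide) (by decide) (by decide) (by decide) (by decide) (by decide) (by decide) (by decide)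
    have e1 : Equiv.swap (0 : Fin 5) 3 * Equiv.swap (1 : Fin 5) 2 = (Equiv.swap (0 : Fin 5) 3 * Equiv.swap (1 : Fin 5) 2) := by decide
    have e2 : Equiv.swap (0 : Fin 5) 3 * Equiv.swap (1 : Fin 5) 4 = (Equiv.swap (0 : Fin 5) 3 * Equiv.swap (1 : Fin 5) 4) := by decide
    rw [e1, e2] at h
    exact h
  have n6_8 : c (Equiv.swap (0 : Fin 5) 3 * Equiv.swap (1 : Fin 5) 2) ≠ c (Equiv.swap (0 : Fin 5) 3 * Equiv.swap (2 : Fin 5) 4) := by
    have h := hadj 0 3 2 1 4 (by decide) (by decide) (by decide) (by decide) (by decide) (by decide) (by decide) (by decide) (by decide) (by decide)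
    have e1 : Equiv.swap (0 : Fin 5) 3 * Equiv.swap (2 : Fin 5) 1 = (Equiv.swap (0 : Fin 5) 3 * Equiv.swap (1 : Fin 5) 2) := by decide
    have e2 : Equiv.swap (0 : Fin 5) 3 * Equiv.swap (2 : Fin 5) 4 = (Equiv.swap (0 : Fin 5) 3 * Equiv.swap (2 : Fin 5) 4) := by decide
    rw [e1, e2] at h
    exact h
  have n7_8 : c (Equiv.swap (0 : Fin 5) 3 * Equiv.swap (1 : Fin 5) 4) ≠ c (Equiv.swap (0 : Fin 5) 3 * Equiv.swap (2 : Fin 5) 4) := by
    have h := hadj 0 3 4 1 2 (by decide) (by decide) (by decide) (by decide) (by decide) (by decide) (by decide) (by decide) (by decide) (by decide)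
    have e1 : Equiv.swap (0 : Fin 5) 3 * Equiv.swap (4 : Fin 5) 1 = (Equiv.swap (0 : Fin 5) 3 * Equiv.swap (1 : Fin 5) 4) := by decide
    have e2 : Equiv.swap (0 : Fin 5) 3 * Equiv.swap (4 : Fin 5) 2 = (Equiv.swap (0 : Fin 5) 3 * Equiv.swap (2 : Fin 5) 4) := by decide
    rw [e1, e2] at h
    exact h
  have n9_10 : c (Equiv.swap (0 : Fin 5) 4 * Equiv.swap (1 : Fin 5) 2) ≠ c (Equiv.swap (0 : Fin 5) 4 * Equiv.swap (1 : Fin 5) 3) := by
    have h := hadj 0 4 1 2 3 (by decide) (by decide) (by decide) (by decide) (by decide) (by decide) (by decide) (by decide) (by decide) (by decide)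
    have e1 : Equiv.swap (0 : Fin 5) 4 * Equiv.swap (1 : Fin 5) 2 = (Equiv.swap (0 : Fin 5) 4 * Equiv.swap (1 : Fin 5) 2) := by decide
    have e2 : Equiv.swap (0 : Fin 5) 4 * Equiv.swap (1 : Fin 5) 3 = (Equiv.swap (0 : Fin 5) 4 * Equiv.swap (1 : Fin 5) 3) := by decide
    rw [e1, e2] at h
    exact h
  have n9_11 : c (Equiv.swap (0 : Fin 5) 4 * Equiv.swap (1 : Fin 5) 2) ≠ c (Equiv.swap (0 : Fin 5) 4 * Equiv.swap (2 : Fin 5) 3) := by
    have h := hadj 0 4 2 1 3 (by decide) (by decide) (by decide) (by decide) (by decide) (by decide) (by decide) (by decide) (by decide) (by decide)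
    have e1 : Equiv.swap (0 : Fin 5) 4 * Equiv.swap (2 : Fin 5) 1 = (Equiv.swap (0 : Fin 5) 4 * Equiv.swap (1 : Fin 5) 2) := by decide
    have e2 : Equiv.swap (0 : Fin 5) 4 * Equiv.swap (2 : Fin 5) 3 = (Equiv.swap (0 : Fin 5) 4 * Equiv.swap (2 : Fin 5) 3) := by decide
    rw [e1, e2] at h
    exact h
  have n10_11 : c (Equiv.swap (0 : Fin 5) 4 * Equiv.swap (1 : Fin 5) 3) ≠ c (Equiv.swap (0 : Fin 5) 4 * Equiv.swap (2 : Fin 5) 3) := by
    have h := hadj 0 4 3 1 2 (by decide) (by decide) (by decide) (by decide) (by decide) (by decide) (by decide) (by decide) (by decide) (by decide)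
    have e1 : Equiv.swap (0 : Fin 5) 4 * Equiv.swap (3 : Fin 5) 1 = (Equiv.swap (0 : Fin 5) 4 * Equiv.swap (1 : Fin 5) 3) := by decide
    have e2 : Equiv.swap (0 : Fin 5) 4 * Equiv.swap (3 : Fin 5) 2 = (Equiv.swap (0 : Fin 5) 4 * Equiv.swap (2 : Fin 5) 3) := by decide
    rw [e1, e2] at h
    exact h
  have n6_9 : c (Equiv.swap (0 : Fin 5) 3 * Equiv.swap (1 : Fin 5) 2) ≠ c (Equiv.swap (0 : Fin 5) 4 * Equiv.swap (1 : Fin 5) 2) := by
    have h := hadj 1 2 0 3 4 (by decide) (by decide) (by decide) (by decide) (by decide) (by decide) (by decide) (by decide) (by decide) (by decide)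
    have e1 : Equiv.swap (1 : Fin 5) 2 * Equiv.swap (0 : Fin 5) 3 = (Equiv.swap (0 : Fin 5) 3 * Equiv.swap (1 : Fin 5) 2) := by decide
    have e2 : Equiv.swap (1 : Fin 5) 2 * Equiv.swap (0 : Fin 5) 4 = (Equiv.swap (0 : Fin 5) 4 * Equiv.swap (1 : Fin 5) 2) := by decide
    rw [e1, e2] at h
    exact h
  have n6_12 : c (Equiv.swap (0 : Fin 5) 3 * Equiv.swap (1 : Fin 5) 2) ≠ c (Equiv.swap (1 : Fin 5) 2 * Equiv.swap (3 : Fin 5) 4) := by
    have h := hadj 1 2 3 0 4 (by decide) (by decide) (by decide) (by decide) (by decide) (by decide) (by decide) (by decide) (by decide) (by decide)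
    have e1 : Equiv.swap (1 : Fin 5) 2 * Equiv.swap (3 : Fin 5) 0 = (Equiv.swap (0 : Fin 5) 3 * Equiv.swap (1 : Fin 5) 2) := by decide
    have e2 : Equiv.swap (1 : Fin 5) 2 * Equiv.swap (3 : Fin 5) 4 = (Equiv.swap (1 : Fin 5) 2 * Equiv.swap (3 : Fin 5) 4) := by decide
    rw [e1, e2] at h
    exact h
  have n9_12 : c (Equiv.swap (0 : Fin 5) 4 * Equiv.swap (1 : Fin 5) 2) ≠ c (Equiv.swap (1 : Fin 5) 2 * Equiv.swap (3 : Fin 5) 4) := by
    have h := hadj 1 2 4 0 3 (by decide) (by decide) (by decide) (by decide) (by decide) (by decide) (by decide) (by decide) (by decide) (by decide)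
    have e1 : Equiv.swap (1 : Fin 5) 2 * Equiv.swap (4 : Fin 5) 0 = (Equiv.swap (0 : Fin 5) 4 * Equiv.swap (1 : Fin 5) 2) := by decide
    have e2 : Equiv.swap (1 : Fin 5) 2 * Equiv.swap (4 : Fin 5) 3 = (Equiv.swap (1 : Fin 5) 2 * Equiv.swap (3 : Fin 5) 4) := by decide
    rw [e1, e2] at h
    exact h
  have n3_10 : c (Equiv.swap (0 : Fin 5) 2 * Equiv.swap (1 : Fin 5) 3) ≠ c (Equiv.swap (0 : Fin 5) 4 * Equiv.swap (1 : Fin 5) 3) := by
    have h := hadj 1 3 0 2 4 (by decide) (by decide) (by decide) (by decide) (by decide) (by decide) (by decide) (by decide) (by decide) (by decide)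
    have e1 : Equiv.swap (1 : Fin 5) 3 * Equiv.swap (0 : Fin 5) 2 = (Equiv.swap (0 : Fin 5) 2 * Equiv.swap (1 : Fin 5) 3) := by decide
    have e2 : Equiv.swap (1 : Fin 5) 3 * Equiv.swap (0 : Fin 5) 4 = (Equiv.swap (0 : Fin 5) 4 * Equiv.swap (1 : Fin 5) 3) := by decide
    rw [e1, e2] at h
    exact h
  have n3_13 : c (Equiv.swap (0 : Fin 5) 2 * Equiv.swap (1 : Fin 5) 3) ≠ c (Equiv.swap (1 : Fin 5) 3 * Equiv.swap (2 : Fin 5) 4) := by
    have h := hadj 1 3 2 0 4 (by decide) (by decide) (by decide) (by decide) (by decide) (by decide) (by decide) (by decide) (by decide) (by decide)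
    have e1 : Equiv.swap (1 : Fin 5) 3 * Equiv.swap (2 : Fin 5) 0 = (Equiv.swap (0 : Fin 5) 2 * Equiv.swap (1 : Fin 5) 3) := by decide
    have e2 : Equiv.swap (1 : Fin 5) 3 * Equiv.swap (2 : Fin 5) 4 = (Equiv.swap (1 : Fin 5) 3 * Equiv.swap (2 : Fin 5) 4) := by decide
    rw [e1, e2] at h
    exact h
  have n10_13 : c (Equiv.swap (0 : Fin 5) 4 * Equiv.swap (1 : Fin 5) 3) ≠ c (Equiv.swap (1 : Fin 5) 3 * Equiv.swap (2 : Fin 5) 4) := by
    have h := hadj 1 3 4 0 2 (by decide) (by decide) (by decide) (by decide) (by decide) (by decide) (by decide) (by decide) (by decide) (by decide)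
    have e1 : Equiv.swap (1 : Fin 5) 3 * Equiv.swap (4 : Fin 5) 0 = (Equiv.swap (0 : Fin 5) 4 * Equiv.swap (1 : Fin 5) 3) := by decide
    have e2 : Equiv.swap (1 : Fin 5) 3 * Equiv.swap (4 : Fin 5) 2 = (Equiv.swap (1 : Fin 5) 3 * Equiv.swap (2 : Fin 5) 4) := by decide
    rw [e1, e2] at h
    exact h
  have n4_7 : c (Equiv.swap (0 : Fin 5) 2 * Equiv.swap (1 : Fin 5) 4) ≠ c (Equiv.swap (0 : Fin 5) 3 * Equiv.swap (1 : Fin 5) 4) := by
    have h := hadj 1 4 0 2 3 (by decide) (by decide) (by decide) (by decide) (by decide) (by decide) (by decide) (by decide) (by decide) (by decide)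
    have e1 : Equiv.swap (1 : Fin 5) 4 * Equiv.swap (0 : Fin 5) 2 = (Equiv.swap (0 : Fin 5) 2 * Equiv.swap (1 : Fin 5) 4) := by decide
    have e2 : Equiv.swap (1 : Fin 5) 4 * Equiv.swap (0 : Fin 5) 3 = (Equiv.swap (0 : Fin 5) 3 * Equiv.swap (1 : Fin 5) 4) := by decide
    rw [e1, e2] at h
    exact h
  have n4_14 : c (Equiv.swap (0 : Fin 5) 2 * Equiv.swap (1 : Fin 5) 4) ≠ c (Equiv.swap (1 : Fin 5) 4 * Equiv.swap (2 : Fin 5) 3) := by
    have h := hadj 1 4 2 0 3 (by decide) (by decide) (by decide) (by decide) (by decide) (by decide) (by decide) (by decide) (by decide) (by decide)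
    have e1 : Equiv.swap (1 : Fin 5) 4 * Equiv.swap (2 : Fin 5) 0 = (Equiv.swap (0 : Fin 5) 2 * Equiv.swap (1 : Fin 5) 4) := by decide
    have e2 : Equiv.swap (1 : Fin 5) 4 * Equiv.swap (2 : Fin 5) 3 = (Equiv.swap (1 : Fin 5) 4 * Equiv.swap (2 : Fin 5) 3) := by decide
    rw [e1, e2] at h
    exact h
  have n7_14 : c (Equiv.swap (0 : Fin 5) 3 * Equiv.swap (1 : Fin 5) 4) ≠ c (Equiv.swap (1 : Fin 5) 4 * Equiv.swap (2 : Fin 5) 3) := by
    have h := hadj 1 4 3 0 2 (by decide) (by decide) (by decide) (by decide) (by decide) (by decide) (by decide) (by decide) (by decide) (by decide)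
    have e1 : Equiv.swap (1 : Fin 5) 4 * Equiv.swap (3 : Fin 5) 0 = (Equiv.swap (0 : Fin 5) 3 * Equiv.swap (1 : Fin 5) 4) := by decide
    have e2 : Equiv.swap (1 : Fin 5) 4 * Equiv.swap (3 : Fin 5) 2 = (Equiv.swap (1 : Fin 5) 4 * Equiv.swap (2 : Fin 5) 3) := by decide
    rw [e1, e2] at h
    exact h
  have n0_11 : c (Equiv.swap (0 : Fin 5) 1 * Equiv.swap (2 : Fin 5) 3) ≠ c (Equiv.swap (0 : Fin 5) 4 * Equiv.swap (2 : Fin 5) 3) := by
    have h := hadj 2 3 0 1 4 (by decide) (by decide) (by decide) (by decide) (by decide) (by decide) (by decide) (by decide) (by decide) (by decide)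
    have e1 : Equiv.swap (2 : Fin 5) 3 * Equiv.swap (0 : Fin 5) 1 = (Equiv.swap (0 : Fin 5) 1 * Equiv.swap (2 : Fin 5) 3) := by decide
    have e2 : Equiv.swap (2 : Fin 5) 3 * Equiv.swap (0 : Fin 5) 4 = (Equiv.swap (0 : Fin 5) 4 * Equiv.swap (2 : Fin 5) 3) := by decide
    rw [e1, e2] at h
    exact h
  have n0_14 : c (Equiv.swap (0 : Fin 5) 1 * Equiv.swap (2 : Fin 5) 3) ≠ c (Equiv.swap (1 : Fin 5) 4 * Equiv.swap (2 : Fin 5) 3) := by
    have h := hadj 2 3 1 0 4 (by decide) (by decide) (by decide) (by decide) (by decide) (by decide) (by decide) (by decide) (by decide) (by decide)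
    have e1 : Equiv.swap (2 : Fin 5) 3 * Equiv.swap (1 : Fin 5) 0 = (Equiv.swap (0 : Fin 5) 1 * Equiv.swap (2 : Fin 5) 3) := by decide
    have e2 : Equiv.swap (2 : Fin 5) 3 * Equiv.swap (1 : Fin 5) 4 = (Equiv.swap (1 : Fin 5) 4 * Equiv.swap (2 : Fin 5) 3) := by decide
    rw [e1, e2] at h
    exact h
  have n11_14 : c (Equiv.swap (0 : Fin 5) 4 * Equiv.swap (2 : Fin 5) 3) ≠ c (Equiv.swap (1 : Fin 5) 4 * Equiv.swap (2 : Fin 5) 3) := by
    have h := hadj 2 3 4 0 1 (by decide) (by decide) (by decide) (by decide) (by decide) (by decide) (by decide) (by decide) (by decide) (by decide)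
    have e1 : Equiv.swap (2 : Fin 5) 3 * Equiv.swap (4 : Fin 5) 0 = (Equiv.swap (0 : Fin 5) 4 * Equiv.swap (2 : Fin 5) 3) := by decide
    have e2 : Equiv.swap (2 : Fin 5) 3 * Equiv.swap (4 : Fin 5) 1 = (Equiv.swap (1 : Fin 5) 4 * Equiv.swap (2 : Fin 5) 3) := by decide
    rw [e1, e2] at h
    exact h
  have n1_8 : c (Equiv.swap (0 : Fin 5) 1 * Equiv.swap (2 : Fin 5) 4) ≠ c (Equiv.swap (0 : Fin 5) 3 * Equiv.swap (2 : Fin 5) 4) := by
    have h := hadj 2 4 0 1 3 (by decide) (by decide) (by decide) (by decide) (by decide) (by decide) (by decide) (by decide) (by decide) (by decide)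
    have e1 : Equiv.swap (2 : Fin 5) 4 * Equiv.swap (0 : Fin 5) 1 = (Equiv.swap (0 : Fin 5) 1 * Equiv.swap (2 : Fin 5) 4) := by decide
    have e2 : Equiv.swap (2 : Fin 5) 4 * Equiv.swap (0 : Fin 5) 3 = (Equiv.swap (0 : Fin 5) 3 * Equiv.swap (2 : Fin 5) 4) := by decide
    rw [e1, e2] at h
    exact h
  have n1_13 : c (Equiv.swap (0 : Fin 5) 1 * Equiv.swap (2 : Fin 5) 4) ≠ c (Equiv.swap (1 : Fin 5) 3 * Equiv.swap (2 : Fin 5) 4) := by
    have h := hadj 2 4 1 0 3 (by decide) (by decide) (by decide) (by decide) (by decide) (by decide) (by decide) (by decide) (by decide) (by decide)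
    have e1 : Equiv.swap (2 : Fin 5) 4 * Equiv.swap (1 : Fin 5) 0 = (Equiv.swap (0 : Fin 5) 1 * Equiv.swap (2 : Fin 5) 4) := by decide
    have e2 : Equiv.swap (2 : Fin 5) 4 * Equiv.swap (1 : Fin 5) 3 = (Equiv.swap (1 : Fin 5) 3 * Equiv.swap (2 : Fin 5) 4) := by decide
    rw [e1, e2] at h
    exact h
  have n8_13 : c (Equiv.swap (0 : Fin 5) 3 * Equiv.swap (2 : Fin 5) 4) ≠ c (Equiv.swap (1 : Fin 5) 3 * Equiv.swap (2 : Fin 5) 4) := by
    have h := hadj 2 4 3 0 1 (by decide) (by decide) (by decide) (by decide) (by decide) (by decide) (by decide) (by decide) (by decide) (by decide)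
    have e1 : Equiv.swap (2 : Fin 5) 4 * Equiv.swap (3 : Fin 5) 0 = (Equiv.swap (0 : Fin 5) 3 * Equiv.swap (2 : Fin 5) 4) := by decide
    have e2 : Equiv.swap (2 : Fin 5) 4 * Equiv.swap (3 : Fin 5) 1 = (Equiv.swap (1 : Fin 5) 3 * Equiv.swap (2 : Fin 5) 4) := by decide
    rw [e1, e2] at h
    exact h
  have n2_5 : c (Equiv.swap (0 : Fin 5) 1 * Equiv.swap (3 : Fin 5) 4) ≠ c (Equiv.swap (0 : Fin 5) 2 * Equiv.swap (3 : Fin 5) 4) := by
    have h := hadj 3 4 0 1 2 (by decide) (by decide) (by decide) (by decide) (by decide) (by decide) (by decide) (by decide) (by decide) (by decide)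
    have e1 : Equiv.swap (3 : Fin 5) 4 * Equiv.swap (0 : Fin 5) 1 = (Equiv.swap (0 : Fin 5) 1 * Equiv.swap (3 : Fin 5) 4) := by decide
    have e2 : Equiv.swap (3 : Fin 5) 4 * Equiv.swap (0 : Fin 5) 2 = (Equiv.swap (0 : Fin 5) 2 * Equiv.swap (3 : Fin 5) 4) := by decide
    rw [e1, e2] at h
    exact h
  have n2_12 : c (Equiv.swap (0 : Fin 5) 1 * Equiv.swap (3 : Fin 5) 4) ≠ c (Equiv.swap (1 : Fin 5) 2 * Equiv.swap (3 : Fin 5) 4) := by
    have h := hadj 3 4 1 0 2 (by decide) (by decide) (by decide) (by decide) (by decide) (by decide) (by decide) (by decide) (by decide) (by decide)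
    have e1 : Equiv.swap (3 : Fin 5) 4 * Equiv.swap (1 : Fin 5) 0 = (Equiv.swap (0 : Fin 5) 1 * Equiv.swap (3 : Fin 5) 4) := by decide
    have e2 : Equiv.swap (3 : Fin 5) 4 * Equiv.swap (1 : Fin 5) 2 = (Equiv.swap (1 : Fin 5) 2 * Equiv.swap (3 : Fin 5) 4) := by decide
    rw [e1, e2] at h
    exact h
  have n5_12 : c (Equiv.swap (0 : Fin 5) 2 * Equiv.swap (3 : Fin 5) 4) ≠ c (Equiv.swap (1 : Fin 5) 2 * Equiv.swap (3 : Fin 5) 4) := by
    have h := hadj 3 4 2 0 1 (by decide) (by decide) (by decide) (by decide) (by decide) (by decide) (by decide) (by decide) (by decide) (by decide)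
    have e1 : Equiv.swap (3 : Fin 5) 4 * Equiv.swap (2 : Fin 5) 0 = (Equiv.swap (0 : Fin 5) 2 * Equiv.swap (3 : Fin 5) 4) := by decide
    have e2 : Equiv.swap (3 : Fin 5) 4 * Equiv.swap (2 : Fin 5) 1 = (Equiv.swap (1 : Fin 5) 2 * Equiv.swap (3 : Fin 5) 4) := by decide
    rw [e1, e2] at h
    exact h
  exact core (col (c (Equiv.swap (0 : Fin 5) 1 * Equiv.swap (2 : Fin 5) 3)))
    (col (c (Equiv.swap (0 : Fin 5) 1 * Equiv.swap (2 : Fin 5) 4)))
    (hcol _ _ v0 v1 n0_1)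
    (col (c (Equiv.swap (0 : Fin 5) 1 * Equiv.swap (3 : Fin 5) 4)))
    (hcol _ _ v0 v2 n0_2)
    (hcol _ _ v1 v2 n1_2)
    (col (c (Equiv.swap (0 : Fin 5) 4 * Equiv.swap (2 : Fin 5) 3)))
    (hcol _ _ v0 v11 n0_11)
    (col (c (Equiv.swap (1 : Fin 5) 4 * Equiv.swap (2 : Fin 5) 3)))
    (hcol _ _ v0 v14 n0_14)
    (hcol _ _ v11 v14 n11_14)
    (col (c (Equiv.swap (0 : Fin 5) 3 * Equiv.swap (2 : Fin 5) 4)))
    (hcol _ _ v1 v8 n1_8)
    (col (c (Equiv.swap (1 : Fin 5) 3 * Equiv.swap (2 : Fin 5) 4)))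
    (hcol _ _ v1 v13 n1_13)
    (hcol _ _ v8 v13 n8_13)
    (col (c (Equiv.swap (0 : Fin 5) 2 * Equiv.swap (3 : Fin 5) 4)))
    (hcol _ _ v2 v5 n2_5)
    (col (c (Equiv.swap (1 : Fin 5) 2 * Equiv.swap (3 : Fin 5) 4)))
    (hcol _ _ v2 v12 n2_12)
    (hcol _ _ v5 v12 n5_12)
    (col (c (Equiv.swap (0 : Fin 5) 4 * Equiv.swap (1 : Fin 5) 2)))
    (hcol _ _ v11 v9 (Ne.symm n9_11))
    (hcol _ _ v12 v9 (Ne.symm n9_12))
    (col (c (Equiv.swap (0 : Fin 5) 4 * Equiv.swap (1 : Fin 5) 3)))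
    (hcol _ _ v9 v10 n9_10)
    (hcol _ _ v11 v10 (Ne.symm n10_11))
    (hcol _ _ v13 v10 (Ne.symm n10_13))
    (col (c (Equiv.swap (0 : Fin 5) 2 * Equiv.swap (1 : Fin 5) 4)))
    (hcol _ _ v5 v4 (Ne.symm n4_5))
    (hcol _ _ v14 v4 (Ne.symm n4_14))
    (col (c (Equiv.swap (0 : Fin 5) 3 * Equiv.swap (1 : Fin 5) 4)))
    (hcol _ _ v8 v7 (Ne.symm n7_8))
    (hcol _ _ v4 v7 n4_7)
    (hcol _ _ v14 v7 (Ne.symm n7_14))
    (col (c (Equiv.swap (0 : Fin 5) 3 * Equiv.swap (1 : Fin 5) 2)))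
    (hcol _ _ v7 v6 (Ne.symm n6_7))
    (hcol _ _ v8 v6 (Ne.symm n6_8))
    (hcol _ _ v9 v6 (Ne.symm n6_9))
    (hcol _ _ v12 v6 (Ne.symm n6_12))
    (col (c (Equiv.swap (0 : Fin 5) 2 * Equiv.swap (1 : Fin 5) 3)))
    (hcol _ _ v4 v3 (Ne.symm n3_4))
    (hcol _ _ v5 v3 (Ne.symm n3_5))
    (hcol _ _ v10 v3 (Ne.symm n3_10))
    (hcol _ _ v13 v3 (Ne.symm n3_13))

end Cfsg.Agent.Helper4.Petersen
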