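import Mathlib
import Cfsg.Agent.Helper4.PresList

/-!
# The Coxeter presentation of the symmetric group of degree five

`⟨s₀, s₁, s₂, s₃ | s_i² = (s_i s_{i+1})³ = (s_i s_j)² = 1 (|i - j| ≥ 2)⟩ ≅ S₅`, with a verified
coset enumeration (generated data), and the resulting homomorphisms out of `S₅`.
-/

set_option autoImplicit false

namespace Cfsg.Agent.Helper4.S5Pres

open Cfsg.Agent.Helper3.CosetCert Cfsg.Agent.Helper4.PresList

def actTab : List (List ℕ) :=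
  [[1, 2, 3, 4],
   [0, 5, 6, 7],
   [8, 0, 9, 10],
   [6, 11, 0, 12],
   [7, 10, 13, 0],
   [14, 1, 15, 16],
   [3, 17, 1, 18],
   [4, 16, 19, 1],
   [2, 14, 20, 21],
   [20, 22, 2, 23],
   [21, 4, 24, 2],
   [25, 3, 22, 26],
   [18, 26, 27, 3],
   [19, 28, 4, 27],
   [5, 8, 29, 30],
   [29, 31, 5, 32],
   [30, 7, 33, 5],
   [34, 6, 31, 35],
   [12, 35, 36, 6],
   [13, 37, 7, 36],
   [9, 38, 8, 39],
   [10, 30, 40, 8],
   [41, 9, 11, 42],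
   [39, 42, 43, 9],
   [40, 44, 10, 43],
   [11, 34, 41, 45],
   [45, 12, 46, 11],
   [36, 47, 12, 13],
   [48, 13, 44, 47],
   [15, 49, 14, 50],
   [16, 21, 51, 14],
   [52, 15, 17, 53],
   [50, 53, 54, 15],
   [51, 55, 16, 54],
   [17, 25, 52, 56],
   [56, 18, 57, 17],
   [27, 58, 18, 19],
   [59, 19, 55, 58],
   [60, 20, 49, 61],
   [23, 61, 62, 20],
   [24, 63, 21, 62],
   [22, 60, 25, 64],
   [64, 23, 65, 22],
   [62, 66, 23, 24],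
   [67, 24, 28, 66],
   [26, 56, 68, 25],
   [68, 69, 26, 65],
   [70, 27, 69, 28],
   [28, 59, 67, 70],
   [71, 29, 38, 72],
   [32, 72, 73, 29],
   [33, 74, 30, 73],
   [31, 71, 34, 75],
   [75, 32, 76, 31],
   [73, 77, 32, 33],
   [78, 33, 37, 77],
   [35, 45, 79, 34],
   [79, 80, 35, 76],
   [81, 36, 80, 37],
   [37, 48, 78, 81],
   [38, 41, 71, 82],
   [82, 39, 83, 38],
   [43, 84, 39, 40],
   [85, 40, 74, 84],
   [42, 82, 86, 41],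
   [86, 87, 42, 46],
   [88, 43, 87, 44],
   [44, 85, 48, 88],
   [46, 89, 45, 86],
   [90, 46, 47, 87],
   [47, 81, 90, 48],
   [49, 52, 60, 91],
   [91, 50, 92, 49],
   [54, 93, 50, 51],
   [94, 51, 63, 93],
   [53, 91, 95, 52],
   [95, 96, 53, 57],
   [97, 54, 96, 55],
   [55, 94, 59, 97],
   [57, 98, 56, 95],
   [99, 57, 58, 96],
   [58, 70, 99, 59],
   [61, 64, 100, 60],
   [100, 101, 61, 92],
   [102, 62, 101, 63],
   [63, 67, 94, 102],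
   [65, 103, 64, 68],
   [104, 65, 66, 69],
   [66, 102, 104, 67],
   [105, 68, 98, 103],
   [69, 105, 70, 104],
   [72, 75, 106, 71],
   [106, 107, 72, 83],
   [108, 73, 107, 74],
   [74, 78, 85, 108],
   [76, 109, 75, 79],
   [110, 76, 77, 80],
   [77, 108, 110, 78],
   [111, 79, 89, 109],
   [80, 111, 81, 110],
   [83, 112, 82, 106],
   [113, 83, 84, 107],
   [84, 88, 113, 85],
   [114, 86, 112, 89],
   [87, 114, 88, 90],
   [89, 90, 111, 114],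
   [92, 115, 91, 100],
   [116, 92, 93, 101],
   [93, 97, 116, 94],
   [117, 95, 115, 98],
   [96, 117, 97, 99],
   [98, 99, 105, 117],
   [118, 100, 103, 115],
   [101, 118, 102, 116],
   [103, 104, 118, 105],
   [119, 106, 109, 112],
   [107, 119, 108, 113],
   [109, 110, 119, 111],
   [112, 113, 114, 119],
   [115, 116, 117, 118]]

def wordTab : List (List (Fin 4)) :=
  [[],
   [0],
   [1],
   [2],
   [3],
   [0, 1],
   [0, 2],
   [0, 3],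
   [1, 0],
   [1, 2],
   [1, 3],
   [2, 1],
   [2, 3],
   [3, 2],
   [0, 1, 0],
   [0, 1, 2],
   [0, 1, 3],
   [0, 2, 1],
   [0, 2, 3],
   [0, 3, 2],
   [1, 0, 2],
   [1, 0, 3],
   [1, 2, 1],
   [1, 2, 3],
   [1, 3, 2],
   [2, 1, 0],
   [2, 1, 3],
   [2, 3, 2],
   [3, 2, 1],
   [0, 1, 0, 2],
   [0, 1, 0, 3],
   [0, 1, 2, 1],
   [0, 1, 2, 3],
   [0, 1, 3, 2],
   [0, 2, 1, 0],
   [0, 2, 1, 3],
   [0, 2, 3, 2],
   [0, 3, 2, 1],
   [1, 0, 2, 1],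
   [1, 0, 2, 3],
   [1, 0, 3, 2],
   [1, 2, 1, 0],
   [1, 2, 1, 3],
   [1, 2, 3, 2],
   [1, 3, 2, 1],
   [2, 1, 0, 3],
   [2, 1, 3, 2],
   [2, 3, 2, 1],
   [3, 2, 1, 0],
   [0, 1, 0, 2, 1],
   [0, 1, 0, 2, 3],
   [0, 1, 0, 3, 2],
   [0, 1, 2, 1, 0],
   [0, 1, 2, 1, 3],
   [0, 1, 2, 3, 2],
   [0, 1, 3, 2, 1],
   [0, 2, 1, 0, 3],
   [0, 2, 1, 3, 2],
   [0, 2, 3, 2, 1],
   [0, 3, 2, 1, 0],
   [1, 0, 2, 1, 0],
   [1, 0, 2, 1, 3],
   [1, 0, 2, 3, 2],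
   [1, 0, 3, 2, 1],
   [1, 2, 1, 0, 3],
   [1, 2, 1, 3, 2],
   [1, 2, 3, 2, 1],
   [1, 3, 2, 1, 0],
   [2, 1, 0, 3, 2],
   [2, 1, 3, 2, 1],
   [2, 3, 2, 1, 0],
   [0, 1, 0, 2, 1, 0],
   [0, 1, 0, 2, 1, 3],
   [0, 1, 0, 2, 3, 2],
   [0, 1, 0, 3, 2, 1],
   [0, 1, 2, 1, 0, 3],
   [0, 1, 2, 1, 3, 2],
   [0, 1, 2, 3, 2, 1],
   [0, 1, 3, 2, 1, 0],
   [0, 2, 1, 0, 3, 2],
   [0, 2, 1, 3, 2, 1],
   [0, 2, 3, 2, 1, 0],
   [1, 0, 2, 1, 0, 3],
   [1, 0, 2, 1, 3, 2],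
   [1, 0, 2, 3, 2, 1],
   [1, 0, 3, 2, 1, 0],
   [1, 2, 1, 0, 3, 2],
   [1, 2, 1, 3, 2, 1],
   [1, 2, 3, 2, 1, 0],
   [2, 1, 0, 3, 2, 1],
   [2, 1, 3, 2, 1, 0],
   [0, 1, 0, 2, 1, 0, 3],
   [0, 1, 0, 2, 1, 3, 2],
   [0, 1, 0, 2, 3, 2, 1],
   [0, 1, 0, 3, 2, 1, 0],
   [0, 1, 2, 1, 0, 3, 2],
   [0, 1, 2, 1, 3, 2, 1],
   [0, 1, 2, 3, 2, 1, 0],
   [0, 2, 1, 0, 3, 2, 1],
   [0, 2, 1, 3, 2, 1, 0],
   [1, 0, 2, 1, 0, 3, 2],
   [1, 0, 2, 1, 3, 2, 1],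
   [1, 0, 2, 3, 2, 1, 0],
   [1, 2, 1, 0, 3, 2, 1],
   [1, 2, 1, 3, 2, 1, 0],
   [2, 1, 0, 3, 2, 1, 0],
   [0, 1, 0, 2, 1, 0, 3, 2],
   [0, 1, 0, 2, 1, 3, 2, 1],
   [0, 1, 0, 2, 3, 2, 1, 0],
   [0, 1, 2, 1, 0, 3, 2, 1],
   [0, 1, 2, 1, 3, 2, 1, 0],
   [0, 2, 1, 0, 3, 2, 1, 0],
   [1, 0, 2, 1, 0, 3, 2, 1],
   [1, 0, 2, 1, 3, 2, 1, 0],
   [1, 2, 1, 0, 3, 2, 1, 0],
   [0, 1, 0, 2, 1, 0, 3, 2, 1],
   [0, 1, 0, 2, 1, 3, 2, 1, 0],
   [0, 1, 2, 1, 0, 3, 2, 1, 0],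
   [1, 0, 2, 1, 0, 3, 2, 1, 0],
   [0, 1, 0, 2, 1, 0, 3, 2, 1, 0]]

def cert : List (Fin 120 × List (Fin 4) × Fin 4 × List (Fin 4)) :=
  [(0, [0], 0, []),
   (2, [0], 0, []),
   (5, [0], 0, []),
   (11, [0], 0, []),
   (17, [0], 0, []),
   (22, [0], 0, []),
   (28, [0], 0, []),
   (31, [0], 0, []),
   (37, [0], 0, []),
   (38, [0], 0, []),
   (44, [0], 0, []),
   (47, [0], 0, []),
   (49, [0], 0, []),
   (55, [0], 0, []),
   (58, [0], 0, []),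
   (63, [0], 0, []),
   (66, [0], 0, []),
   (69, [0], 0, []),
   (74, [0], 0, []),
   (77, [0], 0, []),
   (80, [0], 0, []),
   (84, [0], 0, []),
   (87, [0], 0, []),
   (89, [0], 0, []),
   (93, [0], 0, []),
   (96, [0], 0, []),
   (98, [0], 0, []),
   (101, [0], 0, []),
   (103, [0], 0, []),
   (107, [0], 0, []),
   (109, [0], 0, []),
   (112, [0], 0, []),
   (115, [0], 0, []),
   (0, [1], 1, []),
   (1, [1], 1, []),
   (3, [1], 1, []),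
   (6, [1], 1, []),
   (9, [1], 1, []),
   (13, [1], 1, []),
   (15, [1], 1, []),
   (19, [1], 1, []),
   (20, [1], 1, []),
   (24, [1], 1, []),
   (27, [1], 1, []),
   (29, [1], 1, []),
   (33, [1], 1, []),
   (36, [1], 1, []),
   (40, [1], 1, []),
   (43, [1], 1, []),
   (46, [1], 1, []),
   (51, [1], 1, []),
   (54, [1], 1, []),
   (57, [1], 1, []),
   (62, [1], 1, []),
   (65, [1], 1, []),
   (68, [1], 1, []),
   (73, [1], 1, []),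
   (76, [1], 1, []),
   (79, [1], 1, []),
   (83, [1], 1, []),
   (86, [1], 1, []),
   (92, [1], 1, []),
   (95, [1], 1, []),
   (100, [1], 1, []),
   (106, [1], 1, []),
   (0, [2], 2, []),
   (1, [2], 2, []),
   (2, [2], 2, []),
   (4, [2], 2, []),
   (5, [2], 2, []),
   (7, [2], 2, []),
   (8, [2], 2, []),
   (10, [2], 2, []),
   (12, [2], 2, []),
   (14, [2], 2, []),
   (16, [2], 2, []),
   (18, [2], 2, []),
   (21, [2], 2, []),
   (23, [2], 2, []),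
   (26, [2], 2, []),
   (30, [2], 2, []),
   (32, [2], 2, []),
   (35, [2], 2, []),
   (39, [2], 2, []),
   (42, [2], 2, []),
   (45, [2], 2, []),
   (50, [2], 2, []),
   (53, [2], 2, []),
   (56, [2], 2, []),
   (61, [2], 2, []),
   (64, [2], 2, []),
   (72, [2], 2, []),
   (75, [2], 2, []),
   (82, [2], 2, []),
   (91, [2], 2, []),
   (0, [3], 3, []),
   (1, [3], 3, []),
   (2, [3], 3, []),
   (3, [3], 3, []),
   (5, [3], 3, []),
   (6, [3], 3, []),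
   (8, [3], 3, []),
   (9, [3], 3, []),
   (11, [3], 3, []),
   (14, [3], 3, []),
   (15, [3], 3, []),
   (17, [3], 3, []),
   (20, [3], 3, []),
   (22, [3], 3, []),
   (25, [3], 3, []),
   (29, [3], 3, []),
   (31, [3], 3, []),
   (34, [3], 3, []),
   (38, [3], 3, []),
   (41, [3], 3, []),
   (49, [3], 3, []),
   (52, [3], 3, []),
   (60, [3], 3, []),
   (71, [3], 3, []),
   (0, [0, 1, 0], 1, [0, 1]),
   (1, [0, 1, 0], 1, [0, 1]),
   (0, [1, 2, 1], 2, [1, 2]),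
   (1, [1, 2, 1], 2, [1, 2]),
   (2, [1, 2, 1], 2, [1, 2]),
   (5, [1, 2, 1], 2, [1, 2]),
   (8, [1, 2, 1], 2, [1, 2]),
   (14, [1, 2, 1], 2, [1, 2]),
   (0, [2, 3, 2], 3, [2, 3]),
   (1, [2, 3, 2], 3, [2, 3]),
   (2, [2, 3, 2], 3, [2, 3]),
   (3, [2, 3, 2], 3, [2, 3]),
   (5, [2, 3, 2], 3, [2, 3]),
   (6, [2, 3, 2], 3, [2, 3]),
   (8, [2, 3, 2], 3, [2, 3]),
   (9, [2, 3, 2], 3, [2, 3]),
   (11, [2, 3, 2], 3, [2, 3]),
   (14, [2, 3, 2], 3, [2, 3]),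
   (15, [2, 3, 2], 3, [2, 3]),
   (17, [2, 3, 2], 3, [2, 3]),
   (20, [2, 3, 2], 3, [2, 3]),
   (22, [2, 3, 2], 3, [2, 3]),
   (29, [2, 3, 2], 3, [2, 3]),
   (31, [2, 3, 2], 3, [2, 3]),
   (38, [2, 3, 2], 3, [2, 3]),
   (49, [2, 3, 2], 3, [2, 3]),
   (0, [0, 2], 0, [2]),
   (1, [0, 2], 0, [2]),
   (2, [0, 2], 0, [2]),
   (5, [0, 2], 0, [2]),
   (8, [0, 2], 0, [2]),
   (11, [0], 2, [0, 2]),
   (14, [0, 2], 0, [2]),
   (17, [0], 2, [0, 2]),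
   (22, [0], 2, [0, 2]),
   (31, [0], 2, [0, 2]),
   (38, [0], 2, [0, 2]),
   (49, [0], 2, [0, 2]),
   (0, [0, 3], 0, [3]),
   (1, [0, 3], 0, [3]),
   (2, [0, 3], 0, [3]),
   (3, [0, 3], 0, [3]),
   (5, [0, 3], 0, [3]),
   (6, [0, 3], 0, [3]),
   (8, [0, 3], 0, [3]),
   (9, [0, 3], 0, [3]),
   (11, [0, 3], 0, [3]),
   (14, [0, 3], 0, [3]),
   (15, [0, 3], 0, [3]),
   (17, [0, 3], 0, [3]),
   (20, [0, 3], 0, [3]),
   (22, [0, 3], 0, [3]),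
   (25, [0, 3], 0, [3]),
   (29, [0, 3], 0, [3]),
   (31, [0, 3], 0, [3]),
   (34, [0, 3], 0, [3]),
   (38, [0, 3], 0, [3]),
   (41, [0, 3], 0, [3]),
   (49, [0, 3], 0, [3]),
   (52, [0, 3], 0, [3]),
   (60, [0, 3], 0, [3]),
   (71, [0, 3], 0, [3]),
   (0, [1, 3], 1, [3]),
   (1, [1, 3], 1, [3]),
   (2, [1, 3], 1, [3]),
   (3, [1, 3], 1, [3]),
   (5, [1, 3], 1, [3]),
   (6, [1, 3], 1, [3]),
   (8, [1, 3], 1, [3]),
   (9, [1, 3], 1, [3]),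
   (11, [1, 3], 1, [3]),
   (13, [1], 3, [1, 3]),
   (14, [1, 3], 1, [3]),
   (15, [1, 3], 1, [3]),
   (17, [1, 3], 1, [3]),
   (19, [1], 3, [1, 3]),
   (20, [1, 3], 1, [3]),
   (22, [1, 3], 1, [3]),
   (24, [1], 3, [1, 3]),
   (27, [1], 3, [1, 3]),
   (29, [1, 3], 1, [3]),
   (31, [1, 3], 1, [3]),
   (33, [1], 3, [1, 3]),
   (36, [1], 3, [1, 3]),
   (38, [1, 3], 1, [3]),
   (40, [1], 3, [1, 3]),
   (43, [1], 3, [1, 3]),
   (46, [1], 3, [1, 3]),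
   (49, [1, 3], 1, [3]),
   (51, [1], 3, [1, 3]),
   (54, [1], 3, [1, 3]),
   (57, [1], 3, [1, 3]),
   (62, [1], 3, [1, 3]),
   (65, [1], 3, [1, 3]),
   (73, [1], 3, [1, 3]),
   (76, [1], 3, [1, 3]),
   (83, [1], 3, [1, 3]),
   (92, [1], 3, [1, 3]),
   (3, [0, 1, 0], 1, [0, 1]),
   (6, [0, 1, 0], 1, [0, 1]),
   (9, [0, 1, 0], 1, [0, 1]),
   (12, [0, 1, 0], 1, [0, 1]),
   (15, [0, 1, 0], 1, [0, 1]),
   (18, [0, 1, 0], 1, [0, 1]),
   (20, [0, 1, 0], 1, [0, 1]),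
   (23, [0, 1, 0], 1, [0, 1]),
   (29, [0, 1, 0], 1, [0, 1]),
   (32, [0, 1, 0], 1, [0, 1]),
   (39, [0, 1, 0], 1, [0, 1]),
   (50, [0, 1, 0], 1, [0, 1]),
   (4, [1, 2, 1], 2, [1, 2]),
   (7, [1, 2, 1], 2, [1, 2]),
   (10, [1, 2, 1], 2, [1, 2]),
   (12, [1, 2, 1], 2, [1, 2]),
   (16, [1, 2, 1], 2, [1, 2]),
   (18, [1, 2, 1], 2, [1, 2]),
   (21, [1, 2, 1], 2, [1, 2]),
   (23, [1, 2, 1], 2, [1, 2]),
   (26, [1, 2, 1], 2, [1, 2]),
   (30, [1, 2, 1], 2, [1, 2]),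
   (32, [1, 2, 1], 2, [1, 2]),
   (35, [1, 2, 1], 2, [1, 2]),
   (39, [1, 2, 1], 2, [1, 2]),
   (42, [1, 2, 1], 2, [1, 2]),
   (45, [1, 2, 1], 2, [1, 2]),
   (50, [1, 2, 1], 2, [1, 2]),
   (53, [1, 2, 1], 2, [1, 2]),
   (56, [1, 2, 1], 2, [1, 2]),
   (61, [1, 2, 1], 2, [1, 2]),
   (64, [1, 2, 1], 2, [1, 2]),
   (72, [1, 2, 1], 2, [1, 2]),
   (75, [1, 2, 1], 2, [1, 2]),
   (82, [1, 2, 1], 2, [1, 2]),
   (91, [1, 2, 1], 2, [1, 2]),
   (25, [2, 3, 2], 3, [2, 3]),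
   (34, [2, 3, 2], 3, [2, 3]),
   (41, [2, 3, 2], 3, [2, 3]),
   (52, [2, 3, 2], 3, [2, 3]),
   (60, [2, 3, 2], 3, [2, 3]),
   (71, [2, 3, 2], 3, [2, 3]),
   (4, [0, 2], 0, [2]),
   (7, [0, 2], 0, [2]),
   (10, [0, 2], 0, [2]),
   (12, [0, 2], 0, [2]),
   (16, [0, 2], 0, [2]),
   (18, [0, 2], 0, [2]),
   (21, [0, 2], 0, [2]),
   (23, [0, 2], 0, [2]),
   (26, [0, 2], 0, [2]),
   (28, [0], 2, [0, 2]),
   (30, [0, 2], 0, [2]),
   (32, [0, 2], 0, [2]),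
   (35, [0, 2], 0, [2]),
   (37, [0], 2, [0, 2]),
   (39, [0, 2], 0, [2]),
   (42, [0, 2], 0, [2]),
   (44, [0], 2, [0, 2]),
   (45, [0, 2], 0, [2]),
   (47, [0], 2, [0, 2]),
   (50, [0, 2], 0, [2]),
   (53, [0, 2], 0, [2]),
   (55, [0], 2, [0, 2]),
   (56, [0, 2], 0, [2]),
   (58, [0], 2, [0, 2]),
   (61, [0, 2], 0, [2]),
   (63, [0], 2, [0, 2]),
   (64, [0, 2], 0, [2]),
   (66, [0], 2, [0, 2]),
   (69, [0], 2, [0, 2]),
   (72, [0, 2], 0, [2]),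
   (74, [0], 2, [0, 2]),
   (75, [0, 2], 0, [2]),
   (77, [0], 2, [0, 2]),
   (80, [0], 2, [0, 2]),
   (82, [0, 2], 0, [2]),
   (84, [0], 2, [0, 2]),
   (87, [0], 2, [0, 2]),
   (89, [0], 2, [0, 2]),
   (91, [0, 2], 0, [2]),
   (93, [0], 2, [0, 2]),
   (96, [0], 2, [0, 2]),
   (98, [0], 2, [0, 2]),
   (101, [0], 2, [0, 2]),
   (103, [0], 2, [0, 2]),
   (107, [0], 2, [0, 2]),
   (109, [0], 2, [0, 2]),
   (112, [0], 2, [0, 2]),
   (115, [0], 2, [0, 2]),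
   (28, [0], 3, [0, 3]),
   (37, [0], 3, [0, 3]),
   (44, [0], 3, [0, 3]),
   (47, [0], 3, [0, 3]),
   (55, [0], 3, [0, 3]),
   (58, [0], 3, [0, 3]),
   (63, [0], 3, [0, 3]),
   (66, [0], 3, [0, 3]),
   (69, [0], 3, [0, 3]),
   (74, [0], 3, [0, 3]),
   (77, [0], 3, [0, 3]),
   (80, [0], 3, [0, 3]),
   (84, [0], 3, [0, 3]),
   (87, [0], 3, [0, 3]),
   (93, [0], 3, [0, 3]),
   (96, [0], 3, [0, 3]),
   (101, [0], 3, [0, 3]),
   (107, [0], 3, [0, 3]),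
   (68, [1], 3, [1, 3]),
   (79, [1], 3, [1, 3]),
   (86, [1], 3, [1, 3]),
   (95, [1], 3, [1, 3]),
   (100, [1], 3, [1, 3]),
   (106, [1], 3, [1, 3]),
   (13, [0, 1, 0], 1, [0, 1]),
   (19, [0, 1, 0], 1, [0, 1]),
   (24, [0, 1, 0], 1, [0, 1]),
   (27, [0, 1, 0], 1, [0, 1]),
   (33, [0, 1, 0], 1, [0, 1]),
   (36, [0, 1, 0], 1, [0, 1]),
   (40, [0, 1, 0], 1, [0, 1]),
   (43, [0, 1, 0], 1, [0, 1]),
   (46, [0, 1, 0], 1, [0, 1]),
   (51, [0, 1, 0], 1, [0, 1]),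
   (54, [0, 1, 0], 1, [0, 1]),
   (57, [0, 1, 0], 1, [0, 1]),
   (62, [0, 1, 0], 1, [0, 1]),
   (65, [0, 1, 0], 1, [0, 1]),
   (68, [0, 1, 0], 1, [0, 1]),
   (73, [0, 1, 0], 1, [0, 1]),
   (76, [0, 1, 0], 1, [0, 1]),
   (79, [0, 1, 0], 1, [0, 1]),
   (83, [0, 1, 0], 1, [0, 1]),
   (86, [0, 1, 0], 1, [0, 1]),
   (92, [0, 1, 0], 1, [0, 1]),
   (95, [0, 1, 0], 1, [0, 1]),
   (100, [0, 1, 0], 1, [0, 1]),
   (106, [0, 1, 0], 1, [0, 1]),
   (89, [0], 3, [0, 3]),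
   (98, [0], 3, [0, 3]),
   (103, [0], 3, [0, 3]),
   (109, [0], 3, [0, 3]),
   (112, [0], 3, [0, 3]),
   (115, [0], 3, [0, 3])]

/-- The table as a function. -/
def act : Fin 120 → Fin 4 → Fin 120 := fun ω s =>
  ⟨((actTab.getD ω.val []).getD s.val 0) % 120, Nat.mod_lt _ (by norm_num)⟩

/-- The spanning tree words. -/
def word : Fin 120 → List (Fin 4) := fun ω => wordTab.getD ω.val []

/-- The relators as words. -/
def R : List (List (Fin 4)) :=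
  [[0, 0], [1, 1], [2, 2], [3, 3], [0, 1, 0, 1, 0, 1], [1, 2, 1, 2, 1, 2], [2, 3, 2, 3, 2, 3],
    [0, 2, 0, 2], [0, 3, 0, 3], [1, 3, 1, 3]]

set_option maxRecDepth 1000000 in
theorem cert_ok : ∀ e : Fin 120 × Fin 4, e ∈ run act R (treeEdges act word) cert := by
  decide +kernel

/-- images of the generators: the adjacent transpositions -/
def gS : Fin 4 → Equiv.Perm (Fin 5) :=
  ![Equiv.swap 0 1, Equiv.swap 1 2, Equiv.swap 2 3, Equiv.swap 3 4]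

theorem gS_rel : ∀ l ∈ R, prodL gS l = 1 := by
  decide

/-- an injective code of a permutation -/
def enc (σ : Equiv.Perm (Fin 5)) : ℕ :=
  (σ 0).val + 5 * ((σ 1).val + 5 * ((σ 2).val + 5 * ((σ 3).val + 5 * (σ 4).val)))

set_option maxRecDepth 1000000 in
theorem enc_inj : ∀ ω ω' : Fin 120, enc (prodL gS (word ω)) = enc (prodL gS (word ω')) → ω = ω' := by
  decide +kernel

theorem gS_inj : Function.Injective (fun ω : Fin 120 => prodL gS (word ω)) := by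
  intro ω ω' h
  exact enc_inj ω ω' (congrArg enc h)

/-- the homomorphism onto the symmetric group -/
def phi : PG R →* Equiv.Perm (Fin 5) := homOf gS gS_rel

theorem phi_injective : Function.Injective phi :=
  homOf_injective R act word 0 (by decide) cert cert_ok gS gS_rel gS_inj

theorem card_PG : Nat.card (PG R) = 120 :=
  card_PG_eq R act word 0 (by decide) cert cert_ok gS gS_rel gS_inj

theorem phi_bijective : Function.Bijective phi := by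
  have hfin : Finite (PG R) := finite_PG R act word 0 (by decide) cert cert_ok
  have hA : Nat.card (Equiv.Perm (Fin 5)) = 120 := by
    rw [Nat.card_eq_fintype_card, Fintype.card_perm, Fintype.card_fin]
    rfl
  rw [Nat.bijective_iff_injective_and_card]
  exact ⟨phi_injective, by rw [card_PG, hA]⟩

/-- the isomorphism -/
noncomputable def equiv : PG R ≃* Equiv.Perm (Fin 5) := MulEquiv.ofBijective phi phi_bijective

theorem equiv_pgens (i : Fin 4) : equiv (pgens R i) = gS i := homOf_pgens gS gS_rel i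

/-- Elements of any group satisfying the Coxeter relations of type `A₄` are the images of the
adjacent transpositions under a homomorphism from `S₅`. -/
theorem exists_hom {G : Type*} [Group G] (a b c d : G) (ha : a * a = 1) (hb : b * b = 1)
    (hc : c * c = 1) (hd : d * d = 1) (hab : (a * b) ^ 3 = 1) (hbc : (b * c) ^ 3 = 1)
    (hcd : (c * d) ^ 3 = 1) (hac : Commute a c) (had : Commute a d) (hbd : Commute b d) :
    ∃ φ : Equiv.Perm (Fin 5) →* G, φ (Equiv.swap 0 1) = a ∧ φ (Equiv.swap 1 2) = b ∧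
      φ (Equiv.swap 2 3) = c ∧ φ (Equiv.swap 3 4) = d := by
  have hcomm : ∀ {x y : G}, x * x = 1 → y * y = 1 → Commute x y → x * (y * (x * y)) = 1 := by
    intro x y hx hy hxy
    calc x * (y * (x * y)) = x * (y * (y * x)) := by rw [hxy.eq]
      _ = x * ((y * y) * x) := by group
      _ = 1 := by rw [hy, one_mul, hx]
  have hrel : ∀ l ∈ R, prodL (![a, b, c, d] : Fin 4 → G) l = 1 := by
    intro l hl
    simp only [R, List.mem_cons, List.not_mem_nil, or_false] at hl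
    rcases hl with rfl | rfl | rfl | rfl | rfl | rfl | rfl | rfl | rfl | rfl
    · simpa [prodL] using ha
    · simpa [prodL] using hb
    · simpa [prodL] using hc
    · simpa [prodL] using hd
    · simpa [prodL, pow_succ, mul_assoc] using hab
    · simpa [prodL, pow_succ, mul_assoc] using hbc
    · simpa [prodL, pow_succ, mul_assoc] using hcd
    · simpa [prodL, mul_assoc] using hcomm ha hc hac
    · simpa [prodL, mul_assoc] using hcomm ha hd had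
    · simpa [prodL, mul_assoc] using hcomm hb hd hbd
  let ψ : PG R →* G := homOf _ hrel
  have hψ : ∀ i : Fin 4, ψ (pgens R i) = (![a, b, c, d] : Fin 4 → G) i := fun i =>
    homOf_pgens _ hrel i
  have hsymm : ∀ i : Fin 4, equiv.symm (gS i) = pgens R i := by
    intro i
    rw [MulEquiv.symm_apply_eq, equiv_pgens]
  refine ⟨ψ.comp equiv.symm.toMonoidHom, ?_, ?_, ?_, ?_⟩
  · have := hsymm 0
    simp only [MonoidHom.comp_apply, MulEquiv.coe_toMonoidHom]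
    change ψ (equiv.symm (gS 0)) = a
    rw [this, hψ]; rfl
  · have := hsymm 1
    simp only [MonoidHom.comp_apply, MulEquiv.coe_toMonoidHom]
    change ψ (equiv.symm (gS 1)) = b
    rw [this, hψ]; rfl
  · have := hsymm 2
    simp only [MonoidHom.comp_apply, MulEquiv.coe_toMonoidHom]
    change ψ (equiv.symm (gS 2)) = c
    rw [this, hψ]; rfl
  · have := hsymm 3
    simp only [MonoidHom.comp_apply, MulEquiv.coe_toMonoidHom]
    change ψ (equiv.symm (gS 3)) = d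
    rw [this, hψ]; rfl

/-- a homomorphism from `S₅` not killing the 3-cycle `(0 1)(1 2)` is injective -/
theorem injective_of_ne_one {G : Type*} [Group G] (φ : Equiv.Perm (Fin 5) →* G)
    (h : φ (Equiv.swap 0 1 * Equiv.swap 1 2) ≠ 1) : Function.Injective φ := by
  rw [← MonoidHom.ker_eq_bot_iff]
  by_contra hne
  have hnt : Nontrivial φ.ker := (Subgroup.nontrivial_iff_ne_bot _).mpr hne
  have hle := Equiv.Perm.alternatingGroup_le_of_normal (α := Fin 5) (by simp) hnt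
  apply h
  apply MonoidHom.mem_ker.1
  apply hle
  rw [Equiv.Perm.mem_alternatingGroup]
  decide

end Cfsg.Agent.Helper4.S5Pres
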