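import Mathlib

/-!
# Arithmetic for the Brauer-Suzuki theorem with quaternion Sylow 2-subgroups of order 8
-/

set_option autoImplicit false

namespace Cfsg.Agent.Helper4.BSQ8

set_option maxRecDepth 100000 in
theorem zmod4_first : ∀ ε₁ ε₂ ε₃ n₁ n₂ n₃ : ZMod 4,
    (ε₁ = 1 ∨ ε₁ = -1) → (ε₂ = 1 ∨ ε₂ = -1) → (ε₃ = 1 ∨ ε₃ = -1) →
    ε₁ * n₁ + ε₂ * n₂ + ε₃ * n₃ = 0 →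
    ε₁ * n₁ ^ 2 * (2 * n₂ + ε₂) * (2 * n₃ + ε₃) + ε₂ * n₂ ^ 2 * (2 * n₁ + ε₁) * (2 * n₃ + ε₃) +
      ε₃ * n₃ ^ 2 * (2 * n₁ + ε₁) * (2 * n₂ + ε₂) = 0 →
    (n₁ = 0 ∨ n₁ = 2) ∧ (n₂ = 0 ∨ n₂ = 2) ∧ (n₃ = 0 ∨ n₃ = 2) := by
  decide

set_option maxRecDepth 100000 in
theorem zmod4_second : ∀ ε₁ ε₂ ε₃ n₁ n₂ n₃ : ZMod 4,
    (ε₁ = 1 ∨ ε₁ = -1) → (ε₂ = 1 ∨ ε₂ = -1) → (ε₃ = 1 ∨ ε₃ = -1) →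
    ε₁ * n₁ + ε₂ * n₂ + ε₃ * n₃ = 0 →
    ε₁ * n₁ ^ 2 * ε₂ * ε₃ + ε₂ * n₂ ^ 2 * ε₁ * ε₃ + ε₃ * n₃ ^ 2 * ε₁ * ε₂ = 0 →
    (n₁ = 0 ∨ n₁ = 2) ∧ (n₂ = 0 ∨ n₂ = 2) ∧ (n₃ = 0 ∨ n₃ = 2) := by
  decide


theorem two_dvd_of_zmod4 (n : ℤ) (h : ((n : ℤ) : ZMod 4) = 0 ∨ ((n : ℤ) : ZMod 4) = 2) :
    (2 : ℤ) ∣ n := by
  rcases h with h | h
  · have h1 : ((4 : ℕ) : ℤ) ∣ n := (ZMod.intCast_zmod_eq_zero_iff_dvd n 4).mp h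
    exact dvd_trans (by norm_num) h1
  · have h2 : ((n : ℤ) : ZMod 4) = ((2 : ℤ) : ZMod 4) := by rw [h]; norm_num
    have h1 : ((4 : ℕ) : ℤ) ∣ n - 2 := by
      have := (ZMod.intCast_eq_intCast_iff_dvd_sub (2 : ℤ) n 4).mp h2.symm
      exact this
    have h3 : (2 : ℤ) ∣ n - 2 := dvd_trans (by norm_num) h1
    have := dvd_add h3 (dvd_refl (2 : ℤ))
    simpa using this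

theorem sign_cast (ε : ℤ) (h : ε = 1 ∨ ε = -1) :
    ((ε : ℤ) : ZMod 4) = 1 ∨ ((ε : ℤ) : ZMod 4) = -1 := by
  rcases h with h | h
  · left; rw [h]; norm_num
  · right; rw [h]; norm_num

/-- the homogeneous descent -/
theorem descent (d₁ d₂ d₃ ε₁ ε₂ ε₃ : ℤ) (h₁ : ε₁ = 1 ∨ ε₁ = -1) (h₂ : ε₂ = 1 ∨ ε₂ = -1)
    (h₃ : ε₃ = 1 ∨ ε₃ = -1) (hd₁ : (4 : ℤ) ∣ d₁ - ε₁) (hd₂ : (4 : ℤ) ∣ d₂ - ε₂)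
    (hd₃ : (4 : ℤ) ∣ d₃ - ε₃) :
    ∀ (N : ℕ) (k₁ k₂ k₃ : ℤ), k₁.natAbs + k₂.natAbs + k₃.natAbs = N →
      ε₁ * k₁ + ε₂ * k₂ + ε₃ * k₃ = 0 →
      ε₁ * k₁ ^ 2 * d₂ * d₃ + ε₂ * k₂ ^ 2 * d₁ * d₃ + ε₃ * k₃ ^ 2 * d₁ * d₂ = 0 →
      k₁ = 0 ∧ k₂ = 0 ∧ k₃ = 0 := by
  have c₁ : ((d₁ : ℤ) : ZMod 4) = ((ε₁ : ℤ) : ZMod 4) := by
    have : ((4 : ℕ) : ℤ) ∣ d₁ - ε₁ := hd₁
    exact ((ZMod.intCast_eq_intCast_iff_dvd_sub ε₁ d₁ 4).mpr this).symm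
  have c₂ : ((d₂ : ℤ) : ZMod 4) = ((ε₂ : ℤ) : ZMod 4) := by
    have : ((4 : ℕ) : ℤ) ∣ d₂ - ε₂ := hd₂
    exact ((ZMod.intCast_eq_intCast_iff_dvd_sub ε₂ d₂ 4).mpr this).symm
  have c₃ : ((d₃ : ℤ) : ZMod 4) = ((ε₃ : ℤ) : ZMod 4) := by
    have : ((4 : ℕ) : ℤ) ∣ d₃ - ε₃ := hd₃
    exact ((ZMod.intCast_eq_intCast_iff_dvd_sub ε₃ d₃ 4).mpr this).symm
  intro N
  induction N using Nat.strong_induction_on with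
  | _ N ih =>
  intro k₁ k₂ k₃ hN hA hB
  have hA' := congrArg (fun x : ℤ => (x : ZMod 4)) hA
  have hB' := congrArg (fun x : ℤ => (x : ZMod 4)) hB
  simp only [Int.cast_add, Int.cast_mul, Int.cast_pow, Int.cast_zero, c₁, c₂, c₃] at hA' hB'
  obtain ⟨e₁, e₂, e₃⟩ := zmod4_second _ _ _ _ _ _ (sign_cast ε₁ h₁) (sign_cast ε₂ h₂)
    (sign_cast ε₃ h₃) hA' hB'
  obtain ⟨j₁, rfl⟩ := two_dvd_of_zmod4 k₁ e₁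
  obtain ⟨j₂, rfl⟩ := two_dvd_of_zmod4 k₂ e₂
  obtain ⟨j₃, rfl⟩ := two_dvd_of_zmod4 k₃ e₃
  by_cases hN0 : N = 0
  · subst hN0
    have : (2 * j₁).natAbs = 0 ∧ (2 * j₂).natAbs = 0 ∧ (2 * j₃).natAbs = 0 := by omega
    obtain ⟨a1, a2, a3⟩ := this
    exact ⟨Int.natAbs_eq_zero.mp a1, Int.natAbs_eq_zero.mp a2, Int.natAbs_eq_zero.mp a3⟩
  · have hA2 : ε₁ * j₁ + ε₂ * j₂ + ε₃ * j₃ = 0 := by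
      have : 2 * (ε₁ * j₁ + ε₂ * j₂ + ε₃ * j₃) = 0 := by linear_combination hA
      omega
    have hB2 : ε₁ * j₁ ^ 2 * d₂ * d₃ + ε₂ * j₂ ^ 2 * d₁ * d₃ + ε₃ * j₃ ^ 2 * d₁ * d₂ = 0 := by
      have : 4 * (ε₁ * j₁ ^ 2 * d₂ * d₃ + ε₂ * j₂ ^ 2 * d₁ * d₃ + ε₃ * j₃ ^ 2 * d₁ * d₂) = 0 := by
        linear_combination hB
      omega
    have hlt : j₁.natAbs + j₂.natAbs + j₃.natAbs < N := by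
      rw [Int.natAbs_mul, Int.natAbs_mul, Int.natAbs_mul] at hN
      simp only [Int.reduceAbs] at hN
      omega
    obtain ⟨z1, z2, z3⟩ := ih _ hlt j₁ j₂ j₃ rfl hA2 hB2
    subst z1 z2 z3
    simp

/-- the arithmetic core of the Brauer-Suzuki argument for `Q₈` -/
theorem arith (d₁ d₂ d₃ b₁ b₂ b₃ ε₁ ε₂ ε₃ n₁ n₂ n₃ m₁ m₂ m₃ : ℤ)
    (h₁ : ε₁ = 1 ∨ ε₁ = -1) (h₂ : ε₂ = 1 ∨ ε₂ = -1) (h₃ : ε₃ = 1 ∨ ε₃ = -1)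
    (hn₁ : d₁ - b₁ = 4 * n₁) (hn₂ : d₂ - b₂ = 4 * n₂) (hn₃ : d₃ - b₃ = 4 * n₃)
    (hm₁ : d₁ + b₁ + 6 * ε₁ = 8 * m₁) (hm₂ : d₂ + b₂ + 6 * ε₂ = 8 * m₂)
    (hm₃ : d₃ + b₃ + 6 * ε₃ = 8 * m₃)
    (e1 : 1 + ε₁ * d₁ + ε₂ * d₂ + ε₃ * d₃ = 0)
    (e2 : 1 + ε₁ * b₁ + ε₂ * b₂ + ε₃ * b₃ = 0)
    (e3 : d₁ * d₂ * d₃ + ε₁ * b₁ ^ 2 * d₂ * d₃ + ε₂ * b₂ ^ 2 * d₁ * d₃ + ε₃ * b₃ ^ 2 * d₁ * d₂ = 0) :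
    n₁ = 0 ∧ n₂ = 0 ∧ n₃ = 0 := by
  -- the two relations among the `nᵢ`
  have hA : ε₁ * n₁ + ε₂ * n₂ + ε₃ * n₃ = 0 := by
    have : 4 * (ε₁ * n₁ + ε₂ * n₂ + ε₃ * n₃) = 0 := by
      linear_combination e1 - e2 - ε₁ * hn₁ - ε₂ * hn₂ - ε₃ * hn₃
    omega
  have hb₁ : b₁ = d₁ - 4 * n₁ := by linarith
  have hb₂ : b₂ = d₂ - 4 * n₂ := by linarith
  have hb₃ : b₃ = d₃ - 4 * n₃ := by linarith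
  have hB : ε₁ * n₁ ^ 2 * d₂ * d₃ + ε₂ * n₂ ^ 2 * d₁ * d₃ + ε₃ * n₃ ^ 2 * d₁ * d₂ = 0 := by
    have : 16 * (ε₁ * n₁ ^ 2 * d₂ * d₃ + ε₂ * n₂ ^ 2 * d₁ * d₃ + ε₃ * n₃ ^ 2 * d₁ * d₂) = 0 := by
      rw [hb₁, hb₂, hb₃] at e3
      linear_combination e3 - d₁ * d₂ * d₃ * e1 + 8 * d₁ * d₂ * d₃ * hA
    omega
  -- the degrees modulo 4
  have hd₁ : d₁ = 2 * n₁ + ε₁ + 4 * (m₁ - ε₁) := by linarith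
  have hd₂ : d₂ = 2 * n₂ + ε₂ + 4 * (m₂ - ε₂) := by linarith
  have hd₃ : d₃ = 2 * n₃ + ε₃ + 4 * (m₃ - ε₃) := by linarith
  have four : ((4 : ℤ) : ZMod 4) = 0 := by decide
  have c₁ : ((d₁ : ℤ) : ZMod 4) = 2 * ((n₁ : ℤ) : ZMod 4) + ((ε₁ : ℤ) : ZMod 4) := by
    rw [hd₁]; push_cast; rw [show ((4 : ZMod 4)) = 0 by decide]; ring
  have c₂ : ((d₂ : ℤ) : ZMod 4) = 2 * ((n₂ : ℤ) : ZMod 4) + ((ε₂ : ℤ) : ZMod 4) := by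
    rw [hd₂]; push_cast; rw [show ((4 : ZMod 4)) = 0 by decide]; ring
  have c₃ : ((d₃ : ℤ) : ZMod 4) = 2 * ((n₃ : ℤ) : ZMod 4) + ((ε₃ : ℤ) : ZMod 4) := by
    rw [hd₃]; push_cast; rw [show ((4 : ZMod 4)) = 0 by decide]; ring
  have hA' := congrArg (fun x : ℤ => (x : ZMod 4)) hA
  have hB' := congrArg (fun x : ℤ => (x : ZMod 4)) hB
  simp only [Int.cast_add, Int.cast_mul, Int.cast_pow, Int.cast_zero, c₁, c₂, c₃] at hA' hB'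
  obtain ⟨p₁, p₂, p₃⟩ := zmod4_first _ _ _ _ _ _ (sign_cast ε₁ h₁) (sign_cast ε₂ h₂)
    (sign_cast ε₃ h₃) hA' hB'
  obtain ⟨j₁, hj₁⟩ := two_dvd_of_zmod4 n₁ p₁
  obtain ⟨j₂, hj₂⟩ := two_dvd_of_zmod4 n₂ p₂
  obtain ⟨j₃, hj₃⟩ := two_dvd_of_zmod4 n₃ p₃
  have q₁ : (4 : ℤ) ∣ d₁ - ε₁ := ⟨j₁ + (m₁ - ε₁), by rw [hd₁, hj₁]; ring⟩
  have q₂ : (4 : ℤ) ∣ d₂ - ε₂ := ⟨j₂ + (m₂ - ε₂), by rw [hd₂, hj₂]; ring⟩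
  have q₃ : (4 : ℤ) ∣ d₃ - ε₃ := ⟨j₃ + (m₃ - ε₃), by rw [hd₃, hj₃]; ring⟩
  exact descent d₁ d₂ d₃ ε₁ ε₂ ε₃ h₁ h₂ h₃ q₁ q₂ q₃ _ n₁ n₂ n₃ rfl hA hB

end Cfsg.Agent.Helper4.BSQ8
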