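import Mathlib
import Cfsg.Prelude.Def_Characters
import Cfsg.Agent.Helper6.RepEigen
import Cfsg.Agent.Helper6.CharBasic

/-!
# Character values at an element of order four that is conjugate to its inverse
-/

set_option autoImplicit false

namespace Cfsg.Agent.Helper4.BSQ8

open Cfsg.Agent.Helper6 Module

theorem fourth_root (μ : ℂ) (h : μ ^ 4 = 1) :
    ∃ r s : ℤ, μ = (r : ℂ) + (s : ℂ) * Complex.I ∧
      (((r = 1 ∨ r = -1) ∧ s = 0) ∨ (r = 0 ∧ (s = 1 ∨ s = -1))) := by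
  have h1 : (μ - 1) * (μ + 1) * (μ - Complex.I) * (μ + Complex.I) = 0 := by
    have hI : Complex.I ^ 2 = -1 := Complex.I_sq
    have : (μ - 1) * (μ + 1) * (μ - Complex.I) * (μ + Complex.I) =
        (μ ^ 2 - 1) * (μ ^ 2 - Complex.I ^ 2) := by ring
    rw [this, hI]
    linear_combination h
  rcases mul_eq_zero.mp h1 with h2 | h2
  · rcases mul_eq_zero.mp h2 with h3 | h3
    · rcases mul_eq_zero.mp h3 with h4 | h4
      · refine ⟨1, 0, ?_, Or.inl ⟨Or.inl rfl, rfl⟩⟩
        push_cast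
        linear_combination h4
      · refine ⟨-1, 0, ?_, Or.inl ⟨Or.inr rfl, rfl⟩⟩
        push_cast
        linear_combination h4
    · refine ⟨0, 1, ?_, Or.inr ⟨rfl, Or.inl rfl⟩⟩
      push_cast
      linear_combination h3
  · refine ⟨0, -1, ?_, Or.inr ⟨rfl, Or.inr rfl⟩⟩
    push_cast
    linear_combination h2

/-- sums of fourth roots of unity -/
theorem sum_fourth_roots {ι : Type*} [Fintype ι] (μ : ι → ℂ) (hμ : ∀ i, μ i ^ 4 = 1)
    (hreal : ∑ i, μ i = ∑ i, μ i ^ 3) :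
    ∃ (x : ℤ) (n : ℕ), ∑ i, μ i = (x : ℂ) ∧
      (Fintype.card ι : ℂ) - ∑ i, μ i ^ 2 = 4 * (n : ℂ) := by
  classical
  have hex := fun i => fourth_root (μ i) (hμ i)
  choose r s hrs hcases using hex
  have hI : Complex.I ^ 2 = -1 := Complex.I_sq
  have hI3 : Complex.I ^ 3 = -Complex.I := by
    rw [pow_succ, hI]; ring
  have hcube : ∀ i, μ i ^ 3 = (r i : ℂ) - (s i : ℂ) * Complex.I := by
    intro i
    rw [hrs i]
    rcases hcases i with ⟨hr | hr, hs⟩ | ⟨hr, hs | hs⟩ <;> rw [hr, hs] <;> push_cast <;>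
      ring_nf <;> simp [hI3]
  have hsq : ∀ i, μ i ^ 2 = 1 - 2 * ((s i : ℂ)) ^ 2 := by
    intro i
    rw [hrs i]
    rcases hcases i with ⟨hr | hr, hs⟩ | ⟨hr, hs | hs⟩ <;> rw [hr, hs] <;> push_cast <;>
      ring_nf <;> simp [hI]
  -- the imaginary parts cancel
  have hs0 : ∑ i, s i = 0 := by
    have h1 : ∑ i, μ i - ∑ i, μ i ^ 3 = 0 := by rw [hreal]; ring
    rw [← Finset.sum_sub_distrib] at h1
    have h2 : ∀ i, μ i - μ i ^ 3 = 2 * Complex.I * ((s i : ℤ) : ℂ) := by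
      intro i
      rw [hcube i]
      nth_rewrite 1 [hrs i]
      ring
    simp_rw [h2] at h1
    rw [← Finset.mul_sum] at h1
    have h3 : (2 * Complex.I : ℂ) ≠ 0 := by
      simp [Complex.I_ne_zero]
    have h4 := (mul_eq_zero.mp h1).resolve_left h3
    have h5 : ((∑ i, s i : ℤ) : ℂ) = 0 := by
      rw [Int.cast_sum]; exact h4
    exact_mod_cast h5
  have hsval : ∀ i, s i = 0 ∨ s i = 1 ∨ s i = -1 := by
    intro i
    rcases hcases i with ⟨_, hs⟩ | ⟨_, hs | hs⟩
    · left; exact hs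
    · right; left; exact hs
    · right; right; exact hs
  have hssq : ∀ i, (s i) ^ 2 = s i + 2 * (if s i = -1 then 1 else 0) := by
    intro i
    rcases hsval i with h | h | h <;> rw [h] <;> norm_num
  refine ⟨∑ i, r i, (Finset.univ.filter (fun i => s i = -1)).card, ?_, ?_⟩
  · have h1 : ∑ i, μ i = ∑ i, ((r i : ℂ) + (s i : ℂ) * Complex.I) :=
      Finset.sum_congr rfl (fun i _ => hrs i)
    rw [h1, Finset.sum_add_distrib, ← Finset.sum_mul, Int.cast_sum]
    have : ∑ i, ((s i : ℤ) : ℂ) = 0 := by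
      rw [← Int.cast_sum, hs0, Int.cast_zero]
    rw [this, zero_mul, add_zero]
  · have h1 : ∑ i, μ i ^ 2 = ∑ i, ((1 : ℂ) - 2 * ((s i : ℂ)) ^ 2) :=
      Finset.sum_congr rfl (fun i _ => hsq i)
    rw [h1, Finset.sum_sub_distrib, Finset.sum_const, Finset.card_univ, nsmul_eq_mul, mul_one,
      ← Finset.mul_sum]
    have h2 : ∑ i, (s i) ^ 2 = 2 * ((Finset.univ.filter (fun i => s i = -1)).card : ℤ) := by
      rw [Finset.sum_congr rfl (fun i _ => hssq i), Finset.sum_add_distrib, hs0, zero_add,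
        ← Finset.mul_sum, Finset.sum_ite, Finset.sum_const_zero, add_zero, Finset.sum_const,
        nsmul_eq_mul, mul_one]
    have h3 : ∑ i, ((s i : ℂ)) ^ 2 =
        2 * ((Finset.univ.filter (fun i => s i = -1)).card : ℂ) := by
      have := congrArg (fun z : ℤ => (z : ℂ)) h2
      push_cast at this
      exact this
    rw [h3]
    ring

variable {G : Type*} [Group G] [Finite G]

/-- values of a character at an element of order four conjugate to its inverse -/
theorem char_order_four {χ : G → ℂ} (hχ : Cfsg.IsCharacter G χ) (a : G) (ha : orderOf a = 4)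
    (hinv : χ a⁻¹ = χ a) :
    ∃ (x : ℤ) (n : ℕ), χ a = (x : ℂ) ∧ χ 1 - χ (a ^ 2) = 4 * (n : ℂ) := by
  obtain ⟨k, ρ, rfl⟩ := hχ
  obtain ⟨ι, hι, b, μ, h1, h2, hcard⟩ := exists_eigenbasis_rep ρ a
  rw [ha] at h2
  have hpow : ∀ j : ℕ, ρ.character (a ^ j) = ∑ i, μ i ^ j := by
    intro j
    unfold Representation.character
    exact trace_eq_sum_of_eigenbasis b (ρ (a ^ j)) (fun i => μ i ^ j) (eigen_pow ρ a b μ h1 j)
  have ha4 : a ^ 4 = 1 := by rw [← ha]; exact pow_orderOf_eq_one a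
  have hainv : a⁻¹ = a ^ 3 := by
    apply inv_eq_of_mul_eq_one_right
    rw [← pow_succ', ha4]
  have e1 : ρ.character a = ∑ i, μ i := by
    have := hpow 1
    simpa using this
  have e3 : ρ.character a⁻¹ = ∑ i, μ i ^ 3 := by rw [hainv]; exact hpow 3
  have e0 : ρ.character 1 = (Fintype.card ι : ℂ) := by
    have := hpow 0
    simpa using this
  obtain ⟨x, n, hx, hn⟩ := sum_fourth_roots μ h2 (by rw [← e1, ← e3, hinv])
  refine ⟨x, n, by rw [e1, hx], ?_⟩
  rw [e0, hpow 2, hn]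

end Cfsg.Agent.Helper4.BSQ8
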