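import Mathlib
import Cfsg.Prelude.Def_Solvable
import Cfsg.Agent.Helper2.BSuzF
import Cfsg.Agent.S0950

/-!
# Group theory for the Brauer-Suzuki theorem with quaternion Sylow 2-subgroups of order 8
-/

set_option autoImplicit false

namespace Cfsg.Agent.Helper4.BSQ8

open scoped Pointwise

set_option maxRecDepth 100000 in
theorem q8_comm : ∀ u v : QuaternionGroup 2, u ^ 2 ≠ 1 → u * v = v * u →
    v = 1 ∨ v = u ∨ v = u ^ 2 ∨ v = u ^ 3 := by decide

set_option maxRecDepth 100000 in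
theorem q8_conj_inv : ∀ u : QuaternionGroup 2, ∃ w : QuaternionGroup 2, w * u * w⁻¹ = u⁻¹ := by
  decide

set_option maxRecDepth 100000 in
theorem q8_gen : ∀ u v w : QuaternionGroup 2, u ^ 2 ≠ 1 → v ^ 2 ≠ 1 → v ≠ u → v ≠ u⁻¹ →
    w = 1 ∨ w = u ∨ w = u ^ 2 ∨ w = u⁻¹ ∨ w = v ∨ w = v⁻¹ ∨ w = u * v ∨ w = v * u := by decide

set_option maxRecDepth 100000 in
theorem q8_sq' : ∀ u : QuaternionGroup 2, u ^ 2 = 1 → u = 1 ∨ u = QuaternionGroup.a 2 := by
  decide

set_option maxRecDepth 100000 in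
theorem q8_sq_of_sq_ne : ∀ u : QuaternionGroup 2, u ^ 2 ≠ 1 → u ^ 2 = QuaternionGroup.a 2 := by
  decide

set_option maxRecDepth 100000 in
theorem q8_pow_four : ∀ u : QuaternionGroup 2, u ^ 4 = 1 := by decide

/-- a proper subgroup of the quaternion group of order 8 is cyclic -/
theorem q8_proper_cyclic (H : Subgroup (QuaternionGroup 2)) (hH : H ≠ ⊤) : IsCyclic H := by
  by_cases h4 : ∃ u ∈ H, u ^ 2 ≠ 1
  · obtain ⟨u, huH, hu⟩ := h4
    have hall : ∀ w ∈ H, w ∈ Subgroup.zpowers u := by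
      intro w hw
      by_cases hw2 : w ^ 2 = 1
      · rcases q8_sq' w hw2 with h | h
        · rw [h]; exact Subgroup.one_mem _
        · rw [h, ← q8_sq_of_sq_ne u hu]
          exact Subgroup.pow_mem _ (Subgroup.mem_zpowers u) 2
      · by_cases h1 : w = u
        · rw [h1]; exact Subgroup.mem_zpowers u
        by_cases h2 : w = u⁻¹
        · rw [h2]; exact Subgroup.inv_mem _ (Subgroup.mem_zpowers u)
        exfalso
        apply hH
        rw [eq_top_iff]
        intro y _
        rcases q8_gen u w y hu hw2 h1 h2 with h | h | h | h | h | h | h | h <;> rw [h]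
        · exact Subgroup.one_mem _
        · exact huH
        · exact Subgroup.pow_mem _ huH 2
        · exact Subgroup.inv_mem _ huH
        · exact hw
        · exact Subgroup.inv_mem _ hw
        · exact Subgroup.mul_mem _ huH hw
        · exact Subgroup.mul_mem _ hw huH
    refine ⟨⟨⟨u, huH⟩, fun w => ?_⟩⟩
    obtain ⟨k, hk⟩ := Subgroup.mem_zpowers_iff.mp (hall w w.2)
    refine Subgroup.mem_zpowers_iff.mpr ⟨k, Subtype.ext ?_⟩
    rw [Subgroup.coe_zpow]
    exact hk
  · push Not at h4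
    by_cases ha : QuaternionGroup.a 2 ∈ H
    · refine ⟨⟨⟨QuaternionGroup.a 2, ha⟩, fun w => ?_⟩⟩
      rcases q8_sq' w (h4 w w.2) with h | h
      · refine Subgroup.mem_zpowers_iff.mpr ⟨0, Subtype.ext ?_⟩
        rw [zpow_zero, h]; rfl
      · refine Subgroup.mem_zpowers_iff.mpr ⟨1, Subtype.ext ?_⟩
        rw [zpow_one, h]
    · refine ⟨⟨1, fun w => ?_⟩⟩
      rcases q8_sq' w (h4 w w.2) with h | h
      · refine Subgroup.mem_zpowers_iff.mpr ⟨0, Subtype.ext ?_⟩
        rw [zpow_zero, h]; rfl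
      · exfalso; apply ha; rw [← h]; exact w.2

/-- a proper subgroup of a group isomorphic to the quaternion group of order 8 is cyclic -/
theorem proper_cyclic {Q : Type*} [Group Q] (e : Q ≃* QuaternionGroup 2) (H : Subgroup Q)
    (hH : H ≠ ⊤) : IsCyclic H := by
  have h1 : H.map e.toMonoidHom ≠ ⊤ := by
    intro h
    apply hH
    rw [eq_top_iff]
    intro y _
    have : e y ∈ H.map e.toMonoidHom := by rw [h]; exact Subgroup.mem_top _
    obtain ⟨z, hz, hzy⟩ := this
    have : z = y := e.injective hzy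
    rwa [← this]
  haveI := q8_proper_cyclic _ h1
  exact isCyclic_of_surjective (H.equivMapOfInjective e.toMonoidHom e.injective).symm.toMonoidHom
    (H.equivMapOfInjective e.toMonoidHom e.injective).symm.surjective


section Syl

variable {G : Type*} [Group G]

theorem sylow_pow_four (S : Sylow 2 G) (e : (S : Subgroup G) ≃* QuaternionGroup 2) (s : G)
    (hs : s ∈ (S : Subgroup G)) : s ^ 4 = 1 := by
  have h := q8_pow_four (e ⟨s, hs⟩)
  rw [← map_pow, ← map_one e] at h
  exact congrArg Subtype.val (e.injective h)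

/-- elements of the Sylow subgroup commuting with an element of order four -/
theorem sylow_comm (S : Sylow 2 G) (e : (S : Subgroup G) ≃* QuaternionGroup 2) (a y : G)
    (ha : a ∈ (S : Subgroup G)) (hy : y ∈ (S : Subgroup G)) (ha2 : a ^ 2 ≠ 1)
    (hc : a * y = y * a) : y ∈ Subgroup.zpowers a := by
  have h1 : (e ⟨a, ha⟩) ^ 2 ≠ 1 := by
    intro h
    apply ha2
    rw [← map_pow, ← map_one e] at h
    exact congrArg Subtype.val (e.injective h)
  have h2 : e ⟨a, ha⟩ * e ⟨y, hy⟩ = e ⟨y, hy⟩ * e ⟨a, ha⟩ := by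
    rw [← map_mul, ← map_mul]
    congr 1
    exact Subtype.ext hc
  have key : ∀ k : ℕ, e ⟨y, hy⟩ = (e ⟨a, ha⟩) ^ k → y ∈ Subgroup.zpowers a := by
    intro k h
    rw [← map_pow] at h
    have h3 : y = a ^ k := congrArg Subtype.val (e.injective h)
    rw [h3]
    exact Subgroup.pow_mem _ (Subgroup.mem_zpowers a) k
  rcases q8_comm _ _ h1 h2 with h | h | h | h
  · exact key 0 (by rw [pow_zero]; exact h)
  · exact key 1 (by rw [pow_one]; exact h)
  · exact key 2 h
  · exact key 3 h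

/-- every element of the Sylow subgroup is inverted by some element of it -/
theorem sylow_conj_inv (S : Sylow 2 G) (e : (S : Subgroup G) ≃* QuaternionGroup 2) (a : G)
    (ha : a ∈ (S : Subgroup G)) : ∃ w ∈ (S : Subgroup G), w * a * w⁻¹ = a⁻¹ := by
  obtain ⟨w', hw'⟩ := q8_conj_inv (e ⟨a, ha⟩)
  refine ⟨(e.symm w' : (S : Subgroup G)), (e.symm w').2, ?_⟩
  have h1 : e (e.symm w' * ⟨a, ha⟩ * (e.symm w')⁻¹) = e (⟨a, ha⟩⁻¹) := by
    rw [map_mul, map_mul, map_inv, map_inv, e.apply_symm_apply]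
    exact hw'
  exact congrArg Subtype.val (e.injective h1)

variable [Finite G]

/-- the square of an element of order four is the involution -/
theorem sq_eq_invol (S : Sylow 2 G) (x : G)
    (huniq : ∀ t ∈ (S : Subgroup G), orderOf t = 2 → t = x) (a : G) (ha : a ∈ (S : Subgroup G))
    (ha4 : orderOf a = 4) : a ^ 2 = x := by
  apply huniq _ (Subgroup.pow_mem _ ha 2)
  rw [orderOf_pow_of_dvd (by norm_num) (by rw [ha4]; norm_num), ha4]

/-- the elements of the Sylow subgroup other than `1` and the involution have order four -/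
theorem orderOf_eq_four (S : Sylow 2 G) (e : (S : Subgroup G) ≃* QuaternionGroup 2) (x : G)
    (huniq : ∀ t ∈ (S : Subgroup G), orderOf t = 2 → t = x) (s : G) (hs : s ∈ (S : Subgroup G))
    (hs1 : s ≠ 1) (hsx : s ≠ x) : orderOf s = 4 := by
  have h4 := orderOf_dvd_of_pow_eq_one (sylow_pow_four S e s hs)
  have h4' : orderOf s ∣ 2 ^ 2 := by norm_num; exact h4
  obtain ⟨k, hk, hk2⟩ := (Nat.dvd_prime_pow Nat.prime_two).mp h4'
  interval_cases k
  · exfalso; apply hs1
    rw [pow_zero] at hk2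
    exact orderOf_eq_one_iff.mp hk2
  · exfalso; apply hsx
    rw [pow_one] at hk2
    exact huniq s hs hk2
  · rw [hk2]; norm_num

/-- two commuting involutions are equal -/
theorem invol_eq_of_commute (S : Sylow 2 G) (x : G)
    (huniq : ∀ t ∈ (S : Subgroup G), orderOf t = 2 → t = x) (u v : G) (hu : orderOf u = 2)
    (hv : orderOf v = 2) (hc : Commute u v) : u = v := by
  haveI : Fact (Nat.Prime 2) := ⟨Nat.prime_two⟩
  have hpu : IsPGroup 2 (Subgroup.zpowers u) :=
    IsPGroup.of_card (n := 1) (by rw [Nat.card_zpowers, hu, pow_one])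
  have hpv : IsPGroup 2 (Subgroup.zpowers v) :=
    IsPGroup.of_card (n := 1) (by rw [Nat.card_zpowers, hv, pow_one])
  have hle : Subgroup.zpowers u ≤ Subgroup.normalizer ((Subgroup.zpowers v : Subgroup G) : Set G) := by
    refine le_trans ?_ (Subgroup.centralizer_le_normalizer _)
    rw [Subgroup.zpowers_le, Subgroup.mem_centralizer_iff]
    intro h hh
    obtain ⟨i, rfl⟩ := Subgroup.mem_zpowers_iff.mp hh
    exact (hc.symm.zpow_left i).eq
  have hp := IsPGroup.to_sup_of_normal_right' hpu hpv hle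
  obtain ⟨P, hP⟩ := hp.exists_le_sylow
  obtain ⟨g, hg⟩ := MulAction.exists_smul_eq G S P
  have hPS : (P : Subgroup G) = MulAut.conj g • (S : Subgroup G) := by
    rw [← hg]; exact Sylow.coe_subgroup_smul
  have key : ∀ w : G, orderOf w = 2 → w ∈ (P : Subgroup G) → w = g * x * g⁻¹ := by
    intro w hw hwP
    rw [hPS, Cfsg.Agent.Helper2.BSuzC.mem_conj_smul_iff] at hwP
    have h2 : orderOf (g⁻¹ * w * g) = 2 := by
      have : g⁻¹ * w * g = MulAut.conj g⁻¹ w := by simp [MulAut.conj_apply]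
      rw [this, MulEquiv.orderOf_eq, hw]
    have h3 := huniq _ hwP h2
    rw [← h3]; group
  rw [key u hu (hP (le_sup_left (a := Subgroup.zpowers u) (Subgroup.mem_zpowers u))),
    key v hv (hP (le_sup_right (b := Subgroup.zpowers v) (Subgroup.mem_zpowers v)))]

/-- the product of two involutions has odd order -/
theorem odd_orderOf_mul_invol (S : Sylow 2 G) (x : G)
    (huniq : ∀ t ∈ (S : Subgroup G), orderOf t = 2 → t = x) (s₁ s₂ : G) (h₁ : orderOf s₁ = 2)
    (h₂ : orderOf s₂ = 2) : Odd (orderOf (s₁ * s₂)) := by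
  by_contra hodd
  have heven : Even (orderOf (s₁ * s₂)) := Nat.not_odd_iff_even.mp hodd
  obtain ⟨m, hm⟩ := heven
  have hm' : orderOf (s₁ * s₂) = 2 * m := by rw [hm]; ring
  have hpos : 0 < orderOf (s₁ * s₂) := orderOf_pos _
  have hm0 : m ≠ 0 := by omega
  have hsq₁ : s₁ * s₁ = 1 := by
    have := pow_orderOf_eq_one s₁
    rwa [h₁, pow_two] at this
  have hsq₂ : s₂ * s₂ = 1 := by
    have := pow_orderOf_eq_one s₂
    rwa [h₂, pow_two] at this
  have hinv₁ : s₁⁻¹ = s₁ := inv_eq_of_mul_eq_one_right hsq₁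
  have hinv₂ : s₂⁻¹ = s₂ := inv_eq_of_mul_eq_one_right hsq₂
  set r := s₁ * s₂ with hr
  set z := r ^ m with hz
  have hz2 : orderOf z = 2 := by
    rw [hz, orderOf_pow_of_dvd hm0 ⟨2, by rw [hm']; ring⟩, hm']
    exact Nat.mul_div_cancel _ (Nat.pos_of_ne_zero hm0)
  have hzz : z * z = 1 := by
    have := pow_orderOf_eq_one z
    rwa [hz2, pow_two] at this
  have hzinv : z⁻¹ = z := inv_eq_of_mul_eq_one_right hzz
  have hrinv : r⁻¹ = s₂ * s₁ := by
    rw [hr, mul_inv_rev, hinv₁, hinv₂]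
  have hc₁ : s₁ * r * s₁⁻¹ = r⁻¹ := by
    rw [hrinv, hr, hinv₁]
    calc s₁ * (s₁ * s₂) * s₁ = (s₁ * s₁) * s₂ * s₁ := by group
      _ = s₂ * s₁ := by rw [hsq₁, one_mul]
  have hc₂ : s₂ * r * s₂⁻¹ = r⁻¹ := by
    rw [hrinv, hr, hinv₂]
    calc s₂ * (s₁ * s₂) * s₂ = s₂ * s₁ * (s₂ * s₂) := by group
      _ = s₂ * s₁ := by rw [hsq₂, mul_one]
  have hconj : ∀ s : G, s * r * s⁻¹ = r⁻¹ → Commute s z := by
    intro s hs
    have h1 : s * z * s⁻¹ = z := by
      have : s * r ^ m * s⁻¹ = (s * r * s⁻¹) ^ m := by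
        rw [conj_pow]
      rw [hz, this, hs, inv_pow, ← hz, hzinv]
    have h2 : s * z = z * s := by
      calc s * z = s * z * s⁻¹ * s := by group
        _ = z * s := by rw [h1]
    exact h2
  have e₁ := invol_eq_of_commute S x huniq s₁ z h₁ hz2 (hconj s₁ hc₁)
  have e₂ := invol_eq_of_commute S x huniq s₂ z h₂ hz2 (hconj s₂ hc₂)
  have hr1 : r = 1 := by
    rw [hr, e₁, e₂]; exact hzz
  rw [hr1, orderOf_one] at hm'
  omega


/-- every Sylow 2-subgroup is a quaternion group of order 8 -/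
theorem sylow_equiv (S P : Sylow 2 G) (e : (S : Subgroup G) ≃* QuaternionGroup 2) :
    Nonempty ((P : Subgroup G) ≃* QuaternionGroup 2) := by
  haveI : Fact (Nat.Prime 2) := ⟨Nat.prime_two⟩
  obtain ⟨g, hg⟩ := MulAction.exists_smul_eq G S P
  rw [← hg]
  exact ⟨(Sylow.equivSMul S g).symm.trans e⟩

/-- elements of order four of the Sylow subgroup are conjugate when there is no normal
complement -/
theorem isConj_of_order_four (S : Sylow 2 G) (e : (S : Subgroup G) ≃* QuaternionGroup 2)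
    (hnc : ∀ N : Subgroup G, N.Normal → ¬ Subgroup.IsComplement' N (S : Subgroup G))
    (a b : G) (ha : a ∈ (S : Subgroup G)) (hb : b ∈ (S : Subgroup G)) (ha4 : orderOf a = 4)
    (hb4 : orderOf b = 4) : IsConj a b := by
  obtain ⟨n, -, hB⟩ := Cfsg.Agent.S0950.result S e hnc (Subgroup.zpowers a) (Subgroup.zpowers b)
    (Subgroup.zpowers_le.mpr ha) (Subgroup.zpowers_le.mpr hb)
    (by rw [Nat.card_zpowers, ha4]) (by rw [Nat.card_zpowers, hb4])
  have hb' : b ∈ (Subgroup.zpowers a).map (MulAut.conj n).toMonoidHom := by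
    rw [← hB]; exact Subgroup.mem_zpowers b
  obtain ⟨c, hc, hcb⟩ := hb'
  obtain ⟨i, rfl⟩ := Subgroup.mem_zpowers_iff.mp hc
  have hcb' : n * a ^ i * n⁻¹ = b := by simpa [MulAut.conj_apply] using hcb
  have hord : orderOf (a ^ i) = 4 := by
    have : n * a ^ i * n⁻¹ = MulAut.conj n (a ^ i) := by simp [MulAut.conj_apply]
    rw [← hb4, ← hcb', this, MulEquiv.orderOf_eq]
  have h4 : a ^ i = a ^ (i % 4) := by
    have := (zpow_mod_orderOf a i).symm
    rw [ha4] at this
    exact_mod_cast this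
  have hi0 : 0 ≤ i % 4 := Int.emod_nonneg _ (by norm_num)
  have hi4 : i % 4 < 4 := Int.emod_lt_of_pos _ (by norm_num)
  have ha44 : a ^ 4 = 1 := by rw [← ha4]; exact pow_orderOf_eq_one a
  have hcases : i % 4 = 0 ∨ i % 4 = 1 ∨ i % 4 = 2 ∨ i % 4 = 3 := by omega
  rcases hcases with h | h | h | h
  · exfalso
    rw [h4, h, zpow_zero, orderOf_one] at hord
    omega
  · rw [h4, h, zpow_one] at hcb'
    exact isConj_iff.mpr ⟨n, hcb'⟩
  · exfalso
    rw [h4, h] at hord
    have h2 : orderOf (a ^ (2 : ℤ)) = 2 := by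
      have : a ^ (2 : ℤ) = a ^ 2 := by exact_mod_cast zpow_natCast a 2
      rw [this, orderOf_pow_of_dvd (by norm_num) (by rw [ha4]; norm_num), ha4]
    rw [h2] at hord
    omega
  · obtain ⟨w, -, hw⟩ := sylow_conj_inv S e a ha
    have h3 : a ^ (3 : ℤ) = a⁻¹ := by
      have : a ^ (3 : ℤ) = a ^ 3 := by exact_mod_cast zpow_natCast a 3
      rw [this]
      symm
      apply inv_eq_of_mul_eq_one_right
      rw [← pow_succ', ha44]
    rw [h4, h, h3, ← hw] at hcb'
    refine isConj_iff.mpr ⟨n * w, ?_⟩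
    rw [← hcb']
    group

/-- the centralizer of an element of order four has a normal 2-complement of index four -/
theorem index_pPrimeCore_centralizer (S : Sylow 2 G)
    (e : (S : Subgroup G) ≃* QuaternionGroup 2) (a : G) (ha4 : orderOf a = 4) :
    (∃ k : ℕ, (Cfsg.pPrimeCore 2 (Subgroup.centralizer ({a} : Set G))).index = 2 ^ k) ∧
      (Nat.card (Subgroup.centralizer ({a} : Set G))).factorization 2 = 2 := by
  haveI : Fact (Nat.Prime 2) := ⟨Nat.prime_two⟩
  have haC : a ∈ Subgroup.centralizer ({a} : Set G) := by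
    rw [Subgroup.mem_centralizer_singleton_iff]
  have ha2 : a ^ 2 ≠ 1 := by
    intro h
    have := orderOf_dvd_of_pow_eq_one h
    rw [ha4] at this
    omega
  obtain ⟨aC, haCdef⟩ : ∃ aC : Subgroup.centralizer ({a} : Set G), aC = ⟨a, haC⟩ := ⟨_, rfl⟩
  have haCord : orderOf aC = 4 := by
    rw [← Subgroup.orderOf_coe, haCdef]; exact ha4
  have hp : IsPGroup 2 (Subgroup.zpowers aC) :=
    IsPGroup.of_card (n := 2) (by rw [Nat.card_zpowers, haCord]; norm_num)
  obtain ⟨Q, hQ⟩ := hp.exists_le_sylow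
  have hQ2 : IsPGroup 2 ((Q : Subgroup (Subgroup.centralizer ({a} : Set G))).map
      (Subgroup.centralizer ({a} : Set G)).subtype) := Q.2.map _
  obtain ⟨P, hP⟩ := hQ2.exists_le_sylow
  obtain ⟨eP⟩ := sylow_equiv S P e
  have haP : a ∈ (P : Subgroup G) := by
    apply hP
    refine ⟨aC, hQ (Subgroup.mem_zpowers aC), ?_⟩
    rw [haCdef]; rfl
  have hQa : ∀ q ∈ (Q : Subgroup (Subgroup.centralizer ({a} : Set G))),
      (q : G) ∈ Subgroup.zpowers a := by
    intro q hq
    have hqP : (q : G) ∈ (P : Subgroup G) := hP ⟨q, hq, rfl⟩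
    have hqc := q.2
    rw [Subgroup.mem_centralizer_singleton_iff] at hqc
    exact sylow_comm P eP a q haP hqP ha2 hqc.symm
  have hNC : Subgroup.normalizer (Q : Set (Subgroup.centralizer ({a} : Set G))) ≤
      Subgroup.centralizer (Q : Set (Subgroup.centralizer ({a} : Set G))) := by
    intro g _
    rw [Subgroup.mem_centralizer_iff]
    intro q hq
    obtain ⟨i, hi⟩ := Subgroup.mem_zpowers_iff.mp (hQa q hq)
    have hgc := g.2
    rw [Subgroup.mem_centralizer_singleton_iff] at hgc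
    have hcomm : Commute a (g : G) := hgc.symm
    apply Subtype.ext
    simp only [Subgroup.coe_mul]
    rw [← hi]
    exact (hcomm.zpow_left i).eq
  have hQeq : (Q : Subgroup (Subgroup.centralizer ({a} : Set G))) = Subgroup.zpowers aC := by
    apply le_antisymm _ hQ
    intro q hq
    obtain ⟨i, hi⟩ := Subgroup.mem_zpowers_iff.mp (hQa q hq)
    refine Subgroup.mem_zpowers_iff.mpr ⟨i, Subtype.ext ?_⟩
    rw [Subgroup.coe_zpow, haCdef]
    exact hi
  have hcard4 : Nat.card (Q : Subgroup (Subgroup.centralizer ({a} : Set G))) = 4 := by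
    rw [hQeq, Nat.card_zpowers, haCord]
  have hcompl := MonoidHom.ker_transferSylow_isComplement' Q hNC
  have hnd := MonoidHom.not_dvd_card_ker_transferSylow Q hNC
  have hidx : (MonoidHom.transferSylow Q hNC).ker.index =
      Nat.card (Q : Subgroup (Subgroup.centralizer ({a} : Set G))) :=
    hcompl.symm.index_eq_card
  have hle : (MonoidHom.transferSylow Q hNC).ker ≤
      Cfsg.pPrimeCore 2 (Subgroup.centralizer ({a} : Set G)) := by
    apply le_sSup
    refine ⟨inferInstance, ?_⟩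
    rw [Nat.coprime_comm, Nat.Prime.coprime_iff_not_dvd Nat.prime_two]
    exact hnd
  constructor
  · have hdvd := Subgroup.index_dvd_of_le hle
    rw [hidx, hcard4] at hdvd
    have h4 : (4 : ℕ) = 2 ^ 2 := by norm_num
    rw [h4] at hdvd
    obtain ⟨k, -, hk⟩ := (Nat.dvd_prime_pow Nat.prime_two).mp hdvd
    exact ⟨k, hk⟩
  · have h1 := Sylow.card_eq_multiplicity Q
    rw [hcard4] at h1
    have h4 : (4 : ℕ) = 2 ^ 2 := by norm_num
    rw [h4] at h1
    exact (Nat.pow_right_injective (le_refl 2) h1).symm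

end Syl

end Cfsg.Agent.Helper4.BSQ8
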