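import Mathlib
import Cfsg.Prelude.Def_Characters
import Cfsg.Prelude.Def_Blocks
import Cfsg.Agent.Helper6.KleinFourB
import Cfsg.Agent.Helper6.KleinFourC
import Cfsg.Agent.Helper6.WeakOrth
import Cfsg.Agent.Helper6.BrauerAppD
import Cfsg.Agent.Helper6.PrincipalSection3
import Cfsg.Agent.Helper6.PowCongr
import Cfsg.Agent.Helper2.BSuzL
import Cfsg.Agent.Helper4.BSQ8Arith
import Cfsg.Agent.Helper4.BSQ8Eigen
import Cfsg.Agent.Helper4.BSQ8Grp

/-!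
# The character theory of the Brauer-Suzuki theorem for quaternion Sylow 2-subgroups of order 8
-/

set_option autoImplicit false
set_option linter.style.haveILetI false

namespace Cfsg.Agent.Helper4.BSQ8

open Cfsg.Agent.Helper6 Module
open scoped ComplexConjugate

universe u

variable {G : Type u} [Group G]

/-- the sum of a character over a quaternion Sylow 2-subgroup with one class of elements of
order four -/
theorem char_sum_sylow [Finite G] (S : Sylow 2 G) (e : (S : Subgroup G) ≃* QuaternionGroup 2)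
    (x : G) (hxS : x ∈ (S : Subgroup G)) (hx2 : orderOf x = 2)
    (huniq : ∀ t ∈ (S : Subgroup G), orderOf t = 2 → t = x) (a : G)
    (hconj4 : ∀ s ∈ (S : Subgroup G), orderOf s = 4 → IsConj a s) {χ : G → ℂ}
    (hχ : Cfsg.IsCharacter G χ) : ∃ m : ℕ, χ 1 + χ x + 6 * χ a = 8 * (m : ℂ) := by
  classical
  haveI : Fintype (S : Subgroup G) := Fintype.ofFinite _
  have hres : Cfsg.IsCharacter (S : Subgroup G) (fun s : (S : Subgroup G) => χ s) :=
    IsCharacter.restrict (S : Subgroup G) hχ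
  obtain ⟨m, hm⟩ := classInner_char_char_nat hres (isCharacter_one (G := (S : Subgroup G)))
  refine ⟨m, ?_⟩
  unfold Cfsg.classInner at hm
  have hcard : Nat.card (S : Subgroup G) = 8 := by
    rw [Nat.card_congr e.toEquiv, Nat.card_eq_fintype_card, QuaternionGroup.card]
  have hx1 : x ≠ 1 := by
    intro h; rw [h, orderOf_one] at hx2; omega
  have hsum : ∑ s : (S : Subgroup G), χ s * conj (1 : ℂ) = χ 1 + χ x + 6 * χ a := by
    rw [← Finset.add_sum_erase Finset.univ _ (Finset.mem_univ (1 : (S : Subgroup G)))]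
    have hxmem : (⟨x, hxS⟩ : (S : Subgroup G)) ∈ (Finset.univ : Finset (S : Subgroup G)).erase 1 := by
      rw [Finset.mem_erase]
      refine ⟨?_, Finset.mem_univ _⟩
      intro h
      exact hx1 (congrArg Subtype.val h)
    rw [← Finset.add_sum_erase _ _ hxmem]
    have h1 : ∀ s ∈ ((Finset.univ : Finset (S : Subgroup G)).erase 1).erase ⟨x, hxS⟩,
        χ s * conj (1 : ℂ) = χ a := by
      intro s hs
      rw [map_one, mul_one]
      obtain ⟨hsx, hs'⟩ := Finset.mem_erase.mp hs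
      have hs1 := (Finset.mem_erase.mp hs').1
      have hs1' : (s : G) ≠ 1 := fun h => hs1 (Subtype.ext h)
      have hsx' : (s : G) ≠ x := fun h => hsx (Subtype.ext h)
      have h4 := orderOf_eq_four S e x huniq s s.2 hs1' hsx'
      exact (IsClassFunction.eq_of_isConj (IsCharacter.isClassFunction hχ)
        (hconj4 s s.2 h4)).symm
    rw [Finset.sum_congr rfl h1, Finset.sum_const, Finset.card_erase_of_mem hxmem,
      Finset.card_erase_of_mem (Finset.mem_univ _), Finset.card_univ,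
      ← Nat.card_eq_fintype_card, hcard, map_one, mul_one, mul_one, Subgroup.coe_one]
    simp only [nsmul_eq_mul]
    norm_num
    ring
  rw [hsum, hcard] at hm
  have h8 : ((8 : ℕ) : ℂ) ≠ 0 := by norm_num
  field_simp at hm
  push_cast at hm
  linear_combination hm


/-- **the character-theoretic core**: a proper normal subgroup containing the involution -/
theorem exists_proper_normal [Finite G] (S : Sylow 2 G)
    (e : (S : Subgroup G) ≃* QuaternionGroup 2)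
    (x : G) (hxS : x ∈ (S : Subgroup G)) (hx2 : orderOf x = 2)
    (huniq : ∀ t ∈ (S : Subgroup G), orderOf t = 2 → t = x) (a : G)
    (haS : a ∈ (S : Subgroup G)) (ha4 : orderOf a = 4)
    (hconj4 : ∀ s ∈ (S : Subgroup G), orderOf s = 4 → IsConj a s) :
    ∃ N : Subgroup G, N.Normal ∧ N ≠ ⊤ ∧ x ∈ N := by
  classical
  haveI : Fact (Nat.Prime 2) := ⟨Nat.prime_two⟩
  haveI := Fintype.ofFinite G
  haveI : Finite (Cfsg.IrrCharacter G) := irr_finite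
  haveI : Fintype (Cfsg.IrrCharacter G) := Fintype.ofFinite _
  obtain ⟨M, hM⟩ := exists_isPModular 2 Nat.prime_two
  have hMm := hM.2.1
  obtain ⟨triv, htriv⟩ : ∃ t : Cfsg.IrrCharacter G, t = ⟨fun _ => 1, isIrrCharacter_one⟩ :=
    ⟨_, rfl⟩
  have htrivf : (triv : G → ℂ) = fun _ => 1 := by rw [htriv]
  have hB : Cfsg.IsPBlock M (Cfsg.principalBlock M G) := ⟨triv, by rw [htrivf]; rfl⟩
  have htrivB : triv ∈ Cfsg.principalBlock M G := by
    have := mem_blockOf_self hMm triv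
    rw [htrivf] at this
    exact this
  have hax : a ^ 2 = x := sq_eq_invol S x huniq a haS ha4
  have hainv : IsConj a a⁻¹ :=
    hconj4 a⁻¹ (Subgroup.inv_mem _ haS) (by rw [orderOf_inv]; exact ha4)
  have hchar : ∀ ζ : Cfsg.IrrCharacter G, ∃ (v : ℤ) (n : ℕ), (ζ : G → ℂ) a = (v : ℂ) ∧
      (ζ : G → ℂ) 1 - (ζ : G → ℂ) x = 4 * (n : ℂ) := by
    intro ζ
    have hζ := IsIrrCharacter.isCharacter ζ.2
    have hinv : (ζ : G → ℂ) a⁻¹ = (ζ : G → ℂ) a :=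
      (IsClassFunction.eq_of_isConj (IsCharacter.isClassFunction hζ) hainv).symm
    obtain ⟨v, n, h1, h2⟩ := char_order_four hζ a ha4 hinv
    rw [hax] at h2
    exact ⟨v, n, h1, h2⟩
  choose v n hv hn using hchar
  have hvtriv : v triv = 1 := by
    have h := hv triv
    rw [htrivf] at h
    have h' : ((v triv : ℤ) : ℂ) = ((1 : ℤ) : ℂ) := by
      rw [← h]
      simp
    exact_mod_cast h'
  -- the sum of squares
  obtain ⟨hidx, hfac⟩ := index_pPrimeCore_centralizer S e a ha4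
  have h1ord : ¬ 2 ∣ orderOf (1 : Subgroup.centralizer ({a} : Set G)) := by
    rw [orderOf_one]
    norm_num
  have hsq := (principal_section_sq hM a ⟨2, by rw [ha4]; norm_num⟩
    (1 : Subgroup.centralizer ({a} : Set G)) h1ord).2 hidx
  rw [hfac] at hsq
  simp only [Subgroup.coe_one, mul_one] at hsq
  obtain ⟨SB, hSB⟩ : ∃ SB : Finset (Cfsg.IrrCharacter G),
      SB = Finset.univ.filter (fun ζ => ζ ∈ Cfsg.principalBlock M G) := ⟨_, rfl⟩
  have hmemS : ∀ ζ, ζ ∈ SB ↔ ζ ∈ Cfsg.principalBlock M G := by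
    intro ζ
    rw [hSB, Finset.mem_filter]
    exact ⟨fun h => h.2, fun h => ⟨Finset.mem_univ _, h⟩⟩
  have hfinC : ∀ f : Cfsg.IrrCharacter G → ℂ,
      ∑ᶠ ζ ∈ Cfsg.principalBlock M G, f ζ = ∑ ζ ∈ SB, f ζ := by
    intro f
    rw [hSB, Finset.sum_filter, finsum_mem_def, finsum_eq_sum_of_fintype]
    apply Finset.sum_congr rfl
    intro i _
    rw [Set.indicator_apply]
  have hfinR : ∀ f : Cfsg.IrrCharacter G → ℝ,
      ∑ᶠ ζ ∈ Cfsg.principalBlock M G, f ζ = ∑ ζ ∈ SB, f ζ := by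
    intro f
    rw [hSB, Finset.sum_filter, finsum_mem_def, finsum_eq_sum_of_fintype]
    apply Finset.sum_congr rfl
    intro i _
    rw [Set.indicator_apply]
  have hsqZ : ∑ ζ ∈ SB, (v ζ) ^ 2 = 4 := by
    have h2 : ((∑ ζ ∈ SB, (v ζ) ^ 2 : ℤ) : ℝ) = 4 := by
      rw [hfinR] at hsq
      rw [Int.cast_sum]
      have h4 : ((2 ^ 2 : ℕ) : ℝ) = 4 := by norm_num
      rw [← h4, ← hsq]
      apply Finset.sum_congr rfl
      intro ζ _
      rw [hv ζ, Complex.norm_intCast, sq_abs]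
      push_cast
      rfl
    exact_mod_cast h2
  have htm : triv ∈ SB := (hmemS triv).mpr htrivB
  -- the characters not vanishing at `a`
  obtain ⟨T, hT⟩ : ∃ T : Finset (Cfsg.IrrCharacter G),
      T = (SB.erase triv).filter (fun ζ => v ζ ≠ 0) := ⟨_, rfl⟩
  have hT3 : ∑ ζ ∈ T, (v ζ) ^ 2 = 3 := by
    rw [← Finset.add_sum_erase _ _ htm, hvtriv] at hsqZ
    have h1 : ∑ ζ ∈ T, (v ζ) ^ 2 = ∑ ζ ∈ SB.erase triv, (v ζ) ^ 2 := by
      rw [hT]
      apply Finset.sum_filter_of_ne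
      intro ζ _ h
      intro h0
      apply h
      rw [h0]
      norm_num
    rw [h1]
    linarith
  have hTne : ∀ ζ ∈ T, v ζ ≠ 0 := by
    intro ζ hζ
    rw [hT, Finset.mem_filter] at hζ
    exact hζ.2
  have hTsign : ∀ ζ ∈ T, v ζ = 1 ∨ v ζ = -1 := by
    intro ζ hζ
    have hle := Finset.single_le_sum (f := fun ζ => (v ζ) ^ 2) (fun i _ => sq_nonneg (v i)) hζ
    have h5 : (v ζ) ^ 2 ≤ 3 := by
      rw [hT3] at hle
      exact hle
    have h6 := hTne ζ hζ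
    have h7 : -2 < v ζ ∧ v ζ < 2 := by constructor <;> nlinarith
    omega
  have hTcard : T.card = 3 := by
    have h1 : ∑ ζ ∈ T, (v ζ) ^ 2 = ∑ ζ ∈ T, (1 : ℤ) := by
      apply Finset.sum_congr rfl
      intro ζ hζ
      rcases hTsign ζ hζ with h | h <;> rw [h] <;> norm_num
    rw [h1, Finset.sum_const, nsmul_eq_mul, mul_one] at hT3
    exact_mod_cast hT3
  obtain ⟨χ₁, χ₂, χ₃, h12, h13, h23, hTeq⟩ := Finset.card_eq_three.mp hTcard
  have hχ₁T : χ₁ ∈ T := by rw [hTeq]; simp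
  have hχ₂T : χ₂ ∈ T := by rw [hTeq]; simp
  have hχ₃T : χ₃ ∈ T := by rw [hTeq]; simp
  have hχ₁t : χ₁ ≠ triv := by
    rw [hT, Finset.mem_filter, Finset.mem_erase] at hχ₁T
    exact hχ₁T.1.1
  -- expanding sums over the principal block weighted by the values at `a`
  have hexp : ∀ f : Cfsg.IrrCharacter G → ℂ,
      ∑ᶠ ζ ∈ Cfsg.principalBlock M G, f ζ * (v ζ : ℂ) =
        f triv + f χ₁ * (v χ₁ : ℂ) + f χ₂ * (v χ₂ : ℂ) + f χ₃ * (v χ₃ : ℂ) := by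
    intro f
    rw [hfinC, ← Finset.add_sum_erase _ _ htm, hvtriv]
    have h1 : ∑ ζ ∈ SB.erase triv, f ζ * (v ζ : ℂ) = ∑ ζ ∈ T, f ζ * (v ζ : ℂ) := by
      rw [hT]
      symm
      apply Finset.sum_filter_of_ne
      intro ζ _ h
      intro h0
      apply h
      rw [h0]
      simp
    rw [h1, hTeq, Finset.sum_insert (by simp [h12, h13]), Finset.sum_insert (by simp [h23]),
      Finset.sum_singleton]
    push_cast
    ring
  -- orthogonality with elements of odd order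
  have ha2 : 2 ∣ orderOf a := by rw [ha4]; norm_num
  have hO1 : ∀ y : G, Odd (orderOf y) →
      1 + (χ₁ : G → ℂ) y * (v χ₁ : ℂ) + (χ₂ : G → ℂ) y * (v χ₂ : ℂ) +
        (χ₃ : G → ℂ) y * (v χ₃ : ℂ) = 0 := by
    intro y hy
    have hy2 : ¬ 2 ∣ orderOf y := by
      rw [← even_iff_two_dvd, Nat.not_even_iff_odd]
      exact hy
    have h := weak_block_orthogonality hMm 2 hM.2.2 (Cfsg.principalBlock M G) hB y a hy2 ha2
    have h2 : ∑ᶠ ζ ∈ Cfsg.principalBlock M G, (ζ : G → ℂ) y * conj ((ζ : G → ℂ) a) =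
        ∑ᶠ ζ ∈ Cfsg.principalBlock M G, (ζ : G → ℂ) y * (v ζ : ℂ) := by
      apply finsum_mem_congr rfl
      intro ζ _
      rw [hv ζ, map_intCast]
    rw [h2, hexp (fun ζ => (ζ : G → ℂ) y), htrivf] at h
    exact h
  -- orthogonality with the involution
  have hnc : ¬ IsConj x a := by
    intro h
    obtain ⟨c, hc⟩ := isConj_iff.mp h
    have : c * x * c⁻¹ = MulAut.conj c x := by simp [MulAut.conj_apply]
    rw [this] at hc
    have h1 : orderOf a = orderOf x := by rw [← hc, MulEquiv.orderOf_eq]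
    rw [ha4, hx2] at h1
    omega
  have hO2 : 1 + (χ₁ : G → ℂ) x * (v χ₁ : ℂ) + (χ₂ : G → ℂ) x * (v χ₂ : ℂ) +
        (χ₃ : G → ℂ) x * (v χ₃ : ℂ) = 0 := by
    have h := principal_section_orth hM x a ⟨1, by rw [hx2, pow_one]⟩ ⟨2, by rw [ha4]; norm_num⟩
    rw [if_neg hnc] at h
    have h2 : ∑ᶠ ζ ∈ Cfsg.principalBlock M G, (ζ : G → ℂ) x * conj ((ζ : G → ℂ) a) =
        ∑ᶠ ζ ∈ Cfsg.principalBlock M G, (ζ : G → ℂ) x * (v ζ : ℂ) := by
      apply finsum_mem_congr rfl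
      intro ζ _
      rw [hv ζ, map_intCast]
    rw [h2, hexp (fun ζ => (ζ : G → ℂ) x), htrivf] at h
    exact h
  -- pairs of involutions
  have hinvol : ∀ y : G, IsConj x y → orderOf y = 2 := by
    intro y hy
    obtain ⟨c, hc⟩ := isConj_iff.mp hy
    have : c * x * c⁻¹ = MulAut.conj c x := by simp [MulAut.conj_apply]
    rw [← hc, this, MulEquiv.orderOf_eq, hx2]
  have hpairs : ∑ p ∈ classFinset x ×ˢ classFinset x,
      (1 + (χ₁ : G → ℂ) (p.1 * p.2) * (v χ₁ : ℂ) + (χ₂ : G → ℂ) (p.1 * p.2) * (v χ₂ : ℂ) +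
        (χ₃ : G → ℂ) (p.1 * p.2) * (v χ₃ : ℂ)) = 0 := by
    apply Finset.sum_eq_zero
    intro p hp
    rw [Finset.mem_product, mem_classFinset, mem_classFinset] at hp
    exact hO1 _ (odd_orderOf_mul_invol S x huniq p.1 p.2 (hinvol _ hp.1) (hinvol _ hp.2))
  rw [Finset.sum_add_distrib, Finset.sum_add_distrib, Finset.sum_add_distrib,
    ← Finset.sum_mul, ← Finset.sum_mul, ← Finset.sum_mul,
    Cfsg.Agent.Helper2.BSuzL.sum_pairs_irr χ₁ x, Cfsg.Agent.Helper2.BSuzL.sum_pairs_irr χ₂ x,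
    Cfsg.Agent.Helper2.BSuzL.sum_pairs_irr χ₃ x, Finset.sum_const, Finset.card_product,
    card_classFinset, nsmul_eq_mul, mul_one] at hpairs
  -- integers
  obtain ⟨d₁, hd₁pos, hd₁⟩ := IsIrrCharacter.apply_one_pos χ₁.2
  obtain ⟨d₂, hd₂pos, hd₂⟩ := IsIrrCharacter.apply_one_pos χ₂.2
  obtain ⟨d₃, hd₃pos, hd₃⟩ := IsIrrCharacter.apply_one_pos χ₃.2
  obtain ⟨b₁, hb₁⟩ := char_involution_int (IsIrrCharacter.isCharacter χ₁.2) x hx2
  obtain ⟨b₂, hb₂⟩ := char_involution_int (IsIrrCharacter.isCharacter χ₂.2) x hx2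
  obtain ⟨b₃, hb₃⟩ := char_involution_int (IsIrrCharacter.isCharacter χ₃.2) x hx2
  obtain ⟨m₁, hm₁⟩ := char_sum_sylow S e x hxS hx2 huniq a hconj4 (IsIrrCharacter.isCharacter χ₁.2)
  obtain ⟨m₂, hm₂⟩ := char_sum_sylow S e x hxS hx2 huniq a hconj4 (IsIrrCharacter.isCharacter χ₂.2)
  obtain ⟨m₃, hm₃⟩ := char_sum_sylow S e x hxS hx2 huniq a hconj4 (IsIrrCharacter.isCharacter χ₃.2)
  have hn₁ := hn χ₁
  have hn₂ := hn χ₂
  have hn₃ := hn χ₃
  have hO1' := hO1 1 (by rw [orderOf_one]; exact odd_one)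
  rw [hd₁, hd₂, hd₃] at hO1' hpairs
  rw [hb₁, hb₂, hb₃] at hO2 hpairs
  rw [hd₁, hb₁] at hn₁ hm₁
  rw [hd₂, hb₂] at hn₂ hm₂
  rw [hd₃, hb₃] at hn₃ hm₃
  rw [hv χ₁] at hm₁
  rw [hv χ₂] at hm₂
  rw [hv χ₃] at hm₃
  have i1 : ((d₁ : ℤ)) - b₁ = 4 * (n χ₁ : ℤ) := by
    have : (((d₁ : ℤ) - b₁ : ℤ) : ℂ) = ((4 * (n χ₁ : ℤ) : ℤ) : ℂ) := by
      push_cast; exact hn₁
    exact_mod_cast this
  have i2 : ((d₂ : ℤ)) - b₂ = 4 * (n χ₂ : ℤ) := by
    have : (((d₂ : ℤ) - b₂ : ℤ) : ℂ) = ((4 * (n χ₂ : ℤ) : ℤ) : ℂ) := by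
      push_cast; exact hn₂
    exact_mod_cast this
  have i3 : ((d₃ : ℤ)) - b₃ = 4 * (n χ₃ : ℤ) := by
    have : (((d₃ : ℤ) - b₃ : ℤ) : ℂ) = ((4 * (n χ₃ : ℤ) : ℤ) : ℂ) := by
      push_cast; exact hn₃
    exact_mod_cast this
  have j1 : (d₁ : ℤ) + b₁ + 6 * v χ₁ = 8 * (m₁ : ℤ) := by
    have : (((d₁ : ℤ) + b₁ + 6 * v χ₁ : ℤ) : ℂ) = ((8 * (m₁ : ℤ) : ℤ) : ℂ) := by
      push_cast; exact hm₁
    exact_mod_cast this
  have j2 : (d₂ : ℤ) + b₂ + 6 * v χ₂ = 8 * (m₂ : ℤ) := by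
    have : (((d₂ : ℤ) + b₂ + 6 * v χ₂ : ℤ) : ℂ) = ((8 * (m₂ : ℤ) : ℤ) : ℂ) := by
      push_cast; exact hm₂
    exact_mod_cast this
  have j3 : (d₃ : ℤ) + b₃ + 6 * v χ₃ = 8 * (m₃ : ℤ) := by
    have : (((d₃ : ℤ) + b₃ + 6 * v χ₃ : ℤ) : ℂ) = ((8 * (m₃ : ℤ) : ℤ) : ℂ) := by
      push_cast; exact hm₃
    exact_mod_cast this
  have k1 : 1 + v χ₁ * (d₁ : ℤ) + v χ₂ * (d₂ : ℤ) + v χ₃ * (d₃ : ℤ) = 0 := by
    have : ((1 + v χ₁ * (d₁ : ℤ) + v χ₂ * (d₂ : ℤ) + v χ₃ * (d₃ : ℤ) : ℤ) : ℂ) = ((0 : ℤ) : ℂ) := by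
      push_cast; linear_combination hO1'
    exact_mod_cast this
  have k2 : 1 + v χ₁ * b₁ + v χ₂ * b₂ + v χ₃ * b₃ = 0 := by
    have : ((1 + v χ₁ * b₁ + v χ₂ * b₂ + v χ₃ * b₃ : ℤ) : ℂ) = ((0 : ℤ) : ℂ) := by
      push_cast; linear_combination hO2
    exact_mod_cast this
  have hk0 : ((Subgroup.centralizer ({x} : Set G)).index : ℂ) ≠ 0 := by
    have : (Subgroup.centralizer ({x} : Set G)).index ≠ 0 := Subgroup.index_ne_zero_of_finite
    exact_mod_cast this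
  have hd₁0 : (d₁ : ℂ) ≠ 0 := by exact_mod_cast hd₁pos.ne'
  have hd₂0 : (d₂ : ℂ) ≠ 0 := by exact_mod_cast hd₂pos.ne'
  have hd₃0 : (d₃ : ℂ) ≠ 0 := by exact_mod_cast hd₃pos.ne'
  have k3 : (d₁ : ℤ) * d₂ * d₃ + v χ₁ * b₁ ^ 2 * d₂ * d₃ + v χ₂ * b₂ ^ 2 * d₁ * d₃ +
      v χ₃ * b₃ ^ 2 * d₁ * d₂ = 0 := by
    have h3 : ((d₁ : ℂ)) * d₂ * d₃ + (v χ₁ : ℂ) * (b₁ : ℂ) ^ 2 * d₂ * d₃ +
        (v χ₂ : ℂ) * (b₂ : ℂ) ^ 2 * d₁ * d₃ + (v χ₃ : ℂ) * (b₃ : ℂ) ^ 2 * d₁ * d₂ = 0 := by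
      set k : ℂ := ((Subgroup.centralizer ({x} : Set G)).index : ℂ) with hk
      have h4 : k ^ 2 * ((d₁ : ℂ) * d₂ * d₃ + (v χ₁ : ℂ) * (b₁ : ℂ) ^ 2 * d₂ * d₃ +
          (v χ₂ : ℂ) * (b₂ : ℂ) ^ 2 * d₁ * d₃ + (v χ₃ : ℂ) * (b₃ : ℂ) ^ 2 * d₁ * d₂) = 0 := by
        have h5 : ((Subgroup.centralizer ({x} : Set G)).index *
            (Subgroup.centralizer ({x} : Set G)).index : ℕ) = k * k := by
          rw [hk]; push_cast; ring
        rw [h5] at hpairs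
        have h6 := congrArg (fun z : ℂ => z * ((d₁ : ℂ) * d₂ * d₃)) hpairs
        simp only [zero_mul] at h6
        rw [← h6]
        field_simp
      rcases mul_eq_zero.mp h4 with h | h
      · exact absurd (pow_eq_zero_iff (by norm_num) |>.mp h) hk0
      · exact h
    have : (((d₁ : ℤ) * d₂ * d₃ + v χ₁ * b₁ ^ 2 * d₂ * d₃ + v χ₂ * b₂ ^ 2 * d₁ * d₃ +
      v χ₃ * b₃ ^ 2 * d₁ * d₂ : ℤ) : ℂ) = ((0 : ℤ) : ℂ) := by
      push_cast; exact h3
    exact_mod_cast this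
  obtain ⟨z1, -, -⟩ := arith d₁ d₂ d₃ b₁ b₂ b₃ (v χ₁) (v χ₂) (v χ₃) (n χ₁) (n χ₂) (n χ₃)
    m₁ m₂ m₃ (hTsign χ₁ hχ₁T) (hTsign χ₂ hχ₂T) (hTsign χ₃ hχ₃T) i1 i2 i3 j1 j2 j3 k1 k2 k3
  -- the kernel of `χ₁`
  have hker : (χ₁ : G → ℂ) x = (χ₁ : G → ℂ) 1 := by
    have h := hn χ₁
    have hz : (n χ₁ : ℂ) = 0 := by exact_mod_cast z1
    rw [hz, mul_zero, sub_eq_zero] at h
    exact h.symm
  obtain ⟨k₁, ρ, hirr, hρ⟩ := χ₁.2
  have hmem : ∀ g : G, g ∈ (ρ : G →* _).ker ↔ (χ₁ : G → ℂ) g = (χ₁ : G → ℂ) 1 := by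
    intro g
    rw [MonoidHom.mem_ker, ← hρ, Representation.char_one, char_eq_finrank_iff]
    rfl
  refine ⟨(ρ : G →* _).ker, inferInstance, ?_, (hmem x).mpr hker⟩
  intro htop
  have hall : ∀ g : G, (χ₁ : G → ℂ) g = (χ₁ : G → ℂ) 1 := by
    intro g
    apply (hmem g).mp
    rw [htop]
    exact Subgroup.mem_top g
  have hva : ((v χ₁ : ℤ) : ℂ) = ((d₁ : ℤ) : ℂ) := by
    rw [← hv χ₁, hall a, hd₁]
    simp
  have hva' : v χ₁ = (d₁ : ℤ) := by exact_mod_cast hva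
  have hd1 : d₁ = 1 := by
    rcases hTsign χ₁ hχ₁T with h | h
    · omega
    · omega
  apply hχ₁t
  apply Subtype.ext
  rw [htrivf]
  funext g
  rw [hall g, hd₁, hd1]
  simp

end Cfsg.Agent.Helper4.BSQ8
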