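import Mathlib
import Cfsg.Agent.Helper4.BSQ8Char
import Cfsg.Agent.Helper2.PComp1

/-!
# The Brauer-Suzuki theorem for quaternion Sylow 2-subgroups of order 8
-/

set_option autoImplicit false
set_option linter.style.haveILetI false

namespace Cfsg.Agent.Helper4.BSQ8

open Cfsg.Agent.Helper2
open scoped Pointwise

universe u

variable {G : Type u} [Group G]

/-- if the involution of the Sylow subgroup is central then the centre has order two -/
theorem center_card_two_of_central [Finite G] (S : Sylow 2 G)
    (e : (S : Subgroup G) ≃* QuaternionGroup 2)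
    (hO : ∀ N : Subgroup G, N.Normal → Odd (Nat.card N) → N = ⊥)
    (x : G) (hx2 : orderOf x = 2)
    (huniq : ∀ t ∈ (S : Subgroup G), orderOf t = 2 → t = x)
    (hxc : x ∈ Subgroup.center G) : Nat.card (Subgroup.center G) = 2 := by
  classical
  haveI : Fact (Nat.Prime 2) := ⟨Nat.prime_two⟩
  haveI : NeZero 2 := ⟨by norm_num⟩
  have hx1 : x ≠ 1 := by
    intro h; rw [h, orderOf_one] at hx2; omega
  have hcen : ∀ z ∈ Subgroup.center G, z = 1 ∨ z = x := by
    intro z hz
    have hzc : ∀ g : G, g * z = z * g := fun g => (Subgroup.mem_center_iff.mp hz) g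
    obtain ⟨a, ha⟩ : ∃ a : ℕ, z ^ (2 ^ a) = 1 := by
      apply BSuzF.pow_two_pow_eq_one_of
      intro k hk
      have hwc : z ^ k ∈ Subgroup.center G := Subgroup.pow_mem _ hz k
      have hnorm : (Subgroup.zpowers (z ^ k)).Normal := by
        refine ⟨fun y hy g => ?_⟩
        obtain ⟨i, rfl⟩ := Subgroup.mem_zpowers_iff.mp hy
        have h1 : (z ^ k) ^ i ∈ Subgroup.center G := Subgroup.zpow_mem _ hwc i
        have h2 : g * (z ^ k) ^ i * g⁻¹ = (z ^ k) ^ i := by
          rw [(Subgroup.mem_center_iff.mp h1) g]; group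
        rw [h2]; exact Subgroup.zpow_mem_zpowers _ _
      have hodd : Odd (Nat.card (Subgroup.zpowers (z ^ k))) := by
        rw [Nat.card_zpowers]; exact hk
      have := hO _ hnorm hodd
      rw [Subgroup.zpowers_eq_bot] at this
      exact this
    have hz2 : IsPGroup 2 (Subgroup.zpowers z) := by
      rintro ⟨y, hy⟩
      obtain ⟨i, rfl⟩ := Subgroup.mem_zpowers_iff.mp hy
      refine ⟨a, Subtype.ext ?_⟩
      show (z ^ i) ^ (2 ^ a) = 1
      rw [← zpow_natCast, ← zpow_mul, mul_comm, zpow_mul, zpow_natCast, ha, one_zpow]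
    obtain ⟨P, hP⟩ := hz2.exists_le_sylow
    obtain ⟨g, hg⟩ := MulAction.exists_smul_eq G S P
    have hPS : (P : Subgroup G) = MulAut.conj g • (S : Subgroup G) := by
      rw [← hg]; exact Sylow.coe_subgroup_smul
    have hzS : z ∈ (S : Subgroup G) := by
      have h1 : z ∈ MulAut.conj g • (S : Subgroup G) := by
        rw [← hPS]; exact hP (Subgroup.mem_zpowers z)
      rw [BSuzC.mem_conj_smul_iff] at h1
      have h2 : g⁻¹ * z * g = z := by
        rw [mul_assoc, ← hzc g]; group
      rwa [h2] at h1
    have hez : ∀ q : QuaternionGroup 2, q * e ⟨z, hzS⟩ = e ⟨z, hzS⟩ * q := by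
      intro q
      obtain ⟨s, rfl⟩ := e.surjective q
      rw [← map_mul, ← map_mul]
      congr 1
      exact Subtype.ext (hzc s)
    rcases BSuzA.center_elts 2 (le_refl 2) _ hez with h | h
    · left
      have h1 : (⟨z, hzS⟩ : (S : Subgroup G)) = 1 := by
        apply e.injective; rw [h, map_one]
      exact congrArg Subtype.val h1
    · right
      apply huniq z hzS
      have h1 : orderOf (⟨z, hzS⟩ : (S : Subgroup G)) = 2 := by
        rw [← MulEquiv.orderOf_eq e, h, BSuzA.orderOf_a_k]
      rw [← Subgroup.orderOf_coe] at h1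
      exact h1
  rw [Nat.card_eq_two_iff]
  refine ⟨1, ⟨x, hxc⟩, ?_, ?_⟩
  · intro h
    exact hx1 (congrArg Subtype.val h).symm
  · ext ⟨z, hz⟩
    simp only [Set.mem_insert_iff, Set.mem_singleton_iff, Set.mem_univ, iff_true]
    rcases hcen z hz with h | h
    · left; exact Subtype.ext h
    · right; exact Subtype.ext h

/-- normal subgroups inherit the absence of normal subgroups of odd order -/
theorem hO_of_normal [Finite G]
    (hO : ∀ N : Subgroup G, N.Normal → Odd (Nat.card N) → N = ⊥) (N : Subgroup G) [N.Normal] :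
    ∀ K : Subgroup N, K.Normal → Odd (Nat.card K) → K = ⊥ := by
  intro K hK hKodd
  have hcore : Cfsg.pPrimeCore 2 G = ⊥ := by
    apply hO _ inferInstance
    exact (Nat.coprime_two_right).mp (Cfsg.Agent.Helper1.card_pPrimeCore_coprime 2)
  have h1 : K ≤ Cfsg.pPrimeCore 2 N :=
    Cfsg.Agent.Helper1.le_pPrimeCore hK ((Nat.coprime_two_right).mpr hKodd)
  have h2 := pPrimeCore_normal_le 2 N
  rw [hcore] at h2
  rw [eq_bot_iff]
  intro k hk
  have h3 : ((k : N) : G) ∈ (⊥ : Subgroup G) := h2 ⟨k, h1 hk, rfl⟩
  rw [Subgroup.mem_bot] at h3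
  rw [Subgroup.mem_bot]
  exact Subtype.ext h3


/-- **Brauer-Suzuki for `Q₈`** -/
theorem brauer_suzuki_q8 : ∀ (m : ℕ) (G : Type u) [Group G] [Finite G], Nat.card G = m →
    ∀ (S : Sylow 2 G) (_ : (S : Subgroup G) ≃* QuaternionGroup 2),
    (∀ N : Subgroup G, N.Normal → Odd (Nat.card N) → N = ⊥) →
    Nat.card (Subgroup.center G) = 2 := by
  intro m
  induction m using Nat.strong_induction_on with
  | _ m ih =>
  intro G _ _ hm S e hO
  classical
  haveI : Fact (Nat.Prime 2) := ⟨Nat.prime_two⟩
  haveI : NeZero 2 := ⟨by norm_num⟩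
  obtain ⟨x, hxS, hx2, huniq⟩ := BSuzD.exists_unique_invol S 2 e
  suffices hxc : x ∈ Subgroup.center G from center_card_two_of_central S e hO x hx2 huniq hxc
  have hconjx : ∀ g : G, orderOf (g * x * g⁻¹) = 2 := by
    intro g
    have : g * x * g⁻¹ = MulAut.conj g x := by simp [MulAut.conj_apply]
    rw [this, MulEquiv.orderOf_eq, hx2]
  have hcentral : (∀ g : G, g * x * g⁻¹ = x) → x ∈ Subgroup.center G := by
    intro h
    rw [Subgroup.mem_center_iff]
    intro g
    calc g * x = g * x * g⁻¹ * g := by group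
      _ = x * g := by rw [h g]
  apply hcentral
  by_cases hnc : ∃ N : Subgroup G, N.Normal ∧ Subgroup.IsComplement' N (S : Subgroup G)
  · -- the Sylow subgroup is the whole group
    obtain ⟨N, hNn, hNc⟩ := hnc
    have hNodd : Odd (Nat.card N) := by
      have h1 : (S : Subgroup G).index = Nat.card N := hNc.index_eq_card
      rw [← h1, ← Nat.not_even_iff_odd, even_iff_two_dvd]
      exact S.not_dvd_index
    have hNbot := hO N hNn hNodd
    rw [hNbot] at hNc
    have hStop : (S : Subgroup G) = ⊤ := Subgroup.isComplement'_bot_left.mp hNc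
    intro g
    have hg : g ∈ (S : Subgroup G) := by rw [hStop]; exact Subgroup.mem_top g
    exact huniq _ (Subgroup.mul_mem _ (Subgroup.mul_mem _ hg hxS) (Subgroup.inv_mem _ hg))
      (hconjx g)
  · push Not at hnc
    obtain ⟨a, haS, ha4⟩ : ∃ a ∈ (S : Subgroup G), orderOf a = 4 := by
      refine ⟨(e.symm (QuaternionGroup.a 1) : (S : Subgroup G)), (e.symm _).2, ?_⟩
      rw [Subgroup.orderOf_coe, MulEquiv.orderOf_eq, QuaternionGroup.orderOf_a_one]
    have hconj4 : ∀ s ∈ (S : Subgroup G), orderOf s = 4 → IsConj a s :=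
      fun s hs h4 => isConj_of_order_four S e hnc a s haS hs ha4 h4
    obtain ⟨N, hNn, hNtop, hxN⟩ := exists_proper_normal S e x hxS hx2 huniq a haS ha4 hconj4
    haveI := hNn
    have hNlt : Nat.card N < m := by
      rw [← hm]
      apply lt_of_le_of_ne (Subgroup.card_le_card_group N)
      intro h
      exact hNtop (Subgroup.eq_top_of_card_eq N h)
    by_cases hcyc : ∀ T : Sylow 2 N, IsCyclic (T : Subgroup N)
    · -- the normal subgroup is a cyclic 2-group
      obtain ⟨K, hKn, hK⟩ := BSuzB.exists_odd_subgroup (Nat.card N) N rfl hcyc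
      have hK'n : (K.map N.subtype).Normal := by
        refine ⟨fun y hy g => ?_⟩
        obtain ⟨j, hj, rfl⟩ := hy
        have hjN : g * (j : G) * g⁻¹ ∈ N := hNn.conj_mem _ j.2 g
        refine ⟨⟨g * (j : G) * g⁻¹, hjN⟩, (hK _).mpr ?_, rfl⟩
        have h1 : Odd (orderOf j) := (hK j).mp hj
        have h2 : orderOf (⟨g * (j : G) * g⁻¹, hjN⟩ : N) = orderOf j := by
          rw [← Subgroup.orderOf_coe, ← Subgroup.orderOf_coe j]
          have : g * (j : G) * g⁻¹ = MulAut.conj g (j : G) := by simp [MulAut.conj_apply]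
          show orderOf (g * (j : G) * g⁻¹) = orderOf (j : G)
          rw [this, MulEquiv.orderOf_eq]
        rw [h2]; exact h1
      have hK'odd : Odd (Nat.card (K.map N.subtype)) := by
        rw [Nat.card_congr (K.equivMapOfInjective N.subtype N.subtype_injective).symm.toEquiv]
        apply BSuzF.odd_card_of_forall_odd
        intro g
        rw [← Subgroup.orderOf_coe]
        exact (hK g).mp g.2
      have hK'bot := hO _ hK'n hK'odd
      have hNodd : ∀ j : N, Odd (orderOf j) → j = 1 := by
        intro j hj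
        have h1 : (j : G) ∈ K.map N.subtype := ⟨j, (hK j).mpr hj, rfl⟩
        rw [hK'bot, Subgroup.mem_bot] at h1
        exact Subtype.ext h1
      have hN2 : IsPGroup 2 N := by
        intro j
        exact BSuzF.pow_two_pow_eq_one_of j (fun k hk => hNodd _ hk)
      haveI hNcyc : IsCyclic N := by
        have htop : IsPGroup 2 (⊤ : Subgroup N) := hN2.to_subgroup _
        obtain ⟨T, hT⟩ := htop.exists_le_sylow
        have hTtop : (T : Subgroup N) = ⊤ := top_le_iff.mp hT
        haveI := hcyc T
        rw [hTtop] at this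
        exact isCyclic_of_surjective (Subgroup.topEquiv (G := N)).toMonoidHom
          (Subgroup.topEquiv (G := N)).surjective
      intro g
      have hgN : g * x * g⁻¹ ∈ N := hNn.conj_mem _ hxN g
      have h1 : (⟨g * x * g⁻¹, hgN⟩ : N) = ⟨x, hxN⟩ := by
        apply Cfsg.Agent.Helper2.eq_of_orderOf_two_of_isCyclic
        · rw [← Subgroup.orderOf_coe]; exact hconjx g
        · rw [← Subgroup.orderOf_coe]; exact hx2
      exact congrArg Subtype.val h1
    · -- the normal subgroup has quaternion Sylow 2-subgroups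
      push Not at hcyc
      obtain ⟨T, hT⟩ := hcyc
      have hT2 : IsPGroup 2 ((T : Subgroup N).map N.subtype) := T.2.map _
      obtain ⟨P, hP⟩ := hT2.exists_le_sylow
      obtain ⟨eP⟩ := sylow_equiv S P e
      have hTP : (T : Subgroup N).map N.subtype = (P : Subgroup G) := by
        apply le_antisymm hP
        by_contra hne
        apply hT
        have hH : ((T : Subgroup N).map N.subtype).subgroupOf (P : Subgroup G) ≠ ⊤ := by
          intro h
          apply hne
          exact Subgroup.subgroupOf_eq_top.mp h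
        haveI := proper_cyclic eP _ hH
        let f : ((T : Subgroup N).map N.subtype).subgroupOf (P : Subgroup G) ≃* (T : Subgroup N) :=
          (Subgroup.subgroupOfEquivOfLe hP).trans
            ((T : Subgroup N).equivMapOfInjective N.subtype N.subtype_injective).symm
        exact isCyclic_of_surjective f.toMonoidHom f.surjective
      let eT : (T : Subgroup N) ≃* QuaternionGroup 2 :=
        (((T : Subgroup N).equivMapOfInjective N.subtype N.subtype_injective).trans
          (MulEquiv.subgroupCongr hTP)).trans eP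
      have hZ := ih (Nat.card N) hNlt N rfl T eT (hO_of_normal hO N)
      obtain ⟨Z, hZdef⟩ : ∃ Z : Subgroup G, Z = (Subgroup.center N).map N.subtype := ⟨_, rfl⟩
      haveI hZn : Z.Normal := by rw [hZdef]; infer_instance
      have hZcard : Nat.card Z = 2 := by
        rw [hZdef, Subgroup.card_map_of_injective N.subtype_injective, hZ]
      have hxZ : x ∈ Z :=
        BSuzC.invol_mem_of_normal S x huniq Z (by rw [hZcard]; exact even_two) x hx2
      intro g
      have hgZ : g * x * g⁻¹ ∈ Z := hZn.conj_mem _ hxZ g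
      obtain ⟨w, -, hw⟩ := (Nat.card_eq_two_iff' (1 : Z)).mp hZcard
      have h1 : (⟨g * x * g⁻¹, hgZ⟩ : Z) = w := by
        apply hw
        intro h
        have h2 : g * x * g⁻¹ = 1 := congrArg Subtype.val h
        have h3 := hconjx g
        rw [h2, orderOf_one] at h3
        omega
      have h2 : (⟨x, hxZ⟩ : Z) = w := by
        apply hw
        intro h
        have h2 : x = 1 := congrArg Subtype.val h
        rw [h2, orderOf_one] at hx2
        omega
      exact congrArg Subtype.val (h1.trans h2.symm)

end Cfsg.Agent.Helper4.BSQ8
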