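import Mathlib
import Cfsg.Agent.Lead.ThreeTransW

/-!
# 3-transpositions whose proper commuting members generate `S₃`: local structure

`LocS3 D`: for every `d ∈ D` the subgroup generated by `star D d` is isomorphic to `S₃`.
Then `star D d` consists of exactly three pairwise non-commuting members `a, b, a b a`.
-/

set_option autoImplicit false

namespace Cfsg.Agent.Helper4.TT5

open Cfsg.Agent.Lead.TTW

variable {G : Type*} [Group G]

/-- the local hypothesis: the proper commuting members of each member generate a copy of `S₃` -/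
def LocS3 (D : Set G) : Prop :=
  ∀ d ∈ D, Nonempty (↥(Subgroup.closure (star D d)) ≃* Equiv.Perm (Fin 3))

theorem perm3_nc : ∀ x y : Equiv.Perm (Fin 3), x * x = 1 → y * y = 1 → x ≠ 1 → y ≠ 1 → x ≠ y →
    x * y ≠ y * x := by decide

set_option synthInstance.maxSize 2000 in
set_option synthInstance.maxHeartbeats 200000 in
theorem perm3_four_aux : ∀ x y z w : Equiv.Perm (Fin 3),
    (x * x = 1 ∧ x ≠ 1 ∧ y * y = 1 ∧ y ≠ 1 ∧ x ≠ y ∧ z * z = 1 ∧ z ≠ 1 ∧ x ≠ z ∧ y ≠ z ∧
      w * w = 1 ∧ w ≠ 1) → (w = x ∨ w = y ∨ w = z) := by decide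

theorem perm3_four (x y z w : Equiv.Perm (Fin 3)) (h1 : x * x = 1) (h2 : x ≠ 1) (h3 : y * y = 1)
    (h4 : y ≠ 1) (h5 : x ≠ y) (h6 : z * z = 1) (h7 : z ≠ 1) (h8 : x ≠ z) (h9 : y ≠ z)
    (h10 : w * w = 1) (h11 : w ≠ 1) : w = x ∨ w = y ∨ w = z :=
  perm3_four_aux x y z w ⟨h1, h2, h3, h4, h5, h6, h7, h8, h9, h10, h11⟩

theorem perm3_noncomm : ∃ x y : Equiv.Perm (Fin 3), x * y ≠ y * x := by decide

theorem perm3_center : ∀ x : Equiv.Perm (Fin 3), (∀ y : Equiv.Perm (Fin 3), x * y = y * x) →
    x = 1 := by decide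

section

variable {D : Set G}

theorem conj_mem (h : TT3 D) {a b : G} (ha : a ∈ D) (hb : b ∈ D) : a * b * a ∈ D := by
  have := h.conj a b hb
  rwa [h.inv ha] at this

theorem star_mem_D {d y : G} (hy : y ∈ star D d) : y ∈ D := hy.1

theorem star_symm {d y : G} (hd : d ∈ D) (hy : y ∈ star D d) : d ∈ star D y :=
  ⟨hd, fun h => hy.2.1 h.symm, hy.2.2.symm⟩

/-- images in `S₃` -/
theorem star_img (h : TT3 D) {d : G}
    (e : ↥(Subgroup.closure (star D d)) ≃* Equiv.Perm (Fin 3)) {y : G} (hy : y ∈ star D d) :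
    e ⟨y, Subgroup.subset_closure hy⟩ * e ⟨y, Subgroup.subset_closure hy⟩ = 1 ∧
      e ⟨y, Subgroup.subset_closure hy⟩ ≠ 1 := by
  constructor
  · rw [← map_mul]
    have : (⟨y, Subgroup.subset_closure hy⟩ : ↥(Subgroup.closure (star D d))) *
        ⟨y, Subgroup.subset_closure hy⟩ = 1 := Subtype.ext (h.sq y hy.1)
    rw [this, map_one]
  · intro h1
    have : (⟨y, Subgroup.subset_closure hy⟩ : ↥(Subgroup.closure (star D d))) = 1 := by
      apply e.injective
      rw [h1, map_one]
    exact h.ne y hy.1 (congrArg Subtype.val this)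

theorem star_img_inj {d : G}
    (e : ↥(Subgroup.closure (star D d)) ≃* Equiv.Perm (Fin 3)) {y y' : G} (hy : y ∈ star D d)
    (hy' : y' ∈ star D d)
    (heq : e ⟨y, Subgroup.subset_closure hy⟩ = e ⟨y', Subgroup.subset_closure hy'⟩) : y = y' :=
  congrArg Subtype.val (e.injective heq)

/-- two different members of a star do not commute -/
theorem star_nc (h : TT3 D) (hL : LocS3 D) {d : G} (hd : d ∈ D) {y y' : G} (hy : y ∈ star D d)
    (hy' : y' ∈ star D d) (hne : y ≠ y') : ¬ Commute y y' := by
  obtain ⟨e⟩ := hL d hd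
  intro hc
  have h1 := star_img h e hy
  have h2 := star_img h e hy'
  have hne' : e ⟨y, Subgroup.subset_closure hy⟩ ≠ e ⟨y', Subgroup.subset_closure hy'⟩ :=
    fun heq => hne (star_img_inj e hy hy' heq)
  apply perm3_nc _ _ h1.1 h2.1 h1.2 h2.2 hne'
  rw [← map_mul, ← map_mul]
  congr 1
  exact Subtype.ext hc.eq

/-- a star contains two non-commuting members -/
theorem star_exists2 (hL : LocS3 D) {d : G} (hd : d ∈ D) :
    ∃ a ∈ star D d, ∃ b ∈ star D d, ¬ Commute a b := by
  obtain ⟨e⟩ := hL d hd
  by_contra hcon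
  have hcomm : ∀ a ∈ star D d, ∀ b ∈ star D d, a * b = b * a := by
    intro a ha b hb
    by_contra hab
    exact hcon ⟨a, ha, b, hb, hab⟩
  have hmc := Subgroup.isMulCommutative_closure hcomm
  obtain ⟨x, y, hxy⟩ := perm3_noncomm
  apply hxy
  have := hmc.is_comm.comm (e.symm x) (e.symm y)
  have h2 := congrArg e this
  simpa using h2

/-- the third member -/
theorem star_third (h : TT3 D) {d a b : G} (ha : a ∈ star D d) (hb : b ∈ star D d) :
    a * b * a ∈ star D d := by
  refine ⟨conj_mem h ha.1 hb.1, ?_, ?_⟩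
  · intro heq
    apply hb.2.1
    have hc : a * d = d * a := ha.2.2.eq.symm
    calc b = a * (a * b * a) * a := by
          have := h.sq a ha.1
          calc b = (a * a) * b * (a * a) := by rw [this, one_mul, mul_one]
            _ = a * (a * b * a) * a := by group
      _ = a * d * a := by rw [heq]
      _ = d * (a * a) := by rw [hc]; group
      _ = d := by rw [h.sq a ha.1, mul_one]
  · exact (ha.2.2.mul_right hb.2.2).mul_right ha.2.2

/-- the star of a member consists of exactly three members `a, b, a b a` -/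
theorem star_eq (h : TT3 D) (hL : LocS3 D) {d : G} (hd : d ∈ D) {a b : G} (ha : a ∈ star D d)
    (hb : b ∈ star D d) (hab : a ≠ b) : star D d = {a, b, a * b * a} := by
  obtain ⟨e⟩ := hL d hd
  have hnc := star_nc h hL hd ha hb hab
  have hc := star_third h ha hb
  have hca : a ≠ a * b * a := by
    intro heq
    apply hab
    have h1 : a * b * a = a * 1 := by rw [mul_one]; exact heq.symm
    have h2 : b * a = 1 := by
      rw [mul_assoc] at h1
      exact mul_left_cancel h1
    have : b = a⁻¹ := eq_inv_of_mul_eq_one_left h2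
    rw [h.inv ha.1] at this
    exact this.symm
  have hcb : b ≠ a * b * a := by
    intro heq
    apply hnc
    show a * b = b * a
    calc a * b = a * b * (a * a) := by rw [h.sq a ha.1, mul_one]
      _ = (a * b * a) * a := by group
      _ = b * a := by rw [← heq]
  ext y
  simp only [Set.mem_insert_iff, Set.mem_singleton_iff]
  constructor
  · intro hy
    have h1 := star_img h e ha
    have h2 := star_img h e hb
    have h3 := star_img h e hc
    have h4 := star_img h e hy
    have n12 : e ⟨a, Subgroup.subset_closure ha⟩ ≠ e ⟨b, Subgroup.subset_closure hb⟩ :=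
      fun heq => hab (star_img_inj e ha hb heq)
    have n13 : e ⟨a, Subgroup.subset_closure ha⟩ ≠ e ⟨a * b * a, Subgroup.subset_closure hc⟩ :=
      fun heq => hca (star_img_inj e ha hc heq)
    have n23 : e ⟨b, Subgroup.subset_closure hb⟩ ≠ e ⟨a * b * a, Subgroup.subset_closure hc⟩ :=
      fun heq => hcb (star_img_inj e hb hc heq)
    rcases perm3_four _ _ _ _ h1.1 h1.2 h2.1 h2.2 n12 h3.1 h3.2 n13 n23 h4.1 h4.2 with
      h5 | h5 | h5
    · exact Or.inl (star_img_inj e hy ha h5)
    · exact Or.inr (Or.inl (star_img_inj e hy hb h5))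
    · exact Or.inr (Or.inr (star_img_inj e hy hc h5))
  · rintro (rfl | rfl | rfl)
    · exact ha
    · exact hb
    · exact hc

/-- the subgroup generated by a star has trivial centre -/
theorem star_center (hL : LocS3 D) {d : G} (hd : d ∈ D) {g : G}
    (hg : g ∈ Subgroup.closure (star D d)) (hcomm : ∀ y ∈ star D d, g * y = y * g) : g = 1 := by
  obtain ⟨e⟩ := hL d hd
  have hall : ∀ y ∈ Subgroup.closure (star D d), g * y = y * g := by
    intro y hy
    have : y ∈ Subgroup.centralizer {g} := by
      revert hy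
      apply (Subgroup.closure_le _).mpr
      intro z hz
      rw [SetLike.mem_coe, Subgroup.mem_centralizer_iff]
      intro w hw
      rw [Set.mem_singleton_iff] at hw
      rw [hw]
      exact hcomm z hz
    rw [Subgroup.mem_centralizer_iff] at this
    exact this g rfl
  have h1 : e ⟨g, hg⟩ = 1 := by
    apply perm3_center
    intro y
    obtain ⟨y', rfl⟩ := e.surjective y
    rw [← map_mul, ← map_mul]
    congr 1
    exact Subtype.ext (hall y'.1 y'.2)
  have : (⟨g, hg⟩ : ↥(Subgroup.closure (star D d))) = 1 := by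
    apply e.injective
    rw [h1, map_one]
  exact congrArg Subtype.val this

end

end Cfsg.Agent.Helper4.TT5
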