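import Mathlib
import Cfsg.Agent.Helper4.TT5A
import Cfsg.Agent.Helper4.S5Pres
import Cfsg.Agent.Helper4.Petersen
import Cfsg.Agent.Helper3.S4Pres

/-!
# 3-transpositions whose stars generate `S₃`, no two members with the same star: `S₅`
-/

set_option autoImplicit false

namespace Cfsg.Agent.Helper4.TT5

open Cfsg.Agent.Lead.TTW

variable {G : Type*} [Group G] {D : Set G}

/-- no two different members have the same star -/
def NoW (D : Set G) : Prop := ∀ d ∈ D, ∀ x ∈ D, WRel D d x → d = x

/-- two members at distance two have exactly one common neighbour -/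
theorem common_nb (h : TT3 D) (hL : LocS3 D) (hnW : NoW D) {d a e b : G} (hd : d ∈ D)
    (ha : a ∈ star D d) (he : e ∈ star D a) (hed : e ≠ d) (hb : b ∈ star D d)
    (hb' : b ∈ star D e) : b = a := by
  by_contra hne
  have ha' : a ∈ star D e := star_symm ha.1 he
  have h1 := star_eq h hL hd ha hb (Ne.symm hne)
  have h2 := star_eq h hL he.1 ha' hb' (Ne.symm hne)
  exact hed (hnW d hd e he.1 (h1.trans h2.symm)).symm

/-- conjugating `z` by two different members not commuting with it gives different results -/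
theorem conj_inj (h : TT3 D) {p q z : G} (hp : p ∈ D) (hq : q ∈ D) (hz : z ∈ D)
    (h1 : ¬ Commute z p) (h2 : ¬ Commute z q) (heq : p * z * p = q * z * q) : p = q := by
  have b1 := braid (h.sq p hp) (h.sq z hz) (h.cube p hp z hz (fun hc => h1 hc.symm))
  have b2 := braid (h.sq q hq) (h.sq z hz) (h.cube q hq z hz (fun hc => h2 hc.symm))
  rw [b1, b2] at heq
  exact mul_left_cancel (mul_right_cancel heq)

/-- Lemma X: the conjugate of `z` by the product of two commuting members, neither commuting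
with `z`, is a proper commuting member of `z` -/
theorem lemX (h : TT3 D) {t t' z : G} (ht : t ∈ D) (ht' : t' ∈ D) (hz : z ∈ D) (hne : t ≠ t')
    (hc : Commute t t') (h1 : ¬ Commute z t) (h2 : ¬ Commute z t') :
    (t * t') * z * (t * t')⁻¹ ∈ star D z := by
  refine ⟨h.conj _ z hz, ?_, ?_⟩
  · intro heq
    apply hne
    apply conj_inj h ht ht' hz h1 h2
    have e1 : t * z * t = t' * ((t * t') * z * (t * t')⁻¹) * t' := by
      rw [mul_inv_rev, h.inv ht, h.inv ht']
      have e2 : t * t' = t' * t := hc.eq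
      calc t * z * t = (t' * t') * t * z * t * (t' * t') := by
            rw [h.sq t' ht', one_mul, mul_one]
        _ = t' * (t' * t * z * (t * t')) * t' := by group
        _ = t' * (t * t' * z * (t' * t)) * t' := by rw [e2]
    rw [e1, heq]
  · have hsq : ∀ x ∈ D, x ^ 2 = 1 := fun x hx => by rw [sq]; exact h.sq x hx
    obtain ⟨ψ, h01, h12, h23⟩ := Cfsg.Agent.Helper3.S4Pres.exists_hom t z t' (hsq t ht) (hsq z hz)
      (hsq t' ht') (h.cube t ht z hz (fun hc => h1 hc.symm)) (h.cube z hz t' ht' h2)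
      ((commute_iff_sq (h.sq t ht) (h.sq t' ht')).mp hc)
    have hS : Equiv.swap (1 : Fin 4) 2 * ((Equiv.swap 0 1 * Equiv.swap 2 3) * Equiv.swap 1 2 *
        (Equiv.swap 0 1 * Equiv.swap 2 3)⁻¹) = ((Equiv.swap 0 1 * Equiv.swap 2 3) * Equiv.swap 1 2 *
        (Equiv.swap 0 1 * Equiv.swap 2 3)⁻¹) * Equiv.swap (1 : Fin 4) 2 := by decide
    have := congrArg ψ hS
    simp only [map_mul, map_inv, h01, h12, h23] at this
    exact this

/-! ### swaps of `Fin 5` -/

theorem compl3 : ∀ i j : Fin 5, i ≠ j → ∃ k l m : Fin 5, k ≠ l ∧ k ≠ m ∧ l ≠ m ∧ k ≠ i ∧ k ≠ j ∧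
    l ≠ i ∧ l ≠ j ∧ m ≠ i ∧ m ≠ j := by decide

set_option synthInstance.maxSize 2000 in
set_option synthInstance.maxHeartbeats 200000 in
theorem swap_comm_disj : ∀ i j k l : Fin 5, i ≠ k → i ≠ l → j ≠ k → j ≠ l →
    Equiv.swap i j * Equiv.swap k l = Equiv.swap k l * Equiv.swap i j := by decide

theorem swap_conj3 : ∀ k l m : Fin 5, k ≠ l → k ≠ m → l ≠ m →
    Equiv.swap k l * Equiv.swap k m * Equiv.swap k l = Equiv.swap l m := by decide

theorem swap_ne_disj {i j k l : Fin 5} (hkl : k ≠ l) (hki : k ≠ i) (hkj : k ≠ j) :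
    Equiv.swap k l ≠ Equiv.swap i j := by
  intro heq
  have := congrArg (fun σ : Equiv.Perm (Fin 5) => σ k) heq
  simp only [Equiv.swap_apply_left, Equiv.swap_apply_of_ne_of_ne hki hkj] at this
  exact hkl this.symm

theorem swap_ne_same {k l m : Fin 5} (hlm : l ≠ m) : Equiv.swap k l ≠ Equiv.swap k m := by
  intro heq
  have := congrArg (fun σ : Equiv.Perm (Fin 5) => σ k) heq
  simp only [Equiv.swap_apply_left] at this
  exact hlm this

section phi

variable (φ : Equiv.Perm (Fin 5) →* G)

theorem swap_mem (h : TT3 D) (h01 : φ (Equiv.swap 0 1) ∈ D) {i j : Fin 5} (hij : i ≠ j) :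
    φ (Equiv.swap i j) ∈ D := by
  have hc : IsConj (Equiv.swap (0 : Fin 5) 1) (Equiv.swap i j) :=
    Equiv.Perm.isConj_swap (by decide) hij
  obtain ⟨c, hc⟩ := isConj_iff.mp hc
  rw [← hc, map_mul, map_mul, map_inv]
  exact h.conj _ _ h01

/-- the star of the image of a transposition consists of images of transpositions -/
theorem star_swap (h : TT3 D) (hL : LocS3 D) (hinj : Function.Injective φ)
    (h01 : φ (Equiv.swap 0 1) ∈ D) {i j : Fin 5} (hij : i ≠ j) {y : G}
    (hy : y ∈ star D (φ (Equiv.swap i j))) : ∃ k l : Fin 5, k ≠ l ∧ y = φ (Equiv.swap k l) := by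
  obtain ⟨k, l, m, hkl, hkm, hlm, hki, hkj, hli, hlj, hmi, hmj⟩ := compl3 i j hij
  have hp : φ (Equiv.swap k l) ∈ star D (φ (Equiv.swap i j)) := by
    refine ⟨swap_mem φ h h01 hkl, ?_, ?_⟩
    · intro heq
      exact swap_ne_disj hkl hki hkj (hinj heq)
    · show φ (Equiv.swap i j) * φ (Equiv.swap k l) = φ (Equiv.swap k l) * φ (Equiv.swap i j)
      rw [← map_mul, ← map_mul, swap_comm_disj i j k l hki.symm hli.symm hkj.symm hlj.symm]
  have hq : φ (Equiv.swap k m) ∈ star D (φ (Equiv.swap i j)) := by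
    refine ⟨swap_mem φ h h01 hkm, ?_, ?_⟩
    · intro heq
      exact swap_ne_disj hkm hki hkj (hinj heq)
    · show φ (Equiv.swap i j) * φ (Equiv.swap k m) = φ (Equiv.swap k m) * φ (Equiv.swap i j)
      rw [← map_mul, ← map_mul, swap_comm_disj i j k m hki.symm hmi.symm hkj.symm hmj.symm]
  have hpq : φ (Equiv.swap k l) ≠ φ (Equiv.swap k m) := fun heq => swap_ne_same hlm (hinj heq)
  have hs := star_eq h hL (swap_mem φ h h01 hij) hp hq hpq
  rw [hs] at hy
  simp only [Set.mem_insert_iff, Set.mem_singleton_iff] at hy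
  rcases hy with rfl | rfl | rfl
  · exact ⟨k, l, hkl, rfl⟩
  · exact ⟨k, m, hkm, rfl⟩
  · refine ⟨l, m, hlm, ?_⟩
    rw [← map_mul, ← map_mul, swap_conj3 k l m hkl hkm hlm]

/-- there is no member of `D` outside the images of the transpositions -/
theorem no_outside (h : TT3 D) (hL : LocS3 D) (hinj : Function.Injective φ)
    (h01 : φ (Equiv.swap 0 1) ∈ D) {z : G} (hz : z ∈ D)
    (hout : ∀ i j : Fin 5, i ≠ j → z ≠ φ (Equiv.swap i j)) : False := by
  have hnc : ∀ i j : Fin 5, i ≠ j → ¬ Commute z (φ (Equiv.swap i j)) := by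
    intro i j hij hc
    have hm : z ∈ star D (φ (Equiv.swap i j)) := ⟨hz, hout i j hij, hc.symm⟩
    obtain ⟨k, l, hkl, hzkl⟩ := star_swap φ h hL hinj h01 hij hm
    exact hout k l hkl hzkl
  obtain ⟨a, ha, b, hb, hab⟩ := star_exists2 hL hz
  have hab' : a ≠ b := by
    rintro rfl
    exact hab (Commute.refl a)
  have hs := star_eq h hL hz ha hb hab'
  have hT : ∀ {i j : Fin 5}, i ≠ j → φ (Equiv.swap i j) ∈ D := fun hij => swap_mem φ h h01 hij
  apply Cfsg.Agent.Helper4.Petersen.no_col (fun σ => φ σ * z * (φ σ)⁻¹) a b (a * b * a)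
  · intro i j k l hij hkl hik hil hjk hjl
    have hm : (φ (Equiv.swap i j) * φ (Equiv.swap k l)) * z *
        (φ (Equiv.swap i j) * φ (Equiv.swap k l))⁻¹ ∈ star D z := by
      apply lemX h (hT hij) (hT hkl) hz
      · intro heq
        exact swap_ne_disj hij hik hil (hinj heq)
      · show φ (Equiv.swap i j) * φ (Equiv.swap k l) = φ (Equiv.swap k l) * φ (Equiv.swap i j)
        rw [← map_mul, ← map_mul, swap_comm_disj i j k l hik hil hjk hjl]
      · exact hnc i j hij
      · exact hnc k l hkl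
    rw [hs] at hm
    simp only [Set.mem_insert_iff, Set.mem_singleton_iff] at hm
    simp only [map_mul]
    exact hm
  · intro i j k l m hij hik hil him hjk hjl hjm hkl hkm hlm heq
    simp only [map_mul, mul_inv_rev] at heq
    have hT1 := hT hkl
    have hT2 := hT hkm
    have hT0 := hT hij
    rw [h.inv hT1, h.inv hT2, h.inv hT0] at heq
    have heq' : φ (Equiv.swap k l) * z * φ (Equiv.swap k l) =
        φ (Equiv.swap k m) * z * φ (Equiv.swap k m) := by
      have e1 : ∀ x : G, φ (Equiv.swap i j) * x * z * (x * φ (Equiv.swap i j)) =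
          φ (Equiv.swap i j) * (x * z * x) * φ (Equiv.swap i j) := by
        intro x; group
      rw [e1, e1] at heq
      exact mul_left_cancel (mul_right_cancel heq)
    have := conj_inj h hT1 hT2 hz (hnc k l hkl) (hnc k m hkm) heq'
    exact swap_ne_same hlm (hinj this)

end phi

/-- **Part II**: if no two different members have the same star then `D` generates a copy of
`S₅`. -/
theorem partII (h : TT3 D) (hL : LocS3 D) (hnW : NoW D) (hne : D.Nonempty) :
    Nonempty (↥(Subgroup.closure D) ≃* Equiv.Perm (Fin 5)) := by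
  obtain ⟨d, hd⟩ := hne
  -- a path d – a – e – f in the commuting graph
  obtain ⟨a, ha, a', ha', haa'⟩ := star_exists2 hL hd
  have hda : d ∈ star D a := star_symm hd ha
  obtain ⟨e, he, hed⟩ : ∃ e ∈ star D a, e ≠ d := by
    obtain ⟨u, hu, v, hv, huv⟩ := star_exists2 hL ha.1
    by_cases hud : u = d
    · refine ⟨v, hv, ?_⟩
      rintro rfl
      exact huv (hud ▸ Commute.refl u)
    · exact ⟨u, hu, hud⟩
  have hae : a ∈ star D e := star_symm ha.1 he
  obtain ⟨f, hf, hfa⟩ : ∃ f ∈ star D e, f ≠ a := by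
    obtain ⟨u, hu, v, hv, huv⟩ := star_exists2 hL he.1
    by_cases hua : u = a
    · refine ⟨v, hv, ?_⟩
      rintro rfl
      exact huv (hua ▸ Commute.refl u)
    · exact ⟨u, hu, hua⟩
  have hnde : ¬ Commute d e := star_nc h hL ha.1 hda he (Ne.symm hed)
  have hnaf : ¬ Commute a f := star_nc h hL he.1 hae hf (Ne.symm hfa)
  have hndf : ¬ Commute d f := by
    intro hc
    have hfd : f ≠ d := by
      rintro rfl
      exact hnde hf.2.2.symm
    have : f ∈ star D d := ⟨hf.1, hfd, hc⟩
    exact hfa (common_nb h hL hnW hd ha he hed this hf)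
  -- the homomorphism from S₅
  obtain ⟨φ, h01, h12, h23, h34⟩ := Cfsg.Agent.Helper4.S5Pres.exists_hom a f d e (h.sq a ha.1)
    (h.sq f hf.1) (h.sq d hd) (h.sq e he.1) (h.cube a ha.1 f hf.1 hnaf)
    (h.cube f hf.1 d hd (fun hc => hndf hc.symm)) (h.cube d hd e he.1 hnde) ha.2.2.symm he.2.2
    hf.2.2.symm
  have hinj : Function.Injective φ := by
    apply Cfsg.Agent.Helper4.S5Pres.injective_of_ne_one
    rw [map_mul, h01, h12]
    intro h1
    apply hfa
    have : a = f⁻¹ := eq_inv_of_mul_eq_one_left h1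
    rw [h.inv hf.1] at this
    exact this.symm
  have h01' : φ (Equiv.swap 0 1) ∈ D := by rw [h01]; exact ha.1
  -- D is the set of images of transpositions
  have hDeq : D = φ '' {σ : Equiv.Perm (Fin 5) | σ.IsSwap} := by
    ext z
    constructor
    · intro hz
      by_contra hcon
      apply no_outside φ h hL hinj h01' hz
      intro i j hij heq
      exact hcon ⟨Equiv.swap i j, ⟨i, j, hij, rfl⟩, heq.symm⟩
    · rintro ⟨σ, ⟨i, j, hij, rfl⟩, rfl⟩
      exact swap_mem φ h h01' hij
  have hcl : Subgroup.closure D = φ.range := by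
    rw [hDeq, ← MonoidHom.map_closure, Equiv.Perm.closure_isSwap, ← MonoidHom.range_eq_map]
  exact ⟨(MulEquiv.subgroupCongr hcl).trans (MonoidHom.ofInjective hinj).symm⟩

end Cfsg.Agent.Helper4.TT5
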