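import Mathlib

set_option autoImplicit false

/-!
Elementary lemmas for groups of exponent dividing 6: the `A₄`-configuration lemma.
-/

namespace Cfsg.Agent.Helper4.ExpSix

variable {X : Type*} [Group X]

/-- a group in which all squares are trivial is commutative (elementwise version). -/
theorem comm_of_sq (a b : X) (ha : a ^ 2 = 1) (hb : b ^ 2 = 1) (hab : (a * b) ^ 2 = 1) :
    a * b = b * a := by
  have h1 : a⁻¹ = a := by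
    rw [inv_eq_iff_mul_eq_one, ← pow_two]; exact ha
  have h2 : b⁻¹ = b := by
    rw [inv_eq_iff_mul_eq_one, ← pow_two]; exact hb
  have h3 : (a * b)⁻¹ = a * b := by
    rw [inv_eq_iff_mul_eq_one, ← pow_two]; exact hab
  rw [mul_inv_rev, h1, h2] at h3
  exact h3.symm

/-- The `A₄` configuration: `s` of order 3 permuting `a, b, c` cyclically, `v` fixed by `b` and
inverted by `a` and `c`, with `v^3 = 1` and `(s v)^3 = 1`, forces `v = 1`. -/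
theorem eq_one_of_a4 (s a b c v : X) (hs : s ^ 3 = 1)
    (hab : s * a * s⁻¹ = b) (hbc : s * b * s⁻¹ = c) (hca : s * c * s⁻¹ = a)
    (hbv : b * v * b⁻¹ = v) (hav : a * v * a⁻¹ = v⁻¹) (hcv : c * v * c⁻¹ = v⁻¹)
    (hv3 : v ^ 3 = 1) (hN : (s * v) ^ 3 = 1) : v = 1 := by
  obtain ⟨v₂, hv₂⟩ : ∃ v₂, v₂ = s * v * s⁻¹ := ⟨_, rfl⟩
  obtain ⟨v₃, hv₃⟩ : ∃ v₃, v₃ = s * v₂ * s⁻¹ := ⟨_, rfl⟩
  -- E1
  have hE1 : v₂ * v₃ * v = 1 := by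
    have h0 : (s * v) ^ 3 = s * v * (s * v) * (s * v) := by rw [pow_succ, pow_two]
    have h1 : (s * v) ^ 3 = v₂ * v₃ * (s ^ 3 * v * (s ^ 3)⁻¹) * s ^ 3 := by
      rw [h0, hv₃, hv₂]; group
    rw [hs] at h1
    rw [h1] at hN
    simpa using hN
  -- action of a
  have ha2 : a * v₂ * a⁻¹ = v₂⁻¹ := by
    have : a * v₂ * a⁻¹ = s * (c * v * c⁻¹) * s⁻¹ := by
      rw [← hca, hv₂]; group
    rw [this, hcv, hv₂]; group
  have ha3 : a * v₃ * a⁻¹ = v₃ := by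
    have h0 : a = s * (s * b * s⁻¹) * s⁻¹ := by rw [hbc, hca]
    have : a * v₃ * a⁻¹ = s * (s * (b * v * b⁻¹) * s⁻¹) * s⁻¹ := by
      rw [hv₃, hv₂]
      conv_lhs => rw [h0]
      group
    rw [this, hbv, hv₃, hv₂]
  -- action of b
  have hb2 : b * v₂ * b⁻¹ = v₂⁻¹ := by
    have : b * v₂ * b⁻¹ = s * (a * v * a⁻¹) * s⁻¹ := by
      rw [← hab, hv₂]; group
    rw [this, hav, hv₂]; group
  -- E2: conjugate E1 by a
  have hE2 : v₂⁻¹ * v₃ * v⁻¹ = 1 := by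
    have h1 : a * (v₂ * v₃ * v) * a⁻¹ = (a * v₂ * a⁻¹) * (a * v₃ * a⁻¹) * (a * v * a⁻¹) := by group
    rw [hE1, ha2, ha3, hav] at h1
    rw [← h1]; group
  -- v₃ = v₂⁻¹ v⁻¹
  have h3 : v₃ = v₂⁻¹ * v⁻¹ := by
    have : v₃ = v₂⁻¹ * (v₂ * v₃ * v) * v⁻¹ := by group
    rw [this, hE1]; group
  -- E3 : v₂⁻¹ v₂⁻¹ v⁻¹ v⁻¹ = 1
  have hE3 : v ^ 2 = (v₂⁻¹) ^ 2 := by
    rw [h3] at hE2
    have h4 : v₂⁻¹ * (v₂⁻¹ * v⁻¹) * v⁻¹ = (v₂⁻¹) ^ 2 * (v ^ 2)⁻¹ := by group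
    rw [h4] at hE2
    exact (mul_inv_eq_one.mp hE2).symm
  -- E4: conjugate by b
  have hE4 : v ^ 2 = v₂ ^ 2 := by
    have h1 : b * (v ^ 2) * b⁻¹ = (b * v * b⁻¹) ^ 2 := conj_pow.symm
    have h2 : b * ((v₂⁻¹) ^ 2) * b⁻¹ = ((b * v₂ * b⁻¹)⁻¹) ^ 2 := by
      have h9 : (b * v₂ * b⁻¹)⁻¹ = b * v₂⁻¹ * b⁻¹ := by group
      rw [h9, conj_pow]
    rw [hbv] at h1
    rw [hb2, inv_inv] at h2
    rw [← h1, hE3, h2]
  have h5 : v₂ ^ 4 = 1 := by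
    have : v₂ ^ 2 = (v₂⁻¹) ^ 2 := by rw [← hE4, hE3]
    calc v₂ ^ 4 = v₂ ^ 2 * v₂ ^ 2 := by group
      _ = (v₂⁻¹) ^ 2 * v₂ ^ 2 := by rw [← this]
      _ = 1 := by group
  have h7 : v₂ ^ 3 = 1 := by
    have : v₂ ^ 3 = s * v ^ 3 * s⁻¹ := by rw [hv₂, conj_pow]
    rw [this, hv3]; group
  have h8 : v₂ = 1 := by
    have : v₂ = v₂ ^ 4 * (v₂ ^ 3)⁻¹ := by group
    rw [this, h5, h7]; group
  rw [hv₂] at h8
  have : v = s⁻¹ * (s * v * s⁻¹) * s := by group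
  rw [this, h8]; group

end Cfsg.Agent.Helper4.ExpSix
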