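import Mathlib
import Cfsg.Prelude.Def_Local
import Cfsg.Agent.Helper4.ExpSixA
import Cfsg.Agent.Helper4.SolvPSolv
import Cfsg.Agent.Helper4.HallHigman
import Cfsg.Agent.Helper4.Camina
import Cfsg.Agent.Helper2.GenHyper
import Cfsg.Agent.Helper5.Cores
import Cfsg.Agent.Helper6.BurnsidePQ

set_option autoImplicit false

/-!
Groups of exponent dividing 6: solvability, and the key lemma for 3-length one.
-/

namespace Cfsg.Agent.Helper4.ExpSix

universe u

variable {X : Type u} [Group X] [Finite X]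

/-- the order of a group of exponent dividing 6 is `2^a 3^b`. -/
theorem card_eq_of_exp_six (h6 : ∀ x : X, x ^ 6 = 1) : ∃ a b : ℕ, Nat.card X = 2 ^ a * 3 ^ b := by
  have hn0 : Nat.card X ≠ 0 := Nat.card_pos.ne'
  have hprimes : ∀ r : ℕ, r.Prime → r ∣ Nat.card X → r = 2 ∨ r = 3 := by
    intro r hr hrd
    haveI : Fact r.Prime := ⟨hr⟩
    obtain ⟨x, hx⟩ := exists_prime_orderOf_dvd_card' r hrd
    have h1 : r ∣ 6 := hx ▸ orderOf_dvd_of_pow_eq_one (h6 x)
    have h2 : r ∣ 2 * 3 := h1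
    rcases (Nat.Prime.dvd_mul hr).1 h2 with h | h
    · left; exact (Nat.prime_dvd_prime_iff_eq hr Nat.prime_two).1 h
    · right; exact (Nat.prime_dvd_prime_iff_eq hr Nat.prime_three).1 h
  refine ⟨(Nat.card X).factorization 2, (ordCompl[2] (Nat.card X)).primeFactorsList.length, ?_⟩
  have hm0 : ordCompl[2] (Nat.card X) ≠ 0 := (Nat.ordCompl_pos 2 hn0).ne'
  have h3 : ordCompl[2] (Nat.card X) = 3 ^ (ordCompl[2] (Nat.card X)).primeFactorsList.length := by
    apply Nat.eq_prime_pow_of_unique_prime_dvd hm0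
    intro d hd hdd
    rcases hprimes d hd (hdd.trans (Nat.ordCompl_dvd _ 2)) with h | h
    · exfalso
      subst h
      exact Nat.not_dvd_ordCompl Nat.prime_two hn0 hdd
    · exact h
  rw [← h3]
  exact (Nat.ordProj_mul_ordCompl_eq_self _ 2).symm

theorem isSolvable_of_exp_six (h6 : ∀ x : X, x ^ 6 = 1) : Group.IsSolvable X := by
  obtain ⟨a, b, hab⟩ := card_eq_of_exp_six h6
  exact Cfsg.Agent.Helper6.burnside_pq 2 3 a b Nat.prime_two Nat.prime_three hab

omit [Finite X] in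
/-- elements of a `p`-subgroup have order dividing `p` when `p² ∤ 6`. -/
theorem pow_eq_one_of_isPGroup (h6 : ∀ x : X, x ^ 6 = 1) (p : ℕ) (hp : p.Prime) (hp6 : ¬ p ^ 2 ∣ 6)
    (T : Subgroup X) (hT : IsPGroup p T) (t : X) (ht : t ∈ T) : t ^ p = 1 := by
  obtain ⟨k, hk⟩ := hT ⟨t, ht⟩
  have hk' : t ^ p ^ k = 1 := by
    have := congrArg Subtype.val hk
    simpa using this
  obtain ⟨j, -, hj⟩ := (Nat.dvd_prime_pow hp).1 (orderOf_dvd_of_pow_eq_one hk')
  have h1 : orderOf t ∣ 6 := orderOf_dvd_of_pow_eq_one (h6 t)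
  have hj1 : j ≤ 1 := by
    by_contra hcon
    push_neg at hcon
    apply hp6
    rw [hj] at h1
    exact (pow_dvd_pow p hcon).trans h1
  have h2 : orderOf t ∣ p := by
    rw [hj]
    calc p ^ j ∣ p ^ 1 := pow_dvd_pow p hj1
      _ = p := pow_one p
  exact orderOf_dvd_iff_pow_eq_one.mp h2

/-- an element of a 3-group whose square is trivial is trivial -/
theorem eq_one_of_sq_of_three (T : Subgroup X) (hT : IsPGroup 3 T) (t : X) (ht : t ∈ T)
    (h2 : t ^ 2 = 1) : t = 1 := by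
  obtain ⟨k, hk⟩ := hT ⟨t, ht⟩
  have hk' : t ^ 3 ^ k = 1 := by
    have := congrArg Subtype.val hk
    simpa using this
  have h1 : orderOf t ∣ 2 := orderOf_dvd_of_pow_eq_one h2
  have h3 : orderOf t ∣ 3 ^ k := orderOf_dvd_of_pow_eq_one hk'
  have hcop : Nat.Coprime 2 (3 ^ k) := Nat.Coprime.pow_right _ (by norm_num)
  have : orderOf t = 1 := Nat.eq_one_of_dvd_coprimes hcop h1 h3
  exact orderOf_eq_one_iff.mp this


/-- `(s v)^3 = 1` for `s^3 = 1` and `v` in a normal 3-subgroup -/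
theorem mul_pow_three_eq_one (h6 : ∀ x : X, x ^ 6 = 1) (P : Subgroup X) [P.Normal] (hP : IsPGroup 3 P)
    (s v : X) (hs : s ^ 3 = 1) (hv : v ∈ P) : (s * v) ^ 3 = 1 := by
  have h0 : (s * v) ^ 3 = s * v * (s * v) * (s * v) := by rw [pow_succ, pow_two]
  have h1 : (s * v) ^ 3 = (s * v * s⁻¹) * (s * (s * v * s⁻¹) * s⁻¹) * (s ^ 3 * v * (s ^ 3)⁻¹) * s ^ 3 := by
    rw [h0]; group
  rw [hs] at h1
  have hmem : (s * v) ^ 3 ∈ P := by
    rw [h1]
    have h2 : s * v * s⁻¹ ∈ P := Subgroup.Normal.conj_mem inferInstance v hv s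
    have h3 : s * (s * v * s⁻¹) * s⁻¹ ∈ P := Subgroup.Normal.conj_mem inferInstance _ h2 s
    have h4 : (1 : X) * v * (1 : X)⁻¹ ∈ P := by simpa using hv
    exact P.mul_mem (P.mul_mem (P.mul_mem h2 h3) h4) P.one_mem
  apply eq_one_of_sq_of_three P hP _ hmem
  rw [← pow_mul]
  exact h6 _

/-- Main lemma for the prime 3. -/
theorem not_dvd_index_pCore_three (h6 : ∀ x : X, x ^ 6 = 1) (hO : Cfsg.pPrimeCore 3 X = ⊥) :
    ¬ 3 ∣ (Cfsg.pCore 3 X).index := by
  classical
  intro hdvd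
  haveI : Fact (Nat.Prime 3) := ⟨Nat.prime_three⟩
  haveI : Fact (Nat.Prime 2) := ⟨Nat.prime_two⟩
  have hsolX : Group.IsSolvable X := isSolvable_of_exp_six h6
  have hsol3 : Cfsg.IsPSolvable 3 X := SolvPSolv.isPSolvable_of_isSolvable 3 hsolX
  obtain ⟨P, hPdef⟩ : ∃ P, P = Cfsg.pCore 3 X := ⟨_, rfl⟩
  haveI hPn : P.Normal := hPdef ▸ inferInstance
  have hPp : IsPGroup 3 P := hPdef ▸ Cfsg.Agent.Helper5.isPGroup_pCore 3
  have hCP : Subgroup.centralizer (P : Set X) ≤ P :=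
    hPdef ▸ centralizer_pCore_le_of_isPSolvable hsol3 hO
  rw [← hPdef] at hdvd
  obtain ⟨iP, hiP⟩ := IsPGroup.iff_card.mp hPp
  -- the quotient Y
  have h6Y : ∀ y : X ⧸ P, y ^ 6 = 1 := by
    intro y
    obtain ⟨x, rfl⟩ := QuotientGroup.mk_surjective y
    rw [← QuotientGroup.mk_pow, h6]; rfl
  have hsolY : Group.IsSolvable (X ⧸ P) := inferInstance
  have hmksurj := QuotientGroup.mk'_surjective P
  -- (Y1)
  have hY1 : Cfsg.pCore 3 (X ⧸ P) = ⊥ := by
    have hc := Cfsg.Agent.Helper4.card_comap_mk' P (Cfsg.pCore 3 (X ⧸ P))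
    obtain ⟨j, hj⟩ := IsPGroup.iff_card.mp (Cfsg.Agent.Helper5.isPGroup_pCore (G := X ⧸ P) 3)
    have hK3 : IsPGroup 3 ↥((Cfsg.pCore 3 (X ⧸ P)).comap (QuotientGroup.mk' P)) := by
      apply IsPGroup.of_card (n := iP + j)
      rw [hc, hiP, hj, pow_add]
    have hle : (Cfsg.pCore 3 (X ⧸ P)).comap (QuotientGroup.mk' P) ≤ P :=
      (Cfsg.Agent.Helper5.le_pCore inferInstance hK3).trans (le_of_eq hPdef.symm)
    rw [eq_bot_iff]
    intro y hy
    obtain ⟨x, rfl⟩ := hmksurj y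
    rw [Subgroup.mem_bot]
    exact (QuotientGroup.eq_one_iff x).mpr (hle hy)
  -- (Y2)
  have hY2 : Cfsg.pPrimeCore 2 (X ⧸ P) = ⊥ := by
    obtain ⟨a, b, hab⟩ := card_eq_of_exp_six h6Y
    have hcop : (Nat.card (Cfsg.pPrimeCore 2 (X ⧸ P))).Coprime 2 :=
      Cfsg.Agent.Helper5.coprime_card_pPrimeCore 2
    have hd : Nat.card (Cfsg.pPrimeCore 2 (X ⧸ P)) ∣ 2 ^ a * 3 ^ b := by
      rw [← hab]; exact Subgroup.card_subgroup_dvd_card _
    have hd' : Nat.card (Cfsg.pPrimeCore 2 (X ⧸ P)) ∣ 3 ^ b := by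
      rw [mul_comm] at hd
      exact Nat.Coprime.dvd_of_dvd_mul_right (Nat.Coprime.pow_right a hcop) hd
    obtain ⟨j, -, hj⟩ := (Nat.dvd_prime_pow Nat.prime_three).1 hd'
    have hp3 : IsPGroup 3 ↥(Cfsg.pPrimeCore 2 (X ⧸ P)) := IsPGroup.of_card hj
    have := Cfsg.Agent.Helper5.le_pCore (inferInstance : (Cfsg.pPrimeCore 2 (X ⧸ P)).Normal) hp3
    rw [hY1] at this
    exact le_bot_iff.mp this
  -- (Y3)
  have hsol2Y : Cfsg.IsPSolvable 2 (X ⧸ P) := SolvPSolv.isPSolvable_of_isSolvable 2 hsolY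
  have hCY := centralizer_pCore_le_of_isPSolvable hsol2Y hY2
  obtain ⟨O2, hO2def⟩ : ∃ O2, O2 = Cfsg.pCore 2 (X ⧸ P) := ⟨_, rfl⟩
  rw [← hO2def] at hCY
  haveI hO2n : O2.Normal := hO2def ▸ inferInstance
  have hO2p : IsPGroup 2 O2 := hO2def ▸ Cfsg.Agent.Helper5.isPGroup_pCore 2
  -- (Y4)
  have hcardY : 3 ∣ Nat.card (X ⧸ P) := by rwa [← Subgroup.index_eq_card]
  obtain ⟨sb, hsb⟩ := exists_prime_orderOf_dvd_card' 3 hcardY
  have hsb3 : sb ^ 3 = 1 := by rw [← hsb]; exact pow_orderOf_eq_one sb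
  have hsbO2 : sb ∉ O2 := by
    intro hmem
    obtain ⟨k, hk⟩ := hO2p ⟨sb, hmem⟩
    have hk' : sb ^ 2 ^ k = 1 := by
      have := congrArg Subtype.val hk
      simpa using this
    have h1 : 3 ∣ 2 ^ k := hsb ▸ orderOf_dvd_of_pow_eq_one hk'
    have h2 := Nat.Prime.dvd_of_dvd_pow Nat.prime_three h1
    omega
  obtain ⟨ab, habO2, hab⟩ : ∃ ab ∈ O2, ab * sb ≠ sb * ab := by
    by_contra hcon
    push_neg at hcon
    apply hsbO2
    apply hCY
    rw [Subgroup.mem_centralizer_iff]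
    exact hcon
  -- (L1)
  obtain ⟨K, hKdef⟩ : ∃ K, K = O2.comap (QuotientGroup.mk' P) := ⟨_, rfl⟩
  haveI hKn : K.Normal := hKdef ▸ inferInstance
  obtain ⟨jK, hjK⟩ := IsPGroup.iff_card.mp hO2p
  have hcardK : Nat.card K = 3 ^ iP * 2 ^ jK := by
    rw [hKdef, Cfsg.Agent.Helper4.card_comap_mk' P O2, hiP, hjK]
  let T : Sylow 2 ↥K := default
  obtain ⟨T', hT'def⟩ : ∃ T', T' = (T : Subgroup K).map K.subtype := ⟨_, rfl⟩
  have hT'K : T' ≤ K := hT'def ▸ Subgroup.map_subtype_le _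
  have hT'p : IsPGroup 2 T' := hT'def ▸ T.isPGroup'.map _
  have hcardT' : Nat.card T' = 2 ^ jK := by
    rw [hT'def, Subgroup.card_map_of_injective K.subtype_injective, T.card_eq_multiplicity, hcardK]
    congr 1
    rw [Nat.factorization_mul (by positivity) (by positivity), Nat.Prime.factorization_pow Nat.prime_three,
      Nat.Prime.factorization_pow Nat.prime_two]
    simp
  have hsqT' : ∀ t ∈ T', t ^ 2 = 1 :=
    fun t ht => pow_eq_one_of_isPGroup h6 2 Nat.prime_two (by norm_num) T' hT'p t ht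
  have hcommT' : ∀ t ∈ T', ∀ u ∈ T', t * u = u * t :=
    fun t ht u hu => comm_of_sq t u (hsqT' t ht) (hsqT' u hu) (hsqT' _ (T'.mul_mem ht hu))
  have hT'P : ∀ t ∈ T', t ∈ P → t = 1 :=
    fun t ht htP => eq_one_of_sq_of_three P hPp t htP (hsqT' t ht)
  -- image of T' is O2
  have hmapT' : T'.map (QuotientGroup.mk' P) = O2 := by
    have hle : T'.map (QuotientGroup.mk' P) ≤ O2 := by
      rintro _ ⟨t, ht, rfl⟩
      have := hT'K ht
      rw [hKdef] at this
      exact this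
    apply Subgroup.eq_of_le_of_card_ge hle
    rw [hjK, ← hcardT']
    have hinj : Function.Injective ((QuotientGroup.mk' P).comp T'.subtype) := by
      rw [injective_iff_map_eq_one]
      intro t ht
      apply Subtype.ext
      have h1 : (t : X) ∈ P := (QuotientGroup.eq_one_iff (t : X)).mp ht
      exact hT'P t t.2 h1
    have hrange : ((QuotientGroup.mk' P).comp T'.subtype).range = T'.map (QuotientGroup.mk' P) := by
      rw [MonoidHom.range_comp, Subgroup.range_subtype]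
    rw [← hrange]
    exact (Nat.card_congr (MonoidHom.ofInjective hinj).toEquiv).le
  -- Frattini
  have hFr : Subgroup.normalizer (T' : Set X) ⊔ K = ⊤ := by
    rw [hT'def]; exact Sylow.normalizer_sup_eq_top T
  have hsurjN : ∀ y : X ⧸ P, ∃ m ∈ Subgroup.normalizer (T' : Set X), QuotientGroup.mk' P m = y := by
    intro y
    obtain ⟨x, rfl⟩ := hmksurj y
    have hx : x ∈ ((Subgroup.normalizer (T' : Set X) ⊔ K : Subgroup X) : Set X) := by
      rw [hFr]; trivial
    rw [Subgroup.mul_normal] at hx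
    obtain ⟨m, hm, k, hk, rfl⟩ := Set.mem_mul.mp hx
    have hk' : QuotientGroup.mk' P k ∈ O2 := by
      have : k ∈ K := hk
      rw [hKdef] at this
      exact this
    rw [← hmapT'] at hk'
    obtain ⟨t, ht, htk⟩ := hk'
    refine ⟨m * t, (Subgroup.normalizer (T' : Set X)).mul_mem hm (Subgroup.le_normalizer ht), ?_⟩
    rw [map_mul, map_mul, htk]
  -- (L2)
  obtain ⟨m, hmN, hmsb⟩ := hsurjN sb
  obtain ⟨s, hsdef⟩ : ∃ s, s = m ^ 4 := ⟨_, rfl⟩
  have hsN : s ∈ Subgroup.normalizer (T' : Set X) := hsdef ▸ Subgroup.pow_mem _ hmN 4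
  have hssb : QuotientGroup.mk' P s = sb := by
    rw [hsdef, map_pow, hmsb]
    calc sb ^ 4 = sb ^ 3 * sb := pow_succ sb 3
      _ = sb := by rw [hsb3, one_mul]
  have hs3 : s ^ 3 = 1 := by
    rw [hsdef, ← pow_mul]
    calc m ^ (4 * 3) = (m ^ 6) ^ 2 := by rw [← pow_mul]
      _ = 1 := by rw [h6, one_pow]
  obtain ⟨a, haT', haab⟩ : ∃ a ∈ T', QuotientGroup.mk' P a = ab := by
    have : ab ∈ T'.map (QuotientGroup.mk' P) := by rw [hmapT']; exact habO2
    exact this
  have hsa : s * a ≠ a * s := by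
    intro h
    apply hab
    rw [← haab, ← hssb, ← map_mul, ← map_mul, h]
  have hconjT' : ∀ t ∈ T', s * t * s⁻¹ ∈ T' := fun t ht => (Subgroup.mem_normalizer_iff.mp hsN t).mp ht
  -- (L4)
  obtain ⟨b, hbdef⟩ : ∃ b, b = s * a * s⁻¹ := ⟨_, rfl⟩
  obtain ⟨c, hcdef⟩ : ∃ c, c = s * b * s⁻¹ := ⟨_, rfl⟩
  have hbT' : b ∈ T' := hbdef ▸ hconjT' a haT'
  have hcT' : c ∈ T' := hcdef ▸ hconjT' b hbT'
  have hsc : s * c * s⁻¹ = a := by
    have hs3' : s * s * s = 1 := by rw [← hs3, pow_succ, pow_two]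
    have : s * c * s⁻¹ = (s * s * s) * a * (s * s * s)⁻¹ := by rw [hcdef, hbdef]; group
    rw [this, hs3']; group
  have ha2 := hsqT' a haT'
  have hb2 := hsqT' b hbT'
  have hc2 := hsqT' c hcT'
  obtain ⟨a', ha'def⟩ : ∃ a', a' = a * b := ⟨_, rfl⟩
  obtain ⟨b', hb'def⟩ : ∃ b', b' = b * c := ⟨_, rfl⟩
  obtain ⟨c', hc'def⟩ : ∃ c', c' = c * a := ⟨_, rfl⟩
  have ha'T' : a' ∈ T' := ha'def ▸ T'.mul_mem haT' hbT'
  have hb'T' : b' ∈ T' := hb'def ▸ T'.mul_mem hbT' hcT'
  have hc'T' : c' ∈ T' := hc'def ▸ T'.mul_mem hcT' haT'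
  have hsa' : s * a' * s⁻¹ = b' := by
    have : s * a' * s⁻¹ = (s * a * s⁻¹) * (s * b * s⁻¹) := by rw [ha'def]; group
    rw [this, ← hbdef, ← hcdef, hb'def]
  have hsb' : s * b' * s⁻¹ = c' := by
    have : s * b' * s⁻¹ = (s * b * s⁻¹) * (s * c * s⁻¹) := by rw [hb'def]; group
    rw [this, ← hcdef, hsc, hc'def]
  have hsc' : s * c' * s⁻¹ = a' := by
    have : s * c' * s⁻¹ = (s * c * s⁻¹) * (s * a * s⁻¹) := by rw [hc'def]; group
    rw [this, hsc, ← hbdef, ha'def]
  have ha'ne : a' ≠ 1 := by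
    intro h
    apply hsa
    rw [ha'def] at h
    have h1 : b = a := by
      have : b = a⁻¹ := eq_inv_of_mul_eq_one_right h
      rw [this, inv_eq_iff_mul_eq_one, ← pow_two]; exact ha2
    rw [hbdef] at h1
    calc s * a = (s * a * s⁻¹) * s := by group
      _ = a * s := by rw [h1]
  have hb'ne : b' ≠ 1 := by
    intro h
    apply ha'ne
    rw [h] at hsa'
    have : a' = s⁻¹ * (s * a' * s⁻¹) * s := by group
    rw [this, hsa']; group
  have hc'ne : c' ≠ 1 := by
    intro h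
    apply hb'ne
    rw [h] at hsb'
    have : b' = s⁻¹ * (s * b' * s⁻¹) * s := by group
    rw [this, hsb']; group
  have ha'2 := hsqT' a' ha'T'
  have hb'2 := hsqT' b' hb'T'
  have hc'2 := hsqT' c' hc'T'
  have hprod : a' * b' = c' := by
    rw [ha'def, hb'def, hc'def]
    calc a * b * (b * c) = a * (b * b) * c := by group
      _ = a * c := by rw [← pow_two, hb2, mul_one]
      _ = c * a := hcommT' a haT' c hcT'
  -- all products
  have haa : a' * a' = 1 := by rw [← pow_two]; exact ha'2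
  have hbb : b' * b' = 1 := by rw [← pow_two]; exact hb'2
  have hcc : c' * c' = 1 := by rw [← pow_two]; exact hc'2
  have hba : b' * a' = c' := by rw [hcommT' b' hb'T' a' ha'T']; exact hprod
  have hac : a' * c' = b' := by rw [← hprod, ← mul_assoc, haa, one_mul]
  have hca : c' * a' = b' := by rw [hcommT' c' hc'T' a' ha'T']; exact hac
  have hbc : b' * c' = a' := by rw [← hba, ← mul_assoc, hbb, one_mul]
  have hcb : c' * b' = a' := by rw [hcommT' c' hc'T' b' hb'T']; exact hbc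
  have ha'b' : a' ≠ b' := by
    intro h
    apply hc'ne
    rw [← hprod, ← h, haa]
  have hinv : ∀ x : X, x ^ 2 = 1 → x⁻¹ = x := by
    intro x hx
    rw [inv_eq_iff_mul_eq_one, ← pow_two]; exact hx
  let T₀ : Subgroup X :=
    { carrier := {x | x = 1 ∨ x = a' ∨ x = b' ∨ x = c'}
      one_mem' := Or.inl rfl
      mul_mem' := by
        intro x y hx hy
        rcases hx with rfl | rfl | rfl | rfl <;> rcases hy with rfl | rfl | rfl | rfl
        · left; rw [one_mul]
        · right; left; rw [one_mul]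
        · right; right; left; rw [one_mul]
        · right; right; right; rw [one_mul]
        · right; left; rw [mul_one]
        · left; exact haa
        · right; right; right; exact hprod
        · right; right; left; exact hac
        · right; right; left; rw [mul_one]
        · right; right; right; exact hba
        · left; exact hbb
        · right; left; exact hbc
        · right; right; right; rw [mul_one]
        · right; right; left; exact hca
        · right; left; exact hcb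
        · left; exact hcc
      inv_mem' := by
        intro x hx
        rcases hx with rfl | rfl | rfl | rfl
        · left; exact inv_one
        · right; left; exact hinv _ ha'2
        · right; right; left; exact hinv _ hb'2
        · right; right; right; exact hinv _ hc'2 }
  have hT₀mem : ∀ x, x ∈ T₀ ↔ (x = 1 ∨ x = a' ∨ x = b' ∨ x = c') := fun x => Iff.rfl
  have hT₀T' : T₀ ≤ T' := by
    intro x hx
    rcases (hT₀mem x).mp hx with rfl | rfl | rfl | rfl
    · exact T'.one_mem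
    · exact ha'T'
    · exact hb'T'
    · exact hc'T'
  have hT₀ea : Cfsg.IsElementaryAbelian 2 T₀ := by
    refine ⟨⟨⟨fun x y => Subtype.ext (hcommT' x.1 (hT₀T' x.2) y.1 (hT₀T' y.2))⟩⟩, ?_⟩
    intro t ht
    exact hsqT' t (hT₀T' ht)
  have hcardT₀ : 3 ≤ Nat.card T₀ := by
    have h1 : ({1, a', b'} : Set X) ⊆ (T₀ : Set X) := by
      intro x hx
      rcases hx with rfl | rfl | rfl
      · exact Or.inl rfl
      · exact Or.inr (Or.inl rfl)
      · exact Or.inr (Or.inr (Or.inl rfl))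
    have h2 : ({1, a', b'} : Set X).ncard = 3 :=
      Set.ncard_eq_three.mpr ⟨1, a', b', ha'ne.symm, hb'ne.symm, ha'b', rfl⟩
    have h3 := Set.ncard_le_ncard h1 (Set.toFinite _)
    rw [h2] at h3
    rwa [← Nat.card_coe_set_eq] at h3
  have h2P : ¬ 2 ∣ Nat.card P := by
    rw [hiP]
    intro h
    have := Nat.Prime.dvd_of_dvd_pow Nat.prime_two h
    omega
  have hgen := Cfsg.Agent.Helper2.le_iSup_hyperplane_centralizers 2 (Nat.card T₀) T₀ P rfl hT₀ea h2P
    (by rw [Subgroup.normalizer_eq_top_iff.mpr hPn]; exact le_top)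
  -- (L5)
  have hex : ∃ y, (y = b' ∨ y = c') ∧ ∃ u ∈ P, y * u = u * y ∧ a' * u ≠ u * a' := by
    by_contra hcon
    push_neg at hcon
    have hPle : P ≤ Subgroup.centralizer ({a'} : Set X) := by
      refine hgen.trans (iSup_le ?_)
      rintro ⟨B, hBT, hBidx⟩
      have hBne : B ≠ ⊥ := by
        intro h
        rw [h, Subgroup.relIndex_bot_left] at hBidx
        omega
      obtain ⟨y, hyB, hy1⟩ := (Subgroup.ne_bot_iff_exists_ne_one (H := B)).mp hBne |>.imp
        (fun y hy => hy) |> fun ⟨y, hy⟩ => (⟨y.1, y.2, fun h => hy (Subtype.ext h)⟩ : ∃ y : X, y ∈ B ∧ y ≠ 1)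
      intro u hu
      obtain ⟨huP, huC⟩ := Subgroup.mem_inf.mp hu
      have huy : y * u = u * y := (Subgroup.mem_centralizer_iff.mp huC) y hyB
      rw [Subgroup.mem_centralizer_singleton_iff]
      rcases (hT₀mem y).mp (hBT hyB) with h | h | h | h
      · exact absurd h hy1
      · rw [← h]; exact huy.symm
      · exact (hcon y (Or.inl h) u huP huy).symm
      · exact (hcon y (Or.inr h) u huP huy).symm
    have ha'C : a' ∈ Subgroup.centralizer (P : Set X) := by
      rw [Subgroup.mem_centralizer_iff]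
      intro u hu
      have := hPle hu
      rw [Subgroup.mem_centralizer_singleton_iff] at this
      exact this
    exact ha'ne (hT'P a' ha'T' (hCP ha'C))
  obtain ⟨y, hy, u, huP, huy, hau⟩ := hex
  -- (L6)
  obtain ⟨v, hvdef⟩ : ∃ v, v = u⁻¹ * (a' * u * a'⁻¹) := ⟨_, rfl⟩
  have hvP : v ∈ P := by
    rw [hvdef]
    exact P.mul_mem (P.inv_mem huP) (hPn.conj_mem u huP a')
  have hv1 : v ≠ 1 := by
    intro h
    apply hau
    rw [hvdef] at h
    have h1 : a' * u * a'⁻¹ = u := by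
      have := eq_inv_of_mul_eq_one_right h
      rw [inv_inv] at this
      exact this
    calc a' * u = (a' * u * a'⁻¹) * a' := by group
      _ = u * a' := by rw [h1]
  have hyT' : y ∈ T' := by rcases hy with rfl | rfl <;> assumption
  have hya' : y * a' = a' * y := hcommT' y hyT' a' ha'T'
  have hyv : y * v * y⁻¹ = v := by
    have h1 : y * u * y⁻¹ = u := by rw [huy]; group
    have h2 : y * v * y⁻¹ = (y * u * y⁻¹)⁻¹ * ((y * a' * y⁻¹) * (y * u * y⁻¹) * (y * a' * y⁻¹)⁻¹) := by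
      rw [hvdef]; group
    have h3 : y * a' * y⁻¹ = a' := by rw [hya']; group
    rw [h2, h1, h3, ← hvdef]
  have hav : a' * v * a'⁻¹ = v⁻¹ := by
    have h1 : a'⁻¹ = a' := hinv _ ha'2
    have h2 : a' * v * a'⁻¹ = (a' * u * a'⁻¹)⁻¹ * ((a' * a') * u * (a' * a')⁻¹) := by
      rw [hvdef]; group
    rw [h2, haa, hvdef]; group
  have hv3 : v ^ 3 = 1 := pow_eq_one_of_isPGroup h6 3 Nat.prime_three (by norm_num) P hPp v hvP
  have hN : (s * v) ^ 3 = 1 := mul_pow_three_eq_one h6 P hPp s v hs3 hvP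
  have hconj_mul : ∀ x z : X, (x * z) * v * (x * z)⁻¹ = x * (z * v * z⁻¹) * x⁻¹ := by
    intro x z; group
  have hconj_inv : ∀ x : X, x * v⁻¹ * x⁻¹ = (x * v * x⁻¹)⁻¹ := by
    intro x; group
  apply hv1
  rcases hy with rfl | rfl
  · -- y = b' : fixed by b', inverted by a' and c' = a' b'
    have hcv : c' * v * c'⁻¹ = v⁻¹ := by
      rw [← hprod, hconj_mul, hyv, hav]
    exact eq_one_of_a4 s a' y c' v hs3 hsa' hsb' hsc' hyv hav hcv hv3 hN
  · -- y = c' : fixed by c', inverted by a' and b' = a' c'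
    have hbv : b' * v * b'⁻¹ = v⁻¹ := by
      rw [← hac, hconj_mul, hyv, hav]
    exact eq_one_of_a4 s b' y a' v hs3 hsb' hsc' hsa' hyv hbv hav hv3 hN

end Cfsg.Agent.Helper4.ExpSix
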