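import Mathlib

set_option autoImplicit false

/-!
# S1615 (Fischer), piece F10: the 3-adic arithmetic
(helper4; blueprint `notes/helper1_S1615_blueprint.md` by helper1)
-/

namespace Cfsg.Agent.Helper1.Fo3

/-- a square is never `3 ^ f * m` with `m ≡ 2 (mod 3)` -/
theorem h4_sq_ne_three_pow_mul : ∀ (f s m : ℕ), m % 3 = 2 → s ^ 2 ≠ 3 ^ f * m := by
  intro f
  induction f using Nat.strong_induction_on with
  | _ f ih =>
    intro s m hm hs
    match f, ih with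
    | 0, _ =>
      rw [pow_zero, one_mul] at hs
      have h1 : s ^ 2 % 3 = 2 := by rw [hs]; exact hm
      have h2 : s % 3 = 0 ∨ s % 3 = 1 ∨ s % 3 = 2 := by omega
      rcases h2 with h | h | h <;> simp [pow_two, Nat.mul_mod, h] at h1
    | 1, _ =>
      rw [pow_one] at hs
      have h3 : 3 ∣ s ^ 2 := ⟨m, hs⟩
      have h3s : 3 ∣ s := Nat.Prime.dvd_of_dvd_pow Nat.prime_three h3
      obtain ⟨r, rfl⟩ := h3s
      have : 3 * (3 * r ^ 2) = 3 * m := by rw [← hs]; ring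
      have h4 : 3 * r ^ 2 = m := Nat.eq_of_mul_eq_mul_left (by norm_num) this
      omega
    | (f + 2), ih =>
      have h3 : 3 ∣ s ^ 2 := ⟨3 ^ (f + 1) * m, by rw [hs]; ring⟩
      have h3s : 3 ∣ s := Nat.Prime.dvd_of_dvd_pow Nat.prime_three h3
      obtain ⟨r, rfl⟩ := h3s
      have : 9 * r ^ 2 = 9 * (3 ^ f * m) := by
        have e1 : (3 * r) ^ 2 = 9 * r ^ 2 := by ring
        have e2 : 3 ^ (f + 2) * m = 9 * (3 ^ f * m) := by ring
        rw [← e1, hs, e2]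
      have h4 : r ^ 2 = 3 ^ f * m := Nat.eq_of_mul_eq_mul_left (by norm_num) this
      exact ih f (by omega) r m hm h4

/-- F10: the arithmetic -/
theorem arith {a f s : ℕ} (hf : f < a) (hs : s ^ 2 = (3 ^ f) ^ 2 + 4 * (3 ^ a - 3 ^ f)) :
    a = 1 := by
  obtain ⟨d, rfl⟩ : ∃ d, a = f + (d + 1) := ⟨a - f - 1, by omega⟩
  have hpow : 3 ^ (f + (d + 1)) = 3 ^ f * (3 * 3 ^ d) := by
    rw [pow_add, pow_succ]; ring
  have hpos : 1 ≤ 3 ^ d := Nat.one_le_pow _ _ (by norm_num)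
  have hposf : 1 ≤ 3 ^ f := Nat.one_le_pow _ _ (by norm_num)
  have hsub : 3 ^ (f + (d + 1)) - 3 ^ f = 3 ^ f * (3 * 3 ^ d - 1) := by
    rw [hpow, Nat.mul_sub, mul_one]
  rw [hsub] at hs
  rcases Nat.eq_zero_or_pos f with hf0 | hf0
  · -- f = 0: s ^ 2 = 4 * 3 ^ (d+1) - 3
    subst hf0
    rcases Nat.eq_zero_or_pos d with hd0 | hd0
    · subst hd0; rfl
    · exfalso
      obtain ⟨e, rfl⟩ : ∃ e, d = e + 1 := ⟨d - 1, by omega⟩
      simp only [pow_zero, one_pow, one_mul] at hs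
      have h9 : 3 * 3 ^ (e + 1) = 9 * 3 ^ e := by rw [pow_succ]; ring
      have hpe : 1 ≤ 3 ^ e := Nat.one_le_pow _ _ (by norm_num)
      have h1 : s ^ 2 % 9 = 6 := by
        rw [hs, h9]; omega
      have h2 : s % 9 < 9 := Nat.mod_lt _ (by norm_num)
      have h3 : s ^ 2 % 9 = (s % 9) ^ 2 % 9 := by rw [Nat.pow_mod]
      rw [h3] at h1
      interval_cases (s % 9) <;> omega
  · -- f ≥ 1: contradiction
    exfalso
    obtain ⟨g, rfl⟩ : ∃ g, f = g + 1 := ⟨f - 1, by omega⟩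
    have hm : s ^ 2 = 3 ^ (g + 1) * (3 ^ (g + 1) + 4 * (3 * 3 ^ d - 1)) := by
      rw [hs]; ring
    have hmod : (3 ^ (g + 1) + 4 * (3 * 3 ^ d - 1)) % 3 = 2 := by
      have e1 : 3 ^ (g + 1) = 3 * 3 ^ g := by rw [pow_succ]; ring
      rw [e1]
      have hpg : 1 ≤ 3 ^ g := Nat.one_le_pow _ _ (by norm_num)
      omega
    exact h4_sq_ne_three_pow_mul (g + 1) s _ hmod hm

end Cfsg.Agent.Helper1.Fo3
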