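import Mathlib
import Cfsg.Agent.Helper1.Fo3Defs

set_option autoImplicit false

/-!
# S1615 (Fischer), piece F11: a star with three pairwise non-commuting members generates `S₃`
(helper4; blueprint `notes/helper1_S1615_blueprint.md` by helper1)
-/

namespace Cfsg.Agent.Helper1.Fo3

open Cfsg.Agent.Lead.TTW Cfsg.Agent.Lead.TTM

variable {G : Type*} [Group G]

/-- the conjugate `z y z` of a member `y` of the star of `d` by another member `z` of that star is
again in the star of `d` -/
theorem h4_conj_mem_star {D : Set G} (hT : TT3 D) {d y z : G} (hy : y ∈ star D d)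
    (hz : z ∈ star D d) : z * y * z ∈ star D d := by
  have hzi : z⁻¹ = z := hT.inv hz.1
  have hzd : z * d * z⁻¹ = d := by
    have h : d * z = z * d := hz.2.2
    rw [← h, mul_inv_cancel_right]
  have h1 : z * y * z ∈ star D (z * d * z⁻¹) := by
    rw [mem_star_conj hT]
    have e : z⁻¹ * (z * y * z) * z = y := by
      rw [hzi]
      have hzz : z * z = 1 := hT.sq z hz.1
      calc z * (z * y * z) * z = (z * z) * y * (z * z) := by simp only [mul_assoc]
        _ = y := by rw [hzz, one_mul, mul_one]
    rw [e]; exact hy
  rwa [hzd] at h1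

/-- F11a: a star with three pairwise non-commuting members generates `S₃` -/
theorem locS3_of_card {D : Set G} (hT : TT3 D) (htf : TriFree D)
    (hk : ∀ a ∈ D, (star D a).ncard = 3) : Cfsg.Agent.Helper4.TT5.LocS3 D := by
  intro d hd
  obtain ⟨y, z, w, hyz, hyw, hzw, hS⟩ := Set.ncard_eq_three.mp (hk d hd)
  have hy : y ∈ star D d := by rw [hS]; simp
  have hz : z ∈ star D d := by rw [hS]; simp
  have hnc : ¬ Commute y z := htf d hd y hy z hz hyz
  have hyy : y * y = 1 := hT.sq y hy.1
  have hzz : z * z = 1 := hT.sq z hz.1
  have h3 : (y * z) ^ 3 = 1 := hT.cube y hy.1 z hz.1 hnc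
  -- the third member is `z y z`
  have hm : z * y * z ∈ star D d := h4_conj_mem_star hT hy hz
  have hne_y : z * y * z ≠ y := by
    intro h
    apply hnc
    show y * z = z * y
    calc y * z = (z * y * z) * z := by rw [h]
      _ = z * y * (z * z) := by simp only [mul_assoc]
      _ = z * y := by rw [hzz, mul_one]
  have hne_z : z * y * z ≠ z := by
    intro h
    apply hyz
    have h1 : z * y = 1 := by
      have : z * y * z = 1 * z := by rw [one_mul]; exact h
      exact mul_right_cancel this
    have h2 : y = z⁻¹ := eq_inv_of_mul_eq_one_right h1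
    rw [h2, hT.inv hz.1]
  have hw : w = z * y * z := by
    have : z * y * z ∈ ({y, z, w} : Set G) := hS ▸ hm
    rcases this with h | h | h
    · exact absurd h hne_y
    · exact absurd h hne_z
    · exact h.symm
  -- closure of the star is the closure of `{y, z}`
  have hcl : Subgroup.closure (star D d) = Subgroup.closure ({y, z} : Set G) := by
    apply le_antisymm
    · rw [Subgroup.closure_le, hS]
      intro v hv
      rcases hv with rfl | rfl | rfl
      · exact Subgroup.subset_closure (by simp)
      · exact Subgroup.subset_closure (by simp)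
      · rw [hw]
        have h1 : y ∈ Subgroup.closure ({y, z} : Set G) := Subgroup.subset_closure (by simp)
        have h2 : z ∈ Subgroup.closure ({y, z} : Set G) := Subgroup.subset_closure (by simp)
        exact Subgroup.mul_mem _ (Subgroup.mul_mem _ h2 h1) h2
    · apply Subgroup.closure_mono
      rw [hS]
      intro v hv
      rcases hv with rfl | rfl
      · simp
      · simp
  obtain ⟨e⟩ := Cfsg.Agent.Helper9.closure_pair_equiv_perm3 y z hyy hzz
    (braid hyy hzz h3) (hT.ne y hy.1) hyz
  exact ⟨(MulEquiv.subgroupCongr hcl).trans e⟩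

end Cfsg.Agent.Helper1.Fo3
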