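import Mathlib
import Cfsg.Agent.Helper1.Fo3Defs

set_option autoImplicit false

/-!
# S1615 (Fischer), piece F8: the commuting graph of a triangle-free class is strongly regular
(helper4; blueprint `notes/helper1_S1615_blueprint.md` by helper1)
-/

namespace Cfsg.Agent.Helper1.Fo3

open Cfsg.Agent.Lead.TTW Cfsg.Agent.Lead.TTM

variable {G : Type*} [Group G]

/-- the neighbours of `a` in the commuting graph are the members of the star of `a` -/
theorem h4_image_neighborSet {D : Set G} (a : ↥D) :
    Subtype.val '' ((cg D).neighborSet a) = star D (a : G) := by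
  ext u
  constructor
  · rintro ⟨u', hu', rfl⟩
    rw [SimpleGraph.mem_neighborSet, cg_adj] at hu'
    refine ⟨u'.2, ?_, hu'.2⟩
    intro h
    exact hu'.1 (Subtype.ext h.symm)
  · rintro ⟨huD, hne, hc⟩
    refine ⟨⟨u, huD⟩, ?_, rfl⟩
    rw [SimpleGraph.mem_neighborSet, cg_adj]
    refine ⟨?_, hc⟩
    intro h
    exact hne (congrArg Subtype.val h).symm

/-- the common neighbours of two non-commuting members are the members commuting with both -/
theorem h4_image_commonNeighbors {D : Set G} (a b : ↥D) (hab : ¬ Commute (a : G) (b : G)) :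
    Subtype.val '' ((cg D).commonNeighbors a b) = T D (a : G) (b : G) := by
  ext u
  constructor
  · rintro ⟨u', hu', rfl⟩
    rw [SimpleGraph.mem_commonNeighbors, cg_adj, cg_adj] at hu'
    exact ⟨u'.2, hu'.1.2.symm, hu'.2.2.symm⟩
  · rintro ⟨huD, hca, hcb⟩
    refine ⟨⟨u, huD⟩, ?_, rfl⟩
    rw [SimpleGraph.mem_commonNeighbors, cg_adj, cg_adj]
    refine ⟨⟨?_, hca.symm⟩, ⟨?_, hcb.symm⟩⟩
    · intro h
      apply hab
      have : (a : G) = u := congrArg Subtype.val h
      rw [this]; exact hcb
    · intro h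
      apply hab
      have : (b : G) = u := congrArg Subtype.val h
      rw [this]; exact hca.symm

/-- `Fintype.card` of a set of members equals the `ncard` of its image in `G` -/
theorem h4_card_eq_ncard_image {D : Set G} (s : Set ↥D) [Fintype ↥s] :
    Fintype.card ↥s = (Subtype.val '' s).ncard := by
  rw [Set.ncard_image_of_injective s Subtype.val_injective, Set.ncard_eq_toFinset_card',
    Set.toFinset_card]

/-- F8: the commuting graph is strongly regular -/
theorem isSRG [Finite G] {D : Set G} [Fintype ↥D] [DecidableEq ↥D] [DecidableRel (cg D).Adj]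
    (htf : TriFree D) {k μ : ℕ} (hk : ∀ a ∈ D, (star D a).ncard = k)
    (hμ : ∀ a ∈ D, ∀ b ∈ D, ¬ Commute a b → (T D a b).ncard = μ) :
    (cg D).IsSRGWith (Fintype.card ↥D) k 0 μ := by
  refine ⟨rfl, ?_, ?_, ?_⟩
  · intro a
    rw [← SimpleGraph.card_neighborSet_eq_degree, h4_card_eq_ncard_image, h4_image_neighborSet]
    exact hk a a.2
  · intro a b hab
    rw [Fintype.card_eq_zero_iff]
    constructor
    rintro ⟨u, hu⟩
    rw [SimpleGraph.mem_commonNeighbors, cg_adj, cg_adj] at hu
    rw [cg_adj] at hab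
    have hb : (b : G) ∈ star D (a : G) :=
      ⟨b.2, fun h => hab.1 (Subtype.ext h.symm), hab.2⟩
    have hu' : (u : G) ∈ star D (a : G) :=
      ⟨u.2, fun h => hu.1.1 (Subtype.ext h.symm), hu.1.2⟩
    have hne : (b : G) ≠ (u : G) := fun h => hu.2.1 (Subtype.ext h)
    exact htf a a.2 b hb u hu' hne hu.2.2
  · intro a b hne hab
    have hnc : ¬ Commute (a : G) (b : G) := by
      intro hc
      apply hab
      rw [cg_adj]
      exact ⟨hne, hc⟩
    rw [h4_card_eq_ncard_image, h4_image_commonNeighbors a b hnc]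
    exact hμ a a.2 b b.2 hnc

end Cfsg.Agent.Helper1.Fo3
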