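import Mathlib

set_option autoImplicit false

/-!
A recursively defined Euler characteristic of a finite poset (given as a `Finset` of a partial
order): `chiB A = ∑ a ∈ A, (1 - chiB {x ∈ A | a < x})` (chains counted by their bottom element).
We prove: a poset with a least element has `chiB = 1`; removing an element `x` such that the
elements below `x` have a greatest element does not change `chiB`; and `chiB` is invariant under
passing to the fixed points of a monotone idempotent deflation.
-/

namespace Cfsg.Agent.Helper4.PosetChi

open Classical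

variable {α : Type*} [PartialOrder α]

/-- Euler characteristic of the finite poset `A`, defined by recursion on the bottom element. -/
noncomputable def chiB (A : Finset α) : ℤ :=
  ∑ a ∈ A.attach, (1 - chiB (A.filter (fun x => a.1 < x)))
termination_by A.card
decreasing_by
  apply Finset.card_lt_card
  rw [Finset.filter_ssubset]
  exact ⟨a.1, a.2, lt_irrefl _⟩

theorem chiB_eq (A : Finset α) :
    chiB A = ∑ a ∈ A, (1 - chiB (A.filter (fun x => a < x))) := by
  rw [chiB]
  exact Finset.sum_attach A (fun a => (1 - chiB (A.filter (fun x => a < x))))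

theorem chiB_empty : chiB (∅ : Finset α) = 0 := by
  rw [chiB_eq]; simp

/-- If `x` is a minimal element of `B`, then `chiB B = (1 - chiB B_{>x}) + chiB (B \ {x})`. -/
theorem chiB_of_minimal (B : Finset α) (x : α) (hx : x ∈ B) (hmin : ∀ y ∈ B, ¬ y < x) :
    chiB B = (1 - chiB (B.filter (fun y => x < y))) + chiB (B.erase x) := by
  rw [chiB_eq B, chiB_eq (B.erase x), ← Finset.add_sum_erase B _ hx]
  congr 1
  apply Finset.sum_congr rfl
  intro b hb
  have hbB : b ∈ B := Finset.mem_of_mem_erase hb
  congr 2
  ext y
  simp only [Finset.mem_filter, Finset.mem_erase]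
  constructor
  · rintro ⟨hy, hby⟩
    refine ⟨⟨?_, hy⟩, hby⟩
    rintro rfl
    exact hmin b hbB hby
  · rintro ⟨⟨_, hy⟩, hby⟩
    exact ⟨hy, hby⟩

/-- A finite poset with a least element has Euler characteristic `1`. -/
theorem chiB_of_least (A : Finset α) (a : α) (ha : a ∈ A) (hle : ∀ x ∈ A, a ≤ x) :
    chiB A = 1 := by
  rw [chiB_of_minimal A a ha (fun y hy hlt => absurd (hle y hy) (not_le_of_gt hlt))]
  have : A.filter (fun y => a < y) = A.erase a := by
    ext y
    simp only [Finset.mem_filter, Finset.mem_erase]
    constructor
    · rintro ⟨hy, hay⟩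
      exact ⟨ne_of_gt hay, hy⟩
    · rintro ⟨hne, hy⟩
      exact ⟨hy, lt_of_le_of_ne (hle y hy) (Ne.symm hne)⟩
  rw [this]; ring

/-- Removing an element `x` such that the elements of `A` below `x` have a greatest element `m`
does not change the Euler characteristic. -/
theorem chiB_erase (A : Finset α) (x m : α) (hx : x ∈ A) (hm : m ∈ A) (hmx : m < x)
    (hmax : ∀ y ∈ A, y < x → y ≤ m) : chiB A = chiB (A.erase x) := by
  obtain ⟨n, hn⟩ : ∃ n, A.card = n := ⟨_, rfl⟩
  induction n using Nat.strong_induction_on generalizing A x m with
  | _ n ih =>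
    rw [chiB_eq A, chiB_eq (A.erase x), ← Finset.add_sum_erase A _ hx]
    have hmE : m ∈ A.erase x := Finset.mem_erase.2 ⟨ne_of_lt hmx, hm⟩
    rw [← Finset.add_sum_erase (A.erase x) _ hmE, ← Finset.add_sum_erase (A.erase x) _ hmE]
    -- the term for `a = m`
    have hB : chiB (A.filter (fun y => m < y)) =
        (1 - chiB (A.filter (fun y => x < y))) + chiB ((A.erase x).filter (fun y => m < y)) := by
      have hxB : x ∈ A.filter (fun y => m < y) := Finset.mem_filter.2 ⟨hx, hmx⟩
      rw [chiB_of_minimal _ x hxB]
      · congr 2
        · congr 1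
          ext y
          simp only [Finset.mem_filter]
          constructor
          · rintro ⟨⟨hy, _⟩, hxy⟩; exact ⟨hy, hxy⟩
          · rintro ⟨hy, hxy⟩; exact ⟨⟨hy, hmx.trans hxy⟩, hxy⟩
        · ext y
          simp only [Finset.mem_filter, Finset.mem_erase]
          tauto
      · intro y hy hyx
        rw [Finset.mem_filter] at hy
        exact absurd (hmax y hy.1 hyx) (not_le_of_gt hy.2)
    -- the other terms
    have hrest : ∀ a ∈ (A.erase x).erase m,
        (1 - chiB (A.filter (fun y => a < y))) =
          (1 - chiB ((A.erase x).filter (fun y => a < y))) := by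
      intro a ha
      rw [Finset.mem_erase, Finset.mem_erase] at ha
      obtain ⟨ham, hax, haA⟩ := ha
      congr 1
      by_cases hlt : a < x
      · have ham' : a < m := lt_of_le_of_ne (hmax a haA hlt) ham
        have hcard : (A.filter (fun y => a < y)).card < n := by
          rw [← hn]
          apply Finset.card_lt_card
          rw [Finset.filter_ssubset]
          exact ⟨a, haA, lt_irrefl _⟩
        have := ih _ hcard (A.filter (fun y => a < y)) x m
          (Finset.mem_filter.2 ⟨hx, hlt⟩) (Finset.mem_filter.2 ⟨hm, ham'⟩) hmx
          (fun y hy hyx => hmax y (Finset.mem_filter.1 hy).1 hyx) rfl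
        rw [this]
        congr 1
        ext y
        simp only [Finset.mem_filter, Finset.mem_erase]
        tauto
      · congr 1
        ext y
        simp only [Finset.mem_filter, Finset.mem_erase]
        constructor
        · rintro ⟨hy, hay⟩
          refine ⟨⟨?_, hy⟩, hay⟩
          rintro rfl
          exact hlt hay
        · rintro ⟨⟨_, hy⟩, hay⟩
          exact ⟨hy, hay⟩
    rw [Finset.sum_congr rfl hrest, hB]
    ring

/-- Invariance of the Euler characteristic under a monotone idempotent deflation. -/
theorem chiB_deflation (A : Finset α) (r : α → α) (hrA : ∀ x ∈ A, r x ∈ A)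
    (hle : ∀ x ∈ A, r x ≤ x) (hmono : ∀ x ∈ A, ∀ y ∈ A, x ≤ y → r x ≤ r y)
    (hidem : ∀ x ∈ A, r (r x) = r x) :
    chiB A = chiB (A.filter (fun x => r x = x)) := by
  obtain ⟨n, hn⟩ : ∃ n, (A.filter (fun x => r x ≠ x)).card = n := ⟨_, rfl⟩
  induction n using Nat.strong_induction_on generalizing A with
  | _ n ih =>
    by_cases hne : (A.filter (fun x => r x ≠ x)).Nonempty
    · -- choose a minimal non-fixed element
      obtain ⟨x, hxmem, hxmin⟩ := (A.filter (fun x => r x ≠ x)).exists_minimal hne
      rw [Finset.mem_filter] at hxmem
      obtain ⟨hxA, hxne⟩ := hxmem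
      have hrx_lt : r x < x := lt_of_le_of_ne (hle x hxA) hxne
      have hfix_below : ∀ y ∈ A, y < x → r y = y := by
        intro y hy hyx
        by_contra hyne
        have hymem : y ∈ A.filter (fun x => r x ≠ x) := Finset.mem_filter.2 ⟨hy, hyne⟩
        have := hxmin hymem hyx.le
        exact absurd (le_antisymm hyx.le this) (ne_of_lt hyx)
      have hstep : chiB A = chiB (A.erase x) := by
        apply chiB_erase A x (r x) hxA (hrA x hxA) hrx_lt
        intro y hy hyx
        have := hmono y hy x hxA hyx.le
        rwa [hfix_below y hy hyx] at this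
      have hrE : ∀ y ∈ A.erase x, r y ∈ A.erase x := by
        intro y hy
        have hyA := Finset.mem_of_mem_erase hy
        rw [Finset.mem_erase]
        refine ⟨?_, hrA y hyA⟩
        intro h
        apply hxne
        rw [← h, hidem y hyA]
      have hcard : ((A.erase x).filter (fun x => r x ≠ x)).card < n := by
        rw [← hn]
        apply Finset.card_lt_card
        constructor
        · intro y hy
          rw [Finset.mem_filter, Finset.mem_erase] at hy
          exact Finset.mem_filter.2 ⟨hy.1.2, hy.2⟩
        · intro hsub
          have := hsub (Finset.mem_filter.2 ⟨hxA, hxne⟩)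
          rw [Finset.mem_filter, Finset.mem_erase] at this
          exact this.1.1 rfl
      have := ih _ hcard (A.erase x) hrE
        (fun y hy => hle y (Finset.mem_of_mem_erase hy))
        (fun y hy z hz => hmono y (Finset.mem_of_mem_erase hy) z (Finset.mem_of_mem_erase hz))
        (fun y hy => hidem y (Finset.mem_of_mem_erase hy)) rfl
      rw [hstep, this]
      congr 1
      ext y
      simp only [Finset.mem_filter, Finset.mem_erase]
      constructor
      · rintro ⟨⟨_, hy⟩, hry⟩; exact ⟨hy, hry⟩
      · rintro ⟨hy, hry⟩
        refine ⟨⟨?_, hy⟩, hry⟩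
        rintro rfl
        exact hxne hry
    · rw [Finset.not_nonempty_iff_eq_empty] at hne
      congr 1
      ext y
      simp only [Finset.mem_filter]
      constructor
      · intro hy
        refine ⟨hy, ?_⟩
        by_contra h
        have : y ∈ A.filter (fun x => r x ≠ x) := Finset.mem_filter.2 ⟨hy, h⟩
        rw [hne] at this
        exact absurd this (Finset.notMem_empty _)
      · exact fun h => h.1

end Cfsg.Agent.Helper4.PosetChi
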