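import Mathlib
import Cfsg.Agent.Helper4.PosetChi
import Cfsg.Agent.Helper4.SubnormalPRad

set_option autoImplicit false

/-!
Casolo's count of the subnormalizer of a `p`-subgroup: the number of `g` normalizing some
`p`-subgroup containing `H` equals the sum of `|N_G(Q)|` over the Sylow `p`-subgroups `Q ≥ H`.
The proof is a Webb-type Euler characteristic induction using `PosetChi`.
-/

namespace Cfsg.Agent.Helper4.SubnCount

open Classical
open Cfsg.Agent.Helper4.PosetChi

variable {G : Type*} [Group G]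

section basics

theorem card_filter_mem [Fintype G] (S : Subgroup G) :
    ((Finset.univ.filter (fun g : G => g ∈ S)).card : ℤ) = (Nat.card ↥S : ℤ) := by
  rw [Nat.card_eq_fintype_card, Fintype.card_subtype]

theorem mem_normalizer_inf {A B : Subgroup G} {g : G} (hA : g ∈ Subgroup.normalizer (A : Set G))
    (hB : g ∈ Subgroup.normalizer (B : Set G)) :
    g ∈ Subgroup.normalizer ((A ⊓ B : Subgroup G) : Set G) := by
  rw [Subgroup.mem_normalizer_iff] at hA hB ⊢
  intro h
  rw [Subgroup.mem_inf, Subgroup.mem_inf, hA h, hB h]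

/-- In a finite `p`-group `L`, a proper subgroup `R` is properly contained in its normalizer in
`L`. -/
theorem lt_inf_normalizer [Finite G] {p : ℕ} [Fact p.Prime] {R L : Subgroup G}
    (hL : IsPGroup p L) (hlt : R < L) : R < L ⊓ Subgroup.normalizer (R : Set G) := by
  refine lt_of_le_of_ne (le_inf hlt.le Subgroup.le_normalizer) ?_
  intro heq
  have hlt' : R.subgroupOf L < ⊤ := by
    rw [lt_top_iff_ne_top]
    intro htop
    exact absurd (Subgroup.subgroupOf_eq_top.1 htop) (not_le_of_gt hlt)
  have hnil : Group.IsNilpotent ↥L := hL.isNilpotent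
  have hnc := Group.normalizerCondition_of_isNilpotent (G := ↥L) (R.subgroupOf L) hlt'
  obtain ⟨y, hyN, hyR⟩ := SetLike.exists_of_lt hnc
  have hyNG : (y : G) ∈ Subgroup.normalizer (R : Set G) := by
    apply Cfsg.Agent.Helper4.SubnormalPRad.mem_normalizer_of_conj_mem'
    intro r hr
    have := (Subgroup.mem_normalizer_iff.1 hyN ⟨r, hlt.le hr⟩).1 (Subgroup.mem_subgroupOf.2 hr)
    rw [Subgroup.mem_subgroupOf] at this
    simpa using this
  have : (y : G) ∈ L ⊓ Subgroup.normalizer (R : Set G) := ⟨y.2, hyNG⟩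
  rw [← heq] at this
  exact hyR (Subgroup.mem_subgroupOf.2 this)

end basics

section posets

variable [Finite G] (p : ℕ)

/-- The `p`-subgroups `L` of `G` with `R < L ≤ K`. -/
noncomputable def Pgt (K R : Subgroup G) : Finset (Subgroup G) :=
  (Set.toFinite {L : Subgroup G | IsPGroup p L ∧ R < L ∧ L ≤ K}).toFinset

/-- The members of `Pgt K R` normalized by `g`. -/
noncomputable def PgtFix (K R : Subgroup G) (g : G) : Finset (Subgroup G) :=
  (Pgt p K R).filter (fun L => g ∈ Subgroup.normalizer (L : Set G))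

variable {p}

theorem mem_Pgt {K R L : Subgroup G} : L ∈ Pgt p K R ↔ IsPGroup p L ∧ R < L ∧ L ≤ K := by
  rw [Pgt, Set.Finite.mem_toFinset]; rfl

theorem mem_PgtFix {K R L : Subgroup G} {g : G} :
    L ∈ PgtFix p K R g ↔ (IsPGroup p L ∧ R < L ∧ L ≤ K) ∧ g ∈ Subgroup.normalizer (L : Set G) := by
  rw [PgtFix, Finset.mem_filter, mem_Pgt]

theorem PgtFix_filter_lt {K R L : Subgroup G} {g : G} (hRL : R < L) :
    (PgtFix p K R g).filter (fun L' => L < L') = PgtFix p K L g := by
  ext L'
  simp only [Finset.mem_filter, mem_PgtFix]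
  constructor
  · rintro ⟨⟨⟨h1, _, h3⟩, h4⟩, h5⟩
    exact ⟨⟨h1, h5, h3⟩, h4⟩
  · rintro ⟨⟨h1, h2, h3⟩, h4⟩
    exact ⟨⟨⟨h1, hRL.trans h2, h3⟩, h4⟩, h2⟩

/-- Deflation `L ↦ N_L(R)`: the Euler characteristic of the `g`-fixed `p`-subgroups above `R`
in `K` may be computed inside `K ⊓ N_G(R)`. -/
theorem chiB_PgtFix_normalizer [Fact p.Prime] {K R : Subgroup G} {g : G}
    (hg : g ∈ Subgroup.normalizer (R : Set G)) :
    chiB (PgtFix p K R g) = chiB (PgtFix p (K ⊓ Subgroup.normalizer (R : Set G)) R g) := by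
  rw [chiB_deflation (PgtFix p K R g) (fun L => L ⊓ Subgroup.normalizer (R : Set G))]
  · congr 1
    ext L
    simp only [Finset.mem_filter, mem_PgtFix, inf_eq_left, le_inf_iff]
    tauto
  · intro L hL
    rw [mem_PgtFix] at hL ⊢
    obtain ⟨⟨h1, h2, h3⟩, h4⟩ := hL
    refine ⟨⟨h1.to_le inf_le_left, lt_inf_normalizer h1 h2, inf_le_left.trans h3⟩, ?_⟩
    exact mem_normalizer_inf h4 (Subgroup.le_normalizer hg)
  · intro L _
    exact inf_le_left
  · intro L _ L' _ h
    exact inf_le_inf_right _ h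
  · intro L _
    simp only [inf_assoc, inf_idem]

end posets

section sylowcount

set_option linter.unusedSectionVars false

variable [Finite G] {p : ℕ} [Fact p.Prime]

/-- The image in `G` of a Sylow `p`-subgroup of the subgroup `N`. -/
noncomputable def sylImg (N : Subgroup G) (Q : Sylow p ↥N) : Subgroup G :=
  (Q : Subgroup ↥N).map N.subtype

theorem sylImg_le (N : Subgroup G) (Q : Sylow p ↥N) : sylImg N Q ≤ N :=
  Subgroup.map_subtype_le _

theorem sylImg_subgroupOf (N : Subgroup G) (Q : Sylow p ↥N) :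
    (sylImg N Q).subgroupOf N = (Q : Subgroup ↥N) :=
  Subgroup.comap_map_eq_self_of_injective (Subgroup.subtype_injective N) _

theorem sylImg_isPGroup (N : Subgroup G) (Q : Sylow p ↥N) : IsPGroup p (sylImg N Q) :=
  Q.2.map _

theorem sylImg_injective (N : Subgroup G) : Function.Injective (sylImg (p := p) N) := by
  intro Q Q' h
  apply Sylow.ext
  rw [← sylImg_subgroupOf N Q, ← sylImg_subgroupOf N Q', h]

theorem sylImg_maximal (N : Subgroup G) (Q : Sylow p ↥N) {L : Subgroup G} (hL : IsPGroup p L)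
    (hLN : L ≤ N) (hQL : sylImg N Q ≤ L) : L = sylImg N Q := by
  have h1 : (Q : Subgroup ↥N) ≤ L.subgroupOf N := by
    rw [← sylImg_subgroupOf N Q]
    exact Subgroup.comap_mono hQL
  have h2 : L.subgroupOf N = (Q : Subgroup ↥N) := Q.is_maximal' hL.comap_subtype h1
  have h3 : (L.subgroupOf N).map N.subtype = L := by
    rw [Subgroup.subgroupOf_map_subtype]; exact inf_eq_left.2 hLN
  calc L = (L.subgroupOf N).map N.subtype := h3.symm
    _ = sylImg N Q := by rw [h2]; rfl

theorem exists_sylImg_ge (N : Subgroup G) {L : Subgroup G} (hL : IsPGroup p L) (hLN : L ≤ N) :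
    ∃ Q : Sylow p ↥N, L ≤ sylImg N Q := by
  obtain ⟨Q, hQ⟩ := (hL.comap_subtype (K := N)).exists_le_sylow
  refine ⟨Q, ?_⟩
  intro x hx
  exact ⟨⟨x, hLN hx⟩, hQ (Subgroup.mem_subgroupOf.2 hx), rfl⟩

theorem card_inf_normalizer_sylImg (N : Subgroup G) (Q : Sylow p ↥N) :
    Nat.card ↥(N ⊓ Subgroup.normalizer ((sylImg N Q : Subgroup G) : Set G)) =
      Nat.card ↥(Subgroup.normalizer ((Q : Subgroup ↥N) : Set ↥N)) := by
  have h1 := Subgroup.subgroupOf_normalizer_eq (sylImg_le N Q)
  rw [sylImg_subgroupOf] at h1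
  rw [← h1, ← Subgroup.inf_subgroupOf_left]
  exact Nat.card_congr (Subgroup.subgroupOfEquivOfLe inf_le_left).toEquiv.symm

theorem sum_card_normalizer_sylow (N : Subgroup G) [Fintype (Sylow p ↥N)] :
    ∑ Q : Sylow p ↥N, (Nat.card ↥(Subgroup.normalizer ((Q : Subgroup ↥N) : Set ↥N)) : ℤ) =
      (Nat.card ↥N : ℤ) := by
  have hpos : 0 < Nat.card (Sylow p ↥N) := Nat.card_pos
  have h : ∀ Q : Sylow p ↥N,
      (Nat.card ↥(Subgroup.normalizer ((Q : Subgroup ↥N) : Set ↥N)) : ℤ) * Nat.card (Sylow p ↥N) =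
        (Nat.card ↥N : ℤ) := by
    intro Q
    rw [Q.card_eq_index_normalizer]
    exact_mod_cast Subgroup.card_mul_index _
  have h2 : (∑ Q : Sylow p ↥N,
      (Nat.card ↥(Subgroup.normalizer ((Q : Subgroup ↥N) : Set ↥N)) : ℤ)) *
        Nat.card (Sylow p ↥N) = (Nat.card ↥N : ℤ) * Nat.card (Sylow p ↥N) := by
    rw [Finset.sum_mul, Finset.sum_congr rfl (fun Q _ => h Q)]
    simp [Nat.card_eq_fintype_card, mul_comm]
  have hne : (Nat.card (Sylow p ↥N) : ℤ) ≠ 0 := by exact_mod_cast hpos.ne'
  exact mul_right_cancel₀ hne h2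

/-- Sylow count inside `N ≤ N_G(R)`: the maximal `p`-subgroups of `N` lie above `R`, and their
normalizers in `N` have orders adding up to `|N|`. -/
theorem sum_maximal (N R : Subgroup G) (hR : IsPGroup p R) (hRN : R ≤ N)
    (hNR : N ≤ Subgroup.normalizer (R : Set G)) (hne : (Pgt p N R).Nonempty) :
    ∑ L ∈ Pgt p N R, (if (Pgt p N L).Nonempty then (0 : ℤ)
      else (Nat.card ↥(N ⊓ Subgroup.normalizer (L : Set G)) : ℤ)) = (Nat.card ↥N : ℤ) := by
  let _ : Fintype (Sylow p ↥N) := Fintype.ofFinite _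
  rw [← sum_card_normalizer_sylow (p := p) N]
  have hRn : (R.subgroupOf N).Normal :=
    (Subgroup.normal_subgroupOf_iff_le_normalizer hRN).2 hNR
  -- every Sylow image lies in `Pgt N R` and is maximal
  have hA : ∀ Q : Sylow p ↥N, sylImg N Q ∈ Pgt p N R ∧ ¬ (Pgt p N (sylImg N Q)).Nonempty := by
    intro Q
    have hRQ : R ≤ sylImg N Q := by
      intro x hx
      have hle : R.subgroupOf N ≤ (Q : Subgroup ↥N) :=
        IsPGroup.le_sylow_of_normal (N := R.subgroupOf N) hR.comap_subtype Q
      have := hle (Subgroup.mem_subgroupOf.2 (show ((⟨x, hRN hx⟩ : ↥N) : G) ∈ R from hx))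
      exact ⟨⟨x, hRN hx⟩, this, rfl⟩
    constructor
    · rw [mem_Pgt]
      refine ⟨sylImg_isPGroup N Q, lt_of_le_of_ne hRQ ?_, sylImg_le N Q⟩
      intro heq
      obtain ⟨L, hL⟩ := hne
      rw [mem_Pgt] at hL
      have := sylImg_maximal N Q hL.1 hL.2.2 (heq ▸ hL.2.1.le)
      rw [← heq] at this
      exact absurd this (ne_of_gt hL.2.1)
    · rintro ⟨L, hL⟩
      rw [mem_Pgt] at hL
      exact absurd (sylImg_maximal N Q hL.1 hL.2.2 hL.2.1.le) (ne_of_gt hL.2.1)
  have hB : ∀ L ∈ Pgt p N R, ¬ (Pgt p N L).Nonempty → ∃ Q : Sylow p ↥N, sylImg N Q = L := by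
    intro L hL hmax
    rw [mem_Pgt] at hL
    obtain ⟨Q, hQ⟩ := exists_sylImg_ge (p := p) N hL.1 hL.2.2
    refine ⟨Q, ?_⟩
    by_contra hne'
    apply hmax
    exact ⟨sylImg N Q, mem_Pgt.2 ⟨sylImg_isPGroup N Q, lt_of_le_of_ne hQ (Ne.symm hne'),
      sylImg_le N Q⟩⟩
  rw [Finset.sum_ite, Finset.sum_const_zero, zero_add]
  have himg : (Pgt p N R).filter (fun L => ¬ (Pgt p N L).Nonempty) =
      Finset.univ.image (sylImg (p := p) N) := by
    ext L
    simp only [Finset.mem_filter, Finset.mem_image, Finset.mem_univ, true_and]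
    constructor
    · rintro ⟨h1, h2⟩
      exact hB L h1 h2
    · rintro ⟨Q, rfl⟩
      exact hA Q
  rw [himg, Finset.sum_image (fun Q _ Q' _ h => sylImg_injective N h)]
  apply Finset.sum_congr rfl
  intro Q _
  rw [card_inf_normalizer_sylImg]

end sylowcount

section main

variable [Fintype G] {p : ℕ} [Fact p.Prime]

/-- Webb-type identity: for a `p`-subgroup `R ≤ K`, the Euler characteristics of the posets of
`g`-invariant `p`-subgroups `L` with `R < L ≤ K`, summed over `g ∈ N_K(R)`, add up to `|N_K(R)|`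
(or to `0` if there is no such `L`). -/
theorem sum_chi (n : ℕ) : ∀ (K R : Subgroup G), IsPGroup p R → R ≤ K → R.index = n →
    ∑ g ∈ Finset.univ.filter (fun g : G => g ∈ K ⊓ Subgroup.normalizer (R : Set G)),
      chiB (PgtFix p K R g) =
    if (Pgt p K R).Nonempty then (Nat.card ↥(K ⊓ Subgroup.normalizer (R : Set G)) : ℤ)
      else 0 := by
  induction n using Nat.strong_induction_on with
  | _ n ih =>
    intro K R hR hRK hn
    obtain ⟨N, hN⟩ : ∃ N : Subgroup G, N = K ⊓ Subgroup.normalizer (R : Set G) := ⟨_, rfl⟩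
    rw [← hN]
    have hRN : R ≤ N := by rw [hN]; exact le_inf hRK Subgroup.le_normalizer
    have hNR : N ≤ Subgroup.normalizer (R : Set G) := by rw [hN]; exact inf_le_right
    by_cases hne : (Pgt p K R).Nonempty
    · rw [if_pos hne]
      have hneN : (Pgt p N R).Nonempty := by
        obtain ⟨L, hL⟩ := hne
        rw [mem_Pgt] at hL
        refine ⟨L ⊓ Subgroup.normalizer (R : Set G), mem_Pgt.2
          ⟨hL.1.to_le inf_le_left, lt_inf_normalizer hL.1 hL.2.1, ?_⟩⟩
        rw [hN]
        exact inf_le_inf_right _ hL.2.2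
      have h1 : ∀ g ∈ Finset.univ.filter (fun g : G => g ∈ N),
          chiB (PgtFix p K R g) = ∑ L ∈ PgtFix p N R g, (1 - chiB (PgtFix p N L g)) := by
        intro g hg
        rw [Finset.mem_filter] at hg
        rw [chiB_PgtFix_normalizer (hNR hg.2), ← hN, chiB_eq]
        apply Finset.sum_congr rfl
        intro L hL
        rw [PgtFix_filter_lt (mem_PgtFix.1 hL).1.2.1]
      rw [Finset.sum_congr rfl h1]
      rw [Finset.sum_comm' (t' := Pgt p N R)
        (s' := fun L => Finset.univ.filter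
          (fun g : G => g ∈ N ⊓ Subgroup.normalizer (L : Set G)))]
      · have h3 : ∀ L ∈ Pgt p N R,
            ∑ g ∈ Finset.univ.filter (fun g : G => g ∈ N ⊓ Subgroup.normalizer (L : Set G)),
              (1 - chiB (PgtFix p N L g)) =
            if (Pgt p N L).Nonempty then (0 : ℤ)
              else (Nat.card ↥(N ⊓ Subgroup.normalizer (L : Set G)) : ℤ) := by
          intro L hL
          rw [mem_Pgt] at hL
          have hidx : L.index < n := by rw [← hn]; exact Subgroup.index_strictAnti hL.2.1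
          rw [Finset.sum_sub_distrib, ih _ hidx N L hL.1 hL.2.2 rfl, Finset.sum_const,
            nsmul_eq_mul, mul_one, card_filter_mem]
          split_ifs <;> ring
        rw [Finset.sum_congr rfl h3]
        exact sum_maximal N R hR hRN hNR hneN
      · intro g L
        simp only [Finset.mem_filter, Finset.mem_univ, true_and, mem_PgtFix, mem_Pgt,
          Subgroup.mem_inf]
        tauto
    · rw [if_neg hne]
      apply Finset.sum_eq_zero
      intro g _
      have : PgtFix p K R g = ∅ := by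
        rw [Finset.not_nonempty_iff_eq_empty] at hne
        rw [PgtFix, hne, Finset.filter_empty]
      rw [this, chiB_empty]

/-- The `p`-subgroups containing `H` that are normalized by `g`. -/
noncomputable def Pge (p : ℕ) (H : Subgroup G) (g : G) : Finset (Subgroup G) :=
  (Set.toFinite {R : Subgroup G | IsPGroup p R ∧ H ≤ R ∧
    g ∈ Subgroup.normalizer (R : Set G)}).toFinset

/-- The `p`-subgroups containing `H`. -/
noncomputable def PgeAll (p : ℕ) (H : Subgroup G) : Finset (Subgroup G) :=
  (Set.toFinite {R : Subgroup G | IsPGroup p R ∧ H ≤ R}).toFinset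

theorem mem_Pge {H R : Subgroup G} {g : G} :
    R ∈ Pge p H g ↔ IsPGroup p R ∧ H ≤ R ∧ g ∈ Subgroup.normalizer (R : Set G) := by
  rw [Pge, Set.Finite.mem_toFinset]; rfl

theorem mem_PgeAll {H R : Subgroup G} : R ∈ PgeAll p H ↔ IsPGroup p R ∧ H ≤ R := by
  rw [PgeAll, Set.Finite.mem_toFinset]; rfl

theorem chiB_Pge (H : Subgroup G) (g : G) :
    chiB (Pge p H g) = if (Pge p H g).Nonempty then 1 else 0 := by
  by_cases hne : (Pge p H g).Nonempty
  · rw [if_pos hne]
    obtain ⟨R₀, hR₀⟩ := hne
    apply chiB_of_least _ (sInf ((Pge p H g : Finset (Subgroup G)) : Set (Subgroup G)))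
    · rw [mem_Pge]
      refine ⟨(mem_Pge.1 hR₀).1.to_le (sInf_le hR₀), le_sInf fun R hR => (mem_Pge.1 hR).2.1, ?_⟩
      apply Cfsg.Agent.Helper4.SubnormalPRad.mem_normalizer_of_conj_mem'
      intro x hx
      rw [Subgroup.mem_sInf] at hx ⊢
      intro R hR
      exact (Subgroup.mem_normalizer_iff.1 (mem_Pge.1 hR).2.2 x).1 (hx R hR)
    · intro R hR
      exact sInf_le hR
  · rw [if_neg hne]
    rw [Finset.not_nonempty_iff_eq_empty] at hne
    rw [hne, chiB_empty]

theorem Pge_filter_lt {H R : Subgroup G} {g : G} (hR : R ∈ Pge p H g) :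
    (Pge p H g).filter (fun L => R < L) = PgtFix p ⊤ R g := by
  ext L
  simp only [Finset.mem_filter, mem_Pge, mem_PgtFix]
  rw [mem_Pge] at hR
  constructor
  · rintro ⟨⟨h1, _, h3⟩, h4⟩
    exact ⟨⟨h1, h4, le_top⟩, h3⟩
  · rintro ⟨⟨h1, h2, _⟩, h4⟩
    exact ⟨⟨h1, hR.2.1.trans h2.le, h4⟩, h2⟩

/-- Casolo's theorem, in the form: the number of `g` normalizing some `p`-subgroup containing
`H` is the sum of the orders of the normalizers of the Sylow `p`-subgroups containing `H`. -/
theorem card_subnormalizer [Fintype (Sylow p G)] (H : Subgroup G) :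
    ((Finset.univ.filter (fun g : G => (Pge p H g).Nonempty)).card : ℤ) =
      ∑ Q ∈ Finset.univ.filter (fun Q : Sylow p G => H ≤ (Q : Subgroup G)),
        (Nat.card ↥(Subgroup.normalizer ((Q : Subgroup G) : Set G)) : ℤ) := by
  have h0 : ((Finset.univ.filter (fun g : G => (Pge p H g).Nonempty)).card : ℤ) =
      ∑ g : G, chiB (Pge p H g) := by
    rw [Finset.sum_congr rfl (fun g _ => chiB_Pge H g), Finset.sum_ite, Finset.sum_const_zero,
      add_zero, Finset.sum_const, nsmul_eq_mul, mul_one]
  have h1 : ∀ g ∈ (Finset.univ : Finset G),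
      chiB (Pge p H g) = ∑ R ∈ Pge p H g, (1 - chiB (PgtFix p ⊤ R g)) := by
    intro g _
    rw [chiB_eq]
    apply Finset.sum_congr rfl
    intro R hR
    rw [Pge_filter_lt hR]
  rw [h0, Finset.sum_congr rfl h1]
  rw [Finset.sum_comm' (t' := PgeAll p H)
    (s' := fun R => Finset.univ.filter
      (fun g : G => g ∈ (⊤ : Subgroup G) ⊓ Subgroup.normalizer (R : Set G)))]
  · have h3 : ∀ R ∈ PgeAll p H,
        ∑ g ∈ Finset.univ.filter
            (fun g : G => g ∈ (⊤ : Subgroup G) ⊓ Subgroup.normalizer (R : Set G)),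
          (1 - chiB (PgtFix p ⊤ R g)) =
        if (Pgt p ⊤ R).Nonempty then (0 : ℤ)
          else (Nat.card ↥(Subgroup.normalizer (R : Set G)) : ℤ) := by
      intro R hR
      rw [mem_PgeAll] at hR
      rw [Finset.sum_sub_distrib, sum_chi _ ⊤ R hR.1 le_top rfl, Finset.sum_const,
        nsmul_eq_mul, mul_one, card_filter_mem, top_inf_eq]
      split_ifs <;> ring
    rw [Finset.sum_congr rfl h3, Finset.sum_ite, Finset.sum_const_zero, zero_add]
    have himg : (PgeAll p H).filter (fun R => ¬ (Pgt p ⊤ R).Nonempty) =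
        (Finset.univ.filter (fun Q : Sylow p G => H ≤ (Q : Subgroup G))).image
          (fun Q : Sylow p G => (Q : Subgroup G)) := by
      ext R
      simp only [Finset.mem_filter, Finset.mem_image, Finset.mem_univ, true_and, mem_PgeAll]
      constructor
      · rintro ⟨⟨hRp, hHR⟩, hmax⟩
        obtain ⟨Q, hQ⟩ := hRp.exists_le_sylow
        refine ⟨Q, hHR.trans hQ, ?_⟩
        by_contra hne'
        apply hmax
        exact ⟨Q, mem_Pgt.2 ⟨Q.2, lt_of_le_of_ne hQ (Ne.symm hne'), le_top⟩⟩
      · rintro ⟨Q, hHQ, rfl⟩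
        refine ⟨⟨Q.2, hHQ⟩, ?_⟩
        rintro ⟨L, hL⟩
        rw [mem_Pgt] at hL
        exact absurd (Q.is_maximal' hL.1 hL.2.1.le) (ne_of_gt hL.2.1)
    rw [himg, Finset.sum_image (fun Q _ Q' _ h => Sylow.ext h)]
  · intro g R
    simp only [Finset.mem_filter, Finset.mem_univ, true_and, mem_Pge, mem_PgeAll,
      Subgroup.mem_inf, Subgroup.mem_top]
    tauto

end main

section final

variable [Finite G] {p : ℕ} [Fact p.Prime]

theorem card_normalizer_sylow_eq (P Q : Sylow p G) :
    Nat.card ↥(Subgroup.normalizer ((Q : Subgroup G) : Set G)) =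
      Nat.card ↥(Subgroup.normalizer ((P : Subgroup G) : Set G)) := by
  have hpos : 0 < Nat.card (Sylow p G) := Nat.card_pos
  have h1 := Subgroup.card_mul_index (Subgroup.normalizer ((Q : Subgroup G) : Set G))
  have h2 := Subgroup.card_mul_index (Subgroup.normalizer ((P : Subgroup G) : Set G))
  have e1 : (Subgroup.normalizer ((Q : Subgroup G) : Set G)).index = Nat.card (Sylow p G) :=
    Q.card_eq_index_normalizer.symm
  have e2 : (Subgroup.normalizer ((P : Subgroup G) : Set G)).index = Nat.card (Sylow p G) :=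
    P.card_eq_index_normalizer.symm
  rw [e1] at h1
  rw [e2] at h2
  exact Nat.eq_of_mul_eq_mul_right hpos (h1.trans h2.symm)

/-- Casolo's theorem: first formula. -/
theorem card_subnormalizer_eq (H : Subgroup G) (P : Sylow p G) :
    Nat.card {g : G // ∃ R : Subgroup G, IsPGroup p R ∧ H ≤ R ∧
        g ∈ Subgroup.normalizer (R : Set G)} =
      Nat.card {Q : Sylow p G // H ≤ (Q : Subgroup G)} *
        Nat.card ↥(Subgroup.normalizer ((P : Subgroup G) : Set G)) := by
  let _ : Fintype G := Fintype.ofFinite G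
  let _ : Fintype (Sylow p G) := Fintype.ofFinite _
  have h := card_subnormalizer (p := p) H
  have hL : Nat.card {g : G // ∃ R : Subgroup G, IsPGroup p R ∧ H ≤ R ∧
        g ∈ Subgroup.normalizer (R : Set G)} =
      (Finset.univ.filter (fun g : G => (Pge p H g).Nonempty)).card := by
    rw [Nat.card_eq_fintype_card, Fintype.card_subtype]
    congr 1
    ext g
    simp only [Finset.mem_filter, Finset.mem_univ, true_and]
    constructor
    · rintro ⟨R, hR⟩
      exact ⟨R, mem_Pge.2 hR⟩
    · rintro ⟨R, hR⟩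
      exact ⟨R, mem_Pge.1 hR⟩
  have hR : Nat.card {Q : Sylow p G // H ≤ (Q : Subgroup G)} =
      (Finset.univ.filter (fun Q : Sylow p G => H ≤ (Q : Subgroup G))).card := by
    rw [Nat.card_eq_fintype_card, Fintype.card_subtype]
  rw [Finset.sum_congr rfl (fun Q _ => by rw [card_normalizer_sylow_eq P Q]),
    Finset.sum_const, nsmul_eq_mul] at h
  rw [hL, hR]
  exact_mod_cast h

theorem card_eq_mul_of_fibres {X Y : Type*} (s : Finset X) (f : X → Y) (c : ℕ)
    (h : ∀ y ∈ s.image f, (s.filter (fun x => f x = y)).card = c) :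
    s.card = (s.image f).card * c := by
  rw [Finset.card_eq_sum_card_image f s, Finset.sum_congr rfl h, Finset.sum_const, smul_eq_mul]

theorem map_conj_le_iff {H K : Subgroup G} {x : G} :
    H.map (MulAut.conj x).toMonoidHom ≤ K ↔ ∀ h ∈ H, x * h * x⁻¹ ∈ K := by
  rw [Subgroup.map_le_iff_le_comap]
  constructor
  · intro h y hy
    have := h hy
    simpa [Subgroup.mem_comap] using this
  · intro h y hy
    simpa [Subgroup.mem_comap] using h y hy

theorem map_conj_mul (H : Subgroup G) (x y : G) :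
    H.map (MulAut.conj (x * y)).toMonoidHom =
      (H.map (MulAut.conj y).toMonoidHom).map (MulAut.conj x).toMonoidHom := by
  rw [Subgroup.map_map]
  congr 1
  ext z
  simp [mul_assoc]

theorem map_conj_one (H : Subgroup G) : H.map (MulAut.conj (1 : G)).toMonoidHom = H := by
  ext x; simp [Subgroup.mem_map]

theorem map_conj_eq_self_iff (H : Subgroup G) (n : G) :
    H.map (MulAut.conj n).toMonoidHom = H ↔ n ∈ Subgroup.normalizer (H : Set G) := by
  constructor
  · intro h
    apply Cfsg.Agent.Helper4.SubnormalPRad.mem_normalizer_of_conj_mem'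
    intro x hx
    have : (MulAut.conj n).toMonoidHom x ∈ H.map (MulAut.conj n).toMonoidHom :=
      Subgroup.mem_map_of_mem _ hx
    rw [h] at this
    simpa using this
  · intro hn
    apply le_antisymm
    · rw [map_conj_le_iff]
      intro x hx
      exact (Subgroup.mem_normalizer_iff.1 hn x).1 hx
    · intro x hx
      refine ⟨n⁻¹ * x * n, ?_, by simp [mul_assoc]⟩
      have hn' : n⁻¹ ∈ Subgroup.normalizer (H : Set G) := inv_mem hn
      have := (Subgroup.mem_normalizer_iff.1 hn' x).1 hx
      simpa using this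

/-- The two counts agree: (number of Sylow `p`-subgroups containing `H`) `* |N_G(P)|` equals
(number of conjugates of `H` in `P`) `* |N_G(H)|`. -/
theorem sylow_count_mul_eq (H : Subgroup G) (P : Sylow p G) :
    Nat.card {Q : Sylow p G // H ≤ (Q : Subgroup G)} *
        Nat.card ↥(Subgroup.normalizer ((P : Subgroup G) : Set G)) =
      Nat.card {K : Subgroup G // K ≤ (P : Subgroup G) ∧
          ∃ g : G, K = H.map (MulAut.conj g).toMonoidHom} *
        Nat.card ↥(Subgroup.normalizer (H : Set G)) := by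
  let _ : Fintype G := Fintype.ofFinite G
  let _ : Fintype (Sylow p G) := Fintype.ofFinite _
  let _ : Fintype (Subgroup G) := Fintype.ofFinite _
  obtain ⟨T, hT⟩ : ∃ T : Finset G, T = Finset.univ.filter
    (fun x : G => H.map (MulAut.conj x).toMonoidHom ≤ (P : Subgroup G)) := ⟨_, rfl⟩
  have hmemT : ∀ x, x ∈ T ↔ H.map (MulAut.conj x).toMonoidHom ≤ (P : Subgroup G) := by
    intro x; rw [hT, Finset.mem_filter]; simp
  -- first count: by the conjugate `x H x⁻¹`
  have h1 : T.card = (T.image (fun x => H.map (MulAut.conj x).toMonoidHom)).card *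
      Nat.card ↥(Subgroup.normalizer (H : Set G)) := by
    apply card_eq_mul_of_fibres
    intro K hK
    rw [Finset.mem_image] at hK
    obtain ⟨g₀, hg₀, rfl⟩ := hK
    have : T.filter (fun x => H.map (MulAut.conj x).toMonoidHom =
          H.map (MulAut.conj g₀).toMonoidHom) =
        (Finset.univ.filter (fun n : G => n ∈ Subgroup.normalizer (H : Set G))).map
          (mulLeftEmbedding g₀) := by
      ext x
      simp only [Finset.mem_filter, Finset.mem_map, Finset.mem_univ, true_and,
        mulLeftEmbedding_apply]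
      constructor
      · rintro ⟨_, hx⟩
        refine ⟨g₀⁻¹ * x, ?_, by simp⟩
        rw [← map_conj_eq_self_iff, map_conj_mul, hx, ← map_conj_mul, inv_mul_cancel,
          map_conj_one]
      · rintro ⟨n, hn, rfl⟩
        have : H.map (MulAut.conj (g₀ * n)).toMonoidHom =
            H.map (MulAut.conj g₀).toMonoidHom := by
          rw [map_conj_mul, (map_conj_eq_self_iff H n).2 hn]
        refine ⟨?_, this⟩
        rw [hmemT, this]
        exact (hmemT g₀).1 hg₀
    rw [this, Finset.card_map, Nat.card_eq_fintype_card, Fintype.card_subtype]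
  -- second count: by the Sylow subgroup `x⁻¹ P x`
  have hle_iff : ∀ x : G, H ≤ ((x⁻¹ • P : Sylow p G) : Subgroup G) ↔
      H.map (MulAut.conj x).toMonoidHom ≤ (P : Subgroup G) := by
    intro x
    rw [map_conj_le_iff, Sylow.coe_subgroup_smul]
    constructor
    · intro h y hy
      have := h hy
      rw [Cfsg.Agent.Helper1.mem_conj_smul_iff] at this
      simpa using this
    · intro h y hy
      rw [Cfsg.Agent.Helper1.mem_conj_smul_iff]
      simpa using h y hy
  have h2 : T.card = (T.image (fun x => (x⁻¹ • P : Sylow p G))).card *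
      Nat.card ↥(Subgroup.normalizer ((P : Subgroup G) : Set G)) := by
    apply card_eq_mul_of_fibres
    intro Q hQ
    rw [Finset.mem_image] at hQ
    obtain ⟨x₀, hx₀, rfl⟩ := hQ
    have : T.filter (fun x => (x⁻¹ • P : Sylow p G) = x₀⁻¹ • P) =
        (Finset.univ.filter (fun n : G => n ∈ Subgroup.normalizer ((P : Subgroup G) : Set G))).map
          (mulRightEmbedding x₀) := by
      ext x
      simp only [Finset.mem_filter, Finset.mem_map, Finset.mem_univ, true_and,
        mulRightEmbedding_apply]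
      constructor
      · rintro ⟨_, hx⟩
        refine ⟨x * x₀⁻¹, Sylow.smul_eq_iff_mem_normalizer.1 ?_, by simp⟩
        rw [mul_smul, ← hx, smul_inv_smul]
      · rintro ⟨n, hn, rfl⟩
        have : ((n * x₀)⁻¹ • P : Sylow p G) = x₀⁻¹ • P := by
          rw [mul_inv_rev, mul_smul]
          congr 1
          exact Sylow.smul_eq_iff_mem_normalizer.2 (inv_mem hn)
        refine ⟨?_, this⟩
        rw [hmemT, ← hle_iff, this, hle_iff]
        exact (hmemT x₀).1 hx₀
    rw [this, Finset.card_map, Nat.card_eq_fintype_card, Fintype.card_subtype]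
  -- identify the images
  have hi1 : (T.image (fun x => H.map (MulAut.conj x).toMonoidHom)).card =
      Nat.card {K : Subgroup G // K ≤ (P : Subgroup G) ∧
          ∃ g : G, K = H.map (MulAut.conj g).toMonoidHom} := by
    rw [Nat.card_eq_fintype_card, Fintype.card_subtype]
    congr 1
    ext K
    simp only [Finset.mem_image, Finset.mem_filter, Finset.mem_univ, true_and]
    constructor
    · rintro ⟨x, hx, rfl⟩
      exact ⟨(hmemT x).1 hx, x, rfl⟩
    · rintro ⟨hK, g, rfl⟩
      exact ⟨g, (hmemT g).2 hK, rfl⟩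
  have hi2 : (T.image (fun x => (x⁻¹ • P : Sylow p G))).card =
      Nat.card {Q : Sylow p G // H ≤ (Q : Subgroup G)} := by
    rw [Nat.card_eq_fintype_card, Fintype.card_subtype]
    congr 1
    ext Q
    simp only [Finset.mem_image, Finset.mem_filter, Finset.mem_univ, true_and]
    constructor
    · rintro ⟨x, hx, rfl⟩
      exact (hle_iff x).2 ((hmemT x).1 hx)
    · intro hQ
      obtain ⟨g, hg⟩ := MulAction.exists_smul_eq G P Q
      refine ⟨g⁻¹, ?_, by rw [inv_inv]; exact hg⟩
      rw [hmemT, ← hle_iff, inv_inv, hg]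
      exact hQ
  rw [← hi1, ← hi2, ← h1, ← h2]

end final

end Cfsg.Agent.Helper4.SubnCount
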