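import Mathlib

set_option autoImplicit false

namespace Cfsg.Agent.Helper4

open MulAction

variable {G : Type*} [Group G] [Finite G] {p : ℕ} [hp : Fact p.Prime]

omit [Finite G] in
theorem sylow_eq_of_le (R S : Sylow p G) (h : (R : Subgroup G) ≤ S) : R = S := by
  apply Sylow.ext
  exact (R.is_maximal' S.isPGroup' h).symm

/-- if there are fewer than `p ^ 2` Sylow `p`-subgroups, two distinct ones meet in index `p` -/
theorem relIndex_inf_sylow_eq_prime (hn : Nat.card (Sylow p G) < p ^ 2) (R S : Sylow p G)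
    (hRS : R ≠ S) : ((S : Subgroup G) ⊓ R).relIndex (R : Subgroup G) = p := by
  have hstab : stabilizer (R : Subgroup G) S =
      (Subgroup.normalizer (S : Set G)).subgroupOf R := by
    ext x
    rw [mem_stabilizer_iff, Subgroup.mem_subgroupOf]
    exact Sylow.smul_eq_iff_mem_normalizer
  have h1 : (stabilizer (R : Subgroup G) S).index =
      ((S : Subgroup G) ⊓ R).relIndex (R : Subgroup G) := by
    rw [hstab]
    change (Subgroup.normalizer (S : Set G)).relIndex (R : Subgroup G) = _
    rw [← Subgroup.inf_relIndex_right, inf_comm, R.isPGroup'.inf_normalizer_sylow S, inf_comm]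
  have h2 := MulAction.index_stabilizer (R : Subgroup G) S
  have h3 : (orbit (R : Subgroup G) S).ncard ≤ Nat.card (Sylow p G) := by
    rw [← Set.ncard_univ]
    exact Set.ncard_le_ncard (Set.subset_univ _) (Set.toFinite _)
  have h4 : ((S : Subgroup G) ⊓ R).relIndex (R : Subgroup G) ∣ Nat.card (R : Subgroup G) :=
    Subgroup.relIndex_dvd_card _ _
  obtain ⟨k, hk⟩ := IsPGroup.iff_card.1 R.isPGroup'
  rw [hk] at h4
  obtain ⟨j, -, hjeq⟩ := (Nat.dvd_prime_pow hp.out).1 h4
  have hj0 : j ≠ 0 := by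
    rintro rfl
    rw [pow_zero, Subgroup.relIndex_eq_one] at hjeq
    exact hRS (sylow_eq_of_le R S (hjeq.trans inf_le_left))
  have hlt : p ^ j < p ^ 2 := by
    rw [← hjeq, ← h1, h2]
    exact lt_of_le_of_lt h3 hn
  have hj2 : j < 2 := (Nat.pow_lt_pow_iff_right hp.out.one_lt).1 hlt
  have hj1 : j = 1 := by omega
  rw [hjeq, hj1, pow_one]

theorem inf_sylow_eq_of_le (hn : Nat.card (Sylow p G) < p ^ 2) (T T' : Sylow p G) (hTT' : T ≠ T')
    (E : Subgroup G) (hET : E ≤ T) (hET' : E ≤ T') (hidx : E.relIndex (T : Subgroup G) = p) :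
    (T : Subgroup G) ⊓ T' = E := by
  apply le_antisymm _ (le_inf hET hET')
  have h1 := Subgroup.relIndex_mul_relIndex E ((T : Subgroup G) ⊓ T') (T : Subgroup G)
    (le_inf hET hET') inf_le_left
  have h2 := relIndex_inf_sylow_eq_prime hn T T' hTT'
  rw [inf_comm] at h2
  rw [h2, hidx] at h1
  have h3 : E.relIndex ((T : Subgroup G) ⊓ T') = 1 := by
    have hp0 : 0 < p := hp.out.pos
    exact Nat.eq_of_mul_eq_mul_right hp0 (by rw [one_mul]; exact h1)
  exact Subgroup.relIndex_eq_one.1 h3

theorem ncard_sylow_ge (E : Subgroup G) (T₁ T₂ : Sylow p G) (h12 : T₁ ≠ T₂)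
    (h1 : E ≤ (T₁ : Subgroup G)) (h2 : E ≤ (T₂ : Subgroup G)) :
    p + 1 ≤ {T : Sylow p G | E ≤ (T : Subgroup G)}.ncard := by
  have hE : IsPGroup p E := T₁.isPGroup'.to_le h1
  have hfix : fixedPoints E (Sylow p G) = {T : Sylow p G | E ≤ (T : Subgroup G)} := by
    ext T
    exact hE.sylow_mem_fixedPoints_iff
  have hmod := hE.card_modEq_card_fixedPoints (Sylow p G)
  rw [hfix, Nat.card_coe_set_eq] at hmod
  have hmod1 : {T : Sylow p G | E ≤ (T : Subgroup G)}.ncard ≡ 1 [MOD p] :=
    hmod.symm.trans (card_sylow_modEq_one p G)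
  have hge2 : 1 < {T : Sylow p G | E ≤ (T : Subgroup G)}.ncard := by
    rw [Set.one_lt_ncard_iff (Set.toFinite _)]
    exact ⟨T₁, T₂, h1, h2, h12⟩
  have hdvd : p ∣ {T : Sylow p G | E ≤ (T : Subgroup G)}.ncard - 1 :=
    (Nat.modEq_iff_dvd' (by omega)).1 hmod1.symm
  have := Nat.le_of_dvd (by omega) hdvd
  omega

theorem exists_sylow_not_le [IsSimpleGroup G] (hG : ¬ IsMulCommutative G) (P : Sylow p G)
    (D : Subgroup G) (hD : D ≠ ⊥) : ∃ R : Sylow p G, ¬ D ≤ (R : Subgroup G) := by
  by_contra hall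
  push Not at hall
  have hDle : D ≤ (P : Subgroup G).normalCore := by
    intro d hd b
    have h1 : d ∈ ((b⁻¹ • P : Sylow p G) : Subgroup G) := hall _ hd
    rw [Sylow.coe_subgroup_smul, Subgroup.mem_pointwise_smul_iff_inv_smul_mem] at h1
    simpa using h1
  rcases (Subgroup.normalCore_normal (P : Subgroup G)).eq_bot_or_eq_top with h1 | h1
  · rw [h1, le_bot_iff] at hDle
    exact hD hDle
  · have hPtop : (P : Subgroup G) = ⊤ := by
      rw [eq_top_iff, ← h1]; exact Subgroup.normalCore_le _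
    have hGp : IsPGroup p G := by
      have := P.isPGroup'
      rw [hPtop] at this
      exact IsPGroup.of_equiv this Subgroup.topEquiv
    have hcn : Nontrivial (Subgroup.center G) := hGp.center_nontrivial
    rcases (inferInstance : (Subgroup.center G).Normal).eq_bot_or_eq_top with h2 | h2
    · rw [Subgroup.nontrivial_iff_ne_bot] at hcn
      exact hcn h2
    · apply hG
      refine ⟨⟨fun a b => ?_⟩⟩
      have : b ∈ Subgroup.center G := by rw [h2]; trivial
      exact (Subgroup.mem_center_iff.1 this a)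

end Cfsg.Agent.Helper4
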