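import Mathlib
import Cfsg.Agent.Helper8.HallPetrescu

/-!
# `p`-groups of maximal class: definitions for the Blackburn power-structure project

`gam G i` is `γ_i(G)` (with `γ_0 = γ_1 = ⊤`), `IsMC p n G` says that `G` has order `p ^ n`, `n ≥ 3`,
and class `n - 1`, `IsUniform p s` says `|C_G(s)| = p ^ 2`, `twoStep G j` is the two-step centralizer
`C_G(γ_j / γ_{j+2})`, `lev G` is the chain `⊤ > C_G(γ_2/γ_4) > γ_2 > γ_3 > ⋯` and `PowerStr p n G` is
Blackburn's power structure: `x ∈ lev i ∖ lev (i+1)`, `1 ≤ i ≤ n - p` implies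
`x ^ p ∈ lev (i+p-1) ∖ lev (i+p)`.
-/

set_option autoImplicit false

namespace Cfsg.Agent.Helper4.MC

open scoped commutatorElement

/-- `γ_i(G)` for `i ≥ 1`; `γ_0 = γ_1 = ⊤`. -/
abbrev gam (G : Type*) [Group G] (i : ℕ) : Subgroup G :=
  (⊤ : Subgroup G).lowerCentralSeries (i - 1)

/-- `G` is a `p`-group of maximal class of order `p ^ n`, `n ≥ 3`. -/
structure IsMC (p n : ℕ) (G : Type*) [Group G] : Prop where
  card : Nat.card G = p ^ n
  three_le : 3 ≤ n
  cls : Group.nilpotencyClass G = n - 1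

/-- `s` is a uniform element: its centralizer has order `p ^ 2`. -/
def IsUniform (p : ℕ) {G : Type*} [Group G] (s : G) : Prop :=
  Nat.card (Subgroup.centralizer ({s} : Set G)) = p ^ 2

/-- The two-step centralizer `C_G(γ_j / γ_{j+2})`. -/
def twoStep (G : Type*) [Group G] (j : ℕ) : Subgroup G :=
  (Subgroup.centralizer
    (((gam G j).map (QuotientGroup.mk' (gam G (j + 2)))) : Set (G ⧸ gam G (j + 2)))).comap
    (QuotientGroup.mk' (gam G (j + 2)))

/-- The chain `⊤ > C_G(γ_2/γ_4) > γ_2 > γ_3 > ⋯`. -/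
def lev (G : Type*) [Group G] (i : ℕ) : Subgroup G :=
  if i = 0 then ⊤ else if i = 1 then twoStep G 2 else gam G i

theorem lev_zero (G : Type*) [Group G] : lev G 0 = ⊤ := by simp [lev]

theorem lev_one (G : Type*) [Group G] : lev G 1 = twoStep G 2 := by simp [lev]

theorem lev_of_two_le (G : Type*) [Group G] {i : ℕ} (hi : 2 ≤ i) : lev G i = gam G i := by
  have h0 : i ≠ 0 := by omega
  have h1 : i ≠ 1 := by omega
  simp [lev, h0, h1]

/-- Blackburn's power structure. -/
def PowerStr (p n : ℕ) (G : Type*) [Group G] : Prop :=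
  ∀ i, 1 ≤ i → i + p ≤ n → ∀ x ∈ lev G i, x ∉ lev G (i + 1) →
    x ^ p ∈ lev G (i + p - 1) ∧ x ^ p ∉ lev G (i + p)

end Cfsg.Agent.Helper4.MC
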