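import Mathlib
import Cfsg.Agent.Helper4.MCDefs
import Cfsg.Agent.Helper1.MaxClassNormal

/-!
# `p`-groups of maximal class: basic structure (PIECE B1 of the Blackburn project)
-/

set_option autoImplicit false

namespace Cfsg.Agent.Helper4.MC

open scoped commutatorElement

section general

variable {G : Type*} [Group G]

theorem gam_normal (i : ℕ) : (gam G i).Normal := inferInstance

theorem mem_twoStep (j : ℕ) (x : G) :
    x ∈ twoStep G j ↔ ∀ y ∈ gam G j, ⁅x, y⁆ ∈ gam G (j + 2) := by
  unfold twoStep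
  rw [Subgroup.mem_comap, Subgroup.mem_centralizer_iff]
  constructor
  · intro h y hy
    have h1 := h _ (Subgroup.mem_map_of_mem (QuotientGroup.mk' (gam G (j + 2))) hy)
    have h2 : (QuotientGroup.mk' (gam G (j + 2))) ⁅x, y⁆ = 1 := by
      rw [map_commutatorElement, commutatorElement_eq_one_iff_commute]
      exact h1.symm
    exact (QuotientGroup.eq_one_iff _).1 h2
  · rintro h _ ⟨y, hy, rfl⟩
    have h2 : (QuotientGroup.mk' (gam G (j + 2))) ⁅x, y⁆ = 1 :=
      (QuotientGroup.eq_one_iff _).2 (h y hy)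
    rw [map_commutatorElement, commutatorElement_eq_one_iff_commute] at h2
    exact h2.eq.symm

theorem gam_anti : Antitone (gam G) := fun i j hij =>
  (⊤ : Subgroup G).lowerCentralSeries_antitone (Nat.sub_le_sub_right hij 1)

theorem gam_zero : gam G 0 = ⊤ := rfl

theorem gam_one : gam G 1 = ⊤ := rfl

theorem gam_comm_le {i j : ℕ} (hi : 1 ≤ i) (hj : 1 ≤ j) :
    ⁅gam G i, gam G j⁆ ≤ gam G (i + j) := by
  have h := Cfsg.Agent.Helper8.HP.lcs_comm_le G (i - 1) (j - 1)
  have e : i - 1 + (j - 1) + 1 = i + j - 1 := by omega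
  rw [e] at h
  exact h

theorem comm_mem_gam {i j : ℕ} (hi : 1 ≤ i) (hj : 1 ≤ j) {x y : G} (hx : x ∈ gam G i)
    (hy : y ∈ gam G j) : ⁅x, y⁆ ∈ gam G (i + j) :=
  gam_comm_le hi hj (Subgroup.commutator_mem_commutator hx hy)

theorem comm_mem_gam_succ {i : ℕ} (hi : 1 ≤ i) (g : G) {x : G} (hx : x ∈ gam G i) :
    ⁅g, x⁆ ∈ gam G (i + 1) := by
  have h := comm_mem_gam (G := G) (i := 1) (j := i) le_rfl hi (x := g) (y := x)
    (Subgroup.mem_top g) hx
  rwa [add_comm] at h

theorem comm_mem_gam_succ' {i : ℕ} (hi : 1 ≤ i) (g : G) {x : G} (hx : x ∈ gam G i) :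
    ⁅x, g⁆ ∈ gam G (i + 1) :=
  comm_mem_gam (G := G) (i := i) (j := 1) hi le_rfl hx (Subgroup.mem_top g)

theorem twoStep_normal (j : ℕ) : (twoStep G j).Normal := by
  refine ⟨fun x hx g => ?_⟩
  rw [mem_twoStep] at hx ⊢
  intro y hy
  have h1 : g⁻¹ * y * g ∈ gam G j := by
    have := (gam_normal (G := G) j).conj_mem y hy g⁻¹
    simpa using this
  have h2 := hx _ h1
  have h3 := (gam_normal (G := G) (j + 2)).conj_mem _ h2 g
  have e : g * ⁅x, g⁻¹ * y * g⁆ * g⁻¹ = ⁅g * x * g⁻¹, y⁆ := by
    simp only [commutatorElement_def]; group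
  rwa [e] at h3

theorem lev_normal (i : ℕ) : (lev G i).Normal := by
  unfold lev
  split_ifs
  · infer_instance
  · exact twoStep_normal 2
  · infer_instance

theorem gam_two_le_twoStep {j : ℕ} (hj : 2 ≤ j) : gam G 2 ≤ twoStep G j := by
  intro x hx
  rw [mem_twoStep]
  intro y hy
  have := comm_mem_gam (G := G) (i := 2) (j := j) (by omega) (by omega) hx hy
  rwa [add_comm] at this

end general

section mc

variable {G : Type*} [Group G] [Finite G] {p n : ℕ} [hp : Fact p.Prime]

theorem IsMC.isPGroup (hG : IsMC p n G) : IsPGroup p G := IsPGroup.of_card hG.card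

theorem IsMC.card_gam (hG : IsMC p n G) {i : ℕ} (hi : 2 ≤ i) (hin : i ≤ n) :
    Nat.card (gam G i) = p ^ (n - i) := by
  have h := Cfsg.Agent.Helper1.maxClass_card_lcs n hG.card hG.cls hG.three_le (i - 1) (by omega)
    (by omega)
  have e : n - 1 - (i - 1) = n - i := by omega
  rw [e] at h
  exact h

theorem IsMC.gam_eq_bot (hG : IsMC p n G) {i : ℕ} (hi : n ≤ i) : gam G i = ⊥ := by
  have h1 : gam G n = ⊥ := by
    have := hG.card_gam (i := n) (by have := hG.three_le; omega) le_rfl
    rw [Nat.sub_self, pow_zero] at this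
    exact Subgroup.card_eq_one.1 this
  exact le_bot_iff.1 (h1 ▸ gam_anti hi)

theorem IsMC.card_gam_two (hG : IsMC p n G) : Nat.card (gam G 2) = p ^ (n - 2) :=
  hG.card_gam le_rfl (by have := hG.three_le; omega)

theorem IsMC.gam_lt (hG : IsMC p n G) {i : ℕ} (hi : 1 ≤ i) (hin : i < n) :
    gam G (i + 1) < gam G i := by
  have hpp := hp.out
  refine lt_of_le_of_ne (gam_anti (Nat.le_succ i)) ?_
  intro h
  have h1 := hG.card_gam (i := i + 1) (by omega) (by omega)
  rcases Nat.lt_or_ge i 2 with h2 | h2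
  · obtain rfl : i = 1 := by omega
    rw [h, gam_one, Subgroup.card_top, hG.card] at h1
    have := Nat.pow_right_injective hpp.two_le h1
    omega
  · have h3 := hG.card_gam (i := i) h2 (by omega)
    rw [h, h3] at h1
    have := Nat.pow_right_injective hpp.two_le h1
    omega

theorem IsMC.center_eq (hG : IsMC p n G) : Subgroup.center G = gam G (n - 1) := by
  have hn := hG.three_le
  have h1 := (Cfsg.Agent.Helper1.maxClass_center n hn hG.card hG.cls).1
  have h2 := hG.card_gam (i := n - 1) (by omega) (by omega)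
  have h3 : gam G (n - 1) ≤ Subgroup.center G := by
    intro x hx
    rw [Subgroup.mem_center_iff]
    intro g
    have h4 := comm_mem_gam_succ (G := G) (i := n - 1) (by omega) g hx
    rw [hG.gam_eq_bot (by omega), Subgroup.mem_bot, commutatorElement_eq_one_iff_commute] at h4
    exact h4.eq
  symm
  apply Subgroup.eq_of_le_of_card_ge h3
  rw [h1, h2]
  have : n - (n - 1) = 1 := by omega
  rw [this, pow_one]

theorem IsMC.card_center (hG : IsMC p n G) : Nat.card (Subgroup.center G) = p :=
  (Cfsg.Agent.Helper1.maxClass_center n hG.three_le hG.card hG.cls).1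

/-- a subgroup of `γ_i` containing `γ_{i+1}` properly is `γ_i` (also for `lev`). -/
theorem eq_of_lt_of_card {A B K : Subgroup G} {m : ℕ} (hA : Nat.card A = p ^ (m + 1))
    (hB : Nat.card B = p ^ m) (hBK : B < K) (hKA : K ≤ A) : K = A := by
  have hpp := hp.out
  apply Subgroup.eq_of_le_of_card_ge hKA
  have hK : IsPGroup p K := (IsPGroup.of_card hA).to_le hKA
  obtain ⟨k, hk⟩ := IsPGroup.iff_card.1 hK
  have h1 : Nat.card B < Nat.card K := Cfsg.Agent.Helper1.card_lt_card_of_lt hBK
  rw [hB, hk] at h1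
  have h2 : m < k := (Nat.pow_lt_pow_iff_right hpp.one_lt).1 h1
  rw [hA, hk]
  exact Nat.pow_le_pow_right hpp.pos h2

theorem IsMC.gam_comm_self_le (hG : IsMC p n G) {i : ℕ} (hi : 2 ≤ i) :
    ⁅gam G i, gam G i⁆ ≤ gam G (2 * i + 1) := by
  rcases Nat.lt_or_ge i n with hin | hin
  · -- pick `x ∈ γ_i ∖ γ_{i+1}`
    obtain ⟨x, hx, hx'⟩ := SetLike.exists_of_lt (hG.gam_lt (by omega) hin)
    have hgen : gam G i = Subgroup.zpowers x ⊔ gam G (i + 1) := by
      symm
      apply eq_of_lt_of_card (p := p) (m := n - (i + 1)) (A := gam G i) (B := gam G (i + 1))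
      · rw [hG.card_gam hi hin.le]; congr 1; omega
      · exact hG.card_gam (by omega) (by omega)
      · refine lt_of_le_of_ne le_sup_right ?_
        intro h
        apply hx'
        rw [h]
        exact Subgroup.mem_sup_left (Subgroup.mem_zpowers x)
      · exact sup_le ((Subgroup.zpowers_le).2 hx) (gam_anti (Nat.le_succ i))
    -- work in the quotient by `N = γ_{2i+1}`
    set N := gam G (2 * i + 1) with hN
    have hcen : ∀ c ∈ gam G (i + 1), ∀ y ∈ gam G i, ⁅c, y⁆ ∈ N := by
      intro c hc y hy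
      have := comm_mem_gam (G := G) (i := i + 1) (j := i) (by omega) (by omega) hc hy
      have e : i + 1 + i = 2 * i + 1 := by omega
      rwa [e] at this
    rw [Subgroup.commutator_le]
    -- centralizer of the image of `γ_i` in `G/N` contains the image of `x` and of `γ_{i+1}`
    have key : ∀ a ∈ gam G i, ∀ b ∈ gam G i, ⁅a, b⁆ ∈ N := by
      have hsub : gam G i ≤ (Subgroup.centralizer
          (((gam G i).map (QuotientGroup.mk' N)) : Set (G ⧸ N))).comap (QuotientGroup.mk' N) := by
        -- first the weaker statement for the centralizer of the image of x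
        have hx_comm : ∀ b ∈ gam G i, ⁅x, b⁆ ∈ N := by
          intro b hb
          rw [hgen] at hb
          -- b ∈ zpowers x ⊔ γ_{i+1}: use closure in the centralizer of mk x
          have hle : Subgroup.zpowers x ⊔ gam G (i + 1) ≤
              (Subgroup.centralizer ({(QuotientGroup.mk' N) x} : Set (G ⧸ N))).comap
                (QuotientGroup.mk' N) := by
            apply sup_le
            · rw [Subgroup.zpowers_le, Subgroup.mem_comap, Subgroup.mem_centralizer_iff]
              intro h hh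
              rw [Set.mem_singleton_iff] at hh
              rw [hh]
            · intro c hc
              rw [Subgroup.mem_comap, Subgroup.mem_centralizer_iff]
              intro h hh
              rw [Set.mem_singleton_iff] at hh
              rw [hh]
              have h1 : (QuotientGroup.mk' N) ⁅c, x⁆ = 1 :=
                (QuotientGroup.eq_one_iff _).2 (hcen c hc x hx)
              rw [map_commutatorElement, commutatorElement_eq_one_iff_commute] at h1
              exact h1.eq.symm
          have h2 := hle hb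
          rw [Subgroup.mem_comap, Subgroup.mem_centralizer_iff] at h2
          have h3 := h2 _ (Set.mem_singleton _)
          apply (QuotientGroup.eq_one_iff _).1
          show (QuotientGroup.mk' N) ⁅x, b⁆ = 1
          rw [map_commutatorElement, commutatorElement_eq_one_iff_commute]
          exact h3
        rw [hgen]
        apply sup_le
        · rw [Subgroup.zpowers_le, Subgroup.mem_comap, Subgroup.mem_centralizer_iff]
          rintro _ ⟨b, hb, rfl⟩
          have h1 : (QuotientGroup.mk' N) ⁅x, b⁆ = 1 :=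
            (QuotientGroup.eq_one_iff _).2 (hx_comm b (hgen ▸ hb))
          rw [map_commutatorElement, commutatorElement_eq_one_iff_commute] at h1
          exact h1.eq.symm
        · intro c hc
          rw [Subgroup.mem_comap, Subgroup.mem_centralizer_iff]
          rintro _ ⟨b, hb, rfl⟩
          have h1 : (QuotientGroup.mk' N) ⁅c, b⁆ = 1 :=
            (QuotientGroup.eq_one_iff _).2 (hcen c hc b (hgen ▸ hb))
          rw [map_commutatorElement, commutatorElement_eq_one_iff_commute] at h1
          exact h1.eq.symm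
      intro a ha b hb
      have h1 := hsub ha
      rw [Subgroup.mem_comap, Subgroup.mem_centralizer_iff] at h1
      have h2 := h1 _ (Subgroup.mem_map_of_mem (QuotientGroup.mk' N) hb)
      apply (QuotientGroup.eq_one_iff _).1
      show (QuotientGroup.mk' N) ⁅a, b⁆ = 1
      rw [map_commutatorElement, commutatorElement_eq_one_iff_commute]
      exact h2.symm
    exact key
  · rw [hG.gam_eq_bot hin]
    simp

/-- the subgroup `{y | ⁅x, y⁆ ∈ N}` for a normal subgroup `N`. -/
def commSub (N : Subgroup G) [N.Normal] (x : G) : Subgroup G :=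
  (Subgroup.centralizer ({(QuotientGroup.mk' N) x} : Set (G ⧸ N))).comap (QuotientGroup.mk' N)

omit [Finite G] in
theorem mem_commSub (N : Subgroup G) [N.Normal] (x y : G) : y ∈ commSub N x ↔ ⁅x, y⁆ ∈ N := by
  unfold commSub
  rw [Subgroup.mem_comap, Subgroup.mem_centralizer_iff]
  constructor
  · intro h
    have h1 := h _ (Set.mem_singleton _)
    have h2 : (QuotientGroup.mk' N) ⁅x, y⁆ = 1 := by
      rw [map_commutatorElement, commutatorElement_eq_one_iff_commute]
      exact h1
    exact (QuotientGroup.eq_one_iff _).1 h2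
  · intro h z hz
    rw [Set.mem_singleton_iff] at hz
    rw [hz]
    have h2 : (QuotientGroup.mk' N) ⁅x, y⁆ = 1 := (QuotientGroup.eq_one_iff _).2 h
    rw [map_commutatorElement, commutatorElement_eq_one_iff_commute] at h2
    exact h2.eq

theorem IsMC.gam_eq_zpowers_sup (hG : IsMC p n G) {i : ℕ} (hi : 2 ≤ i) (hin : i < n) {x : G}
    (hx : x ∈ gam G i) (hx' : x ∉ gam G (i + 1)) :
    gam G i = Subgroup.zpowers x ⊔ gam G (i + 1) := by
  symm
  apply eq_of_lt_of_card (p := p) (m := n - (i + 1)) (A := gam G i) (B := gam G (i + 1))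
  · rw [hG.card_gam hi hin.le]; congr 1; omega
  · exact hG.card_gam (by omega) (by omega)
  · refine lt_of_le_of_ne le_sup_right ?_
    intro h
    apply hx'
    rw [h]
    exact Subgroup.mem_sup_left (Subgroup.mem_zpowers x)
  · exact sup_le ((Subgroup.zpowers_le).2 hx) (gam_anti (Nat.le_succ i))

theorem IsMC.mem_twoStep_iff (hG : IsMC p n G) {j : ℕ} (hj : 2 ≤ j) (hjn : j < n) {y₀ : G}
    (hy : y₀ ∈ gam G j) (hy' : y₀ ∉ gam G (j + 1)) (x : G) :
    x ∈ twoStep G j ↔ ⁅x, y₀⁆ ∈ gam G (j + 2) := by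
  rw [mem_twoStep]
  constructor
  · intro h
    exact h y₀ hy
  · intro h y hyj
    rw [← mem_commSub]
    have hle : gam G j ≤ commSub (gam G (j + 2)) x := by
      rw [hG.gam_eq_zpowers_sup hj hjn hy hy']
      apply sup_le
      · rw [Subgroup.zpowers_le, mem_commSub]
        exact h
      · intro c hc
        rw [mem_commSub]
        exact comm_mem_gam_succ (by omega) x hc
    exact hle hyj

theorem IsMC.index_gam (hG : IsMC p n G) {i : ℕ} (hi : 2 ≤ i) (hin : i ≤ n) :
    (gam G i).index = p ^ i := by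
  have hpp := hp.out
  have h1 := Subgroup.card_mul_index (gam G i)
  rw [hG.card_gam hi hin, hG.card] at h1
  have h2 : p ^ (n - i) * p ^ i = p ^ n := by
    rw [← pow_add]; congr 1; omega
  rw [← h2] at h1
  exact Nat.eq_of_mul_eq_mul_left (pow_pos hpp.pos _) h1

theorem IsMC.card_map_mk_gam (hG : IsMC p n G) {i k : ℕ} (hi : 2 ≤ i) (hik : i ≤ k) (hkn : k ≤ n) :
    Nat.card ((gam G i).map (QuotientGroup.mk' (gam G k))) = p ^ (k - i) := by
  have hpp := hp.out
  have h1 := Subgroup.card_mul_index ((gam G i).map (QuotientGroup.mk' (gam G k)))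
  have h2 : ((gam G i).map (QuotientGroup.mk' (gam G k))).index = p ^ i := by
    rw [Subgroup.index_map_eq _ (QuotientGroup.mk'_surjective _)
      (by rw [QuotientGroup.ker_mk']; exact gam_anti hik)]
    exact hG.index_gam hi (hik.trans hkn)
  have h3 : Nat.card (G ⧸ gam G k) = p ^ k := by
    rw [← Subgroup.index_eq_card]
    exact hG.index_gam (hi.trans hik) hkn
  rw [h2, h3] at h1
  have h4 : p ^ (k - i) * p ^ i = p ^ k := by
    rw [← pow_add]; congr 1; omega
  rw [← h4] at h1
  exact Nat.eq_of_mul_eq_mul_right (pow_pos hpp.pos _) h1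

theorem IsMC.twoStep_ne_top (hG : IsMC p n G) {j : ℕ} (hj : 1 ≤ j) (hjn : j + 2 ≤ n) :
    twoStep G j ≠ ⊤ := by
  intro h
  have h1 : gam G (j + 1) ≤ gam G (j + 2) := by
    have e : gam G (j + 1) = ⁅gam G j, (⊤ : Subgroup G)⁆ := by
      show (⊤ : Subgroup G).lowerCentralSeries (j + 1 - 1) = _
      have : j + 1 - 1 = (j - 1) + 1 := by omega
      rw [this, Subgroup.lowerCentralSeries_succ]
    rw [e, Subgroup.commutator_le]
    intro y hy g _
    have hg : g ∈ twoStep G j := by rw [h]; exact Subgroup.mem_top g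
    rw [mem_twoStep] at hg
    have h2 := hg y hy
    have e2 : ⁅y, g⁆ = ⁅g, y⁆⁻¹ := (commutatorElement_inv g y).symm
    rw [e2]
    exact inv_mem h2
  exact absurd h1 (not_le_of_gt (hG.gam_lt (i := j + 1) (by omega) (by omega)))

theorem IsMC.card_twoStep (hG : IsMC p n G) {j : ℕ} (hj : 2 ≤ j) (hjn : j + 2 ≤ n) :
    Nat.card (twoStep G j) = p ^ (n - 1) := by
  have hpp := hp.out
  obtain ⟨y₀, hy, hy'⟩ := SetLike.exists_of_lt (hG.gam_lt (i := j) (by omega) (by omega))
  set N := gam G (j + 2) with hN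
  have hmul : ∀ g h : G, (QuotientGroup.mk' N) ⁅g * h, y₀⁆ =
      (QuotientGroup.mk' N) ⁅g, y₀⁆ * (QuotientGroup.mk' N) ⁅h, y₀⁆ := by
    intro g h
    have hc : ⁅h, y₀⁆ ∈ gam G (j + 1) := comm_mem_gam_succ (by omega) h hy
    have hd : ⁅g, y₀⁆ ∈ gam G (j + 1) := comm_mem_gam_succ (by omega) g hy
    have e1 : ⁅g * h, y₀⁆ = ⁅g, ⁅h, y₀⁆⁆ * ⁅h, y₀⁆ * ⁅g, y₀⁆ := by
      simp only [commutatorElement_def]; group
    have h1 : ⁅g, ⁅h, y₀⁆⁆ ∈ N := comm_mem_gam_succ (G := G) (i := j + 1) (by omega) g hc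
    have h2 : ⁅⁅h, y₀⁆, ⁅g, y₀⁆⁆ ∈ N := by
      have := comm_mem_gam (G := G) (i := j + 1) (j := j + 1) (by omega) (by omega) hc hd
      exact gam_anti (by omega) this
    have h1' : (QuotientGroup.mk' N) ⁅g, ⁅h, y₀⁆⁆ = 1 := (QuotientGroup.eq_one_iff _).2 h1
    rw [e1, map_mul, map_mul, h1', one_mul]
    have h3 : (QuotientGroup.mk' N) ⁅⁅h, y₀⁆, ⁅g, y₀⁆⁆ = 1 := (QuotientGroup.eq_one_iff _).2 h2
    rw [map_commutatorElement, commutatorElement_eq_one_iff_commute] at h3
    exact h3.eq
  let θ : G →* G ⧸ N := MonoidHom.mk' (fun g => (QuotientGroup.mk' N) ⁅g, y₀⁆) hmul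
  have hker : θ.ker = twoStep G j := by
    ext x
    rw [MonoidHom.mem_ker, hG.mem_twoStep_iff hj (by omega) hy hy']
    show (QuotientGroup.mk' N) ⁅x, y₀⁆ = 1 ↔ _
    exact QuotientGroup.eq_one_iff _
  have hrange : θ.range ≤ (gam G (j + 1)).map (QuotientGroup.mk' N) := by
    rintro _ ⟨g, rfl⟩
    exact Subgroup.mem_map_of_mem _ (comm_mem_gam_succ (by omega) g hy)
  have hcardmap : Nat.card ((gam G (j + 1)).map (QuotientGroup.mk' N)) = p := by
    have := hG.card_map_mk_gam (i := j + 1) (k := j + 2) (by omega) (by omega) hjn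
    rw [this]
    have : j + 2 - (j + 1) = 1 := by omega
    rw [this, pow_one]
  have hidx : (twoStep G j).index ∣ p := by
    rw [← hker, Subgroup.index_ker, ← hcardmap]
    exact Subgroup.card_dvd_of_le hrange
  have hidx' : (twoStep G j).index = p := by
    rcases (Nat.dvd_prime hpp).1 hidx with h | h
    · exact absurd (Subgroup.index_eq_one.1 h) (hG.twoStep_ne_top (by omega) hjn)
    · exact h
  have h1 := Subgroup.card_mul_index (twoStep G j)
  rw [hidx', hG.card] at h1
  have h2 : p ^ (n - 1) * p = p ^ n := by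
    rw [← pow_succ]; congr 1; have := hG.three_le; omega
  rw [← h2] at h1
  exact Nat.eq_of_mul_eq_mul_right hpp.pos h1

theorem IsMC.card_lev (hG : IsMC p n G) (hn : 4 ≤ n) {i : ℕ} (hin : i ≤ n) :
    Nat.card (lev G i) = p ^ (n - i) := by
  rcases Nat.lt_or_ge i 2 with h | h
  · interval_cases i
    · rw [lev_zero, Subgroup.card_top, hG.card, Nat.sub_zero]
    · rw [lev_one]
      exact hG.card_twoStep le_rfl (by omega)
  · rw [lev_of_two_le G h]
    exact hG.card_gam h hin

omit [Finite G] hp in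
theorem lev_antitone : Antitone (lev G) := by
  intro a b hab
  rcases Nat.lt_or_ge a 2 with h | h
  · interval_cases a
    · rw [lev_zero]; exact le_top
    · rcases Nat.lt_or_ge b 2 with h' | h'
      · obtain rfl : b = 1 := by omega
        exact le_rfl
      · rw [lev_one, lev_of_two_le G h']
        exact (gam_anti h').trans (gam_two_le_twoStep le_rfl)
  · rw [lev_of_two_le G h, lev_of_two_le G (h.trans hab)]
    exact gam_anti hab

omit [Finite G] hp in
theorem IsMC.lev_anti (_hG : IsMC p n G) (_hn : 4 ≤ n) : Antitone (lev G) := lev_antitone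

omit [Finite G] hp in
theorem IsMC.exists_lev (_hG : IsMC p n G) (_hn : 4 ≤ n) {x : G} {a b : ℕ} (hx : x ∈ lev G a)
    (hx' : x ∉ lev G b) : ∃ j, a ≤ j ∧ j < b ∧ x ∈ lev G j ∧ x ∉ lev G (j + 1) := by
  classical
  have hex : ∃ k, x ∉ lev G k := ⟨b, hx'⟩
  set m := Nat.find hex with hm
  have hm1 : x ∉ lev G m := Nat.find_spec hex
  have hm2 : m ≤ b := Nat.find_min' hex hx'
  have hm3 : a < m := by
    by_contra hcon
    exact hm1 (lev_antitone (not_lt.1 hcon) hx)
  refine ⟨m - 1, by omega, by omega, ?_, ?_⟩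
  · by_contra hcon
    have := Nat.find_min' hex hcon
    omega
  · have : m - 1 + 1 = m := by omega
    rw [this]
    exact hm1

theorem IsMC.lev_eq_zpowers_sup (hG : IsMC p n G) (hn : 4 ≤ n) {i : ℕ} (hin : i < n) {x : G}
    (hx : x ∈ lev G i) (hx' : x ∉ lev G (i + 1)) :
    lev G i = Subgroup.zpowers x ⊔ lev G (i + 1) := by
  symm
  apply eq_of_lt_of_card (p := p) (m := n - (i + 1)) (A := lev G i) (B := lev G (i + 1))
  · rw [hG.card_lev hn hin.le]; congr 1; omega
  · exact hG.card_lev hn (by omega)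
  · refine lt_of_le_of_ne le_sup_right ?_
    intro h
    apply hx'
    rw [h]
    exact Subgroup.mem_sup_left (Subgroup.mem_zpowers x)
  · exact sup_le ((Subgroup.zpowers_le).2 hx) (lev_antitone (Nat.le_succ i))

end mc

end Cfsg.Agent.Helper4.MC
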