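import Mathlib
import Cfsg.Agent.Helper4.MCBase
import Cfsg.Agent.Helper3.MCC1
import Cfsg.Agent.Helper8.MCC2
import Cfsg.Agent.Lead.MCC34

/-!
# Blackburn's power structure from one uniform element (assembly C of the Blackburn project)

`powerStr_of` is the assembly with the three facts about the uniform element `s` (piece B2) as
hypotheses: `(s x)^p = s^p` for `x ∈ γ₂`, and `⁅s, ·⁆`, `⁅s⁻¹, ·⁆` shift the levels by exactly one.
-/

set_option autoImplicit false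

namespace Cfsg.Agent.Helper4.MC

open scoped commutatorElement
open Cfsg.Agent.Helper8.HP (agemo)

variable {G : Type*} [Group G] [Finite G] {p n : ℕ} [hp : Fact p.Prime]

/-- `x ∈ γ_i ∖ γ_{i+1}` implies `x ^ p ∉ γ_{i+p}` for `2 ≤ i ≤ n - p` (downward induction from the
anchor). -/
theorem pow_not_mem_of (hG : IsMC p n G) (hn : p + 2 ≤ n) {s : G}
    (hmul : ∀ {x : G}, x ∈ gam G 2 → (s * x) ^ p = s ^ p)
    (hcl : ∀ {j : ℕ}, 1 ≤ j → j + 2 ≤ n → ∀ {x : G}, x ∈ lev G j → x ∉ lev G (j + 1) →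
      ⁅s, x⁆ ∈ lev G (j + 1) ∧ ⁅s, x⁆ ∉ lev G (j + 2))
    (hcl' : ∀ {j : ℕ}, 1 ≤ j → j + 2 ≤ n → ∀ {x : G}, x ∈ lev G j → x ∉ lev G (j + 1) →
      ⁅s⁻¹, x⁆ ∈ lev G (j + 1) ∧ ⁅s⁻¹, x⁆ ∉ lev G (j + 2)) :
    ∀ d i, 2 ≤ i → i + p + d = n → ∀ x ∈ gam G i, x ∉ gam G (i + 1) → x ^ p ∉ gam G (i + p) := by
  have hpp := hp.out
  have hp2 := hpp.two_le
  have hC1 : ∀ i, 2 ≤ i → agemo p (gam G i) ≤ gam G (i + p - 1) :=
    Cfsg.Agent.Helper3.MC.agemo_gam_le_of_mul_pow hG (fun x hx => hmul hx)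
  intro d
  induction d with
  | zero =>
    intro i hi hin x hx hx'
    have e1 : i = n - p := by omega
    subst e1
    have h1 := Cfsg.Agent.Helper8.MC.anchor_of hG hn (fun h => hmul h)
      (fun hi hin _ hx hx' => hcl' hi hin hx hx') hC1 hx hx'
    rw [hG.gam_eq_bot (by omega), Subgroup.mem_bot]
    exact h1
  | succ d ih =>
    intro i hi hin x hx hx'
    exact Cfsg.Agent.Lead.MC.shift_down_of (n := n) hpp hi (by omega)
      (fun hj hjn _ hx hx' => hcl hj hjn hx hx') hC1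
      (fun y hy hy' => by
        have := ih (i + 1) (by omega) (by omega) y hy hy'
        have e : i + 1 + p = i + 1 + p := rfl
        exact this) hx hx'

/-- Assembly C, hypothesis form. -/
theorem powerStr_of (hG : IsMC p n G) (hn : p + 2 ≤ n) {s : G}
    (hmul : ∀ {x : G}, x ∈ gam G 2 → (s * x) ^ p = s ^ p)
    (hcl : ∀ {j : ℕ}, 1 ≤ j → j + 2 ≤ n → ∀ {x : G}, x ∈ lev G j → x ∉ lev G (j + 1) →
      ⁅s, x⁆ ∈ lev G (j + 1) ∧ ⁅s, x⁆ ∉ lev G (j + 2))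
    (hcl' : ∀ {j : ℕ}, 1 ≤ j → j + 2 ≤ n → ∀ {x : G}, x ∈ lev G j → x ∉ lev G (j + 1) →
      ⁅s⁻¹, x⁆ ∈ lev G (j + 1) ∧ ⁅s⁻¹, x⁆ ∉ lev G (j + 2)) :
    PowerStr p n G := by
  have hpp := hp.out
  have hp2 := hpp.two_le
  have hn4 : 4 ≤ n := by omega
  have hC1 : ∀ i, 2 ≤ i → agemo p (gam G i) ≤ gam G (i + p - 1) :=
    Cfsg.Agent.Helper3.MC.agemo_gam_le_of_mul_pow hG (fun x hx => hmul hx)
  have hQ : ∀ i, 2 ≤ i → i + p ≤ n → ∀ x ∈ gam G i, x ∉ gam G (i + 1) →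
      x ^ p ∉ gam G (i + p) := fun i hi hin =>
    pow_not_mem_of hG hn hmul hcl hcl' (n - (i + p)) i hi (by omega)
  intro i hi hin x hx hx'
  rcases Nat.lt_or_ge i 2 with h | h
  · obtain rfl : i = 1 := by omega
    rw [lev_of_two_le G (le_refl 2)] at hx'
    have h1 := Cfsg.Agent.Lead.MC.level_one_of (n := n) hpp hn (hG.gam_eq_bot le_rfl) hG.center_eq
      (hG.lev_anti hn4) (fun hx hx' => hG.exists_lev hn4 hx hx')
      (fun hj hjn _ hx hx' => hcl hj hjn hx hx') hC1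
      (fun y hy hy' => by
        have := hQ 2 le_rfl (by omega) y hy hy'
        rwa [show 2 + p = p + 2 by omega] at this) hx hx'
    rw [lev_of_two_le G (by omega : 2 ≤ 1 + p - 1), lev_of_two_le G (by omega : 2 ≤ 1 + p)]
    rw [show 1 + p - 1 = p by omega, show 1 + p = p + 1 by omega]
    exact h1
  · rw [lev_of_two_le G h] at hx
    rw [lev_of_two_le G (by omega : 2 ≤ i + 1)] at hx'
    rw [lev_of_two_le G (by omega : 2 ≤ i + p - 1), lev_of_two_le G (by omega : 2 ≤ i + p)]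
    refine ⟨?_, hQ i h hin x hx hx'⟩
    apply hC1 i h
    exact Subgroup.subset_closure ⟨x, hx, rfl⟩

end Cfsg.Agent.Helper4.MC
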