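import Mathlib
import Cfsg.Agent.Helper4.MCPower
import Cfsg.Agent.Helper6.MCDepth2
import Cfsg.Agent.Lead.MaximalClass2
import Cfsg.Agent.Helper1.MCB2
import Cfsg.Agent.Helper5.MCE1
import Cfsg.Agent.Helper9.MCF

/-!
# A pearl forces maximal class and sectional rank at most `p` (group-theoretic core of S5238)
-/

set_option autoImplicit false

namespace Cfsg.Agent.Helper4.MC

open scoped commutatorElement
open Cfsg.Agent.Helper8.HP (agemo)

variable {G : Type*} [Group G] [Finite G] {p n : ℕ} [hp : Fact p.Prime]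

/-- Assembly C: Blackburn's power structure from one uniform element. -/
theorem powerStr_of_uniform (hG : IsMC p n G) (hn : p + 2 ≤ n) {s : G} (hs : IsUniform p s) :
    PowerStr p n G := by
  have hp2 := hp.out.two_le
  exact powerStr_of hG hn (fun hx => Cfsg.Agent.Helper1.MC.IsUniform.mul_pow hG hs hx)
    (fun hj hjn _ hx hx' =>
      Cfsg.Agent.Helper1.MC.IsUniform.comm_lev hG (by omega) hs hj hjn hx hx')
    (fun hj hjn _ hx hx' =>
      Cfsg.Agent.Helper1.MC.IsUniform.comm_lev hG (by omega)
        (Cfsg.Agent.Helper1.MC.IsUniform.inv hs) hj hjn hx hx')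

/-- Piece D (literal form). -/
theorem relIndex_agemo_le (hG : IsMC p n G) (hn : p + 2 ≤ n) (hP : PowerStr p n G)
    (H : Subgroup G) : (agemo p H).relIndex H ≤ p ^ p := by
  have hp2 := hp.out.two_le
  exact Cfsg.Agent.Helper6.MC.relIndex_agemo_le_aux hG.card hn
    (fun i hi => hG.card_lev (by omega) hi) (hG.lev_anti (by omega)) hP H

/-- a subgroup of order at most `p ^ k` of a finite `p`-group is generated by `k` elements. -/
theorem exists_gens_of_card_le (hG : IsPGroup p G) (H : Subgroup G) {k : ℕ}
    (h : Nat.card H ≤ p ^ k) :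
    ∃ T : Finset G, T.card ≤ k ∧ Subgroup.closure (T : Set G) = H := by
  apply Cfsg.Agent.Helper9.MC.exists_gens_of_relIndex_agemo_le hG H
  exact (Nat.le_of_dvd Nat.card_pos (Subgroup.relIndex_dvd_card _ _)).trans h

/-- **Core of S5238.** -/
theorem pearl_core (hp2 : p ≠ 2) (hG : IsPGroup p G) (E : Subgroup G)
    (hC : Subgroup.centralizer (E : Set G) ≤ E)
    (hpearl : (Nat.card E = p ^ 2 ∧ IsMulCommutative E) ∨
      (Nat.card E = p ^ 3 ∧ ¬ IsMulCommutative E)) :
    (∀ n, Nat.card G = p ^ n → Group.nilpotencyClass G = n - 1) ∧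
    ∀ H : Subgroup G, ∃ T : Finset G, T.card ≤ p ∧ Subgroup.closure (T : Set G) = H := by
  have hpp := hp.out
  have hp3 : 3 ≤ p := by
    have := hpp.two_le
    omega
  obtain ⟨n, hn⟩ := IsPGroup.iff_card.1 hG
  have hcls : Group.nilpotencyClass G = n - 1 := by
    rcases hpearl with ⟨hE, hEc⟩ | ⟨hE, hEc⟩
    · apply Cfsg.Agent.Lead.nilpotencyClass_of_self_centralizing_sq n G hn E hE
      apply le_antisymm hC
      intro x hx
      rw [Subgroup.mem_centralizer_iff]
      intro y hy
      have := hEc.is_comm.comm (⟨y, hy⟩ : E) ⟨x, hx⟩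
      exact congrArg Subtype.val this
    · exact Cfsg.Agent.Lead.nilpotencyClass_of_self_centralizing_cube n hn E hE hEc hC
  refine ⟨fun n' hn' => ?_, fun H => ?_⟩
  · have : n' = n := Nat.pow_right_injective hpp.two_le (hn'.symm.trans hn)
    rw [this]
    exact hcls
  · -- generators
    have hsmall : Nat.card H ≤ p ^ p →
        ∃ T : Finset G, T.card ≤ p ∧ Subgroup.closure (T : Set G) = H :=
      fun h => exists_gens_of_card_le hG H h
    rcases Nat.lt_or_ge n (p + 1) with h1 | h1
    · apply hsmall
      have h2 : Nat.card H ≤ Nat.card G := Subgroup.card_le_card_group H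
      rw [hn] at h2
      exact h2.trans (Nat.pow_le_pow_right hpp.pos (by omega))
    · have hMC : IsMC p n G := ⟨hn, by omega, hcls⟩
      rcases Nat.lt_or_ge n (p + 2) with h2 | h2
      · -- `n = p + 1`
        obtain rfl : n = p + 1 := by omega
        obtain ⟨k, hk⟩ := IsPGroup.iff_card.1 (hG.to_subgroup H)
        have hkn : k ≤ p + 1 := by
          have h3 : Nat.card H ∣ Nat.card G := Subgroup.card_subgroup_dvd_card H
          rw [hk, hn] at h3
          exact (Nat.pow_dvd_pow_iff_le_right hpp.one_lt).1 h3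
        rcases Nat.lt_or_ge k (p + 1) with h3 | h3
        · apply hsmall
          rw [hk]
          exact Nat.pow_le_pow_right hpp.pos (by omega)
        · have hH : H = ⊤ := by
            apply Subgroup.eq_top_of_card_eq
            rw [hk, hn]
            congr 1
            omega
          obtain ⟨T, hT, hT'⟩ := Cfsg.Agent.Helper9.MC.IsMC.exists_two_gens hMC
          exact ⟨T, hT.trans (by omega), hT'.trans hH.symm⟩
      · -- `n ≥ p + 2`
        have hex : ∃ s : G, IsUniform p s := by
          rcases hpearl with ⟨hE, _⟩ | ⟨hE, hEc⟩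
          · exact Cfsg.Agent.Helper5.MC.exists_uniform_of_sq hMC E hE hC
          · exact Cfsg.Agent.Helper5.MC.exists_uniform_of_cube hMC (by omega) E hE hEc hC
        obtain ⟨s, hs⟩ := hex
        have hP := powerStr_of_uniform hMC h2 hs
        exact Cfsg.Agent.Helper9.MC.exists_gens_of_relIndex_agemo_le hG H
          (relIndex_agemo_le hMC h2 hP H)

end Cfsg.Agent.Helper4.MC
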