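import Mathlib

/-!
# Marggraff: counting lemma

For a `2`-transitive group `G` on `Ω` with a Jordan set `Γ`, `2 ≤ |Γ| ≤ |Ω|/2`, any
non-trivial "block" of the point stabiliser `G_a` on `Ω \ {a}` has more than `(|Ω|-1)/2`
elements.
-/

namespace Cfsg.Agent.Helper4.Marggraff

set_option linter.unusedSectionVars false

variable {G Ω : Type*} [Group G] [MulAction G Ω]

/-- trichotomy for a translate of a Jordan set not containing `a`, against a block of `G_a`. -/
theorem jordan_block_trichotomy (Γ : Set Ω)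
    (htr : ∀ x ∈ Γ, ∀ y ∈ Γ, ∃ g : G, (∀ z ∉ Γ, g • z = z) ∧ g • x = y)
    (a : Ω) (B : Finset Ω)
    (hblk : ∀ k : G, k • a = a → (∀ x ∈ B, k • x ∈ B) ∨ (∀ x ∈ B, k • x ∉ B))
    (g : G) (hga : g⁻¹ • a ∉ Γ) :
    (∀ x ∈ B, g⁻¹ • x ∉ Γ) ∨ (∀ x, g⁻¹ • x ∈ Γ → x ∈ B) ∨ (∀ x ∈ B, g⁻¹ • x ∈ Γ) := by
  by_contra hcon
  push Not at hcon
  obtain ⟨⟨γ, hγB, hγΓ⟩, ⟨τ, hτΓ, hτB⟩, ⟨δ, hδB, hδΓ⟩⟩ := hcon
  obtain ⟨k₀, hk₀fix, hk₀⟩ := htr _ hγΓ _ hτΓ
  have hka : (g * k₀ * g⁻¹) • a = a := by
    rw [mul_smul, mul_smul, hk₀fix _ hga, smul_inv_smul]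
  have hkδ : (g * k₀ * g⁻¹) • δ = δ := by
    rw [mul_smul, mul_smul, hk₀fix _ hδΓ, smul_inv_smul]
  have hkγ : (g * k₀ * g⁻¹) • γ = τ := by
    rw [mul_smul, mul_smul, hk₀, smul_inv_smul]
  rcases hblk _ hka with h | h
  · exact hτB (by rw [← hkγ]; exact h γ hγB)
  · exact h δ hδB (by rw [hkδ]; exact hδB)

section count

open Classical in
/-- group elements `g` such that `P ⊆ g • Γ`. -/
noncomputable def SS (G : Type*) {Ω : Type*} [Group G] [MulAction G Ω] [Fintype G]
    (Γ : Set Ω) (P : Finset Ω) : Finset G :=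
  Finset.univ.filter (fun g => ∀ x ∈ P, g⁻¹ • x ∈ Γ)

variable [Fintype G] [Fintype Ω] (Γ : Set Ω)

theorem mem_SS {P : Finset Ω} {g : G} : g ∈ SS G Γ P ↔ ∀ x ∈ P, g⁻¹ • x ∈ Γ := by
  simp [SS]

theorem SS_anti {P Q : Finset Ω} (h : P ⊆ Q) : SS G Γ Q ⊆ SS G Γ P := by
  intro g hg
  rw [mem_SS] at hg ⊢
  exact fun x hx => hg x (h hx)

open Classical in
theorem card_SS_image (k : G) (P : Finset Ω) :
    (SS G Γ (P.image (fun x => k • x))).card = (SS G Γ P).card := by
  apply Finset.card_bij' (fun g _ => k⁻¹ * g) (fun g _ => k * g)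
  · intro g hg
    rw [mem_SS] at hg ⊢
    intro x hx
    have := hg (k • x) (Finset.mem_image_of_mem _ hx)
    rw [mul_inv_rev, inv_inv, mul_smul]
    exact this
  · intro g hg
    rw [mem_SS] at hg ⊢
    intro y hy
    obtain ⟨x, hx, rfl⟩ := Finset.mem_image.1 hy
    have := hg x hx
    rw [mul_inv_rev, mul_smul, inv_smul_smul]
    exact this
  · intro g _; simp
  · intro g _; simp

omit [Fintype G] in
open Classical in
theorem card_filter_inv_smul_mem (g : G) :
    (Finset.univ.filter (fun z : Ω => g⁻¹ • z ∈ Γ)).card = Γ.ncard := by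
  rw [Set.ncard_eq_toFinset_card' Γ]
  apply Finset.card_bij (fun z _ => g⁻¹ • z)
  · intro z hz
    simpa using hz
  · intro z _ z' _ h
    exact MulAction.injective _ h
  · intro w hw
    refine ⟨g • w, ?_, by simp⟩
    simpa using hw

open Classical in
theorem sum_card_SS_insert (P : Finset Ω) :
    ∑ z ∈ Pᶜ, (SS G Γ (insert z P)).card = (Γ.ncard - P.card) * (SS G Γ P).card := by
  have h1 : ∀ z, (SS G Γ (insert z P)).card
      = ∑ g ∈ SS G Γ P, if g⁻¹ • z ∈ Γ then 1 else 0 := by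
    intro z
    rw [← Finset.card_filter]
    congr 1
    ext g
    simp only [mem_SS, Finset.mem_filter, Finset.forall_mem_insert]
    tauto
  simp_rw [h1]
  rw [Finset.sum_comm]
  have h2 : ∀ g ∈ SS G Γ P, (∑ z ∈ Pᶜ, if g⁻¹ • z ∈ Γ then 1 else 0) = Γ.ncard - P.card := by
    intro g hg
    rw [← Finset.card_filter]
    have hsub : P ⊆ Finset.univ.filter (fun z : Ω => g⁻¹ • z ∈ Γ) := by
      intro x hx
      simp only [Finset.mem_filter, Finset.mem_univ, true_and]
      exact (mem_SS Γ).1 hg x hx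
    have : (Pᶜ).filter (fun z => g⁻¹ • z ∈ Γ)
        = Finset.univ.filter (fun z : Ω => g⁻¹ • z ∈ Γ) \ P := by
      ext z
      simp only [Finset.mem_filter, Finset.mem_compl, Finset.mem_sdiff, Finset.mem_univ,
        true_and]
      tauto
    rw [this, Finset.card_sdiff_of_subset hsub, card_filter_inv_smul_mem]
  rw [Finset.sum_congr rfl h2, Finset.sum_const, smul_eq_mul, mul_comm]

open Classical in
/-- The counting lemma. -/
theorem card_lt_of_block
    (h1 : ∀ x y : Ω, ∃ g : G, g • x = y)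
    (h2 : ∀ x y x' y' : Ω, x ≠ y → x' ≠ y' → ∃ g : G, g • x = x' ∧ g • y = y')
    (hm : 2 ≤ Γ.ncard) (hn : 2 * Γ.ncard ≤ Fintype.card Ω)
    (htr : ∀ x ∈ Γ, ∀ y ∈ Γ, ∃ g : G, (∀ z ∉ Γ, g • z = z) ∧ g • x = y)
    (a : Ω) (B : Finset Ω) (haB : a ∉ B)
    (hblk : ∀ k : G, k • a = a → (∀ x ∈ B, k • x ∈ B) ∨ (∀ x ∈ B, k • x ∉ B))
    {β γ : Ω} (hβ : β ∈ B) (hγ : γ ∈ B) (hβγ : β ≠ γ) :
    Fintype.card Ω < 2 * B.card + 1 := by
  have haβ : a ≠ β := fun h => haB (h ▸ hβ)
  have haγ : a ≠ γ := fun h => haB (h ▸ hγ)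
  obtain ⟨r, hr⟩ : ∃ r, (SS G Γ {β}).card = r := ⟨_, rfl⟩
  obtain ⟨l, hl⟩ : ∃ l, (SS G Γ {a, β}).card = l := ⟨_, rfl⟩
  obtain ⟨m, hmdef⟩ : ∃ m, Γ.ncard = m := ⟨_, rfl⟩
  obtain ⟨n, hndef⟩ : ∃ n, Fintype.card Ω = n := ⟨_, rfl⟩
  rw [hmdef] at hm hn
  rw [hndef] at hn ⊢
  have hpair : ∀ x y : Ω, x ≠ y → (SS G Γ {x, y}).card = l := by
    intro x y hxy
    obtain ⟨k, hk1, hk2⟩ := h2 a β x y haβ hxy
    rw [← hl, ← card_SS_image Γ k {a, β}]
    congr 2
    simp [Finset.image_insert, hk1, hk2]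
  have htrich := jordan_block_trichotomy (G := G) Γ htr a B hblk
  -- F3
  have hF3 : (n - 1) * l = (m - 1) * r := by
    have h := sum_card_SS_insert (G := G) Γ ({β} : Finset Ω)
    rw [Finset.card_singleton, hr, hmdef] at h
    rw [← h, Finset.sum_congr rfl (fun z hz => hpair z β (by simpa using hz)),
      Finset.sum_const, Finset.card_compl, Finset.card_singleton, smul_eq_mul, hndef]
  have hΓne : Γ.Nonempty := by
    rw [← Set.ncard_pos, hmdef]; omega
  have hr0 : 0 < r := by
    obtain ⟨γ₀, hγ₀⟩ := hΓne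
    obtain ⟨g, hg⟩ := h1 γ₀ β
    rw [← hr, Finset.card_pos]
    refine ⟨g, (mem_SS Γ).2 ?_⟩
    intro x hx
    rw [Finset.mem_singleton] at hx
    rw [hx, ← hg, inv_smul_smul]; exact hγ₀
  have hl0 : 0 < l := by
    rcases Nat.eq_zero_or_pos l with h | h
    · rw [h, mul_zero] at hF3
      have : 0 < (m - 1) * r := Nat.mul_pos (by omega) hr0
      omega
    · exact h
  rcases lt_or_ge B.card m with hbm | hbm
  · -- case 2 : translates avoiding `a` are disjoint from `B` or contain it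
    exfalso
    have hsub : SS G Γ {β} \ SS G Γ {γ, β} ⊆ SS G Γ {a, β} := by
      intro g hg
      rw [Finset.mem_sdiff, mem_SS, mem_SS] at hg
      obtain ⟨hg1, hg2⟩ := hg
      have hgβ : g⁻¹ • β ∈ Γ := hg1 β (Finset.mem_singleton_self β)
      have hgγ : g⁻¹ • γ ∉ Γ := by
        intro h
        apply hg2
        intro x hx
        rw [Finset.mem_insert, Finset.mem_singleton] at hx
        rcases hx with rfl | rfl
        · exact h
        · exact hgβ
      rw [mem_SS]
      intro x hx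
      rw [Finset.mem_insert, Finset.mem_singleton] at hx
      rcases hx with rfl | rfl
      · by_contra hga
        rcases htrich g hga with h | h | h
        · exact h β hβ hgβ
        · have hle : Γ.ncard ≤ B.card := by
            rw [← card_filter_inv_smul_mem Γ g]
            apply Finset.card_le_card
            intro z hz
            simp only [Finset.mem_filter, Finset.mem_univ, true_and] at hz
            exact h z hz
          omega
        · exact hgγ (h γ hγ)
      · exact hgβ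
    have hc1 : (SS G Γ {β} \ SS G Γ {γ, β}).card = r - l := by
      rw [Finset.card_sdiff_of_subset (SS_anti Γ (by simp)), hr, hpair γ β hβγ.symm]
    have hc2 := Finset.card_le_card hsub
    rw [hc1, hl] at hc2
    have hr2 : r ≤ 2 * l := by omega
    obtain ⟨n', rfl⟩ : ∃ n', n = n' + 1 := ⟨n - 1, by omega⟩
    obtain ⟨m', rfl⟩ : ∃ m', m = m' + 1 := ⟨m - 1, by omega⟩
    simp only [Nat.add_sub_cancel] at hF3
    have h3 : m' * r ≤ m' * (2 * l) := Nat.mul_le_mul_left _ hr2
    have h4 : (2 * m' + 1) * l ≤ n' * l := Nat.mul_le_mul_right _ (by omega)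
    nlinarith
  · -- case 1 : translates avoiding `a` are disjoint from `B` or contained in it
    have hkey : ∀ δ ∈ (insert a B)ᶜ, l ≤ (SS G Γ (insert δ {a, β})).card := by
      intro δ hδ
      rw [Finset.mem_compl, Finset.mem_insert, not_or] at hδ
      obtain ⟨hδa, hδB⟩ := hδ
      have hδβ : δ ≠ β := fun h => hδB (h ▸ hβ)
      rw [← hpair δ β hδβ]
      apply Finset.card_le_card
      intro g hg
      rw [mem_SS] at hg ⊢
      have hgβ : g⁻¹ • β ∈ Γ := hg β (by simp)
      have hgδ : g⁻¹ • δ ∈ Γ := hg δ (by simp)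
      intro x hx
      rw [Finset.mem_insert, Finset.mem_insert, Finset.mem_singleton] at hx
      rcases hx with rfl | rfl | rfl
      · exact hgδ
      · by_contra hga
        rcases htrich g hga with h | h | h
        · exact h β hβ hgβ
        · exact hδB (h δ hgδ)
        · -- `B ⊆ gΓ`, sizes force equality
          have hsub : B ⊆ Finset.univ.filter (fun z : Ω => g⁻¹ • z ∈ Γ) := by
            intro z hz
            simp only [Finset.mem_filter, Finset.mem_univ, true_and]
            exact h z hz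
          have heq := Finset.eq_of_subset_of_card_le hsub
            (by rw [card_filter_inv_smul_mem, hmdef]; exact hbm)
          apply hδB
          rw [heq]
          simp only [Finset.mem_filter, Finset.mem_univ, true_and]
          exact hgδ
      · exact hgβ
    have hsum := sum_card_SS_insert (G := G) Γ ({a, β} : Finset Ω)
    rw [Finset.card_pair haβ, hl, hmdef] at hsum
    have hsubc : (insert a B)ᶜ ⊆ ({a, β} : Finset Ω)ᶜ := by
      apply Finset.compl_subset_compl.2
      intro x hx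
      rw [Finset.mem_insert, Finset.mem_singleton] at hx
      rcases hx with rfl | rfl
      · exact Finset.mem_insert_self _ _
      · exact Finset.mem_insert_of_mem hβ
    have hle : ((insert a B)ᶜ).card * l ≤ (m - 2) * l := by
      rw [← hsum]
      calc ((insert a B)ᶜ).card * l = ∑ _δ ∈ (insert a B)ᶜ, l := by
            rw [Finset.sum_const, smul_eq_mul]
        _ ≤ ∑ δ ∈ (insert a B)ᶜ, (SS G Γ (insert δ {a, β})).card :=
            Finset.sum_le_sum hkey
        _ ≤ ∑ δ ∈ ({a, β} : Finset Ω)ᶜ, (SS G Γ (insert δ {a, β})).card :=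
            Finset.sum_le_sum_of_subset hsubc
    have hle2 : ((insert a B)ᶜ).card ≤ m - 2 := Nat.le_of_mul_le_mul_right hle hl0
    rw [Finset.card_compl, Finset.card_insert_of_notMem haB, hndef] at hle2
    omega

end count

end Cfsg.Agent.Helper4.Marggraff
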