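import Mathlib
import Cfsg.Agent.Helper4.MarggraffA

/-!
# Marggraff's theorem

A primitive group with a Jordan set `Γ`, `1 < |Γ| ≤ |Ω|/2`, is `3`-transitive.
-/

namespace Cfsg.Agent.Helper4.Marggraff

open MulAction SubMulAction

variable {G Ω : Type*} [Group G] [MulAction G Ω]

open scoped Pointwise in
theorem isPreprimitive_ofStabilizer [Finite G] [Finite Ω] [IsPretransitive G Ω] (Γ : Set Ω)
    (h2t : IsMultiplyPretransitive G Ω 2)
    (hm : 2 ≤ Γ.ncard) (hn : 2 * Γ.ncard ≤ Nat.card Ω)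
    (htr : ∀ x ∈ Γ, ∀ y ∈ Γ, ∃ g : G, (∀ z ∉ Γ, g • z = z) ∧ g • x = y) (a : Ω) :
    IsPreprimitive (stabilizer G a) (ofStabilizer G a) := by
  classical
  have : Fintype G := Fintype.ofFinite G
  have : Fintype Ω := Fintype.ofFinite Ω
  have hpt' : IsPretransitive (stabilizer G a) (ofStabilizer G a) := by
    rw [← is_one_pretransitive_iff]
    exact (ofStabilizer.isMultiplyPretransitive (n := 1) (a := a)).1 h2t
  refine { toIsPretransitive := hpt', isTrivialBlock_of_isBlock := fun {B} hB => ?_ }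
  by_cases hsub : B.Subsingleton
  · exact Or.inl hsub
  right
  rw [Set.not_subsingleton_iff] at hsub
  obtain ⟨y, hy, y', hy', hyy'⟩ := hsub
  apply hB.eq_univ_of_card_lt
  have hcard := nat_card_ofStabilizer_add_one_eq G a
  have hBfin : (Subtype.val '' B : Set Ω).toFinset.card = B.ncard := by
    rw [← Set.ncard_eq_toFinset_card', Set.ncard_image_of_injective _ Subtype.val_injective]
  have key := card_lt_of_block (G := G) Γ (fun x y => exists_smul_eq G x y)
    (fun x y x' y' h h' => is_two_pretransitive_iff.1 h2t h h') hm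
    (by rwa [← Nat.card_eq_fintype_card]) htr a (Subtype.val '' B : Set Ω).toFinset
    ?_ ?_ (β := y) (γ := y') ?_ ?_ ?_
  · rw [hBfin, ← Nat.card_eq_fintype_card] at key; omega
  · rw [Set.mem_toFinset]; exact notMem_val_image G B
  · intro k hk
    rcases hB.smul_eq_or_disjoint ⟨k, hk⟩ with h | h
    · left
      intro x hx
      rw [Set.mem_toFinset] at hx ⊢
      obtain ⟨z, hz, rfl⟩ := hx
      refine ⟨(⟨k, hk⟩ : stabilizer G a) • z, ?_, rfl⟩
      rw [← h]; exact Set.smul_mem_smul_set hz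
    · right
      intro x hx hx'
      rw [Set.mem_toFinset] at hx hx'
      obtain ⟨z, hz, rfl⟩ := hx
      obtain ⟨z', hz', hzz'⟩ := hx'
      have hz'' : (⟨k, hk⟩ : stabilizer G a) • z = z' := Subtype.ext hzz'.symm
      have hmem : z' ∈ (⟨k, hk⟩ : stabilizer G a) • B := by
        rw [← hz'']; exact Set.smul_mem_smul_set hz
      exact Set.disjoint_left.1 h hmem hz'
  · rw [Set.mem_toFinset]; exact ⟨y, hy, rfl⟩
  · rw [Set.mem_toFinset]; exact ⟨y', hy', rfl⟩
  · exact fun h => hyy' (Subtype.ext h)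

theorem marggraff [Finite G] [Finite Ω] (hprim : IsPreprimitive G Ω) (Γ : Set Ω)
    (h1 : 1 < Γ.ncard) (h2 : 2 * Γ.ncard ≤ Nat.card Ω)
    (htr : ∀ x ∈ Γ, ∀ y ∈ Γ, ∃ g : G, (∀ z ∉ Γ, g • z = z) ∧ g • x = y) :
    IsMultiplyPretransitive G Ω 3 := by
  have := hprim.toIsPretransitive
  have hcompl : Γ.ncard + Γᶜ.ncard = Nat.card Ω := Set.ncard_add_ncard_compl Γ
  have hsn : Γᶜ.ncard = (Γᶜ.ncard - 1) + 1 := by omega
  have hsn' : (Γᶜ.ncard - 1) + 2 < Nat.card Ω := by omega
  have hs_trans : IsPretransitive (fixingSubgroup G Γᶜ) (ofFixingSubgroup G Γᶜ) := by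
    constructor
    intro x y
    have hx : (x : Ω) ∈ Γ := by
      have := x.prop
      rw [mem_ofFixingSubgroup_iff] at this
      simpa using this
    have hy : (y : Ω) ∈ Γ := by
      have := y.prop
      rw [mem_ofFixingSubgroup_iff] at this
      simpa using this
    obtain ⟨g, hgfix, hg⟩ := htr _ hx _ hy
    refine ⟨⟨g, ?_⟩, Subtype.ext hg⟩
    rw [mem_fixingSubgroup_iff]
    intro z hz
    exact hgfix z hz
  have h2t : IsMultiplyPretransitive G Ω 2 := hprim.is_two_pretransitive hsn hsn' hs_trans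
  have hne : Γᶜ.Nonempty := by
    rw [← Set.ncard_pos]; omega
  obtain ⟨a, ha⟩ := hne
  have hprim' := isPreprimitive_ofStabilizer Γ h2t (by omega) h2 htr a
  rw [ofStabilizer.isMultiplyPretransitive (n := 2) (a := a)]
  have hst : Γᶜ = insert a (Subtype.val '' (Subtype.val ⁻¹' Γᶜ : Set (ofStabilizer G a))) := by
    ext x
    by_cases hx : x = a <;> simp [hx, mem_ofStabilizer_iff, ha]
  have htcard : (Subtype.val ⁻¹' Γᶜ : Set (ofStabilizer G a)).ncard + 1 = Γᶜ.ncard := by
    conv_rhs => rw [hst]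
    rw [Set.ncard_insert_of_notMem (notMem_val_image G _),
      Set.ncard_image_of_injective _ Subtype.val_injective]
  have hcard := nat_card_ofStabilizer_add_one_eq G a
  have hsn2 : (Subtype.val ⁻¹' Γᶜ : Set (ofStabilizer G a)).ncard
      = ((Subtype.val ⁻¹' Γᶜ : Set (ofStabilizer G a)).ncard - 1) + 1 := by omega
  have hsn2' : ((Subtype.val ⁻¹' Γᶜ : Set (ofStabilizer G a)).ncard - 1) + 2
      < Nat.card (ofStabilizer G a) := by omega
  refine hprim'.is_two_pretransitive hsn2 hsn2' ?_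
  constructor
  intro x y
  have hx : ((x : ofStabilizer G a) : Ω) ∈ Γ := by
    have := x.prop
    rw [mem_ofFixingSubgroup_iff] at this
    simpa using this
  have hy : ((y : ofStabilizer G a) : Ω) ∈ Γ := by
    have := y.prop
    rw [mem_ofFixingSubgroup_iff] at this
    simpa using this
  obtain ⟨g, hgfix, hg⟩ := htr _ hx _ hy
  have hga : g ∈ stabilizer G a := hgfix a ha
  refine ⟨⟨⟨g, hga⟩, ?_⟩, Subtype.ext (Subtype.ext hg)⟩
  rw [mem_fixingSubgroup_iff]
  intro z hz
  exact Subtype.ext (hgfix z hz)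

end Cfsg.Agent.Helper4.Marggraff
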