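import Mathlib
import Cfsg.Agent.Helper3.PGroupLinC
set_option autoImplicit false
namespace Cfsg.Agent.Helper4.PLinField

open Module

universe u v w

/-- Version over an arbitrary field of the bound on derived length of linear `p`-groups. -/
theorem derivedSeries_le_ker_field (E : Type u) [Field E] (p : ℕ) [Fact p.Prime]
    (V : Type v) [AddCommGroup V] [Module E V] [FiniteDimensional E V]
    (G : Type w) [Group G] [Finite G] (hG : IsPGroup p G) (ρ : Representation E G V)
    (g : G) (hg : g ∈ derivedSeries G (Nat.log 2 (finrank E V) + 1)) : ρ g = 1 := by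
  classical
  let K := AlgebraicClosure E
  let b : Basis (Fin (finrank E V)) E V := Module.finBasis E V
  let ψ : Module.End E V →+* Module.End K (Fin (finrank E V) → K) :=
    ((Matrix.toLinAlgEquiv' (R := K) (n := Fin (finrank E V))).toRingEquiv.toRingHom).comp
      (((algebraMap E K).mapMatrix).comp ((LinearMap.toMatrixAlgEquiv b).toRingEquiv.toRingHom))
  have hψ : Function.Injective ψ := by
    intro x y hxy
    have h1 : (algebraMap E K).mapMatrix (LinearMap.toMatrixAlgEquiv b x) =
        (algebraMap E K).mapMatrix (LinearMap.toMatrixAlgEquiv b y) :=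
      (Matrix.toLinAlgEquiv' (R := K) (n := Fin (finrank E V))).injective hxy
    have h2 : LinearMap.toMatrixAlgEquiv b x = LinearMap.toMatrixAlgEquiv b y := by
      ext i j
      have h3 := congrFun (congrFun h1 i) j
      simp only [RingHom.mapMatrix_apply, Matrix.map_apply] at h3
      exact (algebraMap E K).injective h3
    exact (LinearMap.toMatrixAlgEquiv b).injective h2
  let ρ' : Representation K G (Fin (finrank E V) → K) := (ψ : _ →* _).comp ρ
  have h := Cfsg.Agent.Helper3.PGroupLin.derivedSeries_le_ker K p (finrank E V)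
    (Fin (finrank E V) → K) G hG ρ' (Module.finrank_fin_fun K) g hg
  apply hψ
  rw [map_one]
  exact h

/-- A nontrivial representation of a finite `p`-group has an operator of order `p` in its image
commuting with the whole image. -/
theorem exists_central_order_p {F : Type u} [Field F] (p : ℕ) [Fact p.Prime]
    {V : Type v} [AddCommGroup V] [Module F V]
    {G : Type w} [Group G] [Finite G] (hG : IsPGroup p G) (ρ : Representation F G V)
    (hne : ∃ x, ρ x ≠ 1) :
    ∃ T : Module.End F V, T ≠ 1 ∧ T ^ p = 1 ∧ ∀ g, Commute T (ρ g) := by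
  classical
  have hQ : IsPGroup p (G ⧸ MonoidHom.ker ρ) := hG.to_quotient _
  haveI : Nontrivial (G ⧸ MonoidHom.ker ρ) := by
    obtain ⟨x, hx⟩ := hne
    refine ⟨⟨(QuotientGroup.mk x : G ⧸ MonoidHom.ker ρ), 1, ?_⟩⟩
    intro h
    apply hx
    have : x ∈ MonoidHom.ker ρ := (QuotientGroup.eq_one_iff x).1 h
    exact MonoidHom.mem_ker.1 this
  haveI := hQ.center_nontrivial
  obtain ⟨c, hc⟩ := exists_ne (1 : Subgroup.center (G ⧸ MonoidHom.ker ρ))
  obtain ⟨k, hk⟩ := (IsPGroup.iff_orderOf.1 (hQ.to_subgroup (Subgroup.center _))) c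
  have hk0 : k ≠ 0 := by
    rintro rfl
    rw [pow_zero, orderOf_eq_one_iff] at hk
    exact hc hk
  obtain ⟨k', rfl⟩ := Nat.exists_eq_succ_of_ne_zero hk0
  have hc'1 : c ^ (p ^ k') ≠ 1 := by
    intro h
    have h1 : orderOf c ∣ p ^ k' := orderOf_dvd_of_pow_eq_one h
    rw [hk] at h1
    have h2 := Nat.le_of_dvd (pow_pos (Fact.out : p.Prime).pos _) h1
    have h3 : p ^ k' < p ^ (k' + 1) := Nat.pow_lt_pow_right (Fact.out : p.Prime).one_lt (by omega)
    rw [Nat.succ_eq_add_one] at h2
    omega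
  have hc'p : (c ^ (p ^ k')) ^ p = 1 := by
    rw [← pow_mul, ← pow_succ, ← hk, pow_orderOf_eq_one]
  obtain ⟨z, hz⟩ := QuotientGroup.mk_surjective
    ((c ^ (p ^ k') : Subgroup.center (G ⧸ MonoidHom.ker ρ)) : G ⧸ MonoidHom.ker ρ)
  refine ⟨ρ z, ?_, ?_, ?_⟩
  · intro h
    apply hc'1
    have h1 : z ∈ MonoidHom.ker ρ := MonoidHom.mem_ker.2 h
    have h2 : (QuotientGroup.mk z : G ⧸ MonoidHom.ker ρ) = 1 := (QuotientGroup.eq_one_iff z).2 h1
    rw [hz] at h2
    exact Subtype.ext h2
  · rw [← map_pow]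
    have h1 : (QuotientGroup.mk (z ^ p) : G ⧸ MonoidHom.ker ρ) = 1 := by
      rw [QuotientGroup.mk_pow, hz]
      have := congrArg (fun y : Subgroup.center (G ⧸ MonoidHom.ker ρ) =>
        (y : G ⧸ MonoidHom.ker ρ)) hc'p
      simpa using this
    exact MonoidHom.mem_ker.1 ((QuotientGroup.eq_one_iff _).1 h1)
  · intro g
    have h2 : (QuotientGroup.mk (g * z) : G ⧸ MonoidHom.ker ρ) = QuotientGroup.mk (z * g) := by
      rw [QuotientGroup.mk_mul, QuotientGroup.mk_mul, hz]
      exact ((Subgroup.mem_center_iff.1 (c ^ (p ^ k')).2) _)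
    have h3 : (g * z)⁻¹ * (z * g) ∈ MonoidHom.ker ρ := QuotientGroup.eq.1 h2
    have h4 : ρ ((g * z)⁻¹ * (z * g)) = 1 := MonoidHom.mem_ker.1 h3
    rw [Commute, SemiconjBy, ← map_mul, ← map_mul]
    calc ρ (z * g) = ρ ((g * z) * ((g * z)⁻¹ * (z * g))) := by congr 1; group
      _ = ρ (g * z) := by rw [map_mul, h4, mul_one]

end Cfsg.Agent.Helper4.PLinField
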