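import Mathlib
import Cfsg.Agent.Helper4.PLinFieldA
set_option autoImplicit false
namespace Cfsg.Agent.Helper4.PLinField

open Module Polynomial

universe u v w

theorem commute_aeval {F : Type u} [Field F] {A : Type v} [Ring A] [Algebra F A] (T S : A)
    (h : Commute T S) (f : F[X]) : Commute (aeval T f) S :=
  (Algebra.commute_of_mem_adjoin_singleton_of_commute
    (Polynomial.aeval_mem_adjoin_singleton F T) h.symm).symm

section
variable {F : Type u} [Field F] {V : Type v} [AddCommGroup V] [Module F V]
  {G : Type w} [Group G]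

theorem ker_invariant (ρ : Representation F G V) (S : Module.End F V)
    (hS : ∀ g, Commute S (ρ g)) (g : G) :
    LinearMap.ker S ≤ (LinearMap.ker S).comap (ρ g) := by
  intro v hv
  rw [Submodule.mem_comap, LinearMap.mem_ker]
  rw [LinearMap.mem_ker] at hv
  have h1 : S (ρ g v) = ρ g (S v) := by
    have := LinearMap.congr_fun (hS g).eq v
    simpa using this
  rw [h1, hv, map_zero]

theorem minpoly_irreducible [FiniteDimensional F V] [Nontrivial V] (ρ : Representation F G V)
    (hirr : ∀ W : Submodule F V, (∀ g, W ≤ W.comap (ρ g)) → W = ⊥ ∨ W = ⊤)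
    (T : Module.End F V) (hT : ∀ g, Commute T (ρ g)) : Irreducible (minpoly F T) := by
  have hint : IsIntegral F T := Algebra.IsIntegral.isIntegral T
  have hμ0 : minpoly F T ≠ 0 := minpoly.ne_zero hint
  have key : ∀ a b : F[X], minpoly F T = a * b → LinearMap.ker (aeval T a) = ⊥ → IsUnit a := by
    intro a b hab hker
    have h1 : aeval T a * aeval T b = 0 := by
      rw [← map_mul, ← hab, minpoly.aeval]
    have h2 : aeval T b = 0 := by
      refine LinearMap.ext fun v => ?_
      have h3 : aeval T a (aeval T b v) = 0 := by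
        have := LinearMap.congr_fun h1 v
        simpa using this
      have h4 : aeval T b v ∈ LinearMap.ker (aeval T a) := LinearMap.mem_ker.2 h3
      rw [hker, Submodule.mem_bot] at h4
      simpa using h4
    obtain ⟨c, hc⟩ := minpoly.dvd F T h2
    have hb0 : b ≠ 0 := by
      rintro rfl
      exact hμ0 (by rw [hab, mul_zero])
    have h5 : b * 1 = b * (a * c) := by
      rw [mul_one]
      conv_lhs => rw [hc, hab]
      ring
    have h6 : 1 = a * c := mul_left_cancel₀ hb0 h5
    exact IsUnit.of_mul_eq_one c h6.symm
  have key2 : ∀ a b : F[X], minpoly F T = a * b → LinearMap.ker (aeval T a) = ⊤ → IsUnit b := by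
    intro a b hab hker
    have h2 : aeval T a = 0 := LinearMap.ker_eq_top.1 hker
    obtain ⟨c, hc⟩ := minpoly.dvd F T h2
    have ha0 : a ≠ 0 := by
      rintro rfl
      exact hμ0 (by rw [hab, zero_mul])
    have h5 : a * 1 = a * (b * c) := by
      rw [mul_one]
      conv_lhs => rw [hc, hab]
      ring
    have h6 : 1 = b * c := mul_left_cancel₀ ha0 h5
    exact IsUnit.of_mul_eq_one c h6.symm
  rw [irreducible_iff]
  refine ⟨minpoly.not_isUnit F T, fun a b hab => ?_⟩
  rcases hirr (LinearMap.ker (aeval T a))
    (ker_invariant ρ _ (fun g => commute_aeval T (ρ g) (hT g) a)) with h | h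
  · exact Or.inl (key a b hab h)
  · exact Or.inr (key2 a b hab h)


theorem irreducible_case [FiniteDimensional F V] (p : ℕ) [Fact p.Prime] [Finite G]
    (hG : IsPGroup p G) (ρ : Representation F G V)
    (T : Module.End F V) (hT : ∀ g, Commute T (ρ g)) (hμ : Irreducible (minpoly F T))
    (g : G)
    (hg : g ∈ derivedSeries G (Nat.log 2 (finrank F V / (minpoly F T).natDegree) + 1)) :
    ρ g = 1 := by
  haveI : Fact (Irreducible (minpoly F T)) := ⟨hμ⟩
  let φ : AdjoinRoot (minpoly F T) →ₐ[F] Module.End F V :=
    Ideal.Quotient.liftₐ (Ideal.span {minpoly F T}) (aeval T) (fun a ha => by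
      obtain ⟨c, rfl⟩ := Ideal.mem_span_singleton.1 ha
      rw [map_mul, minpoly.aeval, zero_mul])
  have hφ : ∀ f : F[X], φ (AdjoinRoot.mk (minpoly F T) f) = aeval T f := fun f => rfl
  letI : Module (AdjoinRoot (minpoly F T)) V :=
    Module.compHom V (φ : AdjoinRoot (minpoly F T) →+* Module.End F V)
  have hsmul : ∀ (x : AdjoinRoot (minpoly F T)) (v : V), x • v = φ x v := fun x v => rfl
  haveI : IsScalarTower F (AdjoinRoot (minpoly F T)) V :=
    IsScalarTower.of_algebraMap_smul (fun r v => by
      rw [hsmul, AlgHom.commutes, Module.algebraMap_end_apply])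
  haveI : FiniteDimensional (AdjoinRoot (minpoly F T)) V :=
    Module.Finite.of_restrictScalars_finite F (AdjoinRoot (minpoly F T)) V
  have hfr : finrank F (AdjoinRoot (minpoly F T)) = (minpoly F T).natDegree := by
    rw [(AdjoinRoot.powerBasis hμ.ne_zero).finrank, AdjoinRoot.powerBasis_dim]
  have hmul := Module.finrank_mul_finrank F (AdjoinRoot (minpoly F T)) V
  rw [hfr] at hmul
  have hdeg : 0 < (minpoly F T).natDegree := Irreducible.natDegree_pos hμ
  have hdiv : finrank F V / (minpoly F T).natDegree = finrank (AdjoinRoot (minpoly F T)) V := by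
    rw [← hmul]
    exact Nat.mul_div_cancel_left _ hdeg
  rw [hdiv] at hg
  have hcomm : ∀ (x : AdjoinRoot (minpoly F T)) (h : G), Commute (φ x) (ρ h) := by
    intro x h
    obtain ⟨f, rfl⟩ := AdjoinRoot.mk_surjective x
    rw [hφ]
    exact commute_aeval T (ρ h) (hT h) f
  let ρE : Representation (AdjoinRoot (minpoly F T)) G V :=
    { toFun := fun h =>
        { toFun := fun v => ρ h v
          map_add' := fun a b => map_add _ a b
          map_smul' := fun x v => by
            simp only [RingHom.id_apply, hsmul]
            have := LinearMap.congr_fun (hcomm x h).eq v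
            simpa using this.symm }
      map_one' := by
        ext v
        simp
      map_mul' := fun a b => by
        ext v
        simp }
  have h1 := derivedSeries_le_ker_field (AdjoinRoot (minpoly F T)) p V G hG ρE g hg
  refine LinearMap.ext fun v => ?_
  have h2 := LinearMap.congr_fun h1 v
  exact h2


/-- Main induction: `e` is the common degree of the irreducible factors of the `p`-th cyclotomic
polynomial over `F`. -/
theorem derivedSeries_le_ker_of_cyclotomic (p : ℕ) [Fact p.Prime] (hpF : (p : F) ≠ 0) (e : ℕ)
    (he : ∀ μ : F[X], Irreducible μ → μ ∣ cyclotomic p F → μ.natDegree = e) :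
    ∀ (m : ℕ) (V : Type v) [AddCommGroup V] [Module F V] [FiniteDimensional F V]
      (G : Type w) [Group G] [Finite G] (_ : IsPGroup p G) (ρ : Representation F G V),
      finrank F V = m → ∀ g ∈ derivedSeries G (Nat.log 2 (m / e) + 1), ρ g = 1 := by
  intro m
  induction m using Nat.strong_induction_on with
  | _ m ih =>
  intro V _ _ _ G _ _ hG ρ hm g hg
  by_cases hred : ∃ W : Submodule F V, (∀ g, W ≤ W.comap (ρ g)) ∧ W ≠ ⊥ ∧ W ≠ ⊤
  · obtain ⟨W, hW, hWb, hWt⟩ := hred
    have hsum := Submodule.finrank_quotient_add_finrank W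
    have ha : 1 ≤ finrank F W := by
      rw [Nat.one_le_iff_ne_zero]
      intro h
      exact hWb (Submodule.finrank_eq_zero.1 h)
    have hb : 1 ≤ finrank F (V ⧸ W) := by
      rw [Nat.one_le_iff_ne_zero]
      intro h
      apply hWt
      apply Submodule.eq_top_of_finrank_eq
      omega
    have hmono : ∀ m', m' ≤ m → g ∈ derivedSeries G (Nat.log 2 (m' / e) + 1) := fun m' hm' =>
      derivedSeries_antitone G
        (Nat.succ_le_succ (Nat.log_mono_right (Nat.div_le_div_right hm'))) hg
    have h1 := ih (finrank F W) (by omega) W G hG (ρ.subrepresentation W hW) rfl g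
      (hmono _ (by omega))
    have h2 := ih (finrank F (V ⧸ W)) (by omega) (V ⧸ W) G hG (ρ.quotient W hW) rfl g
      (hmono _ (by omega))
    apply Cfsg.Agent.Helper3.PGroupLin.eq_one_of_unipotent p hpF hG ρ g W
    · intro w hw
      have := congrArg (fun f => ((f ⟨w, hw⟩ : W) : V)) h1
      simpa using this
    · intro v
      have := LinearMap.congr_fun h2 (Submodule.Quotient.mk v)
      rw [Representation.quotient_apply, Submodule.mapQ_apply, Module.End.one_apply, ← sub_eq_zero,
        ← Submodule.Quotient.mk_sub, Submodule.Quotient.mk_eq_zero] at this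
      exact this
  · have hirr : ∀ W : Submodule F V, (∀ g, W ≤ W.comap (ρ g)) → W = ⊥ ∨ W = ⊤ := by
      intro W hW
      by_contra h
      push Not at h
      exact hred ⟨W, hW, h.1, h.2⟩
    by_cases htriv : ∀ x, ρ x = 1
    · exact htriv g
    push Not at htriv
    obtain ⟨T, hT1, hTp, hTc⟩ := exists_central_order_p p hG ρ htriv
    haveI : Nontrivial V := by
      by_contra hV
      rw [not_nontrivial_iff_subsingleton] at hV
      exact hT1 (LinearMap.ext fun v => Subsingleton.elim _ _)
    have hμ := minpoly_irreducible ρ hirr T hTc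
    have hker : LinearMap.ker (T - 1) = ⊥ := by
      rcases hirr (LinearMap.ker (T - 1))
        (ker_invariant ρ _ (fun g => (hTc g).sub_left (Commute.one_left _))) with h | h
      · exact h
      · exfalso
        apply hT1
        have := LinearMap.ker_eq_top.1 h
        exact sub_eq_zero.1 this
    have hcyc : aeval T (cyclotomic p F) = 0 := by
      have h1 : aeval T ((X - 1) * cyclotomic p F) = 0 := by
        rw [mul_comm, cyclotomic_prime_mul_X_sub_one]
        simp [hTp]
      rw [map_mul] at h1
      refine LinearMap.ext fun v => ?_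
      have h2 := LinearMap.congr_fun h1 v
      have h3 : aeval T (cyclotomic p F) v ∈ LinearMap.ker (T - 1) := by
        rw [LinearMap.mem_ker]
        simpa using h2
      rw [hker, Submodule.mem_bot] at h3
      simpa using h3
    have hdvd : minpoly F T ∣ cyclotomic p F := minpoly.dvd F T hcyc
    have hdeg := he _ hμ hdvd
    rw [← hm, ← hdeg] at hg
    exact irreducible_case p hG ρ T hTc hμ g hg

end

end Cfsg.Agent.Helper4.PLinField
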