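import Mathlib
import Cfsg.Agent.Helper4.PLinFieldB
set_option autoImplicit false

/-!
Sharper (`log_p`) bound for the derived length of linear `p`-groups in characteristic different
from `p`, and its version over finite fields with the order `e` of `q` modulo `p`.
-/

namespace Cfsg.Agent.Helper4.PLinField

open Module Polynomial Cfsg.Agent.Helper3.PGroupLin

universe u v w

section
variable {K : Type*} [Field K] {V : Type*} [AddCommGroup V] [Module K V]

theorem sum_finrank_le_of_iSupIndep [FiniteDimensional K V] {ι : Type*} [Fintype ι]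
    [DecidableEq ι] (N : ι → Submodule K V) (h : iSupIndep N) :
    ∑ i, finrank K (N i) ≤ finrank K V := by
  have h1 := h.dfinsupp_lsum_injective
  have h2 := LinearMap.finrank_le_finrank_of_injective h1
  have h3 : finrank K (Π₀ i, ↥(N i)) = ∑ i, finrank K (N i) :=
    Module.finrank_directSum K (fun i => ↥(N i))
  rw [h3] at h2
  exact h2


variable {G : Type*} [Group G]

open scoped commutatorElement in
/-- Structure of a nonabelian irreducible action of a `p`-group over an algebraically closed
field: there is a subgroup `M ≥ G'` and a family of `M`-invariant subspaces of common dimension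
`d ≤ n / p` spanning `V`. -/
theorem irreducible_step_p [IsAlgClosed K] [FiniteDimensional K V] [Nontrivial V]
    (p : ℕ) [Fact p.Prime] [Finite G] (hG : IsPGroup p G)
    (ρ : Representation K G V) (hirr : Irred ρ)
    (hnab : ¬ ∀ x y : G, ρ (x * y) = ρ (y * x)) :
    ∃ (M : Subgroup G) (d : ℕ), commutator G ≤ M ∧ 1 ≤ d ∧ p * d ≤ finrank K V ∧
      ∃ (E : G → Submodule K V), (⨆ i, E i = ⊤) ∧ (∀ i, finrank K (E i) = d) ∧
        ∀ i, ∀ h ∈ M, E i ≤ (E i).comap (ρ h) := by
  classical
  have hC : centralSub ρ ≠ ⊤ := by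
    intro h
    apply hnab
    intro x y
    have : x ∈ centralSub ρ := by rw [h]; trivial
    exact this y
  haveI : Nontrivial (G ⧸ centralSub ρ) := by
    rw [← not_subsingleton_iff_nontrivial]
    intro hss
    apply hC
    rw [eq_top_iff]
    intro x _
    rw [← QuotientGroup.eq_one_iff]
    exact Subsingleton.elim _ _
  have hq : IsPGroup p (G ⧸ centralSub ρ) := hG.to_quotient _
  haveI := hq.center_nontrivial
  obtain ⟨⟨xbar, hx⟩, hne⟩ := exists_ne (1 : Subgroup.center (G ⧸ centralSub ρ))
  obtain ⟨a, rfl⟩ := QuotientGroup.mk_surjective xbar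
  have ha : a ∉ centralSub ρ := by
    intro h
    apply hne
    apply Subtype.ext
    exact (QuotientGroup.eq_one_iff a).2 h
  have hF1 : ∀ g, ⁅a, g⁆ ∈ centralSub ρ := by
    intro g
    rw [← QuotientGroup.eq_one_iff, commutatorElement_def]
    have := Subgroup.mem_center_iff.1 hx (g : G ⧸ centralSub ρ)
    simp only [QuotientGroup.mk_mul, QuotientGroup.mk_inv]
    rw [← this]
    group
  choose ζ hζ using fun g => exists_scalar ρ hirr ⁅a, g⁆ (hF1 g)
  have hstar : ∀ g, ρ a * ρ g = ζ g • (ρ g * ρ a) := by
    intro g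
    have e : ⁅a, g⁆ * (g * a) = a * g := by rw [commutatorElement_def]; group
    rw [← map_mul, ← e, map_mul, hζ, smul_mul_assoc, one_mul, map_mul]
  have hcancel : ∀ (c c' : K) (x : G), c • ρ x = c' • ρ x → c = c' := by
    intro c c' x h
    obtain ⟨v, hv⟩ := exists_ne (0 : V)
    have h1 : (c • ρ x) (ρ x⁻¹ v) = (c' • ρ x) (ρ x⁻¹ v) := by rw [h]
    simp only [LinearMap.smul_apply] at h1
    rw [← Module.End.mul_apply, ← map_mul, mul_inv_cancel, map_one, Module.End.one_apply] at h1
    by_contra hcc
    have : (c - c') • v = 0 := by rw [sub_smul, h1, sub_self]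
    rcases smul_eq_zero.1 this with h2 | h2
    · exact hcc (sub_eq_zero.1 h2)
    · exact hv h2
  have hζ1 : ζ 1 = 1 := by
    have := hstar 1
    rw [map_one, mul_one, one_mul] at this
    exact (hcancel 1 (ζ 1) a (by rw [one_smul]; exact this)).symm
  have hζmul : ∀ g h, ζ (g * h) = ζ g * ζ h := by
    intro g h
    apply hcancel _ _ (g * h * a)
    have h1 := hstar (g * h)
    have h2 := hstar g
    have h3 := hstar h
    calc ζ (g * h) • ρ (g * h * a) = ρ a * ρ (g * h) := by
          rw [h1, map_mul (f := ρ) (g * h) a]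
      _ = (ρ a * ρ g) * ρ h := by rw [map_mul, mul_assoc]
      _ = ζ g • (ρ g * (ρ a * ρ h)) := by rw [h2, smul_mul_assoc, mul_assoc]
      _ = (ζ g * ζ h) • ρ (g * h * a) := by
          rw [h3, mul_smul_comm, smul_smul, map_mul, map_mul, mul_assoc]
  have hζinv : ∀ g, ζ g * ζ g⁻¹ = 1 := by
    intro g
    rw [← hζmul, mul_inv_cancel, hζ1]
  let ζhom : G →* K := { toFun := ζ, map_one' := hζ1, map_mul' := hζmul }
  have hζhom : ∀ g, ζhom g = ζ g := fun _ => rfl
  have hMcomm : ∀ m, ζ m = 1 → ρ a * ρ m = ρ m * ρ a := by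
    intro m hm
    rw [hstar m, hm, one_smul]
  obtain ⟨μ, hμ⟩ := Module.End.exists_eigenvalue (ρ a)
  have hμ0 : μ ≠ 0 := by
    intro h0
    obtain ⟨v, hv, hv0⟩ := hμ.exists_hasEigenvector
    rw [Module.End.mem_eigenspace_iff, h0, zero_smul] at hv
    apply hv0
    have : ρ a⁻¹ (ρ a v) = v := by
      rw [← Module.End.mul_apply, ← map_mul, inv_mul_cancel, map_one, Module.End.one_apply]
    rw [← this, hv, map_zero]
  set E : Submodule K V := Module.End.eigenspace (ρ a) μ with hE
  have hEne : E ≠ ⊥ := hμ
  have hinj : ∀ g, Function.Injective (ρ g) := fun g => (ρ.apply_bijective g).1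
  have hE'le : ∀ g, E.map (ρ g) ≤ Module.End.eigenspace (ρ a) (ζ g * μ) := by
    rintro g _ ⟨v, hv, rfl⟩
    rw [Module.End.mem_eigenspace_iff]
    have hv' : ρ a v = μ • v := Module.End.mem_eigenspace_iff.1 hv
    rw [← Module.End.mul_apply, hstar g, LinearMap.smul_apply, Module.End.mul_apply, hv', map_smul,
      smul_smul]
  have hEinv : ∀ m, ζ m = 1 → ∀ v ∈ E, ρ m v ∈ E := by
    intro m hm v hv
    rw [hE, Module.End.mem_eigenspace_iff] at hv ⊢
    rw [← Module.End.mul_apply, hMcomm m hm, Module.End.mul_apply, hv, map_smul]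
  refine ⟨ζhom.ker, finrank K E, ?_, ?_, ?_, fun g => E.map (ρ g), ?_, ?_, ?_⟩
  · rw [commutator_def, Subgroup.commutator_le]
    intro x _ y _
    rw [MonoidHom.mem_ker, hζhom, commutatorElement_def, hζmul, hζmul, hζmul]
    calc ζ x * ζ y * ζ x⁻¹ * ζ y⁻¹ = (ζ x * ζ x⁻¹) * (ζ y * ζ y⁻¹) := by ring
      _ = 1 := by rw [hζinv, hζinv, one_mul]
  · rw [Nat.one_le_iff_ne_zero]
    intro h
    exact hEne (Submodule.finrank_eq_zero.1 h)
  · -- `p` independent copies
    obtain ⟨g₀, hg₀⟩ : ∃ g₀, ζ g₀ ≠ 1 := by
      by_contra hall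
      push Not at hall
      apply ha
      intro h
      rw [map_mul, map_mul, hMcomm h (hall h)]
    have hpow : ∀ i : ℕ, ζ (g₀ ^ i) = ζ g₀ ^ i := fun i => map_pow ζhom g₀ i
    obtain ⟨t, ht⟩ := hG g₀
    have hωt : ζ g₀ ^ (p ^ t) = 1 := by rw [← hpow, ht, hζ1]
    have hωne : ∀ i : ℕ, 0 < i → i < p → ζ g₀ ^ i ≠ 1 := by
      intro i hi0 hip h
      have h1 : orderOf (ζ g₀) ∣ p ^ t := orderOf_dvd_of_pow_eq_one hωt
      obtain ⟨s, -, hs⟩ := (Nat.dvd_prime_pow (Fact.out : p.Prime)).1 h1
      have h2 : orderOf (ζ g₀) ∣ i := orderOf_dvd_of_pow_eq_one h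
      rcases Nat.eq_zero_or_pos s with h0 | hpos
      · rw [h0, pow_zero, orderOf_eq_one_iff] at hs
        exact hg₀ hs
      · have h3 : p ∣ orderOf (ζ g₀) := by rw [hs]; exact dvd_pow_self p hpos.ne'
        have h4 := Nat.le_of_dvd hi0 (h3.trans h2)
        omega
    have hω0 : ζ g₀ ≠ 0 := by
      intro h
      have := hζinv g₀
      rw [h, zero_mul] at this
      exact zero_ne_one this
    have hfinj : Function.Injective (fun i : Fin p => ζ g₀ ^ (i : ℕ) * μ) := by
      have aux : ∀ i j : ℕ, i < j → j < p → ζ g₀ ^ i * μ ≠ ζ g₀ ^ j * μ := by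
        intro i j hij hj h
        have h1 : ζ g₀ ^ i = ζ g₀ ^ j := mul_right_cancel₀ hμ0 h
        have h2 : ζ g₀ ^ j = ζ g₀ ^ i * ζ g₀ ^ (j - i) := by
          rw [← pow_add]; congr 1; omega
        rw [h2] at h1
        have h3 : ζ g₀ ^ i * 1 = ζ g₀ ^ i * ζ g₀ ^ (j - i) := by rw [mul_one]; exact h1
        have h4 := mul_left_cancel₀ (pow_ne_zero i hω0) h3
        exact hωne (j - i) (by omega) (by omega) h4.symm
      intro i j hij
      by_contra hne
      rcases lt_or_gt_of_ne (fun h => hne (Fin.ext h)) with h | h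
      · exact aux i j h j.2 hij
      · exact aux j i h i.2 hij.symm
    have hind : iSupIndep (fun i : Fin p => E.map (ρ (g₀ ^ (i : ℕ)))) := by
      have h1 : iSupIndep (fun i : Fin p =>
          Module.End.eigenspace (ρ a) (ζ g₀ ^ (i : ℕ) * μ)) :=
        (Module.End.eigenspaces_iSupIndep (ρ a)).comp hfinj
      refine h1.mono (fun i => ?_)
      have := hE'le (g₀ ^ (i : ℕ))
      rw [hpow] at this
      exact this
    have h1 := sum_finrank_le_of_iSupIndep _ hind
    have h2 : ∀ i : Fin p, finrank K (E.map (ρ (g₀ ^ (i : ℕ)))) = finrank K E := fun i =>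
      (Submodule.equivMapOfInjective (ρ (g₀ ^ (i : ℕ))) (hinj _) E).finrank_eq.symm
    simp only [h2, Finset.sum_const, Finset.card_univ, Fintype.card_fin, smul_eq_mul] at h1
    exact h1
  · -- sum is everything
    have hinvW : ∀ h, (⨆ g, E.map (ρ g)) ≤ (⨆ g, E.map (ρ g)).comap (ρ h) := by
      intro h
      rw [← Submodule.map_le_iff_le_comap, Submodule.map_iSup]
      apply iSup_le
      intro g
      rw [← Submodule.map_comp]
      have : (ρ h) ∘ₗ (ρ g) = ρ (h * g) := by rw [map_mul]; rfl
      rw [this]
      exact le_iSup (fun g => E.map (ρ g)) (h * g)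
    rcases hirr _ hinvW with h | h
    · exfalso
      apply hEne
      rw [eq_bot_iff, ← h]
      refine le_trans ?_ (le_iSup (fun g => E.map (ρ g)) 1)
      rw [map_one]
      intro v hv
      exact ⟨v, hv, rfl⟩
    · exact h
  · intro g
    exact (Submodule.equivMapOfInjective (ρ g) (hinj g) E).finrank_eq.symm
  · rintro g h hh _ ⟨w, hw, rfl⟩
    rw [Submodule.mem_comap]
    rw [MonoidHom.mem_ker, hζhom] at hh
    have hm : ζ (g⁻¹ * h * g) = 1 := by
      rw [hζmul, hζmul, hh, mul_one, mul_comm, hζinv]
    refine ⟨ρ (g⁻¹ * h * g) w, hEinv _ hm w hw, ?_⟩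
    rw [← Module.End.mul_apply, ← map_mul, ← Module.End.mul_apply, ← map_mul]
    congr 2
    group


end

/-- **Derived length of linear `p`-groups**: a finite `p`-group acting on an `n`-dimensional
space over an algebraically closed field has `(log₂ n + 1)`-st derived subgroup in the kernel. -/
theorem derivedSeries_le_ker_logp (K : Type u) [Field K] [IsAlgClosed K] (p : ℕ) [Fact p.Prime]
    (hpK : (p : K) ≠ 0) :
    ∀ (n : ℕ) (V : Type v) [AddCommGroup V] [Module K V] [FiniteDimensional K V]
      (G : Type w) [Group G] [Finite G] (_ : IsPGroup p G) (ρ : Representation K G V),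
      finrank K V = n → ∀ g ∈ derivedSeries G (Nat.log p n + 1), ρ g = 1 := by
  intro n
  induction n using Nat.strong_induction_on with
  | _ n ih =>
  intro V _ _ _ G _ _ hG ρ hn g hg
  by_cases hred : ∃ W : Submodule K V, (∀ g, W ≤ W.comap (ρ g)) ∧ W ≠ ⊥ ∧ W ≠ ⊤
  · obtain ⟨W, hW, hWb, hWt⟩ := hred
    have hsum := Submodule.finrank_quotient_add_finrank W
    have ha : 1 ≤ finrank K W := by
      rw [Nat.one_le_iff_ne_zero]
      intro h
      exact hWb (Submodule.finrank_eq_zero.1 h)
    have hb : 1 ≤ finrank K (V ⧸ W) := by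
      rw [Nat.one_le_iff_ne_zero]
      intro h
      apply hWt
      apply Submodule.eq_top_of_finrank_eq
      omega
    have hmono : ∀ m, m ≤ n → g ∈ derivedSeries G (Nat.log p m + 1) := fun m hm =>
      derivedSeries_antitone G (Nat.succ_le_succ (Nat.log_mono_right hm)) hg
    have h1 := ih (finrank K W) (by omega) W G hG (ρ.subrepresentation W hW) rfl g
      (hmono _ (by omega))
    have h2 := ih (finrank K (V ⧸ W)) (by omega) (V ⧸ W) G hG (ρ.quotient W hW) rfl g
      (hmono _ (by omega))
    apply eq_one_of_unipotent p hpK hG ρ g W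
    · intro w hw
      have := congrArg (fun f => ((f ⟨w, hw⟩ : W) : V)) h1
      simpa using this
    · intro v
      have := LinearMap.congr_fun h2 (Submodule.Quotient.mk v)
      rw [Representation.quotient_apply, Submodule.mapQ_apply, Module.End.one_apply, ← sub_eq_zero,
        ← Submodule.Quotient.mk_sub, Submodule.Quotient.mk_eq_zero] at this
      exact this
  · have hirr : Irred ρ := by
      intro W hW
      by_contra h
      push Not at h
      exact hred ⟨W, hW, h.1, h.2⟩
    rcases Nat.eq_zero_or_pos n with h0 | hpos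
    · haveI : Subsingleton V := by
        rw [← hn] at h0
        exact Module.finrank_zero_iff.1 h0
      exact LinearMap.ext fun v => Subsingleton.elim _ _
    haveI : Nontrivial V := Module.nontrivial_of_finrank_pos (R := K) (by omega)
    by_cases hab : ∀ x y : G, ρ (x * y) = ρ (y * x)
    · have hker : commutator G ≤ ρ.ker := by
        rw [commutator_def, Subgroup.commutator_le]
        intro x _ y _
        rw [MonoidHom.mem_ker, commutatorElement_def]
        calc ρ (x * y * x⁻¹ * y⁻¹) = ρ (x * y) * ρ (x⁻¹ * y⁻¹) := by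
              rw [← map_mul]; congr 1; group
          _ = ρ (y * x) * ρ (x⁻¹ * y⁻¹) := by rw [hab]
          _ = 1 := by
              rw [← map_mul]
              have : y * x * (x⁻¹ * y⁻¹) = 1 := by group
              rw [this, map_one]
      have h1 : derivedSeries G (Nat.log p n + 1) ≤ derivedSeries G 1 :=
        derivedSeries_antitone G (by omega)
      have h2 := h1 hg
      rw [derivedSeries_one] at h2
      exact MonoidHom.mem_ker.1 (hker h2)
    · obtain ⟨M, d, hM, hd1, hd2, E, hEtop, hEd, hEinv⟩ := irreducible_step_p p hG ρ hirr hab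
      have hdn : d < n := by
        have h2p : 2 ≤ p := (Fact.out : p.Prime).two_le
        have : 2 * d ≤ p * d := Nat.mul_le_mul_right d h2p
        omega
      have key : ∀ y ∈ derivedSeries M (Nat.log p d + 1), ρ (y : G) = 1 := by
        intro y hy
        have hfix : ∀ i, E i ≤ LinearMap.ker (ρ (y : G) - 1) := by
          intro i v hv
          have h3 := ih d hdn (E i) M (hG.to_subgroup M)
            (Representation.subrepresentation (G := M) (ρ.comp M.subtype) (E i)
              (fun h => hEinv i h h.2)) (hEd i) y hy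
          have h4 : ρ (y : G) v = v := congrArg (fun f => ((f ⟨v, hv⟩ : E i) : V)) h3
          rw [LinearMap.mem_ker, LinearMap.sub_apply, Module.End.one_apply, sub_eq_zero]
          exact h4
        have htop : (⊤ : Submodule K V) ≤ LinearMap.ker (ρ (y : G) - 1) := by
          rw [← hEtop]; exact iSup_le hfix
        refine LinearMap.ext fun v => ?_
        have h5 := htop (Submodule.mem_top : v ∈ ⊤)
        rw [LinearMap.mem_ker, LinearMap.sub_apply, sub_eq_zero] at h5
        exact h5
      have hlog : Nat.log p d + 1 ≤ Nat.log p n := by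
        have h6 : Nat.log p (d * p) = Nat.log p d + 1 :=
          Nat.log_mul_base (Fact.out : p.Prime).one_lt (by omega)
        rw [← h6]
        exact Nat.log_mono_right (by rw [mul_comm]; omega)
      have h1 : g ∈ derivedSeries G (Nat.log p d + 1 + 1) :=
        derivedSeries_antitone G (by omega) hg
      obtain ⟨y, hy, rfl⟩ := derivedSeries_succ_le_map M hM _ h1
      exact key y hy



/-- Version over an arbitrary field of the bound on derived length of linear `p`-groups. -/
theorem derivedSeries_le_ker_field_logp (E : Type u) [Field E] (p : ℕ) [Fact p.Prime]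
    (hpE : (p : E) ≠ 0)
    (V : Type v) [AddCommGroup V] [Module E V] [FiniteDimensional E V]
    (G : Type w) [Group G] [Finite G] (hG : IsPGroup p G) (ρ : Representation E G V)
    (g : G) (hg : g ∈ derivedSeries G (Nat.log p (finrank E V) + 1)) : ρ g = 1 := by
  classical
  let K := AlgebraicClosure E
  let b : Basis (Fin (finrank E V)) E V := Module.finBasis E V
  let ψ : Module.End E V →+* Module.End K (Fin (finrank E V) → K) :=
    ((Matrix.toLinAlgEquiv' (R := K) (n := Fin (finrank E V))).toRingEquiv.toRingHom).comp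
      (((algebraMap E K).mapMatrix).comp ((LinearMap.toMatrixAlgEquiv b).toRingEquiv.toRingHom))
  have hψ : Function.Injective ψ := by
    intro x y hxy
    have h1 : (algebraMap E K).mapMatrix (LinearMap.toMatrixAlgEquiv b x) =
        (algebraMap E K).mapMatrix (LinearMap.toMatrixAlgEquiv b y) :=
      (Matrix.toLinAlgEquiv' (R := K) (n := Fin (finrank E V))).injective hxy
    have h2 : LinearMap.toMatrixAlgEquiv b x = LinearMap.toMatrixAlgEquiv b y := by
      ext i j
      have h3 := congrFun (congrFun h1 i) j
      simp only [RingHom.mapMatrix_apply, Matrix.map_apply] at h3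
      exact (algebraMap E K).injective h3
    exact (LinearMap.toMatrixAlgEquiv b).injective h2
  let ρ' : Representation K G (Fin (finrank E V) → K) := (ψ : _ →* _).comp ρ
  have hpK : (p : K) ≠ 0 := by
    intro h
    apply hpE
    apply (algebraMap E K).injective
    rw [map_natCast, map_zero]
    exact h
  have h := derivedSeries_le_ker_logp K p hpK (finrank E V)
    (Fin (finrank E V) → K) G hG ρ' (Module.finrank_fin_fun K) g hg
  apply hψ
  rw [map_one]
  exact h


section
variable {F : Type u} [Field F] {V : Type v} [AddCommGroup V] [Module F V]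
  {G : Type w} [Group G]

theorem irreducible_case_logp [FiniteDimensional F V] (p : ℕ) [Fact p.Prime] [Finite G]
    (hpF : (p : F) ≠ 0)
    (hG : IsPGroup p G) (ρ : Representation F G V)
    (T : Module.End F V) (hT : ∀ g, Commute T (ρ g)) (hμ : Irreducible (minpoly F T))
    (g : G)
    (hg : g ∈ derivedSeries G (Nat.log p (finrank F V / (minpoly F T).natDegree) + 1)) :
    ρ g = 1 := by
  haveI : Fact (Irreducible (minpoly F T)) := ⟨hμ⟩
  let φ : AdjoinRoot (minpoly F T) →ₐ[F] Module.End F V :=
    Ideal.Quotient.liftₐ (Ideal.span {minpoly F T}) (aeval T) (fun a ha => by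
      obtain ⟨c, rfl⟩ := Ideal.mem_span_singleton.1 ha
      rw [map_mul, minpoly.aeval, zero_mul])
  have hφ : ∀ f : F[X], φ (AdjoinRoot.mk (minpoly F T) f) = aeval T f := fun f => rfl
  letI : Module (AdjoinRoot (minpoly F T)) V :=
    Module.compHom V (φ : AdjoinRoot (minpoly F T) →+* Module.End F V)
  have hsmul : ∀ (x : AdjoinRoot (minpoly F T)) (v : V), x • v = φ x v := fun x v => rfl
  haveI : IsScalarTower F (AdjoinRoot (minpoly F T)) V :=
    IsScalarTower.of_algebraMap_smul (fun r v => by
      rw [hsmul, AlgHom.commutes, Module.algebraMap_end_apply])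
  haveI : FiniteDimensional (AdjoinRoot (minpoly F T)) V :=
    Module.Finite.of_restrictScalars_finite F (AdjoinRoot (minpoly F T)) V
  have hfr : finrank F (AdjoinRoot (minpoly F T)) = (minpoly F T).natDegree := by
    rw [(AdjoinRoot.powerBasis hμ.ne_zero).finrank, AdjoinRoot.powerBasis_dim]
  have hmul := Module.finrank_mul_finrank F (AdjoinRoot (minpoly F T)) V
  rw [hfr] at hmul
  have hdeg : 0 < (minpoly F T).natDegree := Irreducible.natDegree_pos hμ
  have hdiv : finrank F V / (minpoly F T).natDegree = finrank (AdjoinRoot (minpoly F T)) V := by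
    rw [← hmul]
    exact Nat.mul_div_cancel_left _ hdeg
  rw [hdiv] at hg
  have hcomm : ∀ (x : AdjoinRoot (minpoly F T)) (h : G), Commute (φ x) (ρ h) := by
    intro x h
    obtain ⟨f, rfl⟩ := AdjoinRoot.mk_surjective x
    rw [hφ]
    exact commute_aeval T (ρ h) (hT h) f
  let ρE : Representation (AdjoinRoot (minpoly F T)) G V :=
    { toFun := fun h =>
        { toFun := fun v => ρ h v
          map_add' := fun a b => map_add _ a b
          map_smul' := fun x v => by
            simp only [RingHom.id_apply, hsmul]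
            have := LinearMap.congr_fun (hcomm x h).eq v
            simpa using this.symm }
      map_one' := by
        ext v
        simp
      map_mul' := fun a b => by
        ext v
        simp }
  have hpE : (p : AdjoinRoot (minpoly F T)) ≠ 0 := by
    intro h
    apply hpF
    apply (algebraMap F (AdjoinRoot (minpoly F T))).injective
    rw [map_natCast, map_zero]
    exact h
  have h1 := derivedSeries_le_ker_field_logp (AdjoinRoot (minpoly F T)) p hpE V G hG ρE g hg
  refine LinearMap.ext fun v => ?_
  have h2 := LinearMap.congr_fun h1 v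
  exact h2


/-- Main induction: `e` is the common degree of the irreducible factors of the `p`-th cyclotomic
polynomial over `F`. -/
theorem derivedSeries_le_ker_of_cyclotomic_logp (p : ℕ) [Fact p.Prime] (hpF : (p : F) ≠ 0) (e : ℕ)
    (he : ∀ μ : F[X], Irreducible μ → μ ∣ cyclotomic p F → μ.natDegree = e) :
    ∀ (m : ℕ) (V : Type v) [AddCommGroup V] [Module F V] [FiniteDimensional F V]
      (G : Type w) [Group G] [Finite G] (_ : IsPGroup p G) (ρ : Representation F G V),
      finrank F V = m → ∀ g ∈ derivedSeries G (Nat.log p (m / e) + 1), ρ g = 1 := by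
  intro m
  induction m using Nat.strong_induction_on with
  | _ m ih =>
  intro V _ _ _ G _ _ hG ρ hm g hg
  by_cases hred : ∃ W : Submodule F V, (∀ g, W ≤ W.comap (ρ g)) ∧ W ≠ ⊥ ∧ W ≠ ⊤
  · obtain ⟨W, hW, hWb, hWt⟩ := hred
    have hsum := Submodule.finrank_quotient_add_finrank W
    have ha : 1 ≤ finrank F W := by
      rw [Nat.one_le_iff_ne_zero]
      intro h
      exact hWb (Submodule.finrank_eq_zero.1 h)
    have hb : 1 ≤ finrank F (V ⧸ W) := by
      rw [Nat.one_le_iff_ne_zero]
      intro h
      apply hWt
      apply Submodule.eq_top_of_finrank_eq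
      omega
    have hmono : ∀ m', m' ≤ m → g ∈ derivedSeries G (Nat.log p (m' / e) + 1) := fun m' hm' =>
      derivedSeries_antitone G
        (Nat.succ_le_succ (Nat.log_mono_right (Nat.div_le_div_right hm'))) hg
    have h1 := ih (finrank F W) (by omega) W G hG (ρ.subrepresentation W hW) rfl g
      (hmono _ (by omega))
    have h2 := ih (finrank F (V ⧸ W)) (by omega) (V ⧸ W) G hG (ρ.quotient W hW) rfl g
      (hmono _ (by omega))
    apply Cfsg.Agent.Helper3.PGroupLin.eq_one_of_unipotent p hpF hG ρ g W
    · intro w hw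
      have := congrArg (fun f => ((f ⟨w, hw⟩ : W) : V)) h1
      simpa using this
    · intro v
      have := LinearMap.congr_fun h2 (Submodule.Quotient.mk v)
      rw [Representation.quotient_apply, Submodule.mapQ_apply, Module.End.one_apply, ← sub_eq_zero,
        ← Submodule.Quotient.mk_sub, Submodule.Quotient.mk_eq_zero] at this
      exact this
  · have hirr : ∀ W : Submodule F V, (∀ g, W ≤ W.comap (ρ g)) → W = ⊥ ∨ W = ⊤ := by
      intro W hW
      by_contra h
      push Not at h
      exact hred ⟨W, hW, h.1, h.2⟩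
    by_cases htriv : ∀ x, ρ x = 1
    · exact htriv g
    push Not at htriv
    obtain ⟨T, hT1, hTp, hTc⟩ := exists_central_order_p p hG ρ htriv
    haveI : Nontrivial V := by
      by_contra hV
      rw [not_nontrivial_iff_subsingleton] at hV
      exact hT1 (LinearMap.ext fun v => Subsingleton.elim _ _)
    have hμ := minpoly_irreducible ρ hirr T hTc
    have hker : LinearMap.ker (T - 1) = ⊥ := by
      rcases hirr (LinearMap.ker (T - 1))
        (ker_invariant ρ _ (fun g => (hTc g).sub_left (Commute.one_left _))) with h | h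
      · exact h
      · exfalso
        apply hT1
        have := LinearMap.ker_eq_top.1 h
        exact sub_eq_zero.1 this
    have hcyc : aeval T (cyclotomic p F) = 0 := by
      have h1 : aeval T ((X - 1) * cyclotomic p F) = 0 := by
        rw [mul_comm, cyclotomic_prime_mul_X_sub_one]
        simp [hTp]
      rw [map_mul] at h1
      refine LinearMap.ext fun v => ?_
      have h2 := LinearMap.congr_fun h1 v
      have h3 : aeval T (cyclotomic p F) v ∈ LinearMap.ker (T - 1) := by
        rw [LinearMap.mem_ker]
        simpa using h2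
      rw [hker, Submodule.mem_bot] at h3
      simpa using h3
    have hdvd : minpoly F T ∣ cyclotomic p F := minpoly.dvd F T hcyc
    have hdeg := he _ hμ hdvd
    rw [← hm, ← hdeg] at hg
    exact irreducible_case_logp p hpF hG ρ T hTc hμ g hg


end

end Cfsg.Agent.Helper4.PLinField
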