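import Mathlib

set_option autoImplicit false

/-!
Derived length of `p`-groups of permutations: a finite `p`-group acting on a finite set `X`
acts through a quotient of derived length at most `log_p |X|`.
-/

namespace Cfsg.Agent.Helper4.PermDL

open Subgroup MulAction

universe u v

variable {p : ℕ} [hp : Fact p.Prime]

/-- A proper subgroup of a finite `p`-group lies in a normal subgroup of index `p`. -/
theorem exists_index_prime_of_ne_top {P : Type*} [Group P] [Finite P] (hP : IsPGroup p P)
    {H : Subgroup P} (hH : H ≠ ⊤) :
    ∃ U : Subgroup P, H ≤ U ∧ U.Normal ∧ U.index = p := by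
  obtain ⟨a, ha⟩ := IsPGroup.iff_card.mp hP
  obtain ⟨n, hn⟩ := IsPGroup.iff_card.mp (hP.to_subgroup H)
  have hlt : Nat.card H < Nat.card P :=
    lt_of_le_of_ne (Subgroup.card_le_card_group H)
      (fun h => hH ((Subgroup.card_eq_iff_eq_top H).mp h))
  rw [ha, hn] at hlt
  have hna : n < a := (Nat.pow_lt_pow_iff_right hp.out.one_lt).mp hlt
  have hdvd : p ^ (a - 1) ∣ Nat.card P := by
    rw [ha]; exact pow_dvd_pow p (Nat.sub_le a 1)
  obtain ⟨K, hK, hHK⟩ := Sylow.exists_subgroup_card_pow_prime_le p hdvd H hn (by omega)
  have hidx : K.index = p := by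
    have h1 := Subgroup.card_mul_index K
    rw [hK, ha] at h1
    have h2 : p ^ a = p ^ (a - 1) * p := by
      rw [← pow_succ]; congr 1; omega
    rw [h2] at h1
    exact Nat.eq_of_mul_eq_mul_left (pow_pos hp.out.pos _) h1
  refine ⟨K, hHK, ?_, hidx⟩
  apply Subgroup.normal_of_index_eq_minFac_card
  rw [hidx, ha, Nat.Prime.pow_minFac hp.out (by omega)]

omit hp in
/-- a normal subgroup of prime index contains the commutator subgroup -/
theorem commutator_le_of_index_prime {G : Type*} [Group G] (U : Subgroup G) [U.Normal]
    (hp' : p.Prime) (hU : U.index = p) : commutator G ≤ U := by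
  rw [← Subgroup.Normal.quotient_commutative_iff_commutator_le]
  have hcard : Nat.card (G ⧸ U) = p := by rw [← hU]; rfl
  haveI : Fact p.Prime := ⟨hp'⟩
  haveI : IsCyclic (G ⧸ U) := isCyclic_of_prime_card hcard
  exact IsCyclic.isMulCommutative

/-- the derived series of `G` runs inside the derived series of any subgroup containing `G'` -/
theorem derivedSeries_succ_le_map {G : Type*} [Group G] (M : Subgroup G) (hM : commutator G ≤ M)
    (j : ℕ) : derivedSeries G (j + 1) ≤ (derivedSeries M j).map M.subtype := by
  induction j with
  | zero =>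
    rw [derivedSeries_succ, derivedSeries_zero, derivedSeries_zero, ← MonoidHom.range_eq_map,
      Subgroup.range_subtype]
    exact hM
  | succ j ih =>
    rw [derivedSeries_succ G (j + 1), derivedSeries_succ (↥M) j, Subgroup.map_commutator]
    exact Subgroup.commutator_mono ih ih

/-- **Derived length of a `p`-group of permutations**: a finite `p`-group `Q` acting on a finite
set `X`; every element of the `log_p |X|`-th derived subgroup acts trivially. -/
theorem smul_eq_of_mem_derivedSeries : ∀ (N : ℕ) (Q : Type v) [Group Q] [Finite Q]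
    (_ : IsPGroup p Q) (X : Type u) [Finite X] [MulAction Q X], Nat.card X ≤ N →
    ∀ g ∈ derivedSeries Q (Nat.log p (Nat.card X)), ∀ x : X, g • x = x := by
  intro N
  induction N with
  | zero =>
    intro Q _ _ hQ X _ _ hX g _ x
    have : IsEmpty X := by
      rw [← Finite.card_eq_zero_iff]
      omega
    exact isEmptyElim x
  | succ N ih =>
    intro Q _ _ hQ X _ _ hX g hg x
    by_cases htr : ∃ x₀ : X, orbit Q x₀ = Set.univ
    · obtain ⟨x₀, hx₀⟩ := htr
      -- transitive case
      by_cases h1 : Nat.card X = 1
      · have : Subsingleton X := (Nat.card_eq_one_iff_unique.mp h1).1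
        exact Subsingleton.elim _ _
      have hcardX : Nat.card X = (stabilizer Q x₀).index := by
        rw [index_stabilizer, hx₀, Set.ncard_univ]
      have hne : stabilizer Q x₀ ≠ ⊤ := by
        intro htop
        rw [htop, Subgroup.index_top] at hcardX
        exact h1 hcardX
      obtain ⟨U, hle, hUn, hUidx⟩ := exists_index_prime_of_ne_top hQ hne
      haveI := hUn
      have hcomm : commutator Q ≤ U := commutator_le_of_index_prime U hp.out hUidx
      -- every stabilizer lies in U
      have hstab : ∀ y : X, stabilizer Q y ≤ U := by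
        intro y
        have hy : y ∈ orbit Q x₀ := by rw [hx₀]; trivial
        obtain ⟨h, rfl⟩ := hy
        rw [stabilizer_smul_eq_stabilizer_map_conj]
        rintro _ ⟨t, ht, rfl⟩
        exact hUn.conj_mem t (hle ht) h
      -- transitivity: every orbit is everything
      have horb : ∀ y : X, orbit Q y = Set.univ := by
        intro y
        have hy : y ∈ orbit Q x₀ := by rw [hx₀]; trivial
        rw [← hx₀]
        exact orbit_eq_iff.mpr hy
      -- sizes of the U-orbits
      have hsize : ∀ y : X, Nat.card (orbit ↥U y) * p = Nat.card X := by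
        intro y
        have e1 : Nat.card X = (stabilizer Q y).index := by
          rw [index_stabilizer, horb y, Set.ncard_univ]
        have e2 : Nat.card (orbit ↥U y) = (stabilizer ↥U y).index := by
          rw [index_stabilizer]; rfl
        have e3 : stabilizer ↥U y = (stabilizer Q y).subgroupOf U := by
          ext t
          simp [mem_stabilizer_iff, Subgroup.mem_subgroupOf, Subgroup.smul_def]
        have e4 : ((stabilizer Q y).subgroupOf U).index * U.index = (stabilizer Q y).index := by
          have := Subgroup.relIndex_mul_index (hstab y)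
          exact this
        rw [e1, e2, e3, ← e4, hUidx]
      set k := Nat.log p (Nat.card X) with hk
      have hpX : p ∣ Nat.card X := by rw [← hsize x]; exact dvd_mul_left _ _
      have hXpos : 0 < Nat.card X := Nat.card_pos_iff.mpr ⟨⟨x⟩, inferInstance⟩
      have hk1 : 1 ≤ k := by
        rw [hk]
        exact Nat.log_pos hp.out.one_lt (Nat.le_of_dvd hXpos hpX)
      have hlog : ∀ y : X, Nat.log p (Nat.card (orbit ↥U y)) = k - 1 := by
        intro y
        have : Nat.card (orbit ↥U y) = Nat.card X / p := by
          rw [← hsize y, Nat.mul_div_cancel _ hp.out.pos]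
        rw [this, Nat.log_div_base]
      have hg' : g ∈ (derivedSeries ↥U (k - 1)).map U.subtype := by
        have := derivedSeries_succ_le_map U hcomm (k - 1)
        rw [Nat.sub_add_cancel hk1] at this
        exact this hg
      obtain ⟨g', hg'mem, rfl⟩ := hg'
      have hcardle : Nat.card (orbit ↥U x) ≤ N := by
        have h2 := hsize x
        have h3 : 2 ≤ p := hp.out.two_le
        have h4 : 0 < Nat.card (orbit ↥U x) :=
          Nat.card_pos_iff.mpr ⟨⟨⟨x, mem_orbit_self x⟩⟩, inferInstance⟩
        nlinarith
      have hU : IsPGroup p ↥U := hQ.to_subgroup U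
      have key := ih ↥U hU (orbit ↥U x) hcardle g' (by rw [hlog x]; exact hg'mem)
        ⟨x, mem_orbit_self x⟩
      have := congrArg Subtype.val key
      exact this
    · -- intransitive case
      push Not at htr
      have hlt : Nat.card (orbit Q x) < Nat.card X := by
        have h1 : (orbit Q x).ncard < (Set.univ : Set X).ncard := by
          apply Set.ncard_lt_ncard _ (Set.toFinite _)
          exact (Set.ssubset_univ_iff).mpr (htr x)
        rwa [Set.ncard_univ, ← Nat.card_coe_set_eq] at h1
      have hle : Nat.card (orbit Q x) ≤ N := by omega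
      have hmono : Nat.log p (Nat.card (orbit Q x)) ≤ Nat.log p (Nat.card X) :=
        Nat.log_mono_right hlt.le
      have hg2 : g ∈ derivedSeries Q (Nat.log p (Nat.card (orbit Q x))) :=
        derivedSeries_antitone Q hmono hg
      have key := ih Q hQ (orbit Q x) hle g hg2 ⟨x, mem_orbit_self x⟩
      have := congrArg Subtype.val key
      exact this

/-- kernel form -/
theorem derivedSeries_le_ker (Q : Type v) [Group Q] [Finite Q] (hQ : IsPGroup p Q)
    (X : Type u) [Finite X] [MulAction Q X] :
    derivedSeries Q (Nat.log p (Nat.card X)) ≤ (MulAction.toPermHom Q X).ker := by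
  intro g hg
  rw [MonoidHom.mem_ker]
  ext x
  exact smul_eq_of_mem_derivedSeries (Nat.card X) Q hQ X le_rfl g hg x

/-- faithful form -/
theorem derivedSeries_eq_bot (Q : Type v) [Group Q] [Finite Q] (hQ : IsPGroup p Q)
    (X : Type u) [Finite X] [MulAction Q X] [FaithfulSMul Q X] :
    derivedSeries Q (Nat.log p (Nat.card X)) = ⊥ := by
  rw [eq_bot_iff]
  intro g hg
  rw [Subgroup.mem_bot]
  apply FaithfulSMul.eq_of_smul_eq_smul (α := X)
  intro x
  rw [one_smul]
  exact smul_eq_of_mem_derivedSeries (Nat.card X) Q hQ X le_rfl g hg x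

/-- subgroups of `Perm X` -/
theorem derivedSeries_perm_eq_bot {X : Type u} [Finite X] (Q : Subgroup (Equiv.Perm X))
    (hQ : IsPGroup p Q) : derivedSeries ↥Q (Nat.log p (Nat.card X)) = ⊥ := by
  haveI : Finite (Equiv.Perm X) := inferInstance
  rw [eq_bot_iff]
  intro g hg
  rw [Subgroup.mem_bot]
  apply Subtype.ext
  ext x
  have := smul_eq_of_mem_derivedSeries (Nat.card X) ↥Q hQ X le_rfl g hg x
  exact this

end Cfsg.Agent.Helper4.PermDL
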