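import Mathlib

set_option autoImplicit false

/-!
Lower bound for the derived length of wreath products: if `Q` is nontrivial then the derived
length of `D ≀ᵣ Q` exceeds that of `D`; iterated wreath products of length `k` have derived
length at least `k`.
-/

namespace Cfsg.Agent.Helper4.PermDL

open RegularWreathProduct
open scoped commutatorElement

variable {D Q : Type*} [Group D] [Group Q]

/-- evaluation at `q` on the base group of the wreath product -/
def evBase (q : Q) : ↥((rightHom : D ≀ᵣ Q →* Q).ker) →* D where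
  toFun w := w.1.left q
  map_one' := rfl
  map_mul' w w' := by
    have h : w.1.right = 1 := w.2
    show (w.1 * w'.1).left q = w.1.left q * w'.1.left q
    rw [mul_left, h]
    simp

theorem evBase_apply (q : Q) (w : ↥((rightHom : D ≀ᵣ Q →* Q).ker)) :
    evBase q w = w.1.left q := rfl

/-- the key claim -/
theorem derivedSeries_le_map_evBase (q₀ : Q) (hq₀ : q₀ ≠ 1) (q : Q) (j : ℕ) :
    derivedSeries D j ≤
      ((derivedSeries (D ≀ᵣ Q) (j + 1)).subgroupOf ((rightHom : D ≀ᵣ Q →* Q).ker)).map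
        (evBase q) := by
  classical
  induction j with
  | zero =>
    intro d _
    let b : D ≀ᵣ Q := ⟨Pi.mulSingle q d, 1⟩
    let c : D ≀ᵣ Q := inl q₀
    have hw : ⁅b, c⁆ ∈ derivedSeries (D ≀ᵣ Q) (0 + 1) := by
      rw [derivedSeries_succ, derivedSeries_zero]
      exact Subgroup.commutator_mem_commutator (Subgroup.mem_top _) (Subgroup.mem_top _)
    have hr : (⁅b, c⁆ : D ≀ᵣ Q).right = 1 := by
      rw [commutatorElement_def]
      simp [b, c]
    refine ⟨⟨⁅b, c⁆, hr⟩, hw, ?_⟩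
    rw [evBase_apply]
    show (⁅b, c⁆ : D ≀ᵣ Q).left q = d
    rw [commutatorElement_def]
    have hne : q₀⁻¹ * q ≠ q := by
      intro h
      apply hq₀
      have : q₀⁻¹ = 1 := mul_eq_right.mp h
      simpa using this
    simp [b, c, mul_left, inv_left, Pi.mulSingle_eq_of_ne hne]
  | succ j ih =>
    rw [derivedSeries_succ D j, Subgroup.commutator_le]
    intro a ha b hb
    obtain ⟨wa, hwa, rfl⟩ := ih ha
    obtain ⟨wb, hwb, rfl⟩ := ih hb
    refine ⟨⁅wa, wb⁆, ?_, map_commutatorElement _ _ _⟩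
    rw [SetLike.mem_coe, Subgroup.mem_subgroupOf] at hwa hwb ⊢
    rw [derivedSeries_succ (D ≀ᵣ Q) (j + 1)]
    have : ((⁅wa, wb⁆ : ↥((rightHom : D ≀ᵣ Q →* Q).ker)) : D ≀ᵣ Q) = ⁅(wa : D ≀ᵣ Q), (wb : D ≀ᵣ Q)⁆ :=
      map_commutatorElement (Subgroup.subtype _) wa wb
    rw [this]
    exact Subgroup.commutator_mem_commutator hwa hwb

/-- the derived length of a wreath product with a nontrivial top group goes up -/
theorem derivedSeries_wreath_ne_bot (hQ : Nontrivial Q) (j : ℕ)
    (h : derivedSeries D j ≠ ⊥) : derivedSeries (D ≀ᵣ Q) (j + 1) ≠ ⊥ := by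
  obtain ⟨q₀, hq₀⟩ := exists_ne (1 : Q)
  rw [Ne, Subgroup.eq_bot_iff_forall] at h ⊢
  push Not at h ⊢
  obtain ⟨d, hd, hd1⟩ := h
  obtain ⟨w, hw, hwd⟩ := derivedSeries_le_map_evBase q₀ hq₀ (1 : Q) j hd
  have hw' : w ∈ (derivedSeries (D ≀ᵣ Q) (j + 1)).subgroupOf ((rightHom : D ≀ᵣ Q →* Q).ker) := hw
  rw [Subgroup.mem_subgroupOf] at hw'
  refine ⟨w.1, hw', ?_⟩
  intro h1
  apply hd1
  rw [← hwd, evBase_apply, h1]
  rfl

end Cfsg.Agent.Helper4.PermDL

namespace Cfsg.Agent.Helper4.PermDL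

open RegularWreathProduct

universe u

theorem top_ne_bot_wreath {D Q : Type*} [Group D] [Group Q] (hQ : Nontrivial Q) :
    (⊤ : Subgroup (D ≀ᵣ Q)) ≠ ⊥ := by
  obtain ⟨q₀, hq₀⟩ := exists_ne (1 : Q)
  intro h
  have h1 : (inl q₀ : D ≀ᵣ Q) ∈ (⊥ : Subgroup (D ≀ᵣ Q)) := h ▸ Subgroup.mem_top _
  rw [Subgroup.mem_bot] at h1
  apply hq₀
  have := congrArg RegularWreathProduct.right h1
  simpa using this

/-- iterated wreath products of length `k + 1` have derived length at least `k + 1` -/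
theorem derivedSeries_iterated_ne_bot (G : Type u) [Group G] [hG : Nontrivial G] :
    ∀ k : ℕ, derivedSeries (IteratedWreathProduct G (k + 1)) k ≠ ⊥
  | 0 => by
    rw [derivedSeries_zero]
    exact top_ne_bot_wreath (D := IteratedWreathProduct G 0) (Q := G) hG
  | k + 1 =>
    derivedSeries_wreath_ne_bot (D := IteratedWreathProduct G (k + 1)) (Q := G) hG k
      (derivedSeries_iterated_ne_bot G k)

end Cfsg.Agent.Helper4.PermDL
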