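import Mathlib
import Cfsg.Agent.Helper4.PermDLA
import Cfsg.Agent.Helper4.PermDLB

set_option autoImplicit false

/-!
The derived length of a Sylow `p`-subgroup of `S_n` is exactly `⌊log_p n⌋`.
-/

namespace Cfsg.Agent.Helper4.PermDL

/-- nontriviality of derived subgroups passes up injective homomorphisms -/
theorem derivedSeries_ne_bot_of_injective {W H : Type*} [Group W] [Group H] (φ : W →* H)
    (hφ : Function.Injective φ) (j : ℕ) (h : derivedSeries W j ≠ ⊥) : derivedSeries H j ≠ ⊥ := by
  intro hH
  apply h
  have h1 := map_derivedSeries_le_derivedSeries φ j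
  rw [hH, le_bot_iff, (Subgroup.map_eq_bot_iff_of_injective _ hφ)] at h1
  exact h1

/-- derived subgroups correspond under isomorphisms -/
theorem derivedSeries_ne_bot_of_mulEquiv {W H : Type*} [Group W] [Group H] (e : W ≃* H)
    (j : ℕ) (h : derivedSeries W j ≠ ⊥) : derivedSeries H j ≠ ⊥ :=
  derivedSeries_ne_bot_of_injective e.toMonoidHom e.injective j h

theorem sylow_perm_derivedSeries (p : ℕ) [hp : Fact p.Prime] (n : ℕ) (hn : 1 ≤ n)
    (P : Sylow p (Equiv.Perm (Fin n))) :
    derivedSeries ↥(P : Subgroup (Equiv.Perm (Fin n))) (Nat.log p n) = ⊥ ∧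
      (1 ≤ Nat.log p n →
        derivedSeries ↥(P : Subgroup (Equiv.Perm (Fin n))) (Nat.log p n - 1) ≠ ⊥) := by
  classical
  constructor
  · have := derivedSeries_perm_eq_bot (p := p) (X := Fin n) (P : Subgroup (Equiv.Perm (Fin n))) P.2
    rwa [Nat.card_fin] at this
  · intro hk
    set k := Nat.log p n with hkdef
    let G := Multiplicative (ZMod p)
    haveI : NeZero p := ⟨hp.out.ne_zero⟩
    have hGcard : Nat.card G = p := by
      show Nat.card (Multiplicative (ZMod p)) = p
      rw [Nat.card_eq_fintype_card, Fintype.card_multiplicative, ZMod.card]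
    haveI : Finite G := Nat.finite_of_card_ne_zero (by rw [hGcard]; exact hp.out.ne_zero)
    haveI hGnt : Nontrivial G := by
      rw [← Finite.one_lt_card_iff_nontrivial, hGcard]
      exact hp.out.one_lt
    -- the iterated wreath product of length k
    have hW : derivedSeries (IteratedWreathProduct G (k - 1 + 1)) (k - 1) ≠ ⊥ :=
      derivedSeries_iterated_ne_bot G (k - 1)
    rw [Nat.sub_add_cancel hk] at hW
    -- embedding into Perm (Fin n)
    have hcard : Fintype.card (Fin k → G) ≤ Fintype.card (Fin n) := by
      rw [Fintype.card_fin, Fintype.card_fun, Fintype.card_fin, ← Nat.card_eq_fintype_card, hGcard]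
      exact Nat.pow_log_le_self p (by omega)
    obtain ⟨ι⟩ := Function.Embedding.nonempty_of_card_le hcard
    let f : IteratedWreathProduct G k →* Equiv.Perm (Fin n) :=
      (Equiv.Perm.viaEmbeddingHom ι).comp (iteratedWreathToPermHom G k)
    have hf : Function.Injective f :=
      (Equiv.Perm.viaEmbeddingHom_injective ι).comp (iteratedWreathToPermHomInj G k)
    have hWp : IsPGroup p (IteratedWreathProduct G k) := by
      apply IsPGroup.of_card (n := ∑ i ∈ Finset.range k, p ^ i)
      rw [IteratedWreathProduct.card, hGcard]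
    have hrange : IsPGroup p ↥f.range := by
      rw [MonoidHom.range_eq_map]
      exact IsPGroup.map (hWp.to_subgroup ⊤) f
    obtain ⟨P', hP'⟩ := hrange.exists_le_sylow
    let φ : IteratedWreathProduct G k →* ↥(P' : Subgroup (Equiv.Perm (Fin n))) :=
      f.codRestrict _ (fun w => hP' ⟨w, rfl⟩)
    have hφ : Function.Injective φ := by
      intro a b hab
      apply hf
      have := congrArg Subtype.val hab
      exact this
    have h1 : derivedSeries ↥(P' : Subgroup (Equiv.Perm (Fin n))) (k - 1) ≠ ⊥ :=
      derivedSeries_ne_bot_of_injective φ hφ (k - 1) hW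
    exact derivedSeries_ne_bot_of_mulEquiv (Sylow.equiv P' P) (k - 1) h1

end Cfsg.Agent.Helper4.PermDL
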