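import Mathlib
import Cfsg.Agent.Helper4.PLinFieldC
import Cfsg.Agent.Helper4.PermDLC
set_option autoImplicit false

/-!
Lower bound: an iterated wreath product of cyclic groups of order `p` embeds in `GL_n(q)`.
-/

namespace Cfsg.Agent.Helper4.PLinField

open Module RegularWreathProduct

universe u v w

section induced
variable {F : Type*} [Field F] {D : Type*} [Group D] {Q : Type*} [Group Q]
  {U : Type*} [AddCommGroup U] [Module F U]


/-- The induced (monomial) representation of the regular wreath product. -/
def wreathRep (τ : D →* Module.End F U) : (D ≀ᵣ Q) →* Module.End F (Q → U) where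
  toFun w :=
    { toFun := fun φ x => τ (w.left x) (φ (w.right⁻¹ * x))
      map_add' := fun φ ψ => by
        funext x
        simp
      map_smul' := fun c φ => by
        funext x
        simp }
  map_one' := by
    refine LinearMap.ext fun φ => ?_
    funext x
    simp
  map_mul' a b := by
    refine LinearMap.ext fun φ => ?_
    funext x
    simp [mul_assoc]

theorem wreathRep_apply (τ : D →* Module.End F U) (w : D ≀ᵣ Q) (φ : Q → U) (x : Q) :
    wreathRep τ w φ x = τ (w.left x) (φ (w.right⁻¹ * x)) := rfl

theorem wreathRep_injective [Nontrivial U] (τ : D →* Module.End F U)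
    (hτ : Function.Injective τ) : Function.Injective (wreathRep (Q := Q) τ) := by
  classical
  rw [injective_iff_map_eq_one]
  intro w hw
  have hinv : ∀ (d : D) (u : U), τ d u = 0 → u = 0 := by
    intro d u h
    have h1 : τ d⁻¹ (τ d u) = u := by
      rw [← Module.End.mul_apply, ← map_mul, inv_mul_cancel, map_one, Module.End.one_apply]
    rw [← h1, h, map_zero]
  have hr : w.right = 1 := by
    by_contra hne
    obtain ⟨u, hu⟩ := exists_ne (0 : U)
    have h1 := congrFun (LinearMap.congr_fun hw (Pi.single 1 u)) w.right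
    rw [wreathRep_apply, inv_mul_cancel, Pi.single_eq_same, Module.End.one_apply,
      Pi.single_eq_of_ne hne] at h1
    exact hu (hinv _ _ h1)
  have hl : ∀ x, w.left x = 1 := by
    intro x
    apply hτ
    rw [map_one]
    refine LinearMap.ext fun u => ?_
    have h1 := congrFun (LinearMap.congr_fun hw (Pi.single x u)) x
    rw [wreathRep_apply, hr, inv_one, one_mul, Pi.single_eq_same, Module.End.one_apply,
      Pi.single_eq_same] at h1
    rw [h1, Module.End.one_apply]
  ext x
  · rw [hl x]; rfl
  · exact hr

end induced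


theorem rightHom_injective_punit {Q : Type*} [Group Q] :
    Function.Injective (rightHom : (PUnit : Type u) ≀ᵣ Q →* Q) := by
  intro a b h
  exact RegularWreathProduct.ext (Subsingleton.elim _ _) h

theorem exists_iterated_rep {F : Type u} [Field F] (C : Type u) [Group C] [Fintype C]
    (U₀ : Type u) [AddCommGroup U₀] [Module F U₀] [FiniteDimensional F U₀] [Nontrivial U₀]
    (τ₀ : C →* Module.End F U₀) (hτ₀ : Function.Injective τ₀) :
    ∀ j : ℕ, ∃ (U : Type u) (_ : AddCommGroup U) (_ : Module F U) (_ : FiniteDimensional F U)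
      (_ : Nontrivial U) (τ : IteratedWreathProduct C (j + 1) →* Module.End F U),
      Function.Injective τ ∧ finrank F U = finrank F U₀ * Fintype.card C ^ j := by
  intro j
  induction j with
  | zero =>
    refine ⟨U₀, inferInstance, inferInstance, inferInstance, inferInstance,
      τ₀.comp (rightHom : (IteratedWreathProduct C 0) ≀ᵣ C →* C), ?_, by simp⟩
    exact hτ₀.comp rightHom_injective_punit
  | succ j ih =>
    obtain ⟨U, i1, i2, i3, i4, τ, hτ, hfr⟩ := ih
    haveI : Nonempty C := ⟨1⟩
    refine ⟨C → U, inferInstance, inferInstance, inferInstance, inferInstance,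
      (wreathRep τ : (IteratedWreathProduct C (j + 1)) ≀ᵣ C →* Module.End F (C → U)), ?_, ?_⟩
    · exact wreathRep_injective τ hτ
    · rw [Module.finrank_pi_fintype]
      simp only [Finset.sum_const, Finset.card_univ, smul_eq_mul, hfr]
      ring

theorem exists_injective_GL {F : Type u} [Field F] {W : Type w} [Group W] {U : Type v}
    [AddCommGroup U] [Module F U] [FiniteDimensional F U] (τ : W →* Module.End F U)
    (hτ : Function.Injective τ) (n : ℕ) (hn : finrank F U ≤ n) :
    ∃ f : W →* GL (Fin n) F, Function.Injective f := by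
  classical
  have hfr : finrank F (U × (Fin (n - finrank F U) → F)) = finrank F (Fin n → F) := by
    rw [Module.finrank_prod, Module.finrank_fin_fun, Module.finrank_fin_fun]
    omega
  let ε : (U × (Fin (n - finrank F U) → F)) ≃ₗ[F] (Fin n → F) := LinearEquiv.ofFinrankEq _ _ hfr
  let ψ₁ : Module.End F U →* Module.End F (U × (Fin (n - finrank F U) → F)) :=
    { toFun := fun f => f.prodMap LinearMap.id
      map_one' := rfl
      map_mul' := fun f g => rfl }
  have hψ₁ : Function.Injective ψ₁ := by
    intro f g hfg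
    refine LinearMap.ext fun u => ?_
    have := LinearMap.congr_fun hfg (u, 0)
    exact congrArg Prod.fst this
  let g : W →* Matrix (Fin n) (Fin n) F :=
    ((LinearMap.toMatrixAlgEquiv' (R := F) (n := Fin n)).toRingEquiv.toMulEquiv.toMonoidHom).comp
      (((LinearEquiv.conjRingEquiv ε).toMulEquiv.toMonoidHom).comp (ψ₁.comp τ))
  have hg : Function.Injective g := by
    intro a b hab
    apply hτ
    apply hψ₁
    apply (LinearEquiv.conjRingEquiv ε).injective
    exact (LinearMap.toMatrixAlgEquiv' (R := F) (n := Fin n)).injective hab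
  refine ⟨g.toHomUnits, ?_⟩
  intro a b hab
  apply hg
  have := congrArg Units.val hab
  simpa using this

theorem sylow_derivedSeries_ne_bot_of_injective {H : Type*} [Group H] [Finite H] (p : ℕ)
    [Fact p.Prime] {W : Type*} [Group W] (hW : IsPGroup p W) (f : W →* H)
    (hf : Function.Injective f) (j : ℕ) (h : derivedSeries W j ≠ ⊥) (P : Sylow p H) :
    derivedSeries ↥(P : Subgroup H) j ≠ ⊥ := by
  have hrange : IsPGroup p ↥f.range := by
    rw [MonoidHom.range_eq_map]
    exact IsPGroup.map (hW.to_subgroup ⊤) f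
  obtain ⟨P', hP'⟩ := hrange.exists_le_sylow
  let φ : W →* ↥(P' : Subgroup H) := f.codRestrict _ (fun w => hP' ⟨w, rfl⟩)
  have hφ : Function.Injective φ := by
    intro a b hab
    apply hf
    have := congrArg Subtype.val hab
    exact this
  have h1 : derivedSeries ↥(P' : Subgroup H) j ≠ ⊥ :=
    Cfsg.Agent.Helper4.PermDL.derivedSeries_ne_bot_of_injective φ hφ j h
  exact Cfsg.Agent.Helper4.PermDL.derivedSeries_ne_bot_of_mulEquiv (Sylow.equiv P' P) j h1

theorem orderOf_natCast_pos (p : ℕ) [Fact p.Prime] (q : ℕ) (hpq : ¬ p ∣ q) :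
    0 < orderOf (q : ZMod p) := by
  have hcop : q.Coprime p := (Nat.Coprime.symm ((Fact.out : p.Prime).coprime_iff_not_dvd.2 hpq))
  have h1 : orderOf ((ZMod.unitOfCoprime q hcop : (ZMod p)ˣ) : ZMod p) =
      orderOf (ZMod.unitOfCoprime q hcop) := orderOf_units
  rw [ZMod.coe_unitOfCoprime] at h1
  rw [h1]
  exact orderOf_pos _

theorem exists_orderOf_eq_prime_GL {F : Type u} [Field F] [Fintype F] (p : ℕ) [Fact p.Prime]
    (hpq : ¬ p ∣ Fintype.card F) :
    ∃ A : GL (Fin (orderOf (Fintype.card F : ZMod p))) F, orderOf A = p := by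
  classical
  have he := orderOf_natCast_pos p (Fintype.card F) hpq
  have hq1 : 1 ≤ Fintype.card F ^ orderOf (Fintype.card F : ZMod p) :=
    Nat.one_le_pow _ _ Fintype.card_pos
  have hdvd1 : p ∣ Fintype.card F ^ orderOf (Fintype.card F : ZMod p) - 1 := by
    rw [← ZMod.natCast_eq_zero_iff, Nat.cast_sub hq1, Nat.cast_pow, pow_orderOf_eq_one]
    simp
  have hdvd : p ∣ Nat.card (GL (Fin (orderOf (Fintype.card F : ZMod p))) F) := by
    rw [Matrix.card_GL_field]
    refine hdvd1.trans ?_
    have := Finset.dvd_prod_of_mem (fun i : Fin (orderOf (Fintype.card F : ZMod p)) =>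
      Fintype.card F ^ orderOf (Fintype.card F : ZMod p) - Fintype.card F ^ (i : ℕ))
      (Finset.mem_univ (⟨0, he⟩ : Fin (orderOf (Fintype.card F : ZMod p))))
    simpa using this
  exact exists_prime_orderOf_dvd_card' p hdvd

/-- Lower bound for the derived length of the Sylow `p`-subgroups of `GL_n(q)`. -/
theorem sylow_GL_derivedSeries_ne_bot {F : Type u} [Field F] [Fintype F] (p : ℕ) [Fact p.Prime]
    (hpq : ¬ p ∣ Fintype.card F) (n : ℕ) (hn : orderOf (Fintype.card F : ZMod p) ≤ n)
    (P : Sylow p (GL (Fin n) F)) :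
    derivedSeries ↥(P : Subgroup (GL (Fin n) F))
      (Nat.log p (n / orderOf (Fintype.card F : ZMod p))) ≠ ⊥ := by
  classical
  have he := orderOf_natCast_pos p (Fintype.card F) hpq
  obtain ⟨A, hA⟩ := exists_orderOf_eq_prime_GL (F := F) p hpq
  haveI : Fintype ↥(Subgroup.zpowers A) := Fintype.ofFinite _
  have hCcard : Fintype.card ↥(Subgroup.zpowers A) = p := by
    rw [← Nat.card_eq_fintype_card, Nat.card_zpowers, hA]
  haveI : Nontrivial ↥(Subgroup.zpowers A) := by
    rw [← Fintype.one_lt_card_iff_nontrivial, hCcard]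
    exact (Fact.out : p.Prime).one_lt
  haveI : Nonempty (Fin (orderOf (Fintype.card F : ZMod p))) := ⟨⟨0, he⟩⟩
  let τ₀ : ↥(Subgroup.zpowers A) →*
      Module.End F (Fin (orderOf (Fintype.card F : ZMod p)) → F) :=
    (AlgEquiv.toMulEquiv (Matrix.toLinAlgEquiv' (R := F)
      (n := Fin (orderOf (Fintype.card F : ZMod p))))).toMonoidHom.comp
      ((Units.coeHom _).comp (Subgroup.zpowers A).subtype)
  have hτ₀ : Function.Injective τ₀ := by
    intro x y hxy
    have h1 : (Units.coeHom _) ((Subgroup.zpowers A).subtype x) =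
        (Units.coeHom _) ((Subgroup.zpowers A).subtype y) :=
      (AlgEquiv.toMulEquiv (Matrix.toLinAlgEquiv' (R := F)
        (n := Fin (orderOf (Fintype.card F : ZMod p))))).injective hxy
    exact Subtype.ext (Units.ext h1)
  obtain ⟨U, i1, i2, i3, i4, τ, hτ, hfr⟩ := exists_iterated_rep ↥(Subgroup.zpowers A)
    (Fin (orderOf (Fintype.card F : ZMod p)) → F) τ₀ hτ₀
    (Nat.log p (n / orderOf (Fintype.card F : ZMod p)))
  rw [Module.finrank_fin_fun, hCcard] at hfr
  have hle : finrank F U ≤ n := by
    rw [hfr]
    have h1 : p ^ Nat.log p (n / orderOf (Fintype.card F : ZMod p)) ≤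
        n / orderOf (Fintype.card F : ZMod p) :=
      Nat.pow_log_le_self p (Nat.div_pos hn he).ne'
    calc orderOf (Fintype.card F : ZMod p) *
          p ^ Nat.log p (n / orderOf (Fintype.card F : ZMod p))
        ≤ orderOf (Fintype.card F : ZMod p) * (n / orderOf (Fintype.card F : ZMod p)) :=
          Nat.mul_le_mul_left _ h1
      _ ≤ n := Nat.mul_div_le n _
  obtain ⟨f, hf⟩ := exists_injective_GL τ hτ n hle
  have hWp : IsPGroup p (IteratedWreathProduct ↥(Subgroup.zpowers A)
      (Nat.log p (n / orderOf (Fintype.card F : ZMod p)) + 1)) := by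
    apply IsPGroup.of_card (n := ∑ i ∈ Finset.range
      (Nat.log p (n / orderOf (Fintype.card F : ZMod p)) + 1), p ^ i)
    rw [IteratedWreathProduct.card, Nat.card_eq_fintype_card, hCcard]
  exact sylow_derivedSeries_ne_bot_of_injective p hWp f hf _
    (Cfsg.Agent.Helper4.PermDL.derivedSeries_iterated_ne_bot ↥(Subgroup.zpowers A) _) P

end Cfsg.Agent.Helper4.PLinField
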