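import Mathlib
import Cfsg.Agent.Helper4.PLinFieldD
set_option autoImplicit false

/-!
Form preserving representations in standard symplectic coordinates, and their behaviour under
wreath products, orthogonal sums and reindexing.
-/

namespace Cfsg.Agent.Helper4.SpWreath

open Module

universe u v w

section
variable {F : Type u} [Field F]

/-- The standard alternating form on `Y ⊕ Y → F`. -/
def om (Y : Type*) [Fintype Y] (v w : Y ⊕ Y → F) : F :=
  ∑ y, (v (Sum.inl y) * w (Sum.inr y) - v (Sum.inr y) * w (Sum.inl y))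

/-- A representation preserving a form. -/
def Pres {T : Type*} [Group T] {V : Type*} [AddCommGroup V] [Module F V] (B : V → V → F)
    (τ : T →* Module.End F V) : Prop :=
  ∀ t v w, B (τ t v) (τ t w) = B v w

/-- transport of a form preserving faithful representation to standard coordinates -/
theorem transport {T : Type*} [Group T] {V : Type*} [AddCommGroup V] [Module F V]
    (B : V → V → F) (τ : T →* Module.End F V) (hτ : Function.Injective τ) (hB : Pres B τ)
    (Y : Type*) [Fintype Y] (ε : V ≃ₗ[F] (Y ⊕ Y → F))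
    (hε : ∀ v w, B v w = om Y (ε v) (ε w)) :
    ∃ τ' : T →* Module.End F (Y ⊕ Y → F), Function.Injective τ' ∧ Pres (om Y) τ' := by
  refine ⟨((LinearEquiv.conjRingEquiv ε).toMulEquiv.toMonoidHom).comp τ, ?_, ?_⟩
  · exact (LinearEquiv.conjRingEquiv ε).injective.comp hτ
  · intro t v w
    have h1 : ∀ x, (((LinearEquiv.conjRingEquiv ε).toMulEquiv.toMonoidHom).comp τ) t x =
        ε (τ t (ε.symm x)) := fun x => rfl
    rw [h1, h1, ← hε, hB t, hε, ε.apply_symm_apply, ε.apply_symm_apply]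


/-- currying into standard coordinates -/
def kap (Q : Type*) (Y : Type*) : (Q → (Y ⊕ Y → F)) ≃ₗ[F] ((Q × Y) ⊕ (Q × Y) → F) where
  toFun φ := Sum.elim (fun p => φ p.1 (Sum.inl p.2)) (fun p => φ p.1 (Sum.inr p.2))
  invFun v := fun x => Sum.elim (fun y => v (Sum.inl (x, y))) (fun y => v (Sum.inr (x, y)))
  map_add' := by
    intro φ ψ
    funext s
    rcases s with p | p <;> rfl
  map_smul' := by
    intro c φ
    funext s
    rcases s with p | p <;> rfl
  left_inv := by
    intro φ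
    funext x s
    rcases s with y | y <;> rfl
  right_inv := by
    intro v
    funext s
    rcases s with ⟨x, y⟩ | ⟨x, y⟩ <;> rfl

theorem om_kap (Q : Type*) [Fintype Q] (Y : Type*) [Fintype Y] (φ ψ : Q → (Y ⊕ Y → F)) :
    om (Q × Y) (kap Q Y φ) (kap Q Y ψ) = ∑ x, om Y (φ x) (ψ x) := by
  unfold om
  rw [Fintype.sum_prod_type]
  rfl

open RegularWreathProduct Cfsg.Agent.Helper4.PLinField in
theorem wreath_step {T : Type*} [Group T] (Q : Type*) [Group Q] [Fintype Q] (Y : Type*)
    [Fintype Y] [Nonempty Y] (τ : T →* Module.End F (Y ⊕ Y → F)) (hτ : Function.Injective τ)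
    (hp : Pres (om Y) τ) :
    ∃ τ' : (T ≀ᵣ Q) →* Module.End F ((Q × Y) ⊕ (Q × Y) → F),
      Function.Injective τ' ∧ Pres (om (Q × Y)) τ' := by
  haveI : Nontrivial (Y ⊕ Y → F) := inferInstance
  refine transport (fun φ ψ : Q → (Y ⊕ Y → F) => ∑ x, om Y (φ x) (ψ x)) (wreathRep τ)
    (wreathRep_injective τ hτ) ?_ (Q × Y) (kap Q Y) (fun φ ψ => (om_kap Q Y φ ψ).symm)
  intro w φ ψ
  simp only [wreathRep_apply, hp _ _ _]
  exact Fintype.sum_equiv (Equiv.mulLeft w.right⁻¹) _ _ (fun x => rfl)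


/-- orthogonal sum in standard coordinates -/
def lam (Y : Type*) (Z : Type*) :
    ((Y ⊕ Y → F) × (Z ⊕ Z → F)) ≃ₗ[F] ((Y ⊕ Z) ⊕ (Y ⊕ Z) → F) where
  toFun p := Sum.elim (Sum.elim (fun y => p.1 (Sum.inl y)) (fun z => p.2 (Sum.inl z)))
    (Sum.elim (fun y => p.1 (Sum.inr y)) (fun z => p.2 (Sum.inr z)))
  invFun v := (Sum.elim (fun y => v (Sum.inl (Sum.inl y))) (fun y => v (Sum.inr (Sum.inl y))),
    Sum.elim (fun z => v (Sum.inl (Sum.inr z))) (fun z => v (Sum.inr (Sum.inr z))))
  map_add' := by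
    intro p p'
    funext s
    rcases s with (y | z) | (y | z) <;> rfl
  map_smul' := by
    intro c p
    funext s
    rcases s with (y | z) | (y | z) <;> rfl
  left_inv := by
    intro p
    refine Prod.ext ?_ ?_
    · funext s
      rcases s with y | y <;> rfl
    · funext s
      rcases s with y | y <;> rfl
  right_inv := by
    intro v
    funext s
    rcases s with (y | z) | (y | z) <;> rfl

theorem om_lam (Y : Type*) [Fintype Y] (Z : Type*) [Fintype Z]
    (p p' : (Y ⊕ Y → F) × (Z ⊕ Z → F)) :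
    om (Y ⊕ Z) (lam Y Z p) (lam Y Z p') = om Y p.1 p'.1 + om Z p.2 p'.2 := by
  unfold om
  rw [Fintype.sum_sum_type]
  rfl

theorem pad_step {T : Type*} [Group T] (Y : Type*) [Fintype Y] (Z : Type*) [Fintype Z]
    (τ : T →* Module.End F (Y ⊕ Y → F)) (hτ : Function.Injective τ) (hp : Pres (om Y) τ) :
    ∃ τ' : T →* Module.End F ((Y ⊕ Z) ⊕ (Y ⊕ Z) → F),
      Function.Injective τ' ∧ Pres (om (Y ⊕ Z)) τ' := by
  let ψ₁ : Module.End F (Y ⊕ Y → F) →* Module.End F ((Y ⊕ Y → F) × (Z ⊕ Z → F)) :=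
    { toFun := fun f => f.prodMap LinearMap.id
      map_one' := rfl
      map_mul' := fun f g => rfl }
  have hψ₁ : Function.Injective ψ₁ := by
    intro f g hfg
    refine LinearMap.ext fun u => ?_
    have := LinearMap.congr_fun hfg (u, 0)
    exact congrArg Prod.fst this
  refine transport (fun p p' : (Y ⊕ Y → F) × (Z ⊕ Z → F) => om Y p.1 p'.1 + om Z p.2 p'.2)
    (ψ₁.comp τ) (hψ₁.comp hτ) ?_ (Y ⊕ Z) (lam Y Z) (fun p p' => (om_lam Y Z p p').symm)
  intro t p p'
  show om Y (τ t p.1) (τ t p'.1) + om Z p.2 p'.2 = _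
  rw [hp]

theorem reindex_step {T : Type*} [Group T] (Y : Type*) [Fintype Y] (Y' : Type*) [Fintype Y']
    (e : Y ≃ Y') (τ : T →* Module.End F (Y ⊕ Y → F)) (hτ : Function.Injective τ)
    (hp : Pres (om Y) τ) :
    ∃ τ' : T →* Module.End F (Y' ⊕ Y' → F), Function.Injective τ' ∧ Pres (om Y') τ' := by
  refine transport (om Y) τ hτ hp Y' (LinearEquiv.funCongrLeft F F (Equiv.sumCongr e e).symm) ?_
  intro v w
  unfold om
  exact Fintype.sum_equiv e _ _ (fun y => by simp [LinearEquiv.funCongrLeft_apply])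


theorem toBilin'_J (Y : Type*) [Fintype Y] [DecidableEq Y] (v w : Y ⊕ Y → F) :
    Matrix.toBilin' (Matrix.J Y F) v w = - om Y v w := by
  rw [Matrix.toBilin'_apply', Matrix.J, Matrix.fromBlocks_mulVec]
  unfold om
  simp only [dotProduct, Fintype.sum_sum_type, Sum.elim_inl, Sum.elim_inr, Matrix.zero_mulVec,
    Matrix.neg_mulVec, Matrix.one_mulVec, zero_add, add_zero, Pi.neg_apply, Function.comp_apply]
  rw [← Finset.sum_add_distrib, ← Finset.sum_neg_distrib]
  refine Finset.sum_congr rfl fun y _ => ?_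
  ring

theorem mem_symplectic_of_pres (Y : Type*) [Fintype Y] [DecidableEq Y]
    (f : Module.End F (Y ⊕ Y → F)) (hf : ∀ v w, om Y (f v) (f w) = om Y v w) :
    LinearMap.toMatrix' f ∈ Matrix.symplecticGroup Y F := by
  rw [SymplecticGroup.mem_iff']
  have h1 : (Matrix.toBilin' (Matrix.J Y F)).comp f f = Matrix.toBilin' (Matrix.J Y F) := by
    refine LinearMap.ext₂ fun v w => ?_
    rw [LinearMap.BilinForm.comp_apply, toBilin'_J, toBilin'_J, hf]
  have h2 := congrArg LinearMap.BilinForm.toMatrix' h1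
  rw [LinearMap.BilinForm.toMatrix'_comp, LinearMap.BilinForm.toMatrix'_toBilin'] at h2
  exact h2

theorem to_symplectic {T : Type*} [Group T] (Y : Type*) [Fintype Y] [DecidableEq Y]
    (τ : T →* Module.End F (Y ⊕ Y → F)) (hτ : Function.Injective τ) (hp : Pres (om Y) τ) :
    ∃ f : T →* ↥(Matrix.symplecticGroup Y F), Function.Injective f := by
  let g : T →* Matrix (Y ⊕ Y) (Y ⊕ Y) F :=
    ((LinearMap.toMatrixAlgEquiv' (R := F) (n := Y ⊕ Y)).toRingEquiv.toMulEquiv.toMonoidHom).comp τ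
  have hg : ∀ t, g t ∈ Matrix.symplecticGroup Y F := fun t =>
    mem_symplectic_of_pres Y (τ t) (hp t)
  refine ⟨g.codRestrict (Matrix.symplecticGroup Y F) hg, ?_⟩
  intro a b hab
  apply hτ
  have h1 : g a = g b := congrArg Subtype.val hab
  exact (LinearMap.toMatrixAlgEquiv' (R := F) (n := Y ⊕ Y)).injective h1

end

end Cfsg.Agent.Helper4.SpWreath
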