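import Mathlib
import Cfsg.Agent.Helper4.SpWreathA
set_option autoImplicit false

/-!
A quaternion group inside `SL₂(F)` and its iterated wreath products inside `Sp_{2n}(F)`.
-/

namespace Cfsg.Agent.Helper4.SpWreath

open Module Matrix

universe u v w

section q8
variable {F : Type u} [Field F] (a b : F) (hab : a ^ 2 + b ^ 2 = -1)

/-- first generator of the quaternion group -/
def qI (hab : a ^ 2 + b ^ 2 = -1) : Matrix.SpecialLinearGroup (Fin 2) F :=
  ⟨!![a, b; b, -a], by rw [Matrix.det_fin_two_of]; linear_combination (-1 : F) * hab⟩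

/-- second generator of the quaternion group -/
def qJ : Matrix.SpecialLinearGroup (Fin 2) F :=
  ⟨!![0, -1; 1, 0], by rw [Matrix.det_fin_two_of]; ring⟩

theorem qI_pow_four : (qI a b hab) ^ 4 = 1 := by
  apply Subtype.ext
  have h2 : ((qI a b hab) ^ 2 : Matrix.SpecialLinearGroup (Fin 2) F).1 = !![-1, 0; 0, -1] := by
    rw [pow_two]
    show !![a, b; b, -a] * !![a, b; b, -a] = _
    rw [Matrix.mul_fin_two]
    ext i j
    fin_cases i <;> fin_cases j <;> simp <;>
      first | ring1 | linear_combination hab | linear_combination (-1 : F) * hab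
  have h4 : (qI a b hab) ^ 4 = (qI a b hab) ^ 2 * (qI a b hab) ^ 2 := by rw [← pow_add]
  rw [h4, Matrix.SpecialLinearGroup.coe_mul, h2, Matrix.mul_fin_two]
  ext i j
  fin_cases i <;> fin_cases j <;> simp

theorem qJ_pow_four : (qJ : Matrix.SpecialLinearGroup (Fin 2) F) ^ 4 = 1 := by
  apply Subtype.ext
  have h2 : ((qJ : Matrix.SpecialLinearGroup (Fin 2) F) ^ 2).1 = !![-1, 0; 0, -1] := by
    rw [pow_two]
    show !![(0 : F), -1; 1, 0] * !![(0 : F), -1; 1, 0] = _
    rw [Matrix.mul_fin_two]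
    ext i j
    fin_cases i <;> fin_cases j <;> simp
  have h4 : (qJ : Matrix.SpecialLinearGroup (Fin 2) F) ^ 4 = qJ ^ 2 * qJ ^ 2 := by rw [← pow_add]
  rw [h4, Matrix.SpecialLinearGroup.coe_mul, h2, Matrix.mul_fin_two]
  ext i j
  fin_cases i <;> fin_cases j <;> simp

theorem qI_qJ_qI : qI a b hab * qJ * qI a b hab = qJ := by
  apply Subtype.ext
  show !![a, b; b, -a] * !![(0 : F), -1; 1, 0] * !![a, b; b, -a] = !![(0 : F), -1; 1, 0]
  rw [Matrix.mul_fin_two, Matrix.mul_fin_two]
  ext i j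
  fin_cases i <;> fin_cases j <;> simp <;>
    first | ring1 | linear_combination hab | linear_combination (-1 : F) * hab

theorem qI_qJ_ne (h2 : (2 : F) ≠ 0) : qI a b hab * qJ ≠ qJ * qI a b hab := by
  intro h
  have h1 : (!![a, b; b, -a] * !![(0 : F), -1; 1, 0] : Matrix (Fin 2) (Fin 2) F) =
      !![(0 : F), -1; 1, 0] * !![a, b; b, -a] := congrArg Subtype.val h
  rw [Matrix.mul_fin_two, Matrix.mul_fin_two] at h1
  have e00 := congrFun (congrFun h1 0) 0
  have e01 := congrFun (congrFun h1 0) 1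
  simp at e00 e01
  have hb : b = 0 := by
    have : (2 : F) * b = 0 := by linear_combination e00
    exact (mul_eq_zero.1 this).resolve_left h2
  have ha : a = 0 := by
    have : (2 : F) * a = 0 := by linear_combination (-1 : F) * e01
    exact (mul_eq_zero.1 this).resolve_left h2
  rw [ha, hb] at hab
  norm_num at hab

end q8

section
variable {F : Type u} [Field F]

theorem isPGroup_zpowers {G : Type*} [Group G] (g : G) (h : g ^ 4 = 1) :
    IsPGroup 2 ↥(Subgroup.zpowers g) := by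
  rintro ⟨x, hx⟩
  obtain ⟨m, rfl⟩ := Subgroup.mem_zpowers_iff.1 hx
  refine ⟨2, Subtype.ext ?_⟩
  show (g ^ m) ^ (2 ^ 2) = 1
  have h4 : (2 ^ 2 : ℕ) = 4 := by norm_num
  rw [h4, ← zpow_natCast, ← _root_.zpow_mul, mul_comm, _root_.zpow_mul, zpow_natCast, h, _root_.one_zpow]

theorem isPGroup_sup {G : Type*} [Group G] (x y : G) (hx : x ^ 4 = 1) (hy : y ^ 4 = 1)
    (hxy : x * y * x = y) :
    IsPGroup 2 ↥(Subgroup.zpowers y ⊔ Subgroup.zpowers x) := by
  have hconj : y * x * y⁻¹ = x⁻¹ := by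
    have h1 : y * x = x⁻¹ * y := by
      rw [eq_inv_mul_iff_mul_eq, ← mul_assoc]
      exact hxy
    rw [h1, mul_inv_cancel_right]
  have hmap : (Subgroup.zpowers x).map (MulAut.conj y).toMonoidHom = Subgroup.zpowers x := by
    rw [MonoidHom.map_zpowers]
    show Subgroup.zpowers (y * x * y⁻¹) = _
    rw [hconj, Subgroup.zpowers_inv]
  apply IsPGroup.to_sup_of_normal_right' (isPGroup_zpowers y hy) (isPGroup_zpowers x hx)
  rw [Subgroup.zpowers_le, Subgroup.mem_normalizer_iff]
  intro h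
  constructor
  · intro hh
    have : (MulAut.conj y).toMonoidHom h ∈ (Subgroup.zpowers x).map (MulAut.conj y).toMonoidHom :=
      Subgroup.mem_map_of_mem _ hh
    rw [hmap] at this
    exact this
  · intro hh
    rw [← hmap] at hh
    obtain ⟨k, hk, hkh⟩ := hh
    have : k = h := (MulAut.conj y).injective hkh
    rw [← this]
    exact hk

/-- the natural representation of `SL₂` -/
def slRep : Matrix.SpecialLinearGroup (Fin 2) F →* Module.End F (Fin 2 → F) where
  toFun A := Matrix.toLin' A.1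
  map_one' := by
    rw [Matrix.SpecialLinearGroup.coe_one, Matrix.toLin'_one]
    rfl
  map_mul' A B := by
    rw [Matrix.SpecialLinearGroup.coe_mul, Matrix.toLin'_mul]
    rfl

theorem slRep_injective : Function.Injective (slRep (F := F)) := by
  intro A B h
  apply Subtype.ext
  exact Matrix.toLin'.injective h

/-- the determinant form on the plane -/
def detForm (v w : Fin 2 → F) : F := v 0 * w 1 - v 1 * w 0

theorem slRep_pres (A : Matrix.SpecialLinearGroup (Fin 2) F) (v w : Fin 2 → F) :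
    detForm (slRep A v) (slRep A w) = detForm v w := by
  have hdet := A.2
  rw [Matrix.det_fin_two] at hdet
  show detForm (Matrix.toLin' A.1 v) (Matrix.toLin' A.1 w) = _
  simp only [detForm, Matrix.toLin'_apply, Matrix.mulVec, dotProduct, Fin.sum_univ_two]
  linear_combination (v 0 * w 1 - v 1 * w 0) * hdet

/-- standard coordinates on the plane -/
def eps0 : (Fin 2 → F) ≃ₗ[F] (Fin 1 ⊕ Fin 1 → F) where
  toFun v := Sum.elim (fun _ => v 0) (fun _ => v 1)
  invFun u := ![u (Sum.inl 0), u (Sum.inr 0)]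
  map_add' := by
    intro v w
    funext s
    rcases s with y | y <;> rfl
  map_smul' := by
    intro c v
    funext s
    rcases s with y | y <;> rfl
  left_inv := by
    intro v
    funext i
    fin_cases i <;> rfl
  right_inv := by
    intro u
    funext s
    rcases s with y | y
    · have : y = 0 := Subsingleton.elim _ _
      subst this
      rfl
    · have : y = 0 := Subsingleton.elim _ _
      subst this
      rfl

theorem om_eps0 (v w : Fin 2 → F) : detForm v w = om (Fin 1) (eps0 v) (eps0 w) := by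
  unfold om detForm
  rw [Fin.sum_univ_one]
  rfl


open scoped commutatorElement in
theorem derivedSeries_one_ne_bot (h2 : (2 : F) ≠ 0) (a b : F) (hab : a ^ 2 + b ^ 2 = -1)
    (S : Subgroup (Matrix.SpecialLinearGroup (Fin 2) F)) (hI : qI a b hab ∈ S)
    (hJ : (qJ : Matrix.SpecialLinearGroup (Fin 2) F) ∈ S) : derivedSeries ↥S 1 ≠ ⊥ := by
  intro hbot
  rw [derivedSeries_one, commutator_def] at hbot
  have h1 : ⁅(⟨qI a b hab, hI⟩ : ↥S), (⟨qJ, hJ⟩ : ↥S)⁆ ∈ ⁅(⊤ : Subgroup ↥S), ⊤⁆ :=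
    Subgroup.commutator_mem_commutator (Subgroup.mem_top _) (Subgroup.mem_top _)
  rw [hbot, Subgroup.mem_bot, commutatorElement_eq_one_iff_mul_comm] at h1
  exact qI_qJ_ne a b hab h2 (congrArg Subtype.val h1)

open RegularWreathProduct in
open scoped commutatorElement in
/-- the base of the iteration: a nonabelian `2`-subgroup of `SL₂(F)` -/
theorem exists_base [Finite F] (h2 : (2 : F) ≠ 0) (a b : F) (hab : a ^ 2 + b ^ 2 = -1) :
    ∃ (T : Type u) (_ : Group T) (_ : Finite T), IsPGroup 2 T ∧ derivedSeries T 1 ≠ ⊥ ∧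
      ∃ τ : T →* Module.End F (Fin 1 ⊕ Fin 1 → F), Function.Injective τ ∧ Pres (om (Fin 1)) τ := by
  haveI : Fintype F := Fintype.ofFinite F
  refine ⟨↥(Subgroup.zpowers (qJ : Matrix.SpecialLinearGroup (Fin 2) F) ⊔
    Subgroup.zpowers (qI a b hab)), inferInstance, inferInstance,
    isPGroup_sup (qI a b hab) qJ (qI_pow_four a b hab) qJ_pow_four (qI_qJ_qI a b hab), ?_, ?_⟩
  · exact derivedSeries_one_ne_bot h2 a b hab _
      ((le_sup_right : Subgroup.zpowers (qI a b hab) ≤ _) (Subgroup.mem_zpowers _))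
      ((le_sup_left : Subgroup.zpowers (qJ : Matrix.SpecialLinearGroup (Fin 2) F) ≤ _)
        (Subgroup.mem_zpowers _))
  · obtain ⟨τ', hτ', hp'⟩ := transport detForm
      ((slRep (F := F)).comp (Subgroup.zpowers (qJ : Matrix.SpecialLinearGroup (Fin 2) F) ⊔
        Subgroup.zpowers (qI a b hab)).subtype)
      (slRep_injective.comp Subtype.val_injective)
      (fun t v w => slRep_pres (t : Matrix.SpecialLinearGroup (Fin 2) F) v w)
      (Fin 1) eps0 om_eps0
    exact ⟨τ', hτ', hp'⟩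

open RegularWreathProduct in
/-- the iteration -/
theorem exists_iterated [Finite F] (h2 : (2 : F) ≠ 0) (a b : F) (hab : a ^ 2 + b ^ 2 = -1) :
    ∀ j : ℕ, ∃ (T : Type u) (_ : Group T) (_ : Finite T), IsPGroup 2 T ∧
      derivedSeries T (j + 1) ≠ ⊥ ∧ ∃ (Y : Type) (_ : Fintype Y) (_ : Nonempty Y)
        (τ : T →* Module.End F (Y ⊕ Y → F)), Function.Injective τ ∧ Pres (om Y) τ ∧
          Fintype.card Y = 2 ^ j := by
  intro j
  induction j with
  | zero =>
    obtain ⟨T, i1, i2, hT, hd, τ, hτ, hp⟩ := exists_base h2 a b hab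
    exact ⟨T, i1, i2, hT, hd, Fin 1, inferInstance, inferInstance, τ, hτ, hp, by simp⟩
  | succ j ih =>
    obtain ⟨T, i1, i2, hT, hd, Y, i3, i4, τ, hτ, hp, hcard⟩ := ih
    obtain ⟨τ', hτ', hp'⟩ := wreath_step (Multiplicative (ZMod 2)) Y τ hτ hp
    haveI : Nontrivial (Multiplicative (ZMod 2)) := inferInstance
    refine ⟨T ≀ᵣ Multiplicative (ZMod 2), inferInstance, inferInstance, ?_,
      Cfsg.Agent.Helper4.PermDL.derivedSeries_wreath_ne_bot inferInstance (j + 1) hd,
      Multiplicative (ZMod 2) × Y, inferInstance, inferInstance, τ', hτ', hp', ?_⟩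
    · obtain ⟨m, hm⟩ := IsPGroup.iff_card.1 hT
      apply IsPGroup.of_card (n := m * 2 + 1)
      rw [RegularWreathProduct.card, hm]
      have : Nat.card (Multiplicative (ZMod 2)) = 2 := by
        rw [Nat.card_eq_fintype_card, Fintype.card_multiplicative, ZMod.card]
      rw [this, ← pow_mul, pow_succ]
    · rw [Fintype.card_prod, hcard, Fintype.card_multiplicative, ZMod.card, pow_succ, mul_comm]

/-- Lower bound for the derived length of the Sylow `2`-subgroups of `Sp_{2n}(q)`, `q` odd. -/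
theorem sylow_sp_derivedSeries_ne_bot [Fintype F] [DecidableEq F] (hq : Odd (Fintype.card F))
    (n : ℕ) (hn : 1 ≤ n) (R : Sylow 2 ↥(Matrix.symplecticGroup (Fin n) F)) :
    derivedSeries ↥(R : Subgroup ↥(Matrix.symplecticGroup (Fin n) F)) (Nat.log 2 (2 * n)) ≠ ⊥ := by
  classical
  obtain ⟨r, hr⟩ := CharP.exists F
  haveI := hr
  obtain ⟨k, hrp, hcard⟩ := FiniteField.card F r
  haveI : Fact r.Prime := ⟨hrp⟩
  have h2 : (2 : F) ≠ 0 := by
    intro h
    have h1 : r ∣ 2 := by
      have : ((2 : ℕ) : F) = 0 := by exact_mod_cast h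
      exact (CharP.cast_eq_zero_iff F r 2).1 this
    have h3 : r = 2 := (Nat.prime_dvd_prime_iff_eq hrp Nat.prime_two).1 h1
    rw [hcard, h3] at hq
    exact (Nat.not_even_iff_odd.2 hq) ((Nat.even_pow' k.ne_zero).2 even_two)
  haveI : NeZero r := ⟨hrp.ne_zero⟩
  obtain ⟨a, b, hab⟩ := CharP.sq_add_sq F r (-1)
  have hab' : (a : F) ^ 2 + (b : F) ^ 2 = -1 := by
    rw [hab]; simp
  obtain ⟨T, i1, i2, hT, hd, Y, i3, i4, τ, hτ, hp, hcardY⟩ :=
    exists_iterated h2 (a : F) (b : F) hab' (Nat.log 2 n)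
  have hle : 2 ^ Nat.log 2 n ≤ n := Nat.pow_log_le_self 2 (by omega)
  obtain ⟨τ₁, hτ₁, hp₁⟩ := pad_step Y (Fin (n - 2 ^ Nat.log 2 n)) τ hτ hp
  have hc : Fintype.card (Y ⊕ Fin (n - 2 ^ Nat.log 2 n)) = n := by
    rw [Fintype.card_sum, hcardY, Fintype.card_fin]
    omega
  obtain ⟨τ₂, hτ₂, hp₂⟩ := reindex_step (Y ⊕ Fin (n - 2 ^ Nat.log 2 n)) (Fin n)
    (Fintype.equivFinOfCardEq hc) τ₁ hτ₁ hp₁
  obtain ⟨f, hf⟩ := to_symplectic (Fin n) τ₂ hτ₂ hp₂
  have hlog : Nat.log 2 (2 * n) = Nat.log 2 n + 1 := by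
    rw [mul_comm]
    exact Nat.log_mul_base (by norm_num) (by omega)
  rw [hlog]
  exact Cfsg.Agent.Helper4.PLinField.sylow_derivedSeries_ne_bot_of_injective 2 hT f hf _ hd R

end

end Cfsg.Agent.Helper4.SpWreath
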