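import Mathlib
import Cfsg.Prelude
import Cfsg.Agent.Helper4.BG16B
import Cfsg.Agent.Helper1.BG16a

set_option autoImplicit false
set_option linter.unusedSectionVars false
set_option linter.unusedVariables false

/-!
Bender–Glauberman §16: types III/IV versus the `σ`-decomposition (`S1382`), and `M_s` (`S1389`),
modulo `N_G(U) ≰ M` for `K ≠ 1`, `U ≠ 1` (`S1363`).
-/

namespace Cfsg.Agent.Helper4.BG16

open Cfsg Cfsg.Agent.Helper1 Cfsg.Agent.Helper2 Cfsg.Agent.Helper1.BGT Cfsg.Agent.Helper1.BGU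
  Cfsg.Agent.Helper1.BGV Cfsg.Agent.Helper1.BGW Cfsg.Agent.Helper1.BGX Cfsg.Agent.Lead.BG12
  Cfsg.Agent.Lead.BG108 Cfsg.Agent.Helper4.BG10 Cfsg.Agent.Helper4.BG12 Cfsg.Agent.Helper4.BG15
open scoped commutatorElement Pointwise

universe u

variable {G : Type u} [Group G] [Finite G]

variable {M K U : Subgroup G}

/-- **Type `P₁` with `M_F ≠ M_σ` is of type III or IV.** -/
theorem typeIII_or_IV_of_decomp (hG : Cfsg.IsMinSimpleOddOrder G) (hM : IsCoatom M)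
    (hKU : Cfsg.IsSigmaDecomposition M K U) (hK1 : K ≠ ⊥) (hU : U = ⊥)
    (hne : Cfsg.fittingHallOf M ≠ Cfsg.sigmaCore M) :
    Cfsg.IsOfTypeIII M ∨ Cfsg.IsOfTypeIV M := by
  obtain ⟨D, hDS, hKD, hFD, hFDS, hcop, hDnil, -, -, -⟩ :=
    p1_structure hG hM hKU hU (thm1364 hG hM hKU hK1)
  have h1365 := (Cfsg.Agent.S1365.result hG M hM K U hKU hK1).1
  have hM' : ⁅M, M⁆ = Cfsg.sigmaCore M := by rw [h1365, hU, bot_sup_eq]
  have hFS : Cfsg.fittingHallOf M ≤ Cfsg.sigmaCore M := fittingHallOf_le_sigmaCore hG hM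
  have hMF : M ≤ Subgroup.normalizer (Cfsg.fittingHallOf M : Set G) :=
    CNMax.le_normalizer_fittingHallOf M
  have hcard : Nat.card (Cfsg.fittingHallOf M) * Nat.card D = Nat.card (Cfsg.sigmaCore M) := by
    rw [← hFDS, card_sup_of_le_normalizer (hDS.trans (sigmaCore_le.trans hMF))
      (by rw [inf_comm]; exact hFD), mul_comm]
  have hcompl : Cfsg.IsComplIn (Cfsg.fittingHallOf M) D ⁅M, M⁆ := by
    rw [hM']
    exact Cfsg.Agent.Helper1.BG16.isComplIn_of_card hFS hDS hFD hcard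
  have T := Cfsg.Agent.Helper1.BG16.isTypePWith hG hM hKU hK1 hcompl hDnil hKD
  have hD1 : D ≠ ⊥ := by
    intro h
    apply hne
    rw [← hFDS, h, sup_bot_eq]
  obtain ⟨-, hTI, hKp⟩ := thm152c' hG hM hKU hne
  have hrel : D.relIndex (Cfsg.sigmaCore M) = Nat.card (Cfsg.fittingHallOf M) := by
    have h1 := relIndex_mul_card_of_le hDS
    exact Nat.eq_of_mul_eq_mul_right (Nat.card_pos (α := ↥D)) (h1.trans hcard.symm)
  have hHall : (Nat.card D).Coprime (D.relIndex (Cfsg.sigmaCore M)) := by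
    rw [hrel]; exact hcop.symm
  have hN := normalizer_le_of_hall_nilpotent hG hM hDS hHall hD1 hDnil
  by_cases hab : IsMulCommutative ↥D
  · exact Or.inl ⟨K, D, _, T, hD1, hKp, hTI, hab, hN⟩
  · exact Or.inr ⟨K, D, _, T, hD1, hKp, hTI, hab, hN⟩

/-- **`S1382`** modulo `S1363`. -/
theorem typeIII_or_IV_iff (hG : Cfsg.IsMinSimpleOddOrder G) (hM : IsCoatom M)
    (hKU : Cfsg.IsSigmaDecomposition M K U)
    (h1363 : K ≠ ⊥ → U ≠ ⊥ → ¬ Subgroup.normalizer (U : Set G) ≤ M) :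
    (Cfsg.IsOfTypeIII M ∨ Cfsg.IsOfTypeIV M) ↔
      (K ≠ ⊥ ∧ U = ⊥ ∧ Cfsg.fittingHallOf M ≠ Cfsg.sigmaCore M) := by
  constructor
  · rintro (⟨W₁, U', W₂, T, hU'1, -, -, -, hN⟩ | ⟨W₁, U', W₂, T, hU'1, -, -, -, hN⟩)
    · exact of_typeP_normalizer_le hG hM hKU T hU'1 hN h1363
    · exact of_typeP_normalizer_le hG hM hKU T hU'1 hN h1363
  · rintro ⟨hK1, hU, hne⟩
    exact typeIII_or_IV_of_decomp hG hM hKU hK1 hU hne

/-- `M_s` is `M_F` or `M_σ` (modulo `S1363`). -/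
theorem typeCore_eq (hG : Cfsg.IsMinSimpleOddOrder G) (hM : IsCoatom M)
    (h1363 : ∀ K U : Subgroup G, Cfsg.IsSigmaDecomposition M K U → K ≠ ⊥ → U ≠ ⊥ →
      ¬ Subgroup.normalizer (U : Set G) ≤ M) :
    Cfsg.typeCore M = Cfsg.fittingHallOf M ∨ Cfsg.typeCore M = Cfsg.sigmaCore M := by
  classical
  unfold Cfsg.typeCore
  split_ifs with h
  · right
    obtain ⟨K, U, hKU⟩ := exists_sigmaDecomposition hG hM
    obtain ⟨hK1, hU, -⟩ := (typeIII_or_IV_iff hG hM hKU (h1363 K U hKU)).mp h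
    rw [(Cfsg.Agent.S1365.result hG M hM K U hKU hK1).1, hU, bot_sup_eq]
  · left; rfl

/-- **`S1389`** modulo `S1363`. -/
theorem typeCore_sylow (hG : Cfsg.IsMinSimpleOddOrder G) (hM : IsCoatom M)
    (h1363 : ∀ K U : Subgroup G, Cfsg.IsSigmaDecomposition M K U → K ≠ ⊥ → U ≠ ⊥ →
      ¬ Subgroup.normalizer (U : Set G) ≤ M) :
    (∀ (p : ℕ), p.Prime → ∀ (P : Sylow p ↥(Cfsg.typeCore M)),
        (P : Subgroup ↥(Cfsg.typeCore M)) ≠ ⊥ →
        Subgroup.normalizer ((((P : Subgroup ↥(Cfsg.typeCore M)).map (Cfsg.typeCore M).subtype :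
          Subgroup G)) : Set G) ≤ M) ∧
      (Nat.card (Cfsg.fittingHallOf M)).Coprime (Cfsg.fittingHallOf M).index ∧
      (Nat.card (Cfsg.typeCore M)).Coprime (Cfsg.typeCore M).index := by
  have hFS : Cfsg.fittingHallOf M ≤ Cfsg.sigmaCore M := fittingHallOf_le_sigmaCore hG hM
  have hSM : Cfsg.sigmaCore M ≤ M := sigmaCore_le
  have hFhall : (Nat.card (Cfsg.fittingHallOf M)).Coprime
      ((Cfsg.fittingHallOf M).relIndex (Cfsg.sigmaCore M)) := by
    have h1 := fittingHallOf_coprime M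
    have h2 : (Cfsg.fittingHallOf M).relIndex (Cfsg.sigmaCore M) ∣
        (Cfsg.fittingHallOf M).relIndex M :=
      Dvd.intro _ (Subgroup.relIndex_mul_relIndex _ _ _ hFS hSM)
    exact Nat.Coprime.coprime_dvd_right h2 h1
  have hT : Cfsg.typeCore M ≤ Cfsg.sigmaCore M ∧ (Nat.card (Cfsg.typeCore M)).Coprime
      ((Cfsg.typeCore M).relIndex (Cfsg.sigmaCore M)) := by
    rcases typeCore_eq hG hM h1363 with h | h
    · rw [h]; exact ⟨hFS, hFhall⟩
    · rw [h]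
      refine ⟨le_rfl, ?_⟩
      rw [Subgroup.relIndex_self]
      exact Nat.coprime_one_right _
  refine ⟨fun p hp P hP => normalizer_sylow_le hG hM hT.1 hT.2 hp P hP,
    coprime_index_of_le_sigmaCore hG hM hFS hFhall,
    coprime_index_of_le_sigmaCore hG hM hT.1 hT.2⟩

end Cfsg.Agent.Helper4.BG16
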