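import Mathlib
import Cfsg.Agent.Helper4.HallConverseB
import Cfsg.Agent.Helper6.BurnsidePQ

set_option autoImplicit false

namespace Cfsg.Agent.Helper4

universe u

/-- a group whose order has at most two prime divisors is solvable -/
theorem isSolvable_of_two_primes {G : Type u} [Group G] [Finite G] (p q : ℕ) (hp : p.Prime)
    (hq : q.Prime) (hpq : p ≠ q)
    (h : ∀ l : ℕ, l.Prime → l ∣ Nat.card G → l = p ∨ l = q) : Group.IsSolvable G := by
  apply Cfsg.Agent.Helper6.burnside_pq p q ((Nat.card G).factorization p)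
    ((Nat.card G).factorization q) hp hq
  have hn : Nat.card G ≠ 0 := Nat.card_pos.ne'
  have hb : p ^ (Nat.card G).factorization p * q ^ (Nat.card G).factorization q ≠ 0 :=
    mul_ne_zero (pow_ne_zero _ hp.ne_zero) (pow_ne_zero _ hq.ne_zero)
  apply Nat.eq_of_factorization_eq hn hb
  intro l
  rw [Nat.factorization_mul (pow_ne_zero _ hp.ne_zero) (pow_ne_zero _ hq.ne_zero),
    hp.factorization_pow, hq.factorization_pow, Finsupp.add_apply, Finsupp.single_apply,
    Finsupp.single_apply]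
  by_cases hlp : p = l
  · subst hlp
    rw [if_pos rfl, if_neg (Ne.symm hpq), add_zero]
  · by_cases hlq : q = l
    · subst hlq
      rw [if_neg hlp, if_pos rfl, zero_add]
    · rw [if_neg hlp, if_neg hlq, add_zero]
      by_cases hl : l.Prime
      · apply Nat.factorization_eq_zero_of_not_dvd
        intro hd
        rcases h l hl hd with h1 | h1
        · exact hlp h1.symm
        · exact hlq h1.symm
      · exact Nat.factorization_eq_zero_of_not_prime _ hl

theorem card_lt_of_ne_top {G : Type u} [Group G] [Finite G] (H : Subgroup G) (hH : H ≠ ⊤) :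
    Nat.card H < Nat.card G := by
  have hidx : H.index ≠ 1 := fun h => hH (Subgroup.index_eq_one.1 h)
  have hpos : H.index ≠ 0 := Subgroup.index_ne_zero_of_finite
  have e := Subgroup.card_mul_index H
  have hcp : 0 < Nat.card H := Nat.card_pos
  have h2le : 2 ≤ H.index := by omega
  nlinarith

theorem ne_top_of_isPCompl {G : Type u} [Group G] [Finite G] {p : ℕ} (hp : p.Prime)
    (hpG : p ∣ Nat.card G) (H : Subgroup G) (hH : IsPCompl p H) : H ≠ ⊤ := by
  intro h
  have h1 := hH.2
  rw [h, Subgroup.card_top] at h1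
  exact (Nat.Prime.coprime_iff_not_dvd hp).1 h1.symm hpG

theorem isSolvable_of_hasPCompls_aux :
    ∀ n : ℕ, ∀ (G : Type u) [Group G] [Finite G], Nat.card G = n → HasPCompls G →
      Group.IsSolvable G := by
  intro n
  induction n using Nat.strong_induction_on with
  | _ n ih =>
    intro G _ _ hn hG
    by_cases hsub : Subsingleton G
    · exact Group.isSolvable_of_comm (fun a b => by rw [Subsingleton.elim a b])
    rw [not_subsingleton_iff_nontrivial] at hsub
    have hcard1 : 1 < Nat.card G := Finite.one_lt_card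
    obtain ⟨p₁, hp₁, hp₁G⟩ := Nat.exists_prime_and_dvd hcard1.ne'
    obtain ⟨H₁, hH₁⟩ := hG p₁ hp₁
    have hH₁top : H₁ ≠ ⊤ := ne_top_of_isPCompl hp₁ hp₁G H₁ hH₁
    have ihsub : ∀ H : Subgroup G, H ≠ ⊤ → HasPCompls H → Group.IsSolvable H := by
      intro H hH hHc
      exact ih (Nat.card H) (hn ▸ card_lt_of_ne_top H hH) H rfl hHc
    haveI hH₁sol : Group.IsSolvable H₁ := ihsub H₁ hH₁top (hG.of_isPCompl hp₁ H₁ hH₁)
    by_cases hH₁bot : H₁ = ⊥
    · -- G is a p-group
      obtain ⟨⟨k, hk⟩, -⟩ := hH₁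
      rw [hH₁bot, Subgroup.index_bot] at hk
      haveI : Fact p₁.Prime := ⟨hp₁⟩
      haveI : Group.IsNilpotent G := (IsPGroup.of_card hk).isNilpotent
      infer_instance
    haveI : Nontrivial H₁ := (Subgroup.nontrivial_iff_ne_bot H₁).2 hH₁bot
    obtain ⟨r, hr, N₁, hN₁n, hN₁ne, hN₁r⟩ := exists_normal_pgroup_of_isSolvable H₁
    haveI : Fact r.Prime := ⟨hr⟩
    obtain ⟨N₀, hN₀def⟩ : ∃ N₀ : Subgroup G, N₀ = N₁.map H₁.subtype := ⟨_, rfl⟩
    have hN₀H : N₀ ≤ H₁ := by
      rw [hN₀def]
      rintro _ ⟨x, _, rfl⟩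
      exact x.2
    have hN₀pow : ∀ x ∈ N₀, x ^ r = 1 := by
      rw [hN₀def]
      rintro _ ⟨x, hx, rfl⟩
      have := hN₁r x hx
      rw [← map_pow, this, map_one]
    have hN₀p : IsPGroup r N₀ := by
      intro x
      refine ⟨1, ?_⟩
      apply Subtype.ext
      rw [pow_one, Subgroup.coe_pow]
      exact hN₀pow x x.2
    have hN₀ne : N₀ ≠ ⊥ := by
      intro h
      apply hN₁ne
      rw [hN₀def, Subgroup.map_eq_bot_iff_of_injective _ H₁.subtype_injective] at h
      exact h
    have hN₀norm : ∀ b ∈ H₁, ∀ x ∈ N₀, b * x * b⁻¹ ∈ N₀ := by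
      intro b hb x hx
      rw [hN₀def] at hx ⊢
      obtain ⟨y, hy, rfl⟩ := hx
      exact ⟨⟨b, hb⟩ * y * ⟨b, hb⟩⁻¹, hN₁n.conj_mem y hy ⟨b, hb⟩, rfl⟩
    have hrcard : r ∣ Nat.card N₀ := by
      rcases hN₀p.card_eq_or_dvd with h | h
      · exact absurd (Subgroup.card_eq_one.1 h) hN₀ne
      · exact h
    have hrp₁ : r ≠ p₁ := by
      intro h
      have h1 : r ∣ Nat.card H₁ := hrcard.trans (Subgroup.card_dvd_of_le hN₀H)
      rw [h] at h1
      exact (Nat.Prime.coprime_iff_not_dvd hp₁).1 hH₁.2.symm h1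
    by_cases hl : ∃ l : ℕ, l.Prime ∧ l ∣ Nat.card G ∧ l ≠ p₁ ∧ l ≠ r
    · obtain ⟨l, hlp, hlG, hlp₁, hlr⟩ := hl
      obtain ⟨Hl, hHl⟩ := hG l hlp
      -- conjugate N₀ into Hl
      obtain ⟨T, -, hTle, hTp, hTcard⟩ :=
        Cfsg.Agent.Lead.exists_le_card_eq_ppart (p := r) (H := Hl) (U := ⊥)
          (IsPGroup.of_bot) bot_le
      have hTcard' : Nat.card T = r ^ (Nat.card G).factorization r := by
        rw [hTcard]
        congr 1
        obtain ⟨⟨k, hk⟩, -⟩ := hHl
        have hmul := Subgroup.card_mul_index Hl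
        rw [← hmul, Nat.factorization_mul Nat.card_pos.ne' Subgroup.index_ne_zero_of_finite, hk,
          hlp.factorization_pow, Finsupp.add_apply, Finsupp.single_apply, if_neg hlr, add_zero]
      obtain ⟨g, hg⟩ := Cfsg.Agent.Lead.exists_conj_le_sylow (Sylow.ofCard T hTcard') N₀ hN₀p
      obtain ⟨K, hKdef⟩ : ∃ K : Subgroup G, K = Hl.map (MulAut.conj g⁻¹).toMonoidHom := ⟨_, rfl⟩
      have hK : IsPCompl l K := hKdef ▸ hHl.conj g⁻¹
      have hN₀K : N₀ ≤ K := by
        intro x hx
        rw [hKdef]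
        have h1 : g * x * g⁻¹ ∈ Hl := by
          apply hTle
          apply hg
          exact ⟨x, hx, rfl⟩
        refine ⟨g * x * g⁻¹, h1, ?_⟩
        show g⁻¹ * (g * x * g⁻¹) * g⁻¹⁻¹ = x
        group
      have hKtop : K ≠ ⊤ := ne_top_of_isPCompl hlp hlG K hK
      haveI hKsol : Group.IsSolvable K := ihsub K hKtop (hG.of_isPCompl hlp K hK)
      have hcop : Nat.Coprime H₁.index K.index := by
        obtain ⟨⟨k₁, hk₁⟩, -⟩ := hH₁
        obtain ⟨⟨k₂, hk₂⟩, -⟩ := hK
        rw [hk₁, hk₂]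
        exact Nat.Coprime.pow _ _ ((Nat.coprime_primes hp₁ hlp).2 (Ne.symm hlp₁))
      obtain ⟨M, hMdef⟩ : ∃ M : Subgroup G, M = Subgroup.normalClosure (N₀ : Set G) := ⟨_, rfl⟩
      haveI hMn : M.Normal := by rw [hMdef]; exact Subgroup.normalClosure_normal
      have hMK : M ≤ K := by
        rw [hMdef]
        unfold Subgroup.normalClosure
        rw [Subgroup.closure_le]
        intro y hy
        rw [Group.mem_conjugatesOfSet_iff] at hy
        obtain ⟨x, hx, hconj⟩ := hy
        rw [isConj_iff] at hconj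
        obtain ⟨c, rfl⟩ := hconj
        obtain ⟨a, ha, b, hb, rfl⟩ := exists_mul_of_coprime_index H₁ K hcop c
        have h1 : b * x * b⁻¹ ∈ K := hN₀K (hN₀norm b hb x hx)
        have h2 : a * b * x * (a * b)⁻¹ = a * (b * x * b⁻¹) * a⁻¹ := by group
        show a * b * x * (a * b)⁻¹ ∈ K
        rw [h2]
        exact K.mul_mem (K.mul_mem ha h1) (K.inv_mem ha)
      have hMne : M ≠ ⊥ := by
        intro h
        apply hN₀ne
        rw [eq_bot_iff, ← h, hMdef]
        exact Subgroup.le_normalClosure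
      haveI hMsol : Group.IsSolvable M :=
        Group.isSolvable_of_isSolvable_injective (f := Subgroup.inclusion hMK)
          (Subgroup.inclusion_injective hMK)
      haveI hQsol : Group.IsSolvable (G ⧸ M) := by
        apply ih (Nat.card (G ⧸ M)) _ (G ⧸ M) rfl (hG.quotient M)
        rw [← hn, Subgroup.card_eq_card_quotient_mul_card_subgroup M]
        have h1M : 1 < Nat.card M := (Subgroup.one_lt_card_iff_ne_bot M).2 hMne
        have hpos : 0 < Nat.card (G ⧸ M) := Nat.card_pos
        nlinarith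
      apply Group.isSolvable_of_ker_le_range M.subtype (QuotientGroup.mk' M)
      rw [QuotientGroup.ker_mk', Subgroup.range_subtype]
    · push Not at hl
      apply isSolvable_of_two_primes p₁ r hp₁ hr (Ne.symm hrp₁)
      intro l hlp hlG
      by_contra hcon
      push Not at hcon
      exact hcon.2 (hl l hlp hlG hcon.1)

end Cfsg.Agent.Helper4
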