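import Mathlib
import Cfsg.Agent.Helper1.Fusion

set_option autoImplicit false

/-!
If every `p`-element of `G` has class size prime to `p`, and `N` is a normal subgroup such that
the Sylow `p`-subgroups of `N` and of `G ⧸ N` are abelian, then the Sylow `p`-subgroups of `G` are
abelian.
-/

namespace Cfsg.Agent.Helper4.PClassAbelSylow

open scoped Pointwise

variable {G : Type*} [Group G]

theorem mem_conj_smul {c g : G} {H : Subgroup G} :
    g ∈ MulAut.conj c • H ↔ c⁻¹ * g * c ∈ H := by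
  rw [Subgroup.mem_pointwise_smul_iff_inv_smul_mem, MulAut.smul_def, MulAut.conj_inv_apply]

theorem mem_of_mk'_eq_one (N : Subgroup G) [N.Normal] {x : G}
    (h : QuotientGroup.mk' N x = 1) : x ∈ N := by
  rw [← QuotientGroup.ker_mk' N]
  exact MonoidHom.mem_ker.2 h

theorem mem_sylow_of_mem_normalizer [Finite G] {p : ℕ} [Fact p.Prime] (P : Sylow p G) {n : G}
    (hn : n ∈ Subgroup.normalizer ((P : Subgroup G) : Set G)) {a : ℕ} (hna : n ^ (p ^ a) = 1) :
    n ∈ (P : Subgroup G) := by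
  have hZ : IsPGroup p (Subgroup.zpowers n) := by
    obtain ⟨b, -, hb⟩ :=
      (Nat.dvd_prime_pow (Fact.out : p.Prime)).1 (orderOf_dvd_of_pow_eq_one hna)
    exact IsPGroup.of_card (n := b) (by rw [Nat.card_zpowers]; exact hb)
  have hle : Subgroup.zpowers n ≤ Subgroup.normalizer ((P : Subgroup G) : Set G) := by
    rw [Subgroup.zpowers_le]; exact hn
  have hsup : IsPGroup p (Subgroup.zpowers n ⊔ (P : Subgroup G) : Subgroup G) :=
    hZ.to_sup_of_normal_right' P.2 hle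
  have heq : Subgroup.zpowers n ⊔ (P : Subgroup G) = P := P.is_maximal' hsup le_sup_right
  have hmem : n ∈ Subgroup.zpowers n ⊔ (P : Subgroup G) :=
    (le_sup_left : Subgroup.zpowers n ≤ _) (Subgroup.mem_zpowers n)
  rw [heq] at hmem
  exact hmem

theorem exists_sylow_le [Finite G] {p : ℕ} [Fact p.Prime] {C U : Subgroup G}
    (hC : ¬ p ∣ C.index) (hU : IsPGroup p U) (hUC : U ≤ C) :
    ∃ P₁ : Sylow p G, U ≤ (P₁ : Subgroup G) ∧ (P₁ : Subgroup G) ≤ C := by
  obtain ⟨Q, hQ⟩ := (hU.comap_subtype (K := C)).exists_le_sylow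
  have hp1 : IsPGroup p ((Q : Subgroup C).map C.subtype) := Q.2.map _
  have hidx : ¬ p ∣ ((Q : Subgroup C).map C.subtype).index := by
    rw [Subgroup.index_map_subtype]
    exact Nat.Prime.not_dvd_mul (Fact.out : p.Prime) Q.not_dvd_index hC
  refine ⟨hp1.toSylow hidx, ?_, ?_⟩
  · intro u hu
    change u ∈ (Q : Subgroup C).map C.subtype
    exact Subgroup.mem_map.2
      ⟨⟨u, hUC hu⟩, hQ (show (⟨u, hUC hu⟩ : C) ∈ U.comap C.subtype from hu), rfl⟩
  · change (Q : Subgroup C).map C.subtype ≤ C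
    exact Subgroup.map_subtype_le _

theorem relIndex_dvd_index_of_normal_right [Finite G] (C N : Subgroup G) [N.Normal] :
    C.relIndex N ∣ C.index := by
  have h1 : (C ⊓ N).relIndex C * C.relIndex (C ⊔ N) = (C ⊓ N).relIndex (C ⊔ N) :=
    Subgroup.relIndex_mul_relIndex _ _ _ inf_le_left le_sup_left
  have h2 : (C ⊓ N).relIndex N * N.relIndex (C ⊔ N) = (C ⊓ N).relIndex (C ⊔ N) :=
    Subgroup.relIndex_mul_relIndex _ _ _ inf_le_right le_sup_right
  rw [Subgroup.inf_relIndex_left] at h1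
  rw [Subgroup.inf_relIndex_right, Subgroup.relIndex_sup_right] at h2
  have h3 : N.relIndex C ≠ 0 := (N.subgroupOf C).index_ne_zero_of_finite
  have h4 : C.relIndex (C ⊔ N) = C.relIndex N := by
    apply Nat.eq_of_mul_eq_mul_left (Nat.pos_of_ne_zero h3)
    rw [h1, ← h2, mul_comm]
  rw [← h4]
  exact Dvd.intro _ (Subgroup.relIndex_mul_index le_sup_left)

theorem orderOf_eq_of_mem_sylow {p : ℕ} [Fact p.Prime] (P : Sylow p G) {x : G}
    (hx : x ∈ (P : Subgroup G)) : ∃ k : ℕ, orderOf x = p ^ k := by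
  obtain ⟨k, hk⟩ := (IsPGroup.iff_orderOf.1 P.2) ⟨x, hx⟩
  exact ⟨k, (Subgroup.orderOf_coe (⟨x, hx⟩ : (P : Subgroup G))).trans hk⟩

theorem classCond_subgroup [Finite G] {p : ℕ} [Fact p.Prime] (N : Subgroup G) [N.Normal]
    (hB : ∀ x : G, (∃ k : ℕ, orderOf x = p ^ k) →
      ¬ p ∣ (Subgroup.centralizer ({x} : Set G)).index) :
    ∀ x : N, (∃ k : ℕ, orderOf x = p ^ k) →
      ¬ p ∣ (Subgroup.centralizer ({x} : Set N)).index := by
  rintro x ⟨k, hk⟩
  have h1 := hB (x : G) ⟨k, by rw [Subgroup.orderOf_coe]; exact hk⟩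
  have h2 : Subgroup.centralizer ({x} : Set N) =
      (Subgroup.centralizer ({(x : G)} : Set G)).subgroupOf N := by
    ext g
    rw [Subgroup.mem_centralizer_singleton_iff, Subgroup.mem_subgroupOf,
      Subgroup.mem_centralizer_singleton_iff, Subtype.ext_iff]
    rfl
  rw [h2]
  intro hdvd
  exact h1 (dvd_trans hdvd (relIndex_dvd_index_of_normal_right _ N))

theorem classCond_quotient [Finite G] {p : ℕ} [Fact p.Prime] (N : Subgroup G) [N.Normal]
    (hB : ∀ x : G, (∃ k : ℕ, orderOf x = p ^ k) →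
      ¬ p ∣ (Subgroup.centralizer ({x} : Set G)).index) :
    ∀ x : G ⧸ N, (∃ k : ℕ, orderOf x = p ^ k) →
      ¬ p ∣ (Subgroup.centralizer ({x} : Set (G ⧸ N))).index := by
  rintro x ⟨k, hk⟩
  have hZ : IsPGroup p (Subgroup.zpowers x) :=
    IsPGroup.of_card (n := k) (by rw [Nat.card_zpowers]; exact hk)
  obtain ⟨Q, hQ⟩ := hZ.exists_le_sylow
  obtain ⟨P, rfl⟩ := Sylow.mapSurjective_surjective (QuotientGroup.mk'_surjective N) p Q
  have hx : x ∈ ((P.mapSurjective (QuotientGroup.mk'_surjective N) : Sylow p (G ⧸ N)) :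
      Subgroup (G ⧸ N)) := hQ (Subgroup.mem_zpowers x)
  rw [Sylow.coe_mapSurjective] at hx
  obtain ⟨y, hyP, rfl⟩ := Subgroup.mem_map.1 hx
  have hy := orderOf_eq_of_mem_sylow P hyP
  have hle : (Subgroup.centralizer ({y} : Set G)).map (QuotientGroup.mk' N) ≤
      Subgroup.centralizer {QuotientGroup.mk' N y} := by
    rintro _ ⟨g, hg, rfl⟩
    rw [Subgroup.mem_centralizer_singleton_iff]
    have := Subgroup.mem_centralizer_singleton_iff.1 hg
    rw [← map_mul, this, map_mul]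
  intro hdvd
  exact hB y hy (dvd_trans hdvd (dvd_trans (Subgroup.index_dvd_of_le hle)
    (Subgroup.index_map_dvd _ (QuotientGroup.mk'_surjective N))))

section Main

variable [Finite G] {p : ℕ} [Fact p.Prime] (N : Subgroup G) [N.Normal]

theorem claim1
    (hB : ∀ x : G, (∃ k : ℕ, orderOf x = p ^ k) →
      ¬ p ∣ (Subgroup.centralizer ({x} : Set G)).index)
    (hP1 : ∀ U : Subgroup G, IsPGroup p U → U ≤ N → ∀ a ∈ U, ∀ b ∈ U, a * b = b * a)
    (hP2 : ∀ P : Sylow p G, ∀ g ∈ (P : Subgroup G), ∀ h ∈ (P : Subgroup G),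
      QuotientGroup.mk' N g * QuotientGroup.mk' N h =
        QuotientGroup.mk' N h * QuotientGroup.mk' N g)
    (P : Sylow p G) {x b : G} (hx : x ∈ (P : Subgroup G)) (hb : b ∈ (P : Subgroup G))
    (hbN : b ∈ N) : x * b = b * x := by
  have hxo := orderOf_eq_of_mem_sylow P hx
  have hCx := hB x hxo
  obtain ⟨P₁, hxP₁, hP₁C⟩ := exists_sylow_le hCx
    (P.2.to_le (Subgroup.zpowers_le.2 hx) : IsPGroup p (Subgroup.zpowers x))
    (Subgroup.zpowers_le.2 (Subgroup.mem_centralizer_singleton_iff.2 rfl))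
  have hxP₁' : x ∈ (P₁ : Subgroup G) := hxP₁ (Subgroup.mem_zpowers x)
  obtain ⟨M, hM⟩ : ∃ M : Subgroup G, ∀ g : G, g ∈ M ↔
      QuotientGroup.mk' N g * QuotientGroup.mk' N x =
        QuotientGroup.mk' N x * QuotientGroup.mk' N g :=
    ⟨(Subgroup.centralizer ({QuotientGroup.mk' N x} : Set (G ⧸ N))).comap (QuotientGroup.mk' N),
      fun g => by rw [Subgroup.mem_comap, Subgroup.mem_centralizer_singleton_iff]⟩
  have hPM : (P : Subgroup G) ≤ M := fun g hg => (hM g).2 (hP2 P g hg x hx)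
  have hP₁M : (P₁ : Subgroup G) ≤ M := fun g hg => (hM g).2 (by
    have := Subgroup.mem_centralizer_singleton_iff.1 (hP₁C hg)
    rw [← map_mul, this, map_mul])
  obtain ⟨c, hcM, hc⟩ := Cfsg.Agent.Helper1.sylow_conj_in_subgroup M P₁ P hP₁M hPM
  have hzP : c * x * c⁻¹ ∈ (P : Subgroup G) := by
    rw [← hc, mem_conj_smul]
    have : c⁻¹ * (c * x * c⁻¹) * c = x := by group
    rw [this]; exact hxP₁'
  have hzc : ∀ h ∈ (P : Subgroup G), h * (c * x * c⁻¹) = (c * x * c⁻¹) * h := by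
    intro h hh
    rw [← hc, mem_conj_smul] at hh
    have h1 := Subgroup.mem_centralizer_singleton_iff.1 (hP₁C hh)
    calc h * (c * x * c⁻¹) = c * ((c⁻¹ * h * c) * x) * c⁻¹ := by group
      _ = c * (x * (c⁻¹ * h * c)) * c⁻¹ := by rw [h1]
      _ = (c * x * c⁻¹) * h := by group
  have haP : x⁻¹ * (c * x * c⁻¹) ∈ (P : Subgroup G) := mul_mem (inv_mem hx) hzP
  have haN : x⁻¹ * (c * x * c⁻¹) ∈ N := by
    apply mem_of_mk'_eq_one
    have h1 := (hM c).1 hcM
    simp only [map_mul, map_inv]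
    rw [h1]; group
  have hab := hP1 ((P : Subgroup G) ⊓ N) (P.2.to_le inf_le_left) inf_le_right _
    ⟨haP, haN⟩ b ⟨hb, hbN⟩
  have hzb := hzc b hb
  have key : b * x * (x⁻¹ * (c * x * c⁻¹)) = x * b * (x⁻¹ * (c * x * c⁻¹)) := by
    calc b * x * (x⁻¹ * (c * x * c⁻¹)) = b * (c * x * c⁻¹) := by group
      _ = (c * x * c⁻¹) * b := hzb
      _ = x * ((x⁻¹ * (c * x * c⁻¹)) * b) := by group
      _ = x * (b * (x⁻¹ * (c * x * c⁻¹))) := by rw [hab]
      _ = x * b * (x⁻¹ * (c * x * c⁻¹)) := by group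
  exact (mul_right_cancel key).symm

theorem sylow_comm
    (hB : ∀ x : G, (∃ k : ℕ, orderOf x = p ^ k) →
      ¬ p ∣ (Subgroup.centralizer ({x} : Set G)).index)
    (hP1 : ∀ U : Subgroup G, IsPGroup p U → U ≤ N → ∀ a ∈ U, ∀ b ∈ U, a * b = b * a)
    (hP2 : ∀ P : Sylow p G, ∀ g ∈ (P : Subgroup G), ∀ h ∈ (P : Subgroup G),
      QuotientGroup.mk' N g * QuotientGroup.mk' N h =
        QuotientGroup.mk' N h * QuotientGroup.mk' N g)
    (P : Sylow p G) {x y : G} (hx : x ∈ (P : Subgroup G)) (hy : y ∈ (P : Subgroup G)) :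
    x * y = y * x := by
  have hcP : y * x * y⁻¹ * x⁻¹ ∈ (P : Subgroup G) :=
    mul_mem (mul_mem (mul_mem hy hx) (inv_mem hy)) (inv_mem hx)
  have hcN : y * x * y⁻¹ * x⁻¹ ∈ N := by
    apply mem_of_mk'_eq_one
    simp only [map_mul, map_inv]
    rw [hP2 P y hy x hx]; group
  obtain ⟨c, hc⟩ : ∃ c, c = y * x * y⁻¹ * x⁻¹ := ⟨_, rfl⟩
  rw [← hc] at hcP hcN
  have hxc : x * c = c * x := claim1 N hB hP1 hP2 P hx hcP hcN
  have hyc : y * c = c * y := claim1 N hB hP1 hP2 P hy hcP hcN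
  have hyx : y * x * y⁻¹ = c * x := by rw [hc]; group
  have hxo := orderOf_eq_of_mem_sylow P hx
  have hCx := hB x hxo
  obtain ⟨P₁, hUP₁, hP₁C⟩ := exists_sylow_le hCx
    (P.2.to_le inf_le_left :
      IsPGroup p ((P : Subgroup G) ⊓ Subgroup.centralizer ({x} : Set G) : Subgroup G))
    inf_le_right
  have hxP₁ : x ∈ (P₁ : Subgroup G) :=
    hUP₁ ⟨hx, Subgroup.mem_centralizer_singleton_iff.2 rfl⟩
  have hcP₁ : c ∈ (P₁ : Subgroup G) :=
    hUP₁ ⟨hcP, Subgroup.mem_centralizer_singleton_iff.2 hxc.symm⟩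
  have hcz : ∀ g ∈ (P₁ : Subgroup G), g * c = c * g :=
    fun g hg => claim1 N hB hP1 hP2 P₁ hg hcP₁ hcN
  have hxz : ∀ g ∈ (P₁ : Subgroup G), g * x = x * g :=
    fun g hg => Subgroup.mem_centralizer_singleton_iff.1 (hP₁C hg)
  have hx'z : ∀ g ∈ (P₁ : Subgroup G), g * (c * x) = (c * x) * g := by
    intro g hg
    calc g * (c * x) = (g * c) * x := (mul_assoc _ _ _).symm
      _ = (c * g) * x := by rw [hcz g hg]
      _ = c * (g * x) := mul_assoc _ _ _
      _ = c * (x * g) := by rw [hxz g hg]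
      _ = (c * x) * g := (mul_assoc _ _ _).symm
  obtain ⟨D, hD⟩ : ∃ D : Subgroup G, D =
      Subgroup.centralizer ({c * x} : Set G) ⊓ Subgroup.centralizer ({c} : Set G) := ⟨_, rfl⟩
  have hmemD : ∀ g, g ∈ D ↔ g * (c * x) = (c * x) * g ∧ g * c = c * g := by
    intro g
    rw [hD, Subgroup.mem_inf, Subgroup.mem_centralizer_singleton_iff,
      Subgroup.mem_centralizer_singleton_iff]
  have hP₁D : (P₁ : Subgroup G) ≤ D := fun g hg => (hmemD g).2 ⟨hx'z g hg, hcz g hg⟩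
  have hyc' : y⁻¹ * c = c * y⁻¹ := by
    calc y⁻¹ * c = y⁻¹ * (c * y) * y⁻¹ := by group
      _ = y⁻¹ * (y * c) * y⁻¹ := by rw [hyc]
      _ = c * y⁻¹ := by group
  have hP₂D : ((MulAut.conj y • P₁ : Sylow p G) : Subgroup G) ≤ D := by
    intro h hh
    rw [Sylow.pointwise_smul_def, mem_conj_smul] at hh
    rw [hmemD]
    have e2 := hcz _ hh
    have e3 := hxz _ hh
    constructor
    · rw [← hyx]
      calc h * (y * x * y⁻¹) = y * ((y⁻¹ * h * y) * x) * y⁻¹ := by group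
        _ = y * (x * (y⁻¹ * h * y)) * y⁻¹ := by rw [e3]
        _ = (y * x * y⁻¹) * h := by group
    · calc h * c = y * ((y⁻¹ * h * y) * (y⁻¹ * c)) := by group
        _ = y * ((y⁻¹ * h * y) * (c * y⁻¹)) := by rw [hyc']
        _ = y * (((y⁻¹ * h * y) * c) * y⁻¹) := by group
        _ = y * ((c * (y⁻¹ * h * y)) * y⁻¹) := by rw [e2]
        _ = (y * c) * (y⁻¹ * h) := by group
        _ = (c * y) * (y⁻¹ * h) := by rw [hyc]
        _ = c * h := by group
  obtain ⟨t, htD, ht⟩ :=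
    Cfsg.Agent.Helper1.sylow_conj_in_subgroup D (MulAut.conj y • P₁) P₁ hP₂D hP₁D
  obtain ⟨ht1, ht2⟩ := (hmemD t).1 htD
  have hnN : t * y ∈ Subgroup.normalizer ((P₁ : Subgroup G) : Set G) := by
    have key : ∀ h : G, y⁻¹ * (t⁻¹ * h * t) * y ∈ (P₁ : Subgroup G) ↔
        h ∈ (P₁ : Subgroup G) := by
      intro h
      rw [← mem_conj_smul (c := y), ← Sylow.pointwise_smul_def, ← mem_conj_smul (c := t), ht]
    rw [Subgroup.mem_normalizer_iff]
    intro h
    rw [← key (t * y * h * (t * y)⁻¹)]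
    have e : y⁻¹ * (t⁻¹ * (t * y * h * (t * y)⁻¹) * t) * y = h := by group
    rw [e]
  have hnx : (t * y) * x = c * x * (t * y) := by
    calc (t * y) * x = t * (y * x * y⁻¹) * y := by group
      _ = t * (c * x) * y := by rw [hyx]
      _ = (c * x) * t * y := by rw [ht1]
      _ = c * x * (t * y) := by group
  have hnc : (t * y) * c = c * (t * y) := by
    calc (t * y) * c = t * (y * c) := by group
      _ = t * (c * y) := by rw [hyc]
      _ = (t * c) * y := by group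
      _ = (c * t) * y := by rw [ht2]
      _ = c * (t * y) := by group
  obtain ⟨n, hn⟩ : ∃ n, n = t * y := ⟨_, rfl⟩
  rw [← hn] at hnN hnx hnc
  have hpow : ∀ k : ℕ, n ^ k * x = c ^ k * x * n ^ k := by
    intro k
    induction k with
    | zero => simp
    | succ k ih =>
      have hnck : n * c ^ k = c ^ k * n := Commute.pow_right (show Commute n c from hnc) k
      calc n ^ (k + 1) * x = n * (n ^ k * x) := by rw [pow_succ', mul_assoc]
        _ = n * (c ^ k * x * n ^ k) := by rw [ih]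
        _ = (n * c ^ k) * x * n ^ k := by simp only [mul_assoc]
        _ = (c ^ k * n) * x * n ^ k := by rw [hnck]
        _ = c ^ k * (n * x) * n ^ k := by simp only [mul_assoc]
        _ = c ^ k * (c * x * n) * n ^ k := by rw [hnx]
        _ = c ^ (k + 1) * x * n ^ (k + 1) := by
          rw [pow_succ c k, pow_succ' n k]; simp only [mul_assoc]
  have hn0 : orderOf n ≠ 0 := (orderOf_pos n).ne'
  obtain ⟨a, m, hpm, hnm⟩ :=
    Nat.exists_eq_pow_mul_and_not_dvd hn0 p (Fact.out : p.Prime).ne_one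
  have hw : (n ^ m) ^ (p ^ a) = 1 := by
    rw [← pow_mul, mul_comm, ← hnm, pow_orderOf_eq_one]
  have hwN : n ^ m ∈ Subgroup.normalizer ((P₁ : Subgroup G) : Set G) := pow_mem hnN m
  have hwP₁ : n ^ m ∈ (P₁ : Subgroup G) := mem_sylow_of_mem_normalizer P₁ hwN hw
  have hwx := hxz _ hwP₁
  have hcm : c ^ m = 1 := by
    have h1 := hpow m
    rw [hwx] at h1
    have h2 : 1 * (x * n ^ m) = c ^ m * (x * n ^ m) := by
      rw [one_mul, ← mul_assoc]; exact h1
    exact (mul_right_cancel h2).symm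
  obtain ⟨j, hj⟩ := orderOf_eq_of_mem_sylow P hcP
  have hdvd : orderOf c ∣ m := orderOf_dvd_of_pow_eq_one hcm
  have hc1 : c = 1 := by
    rcases Nat.eq_zero_or_pos j with hj0 | hjpos
    · rw [hj0, pow_zero] at hj; exact orderOf_eq_one_iff.1 hj
    · exfalso; apply hpm
      exact dvd_trans (dvd_pow_self p hjpos.ne') (hj ▸ hdvd)
  rw [hc1] at hc
  have hfin : y * x = x * y := by
    calc y * x = (y * x * y⁻¹ * x⁻¹) * (x * y) := by group
      _ = x * y := by rw [← hc, one_mul]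
  exact hfin.symm

theorem sylow_comm_of_normal
    (hB : ∀ x : G, (∃ k : ℕ, orderOf x = p ^ k) →
      ¬ p ∣ (Subgroup.centralizer ({x} : Set G)).index)
    (hN : ∀ Q : Sylow p N, IsMulCommutative Q)
    (hQ : ∀ Q : Sylow p (G ⧸ N), IsMulCommutative Q) (P : Sylow p G) :
    IsMulCommutative P := by
  have hP1 : ∀ U : Subgroup G, IsPGroup p U → U ≤ N → ∀ a ∈ U, ∀ b ∈ U, a * b = b * a := by
    intro U hU hUN a ha b hb
    obtain ⟨Q, hQ'⟩ := (hU.comap_subtype (K := N)).exists_le_sylow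
    have hcomm := isMulCommutative_iff.1 (hN Q)
    have haQ : (⟨a, hUN ha⟩ : N) ∈ (Q : Subgroup N) :=
      hQ' (show (⟨a, hUN ha⟩ : N) ∈ U.comap N.subtype from ha)
    have hbQ : (⟨b, hUN hb⟩ : N) ∈ (Q : Subgroup N) :=
      hQ' (show (⟨b, hUN hb⟩ : N) ∈ U.comap N.subtype from hb)
    have h3 := hcomm ⟨_, haQ⟩ ⟨_, hbQ⟩
    exact congrArg (fun t : Q => ((t : N) : G)) h3
  have hP2 : ∀ P : Sylow p G, ∀ g ∈ (P : Subgroup G), ∀ h ∈ (P : Subgroup G),
      QuotientGroup.mk' N g * QuotientGroup.mk' N h =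
        QuotientGroup.mk' N h * QuotientGroup.mk' N g := by
    intro P g hg h hh
    have hcomm := isMulCommutative_iff.1
      (hQ (P.mapSurjective (QuotientGroup.mk'_surjective N)))
    have hg' : QuotientGroup.mk' N g ∈
        ((P.mapSurjective (QuotientGroup.mk'_surjective N) : Sylow p (G ⧸ N)) :
          Subgroup (G ⧸ N)) := by
      rw [Sylow.coe_mapSurjective]; exact Subgroup.mem_map_of_mem _ hg
    have hh' : QuotientGroup.mk' N h ∈
        ((P.mapSurjective (QuotientGroup.mk'_surjective N) : Sylow p (G ⧸ N)) :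
          Subgroup (G ⧸ N)) := by
      rw [Sylow.coe_mapSurjective]; exact Subgroup.mem_map_of_mem _ hh
    exact congrArg Subtype.val (hcomm ⟨_, hg'⟩ ⟨_, hh'⟩)
  exact isMulCommutative_iff.2 (fun a b =>
    Subtype.ext (sylow_comm N hB hP1 hP2 P a.2 b.2))

end Main

end Cfsg.Agent.Helper4.PClassAbelSylow
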