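import Mathlib
import Cfsg.Prelude.Def_Transfer
import Cfsg.Prelude.Def_Local
import Cfsg.Agent.Helper1.Basic
import Cfsg.Agent.Helper1.Coprime
import Cfsg.Agent.Helper1.SZ
import Cfsg.Agent.Helper1.PNilpBasic
import Cfsg.Agent.Helper4.PClassAbelSylow

/-!
# Groups whose maximal subgroups are `p`-nilpotent or of prime index

A finite `p`-solvable group in which every maximal subgroup has a normal `p`-complement or has
prime index has a normal series of type `p', p, p', p`.
-/

set_option autoImplicit false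

namespace Cfsg.Agent.Helper4.PNilpMaxShape

open scoped Pointwise
open Cfsg.Agent

universe u

/-- a normal series of type `p', p, p', p` -/
def Shape4 (p : ℕ) (G : Type*) [Group G] : Prop :=
  ∃ A B C : Subgroup G, A.Normal ∧ B.Normal ∧ C.Normal ∧ A ≤ B ∧ B ≤ C ∧ ¬ p ∣ Nat.card A ∧
    (∃ k : ℕ, A.relIndex B = p ^ k) ∧ ¬ p ∣ B.relIndex C ∧ ∃ k : ℕ, C.index = p ^ k

/-- every maximal subgroup is `p`-nilpotent or has prime index -/
def Hmax (p : ℕ) (G : Type*) [Group G] : Prop :=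
  ∀ M : Subgroup G, IsCoatom M → Cfsg.HasNormalPComplement p M ∨ M.index.Prime

/-- a quotient-closed form of `p`-solvability -/
def PSol (p : ℕ) (G : Type*) [Group G] : Prop :=
  ∀ N : Subgroup G, N.Normal → N ≠ ⊤ → ∃ M : Subgroup G, M.Normal ∧ N < M ∧
    ((∃ k : ℕ, N.relIndex M = p ^ k) ∨ ¬ p ∣ N.relIndex M)

section General

variable {G : Type*} [Group G]

theorem mem_normalizer_of_conj_mem [Finite G] {H : Subgroup G} {g : G}
    (h1 : ∀ x ∈ H, g * x * g⁻¹ ∈ H) : g ∈ Subgroup.normalizer (H : Set G) := by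
  have hinj : Function.Injective (fun x : H => (⟨g * x * g⁻¹, h1 x x.2⟩ : H)) := by
    intro x y hxy
    have h2 : g * (x : G) * g⁻¹ = g * (y : G) * g⁻¹ := congrArg Subtype.val hxy
    have h3 : (x : G) = y := by simpa using h2
    exact Subtype.ext h3
  have hsurj := Finite.surjective_of_injective hinj
  rw [Subgroup.mem_normalizer_iff]
  intro x
  refine ⟨h1 x, fun hx => ?_⟩
  obtain ⟨y, hy⟩ := hsurj ⟨g * x * g⁻¹, hx⟩
  have h2 : g * (y : G) * g⁻¹ = g * x * g⁻¹ := congrArg Subtype.val hy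
  have h3 : (y : G) = x := by simpa using h2
  rw [← h3]; exact y.2

theorem relIndex_dvd_relIndex_of_le (H : Subgroup G) [H.Normal] {K L : Subgroup G}
    (hKL : K ≤ L) : H.relIndex K ∣ H.relIndex L := by
  have h1 : H.relIndex (K ⊔ H) * (K ⊔ H).relIndex (L ⊔ H) = H.relIndex (L ⊔ H) :=
    Subgroup.relIndex_mul_relIndex _ _ _ le_sup_right (sup_le_sup_right hKL H)
  have e1 : H.relIndex (K ⊔ H) = H.relIndex K := Subgroup.relIndex_sup_right K H
  have e2 : H.relIndex (L ⊔ H) = H.relIndex L := Subgroup.relIndex_sup_right L H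
  rw [e1, e2] at h1
  exact ⟨_, h1.symm⟩

theorem relIndex_inf_inf_dvd (X₁ Y₁ X₂ Y₂ : Subgroup G) [X₁.Normal] [X₂.Normal]
    (h₁ : X₁ ≤ Y₁) (h₂ : X₂ ≤ Y₂) :
    (X₁ ⊓ X₂).relIndex (Y₁ ⊓ Y₂) ∣ X₁.relIndex Y₁ * X₂.relIndex Y₂ := by
  have hZ1 : X₁ ⊓ X₂ ≤ X₁ ⊓ Y₂ := inf_le_inf_left _ h₂
  have hZ2 : X₁ ⊓ Y₂ ≤ Y₁ ⊓ Y₂ := inf_le_inf_right _ h₁
  have hmul := Subgroup.relIndex_mul_relIndex _ _ _ hZ1 hZ2
  have e2 : (X₁ ⊓ Y₂).relIndex (Y₁ ⊓ Y₂) = X₁.relIndex (Y₁ ⊓ Y₂) := by
    have h : X₁ ⊓ Y₂ = X₁ ⊓ (Y₁ ⊓ Y₂) :=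
      le_antisymm (le_inf inf_le_left (le_inf (inf_le_left.trans h₁) inf_le_right))
        (le_inf inf_le_left (inf_le_right.trans inf_le_right))
    rw [h, Subgroup.inf_relIndex_right]
  have e1 : (X₁ ⊓ X₂).relIndex (X₁ ⊓ Y₂) = X₂.relIndex (X₁ ⊓ Y₂) := by
    have h : X₁ ⊓ X₂ = X₂ ⊓ (X₁ ⊓ Y₂) :=
      le_antisymm (le_inf inf_le_right (le_inf inf_le_left (inf_le_right.trans h₂)))
        (le_inf (inf_le_right.trans inf_le_left) inf_le_left)
    rw [h, Subgroup.inf_relIndex_right]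
  rw [← hmul, e1, e2]
  have h3 := mul_dvd_mul (relIndex_dvd_relIndex_of_le X₂ (inf_le_right : X₁ ⊓ Y₂ ≤ Y₂))
    (relIndex_dvd_relIndex_of_le X₁ (inf_le_left : Y₁ ⊓ Y₂ ≤ Y₁))
  rw [mul_comm (X₂.relIndex Y₂)] at h3
  exact h3

theorem exists_pow_of_dvd_pow_mul_pow {p : ℕ} (hp : p.Prime) {a k l : ℕ}
    (h : a ∣ p ^ k * p ^ l) : ∃ m : ℕ, a = p ^ m := by
  rw [← pow_add] at h
  obtain ⟨m, -, hm⟩ := (Nat.dvd_prime_pow hp).1 h
  exact ⟨m, hm⟩

theorem not_dvd_of_dvd_mul {p : ℕ} (hp : p.Prime) {a b c : ℕ} (h : a ∣ b * c)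
    (hb : ¬ p ∣ b) (hc : ¬ p ∣ c) : ¬ p ∣ a := by
  intro hpa
  rcases (Nat.Prime.dvd_mul hp).1 (hpa.trans h) with h1 | h1
  · exact hb h1
  · exact hc h1

theorem normal_of_sup_eq_top {V M D : Subgroup G} [V.Normal] (hsup : V ⊔ M = ⊤)
    (hM : ∀ m ∈ M, ∀ d ∈ D, m * d * m⁻¹ ∈ D) (hV : ∀ v ∈ V, ∀ d ∈ D, v * d * v⁻¹ ∈ D) :
    D.Normal := by
  refine ⟨fun d hd g => ?_⟩
  have hg : g ∈ V ⊔ M := by rw [hsup]; exact Subgroup.mem_top g
  have hMN : M ≤ Subgroup.normalizer (V : Set G) := by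
    rw [Subgroup.normalizer_eq_top]; exact le_top
  obtain ⟨v, hv, m, hm, rfl⟩ := Helper1.mem_sup_of_le_normalizer hMN hg
  have e : v * m * d * (v * m)⁻¹ = v * (m * d * m⁻¹) * v⁻¹ := by group
  rw [e]
  exact hV v hv _ (hM m hm d hd)

theorem relIndex_comap_comap {H : Type*} [Group H] {f : G →* H} (hf : Function.Surjective f)
    (X Y : Subgroup H) : (X.comap f).relIndex (Y.comap f) = X.relIndex Y := by
  rw [Subgroup.relIndex_comap, Subgroup.map_comap_eq_self_of_surjective hf]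

theorem isCoatom_comap_of_surjective {H : Type*} [Group H] {f : G →* H}
    (hf : Function.Surjective f) {M : Subgroup H} (hM : IsCoatom M) : IsCoatom (M.comap f) := by
  constructor
  · intro h
    apply hM.1
    rw [← Subgroup.map_comap_eq_self_of_surjective hf M, h, Subgroup.map_top_of_surjective f hf]
  · intro K hK
    have hker : f.ker ≤ K := (MonoidHom.ker_le_comap f M).trans hK.le
    have h1 : M ≤ K.map f := by
      rw [← Subgroup.map_comap_eq_self_of_surjective hf M]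
      exact Subgroup.map_mono hK.le
    have h2 : M ≠ K.map f := by
      intro h
      exact lt_irrefl _ (hK.trans_le (by rw [h]; exact Subgroup.le_comap_map f K))
    have h3 : K.map f = ⊤ := hM.2 _ (lt_of_le_of_ne h1 h2)
    rw [← Subgroup.comap_map_eq_self hker, h3, Subgroup.comap_top]

theorem comm_of_minimal_normal_pgroup [Finite G] {p : ℕ} [Fact p.Prime] {V : Subgroup G}
    (hVmin : Minimal (fun N : Subgroup G => N.Normal ∧ N ≠ ⊥) V) (hVp : IsPGroup p V) :
    ∀ a ∈ V, ∀ b ∈ V, a * b = b * a := by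
  have : V.Normal := hVmin.prop.1
  have hVne : V ≠ ⊥ := hVmin.prop.2
  have : Nontrivial V := (Subgroup.nontrivial_iff_ne_bot V).2 hVne
  have : Nontrivial (Subgroup.center V) := hVp.center_nontrivial
  have hZn : ((Subgroup.center V).map V.subtype).Normal := inferInstance
  have hZne : (Subgroup.center V).map V.subtype ≠ ⊥ := by
    intro h
    rw [Subgroup.map_eq_bot_iff_of_injective _ V.subtype_injective] at h
    exact (Subgroup.nontrivial_iff_ne_bot _).1 inferInstance h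
  have hle : V ≤ (Subgroup.center V).map V.subtype :=
    hVmin.le_of_le ⟨hZn, hZne⟩ (Subgroup.map_subtype_le _)
  intro a ha b hb
  obtain ⟨z, hz, hza⟩ := hle ha
  have h1 := Subgroup.mem_center_iff.1 hz ⟨b, hb⟩
  have h2 : b * (z : G) = (z : G) * b := congrArg Subtype.val h1
  rw [← hza]
  exact h2.symm

end General

/-! ### Transfer of the hypotheses to quotients -/

section Transfer

variable {G : Type*} [Group G]

theorem PSol.of_surjective {p : ℕ} {H : Type*} [Group H] (h : PSol p G) {f : G →* H}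
    (hf : Function.Surjective f) : PSol p H := by
  intro N hN hne
  have hN' : (N.comap f).Normal := hN.comap f
  have hne' : N.comap f ≠ ⊤ := by
    intro h1
    apply hne
    rw [← Subgroup.map_comap_eq_self_of_surjective hf N, h1, Subgroup.map_top_of_surjective f hf]
  obtain ⟨M, hMn, hlt, hidx⟩ := h _ hN' hne'
  refine ⟨M.map f, hMn.map f hf, ?_, ?_⟩
  · apply lt_of_le_of_ne
    · rw [← Subgroup.map_comap_eq_self_of_surjective hf N]
      exact Subgroup.map_mono hlt.le
    · intro heq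
      exact lt_irrefl _ (hlt.trans_le (by rw [heq]; exact Subgroup.le_comap_map f M))
  · rw [← Subgroup.relIndex_comap]
    exact hidx

theorem Hmax.of_surjective [Finite G] {p : ℕ} [Fact p.Prime] {H : Type*} [Group H] [Finite H]
    (h : Hmax p G) {f : G →* H} (hf : Function.Surjective f) : Hmax p H := by
  intro M hM
  rcases h _ (isCoatom_comap_of_surjective hf hM) with h1 | h1
  · left
    have h2 := Helper1.hasNormalPComplement_map f (M.comap f) h1
    rw [Subgroup.map_comap_eq_self_of_surjective hf] at h2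
    exact h2
  · right
    rw [Subgroup.index_comap_of_surjective M hf] at h1
    exact h1

theorem hmax_of_exists [Finite G] (p : ℕ) [hp : Fact p.Prime]
    (hmax : ∀ M : Subgroup G, IsCoatom M →
      (∃ K : Subgroup ↥M, K.Normal ∧ ¬ p ∣ Nat.card K ∧ ∃ k : ℕ, K.index = p ^ k) ∨
        (M.index).Prime) : Hmax p G := by
  intro M hM
  rcases hmax M hM with ⟨K, hKn, hKp, k, hk⟩ | h
  · left
    exact Helper1.hasNormalPComplement_iff_exists.2
      ⟨K, hKn, ((Nat.Prime.coprime_iff_not_dvd hp.out).2 hKp).symm, k, hk⟩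
  · right; exact h

theorem psol_of_isPSolvable [Finite G] {p : ℕ} [hp : Fact p.Prime]
    (h : Cfsg.IsPSolvable p G) : PSol p G := by
  obtain ⟨n, H, h0, hlast, hmono, hnorm, hfac⟩ := h
  intro N hN hne
  have := hN
  by_contra hcon
  have key : ∀ i : Fin (n + 1), H i ≤ N := by
    intro i
    induction i using Fin.induction with
    | zero => rw [h0]; exact bot_le
    | succ i ih =>
      by_contra hle
      apply hcon
      have hn1 : (H i.succ).Normal := hnorm i.succ
      refine ⟨N ⊔ H i.succ, inferInstance, left_lt_sup.2 hle, ?_⟩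
      have e1 : N.relIndex (N ⊔ H i.succ) = N.relIndex (H i.succ) :=
        Subgroup.relIndex_sup_left (H i.succ) N
      have e2 : N.relIndex (H i.succ) = (N ⊓ H i.succ).relIndex (H i.succ) :=
        (Subgroup.inf_relIndex_right N (H i.succ)).symm
      have hle2 : H i.castSucc ≤ N ⊓ H i.succ := le_inf ih (hmono (Fin.castSucc_le_succ i))
      have hdvd : N.relIndex (H i.succ) ∣ (H i.castSucc).relIndex (H i.succ) := by
        rw [e2]; exact Subgroup.relIndex_dvd_of_le_left (H i.succ) hle2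
      rw [e1]
      rcases hfac i with ⟨m, hm⟩ | hcop
      · left
        rw [hm] at hdvd
        obtain ⟨m', -, hm'⟩ := (Nat.dvd_prime_pow hp.out).1 hdvd
        exact ⟨m', hm'⟩
      · right
        intro hpd
        exact (Nat.Prime.coprime_iff_not_dvd hp.out).1 hcop.symm (hpd.trans hdvd)
  apply hne
  rw [eq_top_iff, ← hlast]
  exact key (Fin.last n)

end Transfer

theorem psol_of_isSolvable {G : Type u} [Group G] [Finite G] {p : ℕ} [hp : Fact p.Prime]
    (h : Group.IsSolvable G) : PSol p G := by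
  intro N hN hne
  have := hN
  have := h
  have : Nontrivial (G ⧸ N) := by
    rw [← Finite.one_lt_card_iff_nontrivial, ← Subgroup.index_eq_card]
    have h1 : N.index ≠ 1 := fun h1 => hne (Subgroup.index_eq_one.1 h1)
    have h2 : N.index ≠ 0 := Subgroup.index_ne_zero_of_finite
    omega
  obtain ⟨r, hr, M, hMn, hMne, hMp, -, -⟩ := Helper1.exists_normal_pgroup_of_solvable (G ⧸ N)
  obtain ⟨f, hfdef⟩ : ∃ f : G →* G ⧸ N, f = QuotientGroup.mk' N := ⟨_, rfl⟩
  have hf : Function.Surjective f := by rw [hfdef]; exact QuotientGroup.mk'_surjective N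
  have hbot : (⊥ : Subgroup (G ⧸ N)).comap f = N := by
    rw [hfdef, MonoidHom.comap_bot, QuotientGroup.ker_mk']
  obtain ⟨k, hk⟩ := IsPGroup.iff_card.1 hMp
  have hrel : N.relIndex (M.comap f) = r ^ k := by
    have e := relIndex_comap_comap hf ⊥ M
    rw [hbot, Subgroup.relIndex_bot_left, hk] at e
    exact e
  refine ⟨M.comap f, hMn.comap f, ?_, ?_⟩
  · apply lt_of_le_of_ne
    · exact hbot.symm.le.trans (Subgroup.comap_mono bot_le)
    · intro heq
      apply hMne
      have e1 : M = (M.comap f).map f := (Subgroup.map_comap_eq_self_of_surjective hf M).symm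
      have e2 : M.comap f = (⊥ : Subgroup (G ⧸ N)).comap f := heq.symm.trans hbot.symm
      rw [e2, Subgroup.map_comap_eq_self_of_surjective hf] at e1
      exact e1
  · rw [hrel]
    by_cases hrp : r = p
    · left; exact ⟨k, by rw [hrp]⟩
    · right
      intro hd
      exact hrp ((Nat.prime_dvd_prime_iff_eq hp.out hr.out).1 (hp.out.dvd_of_dvd_pow hd)).symm

/-! ### Relative shapes -/

section Rel

variable {G : Type*} [Group G]

/-- a series of type `p', p, p', p` above `V` -/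
def RelShape (p : ℕ) (V : Subgroup G) : Prop :=
  ∃ A B C : Subgroup G, A.Normal ∧ B.Normal ∧ C.Normal ∧ V ≤ A ∧ A ≤ B ∧ B ≤ C ∧
    ¬ p ∣ V.relIndex A ∧ (∃ k : ℕ, A.relIndex B = p ^ k) ∧ ¬ p ∣ B.relIndex C ∧
    ∃ k : ℕ, C.index = p ^ k

theorem relShape_of_quotient {p : ℕ} (V : Subgroup G) [V.Normal] (h : Shape4 p (G ⧸ V)) :
    RelShape p V := by
  obtain ⟨A, B, C, hA, hB, hC, hAB, hBC, hpA, ⟨k, hk⟩, hpC, ⟨l, hl⟩⟩ := h
  obtain ⟨f, hfdef⟩ : ∃ f : G →* G ⧸ V, f = QuotientGroup.mk' V := ⟨_, rfl⟩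
  have hf : Function.Surjective f := by rw [hfdef]; exact QuotientGroup.mk'_surjective V
  have hbot : (⊥ : Subgroup (G ⧸ V)).comap f = V := by
    rw [hfdef, MonoidHom.comap_bot, QuotientGroup.ker_mk']
  refine ⟨A.comap f, B.comap f, C.comap f, hA.comap f, hB.comap f, hC.comap f,
    hbot.symm.le.trans (Subgroup.comap_mono bot_le), Subgroup.comap_mono hAB,
    Subgroup.comap_mono hBC, ?_, ⟨k, ?_⟩, ?_, ⟨l, ?_⟩⟩
  · have e := relIndex_comap_comap hf ⊥ A
    rw [hbot, Subgroup.relIndex_bot_left] at e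
    rw [e]; exact hpA
  · rw [relIndex_comap_comap hf]; exact hk
  · rw [relIndex_comap_comap hf]; exact hpC
  · rw [Subgroup.index_comap_of_surjective C hf]; exact hl

theorem shape4_of_relShape_bot {p : ℕ} (h : RelShape p (⊥ : Subgroup G)) : Shape4 p G := by
  obtain ⟨A, B, C, hA, hB, hC, -, hAB, hBC, hpA, hk, hpC, hl⟩ := h
  rw [Subgroup.relIndex_bot_left] at hpA
  exact ⟨A, B, C, hA, hB, hC, hAB, hBC, hpA, hk, hpC, hl⟩

theorem RelShape.inf {p : ℕ} (hp : p.Prime) {V W : Subgroup G} [V.Normal] [W.Normal]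
    (h1 : RelShape p V) (h2 : RelShape p W) : RelShape p (V ⊓ W) := by
  obtain ⟨A₁, B₁, C₁, hA₁, hB₁, hC₁, hVA₁, hAB₁, hBC₁, hpA₁, ⟨k₁, hk₁⟩, hpC₁, ⟨l₁, hl₁⟩⟩ := h1
  obtain ⟨A₂, B₂, C₂, hA₂, hB₂, hC₂, hVA₂, hAB₂, hBC₂, hpA₂, ⟨k₂, hk₂⟩, hpC₂, ⟨l₂, hl₂⟩⟩ := h2
  refine ⟨A₁ ⊓ A₂, B₁ ⊓ B₂, C₁ ⊓ C₂, inferInstance, inferInstance, inferInstance,
    inf_le_inf hVA₁ hVA₂, inf_le_inf hAB₁ hAB₂, inf_le_inf hBC₁ hBC₂, ?_, ?_, ?_, ?_⟩
  · exact not_dvd_of_dvd_mul hp (relIndex_inf_inf_dvd V A₁ W A₂ hVA₁ hVA₂) hpA₁ hpA₂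
  · have h3 := relIndex_inf_inf_dvd A₁ B₁ A₂ B₂ hAB₁ hAB₂
    rw [hk₁, hk₂] at h3
    exact exists_pow_of_dvd_pow_mul_pow hp h3
  · exact not_dvd_of_dvd_mul hp (relIndex_inf_inf_dvd B₁ C₁ B₂ C₂ hBC₁ hBC₂) hpC₁ hpC₂
  · have h3 := relIndex_inf_inf_dvd C₁ ⊤ C₂ ⊤ le_top le_top
    simp only [top_inf_eq, Subgroup.relIndex_top_right] at h3
    rw [hl₁, hl₂] at h3
    exact exists_pow_of_dvd_pow_mul_pow hp h3

theorem shape4_of_relShape_pprime [Finite G] {p : ℕ} (hp : p.Prime) {L : Subgroup G}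
    (hL : ¬ p ∣ Nat.card L) (h : RelShape p L) : Shape4 p G := by
  obtain ⟨A, B, C, hA, hB, hC, hLA, hAB, hBC, hpA, hk, hpC, hl⟩ := h
  refine ⟨A, B, C, hA, hB, hC, hAB, hBC, ?_, hk, hpC, hl⟩
  rw [← Helper1.relIndex_mul_card_of_le hLA]
  exact fun h => ((Nat.Prime.dvd_mul hp).1 h).elim hpA hL

end Rel

/-! ### The Frattini case -/

theorem eq_of_frattini {G : Type u} [Group G] [Finite G] {p : ℕ} [hp : Fact p.Prime]
    (V : Subgroup G) [V.Normal]
    (hVp : IsPGroup p V) (hΦ : ∀ M : Subgroup G, IsCoatom M → V ≤ M)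
    (hO : ∀ L : Subgroup G, L.Normal → ¬ p ∣ Nat.card L → L = ⊥)
    (A : Subgroup G) [A.Normal] (hVA : V ≤ A) (hA : ¬ p ∣ V.relIndex A) : A = V := by
  have hN'p : IsPGroup p (V.subgroupOf A) := hVp.comap_subtype
  obtain ⟨a, ha⟩ := IsPGroup.iff_card.1 hN'p
  have hidx : (V.subgroupOf A).index = V.relIndex A := rfl
  have hcop : (Nat.card (V.subgroupOf A)).Coprime (V.subgroupOf A).index := by
    rw [ha, hidx]
    exact Nat.Coprime.pow_left a ((Nat.Prime.coprime_iff_not_dvd hp.out).2 hA)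
  obtain ⟨K', hK'⟩ := Subgroup.exists_right_complement'_of_coprime hcop
  have hK'card : Nat.card K' = (V.subgroupOf A).index :=
    (Helper1.isComplement'_iff_card_eq_index hcop).1 hK'
  have : Group.IsSolvable (V.subgroupOf A) := by
    have := hN'p.isNilpotent
    infer_instance
  have hKcard : Nat.card (K'.map A.subtype) = V.relIndex A := by
    rw [Subgroup.card_map_of_injective A.subtype_injective]; exact hK'card
  have hfr : ∀ g : G, ∃ v ∈ V,
      ∃ n ∈ Subgroup.normalizer ((K'.map A.subtype : Subgroup G) : Set G), g = v * n := by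
    intro g
    have hK''card : Nat.card (K'.map (MulAut.conjNormal g : MulAut A).toMonoidHom) =
        (V.subgroupOf A).index := by
      exact (Subgroup.card_map_of_injective
        (f := (MulAut.conjNormal g : MulAut A).toMonoidHom)
        (MulAut.conjNormal g : MulAut A).injective).trans hK'card
    have hK'' := (Helper1.isComplement'_iff_card_eq_index hcop).2 hK''card
    obtain ⟨c, hc⟩ := Helper1.sz_conj (V.subgroupOf A) hcop (Or.inl inferInstance) K' _ hK' hK''
    have hn : (c : G)⁻¹ * g ∈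
        Subgroup.normalizer ((K'.map A.subtype : Subgroup G) : Set G) := by
      apply mem_normalizer_of_conj_mem
      rintro _ ⟨k, hk, rfl⟩
      have h1 : (MulAut.conjNormal g : MulAut A) k ∈ MulAut.conj c • K' := by
        rw [hc]; exact Subgroup.mem_map_of_mem _ hk
      have h2 := PClassAbelSylow.mem_conj_smul.1 h1
      refine ⟨_, h2, ?_⟩
      simp only [Subgroup.coe_subtype, Subgroup.coe_mul, Subgroup.coe_inv,
        MulAut.conjNormal_apply]
      group
    have hbij : Function.Bijective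
        (fun x : ↥((V.subgroupOf A : Subgroup A) : Set A) × ↥((K' : Subgroup A) : Set A) =>
          x.1.1 * x.2.1) := hK'
    obtain ⟨⟨⟨v, hv⟩, ⟨k, hk⟩⟩, hvk⟩ := hbij.2 c
    have hvk' : (v : G) * (k : G) = c := congrArg Subtype.val hvk
    refine ⟨(v : G), Subgroup.mem_subgroupOf.1 hv, (k : G) * ((c : G)⁻¹ * g), ?_, ?_⟩
    · apply Subgroup.mul_mem _ _ hn
      exact Subgroup.le_normalizer (Subgroup.mem_map_of_mem _ hk)
    · rw [← hvk']; group
  have hNtop : Subgroup.normalizer ((K'.map A.subtype : Subgroup G) : Set G) = ⊤ := by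
    by_contra hne
    obtain ⟨M, hM, hle⟩ := (eq_top_or_exists_le_coatom _).resolve_left hne
    apply hM.1
    rw [eq_top_iff]
    intro g _
    obtain ⟨v, hv, n, hn, rfl⟩ := hfr g
    exact Subgroup.mul_mem _ (hΦ M hM hv) (hle hn)
  have hKn : (K'.map A.subtype).Normal := Subgroup.normalizer_eq_top_iff.1 hNtop
  have hKbot : K'.map A.subtype = ⊥ := hO _ hKn (by rw [hKcard]; exact hA)
  have h1 : V.relIndex A = 1 := by
    rw [← hKcard, hKbot, Subgroup.card_bot]
  exact le_antisymm (Subgroup.relIndex_eq_one.1 h1) hVA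

/-! ### The complemented cases -/

theorem shape4_of_complement_npc {G : Type u} [Group G] [Finite G] {p : ℕ} [hp : Fact p.Prime]
    (V M : Subgroup G) [V.Normal]
    (hVp : IsPGroup p V) (hsup : V ⊔ M = ⊤) (hinf : V ⊓ M = ⊥)
    (h : Cfsg.HasNormalPComplement p M) : Shape4 p G := by
  obtain ⟨K, hKn, hKcop, k, hKidx⟩ := Helper1.hasNormalPComplement_iff_exists.1 h
  obtain ⟨a, ha⟩ := IsPGroup.iff_card.1 hVp
  have hK₀M : K.map M.subtype ≤ M := Subgroup.map_subtype_le K
  have hK₀card : Nat.card (K.map M.subtype) = Nat.card K :=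
    Subgroup.card_map_of_injective M.subtype_injective
  have hnormV : ∀ X : Subgroup G, X ≤ Subgroup.normalizer (V : Set G) := by
    intro X
    rw [Subgroup.normalizer_eq_top]; exact le_top
  have hdisjM : M ⊓ V = ⊥ := by rw [inf_comm]; exact hinf
  have hdisjK : K.map M.subtype ⊓ V = ⊥ := by
    rw [eq_bot_iff, ← hdisjM]; exact inf_le_inf_right _ hK₀M
  have hcardG : Nat.card G = Nat.card M * Nat.card V := by
    have h1 := Helper1.card_sup_of_le_normalizer (hnormV M) hdisjM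
    rw [hsup, Subgroup.card_top] at h1; exact h1
  have hcardC : Nat.card (V ⊔ K.map M.subtype : Subgroup G) = Nat.card K * Nat.card V := by
    rw [Helper1.card_sup_of_le_normalizer (hnormV _) hdisjK, hK₀card]
  have hCn : (V ⊔ K.map M.subtype).Normal := by
    apply normal_of_sup_eq_top hsup
    · intro m hm d hd
      have h1 : (V ⊔ K.map M.subtype).map (MulAut.conj m).toMonoidHom ≤
          V ⊔ K.map M.subtype := by
        rw [Subgroup.map_sup]
        apply sup_le_sup
        · rintro _ ⟨x, hx, rfl⟩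
          exact (inferInstance : V.Normal).conj_mem x hx m
        · rintro _ ⟨_, ⟨x, hx, rfl⟩, rfl⟩
          exact ⟨⟨m, hm⟩ * x * ⟨m, hm⟩⁻¹, hKn.conj_mem x hx ⟨m, hm⟩, rfl⟩
      exact h1 ⟨d, hd, rfl⟩
    · intro v hv d hd
      exact Subgroup.mul_mem _ (Subgroup.mul_mem _ (Subgroup.mem_sup_left hv) hd)
        (Subgroup.inv_mem _ (Subgroup.mem_sup_left hv))
  refine ⟨⊥, V, V ⊔ K.map M.subtype, inferInstance, inferInstance, hCn, bot_le, le_sup_left,
    ?_, ⟨a, ?_⟩, ?_, ⟨k, ?_⟩⟩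
  · rw [Subgroup.card_bot]; exact hp.out.not_dvd_one
  · rw [Subgroup.relIndex_bot_left]; exact ha
  · have h1 := Helper1.relIndex_mul_card_of_le (le_sup_left : V ≤ V ⊔ K.map M.subtype)
    rw [hcardC] at h1
    have h2 : V.relIndex (V ⊔ K.map M.subtype) = Nat.card K :=
      Nat.eq_of_mul_eq_mul_right Nat.card_pos h1
    rw [h2]
    exact fun hd => (Nat.Prime.coprime_iff_not_dvd hp.out).1 hKcop.symm hd
  · have h1 := (V ⊔ K.map M.subtype).index_mul_card
    rw [hcardC, hcardG] at h1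
    have h2 := K.index_mul_card
    rw [← h2, hKidx] at h1
    have hpos : 0 < Nat.card K * Nat.card V := Nat.mul_pos Nat.card_pos Nat.card_pos
    apply Nat.eq_of_mul_eq_mul_right hpos
    rw [h1, mul_assoc]

theorem shape4_of_complement_prime {G : Type u} [Group G] [Finite G] {p : ℕ}
    [hp : Fact p.Prime] (V M : Subgroup G) [V.Normal]
    (hVp : IsPGroup p V) (hVne : V ≠ ⊥) (hsup : V ⊔ M = ⊤) (hinf : V ⊓ M = ⊥)
    (huniq : ∀ W : Subgroup G, Minimal (fun N : Subgroup G => N.Normal ∧ N ≠ ⊥) W → W = V)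
    (hprime : M.index.Prime) : Shape4 p G := by
  obtain ⟨a, ha⟩ := IsPGroup.iff_card.1 hVp
  have hnormV : M ≤ Subgroup.normalizer (V : Set G) := by
    rw [Subgroup.normalizer_eq_top]; exact le_top
  have hdisjM : M ⊓ V = ⊥ := by rw [inf_comm]; exact hinf
  have hcardG : Nat.card G = Nat.card M * Nat.card V := by
    have h1 := Helper1.card_sup_of_le_normalizer hnormV hdisjM
    rw [hsup, Subgroup.card_top] at h1; exact h1
  have hidx : M.index = Nat.card V := by
    have h1 := M.index_mul_card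
    rw [hcardG, mul_comm (Nat.card M)] at h1
    exact Nat.eq_of_mul_eq_mul_right Nat.card_pos h1
  have hcardV : Nat.card V = p := by
    rw [hidx] at hprime
    have hane : a ≠ 0 := by
      intro h0
      rw [h0, pow_zero] at ha
      rw [ha] at hprime
      exact Nat.not_prime_one hprime
    have hdvd : p ∣ Nat.card V := by rw [ha]; exact dvd_pow_self p hane
    exact ((Nat.prime_dvd_prime_iff_eq hp.out hprime).1 hdvd).symm
  have : IsCyclic V := isCyclic_of_prime_card hcardV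
  have hVcomm : ∀ x y : V, x * y = y * x := fun x y => IsCyclic.commGroup.mul_comm x y
  have hker_mem : ∀ z : G, z ∈ (MulAut.conjNormal : G →* MulAut V).ker ↔
      ∀ v ∈ V, z * v * z⁻¹ = v := by
    intro z
    rw [MonoidHom.mem_ker]
    constructor
    · intro h v hv
      have h1 : (MulAut.conjNormal z : MulAut V) ⟨v, hv⟩ = (1 : MulAut V) ⟨v, hv⟩ := by rw [h]
      have h2 := congrArg Subtype.val h1
      rw [MulAut.conjNormal_apply, MulAut.one_apply] at h2
      exact h2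
    · intro h
      apply MulEquiv.ext
      intro w
      apply Subtype.ext
      rw [MulAut.conjNormal_apply, MulAut.one_apply]
      exact h w w.2
  have hkeridx : ¬ p ∣ (MulAut.conjNormal : G →* MulAut V).ker.index := by
    rw [Subgroup.index_ker]
    have h1 : Nat.card (MulAut.conjNormal : G →* MulAut V).range ∣ Nat.card (MulAut V) :=
      Subgroup.card_subgroup_dvd_card _
    rw [IsCyclic.card_mulAut V, hcardV, Nat.totient_prime hp.out] at h1
    intro h2
    have h3 : p ≤ p - 1 := Nat.le_of_dvd (Nat.sub_pos_of_lt hp.out.one_lt) (h2.trans h1)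
    have h4 := hp.out.one_lt
    omega
  have hVker : V ≤ (MulAut.conjNormal : G →* MulAut V).ker := by
    intro v hv
    rw [hker_mem]
    intro w hw
    have h1 : v * w = w * v := congrArg Subtype.val (hVcomm ⟨v, hv⟩ ⟨w, hw⟩)
    rw [h1, mul_inv_cancel_right]
  have hDn : (M ⊓ (MulAut.conjNormal : G →* MulAut V).ker).Normal := by
    apply normal_of_sup_eq_top hsup
    · intro m hm d hd
      exact Subgroup.mem_inf.2 ⟨M.mul_mem (M.mul_mem hm (Subgroup.mem_inf.1 hd).1) (M.inv_mem hm),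
        (inferInstance : (MulAut.conjNormal : G →* MulAut V).ker.Normal).conj_mem d
          (Subgroup.mem_inf.1 hd).2 m⟩
    · intro v hv d hd
      have h1 : d * v * d⁻¹ = v := (hker_mem d).1 (Subgroup.mem_inf.1 hd).2 v hv
      have h2 : d * v = v * d := by
        calc d * v = (d * v * d⁻¹) * d := by group
          _ = v * d := by rw [h1]
      have h3 : v * d * v⁻¹ = d := by rw [← h2, mul_inv_cancel_right]
      rw [h3]; exact hd
  have hDbot : M ⊓ (MulAut.conjNormal : G →* MulAut V).ker = ⊥ := by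
    by_contra hD
    obtain ⟨W, hWle, hWmin⟩ := Finite.exists_le_minimal
      (p := fun N : Subgroup G => N.Normal ∧ N ≠ ⊥)
      (a := M ⊓ (MulAut.conjNormal : G →* MulAut V).ker) ⟨hDn, hD⟩
    have hWV : W = V := huniq W hWmin
    apply hVne
    rw [eq_bot_iff, ← hinf]
    exact le_inf le_rfl (by rw [← hWV]; exact hWle.trans inf_le_left)
  have hkerV : (MulAut.conjNormal : G →* MulAut V).ker = V := by
    apply le_antisymm _ hVker
    intro z hz
    have hzt : z ∈ V ⊔ M := by rw [hsup]; exact Subgroup.mem_top z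
    obtain ⟨v, hv, m, hm, rfl⟩ := Helper1.mem_sup_of_le_normalizer hnormV hzt
    have hmk : m ∈ (MulAut.conjNormal : G →* MulAut V).ker := by
      have h1 : m = v⁻¹ * (v * m) := by group
      rw [h1]
      exact Subgroup.mul_mem _ (Subgroup.inv_mem _ (hVker hv)) hz
    have hm1 : m ∈ M ⊓ (MulAut.conjNormal : G →* MulAut V).ker := Subgroup.mem_inf.2 ⟨hm, hmk⟩
    rw [hDbot, Subgroup.mem_bot] at hm1
    rw [hm1, mul_one]; exact hv
  refine ⟨⊥, V, ⊤, inferInstance, inferInstance, inferInstance, bot_le, le_top, ?_, ⟨1, ?_⟩, ?_,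
    ⟨0, ?_⟩⟩
  · rw [Subgroup.card_bot]; exact hp.out.not_dvd_one
  · rw [Subgroup.relIndex_bot_left, hcardV, pow_one]
  · rw [Subgroup.relIndex_top_right, ← hkerV]; exact hkeridx
  · rw [Subgroup.index_top, pow_zero]

/-! ### The main induction -/

theorem shape4_aux (p : ℕ) [hp : Fact p.Prime] : ∀ n : ℕ, ∀ (G : Type u) [Group G] [Finite G],
    Nat.card G = n → PSol p G → Hmax p G → Shape4 p G := by
  intro n
  induction n using Nat.strong_induction_on with
  | _ n ih =>
  intro G _ _ hn hps hmax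
  by_cases hbt : (⊥ : Subgroup G) = ⊤
  · refine ⟨⊥, ⊥, ⊥, inferInstance, inferInstance, inferInstance, le_rfl, le_rfl, ?_, ⟨0, ?_⟩, ?_,
      ⟨0, ?_⟩⟩
    · rw [Subgroup.card_bot]; exact hp.out.not_dvd_one
    · rw [Subgroup.relIndex_self, pow_zero]
    · rw [Subgroup.relIndex_self]; exact hp.out.not_dvd_one
    · rw [hbt, Subgroup.index_top, pow_zero]
  have ihq : ∀ (L : Subgroup G) [L.Normal], L ≠ ⊥ → Shape4 p (G ⧸ L) := by
    intro L _ hL
    apply ih (Nat.card (G ⧸ L)) _ (G ⧸ L) rfl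
      (hps.of_surjective (QuotientGroup.mk'_surjective L))
      (hmax.of_surjective (QuotientGroup.mk'_surjective L))
    rw [← hn, Subgroup.card_eq_card_quotient_mul_card_subgroup L]
    have h1 : 1 < Nat.card L := (Subgroup.one_lt_card_iff_ne_bot L).2 hL
    have hpos : 0 < Nat.card (G ⧸ L) := Nat.card_pos
    nlinarith
  obtain ⟨M₀, hM₀n, hM₀lt, hM₀⟩ := hps ⊥ inferInstance hbt
  have hM₀ne : M₀ ≠ ⊥ := bot_lt_iff_ne_bot.1 hM₀lt
  rw [Subgroup.relIndex_bot_left] at hM₀
  by_cases hOp : ∃ L : Subgroup G, L.Normal ∧ L ≠ ⊥ ∧ ¬ p ∣ Nat.card L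
  · obtain ⟨L, hLn, hLne, hLp⟩ := hOp
    have := hLn
    exact shape4_of_relShape_pprime hp.out hLp (relShape_of_quotient L (ihq L hLne))
  push Not at hOp
  have hO : ∀ L : Subgroup G, L.Normal → ¬ p ∣ Nat.card L → L = ⊥ := by
    intro L hLn hLp
    by_contra hne
    exact hLp (hOp L hLn hne)
  have hM₀p : ∃ k : ℕ, Nat.card M₀ = p ^ k := by
    rcases hM₀ with h | h
    · exact h
    · exact absurd (hOp M₀ hM₀n hM₀ne) h
  obtain ⟨k₀, hk₀⟩ := hM₀p
  obtain ⟨V, hVle, hVmin⟩ := Finite.exists_le_minimal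
    (p := fun N : Subgroup G => N.Normal ∧ N ≠ ⊥) (a := M₀) ⟨hM₀n, hM₀ne⟩
  have hVn : V.Normal := hVmin.prop.1
  have hVne : V ≠ ⊥ := hVmin.prop.2
  have hVp : IsPGroup p V := (IsPGroup.of_card hk₀).to_le hVle
  by_cases h2 : ∃ W : Subgroup G, Minimal (fun N : Subgroup G => N.Normal ∧ N ≠ ⊥) W ∧ W ≠ V
  · obtain ⟨W, hWmin, hWV⟩ := h2
    have hWn : W.Normal := hWmin.prop.1
    have hVW : V ⊓ W = ⊥ := by
      by_contra hne
      have h1 : V ≤ V ⊓ W := hVmin.le_of_le ⟨inferInstance, hne⟩ inf_le_left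
      have h2 : V ≤ W := h1.trans inf_le_right
      have h3 : W ≤ V := hWmin.le_of_le hVmin.prop h2
      exact hWV (le_antisymm h3 h2)
    have r := RelShape.inf hp.out (relShape_of_quotient V (ihq V hVne))
      (relShape_of_quotient W (ihq W hWmin.prop.2))
    rw [hVW] at r
    exact shape4_of_relShape_bot r
  push Not at h2
  obtain ⟨A, B, C, hAn, hBn, hCn, hVA, hAB, hBC, hpA, ⟨k, hk⟩, hpC, ⟨l, hl⟩⟩ :=
    relShape_of_quotient V (ihq V hVne)
  by_cases hΦ : ∀ M : Subgroup G, IsCoatom M → V ≤ M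
  · have := hAn
    have hAV : A = V := eq_of_frattini V hVp hΦ hO A hVA hpA
    obtain ⟨a, ha⟩ := IsPGroup.iff_card.1 hVp
    rw [hAV] at hk
    have e := Helper1.relIndex_mul_card_of_le (hVA.trans hAB)
    refine ⟨⊥, B, C, inferInstance, hBn, hCn, bot_le, hBC, ?_, ⟨k + a, ?_⟩, hpC, ⟨l, hl⟩⟩
    · rw [Subgroup.card_bot]; exact hp.out.not_dvd_one
    · rw [Subgroup.relIndex_bot_left, ← e, hk, ha, pow_add]
  · push Not at hΦ
    obtain ⟨M, hMco, hVM⟩ := hΦ
    have hVab := comm_of_minimal_normal_pgroup hVmin hVp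
    have hsup : V ⊔ M = ⊤ := hMco.2 _ (right_lt_sup.2 hVM)
    have hinf : V ⊓ M = ⊥ := by
      have hn : (V ⊓ M).Normal := by
        apply normal_of_sup_eq_top hsup
        · intro m hm d hd
          exact Subgroup.mem_inf.2 ⟨hVn.conj_mem d (Subgroup.mem_inf.1 hd).1 m,
            M.mul_mem (M.mul_mem hm (Subgroup.mem_inf.1 hd).2) (M.inv_mem hm)⟩
        · intro v hv d hd
          have hc : v * d = d * v := hVab v hv d (Subgroup.mem_inf.1 hd).1
          have h3 : v * d * v⁻¹ = d := by rw [hc, mul_inv_cancel_right]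
          rw [h3]; exact hd
      by_contra hne
      exact hVM ((hVmin.le_of_le ⟨hn, hne⟩ inf_le_left).trans inf_le_right)
    rcases hmax M hMco with hnpc | hprime
    · exact shape4_of_complement_npc V M hVp hsup hinf hnpc
    · exact shape4_of_complement_prime V M hVp hVne hsup hinf h2 hprime

theorem main_of_psol {G : Type u} [Group G] [Finite G] (p : ℕ) [Fact p.Prime]
    (hps : PSol p G) (hmax : Hmax p G) : Shape4 p G :=
  shape4_aux p _ G rfl hps hmax

end Cfsg.Agent.Helper4.PNilpMaxShape
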