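import Mathlib

set_option autoImplicit false

/-!
Zassenhaus project (helper6), G-side, piece G1 (helper4), part A: automorphisms of order 3 of
cyclic 2-groups and of generalized quaternion groups of order at least 16 are trivial.
-/

namespace Cfsg.Agent.Helper4.ZasG1

open QuaternionGroup

/-- an automorphism of order dividing 3 of a cyclic 2-group is trivial -/
theorem aut_cyclic_two {C : Type*} [Group C] [Finite C] [IsCyclic C] {k : ℕ}
    (hC : Nat.card C = 2 ^ k) (α : MulAut C) (hα : α ^ 3 = 1) : α = 1 := by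
  have h1 : orderOf α ∣ 3 := orderOf_dvd_of_pow_eq_one hα
  haveI : Finite (MulAut C) := by
    apply Nat.finite_of_card_ne_zero
    rw [IsCyclic.card_mulAut C, hC]
    exact (Nat.totient_pos.mpr (by positivity)).ne'
  have h2 : orderOf α ∣ Nat.card (MulAut C) := orderOf_dvd_natCard α
  rw [IsCyclic.card_mulAut C, hC] at h2
  have h3 : orderOf α ∣ 2 ^ k := by
    rcases Nat.eq_zero_or_pos k with h0 | h0
    · rw [h0, pow_zero, Nat.totient_one] at h2
      rw [h0, pow_zero]; exact h2
    · rw [Nat.totient_prime_pow Nat.prime_two h0] at h2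
      have : 2 ^ (k - 1) * (2 - 1) ∣ 2 ^ k := by
        rw [Nat.mul_one]
        exact pow_dvd_pow 2 (Nat.sub_le k 1)
      exact h2.trans this
  have h4 : orderOf α ∣ Nat.gcd 3 (2 ^ k) := Nat.dvd_gcd h1 h3
  have h5 : Nat.gcd 3 (2 ^ k) = 1 := by
    apply Nat.Coprime.pow_right
    norm_num
  rw [h5, Nat.dvd_one] at h4
  exact orderOf_eq_one_iff.mp h4


theorem a_pow' {n : ℕ} (k : ZMod (2 * n)) (j : ℕ) :
    (a k : QuaternionGroup n) ^ j = a ((j : ZMod (2 * n)) * k) := by
  induction j with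
  | zero => simp [a_zero]
  | succ j ih =>
    rw [pow_succ, ih, a_mul_a]
    congr 1
    push_cast
    ring

/-- a unit of `ZMod (2 * 2 ^ n)` with trivial cube is trivial -/
theorem unit_cube_two_pow {n : ℕ} (u : (ZMod (2 * 2 ^ n))ˣ) (hu : u ^ 3 = 1) : u = 1 := by
  have h1 : orderOf u ∣ 3 := orderOf_dvd_of_pow_eq_one hu
  have h2 : orderOf u ∣ Fintype.card (ZMod (2 * 2 ^ n))ˣ := orderOf_dvd_card
  have h3 : Nat.totient (2 * 2 ^ n) = 2 ^ n := by
    rw [show 2 * 2 ^ n = 2 ^ (n + 1) by ring, Nat.totient_prime_pow Nat.prime_two (by omega)]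
    simp
  rw [ZMod.card_units_eq_totient, h3] at h2
  have h4 : orderOf u ∣ Nat.gcd 3 (2 ^ n) := Nat.dvd_gcd h1 h2
  have h5 : Nat.gcd 3 (2 ^ n) = 1 := by
    apply Nat.Coprime.pow_right
    norm_num
  rw [h5, Nat.dvd_one] at h4
  exact orderOf_eq_one_iff.mp h4

/-- an automorphism of order dividing 3 of a generalized quaternion group of order at least 16
is trivial -/
theorem aut_quaternion {n : ℕ} (hn : 2 ≤ n) (β : MulAut (QuaternionGroup (2 ^ n)))
    (hβ : β ^ 3 = 1) : β = 1 := by
  have h4 : (4 : ℕ) < 2 * 2 ^ n := by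
    have : 2 ^ 2 ≤ 2 ^ n := Nat.pow_le_pow_right (by norm_num) hn
    omega
  have hβ3 : ∀ x, β (β (β x)) = x := by
    intro x
    have := congrArg (fun f : MulAut (QuaternionGroup (2 ^ n)) => f x) hβ
    simpa [pow_succ] using this
  -- the image of `a 1`
  have hord : orderOf (β (a 1)) = 2 * 2 ^ n := by
    rw [MulEquiv.orderOf_eq, orderOf_a_one]
  obtain ⟨k, hk⟩ : ∃ k, β (a 1) = a k := by
    rcases h : β (a 1) with k | k
    · exact ⟨k, rfl⟩
    · exfalso
      rw [h, orderOf_xa] at hord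
      omega
  have hak : ∀ i : ZMod (2 * 2 ^ n), β (a i) = a (i * k) := by
    intro i
    have h1 : (a i : QuaternionGroup (2 ^ n)) = (a 1) ^ i.val := by
      rw [a_one_pow, ZMod.natCast_zmod_val]
    rw [h1, map_pow, hk, a_pow', ZMod.natCast_zmod_val]
  have hk3 : k * k * k = 1 := by
    have := hβ3 (a 1)
    rw [hk, hak, hak] at this
    have h2 := QuaternionGroup.a.inj this
    exact h2
  have hk1 : k = 1 := by
    let u : (ZMod (2 * 2 ^ n))ˣ := Units.mkOfMulEqOne k (k * k) (by rw [← mul_assoc]; exact hk3)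
    have hu : u ^ 3 = 1 := by
      apply Units.ext
      show k ^ 3 = 1
      rw [pow_succ, pow_two]; exact hk3
    have := unit_cube_two_pow u hu
    have h2 := congrArg Units.val this
    exact h2
  rw [hk1] at hak
  simp only [mul_one] at hak
  obtain ⟨j, hj⟩ : ∃ j, β (xa 0) = xa j := by
    rcases h : β (xa 0) with j | j
    · exfalso
      have h1 : β (xa 0) = β (a j) := by rw [h, hak]
      have h2 := β.injective h1
      cases h2
    · exact ⟨j, rfl⟩
  have hxj : ∀ i : ZMod (2 * 2 ^ n), β (xa i) = xa (j + i) := by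
    intro i
    have h1 : (xa i : QuaternionGroup (2 ^ n)) = xa 0 * a i := by rw [xa_mul_a, zero_add]
    rw [h1, map_mul, hj, hak, xa_mul_a]
  have hj0 : j = 0 := by
    have := hβ3 (xa 0)
    rw [hj, hxj, hxj] at this
    have h2 := QuaternionGroup.xa.inj this
    have h3 : (3 : ZMod (2 * 2 ^ n)) * j = 0 := by
      rw [← h2]; ring
    have h4 : IsUnit ((3 : ℕ) : ZMod (2 * 2 ^ n)) := by
      rw [ZMod.isUnit_iff_coprime]
      rw [show 2 * 2 ^ n = 2 ^ (n + 1) by ring]
      apply Nat.Coprime.pow_right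
      norm_num
    have h5 : ((3 : ℕ) : ZMod (2 * 2 ^ n)) = 3 := by norm_cast
    rw [h5] at h4
    exact (h4.mul_right_eq_zero).mp h3
  rw [hj0] at hxj
  simp only [zero_add] at hxj
  ext x
  rcases x with i | i
  · rw [hak]; rfl
  · rw [hxj]; rfl

end Cfsg.Agent.Helper4.ZasG1
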