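import Mathlib
import Cfsg.Agent.S0016
import Cfsg.Agent.Helper4.ZasG1A

set_option autoImplicit false

/-!
Zassenhaus project (helper6), G-side, piece G1 (helper4), part B: a 2-group with a unique
involution admitting a non-trivial automorphism of order 3 is the quaternion group of order 8.
-/

namespace Cfsg.Agent.Helper4.ZasG1

theorem quaternion_eight_of_aut {Q : Type*} [Group Q] [Finite Q] (hQ : IsPGroup 2 Q)
    (huniq : ∀ H K : Subgroup Q, Nat.card H = 2 → Nat.card K = 2 → H = K)
    (α : MulAut Q) (hα : α ^ 3 = 1) (hne : α ≠ 1) : Nonempty (Q ≃* QuaternionGroup 2) := by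
  obtain ⟨k, hk⟩ := (IsPGroup.iff_card (p := 2)).mp hQ
  rcases Cfsg.Agent.S0016.result 2 hQ huniq with hc | ⟨-, n, ⟨e⟩⟩
  · exfalso
    exact hne (aut_cyclic_two hk α hα)
  · rcases n with _ | _ | n
    · exfalso
      have e' : Q ≃* QuaternionGroup 1 := e
      haveI := QuaternionGroup.quaternionGroup_one_isCyclic
      haveI : IsCyclic Q := isCyclic_of_surjective e'.symm e'.symm.surjective
      exact hne (aut_cyclic_two hk α hα)
    · exact ⟨e⟩
    · exfalso
      have h1 : (MulAut.congr e α) ^ 3 = 1 := by
        rw [← map_pow, hα, map_one]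
      have h2 := aut_quaternion (n := n + 1 + 1) (by omega) (MulAut.congr e α) h1
      apply hne
      have h3 : MulAut.congr e α = MulAut.congr e 1 := by rw [h2, map_one]
      exact (MulAut.congr e).injective h3

end Cfsg.Agent.Helper4.ZasG1
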