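import Mathlib

set_option autoImplicit false

/-!
Elementary tools for the classification-free analysis of groups of order `p⁴`
(used for essential subgroups of order `p⁴`).
-/

namespace Cfsg.Agent.Helper4.P4B

open scoped commutatorElement

variable {G : Type*} [Group G]

/-- A characteristic subgroup is invariant under every automorphism (elementwise form). -/
theorem char_inv (K : Subgroup G) [hK : K.Characteristic] (β : MulAut G) (y : G) (hy : y ∈ K) :
    β y ∈ K := by
  have h := (Subgroup.characteristic_iff_map_le.1 hK) β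
  exact h ⟨y, hy, rfl⟩

/-- internal direct product of two elementwise commuting subgroups -/
theorem nonempty_prod_mulEquiv [Finite G] (A B : Subgroup G)
    (hcomm : ∀ a ∈ A, ∀ b ∈ B, a * b = b * a) (hdisj : A ⊓ B = ⊥)
    (hcard : Nat.card A * Nat.card B = Nat.card G) : Nonempty (G ≃* A × B) := by
  let f : A × B →* G := MonoidHom.noncommCoprod A.subtype B.subtype
    (fun a b => hcomm a a.2 b b.2)
  have hinj : Function.Injective f := by
    rw [injective_iff_map_eq_one]
    rintro ⟨a, b⟩ hab
    have h1 : (a : G) * (b : G) = 1 := hab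
    have h2 : (a : G) = (b : G)⁻¹ := eq_inv_of_mul_eq_one_left h1
    have h3 : (a : G) ∈ A ⊓ B := ⟨a.2, by rw [h2]; exact B.inv_mem b.2⟩
    rw [hdisj, Subgroup.mem_bot] at h3
    have h4 : (b : G) = 1 := by rw [h3, one_mul] at h1; exact h1
    ext
    · exact h3
    · exact h4
  have hbij : Function.Bijective f := by
    rw [Nat.bijective_iff_injective_and_card]
    refine ⟨hinj, ?_⟩
    rw [Nat.card_prod, hcard]
  exact ⟨(MulEquiv.ofBijective f hbij).symm⟩

/-- A cyclic group of order `n` is `Multiplicative (ZMod n)`. -/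
theorem nonempty_mulEquiv_zmod (n : ℕ) [IsCyclic G] (h : Nat.card G = n) :
    Nonempty (G ≃* Multiplicative (ZMod n)) := by
  subst h
  exact ⟨(zmodCyclicMulEquiv (inferInstance : IsCyclic G)).symm⟩

/-- Order of the join with a disjoint normal subgroup. -/
theorem card_sup_of_disjoint (A N : Subgroup G) [N.Normal] (h : A ⊓ N = ⊥) :
    Nat.card (A ⊔ N : Subgroup G) = Nat.card A * Nat.card N := by
  have h1 : Nat.card N * N.relIndex (A ⊔ N) = Nat.card (A ⊔ N : Subgroup G) := by
    have := Subgroup.relIndex_mul_relIndex (H := (⊥ : Subgroup G)) (K := N) (L := A ⊔ N) bot_le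
      le_sup_right
    rw [Subgroup.relIndex_bot_left, Subgroup.relIndex_bot_left] at this
    exact this
  have h2 : N.relIndex (A ⊔ N) = Nat.card A := by
    rw [Subgroup.relIndex_sup_right, ← Subgroup.inf_relIndex_right, inf_comm, h,
      Subgroup.relIndex_bot_left]
  rw [← h1, h2, mul_comm]

variable {p : ℕ} [hp : Fact p.Prime]

/-- A subgroup generated by an element of order `p` meets a subgroup not containing it trivially. -/
theorem zpowers_inf_eq_bot (y : G) (hy : y ^ p = 1) (B : Subgroup G) (hyB : y ∉ B) :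
    Subgroup.zpowers y ⊓ B = ⊥ := by
  have hy1 : y ≠ 1 := fun h => hyB (h ▸ B.one_mem)
  have hord : orderOf y = p := by
    rcases (Nat.dvd_prime hp.out).1 (orderOf_dvd_of_pow_eq_one hy) with h | h
    · exact absurd (orderOf_eq_one_iff.1 h) hy1
    · exact h
  have hcard : Nat.card (Subgroup.zpowers y) = p := by rw [Nat.card_zpowers, hord]
  have : Fact (Nat.card (Subgroup.zpowers y)).Prime := ⟨hcard ▸ hp.out⟩
  rcases Subgroup.eq_bot_or_eq_top_of_prime_card (B.subgroupOf (Subgroup.zpowers y)) with h | h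
  · rw [eq_bot_iff]
    intro g hg
    have : (⟨g, hg.1⟩ : Subgroup.zpowers y) ∈ B.subgroupOf (Subgroup.zpowers y) := hg.2
    rw [h, Subgroup.mem_bot] at this
    rw [Subgroup.mem_bot]
    exact congrArg Subtype.val this
  · exfalso
    apply hyB
    have : (⟨y, Subgroup.mem_zpowers y⟩ : Subgroup.zpowers y) ∈
        B.subgroupOf (Subgroup.zpowers y) := by rw [h]; trivial
    exact this

theorem card_zpowers_of_pow (y : G) (hy : y ^ p = 1) (hy1 : y ≠ 1) :
    Nat.card (Subgroup.zpowers y) = p := by
  have hord : orderOf y = p := by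
    rcases (Nat.dvd_prime hp.out).1 (orderOf_dvd_of_pow_eq_one hy) with h | h
    · exact absurd (orderOf_eq_one_iff.1 h) hy1
    · exact h
  rw [Nat.card_zpowers, hord]

/-- In a group of order `p ^ n`, a proper containment of subgroups multiplies the order by at
least `p`. -/
theorem card_pow_of_lt [Finite G] {n : ℕ} (hG : Nat.card G = p ^ n) {A B : Subgroup G} (hAB : A < B)
    {i : ℕ} (hA : p ^ i ≤ Nat.card A) : p ^ (i + 1) ≤ Nat.card B := by
  have hBd : Nat.card B ∣ p ^ n := hG ▸ Subgroup.card_subgroup_dvd_card B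
  obtain ⟨j, -, hj⟩ := (Nat.dvd_prime_pow hp.out).1 hBd
  have hlt : Nat.card A < Nat.card B := by
    by_contra hcon
    push Not at hcon
    exact hAB.ne (Subgroup.eq_of_le_of_card_ge hAB.le hcon)
  rw [hj] at hlt ⊢
  have h1 : p ^ i < p ^ j := lt_of_le_of_lt hA hlt
  have h2 : i < j := (Nat.pow_lt_pow_iff_right hp.out.one_lt).1 h1
  exact Nat.pow_le_pow_right hp.out.pos h2

omit hp in
/-- A subgroup of a group of order `p ^ n` whose order is at least `p ^ n` is everything. -/
theorem eq_top_of_card_ge [Finite G] {n : ℕ} (hG : Nat.card G = p ^ n) (B : Subgroup G)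
    (hB : p ^ n ≤ Nat.card B) : B = ⊤ := by
  apply Subgroup.eq_top_of_card_eq
  apply le_antisymm (Subgroup.card_le_card_group B)
  rw [hG]; exact hB

/-- The order of a subgroup of a group of order `p ^ n`. -/
theorem exists_card_eq [Finite G] {n : ℕ} (hG : Nat.card G = p ^ n) (B : Subgroup G) :
    ∃ j ≤ n, Nat.card B = p ^ j :=
  (Nat.dvd_prime_pow hp.out).1 (hG ▸ Subgroup.card_subgroup_dvd_card B)

section Class2

/-- `⁅d, g * h⁆ = ⁅d, g⁆ * ⁅d, h⁆` when `⁅d, h⁆` is central. -/
theorem comm_mul_right (d g h : G) (hc : ⁅d, h⁆ ∈ Subgroup.center G) :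
    ⁅d, g * h⁆ = ⁅d, g⁆ * ⁅d, h⁆ := by
  have h1 : ⁅d, g * h⁆ = ⁅d, g⁆ * (g * ⁅d, h⁆ * g⁻¹) := by
    simp only [commutatorElement_def]; group
  rw [h1, (Subgroup.mem_center_iff.1 hc g), mul_assoc ⁅d, h⁆, mul_inv_cancel, mul_one]

/-- The commutator homomorphism `g ↦ ⁅d, g⁆` for `d` in the second centre. -/
def commHom (d : G) (hd : ∀ g : G, ⁅d, g⁆ ∈ Subgroup.center G) : G →* G where
  toFun g := ⁅d, g⁆
  map_one' := by simp
  map_mul' g h := comm_mul_right d g h (hd h)

theorem commHom_apply (d : G) (hd : ∀ g : G, ⁅d, g⁆ ∈ Subgroup.center G) (g : G) :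
    commHom d hd g = ⁅d, g⁆ := rfl

theorem commHom_ker (d : G) (hd : ∀ g : G, ⁅d, g⁆ ∈ Subgroup.center G) :
    (commHom d hd).ker = Subgroup.centralizer {d} := by
  ext g
  rw [MonoidHom.mem_ker, commHom_apply, commutatorElement_eq_one_iff_commute,
    Subgroup.mem_centralizer_singleton_iff]
  constructor
  · intro h; exact h.eq.symm
  · intro h; exact h.symm

theorem commHom_range_le (d : G) (hd : ∀ g : G, ⁅d, g⁆ ∈ Subgroup.center G) :
    (commHom d hd).range ≤ Subgroup.center G := by
  rintro _ ⟨g, rfl⟩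
  exact hd g

/-- The index of the centralizer of an element of the second centre divides the order of the
centre. -/
theorem index_centralizer_dvd [Finite G] (d : G) (hd : ∀ g : G, ⁅d, g⁆ ∈ Subgroup.center G) :
    (Subgroup.centralizer {d}).index ∣ Nat.card (Subgroup.center G) := by
  rw [← commHom_ker d hd, Subgroup.index_ker]
  exact Subgroup.card_dvd_of_le (commHom_range_le d hd)

theorem centralizer_ne_top (d : G) (hd : d ∉ Subgroup.center G) :
    Subgroup.centralizer {d} ≠ ⊤ := by
  intro h
  apply hd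
  rw [Subgroup.mem_center_iff]
  intro g
  have : g ∈ Subgroup.centralizer {d} := by rw [h]; trivial
  rw [Subgroup.mem_centralizer_singleton_iff] at this
  exact this

end Class2

end Cfsg.Agent.Helper4.P4B
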