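import Mathlib
import Cfsg.Agent.Helper6.ZasDefs
import Cfsg.Agent.Helper6.ZasGDefs
import Cfsg.Agent.Helper6.ZasK1
import Cfsg.Agent.Helper1.ZasG3B
import Cfsg.Agent.Helper1.MinNonNilp
import Cfsg.Agent.Helper4.P4B

set_option autoImplicit false

/-!
Zassenhaus project (helper6), G-side, piece G1 (helper4), part C: a finite solvable group with
`ZData` generated by elements of order 3 has a normal 3-complement of index 3 and no normal
subgroup of odd prime order (unless it has order 3).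
-/

namespace Cfsg.Agent.Helper4.ZasG1

open Cfsg.Agent.Helper6.Zas Cfsg.Agent.Helper6.ZasG Cfsg.Agent.Helper1 Cfsg.Agent.Helper1.ZasG

variable {Γ : Type*} [Group Γ] [Finite Γ]

theorem exists_normal_index_three [Group.IsSolvable Γ] [Nontrivial Γ]
    (hgen : Subgroup.closure {g : Γ | g ^ 3 = 1} = ⊤) :
    ∃ M : Subgroup Γ, M.Normal ∧ M.index = 3 := by
  obtain ⟨M, hMn, hMp⟩ := Cfsg.Agent.Helper1.exists_normal_prime_index Γ
  refine ⟨M, hMn, ?_⟩
  by_contra h3
  have hle : Subgroup.closure {g : Γ | g ^ 3 = 1} ≤ M := by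
    rw [Subgroup.closure_le]
    intro g hg
    have hg3 : g ^ 3 = 1 := hg
    have h1 : g ^ M.index ∈ M := Subgroup.pow_index_mem M g
    rw [pow_eq_pow_mod M.index hg3] at h1
    have hmod : M.index % 3 = 1 ∨ M.index % 3 = 2 := by
      have : M.index % 3 ≠ 0 := by
        intro h0
        have h3' : 3 ∣ M.index := Nat.dvd_of_mod_eq_zero h0
        rcases (Nat.dvd_prime hMp).mp h3' with h | h
        · omega
        · exact h3 h.symm
      omega
    rcases hmod with h | h
    · rw [h, pow_one] at h1; exact h1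
    · rw [h] at h1
      have h2 : g = (g ^ 2)⁻¹ := by
        rw [eq_inv_iff_mul_eq_one, ← pow_succ']; exact hg3
      rw [SetLike.mem_coe, h2]; exact M.inv_mem h1
  rw [hgen, top_le_iff] at hle
  rw [hle, Subgroup.index_top] at hMp
  exact Nat.not_prime_one hMp

theorem three_not_dvd_card (hZ : ZData Γ) (hgen : Subgroup.closure {g : Γ | g ^ 3 = 1} = ⊤)
    (M : Subgroup Γ) [hMn : M.Normal] (hM : M.index = 3) : ¬ 3 ∣ Nat.card M := by
  intro hdvd
  haveI : Fact (Nat.Prime 3) := ⟨Nat.prime_three⟩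
  obtain ⟨c, hc⟩ := exists_prime_orderOf_dvd_card' 3 hdvd
  have hex : ∃ a : Γ, a ^ 3 = 1 ∧ a ∉ M := by
    by_contra hne
    push Not at hne
    have hle : Subgroup.closure {g : Γ | g ^ 3 = 1} ≤ M := by
      rw [Subgroup.closure_le]; intro g hg; exact hne g hg
    rw [hgen, top_le_iff] at hle
    rw [hle, Subgroup.index_top] at hM
    omega
  obtain ⟨a, ha3, haM⟩ := hex
  have ha1 : a ≠ 1 := fun h => haM (h ▸ M.one_mem)
  have hao : orderOf a = 3 := orderOf_eq_prime ha3 ha1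
  have hco : orderOf (c : Γ) = 3 := by rw [Subgroup.orderOf_coe]; exact hc
  have hcyc : ∀ P : Sylow 3 Γ, IsCyclic P := fun P => sylow_cyclic_of_odd hZ (by norm_num) P
  obtain ⟨g, -, hg⟩ := Cfsg.Agent.Helper6.ZasK.exists_conj_mem_zpowers hcyc ⊤
    (Subgroup.mem_top a) (Subgroup.mem_top (c : Γ)) hao hco
  have h1 : g * a * g⁻¹ ∈ M := by
    have hle : Subgroup.zpowers (c : Γ) ≤ M := by rw [Subgroup.zpowers_le]; exact c.2
    exact hle hg
  apply haM
  have h2 := hMn.conj_mem _ h1 g⁻¹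
  simpa [mul_assoc] using h2

/-- if some subgroup of order 3 is normal, it contains all elements of order 3 -/
theorem mem_of_normal_three (hZ : ZData Γ) {c : Γ} (hc : orderOf c = 3)
    (hn : (Subgroup.zpowers c).Normal) {g : Γ} (hg : orderOf g = 3) : g ∈ Subgroup.zpowers c := by
  haveI : Fact (Nat.Prime 3) := ⟨Nat.prime_three⟩
  have hcyc : ∀ P : Sylow 3 Γ, IsCyclic P := fun P => sylow_cyclic_of_odd hZ (by norm_num) P
  obtain ⟨h, -, hh⟩ := Cfsg.Agent.Helper6.ZasK.exists_conj_mem_zpowers hcyc ⊤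
    (Subgroup.mem_top g) (Subgroup.mem_top c) hg hc
  have h2 := hn.conj_mem _ hh h⁻¹
  simpa [mul_assoc] using h2

/-- there is no normal subgroup of prime order `q ≥ 5` -/
theorem no_normal_prime (hZ : ZData Γ) (hgen : Subgroup.closure {g : Γ | g ^ 3 = 1} = ⊤)
    {q : ℕ} (hq : q.Prime) (hq2 : q ≠ 2) (hq3 : q ≠ 3) {c : Γ} (hc : orderOf c = q)
    (hn : (Subgroup.zpowers c).Normal) : False := by
  have hcop : Nat.Coprime 3 q := (Nat.coprime_primes Nat.prime_three hq).mpr (Ne.symm hq3)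
  -- every `g` with `g ^ 3 = 1` commutes with `c`
  have hcomm : ∀ g : Γ, g ^ 3 = 1 → g * c = c * g := by
    intro g hg3
    by_cases hg1 : g = 1
    · rw [hg1]; simp
    have hgo : orderOf g = 3 := orderOf_eq_prime hg3 hg1
    have hdisj : Subgroup.zpowers g ⊓ Subgroup.zpowers c = ⊥ := by
      apply Subgroup.inf_eq_bot_of_coprime
      rw [Nat.card_zpowers, Nat.card_zpowers, hgo, hc]
      exact hcop
    have hcard := Cfsg.Agent.Helper4.P4B.card_sup_of_disjoint (Subgroup.zpowers g)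
      (Subgroup.zpowers c) hdisj
    rw [Nat.card_zpowers, Nat.card_zpowers, hgo, hc] at hcard
    haveI := hZ.pq_cyclic _ 3 q Nat.prime_three hq hcard
    have hgA : g ∈ Subgroup.zpowers g ⊔ Subgroup.zpowers c :=
      Subgroup.mem_sup_left (Subgroup.mem_zpowers g)
    have hcA : c ∈ Subgroup.zpowers g ⊔ Subgroup.zpowers c :=
      Subgroup.mem_sup_right (Subgroup.mem_zpowers c)
    letI : CommGroup ↥(Subgroup.zpowers g ⊔ Subgroup.zpowers c) := IsCyclic.commGroup
    have h1 := mul_comm (⟨g, hgA⟩ : ↥(Subgroup.zpowers g ⊔ Subgroup.zpowers c)) ⟨c, hcA⟩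
    have h2 := congrArg Subtype.val h1
    exact h2
  -- `c` is central
  have hcen : ∀ x : Γ, x * c = c * x := by
    have hle : (⊤ : Subgroup Γ) ≤ Subgroup.centralizer {c} := by
      rw [← hgen, Subgroup.closure_le]
      intro g hg
      rw [SetLike.mem_coe, Subgroup.mem_centralizer_iff]
      intro h hh
      rw [Set.mem_singleton_iff] at hh
      rw [hh]
      exact (hcomm g hg).symm
    intro x
    have := Subgroup.mem_centralizer_iff.mp (hle (Subgroup.mem_top x)) c rfl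
    exact this.symm
  -- transfer into a Sylow `q`-subgroup
  haveI : Fact q.Prime := ⟨hq⟩
  have hqc : IsPGroup q (Subgroup.zpowers c) := by
    apply IsPGroup.of_card (n := 1)
    rw [Nat.card_zpowers, hc, pow_one]
  obtain ⟨P, hP⟩ := hqc.exists_le_sylow
  haveI : IsCyclic ↥(P : Subgroup Γ) := sylow_cyclic_of_odd hZ hq2 P
  letI : CommGroup ↥(P : Subgroup Γ) := IsCyclic.commGroup
  let τ : Γ →* ↥(P : Subgroup Γ) := MonoidHom.transfer (MonoidHom.id ↥(P : Subgroup Γ))
  have hτ1 : ∀ g : Γ, g ^ 3 = 1 → τ g = 1 := by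
    intro g hg
    have h1 : (τ g) ^ 3 = 1 := by rw [← map_pow, hg, map_one]
    have h2 : orderOf (τ g) ∣ 3 := orderOf_dvd_of_pow_eq_one h1
    obtain ⟨k, hk⟩ := P.2 (τ g)
    have h3 : orderOf (τ g) ∣ q ^ k := orderOf_dvd_of_pow_eq_one hk
    have h4 : orderOf (τ g) ∣ Nat.gcd 3 (q ^ k) := Nat.dvd_gcd h2 h3
    have h5 : Nat.gcd 3 (q ^ k) = 1 := Nat.Coprime.pow_right k hcop
    rw [h5, Nat.dvd_one] at h4
    exact orderOf_eq_one_iff.mp h4
  have hτ : ∀ g : Γ, τ g = 1 := by
    have hle : (⊤ : Subgroup Γ) ≤ τ.ker := by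
      rw [← hgen, Subgroup.closure_le]
      intro g hg
      exact MonoidHom.mem_ker.mpr (hτ1 g hg)
    intro g
    exact MonoidHom.mem_ker.mp (hle (Subgroup.mem_top g))
  have hkey : ∀ (k : ℕ) (g₀ : Γ), g₀⁻¹ * c ^ k * g₀ ∈ (P : Subgroup Γ) →
      g₀⁻¹ * c ^ k * g₀ = c ^ k := by
    intro k g₀ _
    have h1 : Commute g₀ (c ^ k) := Commute.pow_right (hcen g₀) k
    rw [mul_assoc, ← h1.eq, inv_mul_cancel_left]
  have h1 := MonoidHom.transfer_eq_pow (MonoidHom.id ↥(P : Subgroup Γ)) c hkey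
  have h2 : τ c = 1 := hτ c
  have h3 : c ^ (P : Subgroup Γ).index = 1 := by
    have h4 := h1.symm.trans h2
    have h5 := congrArg Subtype.val h4
    exact h5
  have h4 : q ∣ (P : Subgroup Γ).index := by
    have h5 := orderOf_dvd_of_pow_eq_one h3
    rwa [hc] at h5
  exact P.not_dvd_index h4

end Cfsg.Agent.Helper4.ZasG1
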