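import Mathlib
import Cfsg.Agent.Helper1.Fitting2
import Cfsg.Agent.Helper4.ZasG1B
import Cfsg.Agent.Helper4.ZasG1C

set_option autoImplicit false

/-!
Zassenhaus project (helper6), G-side, piece G1 (helper4), part D: the order of a finite solvable
group with `ZData` generated by elements of order 3 (not all in one subgroup) is at most 24.
-/

namespace Cfsg.Agent.Helper4.ZasG1

open Cfsg.Agent.Helper6.Zas Cfsg.Agent.Helper6.ZasG Cfsg.Agent.Helper1 Cfsg.Agent.Helper1.ZasG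

variable {Γ : Type*} [Group Γ] [Finite Γ]

theorem mem_centralizer_of_conjNormal_eq_one {N : Subgroup Γ} [N.Normal] {g : Γ}
    (h : (MulAut.conjNormal g : MulAut N) = 1) : g ∈ Subgroup.centralizer (N : Set Γ) := by
  rw [Subgroup.mem_centralizer_iff]
  intro x hx
  have h2 : ((MulAut.conjNormal g : MulAut N) ⟨x, hx⟩ : Γ) = x := by rw [h]; rfl
  rw [MulAut.conjNormal_apply] at h2
  have h3 : g * x = x * g := mul_inv_eq_iff_eq_mul.mp h2
  exact h3.symm

theorem pCore_odd_eq_bot (hZ : ZData Γ) (hgen : Subgroup.closure {g : Γ | g ^ 3 = 1} = ⊤)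
    {a b : Γ} (ha : orderOf a = 3) (hb : orderOf b = 3) (hab : b ∉ Subgroup.zpowers a)
    (q : ℕ) [hq : Fact q.Prime] (hq2 : q ≠ 2) : Cfsg.pCore q Γ = ⊥ := by
  by_contra hne
  have hP : IsPGroup q (Cfsg.pCore q Γ) := pCore_isPGroup q
  obtain ⟨c, hcP, hco, hall⟩ := exists_central_order_p hZ (Cfsg.pCore q Γ) hP hne
  have hn : (Subgroup.zpowers c).Normal := by
    constructor
    intro n hn g
    obtain ⟨k, rfl⟩ := Subgroup.mem_zpowers_iff.mp hn
    have h1 : g * c * g⁻¹ ∈ Subgroup.zpowers c := by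
      apply hall
      · exact (inferInstance : (Cfsg.pCore q Γ).Normal).conj_mem c hcP g
      · rw [← hco]
        exact (MulAut.conj g).orderOf_eq c
    have h2 : g * c ^ k * g⁻¹ = (g * c * g⁻¹) ^ k := by rw [conj_zpow]
    rw [h2]; exact Subgroup.zpow_mem _ h1 k
  by_cases hq3 : q = 3
  · rw [hq3] at hco
    have h1 := mem_of_normal_three hZ hco hn ha
    have h2 := mem_of_normal_three hZ hco hn hb
    have h3 : Subgroup.zpowers a = Subgroup.zpowers c := by
      apply Subgroup.eq_of_le_of_card_ge (Subgroup.zpowers_le.mpr h1)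
      rw [Nat.card_zpowers, Nat.card_zpowers, ha, hco]
    exact hab (h3 ▸ h2)
  · exact no_normal_prime hZ hgen hq.out hq2 hq3 hco hn

theorem centralizer_pCore_two_le [Group.IsSolvable Γ]
    (hodd : ∀ (q : ℕ) [Fact q.Prime], q ≠ 2 → Cfsg.pCore q Γ = ⊥) :
    Subgroup.centralizer (Cfsg.pCore 2 Γ : Set Γ) ≤ Cfsg.pCore 2 Γ := by
  have hF : Cfsg.fittingSubgroup Γ = Cfsg.pCore 2 Γ := by
    rw [fittingSubgroup_eq_fitJoin]
    apply le_antisymm
    · unfold fitJoin
      apply iSup_le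
      intro q
      by_cases hq : (q : ℕ) = 2
      · rw [hq]
      · haveI : Fact (q : ℕ).Prime := ⟨q.2⟩
        rw [hodd q hq]; exact bot_le
    · haveI : Fact (Nat.Prime 2) := ⟨Nat.prime_two⟩
      exact pCore_le_fitJoin 2
  rw [← hF]
  exact centralizer_fittingSubgroup_le

theorem pCore_two_quaternion (hZ : ZData Γ)
    (hcent : Subgroup.centralizer (Cfsg.pCore 2 Γ : Set Γ) ≤ Cfsg.pCore 2 Γ) {a : Γ}
    (ha : orderOf a = 3) : Nonempty (↥(Cfsg.pCore 2 Γ) ≃* QuaternionGroup 2) := by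
  haveI : Fact (Nat.Prime 2) := ⟨Nat.prime_two⟩
  have hQ : IsPGroup 2 (Cfsg.pCore 2 Γ) := pCore_isPGroup 2
  haveI hn : (Cfsg.pCore 2 Γ).Normal := inferInstance
  have hα3 : (MulAut.conjNormal a : MulAut ↥(Cfsg.pCore 2 Γ)) ^ 3 = 1 := by
    rw [← map_pow, ← ha, pow_orderOf_eq_one, map_one]
  have hne : (MulAut.conjNormal a : MulAut ↥(Cfsg.pCore 2 Γ)) ≠ 1 := by
    intro h1
    have haQ := hcent (mem_centralizer_of_conjNormal_eq_one h1)
    obtain ⟨k, hk⟩ := hQ ⟨a, haQ⟩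
    have h2 : a ^ 2 ^ k = 1 := by
      have := congrArg Subtype.val hk
      simpa using this
    have h3 : orderOf a ∣ 2 ^ k := orderOf_dvd_of_pow_eq_one h2
    rw [ha] at h3
    have h4 := Nat.Prime.dvd_of_dvd_pow Nat.prime_three h3
    omega
  exact quaternion_eight_of_aut hQ (fun H K hH hK => unique_order_p hZ _ hQ H K hH hK)
    _ hα3 hne

theorem prime_two_or_three (hZ : ZData Γ)
    (hcent : Subgroup.centralizer (Cfsg.pCore 2 Γ : Set Γ) ≤ Cfsg.pCore 2 Γ)
    (hcard : Nat.card ↥(Cfsg.pCore 2 Γ) = 8) {g : Γ} {r : ℕ} (hr : r.Prime)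
    (hg : orderOf g = r) : r = 2 ∨ r = 3 := by
  by_contra hne
  push Not at hne
  obtain ⟨hr2, hr3⟩ := hne
  haveI : Fact r.Prime := ⟨hr⟩
  haveI : Fact (Nat.Prime 2) := ⟨Nat.prime_two⟩
  haveI hn : (Cfsg.pCore 2 Γ).Normal := inferInstance
  have hQ : IsPGroup 2 (Cfsg.pCore 2 Γ) := pCore_isPGroup 2
  have hαr : (MulAut.conjNormal g : MulAut ↥(Cfsg.pCore 2 Γ)) ^ r = 1 := by
    rw [← map_pow, ← hg, pow_orderOf_eq_one, map_one]
  have hP : IsPGroup r (Subgroup.zpowers (MulAut.conjNormal g : MulAut ↥(Cfsg.pCore 2 Γ))) := by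
    intro x
    refine ⟨1, ?_⟩
    obtain ⟨i, hi⟩ := Subgroup.mem_zpowers_iff.mp x.2
    apply Subtype.ext
    rw [pow_one, Subgroup.coe_pow, ← hi, ← zpow_natCast, ← zpow_mul, mul_comm, zpow_mul,
      zpow_natCast, hαr, one_zpow]
    rfl
  have hmod := hP.card_modEq_card_fixedPoints ↥(Cfsg.pCore 2 Γ)
  have hK : Nat.card (MulAction.fixedPoints
      (Subgroup.zpowers (MulAut.conjNormal g : MulAut ↥(Cfsg.pCore 2 Γ))) ↥(Cfsg.pCore 2 Γ)) =
      Nat.card (FixedPoints.subgroup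
      (Subgroup.zpowers (MulAut.conjNormal g : MulAut ↥(Cfsg.pCore 2 Γ))) ↥(Cfsg.pCore 2 Γ)) := rfl
  rw [hK, hcard] at hmod
  have hK8 : Nat.card (FixedPoints.subgroup
      (Subgroup.zpowers (MulAut.conjNormal g : MulAut ↥(Cfsg.pCore 2 Γ))) ↥(Cfsg.pCore 2 Γ)) ∣ 8 := by
    rw [← hcard]; exact Subgroup.card_subgroup_dvd_card _
  -- the involution is fixed
  obtain ⟨z, hz⟩ := exists_prime_orderOf_dvd_card' (G := ↥(Cfsg.pCore 2 Γ)) 2
    (by rw [hcard]; norm_num)
  have hαz : (MulAut.conjNormal g : MulAut ↥(Cfsg.pCore 2 Γ)) z = z := by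
    apply Subtype.ext
    rw [MulAut.conjNormal_apply]
    apply hZ.invol
    · have h1 : orderOf (g * (z : Γ) * g⁻¹) = orderOf (z : Γ) := (MulAut.conj g).orderOf_eq (z : Γ)
      rw [h1, Subgroup.orderOf_coe]; exact hz
    · rw [Subgroup.orderOf_coe]; exact hz
  have hzK : z ∈ FixedPoints.subgroup
      (Subgroup.zpowers (MulAut.conjNormal g : MulAut ↥(Cfsg.pCore 2 Γ))) ↥(Cfsg.pCore 2 Γ) := by
    rw [FixedPoints.mem_subgroup]
    rintro ⟨β, hβ⟩
    have hle : Subgroup.zpowers (MulAut.conjNormal g : MulAut ↥(Cfsg.pCore 2 Γ)) ≤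
        MulAction.stabilizer (MulAut ↥(Cfsg.pCore 2 Γ)) z := by
      rw [Subgroup.zpowers_le, MulAction.mem_stabilizer_iff]
      exact hαz
    exact MulAction.mem_stabilizer_iff.mp (hle hβ)
  have h2K : 2 ∣ Nat.card (FixedPoints.subgroup
      (Subgroup.zpowers (MulAut.conjNormal g : MulAut ↥(Cfsg.pCore 2 Γ))) ↥(Cfsg.pCore 2 Γ)) := by
    have := orderOf_dvd_natCard (⟨z, hzK⟩ : ↥(FixedPoints.subgroup
      (Subgroup.zpowers (MulAut.conjNormal g : MulAut ↥(Cfsg.pCore 2 Γ))) ↥(Cfsg.pCore 2 Γ)))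
    rwa [Subgroup.orderOf_mk, hz] at this
  generalize hm : Nat.card (FixedPoints.subgroup
      (Subgroup.zpowers (MulAut.conjNormal g : MulAut ↥(Cfsg.pCore 2 Γ))) ↥(Cfsg.pCore 2 Γ)) = m
      at hmod hK8 h2K
  have hm8 : m ≤ 8 := Nat.le_of_dvd (by norm_num) hK8
  have hr5 : 5 ≤ r := by
    have := hr.two_le
    by_contra hlt
    push Not at hlt
    interval_cases r
    · exact hr2 rfl
    · exact hr3 rfl
    · exact absurd hr (by decide)
  have hcases : m = 2 ∨ m = 4 ∨ m = 8 := by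
    interval_cases m <;> simp_all <;> omega
  rcases hcases with h | h | h
  · rw [h] at hmod
    have h6 : r ∣ 8 - 2 := (Nat.modEq_iff_dvd' (by norm_num)).mp hmod.symm
    have h7 : r ≤ 6 := Nat.le_of_dvd (by norm_num) h6
    interval_cases r
    · omega
    · exact absurd hr (by decide)
  · rw [h] at hmod
    have h6 : r ∣ 8 - 4 := (Nat.modEq_iff_dvd' (by norm_num)).mp hmod.symm
    have h7 : r ≤ 4 := Nat.le_of_dvd (by norm_num) h6
    omega
  · -- `g` centralizes `Q`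
    have htop : FixedPoints.subgroup
        (Subgroup.zpowers (MulAut.conjNormal g : MulAut ↥(Cfsg.pCore 2 Γ))) ↥(Cfsg.pCore 2 Γ) = ⊤ := by
      apply Subgroup.eq_top_of_card_eq
      rw [hm, h, hcard]
    have h1 : (MulAut.conjNormal g : MulAut ↥(Cfsg.pCore 2 Γ)) = 1 := by
      ext x
      have hx : x ∈ FixedPoints.subgroup
        (Subgroup.zpowers (MulAut.conjNormal g : MulAut ↥(Cfsg.pCore 2 Γ))) ↥(Cfsg.pCore 2 Γ) := by
        rw [htop]; exact Subgroup.mem_top x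
      rw [FixedPoints.mem_subgroup] at hx
      have := hx ⟨_, Subgroup.mem_zpowers _⟩
      exact congrArg Subtype.val this
    have hgQ := hcent (mem_centralizer_of_conjNormal_eq_one h1)
    have h3 : orderOf (⟨g, hgQ⟩ : ↥(Cfsg.pCore 2 Γ)) ∣ 8 := by
      rw [← hcard]; exact orderOf_dvd_natCard _
    rw [Subgroup.orderOf_mk, hg] at h3
    have h7 : r ≤ 8 := Nat.le_of_dvd (by norm_num) h3
    interval_cases r <;> first | omega | exact absurd hr (by decide)

end Cfsg.Agent.Helper4.ZasG1
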