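import Mathlib
import Cfsg.Agent.Helper1.ZasG3A
import Cfsg.Agent.Helper4.ZasG1D

set_option autoImplicit false

/-!
Zassenhaus project (helper6), G-side, piece G1 (helper4), part E: `mprop_of_solvable`.
-/

namespace Cfsg.Agent.Helper4.ZasG1

open Cfsg.Agent.Helper6.Zas Cfsg.Agent.Helper6.ZasG Cfsg.Agent.Helper1 Cfsg.Agent.Helper1.ZasG

theorem card_of_cover {G X : Type*} [Group G] [Group X] {H : Subgroup G} (h : Cover H X) :
    Nat.card H = 2 * Nat.card X := by
  obtain ⟨f, hf, hk⟩ := h
  have h1 := Subgroup.card_eq_card_quotient_mul_card_subgroup f.ker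
  rw [hk, Nat.card_congr (QuotientGroup.quotientKerEquivOfSurjective f hf).toEquiv] at h1
  rw [h1, mul_comm]

theorem card_alt_four : Nat.card (alternatingGroup (Fin 4)) = 12 := by
  have h := two_mul_card_alternatingGroup (α := Fin 4)
  rw [Fintype.card_perm, Fintype.card_fin] at h
  rw [Nat.card_eq_fintype_card]
  have : (4 : ℕ).factorial = 24 := by decide
  omega

theorem card_alt_five : Nat.card (alternatingGroup (Fin 5)) = 60 := by
  have h := two_mul_card_alternatingGroup (α := Fin 5)
  rw [Fintype.card_perm, Fintype.card_fin] at h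
  rw [Nat.card_eq_fintype_card]
  have : (5 : ℕ).factorial = 120 := by decide
  omega

variable {Γ : Type*} [Group Γ] [Finite Γ]

theorem card_le [Group.IsSolvable Γ] (hZ : ZData Γ)
    (hgen : Subgroup.closure {g : Γ | g ^ 3 = 1} = ⊤) {a b : Γ} (ha : orderOf a = 3)
    (hb : orderOf b = 3) (hab : b ∉ Subgroup.zpowers a) : Nat.card Γ ≤ 24 := by
  haveI : Nontrivial Γ := ⟨⟨a, 1, fun h => by rw [h, orderOf_one] at ha; omega⟩⟩
  obtain ⟨M, hMn, hM3⟩ := exists_normal_index_three hgen
  haveI := hMn
  have h3M := three_not_dvd_card hZ hgen M hM3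
  have hodd : ∀ (q : ℕ) [Fact q.Prime], q ≠ 2 → Cfsg.pCore q Γ = ⊥ :=
    fun q _ hq2 => pCore_odd_eq_bot hZ hgen ha hb hab q hq2
  have hcent := centralizer_pCore_two_le hodd
  obtain ⟨e⟩ := pCore_two_quaternion hZ hcent ha
  have hcard : Nat.card ↥(Cfsg.pCore 2 Γ) = 8 := by
    rw [Nat.card_congr e.toEquiv, Nat.card_eq_fintype_card, QuaternionGroup.card]
  have hM2 : IsPGroup 2 M := by
    have hpos : Nat.card M ≠ 0 := Nat.card_pos.ne'
    have h1 := Nat.eq_prime_pow_of_unique_prime_dvd hpos (p := 2) (by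
      intro d hd hdvd
      haveI : Fact d.Prime := ⟨hd⟩
      obtain ⟨x, hx⟩ := exists_prime_orderOf_dvd_card' d hdvd
      have hx' : orderOf (x : Γ) = d := by rw [Subgroup.orderOf_coe]; exact hx
      rcases prime_two_or_three hZ hcent hcard hd hx' with h | h
      · exact h
      · exfalso; exact h3M (h ▸ hdvd))
    exact IsPGroup.of_card h1
  have hle : M ≤ Cfsg.pCore 2 Γ := le_pCore hMn hM2
  have h1 : Nat.card M ≤ 8 := hcard ▸ Subgroup.card_le_of_le hle
  have h2 : Nat.card M * M.index = Nat.card Γ := Subgroup.card_mul_index M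
  rw [hM3] at h2
  omega

theorem core [Group.IsSolvable Γ] (hZ : ZData Γ)
    (hgen : Subgroup.closure {g : Γ | g ^ 3 = 1} = ⊤) :
    Nat.card Γ = 1 ∨ Nat.card Γ = 3 ∨ Cover (⊤ : Subgroup Γ) (alternatingGroup (Fin 4)) := by
  by_cases h1 : ∀ g : Γ, g ^ 3 = 1 → g = 1
  · left
    have h2 : Subgroup.closure {g : Γ | g ^ 3 = 1} = ⊥ := by
      rw [Subgroup.closure_eq_bot_iff]
      intro g hg
      exact h1 g hg
    rw [hgen] at h2
    have h3 : Nat.card (⊤ : Subgroup Γ) = 1 := by rw [h2]; exact Subgroup.card_bot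
    rwa [Subgroup.card_top] at h3
  push Not at h1
  obtain ⟨a, ha3, ha1⟩ := h1
  have hao : orderOf a = 3 := orderOf_eq_prime ha3 ha1
  by_cases h2 : ∀ g : Γ, g ^ 3 = 1 → g ∈ Subgroup.zpowers a
  · right; left
    have hle : Subgroup.closure {g : Γ | g ^ 3 = 1} ≤ Subgroup.zpowers a := by
      rw [Subgroup.closure_le]; exact fun g hg => h2 g hg
    rw [hgen, top_le_iff] at hle
    have h3 : Nat.card (Subgroup.zpowers a) = 3 := by rw [Nat.card_zpowers, hao]
    rw [hle, Subgroup.card_top] at h3
    exact h3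
  push Not at h2
  obtain ⟨b, hb3, hbA⟩ := h2
  have hb1 : b ≠ 1 := fun h => hbA (h ▸ Subgroup.one_mem _)
  have hbo : orderOf b = 3 := orderOf_eq_prime hb3 hb1
  right; right
  have hle := card_le hZ hgen hao hbo hbA
  rcases hZ.f1 a b hao hbo with hc | hc | hc
  · exfalso
    exact hbA (mem_zpowers_of_commute hZ Nat.prime_three hc.eq hao hbo)
  · have hcard := card_of_cover hc
    rw [card_alt_four] at hcard
    have htop : Subgroup.closure {a, b} = ⊤ := by
      apply Subgroup.eq_top_of_le_card
      rw [hcard]; exact hle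
    rw [← htop]; exact hc
  · exfalso
    have hcard := card_of_cover hc
    rw [card_alt_five] at hcard
    have := Subgroup.card_le_card_group (Subgroup.closure {a, b})
    omega

/-- PIECE G1 (solvable case of (M)). -/
theorem mprop_of_solvable {G₀ : Type*} [Group G₀] [Finite G₀] (hZ : ZData G₀) (G : Subgroup G₀)
    (hsol : Group.IsSolvable G) : MProp G := by
  have hTG : threeGen G ≤ G := by
    unfold threeGen
    rw [Subgroup.closure_le]
    intro g hg
    exact hg.1
  haveI : Group.IsSolvable ↥(threeGen G) :=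
    solvable_of_solvable_injective (Subgroup.inclusion_injective hTG)
  have hZT : ZData ↥(threeGen G) := zdata_subgroup hZ (threeGen G)
  have hgen : Subgroup.closure {g : ↥(threeGen G) | g ^ 3 = 1} = ⊤ := by
    have h1 := Subgroup.closure_closure_coe_preimage (k := {g : G₀ | g ∈ G ∧ g ^ 3 = 1})
    rw [eq_top_iff]
    unfold threeGen
    rw [← h1]
    apply Subgroup.closure_mono
    intro g hg
    have h2 : (g : G₀) ^ 3 = 1 := hg.2
    apply Subtype.ext
    simpa using h2
  unfold MProp
  rcases core hZT hgen with h | h | h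
  · left; exact Subgroup.card_eq_one.mp h
  · right; left; exact h
  · right; right; left
    have h2 := (cover_map_iff (threeGen G).subtype (threeGen G).subtype_injective ⊤).mpr h
    rwa [← MonoidHom.range_eq_map, Subgroup.range_subtype] at h2

end Cfsg.Agent.Helper4.ZasG1
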