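import Mathlib
import Cfsg.Agent.S0016
import Cfsg.Agent.Helper1.MinNonPNilp

set_option autoImplicit false

namespace Cfsg.Agent.Helper4

variable {G : Type*} [Group G]

/-- internal direct product of two elementwise commuting subgroups -/
theorem nonempty_prod_mulEquiv_of_commute [Finite G] (A B : Subgroup G)
    (hcomm : ∀ a ∈ A, ∀ b ∈ B, a * b = b * a) (hdisj : A ⊓ B = ⊥)
    (hcard : Nat.card A * Nat.card B = Nat.card G) : Nonempty (A × B ≃* G) := by
  let f : A × B →* G := MonoidHom.noncommCoprod A.subtype B.subtype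
    (fun a b => hcomm a a.2 b b.2)
  have hinj : Function.Injective f := by
    rw [injective_iff_map_eq_one]
    rintro ⟨a, b⟩ hab
    have h1 : (a : G) * (b : G) = 1 := hab
    have h2 : (a : G) = (b : G)⁻¹ := eq_inv_of_mul_eq_one_left h1
    have h3 : (a : G) ∈ A ⊓ B := ⟨a.2, by rw [h2]; exact B.inv_mem b.2⟩
    rw [hdisj, Subgroup.mem_bot] at h3
    have h4 : (b : G) = 1 := by rw [h3, one_mul] at h1; exact h1
    ext
    · exact h3
    · exact h4
  have hbij : Function.Bijective f := by
    rw [Nat.bijective_iff_injective_and_card]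
    refine ⟨hinj, ?_⟩
    rw [Nat.card_prod, hcard]
  exact ⟨MulEquiv.ofBijective f hbij⟩

/-- In a finite cyclic group, an element of order dividing `p` is a power of any nonidentity element
of order dividing `p`. -/
theorem mem_zpowers_of_isCyclic_of_pow_prime [Finite G] [IsCyclic G] {p : ℕ} (hp : p.Prime) (h k : G)
    (hh : h ^ p = 1) (hk : k ^ p = 1) (hk1 : k ≠ 1) : h ∈ Subgroup.zpowers k := by
  classical
  have : Fintype G := Fintype.ofFinite G
  have hle := IsCyclic.card_pow_eq_one_le (α := G) hp.pos
  have hpF : Fact p.Prime := ⟨hp⟩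
  have hord : orderOf k = p := orderOf_eq_prime hk hk1
  have hsub : (Finset.univ.filter (fun g : G => g ∈ Subgroup.zpowers k)) ⊆
      Finset.univ.filter (fun g : G => g ^ p = 1) := by
    intro g hg
    simp only [Finset.mem_filter, Finset.mem_univ, true_and] at hg ⊢
    obtain ⟨i, rfl⟩ := Subgroup.mem_zpowers_iff.1 hg
    rw [← zpow_natCast, ← zpow_mul, mul_comm, zpow_mul, zpow_natCast, hk, one_zpow]
  have hcard : (Finset.univ.filter (fun g : G => g ∈ Subgroup.zpowers k)).card = p := by
    have h1 : Nat.card (Subgroup.zpowers k) = p := by rw [Nat.card_zpowers, hord]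
    rw [← h1, Nat.card_eq_fintype_card, Fintype.card_subtype]
  have heq := Finset.eq_of_subset_of_card_le hsub (by rw [hcard]; exact hle)
  have hmem : h ∈ Finset.univ.filter (fun g : G => g ^ p = 1) := by
    simp only [Finset.mem_filter, Finset.mem_univ, true_and]; exact hh
  rw [← heq] at hmem
  simpa using hmem

end Cfsg.Agent.Helper4
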