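import Mathlib
import Cfsg.Agent.Helper4.CyclicCentA

set_option autoImplicit false

namespace Cfsg.Agent.Helper4

/-- all abelian subgroups are cyclic -/
def AbelianSubgroupsCyclic (K : Type*) [Group K] : Prop :=
  ∀ A : Subgroup K, IsMulCommutative A → IsCyclic A

theorem AbelianSubgroupsCyclic.subgroup {K : Type*} [Group K] (h : AbelianSubgroupsCyclic K)
    (H : Subgroup K) : AbelianSubgroupsCyclic H := by
  intro A hA
  have h1 : IsMulCommutative (A.map H.subtype) := by
    refine ⟨⟨?_⟩⟩
    rintro ⟨_, ⟨a, ha, rfl⟩⟩ ⟨_, ⟨b, hb, rfl⟩⟩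
    apply Subtype.ext
    have h2 : (⟨a, ha⟩ : A) * ⟨b, hb⟩ = ⟨b, hb⟩ * ⟨a, ha⟩ := hA.is_comm.comm _ _
    have h3 : a * b = b * a := congrArg Subtype.val h2
    have h4 : (a : K) * (b : K) = (b : K) * (a : K) := congrArg Subtype.val h3
    exact h4
  have h2 : IsCyclic (A.map H.subtype) := h _ h1
  exact (Subgroup.equivMapOfInjective A H.subtype H.subtype_injective).isCyclic.2 h2

theorem AbelianSubgroupsCyclic.key {K : Type*} [Group K] [Finite K] (h : AbelianSubgroupsCyclic K)
    {p : ℕ} (hp : p.Prime) (z a : K) (hz : z ∈ Subgroup.center K) (hzo : orderOf z = p)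
    (ha : a ^ p = 1) : a ∈ Subgroup.zpowers z := by
  have hA : IsMulCommutative (Subgroup.closure ({z, a} : Set K)) := by
    apply Subgroup.isMulCommutative_closure
    rintro x (rfl | rfl) y (rfl | rfl)
    · rfl
    · exact (Subgroup.mem_center_iff.1 hz y).symm
    · exact (Subgroup.mem_center_iff.1 hz x)
    · rfl
  have hcyc : IsCyclic (Subgroup.closure ({z, a} : Set K)) := h _ hA
  have hzA : z ∈ Subgroup.closure ({z, a} : Set K) := Subgroup.subset_closure (by simp)
  have haA : a ∈ Subgroup.closure ({z, a} : Set K) := Subgroup.subset_closure (by simp)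
  have hz1 : z ≠ 1 := by
    intro h1
    rw [h1, orderOf_one] at hzo
    exact hp.one_lt.ne hzo
  have hzp : z ^ p = 1 := by rw [← hzo]; exact pow_orderOf_eq_one z
  have hmem := mem_zpowers_of_isCyclic_of_pow_prime hp
    (⟨a, haA⟩ : Subgroup.closure ({z, a} : Set K)) ⟨z, hzA⟩
    (Subtype.ext (by simpa using ha)) (Subtype.ext (by simpa using hzp))
    (fun h1 => hz1 (congrArg Subtype.val h1))
  obtain ⟨i, hi⟩ := Subgroup.mem_zpowers_iff.1 hmem
  rw [Subgroup.mem_zpowers_iff]
  refine ⟨i, ?_⟩
  have := congrArg Subtype.val hi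
  simpa using this

/-- a `p`-group all of whose abelian subgroups are cyclic is cyclic or generalized quaternion -/
theorem cyclic_or_quaternion_of_abelianSubgroupsCyclic {K : Type*} [Group K] [Finite K] (p : ℕ)
    [hp : Fact p.Prime] (hK : IsPGroup p K) (h : AbelianSubgroupsCyclic K) :
    IsCyclic K ∨ (p = 2 ∧ ∃ n : ℕ, Nonempty (K ≃* QuaternionGroup (2 ^ n))) := by
  apply Cfsg.Agent.S0016.result p hK
  intro A B hA hB
  have hnt : Nontrivial K := by
    by_contra hnt
    rw [not_nontrivial_iff_subsingleton] at hnt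
    have : Nat.card A = 1 := Nat.card_unique
    rw [hA] at this
    exact hp.out.one_lt.ne' this
  have hcn : Nontrivial (Subgroup.center K) := hK.center_nontrivial
  have hcp : IsPGroup p (Subgroup.center K) := hK.to_subgroup _
  obtain ⟨k, hk⟩ := IsPGroup.iff_card.1 hcp
  have hk0 : k ≠ 0 := by
    rintro rfl
    rw [pow_zero] at hk
    have := (Finite.one_lt_card_iff_nontrivial (α := Subgroup.center K)).2 hcn
    omega
  have hdvd : p ∣ Nat.card (Subgroup.center K) := by
    rw [hk]; exact dvd_pow_self p hk0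
  obtain ⟨z, hz⟩ := exists_prime_orderOf_dvd_card' p hdvd
  have hzo : orderOf (z : K) = p := by
    rw [Subgroup.orderOf_coe]; exact hz
  have hall : ∀ C : Subgroup K, Nat.card C = p → C = Subgroup.zpowers (z : K) := by
    intro C hC
    apply Subgroup.eq_of_le_of_card_ge
    · intro c hc
      apply h.key hp.out _ c z.2 hzo
      have h1 : (⟨c, hc⟩ : C) ^ p = 1 := by
        have := pow_card_eq_one' (G := C) (x := ⟨c, hc⟩)
        rwa [hC] at this
      have h2 := congrArg Subtype.val h1
      rw [Subgroup.coe_pow, Subgroup.coe_one] at h2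
      exact h2
    · rw [Nat.card_zpowers, hzo, hC]
  rw [hall A hA, hall B hB]

/-- a finite nilpotent group all of whose Sylow subgroups are commutative is commutative -/
theorem mul_comm_of_isNilpotent_of_sylow_comm {K : Type*} [Group K] [Finite K]
    (hnil : Group.IsNilpotent K)
    (hS : ∀ (p : ℕ) [Fact p.Prime] (P : Sylow p K), IsMulCommutative (P : Subgroup K)) (a b : K) :
    a * b = b * a := by
  have htf := (Group.isNilpotent_of_finite_tfae (G := K)).out 0 4
  obtain ⟨e⟩ := htf.1 hnil
  have hcomm : ∀ f g : ((p : (Nat.card K).primeFactors) → (P : Sylow p K) → (P : Subgroup K)),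
      f * g = g * f := by
    intro f g
    funext p P
    have hpF : Fact (p : ℕ).Prime := ⟨Nat.prime_of_mem_primeFactors p.2⟩
    exact (hS p P).is_comm.comm _ _
  have h1 := hcomm (e.symm a) (e.symm b)
  rw [← map_mul, ← map_mul] at h1
  exact e.symm.injective h1

/-- a finite nilpotent group of odd order all of whose abelian subgroups are cyclic is cyclic -/
theorem isCyclic_of_abelianSubgroupsCyclic_of_odd {K : Type*} [Group K] [Finite K]
    (hnil : Group.IsNilpotent K) (h : AbelianSubgroupsCyclic K) (hodd : Odd (Nat.card K)) :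
    IsCyclic K := by
  have hS : ∀ (p : ℕ) [Fact p.Prime] (P : Sylow p K), IsMulCommutative (P : Subgroup K) := by
    intro p hp P
    have hcyc : IsCyclic (P : Subgroup K) := by
      rcases cyclic_or_quaternion_of_abelianSubgroupsCyclic p P.isPGroup' (h.subgroup _) with h1 | ⟨rfl, -⟩
      · exact h1
      · -- `P` is a `2`-group of odd order
        have hd : Nat.card (P : Subgroup K) ∣ Nat.card K := Subgroup.card_subgroup_dvd_card _
        obtain ⟨k, hk⟩ := IsPGroup.iff_card.1 P.isPGroup'
        have hk0 : k = 0 := by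
          by_contra hk0
          have h2 : 2 ∣ Nat.card (P : Subgroup K) := by rw [hk]; exact dvd_pow_self 2 hk0
          have h3 : 2 ∣ Nat.card K := h2.trans hd
          rcases hodd with ⟨t, ht⟩
          omega
        rw [hk0, pow_zero] at hk
        have : Subsingleton (P : Subgroup K) := (Nat.card_eq_one_iff_unique.1 hk).1
        infer_instance
    exact ⟨⟨fun a b => by
      obtain ⟨g, hg⟩ := hcyc.exists_generator
      obtain ⟨i, rfl⟩ := Subgroup.mem_zpowers_iff.1 (hg a)
      obtain ⟨j, rfl⟩ := Subgroup.mem_zpowers_iff.1 (hg b)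
      rw [← zpow_add, ← zpow_add, add_comm]⟩⟩
  have hcomm := mul_comm_of_isNilpotent_of_sylow_comm hnil hS
  have htop : IsMulCommutative (⊤ : Subgroup K) := ⟨⟨fun a b => Subtype.ext (hcomm a b)⟩⟩
  have h1 : IsCyclic (⊤ : Subgroup K) := h ⊤ htop
  exact (Subgroup.topEquiv (G := K)).isCyclic.1 h1

end Cfsg.Agent.Helper4
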