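import Mathlib

set_option autoImplicit false

/-!
S4291 (lead's Frobenius-complement project), piece FC-II (helper4), part A: automorphisms of odd
order of cyclic 2-groups and of generalized quaternion groups of order at least 16 are trivial; the
unique involution of a generalized quaternion group; the homomorphism onto the four-group.
-/

namespace Cfsg.Agent.Helper4.FC2

open QuaternionGroup

/-- an automorphism of odd order of a cyclic 2-group is trivial -/
theorem aut_cyclic_two_odd {C : Type*} [Group C] [Finite C] [IsCyclic C] {k : ℕ}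
    (hC : Nat.card C = 2 ^ k) (α : MulAut C) {r : ℕ} (hr : Odd r) (hα : α ^ r = 1) : α = 1 := by
  have h1 : orderOf α ∣ r := orderOf_dvd_of_pow_eq_one hα
  haveI : Finite (MulAut C) := by
    apply Nat.finite_of_card_ne_zero
    rw [IsCyclic.card_mulAut C, hC]
    exact (Nat.totient_pos.mpr (by positivity)).ne'
  have h2 : orderOf α ∣ Nat.card (MulAut C) := orderOf_dvd_natCard α
  rw [IsCyclic.card_mulAut C, hC] at h2
  have h3 : orderOf α ∣ 2 ^ k := by
    rcases Nat.eq_zero_or_pos k with h0 | h0
    · rw [h0, pow_zero, Nat.totient_one] at h2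
      rw [h0, pow_zero]; exact h2
    · rw [Nat.totient_prime_pow Nat.prime_two h0] at h2
      have : 2 ^ (k - 1) * (2 - 1) ∣ 2 ^ k := by
        rw [Nat.mul_one]
        exact pow_dvd_pow 2 (Nat.sub_le k 1)
      exact h2.trans this
  have h4 : orderOf α ∣ Nat.gcd r (2 ^ k) := Nat.dvd_gcd h1 h3
  have h5 : Nat.gcd r (2 ^ k) = 1 := Nat.Coprime.pow_right k hr.coprime_two_right
  rw [h5, Nat.dvd_one] at h4
  exact orderOf_eq_one_iff.mp h4

theorem a_pow'' {n : ℕ} (k : ZMod (2 * n)) (j : ℕ) :
    (a k : QuaternionGroup n) ^ j = a ((j : ZMod (2 * n)) * k) := by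
  induction j with
  | zero => simp [a_zero]
  | succ j ih =>
    rw [pow_succ, ih, a_mul_a]
    congr 1
    push_cast
    ring

/-- a unit of `ZMod (2 * 2 ^ n)` of odd order is trivial -/
theorem unit_pow_two_pow {n r : ℕ} (hr : Odd r) (u : (ZMod (2 * 2 ^ n))ˣ) (hu : u ^ r = 1) :
    u = 1 := by
  have h1 : orderOf u ∣ r := orderOf_dvd_of_pow_eq_one hu
  have h2 : orderOf u ∣ Fintype.card (ZMod (2 * 2 ^ n))ˣ := orderOf_dvd_card
  have h3 : Nat.totient (2 * 2 ^ n) = 2 ^ n := by
    rw [show 2 * 2 ^ n = 2 ^ (n + 1) by ring, Nat.totient_prime_pow Nat.prime_two (by omega)]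
    simp
  rw [ZMod.card_units_eq_totient, h3] at h2
  have h4 : orderOf u ∣ Nat.gcd r (2 ^ n) := Nat.dvd_gcd h1 h2
  have h5 : Nat.gcd r (2 ^ n) = 1 := Nat.Coprime.pow_right n hr.coprime_two_right
  rw [h5, Nat.dvd_one] at h4
  exact orderOf_eq_one_iff.mp h4

/-- an automorphism of odd order of a generalized quaternion group of order at least 16 is
trivial -/
theorem aut_quaternion_odd {n : ℕ} (hn : 2 ≤ n) {r : ℕ} (hr : Odd r)
    (β : MulAut (QuaternionGroup (2 ^ n))) (hβ : β ^ r = 1) : β = 1 := by
  have h4 : (4 : ℕ) < 2 * 2 ^ n := by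
    have : 2 ^ 2 ≤ 2 ^ n := Nat.pow_le_pow_right (by norm_num) hn
    omega
  have hord : orderOf (β (a 1)) = 2 * 2 ^ n := by
    rw [MulEquiv.orderOf_eq, orderOf_a_one]
  obtain ⟨k, hk⟩ : ∃ k, β (a 1) = a k := by
    rcases h : β (a 1) with k | k
    · exact ⟨k, rfl⟩
    · exfalso
      rw [h, orderOf_xa] at hord
      omega
  have hak : ∀ i : ZMod (2 * 2 ^ n), β (a i) = a (i * k) := by
    intro i
    have h1 : (a i : QuaternionGroup (2 ^ n)) = (a 1) ^ i.val := by
      rw [a_one_pow, ZMod.natCast_zmod_val]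
    rw [h1, map_pow, hk, a_pow'', ZMod.natCast_zmod_val]
  have hiter : ∀ (s : ℕ) (i : ZMod (2 * 2 ^ n)), (β ^ s) (a i) = a (i * k ^ s) := by
    intro s
    induction s with
    | zero => intro i; simp
    | succ s ih =>
      intro i
      rw [pow_succ', MulAut.mul_apply, ih, hak]
      congr 1
      ring
  have hkr : k ^ r = 1 := by
    have := hiter r 1
    rw [hβ, MulAut.one_apply, one_mul] at this
    exact (QuaternionGroup.a.inj this).symm
  have hk1 : k = 1 := by
    obtain ⟨s, hs⟩ : ∃ s, r = s + 1 := ⟨r - 1, by have := hr.pos; omega⟩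
    have hks : k * k ^ s = 1 := by
      have h9 := hkr
      rw [hs, pow_succ'] at h9
      exact h9
    let u : (ZMod (2 * 2 ^ n))ˣ := Units.mkOfMulEqOne k (k ^ s) hks
    have hu : u ^ r = 1 := by
      apply Units.ext
      show k ^ r = 1
      exact hkr
    have := unit_pow_two_pow hr u hu
    have h2 := congrArg Units.val this
    exact h2
  rw [hk1] at hak
  simp only [mul_one] at hak
  obtain ⟨j, hj⟩ : ∃ j, β (xa 0) = xa j := by
    rcases h : β (xa 0) with j | j
    · exfalso
      have h1 : β (xa 0) = β (a j) := by rw [h, hak]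
      have h2 := β.injective h1
      cases h2
    · exact ⟨j, rfl⟩
  have hxj : ∀ i : ZMod (2 * 2 ^ n), β (xa i) = xa (j + i) := by
    intro i
    have h1 : (xa i : QuaternionGroup (2 ^ n)) = xa 0 * a i := by rw [xa_mul_a, zero_add]
    rw [h1, map_mul, hj, hak, xa_mul_a]
  have hiter2 : ∀ (s : ℕ) (i : ZMod (2 * 2 ^ n)), (β ^ s) (xa i) = xa ((s : ZMod (2 * 2 ^ n)) * j + i) := by
    intro s
    induction s with
    | zero => intro i; simp
    | succ s ih =>
      intro i
      rw [pow_succ', MulAut.mul_apply, ih, hxj]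
      congr 1
      push_cast
      ring
  have hj0 : j = 0 := by
    have := hiter2 r 0
    rw [hβ, MulAut.one_apply, add_zero] at this
    have h2 := (QuaternionGroup.xa.inj this).symm
    have h4 : IsUnit ((r : ℕ) : ZMod (2 * 2 ^ n)) := by
      rw [ZMod.isUnit_iff_coprime]
      rw [show 2 * 2 ^ n = 2 ^ (n + 1) by ring]
      exact Nat.Coprime.pow_right _ hr.coprime_two_right
    exact (h4.mul_right_eq_zero).mp h2
  rw [hj0] at hxj
  simp only [zero_add] at hxj
  ext x
  rcases x with i | i
  · rw [hak]; rfl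
  · rw [hxj]; rfl

/-- the unique involution of a generalized quaternion group -/
theorem eq_a_of_orderOf_two {m : ℕ} [NeZero m] (g : QuaternionGroup m) (hg : orderOf g = 2) :
    g = a m := by
  rcases g with i | i
  · have h1 : (a i : QuaternionGroup m) ^ 2 = 1 := by rw [← hg]; exact pow_orderOf_eq_one _
    rw [a_pow'', one_def] at h1
    have h2 := QuaternionGroup.a.inj h1
    have hne : i ≠ 0 := by
      intro h0
      rw [h0, a_zero, orderOf_one] at hg
      omega
    haveI : NeZero (2 * m) := ⟨by have := NeZero.ne m; omega⟩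
    have h3 : ((2 * i.val : ℕ) : ZMod (2 * m)) = 0 := by
      push_cast
      rw [ZMod.natCast_zmod_val]
      exact h2
    rw [ZMod.natCast_eq_zero_iff] at h3
    have h4 : m ∣ i.val := (Nat.mul_dvd_mul_iff_left (by norm_num : 0 < 2)).mp h3
    have h5 : i.val < 2 * m := ZMod.val_lt i
    obtain ⟨t, ht⟩ := h4
    have h6 : t = 0 ∨ t = 1 := by
      have hm : 0 < m := Nat.pos_of_ne_zero (NeZero.ne m)
      rcases t with _ | _ | t
      · left; rfl
      · right; rfl
      · exfalso
        have : m * (t + 1 + 1) ≥ 2 * m := by nlinarith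
        omega
    rcases h6 with h | h
    · exfalso
      apply hne
      rw [h, mul_zero] at ht
      exact (ZMod.val_eq_zero i).mp ht
    · rw [h, mul_one] at ht
      congr 1
      rw [← ZMod.natCast_zmod_val i, ht]
  · exfalso
    rw [orderOf_xa] at hg
    omega

end Cfsg.Agent.Helper4.FC2
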