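import Mathlib
import Cfsg.Agent.Lead.FCDefs
import Cfsg.Agent.Helper4.FC2A

set_option autoImplicit false

/-!
S4291, piece FC-II (helper4), part C: the automorphism group of `Q₈` has order at most 24; general
lemmas on Sylow subgroups of subgroups and on groups with a unique involution.
-/

namespace Cfsg.Agent.Helper4.FC2

open Cfsg.Agent.Lead.FC

/-- the admissible images of the two generators under an automorphism of `Q₈` -/
def autPairs : Finset (QuaternionGroup 2 × QuaternionGroup 2) :=
  Finset.univ.filter fun p => p.1 ^ 4 = 1 ∧ p.1 ^ 2 ≠ 1 ∧ p.2 ^ 4 = 1 ∧ p.2 ^ 2 ≠ 1 ∧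
    p.2 ≠ p.1 ∧ p.2 ≠ p.1⁻¹

theorem card_autPairs : autPairs.card = 24 := by decide

theorem card_mulAut_q8_le : Nat.card (MulAut (QuaternionGroup 2)) ≤ 24 := by
  classical
  let F : MulAut (QuaternionGroup 2) → {p : QuaternionGroup 2 × QuaternionGroup 2 // p ∈ autPairs} :=
    fun φ => ⟨(φ (QuaternionGroup.a 1), φ (QuaternionGroup.xa 0)), by
      unfold autPairs
      rw [Finset.mem_filter]
      refine ⟨Finset.mem_univ _, ?_, ?_, ?_, ?_, ?_, ?_⟩
      · show φ (QuaternionGroup.a 1) ^ 4 = 1
        rw [← map_pow]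
        have : (QuaternionGroup.a 1 : QuaternionGroup 2) ^ 4 = 1 := by decide
        rw [this, map_one]
      · show φ (QuaternionGroup.a 1) ^ 2 ≠ 1
        rw [← map_pow]
        intro h
        have h2 : (QuaternionGroup.a 1 : QuaternionGroup 2) ^ 2 = 1 :=
          φ.injective (by rw [h, map_one])
        revert h2
        decide
      · show φ (QuaternionGroup.xa 0) ^ 4 = 1
        rw [← map_pow]
        have : (QuaternionGroup.xa 0 : QuaternionGroup 2) ^ 4 = 1 := by decide
        rw [this, map_one]
      · show φ (QuaternionGroup.xa 0) ^ 2 ≠ 1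
        rw [← map_pow]
        intro h
        have h2 : (QuaternionGroup.xa 0 : QuaternionGroup 2) ^ 2 = 1 :=
          φ.injective (by rw [h, map_one])
        revert h2
        decide
      · show φ (QuaternionGroup.xa 0) ≠ φ (QuaternionGroup.a 1)
        intro h
        have h2 := φ.injective h
        revert h2
        decide
      · show φ (QuaternionGroup.xa 0) ≠ (φ (QuaternionGroup.a 1))⁻¹
        rw [← map_inv]
        intro h
        have h2 := φ.injective h
        revert h2
        decide⟩
  have hF : Function.Injective F := by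
    intro φ ψ h
    have h1 : φ (QuaternionGroup.a 1) = ψ (QuaternionGroup.a 1) := congrArg (fun x => x.1.1) h
    have h2 : φ (QuaternionGroup.xa 0) = ψ (QuaternionGroup.xa 0) := congrArg (fun x => x.1.2) h
    have ha : ∀ i : ZMod (2 * 2), φ (QuaternionGroup.a i) = ψ (QuaternionGroup.a i) := by
      intro i
      have h3 : (QuaternionGroup.a i : QuaternionGroup 2) = (QuaternionGroup.a 1) ^ i.val := by
        rw [QuaternionGroup.a_one_pow, ZMod.natCast_zmod_val]
      rw [h3, map_pow, map_pow, h1]
    ext x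
    rcases x with i | i
    · exact ha i
    · have h3 : (QuaternionGroup.xa i : QuaternionGroup 2) =
          QuaternionGroup.xa 0 * QuaternionGroup.a i := by
        rw [QuaternionGroup.xa_mul_a, zero_add]
      rw [h3, map_mul, map_mul, h2, ha]
  have h1 := Nat.card_le_card_of_injective F hF
  have h2 : Nat.card {p : QuaternionGroup 2 × QuaternionGroup 2 // p ∈ autPairs} = 24 := by
    rw [Nat.card_eq_fintype_card, Fintype.card_coe, card_autPairs]
  rw [h2] at h1
  exact h1

/-- the centre of `Q₈` -/
theorem q8_center (x : QuaternionGroup 2) (h : ∀ y : QuaternionGroup 2, x * y = y * x) :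
    x = QuaternionGroup.a 0 ∨ x = QuaternionGroup.a 2 := by
  revert x
  decide

/-- a group with at most one involution has at most one subgroup of order 2 -/
theorem subgroup_unique_of_invol_unique {Q : Type*} [Group Q]
    (hinv : ∀ x y : Q, orderOf x = 2 → orderOf y = 2 → x = y) (H K : Subgroup Q)
    (hH : Nat.card H = 2) (hK : Nat.card K = 2) : H = K := by
  haveI : Fact (Nat.Prime 2) := ⟨Nat.prime_two⟩
  have key : ∀ L : Subgroup Q, Nat.card L = 2 → ∃ l : Q, orderOf l = 2 ∧ L = Subgroup.zpowers l := by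
    intro L hL
    haveI : Finite L := Nat.finite_of_card_ne_zero (by rw [hL]; norm_num)
    obtain ⟨l, hl⟩ := exists_prime_orderOf_dvd_card' (G := L) 2 (by rw [hL])
    refine ⟨(l : Q), by rw [Subgroup.orderOf_coe]; exact hl, ?_⟩
    symm
    apply Subgroup.eq_of_le_of_card_ge
    · rw [Subgroup.zpowers_le]; exact l.2
    · rw [Nat.card_zpowers, Subgroup.orderOf_coe, hl, hL]
  obtain ⟨h, hh, rfl⟩ := key H hH
  obtain ⟨k, hk, rfl⟩ := key K hK
  rw [hinv h k hh hk]

/-- Sylow subgroups of a subgroup are cyclic if those of the group are -/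
theorem sylow_sub_cyclic {G : Type*} [Group G] [Finite G] {p : ℕ} [Fact p.Prime]
    (hcyc : ∀ P : Sylow p G, IsCyclic P) (N : Subgroup G) (P : Sylow p N) : IsCyclic P := by
  have hP : IsPGroup p ((P : Subgroup N).map N.subtype) := P.2.map _
  obtain ⟨P', hP'⟩ := hP.exists_le_sylow
  haveI := hcyc P'
  let φ : ↥(P : Subgroup N) →* ↥(P' : Subgroup G) :=
    { toFun := fun x => ⟨((x : N) : G), hP' ⟨(x : N), x.2, rfl⟩⟩
      map_one' := rfl
      map_mul' := fun _ _ => rfl }
  have hφ : Function.Injective φ := by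
    intro x y h
    have h0 := congrArg (Subtype.val : ↥(P' : Subgroup G) → G) h
    have h1 : ((x : N) : G) = ((y : N) : G) := h0
    exact Subtype.ext (Subtype.ext h1)
  exact isCyclic_of_injective φ hφ

/-- for odd `p` the Sylow `p`-subgroups of a group with `SylQ` are cyclic -/
theorem sylow_odd_cyclic {G : Type*} [Group G] [Finite G] (hQ : SylQ G) {p : ℕ} [hp : Fact p.Prime]
    (hp2 : p ≠ 2) (P : Sylow p G) : IsCyclic P := by
  rcases hQ p P with h | ⟨n, ⟨e⟩⟩
  · exact h
  · exfalso
    have h1 : Nat.card ↥(P : Subgroup G) = 4 * 2 ^ n := by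
      rw [Nat.card_congr e.toEquiv, Nat.card_eq_fintype_card, QuaternionGroup.card]
    obtain ⟨k, hk⟩ := (IsPGroup.iff_card (p := p)).mp P.2
    rw [hk] at h1
    have h2 : 2 ∣ p ^ k := by rw [h1]; exact Dvd.dvd.mul_right (by norm_num) _
    have h3 := Nat.Prime.dvd_of_dvd_pow Nat.prime_two h2
    exact hp2 ((Nat.prime_dvd_prime_iff_eq Nat.prime_two hp.out).mp h3).symm

end Cfsg.Agent.Helper4.FC2
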