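import Mathlib

set_option autoImplicit false

/-!
Coprime action on an abelian invariant subgroup: averaging arguments, in external (action) form.
-/

namespace Cfsg.Agent.Helper4

section

variable {G A : Type*} [Group G] [Group A] [MulDistribMulAction A G]

/-- restriction of the action to an invariant subgroup -/
def actOn (N : Subgroup G) (hN : ∀ a : A, ∀ x ∈ N, a • x ∈ N) (a : A) : N →* N where
  toFun x := ⟨a • (x : G), hN a x x.2⟩
  map_one' := Subtype.ext (smul_one a)
  map_mul' x y := Subtype.ext (smul_mul' a (x : G) (y : G))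

theorem actOn_coe (N : Subgroup G) (hN : ∀ a : A, ∀ x ∈ N, a • x ∈ N) (a : A) (x : N) :
    ((actOn N hN a x : N) : G) = a • (x : G) := rfl

theorem actOn_mul (N : Subgroup G) (hN : ∀ a : A, ∀ x ∈ N, a • x ∈ N) (a b : A) (x : N) :
    actOn N hN (a * b) x = actOn N hN a (actOn N hN b x) :=
  Subtype.ext (mul_smul a b (x : G))

/-- Glauberman's lemma in the abelian case: an invariant coset of an abelian invariant subgroup
of coprime order contains a fixed point. -/
theorem exists_fixed_in_coset [Finite A] [Finite G] (N : Subgroup G)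
    (hcomm : ∀ x ∈ N, ∀ y ∈ N, x * y = y * x)
    (hN : ∀ a : A, ∀ x ∈ N, a • x ∈ N) (hcop : (Nat.card A).Coprime (Nat.card N))
    (g : G) (hg : ∀ a : A, g⁻¹ * a • g ∈ N) :
    ∃ w ∈ N, ∀ b : A, b • (g * w) = g * w := by
  classical
  have : Fintype A := Fintype.ofFinite A
  let cg : CommGroup N :=
    { (inferInstance : Group N) with mul_comm := fun x y => Subtype.ext (hcomm x x.2 y y.2) }
  let c : A → N := fun a => ⟨g⁻¹ * a • g, hg a⟩
  have hc : ∀ a, ((c a : N) : G) = g⁻¹ * a • g := fun a => rfl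
  have hcoc : ∀ a b, actOn N hN b (c a) = (c b)⁻¹ * c (b * a) := by
    intro a b
    apply Subtype.ext
    show b • (g⁻¹ * a • g) = (g⁻¹ * b • g)⁻¹ * (g⁻¹ * (b * a) • g)
    rw [mul_smul, smul_mul', smul_inv']
    group
  obtain ⟨z, hz⟩ : ∃ z : N, z = ∏ a : A, c a := ⟨_, rfl⟩
  have hbz : ∀ b, actOn N hN b z = ((c b)⁻¹) ^ (Nat.card A) * z := by
    intro b
    rw [hz, map_prod]
    have h1 : ∀ a ∈ (Finset.univ : Finset A), actOn N hN b (c a) = (c b)⁻¹ * c (b * a) :=
      fun a _ => hcoc a b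
    rw [Finset.prod_congr rfl h1, Finset.prod_mul_distrib, Finset.prod_const, Finset.card_univ,
      Nat.card_eq_fintype_card]
    congr 1
    exact Fintype.prod_equiv (Equiv.mulLeft b) _ _ (fun a => rfl)
  have hcopN : (Nat.card N).Coprime (Nat.card A) := hcop.symm
  obtain ⟨w, hw⟩ := (powCoprime hcopN).surjective z
  have hw' : w ^ (Nat.card A) = z := hw
  have hcw : ∀ b, c b = w * (actOn N hN b w)⁻¹ := by
    intro b
    apply (powCoprime hcopN).injective
    show (c b) ^ (Nat.card A) = (w * (actOn N hN b w)⁻¹) ^ (Nat.card A)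
    rw [mul_pow, inv_pow, ← map_pow, hw', hbz b, inv_pow, mul_inv, inv_inv]
    rw [mul_comm z, mul_assoc, inv_mul_cancel, mul_one]
  refine ⟨w, w.2, ?_⟩
  intro b
  have h1 := congrArg (Subtype.val) (hcw b)
  rw [hc] at h1
  have h2 : ((w * (actOn N hN b w)⁻¹ : N) : G) = (w : G) * (b • (w : G))⁻¹ := rfl
  rw [h2] at h1
  rw [smul_mul']
  have h3 : b • g = g * ((w : G) * (b • (w : G))⁻¹) := by
    rw [← h1]; group
  rw [h3]
  group

/-- The norm map kills `[N, A]`, so a fixed point of `A` in `N = [N, A]` is trivial. -/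
theorem eq_one_of_fixed_of_generated [Finite A] [Finite G] (N : Subgroup G)
    (hcomm : ∀ x ∈ N, ∀ y ∈ N, x * y = y * x)
    (hN : ∀ a : A, ∀ x ∈ N, a • x ∈ N) (hcop : (Nat.card A).Coprime (Nat.card N))
    (S : Set G) (hS : N = Subgroup.closure S)
    (hSgen : ∀ y ∈ S, ∃ (a : A) (n : G), n ∈ N ∧ y = n⁻¹ * a • n)
    (z : G) (hzN : z ∈ N) (hz : ∀ a : A, a • z = z) : z = 1 := by
  classical
  have : Fintype A := Fintype.ofFinite A
  let cg : CommGroup N :=
    { (inferInstance : Group N) with mul_comm := fun x y => Subtype.ext (hcomm x x.2 y y.2) }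
  let ν : N →* N := ∏ a : A, actOn N hN a
  have hν : ∀ x : N, ν x = ∏ a : A, actOn N hN a x := fun x => MonoidHom.finsetProd_apply _ _ x
  have hνact : ∀ (b : A) (x : N), ν (actOn N hN b x) = ν x := by
    intro b x
    rw [hν, hν]
    refine Fintype.prod_equiv (Equiv.mulRight b) _ _ (fun a => ?_)
    rw [Equiv.coe_mulRight, actOn_mul]
  have hνgen : ∀ y (hy : y ∈ N), y ∈ S → ν ⟨y, hy⟩ = 1 := by
    intro y hy hyS
    obtain ⟨a, n, hn, hyn⟩ := hSgen y hyS
    have h1 : (⟨y, hy⟩ : N) = (⟨n, hn⟩ : N)⁻¹ * actOn N hN a ⟨n, hn⟩ := Subtype.ext hyn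
    rw [h1, map_mul, map_inv, hνact, inv_mul_cancel]
  have hνall : ∀ y (hy : y ∈ N), ν ⟨y, hy⟩ = 1 := by
    intro y hy
    have hy' : y ∈ Subgroup.closure S := by rw [← hS]; exact hy
    have hle : Subgroup.closure S ≤ N := by rw [← hS]
    have key : ∀ y (hy : y ∈ Subgroup.closure S), ν ⟨y, hle hy⟩ = 1 := by
      intro y hy
      induction hy using Subgroup.closure_induction with
      | mem x hx => exact hνgen x _ hx
      | one => exact map_one ν
      | mul x y hx hy hx' hy' =>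
        have : (⟨x * y, hle (Subgroup.mul_mem _ hx hy)⟩ : N) = ⟨x, hle hx⟩ * ⟨y, hle hy⟩ := rfl
        rw [this, map_mul, hx', hy', one_mul]
      | inv x hx hx' =>
        have : (⟨x⁻¹, hle (Subgroup.inv_mem _ hx)⟩ : N) = (⟨x, hle hx⟩ : N)⁻¹ := rfl
        rw [this, map_inv, hx', inv_one]
    exact key y hy'
  have h1 : ν ⟨z, hzN⟩ = (⟨z, hzN⟩ : N) ^ (Nat.card A) := by
    rw [hν]
    have h2 : ∀ a ∈ (Finset.univ : Finset A), actOn N hN a ⟨z, hzN⟩ = (⟨z, hzN⟩ : N) :=
      fun a _ => Subtype.ext (hz a)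
    rw [Finset.prod_congr rfl h2, Finset.prod_const, Finset.card_univ, Nat.card_eq_fintype_card]
  rw [hνall z hzN] at h1
  have h2 : orderOf (⟨z, hzN⟩ : N) ∣ Nat.card A := orderOf_dvd_of_pow_eq_one h1.symm
  have h3 : orderOf (⟨z, hzN⟩ : N) ∣ Nat.card N := orderOf_dvd_natCard _
  have h4 : orderOf (⟨z, hzN⟩ : N) = 1 := Nat.eq_one_of_dvd_coprimes hcop h2 h3
  rw [orderOf_eq_one_iff] at h4
  exact congrArg Subtype.val h4

end

end Cfsg.Agent.Helper4
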