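import Mathlib
import Cfsg.Agent.Helper4.ZGroupActA

set_option autoImplicit false

/-!
Coprime action on a Z-group: `[G, A]` lies in the cyclic normal subgroup `C_G(G')`.
-/

namespace Cfsg.Agent.Helper4

section

variable {G A : Type*} [Group G] [Group A] [MulDistribMulAction A G]

theorem smul_mem_commutator (a : A) (x : G) (hx : x ∈ commutator G) : a • x ∈ commutator G := by
  have hchar : (commutator G).Characteristic := inferInstance
  have h1 := Subgroup.characteristic_iff_map_eq.1 hchar (MulDistribMulAction.toMulEquiv G a)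
  rw [← h1]
  exact ⟨x, hx, rfl⟩

/-- In a finite Z-group, `C_G(G')` is cyclic. -/
theorem isCyclic_centralizer_commutator [Finite G] [IsZGroup G] :
    IsCyclic (Subgroup.centralizer ((commutator G : Subgroup G) : Set G)) := by
  obtain ⟨K, hK⟩ : ∃ K : Subgroup G, K = Subgroup.centralizer ((commutator G : Subgroup G) : Set G) :=
    ⟨_, rfl⟩
  rw [← hK]
  have hle : commutator K ≤ Subgroup.center K := by
    intro y hy
    have hyG : (y : G) ∈ commutator G := by
      have h1 : (y : G) ∈ (commutator K).map K.subtype := ⟨y, hy, rfl⟩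
      rw [Subgroup.map_subtype_commutator] at h1
      rw [commutator_def]
      exact Subgroup.commutator_mono le_top le_top h1
    rw [Subgroup.mem_center_iff]
    intro k
    apply Subtype.ext
    have hk : (k : G) ∈ Subgroup.centralizer ((commutator G : Subgroup G) : Set G) := by
      rw [← hK]; exact k.2
    rw [Subgroup.mem_centralizer_iff] at hk
    exact (hk y hyG).symm
  have hnil : Group.IsNilpotent K := by
    apply Subgroup.isNilpotent_of_ker_le_center (Abelianization.of : K →* Abelianization K)
    rw [Abelianization.ker_of]; exact hle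
  infer_instance

theorem commutator_action_mem_centralizer [Finite G] [IsZGroup G] (a : A) (g : G) :
    g⁻¹ * a • g ∈ Subgroup.centralizer ((commutator G : Subgroup G) : Set G) := by
  have hcyc : IsCyclic (commutator G) := IsZGroup.isCyclic_commutator G
  obtain ⟨m, hm⟩ := MonoidHom.map_cyclic ((MulAut.conjNormal g : MulAut (commutator G)).toMonoidHom)
  have key : ∀ x ∈ commutator G, g * x * g⁻¹ = x ^ m := by
    intro x hx
    have h1 := congrArg Subtype.val (hm ⟨x, hx⟩)
    simpa using h1
  rw [Subgroup.mem_centralizer_iff]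
  intro x hx
  have hx' : a⁻¹ • x ∈ commutator G := smul_mem_commutator a⁻¹ x hx
  have h1 : (a • g) * x * (a • g)⁻¹ = g * x * g⁻¹ := by
    have h2 : (a • g) * x * (a • g)⁻¹ = a • (g * (a⁻¹ • x) * g⁻¹) := by
      rw [smul_mul', smul_mul', smul_inv', smul_smul, mul_inv_cancel, one_smul]
    rw [h2, key _ hx', smul_zpow', smul_smul, mul_inv_cancel, one_smul, key x hx]
  have h3 : (a • g) * x = g * x * g⁻¹ * (a • g) := by
    rw [← h1]; group
  calc x * (g⁻¹ * a • g) = g⁻¹ * (g * x * g⁻¹ * (a • g)) := by group
    _ = g⁻¹ * ((a • g) * x) := by rw [h3]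
    _ = g⁻¹ * a • g * x := by group

end

end Cfsg.Agent.Helper4
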