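import Mathlib

/-!
# Groups of operators given by a homomorphism into the automorphism group

Fixed points, restriction to an invariant subgroup and the induced action on the quotient by an
invariant normal subgroup.
-/

set_option autoImplicit false

namespace Cfsg.Agent.Helper4.CopAut

universe u v

variable {Q : Type v} {V : Type u} [Group Q] [Group V]

/-- the fixed points of a set of operators. -/
def fixS (φ : Q →* MulAut V) (S : Set Q) : Subgroup V where
  carrier := {v | ∀ s ∈ S, φ s v = v}
  mul_mem' := by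
    intro a b ha hb s hs
    rw [map_mul, ha s hs, hb s hs]
  one_mem' := by
    intro s _
    exact map_one _
  inv_mem' := by
    intro a ha s hs
    rw [map_inv, ha s hs]

theorem mem_fixS {φ : Q →* MulAut V} {S : Set Q} {v : V} :
    v ∈ fixS φ S ↔ ∀ s ∈ S, φ s v = v := Iff.rfl

theorem fixS_anti (φ : Q →* MulAut V) {S T : Set Q} (h : S ⊆ T) : fixS φ T ≤ fixS φ S :=
  fun _ hv s hs => hv s (h hs)

/-- the operators fixing a given element form a subgroup. -/
def stabOf (φ : Q →* MulAut V) (v : V) : Subgroup Q where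
  carrier := {q | φ q v = v}
  mul_mem' := by
    intro a b ha hb
    change φ (a * b) v = v
    rw [map_mul, MulAut.mul_apply, hb, ha]
  one_mem' := by
    change φ 1 v = v
    rw [map_one]; rfl
  inv_mem' := by
    intro a ha
    change φ a⁻¹ v = v
    rw [map_inv]
    conv_lhs => rw [← ha]
    exact MulAut.inv_apply_self _ _ _

theorem fixS_closure (φ : Q →* MulAut V) (S : Set Q) :
    fixS φ (Subgroup.closure S : Set Q) = fixS φ S := by
  apply le_antisymm (fixS_anti φ Subgroup.subset_closure)
  intro v hv s hs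
  have h : Subgroup.closure S ≤ stabOf φ v := by
    rw [Subgroup.closure_le]
    intro t ht
    exact hv t ht
  exact h hs

theorem fixS_pair (φ : Q →* MulAut V) (a b : Q) :
    fixS φ {a, b} = fixS φ {a} ⊓ fixS φ {b} := by
  ext v
  simp only [Subgroup.mem_inf, mem_fixS, Set.mem_insert_iff, Set.mem_singleton_iff]
  constructor
  · intro h
    exact ⟨fun s hs => h s (Or.inl hs), fun s hs => h s (Or.inr hs)⟩
  · rintro ⟨h1, h2⟩ s (hs | hs)
    · exact h1 s hs
    · exact h2 s hs

theorem mem_fixS_singleton {φ : Q →* MulAut V} {a : Q} {v : V} :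
    v ∈ fixS φ {a} ↔ φ a v = v := by
  simp [mem_fixS]

/-- invariance of a subgroup. -/
def Inv (φ : Q →* MulAut V) (R : Subgroup V) : Prop := ∀ q : Q, ∀ v ∈ R, φ q v ∈ R

theorem Inv.map_eq {φ : Q →* MulAut V} {R : Subgroup V} (h : Inv φ R) (q : Q) :
    R.map ((φ q : V ≃* V) : V →* V) = R := by
  apply le_antisymm
  · rintro _ ⟨v, hv, rfl⟩
    exact h q v hv
  · intro v hv
    refine ⟨φ q⁻¹ v, h q⁻¹ v hv, ?_⟩
    change φ q (φ q⁻¹ v) = v
    rw [map_inv]
    exact MulAut.apply_inv_self _ _ _

/-- restriction of the operators to an invariant subgroup. -/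
def res (φ : Q →* MulAut V) (R : Subgroup V) (hR : Inv φ R) : Q →* MulAut R where
  toFun q :=
    { toFun := fun w => ⟨φ q w, hR q w w.2⟩
      invFun := fun w => ⟨φ q⁻¹ w, hR q⁻¹ w w.2⟩
      left_inv := by
        intro w
        apply Subtype.ext
        change φ q⁻¹ (φ q w) = w
        rw [map_inv]
        exact MulAut.inv_apply_self _ _ _
      right_inv := by
        intro w
        apply Subtype.ext
        change φ q (φ q⁻¹ w) = w
        rw [map_inv]
        exact MulAut.apply_inv_self _ _ _
      map_mul' := by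
        intro a b
        apply Subtype.ext
        change φ q ((a : V) * b) = φ q a * φ q b
        exact map_mul _ _ _ }
  map_one' := by
    ext w
    change φ 1 (w : V) = w
    rw [map_one]; rfl
  map_mul' := by
    intro a b
    ext w
    change φ (a * b) (w : V) = φ a (φ b w)
    rw [map_mul]; rfl

@[simp] theorem res_apply (φ : Q →* MulAut V) (R : Subgroup V) (hR : Inv φ R) (q : Q) (w : R) :
    ((res φ R hR q w : R) : V) = φ q w := rfl

/-- the induced operators on the quotient by an invariant normal subgroup. -/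
def quot (φ : Q →* MulAut V) (M : Subgroup V) [M.Normal] (hM : Inv φ M) :
    Q →* MulAut (V ⧸ M) where
  toFun q := QuotientGroup.congr M M (φ q) (hM.map_eq q)
  map_one' := by
    ext x
    induction x using QuotientGroup.induction_on with
    | H v =>
      rw [QuotientGroup.congr_mk, map_one]; rfl
  map_mul' := by
    intro a b
    ext x
    induction x using QuotientGroup.induction_on with
    | H v =>
      rw [QuotientGroup.congr_mk, MulAut.mul_apply, QuotientGroup.congr_mk,
        QuotientGroup.congr_mk, map_mul]; rfl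

@[simp] theorem quot_mk (φ : Q →* MulAut V) (M : Subgroup V) [M.Normal] (hM : Inv φ M) (q : Q)
    (v : V) : quot φ M hM q (QuotientGroup.mk v) = QuotientGroup.mk (φ q v) :=
  QuotientGroup.congr_mk _ _ _ (hM.map_eq q) _

theorem fixS_inv (φ : Q →* MulAut V) (S : Set Q) (hS : ∀ q : Q, ∀ s ∈ S, ∃ t ∈ S, φ s * φ q = φ q * φ t) :
    Inv φ (fixS φ S) := by
  intro q v hv s hs
  obtain ⟨t, ht, hc⟩ := hS q s hs
  have h1 : φ s (φ q v) = (φ s * φ q) v := rfl
  rw [h1, hc, MulAut.mul_apply, hv t ht]

theorem inv_inf {φ : Q →* MulAut V} {R S : Subgroup V} (hR : Inv φ R) (hS : Inv φ S) :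
    Inv φ (R ⊓ S) := fun q v hv => ⟨hR q v hv.1, hS q v hv.2⟩

/-- fixed points in an invariant subgroup. -/
theorem card_fixS_res [Finite V] (φ : Q →* MulAut V) (R : Subgroup V) (hR : Inv φ R) (S : Set Q) :
    Nat.card (fixS (res φ R hR) S) = Nat.card ↥(R ⊓ fixS φ S) := by
  apply Nat.card_congr
  refine ⟨fun w => ⟨(w.1 : V), w.1.2, fun s hs => ?_⟩, fun v => ⟨⟨v.1, v.2.1⟩, fun s hs => ?_⟩,
    fun w => rfl, fun v => rfl⟩
  · have := w.2 s hs
    exact congrArg Subtype.val this
  · apply Subtype.ext
    exact v.2.2 s hs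

theorem center_inv (φ : Q →* MulAut V) : Inv φ (Subgroup.center V) := by
  intro q v hv
  rw [Subgroup.mem_center_iff] at hv ⊢
  intro g
  have h := hv (φ q⁻¹ g)
  have h2 := congrArg (φ q) h
  rw [map_mul, map_mul, map_inv, MulAut.apply_inv_self] at h2
  exact h2

end Cfsg.Agent.Helper4.CopAut
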