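import Mathlib
import Cfsg.Agent.Helper1.Coprime
import Cfsg.Agent.Helper1.SylowInt
import Cfsg.Agent.Helper4.CopAutA

/-!
# Coprime operator groups: fixed points of quotients and invariant Sylow subgroups

The internal statements about coprime action are transported to a group of operators
`φ : Q →* MulAut V` through the semidirect product `V ⋊[φ] Q`.
-/

set_option autoImplicit false
set_option linter.unusedSectionVars false

namespace Cfsg.Agent.Helper4.CopAut

open SemidirectProduct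
open scoped Pointwise

universe u v

theorem le_normalizer_of_conj_mem {G : Type*} [Group G] (A N : Subgroup G)
    (h : ∀ a ∈ A, ∀ n ∈ N, a * n * a⁻¹ ∈ N) : A ≤ Subgroup.normalizer (N : Set G) := by
  intro a ha
  rw [Subgroup.mem_normalizer_iff]
  intro n
  constructor
  · exact h a ha n
  · intro hn
    have := h a⁻¹ (A.inv_mem ha) _ hn
    simpa [mul_assoc] using this

variable {Q : Type v} {V : Type u} [Group Q] [Group V] [Finite Q] [Finite V]
variable (φ : Q →* MulAut V)

instance finite_sdp : Finite (V ⋊[φ] Q) :=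
  Finite.of_equiv _ (SemidirectProduct.equivProd (φ := φ)).symm

/-- the normal factor. -/
def KK : Subgroup (V ⋊[φ] Q) := (inl : V →* V ⋊[φ] Q).range

/-- the image of a subgroup of operators. -/
def AA (B : Subgroup Q) : Subgroup (V ⋊[φ] Q) := B.map (inr : Q →* V ⋊[φ] Q)

instance KK_normal : (KK φ).Normal := by
  unfold KK
  rw [SemidirectProduct.range_inl_eq_ker_rightHom]
  exact MonoidHom.normal_ker _

theorem card_KK : Nat.card (KK φ) = Nat.card V :=
  (Nat.card_congr (MonoidHom.ofInjective (inl_injective (φ := φ))).toEquiv).symm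

theorem card_AA (B : Subgroup Q) : Nat.card (AA φ B) = Nat.card B :=
  Subgroup.card_map_of_injective (inr_injective (φ := φ))

theorem AA_le_normalizer_KK (B : Subgroup Q) : AA φ B ≤ Subgroup.normalizer (KK φ : Set (V ⋊[φ] Q)) := by
  rw [Subgroup.normalizer_eq_top_iff.2 (KK_normal φ)]
  exact le_top

theorem inr_conj_inl (q : Q) (w : V) :
    (inr q : V ⋊[φ] Q) * inl w * (inr q)⁻¹ = inl (φ q w) := by
  rw [SemidirectProduct.inl_aut, map_inv]

section coprime

variable {p : ℕ} [Fact p.Prime]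

theorem coprime_AA_KK (hQ : IsPGroup p Q) (hcop : (Nat.card V).Coprime p) (B : Subgroup Q) :
    (Nat.card (AA φ B)).Coprime (Nat.card (KK φ)) := by
  rw [card_AA, card_KK]
  obtain ⟨k, hk⟩ := (hQ.to_subgroup B).exists_card_eq
  rw [hk]
  exact (Nat.Coprime.pow_right k hcop).symm

theorem solvable_AA (hQ : IsPGroup p Q) (B : Subgroup Q) : Group.IsSolvable (AA φ B) := by
  have h1 : IsPGroup p (AA φ B) := (hQ.to_subgroup B).map _
  have : Group.IsNilpotent (AA φ B) := h1.isNilpotent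
  infer_instance

theorem inl_mem_map_iff (M : Subgroup V) (w : V) :
    (inl w : V ⋊[φ] Q) ∈ M.map (inl : V →* V ⋊[φ] Q) ↔ w ∈ M :=
  Subgroup.mem_map_iff_mem (inl_injective (φ := φ))

theorem inl_mem_centralizer_AA_iff (B : Subgroup Q) (w : V) :
    (inl w : V ⋊[φ] Q) ∈ Subgroup.centralizer (AA φ B : Set (V ⋊[φ] Q)) ↔
      w ∈ fixS φ (B : Set Q) := by
  rw [Subgroup.mem_centralizer_iff]
  constructor
  · intro h b hb
    have h1 := h (inr b) (Subgroup.mem_map_of_mem _ hb)
    have h2 : (inr b : V ⋊[φ] Q) * inl w * (inr b)⁻¹ = inl w := by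
      rw [h1, mul_inv_cancel_right]
    rw [inr_conj_inl] at h2
    exact inl_injective h2
  · rintro h _ ⟨b, hb, rfl⟩
    have h1 := h b hb
    have h2 := inr_conj_inl φ b w
    rw [h1] at h2
    calc (inr b : V ⋊[φ] Q) * inl w = (inr b * inl w * (inr b)⁻¹) * inr b := by group
      _ = inl w * inr b := by rw [h2]

/-- **Fixed points of a quotient.** -/
theorem card_fixS_mul (hQ : IsPGroup p Q) (hcop : (Nat.card V).Coprime p) (M : Subgroup V)
    [M.Normal] (hM : Inv φ M) (B : Subgroup Q) :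
    Nat.card (fixS φ (B : Set Q)) =
      Nat.card (fixS (res φ M hM) (B : Set Q)) * Nat.card (fixS (quot φ M hM) (B : Set Q)) := by
  -- the restriction of the quotient map
  let θ : fixS φ (B : Set Q) →* fixS (quot φ M hM) (B : Set Q) :=
    ((QuotientGroup.mk' M).comp (fixS φ (B : Set Q)).subtype).codRestrict _ (by
      intro w b hb
      change quot φ M hM b (QuotientGroup.mk (w : V)) = QuotientGroup.mk (w : V)
      rw [quot_mk, w.2 b hb])
  have hθ : ∀ w : fixS φ (B : Set Q), ((θ w : fixS (quot φ M hM) (B : Set Q)) : V ⧸ M) =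
      QuotientGroup.mk (w : V) := fun _ => rfl
  have hker : Nat.card θ.ker = Nat.card (fixS (res φ M hM) (B : Set Q)) := by
    rw [card_fixS_res]
    apply Nat.card_congr
    refine ⟨fun w => ⟨(w.1 : V), ?_, w.1.2⟩, fun v => ⟨⟨v.1, v.2.2⟩, ?_⟩, fun w => rfl,
      fun v => rfl⟩
    · have h := w.2
      rw [MonoidHom.mem_ker] at h
      have h2 := congrArg Subtype.val h
      rw [hθ] at h2
      exact (QuotientGroup.eq_one_iff _).1 h2
    · rw [MonoidHom.mem_ker]
      apply Subtype.ext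
      rw [hθ]
      exact (QuotientGroup.eq_one_iff _).2 v.2.1
  have hsurj : Function.Surjective θ := by
    intro y
    obtain ⟨v, hv⟩ := QuotientGroup.mk_surjective (y : V ⧸ M)
    have hfix : ∀ b ∈ B, φ b v * v⁻¹ ∈ M := by
      intro b hb
      have h1 := y.2 b hb
      rw [← hv, quot_mk] at h1
      rw [← div_eq_mul_inv]
      exact QuotientGroup.eq_iff_div_mem.1 h1
    obtain ⟨c, hc, hcN⟩ := Cfsg.Agent.Helper1.coprime_fixed_coset (AA φ B) (KK φ)
      (AA_le_normalizer_KK φ B) (coprime_AA_KK φ hQ hcop B) (Or.inl (solvable_AA φ hQ B))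
      (M.map (inl : V →* V ⋊[φ] Q)) (Subgroup.map_le_range _ _)
      (by
        have h1 := Subgroup.le_normalizer_map (inl : V →* V ⋊[φ] Q) (H := M)
        rw [Subgroup.normalizer_eq_top_iff.2 inferInstance, ← MonoidHom.range_eq_map] at h1
        exact h1)
      (by
        apply le_normalizer_of_conj_mem
        rintro _ ⟨b, hb, rfl⟩ _ ⟨m, hm, rfl⟩
        rw [inr_conj_inl]
        exact Subgroup.mem_map_of_mem _ (hM b m hm))
      (inl v) ⟨v, rfl⟩
      (by
        rintro _ ⟨b, hb, rfl⟩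
        rw [inr_conj_inl, ← map_inv, ← map_mul]
        exact Subgroup.mem_map_of_mem _ (hfix b hb))
    obtain ⟨⟨v', rfl⟩, hc2⟩ := hc
    have hv' : v' ∈ fixS φ (B : Set Q) := (inl_mem_centralizer_AA_iff φ B v').1 hc2
    refine ⟨⟨v', hv'⟩, ?_⟩
    apply Subtype.ext
    rw [hθ, ← hv]
    rw [← map_inv, ← map_mul, inl_mem_map_iff] at hcN
    exact (QuotientGroup.eq.2 hcN).symm
  have hrange : Nat.card θ.range = Nat.card (fixS (quot φ M hM) (B : Set Q)) := by
    rw [MonoidHom.range_eq_top.2 hsurj, Subgroup.card_top]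
  rw [← hker, ← hrange, ← Subgroup.index_ker]
  exact (Subgroup.card_mul_index θ.ker).symm

/-- **Invariant Sylow subgroups and their fixed points.** -/
theorem exists_inv_sylow (hQ : IsPGroup p Q) (hcop : (Nat.card V).Coprime p) (r : ℕ)
    [hr : Fact r.Prime] :
    ∃ R : Subgroup V, Inv φ R ∧ Nat.card R = r ^ (Nat.card V).factorization r ∧
      ∀ B : Subgroup Q, Nat.card ↥(R ⊓ fixS φ (B : Set Q)) =
        r ^ (Nat.card (fixS φ (B : Set Q))).factorization r := by
  obtain ⟨P₀, hP₀⟩ := Cfsg.Agent.Helper1.exists_invariant_sylow (p := r) (AA φ ⊤) (KK φ)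
    (AA_le_normalizer_KK φ ⊤) (coprime_AA_KK φ hQ hcop ⊤) (Or.inl (solvable_AA φ hQ ⊤))
  obtain ⟨P₀', hP₀'⟩ : ∃ P₀' : Subgroup (V ⋊[φ] Q),
      P₀' = (P₀ : Subgroup (KK φ)).map (KK φ).subtype := ⟨_, rfl⟩
  rw [← hP₀'] at hP₀
  have hP₀K : P₀' ≤ KK φ := by rw [hP₀']; exact Subgroup.map_subtype_le _
  have hcardP₀ : Nat.card P₀' = r ^ (Nat.card V).factorization r := by
    rw [hP₀', Subgroup.card_map_of_injective (KK φ).subtype_injective, P₀.card_eq_multiplicity,
      card_KK]
  obtain ⟨R, hRdef⟩ : ∃ R : Subgroup V, R = P₀'.comap (inl : V →* V ⋊[φ] Q) := ⟨_, rfl⟩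
  have hRmem : ∀ w : V, w ∈ R ↔ (inl w : V ⋊[φ] Q) ∈ P₀' := by
    intro w; rw [hRdef]; exact Subgroup.mem_comap
  have hRmap : R.map (inl : V →* V ⋊[φ] Q) = P₀' := by
    rw [hRdef]
    apply Subgroup.map_comap_eq_self
    exact hP₀K
  have hRinv : Inv φ R := by
    intro q w hw
    rw [hRmem] at hw ⊢
    rw [← inr_conj_inl]
    have hq : (inr q : V ⋊[φ] Q) ∈ AA φ ⊤ := Subgroup.mem_map_of_mem _ (Subgroup.mem_top q)
    exact (Subgroup.mem_normalizer_iff.1 (hP₀ hq) _).1 hw
  have hRcard : Nat.card R = r ^ (Nat.card V).factorization r := by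
    rw [← hcardP₀, ← hRmap]
    exact (Subgroup.card_map_of_injective inl_injective).symm
  have hRp : IsPGroup r R := IsPGroup.of_card hRcard
  refine ⟨R, hRinv, hRcard, fun B => ?_⟩
  obtain ⟨D, hD⟩ : ∃ D : Subgroup V, D = fixS φ (B : Set Q) := ⟨_, rfl⟩
  rw [← hD]
  apply le_antisymm
  · -- an `r`-subgroup of `D`
    have h1 : IsPGroup r ↥(R ⊓ D) := hRp.to_le inf_le_left
    obtain ⟨e, he⟩ := h1.exists_card_eq
    have h2 : Nat.card ↥(R ⊓ D) ∣ Nat.card D := Subgroup.card_dvd_of_le inf_le_right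
    rw [he] at h2 ⊢
    exact Nat.pow_le_pow_right hr.out.pos
      ((hr.out.pow_dvd_iff_le_factorization Nat.card_pos.ne').1 h2)
  · -- a Sylow subgroup of `D` can be moved into `R`
    obtain ⟨S⟩ : Nonempty (Sylow r D) := inferInstance
    obtain ⟨S', hS'⟩ : ∃ S' : Subgroup V, S' = (S : Subgroup D).map D.subtype := ⟨_, rfl⟩
    have hS'D : S' ≤ D := by rw [hS']; exact Subgroup.map_subtype_le _
    have hS'card : Nat.card S' = r ^ (Nat.card D).factorization r := by
      rw [hS', Subgroup.card_map_of_injective D.subtype_injective, S.card_eq_multiplicity]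
    have hS'p : IsPGroup r S' := IsPGroup.of_card hS'card
    obtain ⟨U, hU⟩ : ∃ U : Subgroup (V ⋊[φ] Q), U = S'.map (inl : V →* V ⋊[φ] Q) := ⟨_, rfl⟩
    have hUK : U ≤ KK φ := by rw [hU]; exact Subgroup.map_le_range _ _
    have hUp : IsPGroup r U := by rw [hU]; exact hS'p.map _
    have hUcent : ∀ a ∈ AA φ B, ∀ x ∈ U, a * x * a⁻¹ = x := by
      rintro _ ⟨b, hb, rfl⟩ x hx
      rw [hU] at hx
      obtain ⟨w, hw, rfl⟩ := hx
      rw [inr_conj_inl]
      have : w ∈ fixS φ (B : Set Q) := by rw [← hD]; exact hS'D hw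
      rw [this b hb]
    have hUA : AA φ B ≤ Subgroup.normalizer (U : Set (V ⋊[φ] Q)) := by
      apply le_normalizer_of_conj_mem
      intro a ha x hx
      rw [hUcent a ha x hx]
      exact hx
    obtain ⟨P', hUP', hP'⟩ := Cfsg.Agent.Helper1.exists_invariant_sylow_ge (p := r) (AA φ B) (KK φ)
      (AA_le_normalizer_KK φ B) (coprime_AA_KK φ hQ hcop B) (Or.inl (solvable_AA φ hQ B)) U hUK hUp
      hUA
    have hAB : AA φ B ≤ AA φ ⊤ := Subgroup.map_mono le_top
    obtain ⟨c, hc, hcP⟩ := Cfsg.Agent.Helper1.invariant_sylow_conj (p := r) (AA φ B) (KK φ)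
      (AA_le_normalizer_KK φ B) (coprime_AA_KK φ hQ hcop B) (Or.inl (solvable_AA φ hQ B)) P' P₀
      hP' (by rw [← hP₀']; exact hAB.trans hP₀)
    -- `c = inl d` with `d ∈ D`
    obtain ⟨d, hd⟩ : ∃ d : V, (inl d : V ⋊[φ] Q) = (c : V ⋊[φ] Q) := c.2
    have hdD : d ∈ D := by
      rw [hD, ← inl_mem_centralizer_AA_iff, hd]
      exact hc
    -- conjugating `S'` by `d` lands in `R ⊓ D`
    have hconj : ∀ w ∈ S', d * w * d⁻¹ ∈ R ⊓ D := by
      intro w hw
      refine Subgroup.mem_inf.mpr ⟨?_, D.mul_mem (D.mul_mem hdD (hS'D hw)) (D.inv_mem hdD)⟩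
      rw [hRmem, map_mul, map_mul, map_inv, hd, hP₀']
      have h1 : (inl w : V ⋊[φ] Q) ∈ (P' : Subgroup (KK φ)).map (KK φ).subtype :=
        hUP' (by rw [hU]; exact Subgroup.mem_map_of_mem _ hw)
      have h2 : MulAut.conj (c : V ⋊[φ] Q) • (P' : Subgroup (KK φ)).map (KK φ).subtype =
          (P₀ : Subgroup (KK φ)).map (KK φ).subtype := by
        rw [← Cfsg.Agent.Helper1.sylow_smul_map, ← hcP]
        rfl
      rw [← h2]
      exact Subgroup.smul_mem_pointwise_smul _ _ _ h1
    have hinj : Function.Injective (fun w : S' => (⟨d * w * d⁻¹, hconj w w.2⟩ : ↥(R ⊓ D))) := by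
      intro a b hab
      have h1 : d * (a : V) * d⁻¹ = d * (b : V) * d⁻¹ := congrArg Subtype.val hab
      apply Subtype.ext
      exact mul_left_cancel (mul_right_cancel h1)
    rw [← hS'card]
    exact Nat.card_le_card_of_injective _ hinj

end coprime

end Cfsg.Agent.Helper4.CopAut
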