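import Cfsg.Agent.Helper7.ExtFO

set_option autoImplicit false
set_option linter.unusedSectionVars false
set_option linter.unusedSimpArgs false

/-! Tensor product stabilisers in `SL` (helper4, S5637): the concrete model `V = (m × n → F)` of
`U ⊗ W`, `U = (m → F)`, `W = (n → F)`: pure tensors, contractions, fibres, cofibres, the root
elements `1 ⊗ (1 + w ⊗ β)`, the elements `A ⊗ B`. -/

namespace Cfsg.Agent.Helper4.TP

open Module Matrix Cfsg.Agent.Helper7.ExtF
open scoped Kronecker

variable {F : Type*} [Field F] {m n : Type} [Fintype m] [DecidableEq m] [Fintype n]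
  [DecidableEq n]

/-- the pure tensor `u ⊗ w`. -/
def tmul : (m → F) →ₗ[F] (n → F) →ₗ[F] (m × n → F) :=
  LinearMap.mk₂ F (fun u w p => u p.1 * w p.2)
    (by intro u u' w; ext p; simp [add_mul])
    (by intro c u w; ext p; simp [mul_assoc])
    (by intro u w w'; ext p; simp [mul_add])
    (by intro c u w; ext p; simp [mul_left_comm])

@[simp] theorem tmul_apply (u : m → F) (w : n → F) (p : m × n) :
    tmul u w p = u p.1 * w p.2 := rfl

/-- contraction of the second factor with a functional. -/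
def con : Module.Dual F (n → F) →ₗ[F] (m × n → F) →ₗ[F] (m → F) :=
  LinearMap.mk₂ F (fun β x i => β (fun j => x (i, j)))
    (by intro β β' x; ext i; simp)
    (by intro c β x; ext i; simp)
    (by
      intro β x y; ext i
      show β ((fun j => x (i, j)) + (fun j => y (i, j))) = _
      rw [map_add]; rfl)
    (by
      intro c β x; ext i
      show β (c • (fun j => x (i, j))) = _
      rw [map_smul]; rfl)

theorem con_apply (β : Module.Dual F (n → F)) (x : m × n → F) (i : m) :
    con β x i = β (fun j => x (i, j)) := rfl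

@[simp] theorem con_tmul (β : Module.Dual F (n → F)) (u : m → F) (w : n → F) :
    con β (tmul u w) = β w • u := by
  ext i
  rw [con_apply]
  have : (fun j => tmul u w (i, j)) = u i • w := by
    ext j; simp
  rw [this, map_smul, Pi.smul_apply, smul_eq_mul, smul_eq_mul, mul_comm]

/-- the coordinate functional. -/
def pr (j : n) : Module.Dual F (n → F) := LinearMap.proj j

@[simp] theorem pr_apply (j : n) (w : n → F) : pr (F := F) j w = w j := rfl

theorem con_pr (j : n) (x : m × n → F) (i : m) : con (pr j) x i = x (i, j) := rfl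

theorem eq_zero_of_con {x : m × n → F} (h : ∀ β : Module.Dual F (n → F), con β x = 0) :
    x = 0 := by
  ext ⟨i, j⟩
  have := congrFun (h (pr j)) i
  rwa [con_pr] at this

theorem eq_of_con {x y : m × n → F} (h : ∀ β : Module.Dual F (n → F), con β x = con β y) :
    x = y := by
  rw [← sub_eq_zero]
  apply eq_zero_of_con
  intro β
  rw [map_sub, h β, sub_self]

/-- every vector is a sum of pure tensors. -/
theorem sum_tmul_con (x : m × n → F) :
    x = ∑ j, tmul (con (pr j) x) (Pi.single j (1 : F)) := by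
  ext ⟨i, j⟩
  rw [Finset.sum_apply]
  simp only [tmul_apply, con_pr, Pi.single_apply, mul_ite, mul_one, mul_zero]
  rw [Finset.sum_ite_eq]
  simp

/-- two endomorphisms (or linear maps) agreeing on pure tensors are equal. -/
theorem ext_tmul {M : Type*} [AddCommGroup M] [Module F M] {f g : (m × n → F) →ₗ[F] M}
    (h : ∀ u w, f (tmul u w) = g (tmul u w)) : f = g := by
  apply LinearMap.ext
  intro x
  rw [sum_tmul_con x, map_sum, map_sum]
  exact Finset.sum_congr rfl fun j _ => h _ _

/-- a functional with value one at a non-zero vector. -/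
theorem exists_dual_one {ι : Type} [Fintype ι] {w : ι → F} (hw : w ≠ 0) :
    ∃ β : Module.Dual F (ι → F), β w = 1 := by
  have : w ∉ (⊥ : Submodule F (ι → F)) := by
    rw [Submodule.mem_bot]; exact hw
  obtain ⟨ψ, -, h⟩ := exists_kfunc (K := F) (⊥ : Submodule F (ι → F)) this
  exact ⟨ψ, h⟩

theorem tmul_eq_zero {u : m → F} {w : n → F} : tmul u w = 0 ↔ u = 0 ∨ w = 0 := by
  constructor
  · intro h
    by_contra hcon
    push Not at hcon
    obtain ⟨β, hβ⟩ := exists_dual_one hcon.2
    have := congrArg (con β) h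
    rw [con_tmul, hβ, one_smul, map_zero] at this
    exact hcon.1 this
  · rintro (rfl | rfl) <;> simp

/-! ### fibres and cofibres -/

/-- the fibre `U ⊗ w`. -/
def fib (w : n → F) : Submodule F (m × n → F) :=
  LinearMap.range ((tmul (F := F) (m := m) (n := n)).flip w)

theorem mem_fib {w : n → F} {x : m × n → F} : x ∈ fib w ↔ ∃ u : m → F, tmul u w = x := by
  unfold fib
  rw [LinearMap.mem_range]
  rfl

theorem tmul_mem_fib (u : m → F) (w : n → F) : tmul u w ∈ fib w := mem_fib.mpr ⟨u, rfl⟩

/-- the cofibre `U ⊗ ker β`. -/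
def cof (β : Module.Dual F (n → F)) : Submodule F (m × n → F) :=
  LinearMap.ker (con (m := m) β)

theorem mem_cof {β : Module.Dual F (n → F)} {x : m × n → F} : x ∈ cof β ↔ con β x = 0 :=
  LinearMap.mem_ker

theorem fib_le_cof {w : n → F} {β : Module.Dual F (n → F)} (h : β w = 0) :
    fib (m := m) w ≤ cof β := by
  intro x hx
  obtain ⟨u, rfl⟩ := mem_fib.mp hx
  rw [mem_cof, con_tmul, h, zero_smul]

theorem tmul_flip_injective {w : n → F} (hw : w ≠ 0) :
    Function.Injective ((tmul (F := F) (m := m) (n := n)).flip w) := by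
  obtain ⟨β, hβ⟩ := exists_dual_one hw
  intro u u' h
  have := congrArg (con β) h
  simpa [hβ] using this

theorem finrank_fib {w : n → F} (hw : w ≠ 0) :
    finrank F ↥(fib (m := m) w) = Fintype.card m := by
  unfold fib
  rw [LinearMap.finrank_range_of_inj (tmul_flip_injective hw), Module.finrank_fintype_fun_eq_card]

theorem con_surjective {β : Module.Dual F (n → F)} (hβ : β ≠ 0) :
    Function.Surjective (con (m := m) β) := by
  obtain ⟨w, hw⟩ : ∃ w, β w ≠ 0 := by
    by_contra h
    push Not at h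
    exact hβ (LinearMap.ext h)
  intro u
  refine ⟨tmul ((β w)⁻¹ • u) w, ?_⟩
  rw [con_tmul, smul_smul, mul_inv_cancel₀ hw, one_smul]

theorem finrank_cof {β : Module.Dual F (n → F)} (hβ : β ≠ 0) :
    finrank F ↥(cof (m := m) β) + Fintype.card m = Fintype.card m * Fintype.card n := by
  have h := LinearMap.finrank_range_add_finrank_ker (con (m := m) β)
  rw [LinearMap.range_eq_top.mpr (con_surjective hβ), finrank_top,
    Module.finrank_fintype_fun_eq_card, Module.finrank_fintype_fun_eq_card, Fintype.card_prod] at h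
  unfold cof
  omega

/-- membership in a fibre in terms of contractions. -/
theorem mem_fib_iff_con {w₀ : n → F} (hw₀ : w₀ ≠ 0) {x : m × n → F} :
    x ∈ fib w₀ ↔ ∀ β : Module.Dual F (n → F), β w₀ = 0 → con β x = 0 := by
  constructor
  · intro hx β hβ
    exact mem_cof.mp (fib_le_cof hβ hx)
  · intro h
    obtain ⟨β₀, hβ₀⟩ := exists_dual_one hw₀
    refine mem_fib.mpr ⟨con β₀ x, ?_⟩
    apply eq_of_con
    intro β
    have hdec : β = β w₀ • β₀ + (β - β w₀ • β₀) := by abel
    have h0 : (β - β w₀ • β₀) w₀ = 0 := by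
      simp [hβ₀]
    have h1 := h _ h0
    rw [map_sub, LinearMap.sub_apply, map_smul, LinearMap.smul_apply, sub_eq_zero] at h1
    rw [con_tmul, h1]

/-- two fibres with a common non-zero vector are equal. -/
theorem fib_eq_of_mem {w w' : n → F} {x : m × n → F} (hx0 : x ≠ 0)
    (hx : x ∈ fib w) (hx' : x ∈ fib w') : fib (m := m) w = fib w' := by
  obtain ⟨u, rfl⟩ := mem_fib.mp hx
  obtain ⟨u', hu'⟩ := mem_fib.mp hx'
  have hu0 : u ≠ 0 := fun h => hx0 (by rw [h]; simp)
  have hw0 : w ≠ 0 := fun h => hx0 (by rw [h]; simp)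
  have hw'0 : w' ≠ 0 := fun h => hx0 (by rw [← hu', h]; simp)
  -- `w'` is a multiple of `w`
  by_cases hmem : w' ∈ Submodule.span F {w}
  · obtain ⟨c, rfl⟩ := Submodule.mem_span_singleton.mp hmem
    have hc : c ≠ 0 := fun h => hw'0 (by rw [h, zero_smul])
    ext y
    rw [mem_fib, mem_fib]
    constructor
    · rintro ⟨v, rfl⟩
      exact ⟨c⁻¹ • v, by rw [map_smul, map_smul, LinearMap.smul_apply, smul_smul,
        mul_inv_cancel₀ hc, one_smul]⟩
    · rintro ⟨v, rfl⟩
      exact ⟨c • v, by rw [map_smul, map_smul, LinearMap.smul_apply]⟩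
  · exfalso
    obtain ⟨ψ, h1, h2⟩ := exists_kfunc_two (K := F) (⟨hw0, hmem⟩ : KInd (K := F) w w') 1 0
    have := congrArg (con ψ) hu'
    rw [con_tmul, con_tmul, h1, h2, zero_smul, one_smul] at this
    exact hu0 this.symm

/-! ### the root elements -/

/-- the endomorphism `x ↦ X (c_δ x) ⊗ w`. -/
def Psi (X : Module.End F (m → F)) (w : n → F) (δ : Module.Dual F (n → F)) :
    Module.End F (m × n → F) :=
  ((tmul (F := F) (m := m) (n := n)).flip w) ∘ₗ X ∘ₗ (con δ)

@[simp] theorem Psi_apply (X : Module.End F (m → F)) (w : n → F) (δ : Module.Dual F (n → F))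
    (x : m × n → F) : Psi X w δ x = tmul (X (con δ x)) w := rfl

/-- the nilpotent part `1 ⊗ (w ⊗ β)` of a root element. -/
def NN (w : n → F) (β : Module.Dual F (n → F)) : Module.End F (m × n → F) :=
  ((tmul (F := F) (m := m) (n := n)).flip w) ∘ₗ (con β)

@[simp] theorem NN_apply (w : n → F) (β : Module.Dual F (n → F)) (x : m × n → F) :
    NN w β x = tmul (con β x) w := rfl

theorem Psi_mul_Psi (X Y : Module.End F (m → F)) (w w' : n → F) (δ δ' : Module.Dual F (n → F)) :
    Psi X w δ * Psi Y w' δ' = δ w' • Psi (X * Y) w δ' := by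
  apply LinearMap.ext; intro x
  simp only [Module.End.mul_apply, Psi_apply, con_tmul, map_smul, LinearMap.smul_apply]

theorem NN_sq {w : n → F} {β : Module.Dual F (n → F)} (h : β w = 0) :
    NN (m := m) w β * NN w β = 0 := by
  apply LinearMap.ext; intro x
  simp only [Module.End.mul_apply, NN_apply, con_tmul, h, zero_smul, map_zero,
    LinearMap.zero_apply]

/-- the root element `1 ⊗ (1 + w ⊗ β)`. -/
def zz (w : n → F) (β : Module.Dual F (n → F)) (h : β w = 0) :
    (m × n → F) ≃ₗ[F] (m × n → F) := uni (NN w β) (NN_sq h)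

@[simp] theorem zz_apply (w : n → F) (β : Module.Dual F (n → F)) (h : β w = 0) (x : m × n → F) :
    zz w β h x = x + tmul (con β x) w := rfl

theorem zz_inv_apply (w : n → F) (β : Module.Dual F (n → F)) (h : β w = 0) (x : m × n → F) :
    (zz w β h)⁻¹ x = x - tmul (con β x) w := uni_inv_apply _ _ x

theorem zz_fix {w : n → F} {β : Module.Dual F (n → F)} (h : β w = 0) {x : m × n → F}
    (hx : x ∈ cof β) : zz w β h x = x := by
  rw [zz_apply, mem_cof.mp hx, map_zero, LinearMap.zero_apply, add_zero]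

theorem range_NN_le (w : n → F) (β : Module.Dual F (n → F)) (x : m × n → F) :
    NN w β x ∈ fib w := tmul_mem_fib _ _

/-! ### the elements `A ⊗ B` -/

/-- the general linear group as the group of automorphisms of the natural module. -/
noncomputable def thetaG {ι : Type} [Fintype ι] [DecidableEq ι] :
    GL ι F ≃* ((ι → F) ≃ₗ[F] (ι → F)) :=
  Matrix.GeneralLinearGroup.toLin.trans
    (LinearMap.GeneralLinearGroup.generalLinearEquiv F (ι → F))

theorem thetaG_apply {ι : Type} [Fintype ι] [DecidableEq ι] (g : GL ι F) (v : ι → F) :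
    thetaG g v = (g : Matrix ι ι F) *ᵥ v := rfl

theorem thetaG_toLinearMap {ι : Type} [Fintype ι] [DecidableEq ι] (g : GL ι F) :
    ((thetaG g : (ι → F) ≃ₗ[F] (ι → F)) : (ι → F) →ₗ[F] (ι → F)) =
      Matrix.toLin' (g : Matrix ι ι F) := by
  ext v; rfl

theorem det_thetaG {ι : Type} [Fintype ι] [DecidableEq ι] (g : GL ι F) :
    LinearMap.det ((thetaG g : (ι → F) ≃ₗ[F] (ι → F)) : (ι → F) →ₗ[F] (ι → F)) =
      (g : Matrix ι ι F).det := by
  rw [thetaG_toLinearMap, LinearMap.det_toLin']

/-- the Kronecker product of two invertible matrices, as an invertible matrix. -/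
def kr (A : GL m F) (B : GL n F) : GL (m × n) F where
  val := (A : Matrix m m F) ⊗ₖ (B : Matrix n n F)
  inv := ((A⁻¹ : GL m F) : Matrix m m F) ⊗ₖ ((B⁻¹ : GL n F) : Matrix n n F)
  val_inv := by
    rw [← Matrix.mul_kronecker_mul, ← Units.val_mul, ← Units.val_mul, mul_inv_cancel,
      mul_inv_cancel, Units.val_one, Units.val_one, Matrix.one_kronecker_one]
  inv_val := by
    rw [← Matrix.mul_kronecker_mul, ← Units.val_mul, ← Units.val_mul, inv_mul_cancel,
      inv_mul_cancel, Units.val_one, Units.val_one, Matrix.one_kronecker_one]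

@[simp] theorem kr_val (A : GL m F) (B : GL n F) :
    ((kr A B : GL (m × n) F) : Matrix (m × n) (m × n) F) =
      (A : Matrix m m F) ⊗ₖ (B : Matrix n n F) := rfl

theorem kr_mul (A A' : GL m F) (B B' : GL n F) : kr (A * A') (B * B') = kr A B * kr A' B' := by
  apply Units.ext
  rw [Units.val_mul, kr_val, kr_val, kr_val, Units.val_mul, Units.val_mul,
    Matrix.mul_kronecker_mul]

theorem kr_one : kr (1 : GL m F) (1 : GL n F) = 1 := by
  apply Units.ext
  rw [kr_val, Units.val_one, Units.val_one, Units.val_one, Matrix.one_kronecker_one]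

theorem kr_inv (A : GL m F) (B : GL n F) : (kr A B)⁻¹ = kr A⁻¹ B⁻¹ := by
  apply inv_eq_of_mul_eq_one_right
  rw [← kr_mul, mul_inv_cancel, mul_inv_cancel, kr_one]

theorem det_kr (A : GL m F) (B : GL n F) :
    ((kr A B : GL (m × n) F) : Matrix (m × n) (m × n) F).det =
      (A : Matrix m m F).det ^ Fintype.card n * (B : Matrix n n F).det ^ Fintype.card m := by
  rw [kr_val, Matrix.det_kronecker]

theorem kronecker_mulVec_tmul (A : Matrix m m F) (B : Matrix n n F) (u : m → F) (w : n → F) :
    (A ⊗ₖ B) *ᵥ (tmul u w) = tmul (A *ᵥ u) (B *ᵥ w) := by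
  ext ⟨i, j⟩
  simp only [mulVec, dotProduct, tmul_apply, kroneckerMap_apply]
  rw [Fintype.sum_prod_type, Finset.sum_mul_sum]
  refine Finset.sum_congr rfl fun k _ => Finset.sum_congr rfl fun l _ => ?_
  ring

/-- the element `A ⊗ B` as an automorphism. -/
noncomputable def tt (A : GL m F) (B : GL n F) : (m × n → F) ≃ₗ[F] (m × n → F) :=
  thetaG (kr A B)

@[simp] theorem tt_tmul (A : GL m F) (B : GL n F) (u : m → F) (w : n → F) :
    tt A B (tmul u w) = tmul ((A : Matrix m m F) *ᵥ u) ((B : Matrix n n F) *ᵥ w) := by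
  unfold tt
  rw [thetaG_apply, kr_val, kronecker_mulVec_tmul]

theorem tt_mul (A A' : GL m F) (B B' : GL n F) : tt (A * A') (B * B') = tt A B * tt A' B' := by
  unfold tt
  rw [kr_mul, map_mul]

theorem tt_one : tt (1 : GL m F) (1 : GL n F) = 1 := by
  unfold tt
  rw [kr_one, map_one]

theorem tt_inv (A : GL m F) (B : GL n F) : (tt A B)⁻¹ = tt A⁻¹ B⁻¹ := by
  unfold tt
  rw [← map_inv, kr_inv]

theorem det_tt (A : GL m F) (B : GL n F) :
    LinearMap.det ((tt A B : (m × n → F) ≃ₗ[F] (m × n → F)) : (m × n → F) →ₗ[F] (m × n → F)) =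
      (A : Matrix m m F).det ^ Fintype.card n * (B : Matrix n n F).det ^ Fintype.card m := by
  unfold tt
  rw [det_thetaG, det_kr]

/-- the image of a fibre under `A ⊗ B`. -/
theorem img_tt_fib (A : GL m F) (B : GL n F) (w : n → F) :
    img (tt A B) (fib w) = fib ((B : Matrix n n F) *ᵥ w) := by
  ext x
  rw [mem_img, mem_fib]
  constructor
  · rintro ⟨y, hy, rfl⟩
    obtain ⟨u, rfl⟩ := mem_fib.mp hy
    exact ⟨_, (tt_tmul A B u w).symm⟩
  · rintro ⟨u, rfl⟩
    refine ⟨tmul (((A⁻¹ : GL m F) : Matrix m m F) *ᵥ u) w, tmul_mem_fib _ _, ?_⟩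
    rw [tt_tmul, Matrix.mulVec_mulVec, ← Units.val_mul, mul_inv_cancel, Units.val_one,
      Matrix.one_mulVec]

/-- contraction after `A ⊗ B`. -/
theorem con_tt (A : GL m F) (B : GL n F) (β : Module.Dual F (n → F)) (x : m × n → F) :
    con β (tt A B x) =
      (A : Matrix m m F) *ᵥ con (β ∘ₗ Matrix.toLin' (B : Matrix n n F)) x := by
  have h : (con β) ∘ₗ ((tt A B : (m × n → F) ≃ₗ[F] (m × n → F)) : (m × n → F) →ₗ[F] (m × n → F))
      = (Matrix.toLin' (A : Matrix m m F)) ∘ₗ con (β ∘ₗ Matrix.toLin' (B : Matrix n n F)) := by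
    apply ext_tmul
    intro u w
    simp only [LinearMap.comp_apply, LinearEquiv.coe_coe, tt_tmul, con_tmul, map_smul,
      Matrix.toLin'_apply]
  exact LinearMap.congr_fun h x

/-! ### the statements of the main steps -/

/-- the hypothesis (Q): the group meets the unipotent radical of the stabiliser of a fibre in more
than the root group. -/
def QQ (G : Subgroup ((m × n → F) ≃ₗ[F] (m × n → F))) : Prop :=
  ∃ g ∈ G, ∃ w₀ : n → F, w₀ ≠ 0 ∧ (∀ x, g x - x ∈ fib w₀) ∧ (∀ x ∈ fib (m := m) w₀, g x = x) ∧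
    ¬ ∃ δ : Module.Dual F (n → F), ∀ x, g x = x + tmul (con δ x) w₀

/-- the group contains the elementary root group `1 + c E_{pq}`. -/
def EL (G : Subgroup ((m × n → F) ≃ₗ[F] (m × n → F))) (p q : m × n) : Prop :=
  ∀ c : F, InX G (Pi.single p (1 : F)) (c • (LinearMap.proj q : Module.Dual F (m × n → F)))

/-- `g` maps the fibre of `w` onto some fibre. -/
def FibTo (g : (m × n → F) ≃ₗ[F] (m × n → F)) (w : n → F) : Prop :=
  ∃ w' : n → F, w' ≠ 0 ∧ img g (fib w) = fib w'

end Cfsg.Agent.Helper4.TP
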