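import Mathlib

set_option autoImplicit false

/-!
Helper library (helper4): coordinates `c : E → (ι → ZMod 2)` of an extraspecial 2-group modulo its
centre carrying the squaring map to a function `Qs`, and the lifting of additive bijections of the
coordinate space preserving `Qs` to automorphisms of the group (fibre product argument).
-/

namespace Cfsg.Agent.Helper4.ExOut

/-- coordinates of a 2-group `E` modulo the central subgroup `{1, z}`, carrying squaring to the
function `Qs`. -/
structure Coord {E : Type*} [Group E] {ι : Type} (z : E) (c : E → (ι → ZMod 2))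
    (Qs : (ι → ZMod 2) → ZMod 2) : Prop where
  z_ne : z ≠ 1
  z_sq : z * z = 1
  z_cen : ∀ x : E, z * x = x * z
  cen : ∀ x : E, (∀ y : E, x * y = y * x) → x = 1 ∨ x = z
  map_mul : ∀ x y : E, c (x * y) = c x + c y
  surj : Function.Surjective c
  ker : ∀ x : E, c x = 0 ↔ (x = 1 ∨ x = z)
  sq0 : ∀ x : E, Qs (c x) = 0 → x * x = 1
  sq1 : ∀ x : E, Qs (c x) ≠ 0 → x * x = z

namespace Coord

variable {E : Type*} [Group E] {ι : Type} {z : E} {c : E → (ι → ZMod 2)}
  {Qs : (ι → ZMod 2) → ZMod 2}

theorem vec_add_self (v : ι → ZMod 2) : v + v = 0 := by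
  funext i
  exact CharTwo.add_self_eq_zero (v i)

theorem map_one (h : Coord z c Qs) : c 1 = 0 := (h.ker 1).mpr (Or.inl rfl)

theorem map_z (h : Coord z c Qs) : c z = 0 := (h.ker z).mpr (Or.inr rfl)

theorem map_inv (h : Coord z c Qs) (x : E) : c x⁻¹ = c x := by
  have h1 : c x + c x⁻¹ = 0 := by rw [← h.map_mul, mul_inv_cancel, h.map_one]
  have h2 : c x + c x = 0 := vec_add_self _
  exact add_left_cancel (h1.trans h2.symm)

theorem sq_eq_of (h : Coord z c Qs) {x y : E} (hxy : Qs (c y) = Qs (c x)) : y * y = x * x := by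
  by_cases h0 : Qs (c x) = 0
  · rw [h.sq0 x h0, h.sq0 y (hxy.trans h0)]
  · rw [h.sq1 x h0, h.sq1 y (fun h1 => h0 (hxy.symm.trans h1))]

theorem sq_mem (h : Coord z c Qs) (x : E) : x * x = 1 ∨ x * x = z := by
  by_cases h0 : Qs (c x) = 0
  · exact Or.inl (h.sq0 x h0)
  · exact Or.inr (h.sq1 x h0)

theorem eq_of_map_eq (h : Coord z c Qs) {x y : E} (hxy : c x = c y) : y = x ∨ y = x * z := by
  have h1 : c (x⁻¹ * y) = 0 := by rw [h.map_mul, h.map_inv, hxy, vec_add_self]
  rcases (h.ker _).mp h1 with h2 | h2
  · left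
    have := congrArg (fun t => x * t) h2
    simpa using this
  · right
    have := congrArg (fun t => x * t) h2
    simpa using this

/-- the fibre product of `E` with itself over an additive bijection of the coordinate space. -/
def fib (h : Coord z c Qs) (T : (ι → ZMod 2) ≃+ (ι → ZMod 2)) : Subgroup (E × E) where
  carrier := {p | c p.2 = T (c p.1)}
  mul_mem' := by
    intro p p' hp hp'
    show c (p.2 * p'.2) = T (c (p.1 * p'.1))
    have hp1 : c p.2 = T (c p.1) := hp
    have hp2 : c p'.2 = T (c p'.1) := hp'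
    rw [h.map_mul, h.map_mul, _root_.map_add, hp1, hp2]
  one_mem' := by
    show c (1 : E) = T (c (1 : E))
    rw [h.map_one, _root_.map_zero]
  inv_mem' := by
    intro p hp
    show c (p.2⁻¹) = T (c (p.1⁻¹))
    have hp1 : c p.2 = T (c p.1) := hp
    rw [h.map_inv, h.map_inv, hp1]

theorem mem_fib (h : Coord z c Qs) (T : (ι → ZMod 2) ≃+ (ι → ZMod 2)) (p : E × E) :
    p ∈ h.fib T ↔ c p.2 = T (c p.1) := Iff.rfl

/-- in a group all of whose squares are trivial, any non-identity element lies outside the
kernel of some homomorphism to `ZMod 2`. -/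
theorem exists_hom_ne {Y : Type*} [Group Y] (hexp : ∀ y : Y, y * y = 1) (y₀ : Y) (hy₀ : y₀ ≠ 1) :
    ∃ f : Y →* Multiplicative (ZMod 2), f y₀ ≠ 1 := by
  classical
  have hinv : ∀ y : Y, y⁻¹ = y := fun y => inv_eq_of_mul_eq_one_left (hexp y)
  have hcomm : ∀ a b : Y, a * b = b * a := by
    intro a b
    have h1 := hexp (a * b)
    calc a * b = (a * b)⁻¹ := (hinv _).symm
      _ = b⁻¹ * a⁻¹ := mul_inv_rev a b
      _ = b * a := by rw [hinv, hinv]
  let _ : CommGroup Y := { ‹Group Y› with mul_comm := hcomm }
  let _ : Module (ZMod 2) (Additive Y) := AddCommGroup.zmodModule (n := 2) (fun x => by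
    change Additive.ofMul (x.toMul ^ 2) = 0
    rw [pow_two, hexp]; rfl)
  have hv : Additive.ofMul y₀ ≠ 0 := fun h0 => hy₀ (Additive.ofMul.injective h0)
  have hex : ∃ φ : Module.Dual (ZMod 2) (Additive Y), φ (Additive.ofMul y₀) ≠ 0 := by
    by_contra hcon
    simp only [not_exists, not_not] at hcon
    exact hv ((Module.forall_dual_apply_eq_zero_iff (ZMod 2) _).mp hcon)
  obtain ⟨φ, hφ⟩ := hex
  refine ⟨{ toFun := fun y => Multiplicative.ofAdd (φ (Additive.ofMul y))
            map_one' := by
              show Multiplicative.ofAdd (φ (0 : Additive Y)) = 1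
              rw [map_zero]; rfl
            map_mul' := fun a b => by
              show Multiplicative.ofAdd (φ (Additive.ofMul (a * b))) = _
              rw [ofMul_mul, map_add, ofAdd_add] }, ?_⟩
  intro h1
  apply hφ
  exact Multiplicative.ofAdd.injective h1

/-- an additive bijection of the coordinate space preserving `Qs` lifts to an automorphism. -/
theorem exists_lift (h : Coord z c Qs) (T : (ι → ZMod 2) ≃+ (ι → ZMod 2))
    (hT : ∀ v, Qs (T v) = Qs v) : ∃ φ : E ≃* E, ∀ x, c (φ x) = T (c x) := by
  classical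
  have hd : ((z, z) : E × E) ∈ h.fib T := by
    show c z = T (c z)
    rw [h.map_z, map_zero]
  have hw : ((z, 1) : E × E) ∈ h.fib T := by
    show c 1 = T (c z)
    rw [h.map_one, h.map_z, map_zero]
  have hw' : ((1, z) : E × E) ∈ h.fib T := by
    show c z = T (c 1)
    rw [h.map_one, h.map_z, map_zero]
  let d : ↥(h.fib T) := ⟨(z, z), hd⟩
  let w : ↥(h.fib T) := ⟨(z, 1), hw⟩
  let w' : ↥(h.fib T) := ⟨(1, z), hw'⟩
  have hdc : ∀ a : ↥(h.fib T), Commute a d := by
    intro a
    apply Subtype.ext
    apply Prod.ext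
    · exact (h.z_cen _).symm
    · exact (h.z_cen _).symm
  have hN : (Subgroup.zpowers d).Normal := by
    refine ⟨fun n hn g => ?_⟩
    obtain ⟨k, rfl⟩ := Subgroup.mem_zpowers_iff.mp hn
    have h1 : g * d ^ k = d ^ k * g := ((hdc g).zpow_right k).eq
    rw [h1, mul_inv_cancel_right]
    exact Subgroup.zpow_mem_zpowers d k
  have hdd : d * d = 1 := by
    apply Subtype.ext
    apply Prod.ext
    · exact h.z_sq
    · exact h.z_sq
  have hmemN : ∀ a : ↥(h.fib T), a ∈ Subgroup.zpowers d ↔ a = 1 ∨ a = d := by
    intro a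
    constructor
    · intro ha
      obtain ⟨k, rfl⟩ := Subgroup.mem_zpowers_iff.mp ha
      rcases Int.even_or_odd' k with ⟨m, hm | hm⟩
      · left
        rw [hm, zpow_mul, zpow_two, hdd, one_zpow]
      · right
        rw [hm, zpow_add, zpow_mul, zpow_two, hdd, one_zpow, one_mul, zpow_one]
    · rintro (rfl | rfl)
      · exact Subgroup.one_mem _
      · exact Subgroup.mem_zpowers d
  have hsq : ∀ a : ↥(h.fib T), a * a ∈ Subgroup.zpowers d := by
    intro a
    rw [hmemN]
    have ha : c a.1.2 = T (c a.1.1) := a.2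
    have h1 : a.1.2 * a.1.2 = a.1.1 * a.1.1 := h.sq_eq_of (by rw [ha, hT])
    rcases h.sq_mem a.1.1 with h2 | h2
    · left
      apply Subtype.ext
      apply Prod.ext
      · exact h2
      · exact h1.trans h2
    · right
      apply Subtype.ext
      apply Prod.ext
      · exact h2
      · exact h1.trans h2
  have hexp : ∀ y : ↥(h.fib T) ⧸ Subgroup.zpowers d, y * y = 1 := by
    intro y
    induction y using QuotientGroup.induction_on with
    | H a =>
      rw [← QuotientGroup.mk_mul, QuotientGroup.eq_one_iff]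
      exact hsq a
  have hwN : (QuotientGroup.mk w : ↥(h.fib T) ⧸ Subgroup.zpowers d) ≠ 1 := by
    rw [Ne, QuotientGroup.eq_one_iff, hmemN]
    rintro (h1 | h1)
    · have := congrArg (fun a : ↥(h.fib T) => a.1.1) h1
      exact h.z_ne this
    · have := congrArg (fun a : ↥(h.fib T) => a.1.2) h1
      exact h.z_ne this.symm
  obtain ⟨f, hf⟩ := exists_hom_ne hexp _ hwN
  let F : ↥(h.fib T) →* Multiplicative (ZMod 2) := f.comp (QuotientGroup.mk' (Subgroup.zpowers d))
  have hFd : F d = 1 := by
    show f (QuotientGroup.mk d) = 1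
    have : (QuotientGroup.mk d : ↥(h.fib T) ⧸ Subgroup.zpowers d) = 1 :=
      (QuotientGroup.eq_one_iff d).mpr (Subgroup.mem_zpowers d)
    rw [this, _root_.map_one]
  have hFw : F w ≠ 1 := hf
  have hww' : w' = d * w := by
    apply Subtype.ext
    apply Prod.ext
    · show (1 : E) = z * z
      rw [h.z_sq]
    · show z = z * 1
      rw [mul_one]
  have hFw' : F w' ≠ 1 := by rw [hww', _root_.map_mul, hFd, one_mul]; exact hFw
  have hm2 : ∀ a b : Multiplicative (ZMod 2), a ≠ 1 → b ≠ 1 → a * b = 1 := by decide
  -- the projections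
  let p1 : ↥F.ker →* E := (MonoidHom.fst E E).comp ((h.fib T).subtype.comp F.ker.subtype)
  let p2 : ↥F.ker →* E := (MonoidHom.snd E E).comp ((h.fib T).subtype.comp F.ker.subtype)
  have hp1 : Function.Bijective p1 := by
    constructor
    · rw [injective_iff_map_eq_one]
      intro a ha
      have ha1 : a.1.1.1 = 1 := ha
      have ha2 : c a.1.1.2 = T (c a.1.1.1) := a.1.2
      rw [ha1, h.map_one, map_zero] at ha2
      rcases (h.ker _).mp ha2 with h2 | h2
      · apply Subtype.ext
        apply Subtype.ext
        apply Prod.ext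
        · exact ha1
        · exact h2
      · exfalso
        have : a.1 = w' := by
          apply Subtype.ext
          apply Prod.ext
          · exact ha1
          · exact h2
        apply hFw'
        rw [← this]
        exact a.2
    · intro x
      obtain ⟨y, hy⟩ := h.surj (T (c x))
      let a : ↥(h.fib T) := ⟨(x, y), hy⟩
      by_cases ha : F a = 1
      · exact ⟨⟨a, ha⟩, rfl⟩
      · refine ⟨⟨a * w', ?_⟩, ?_⟩
        · show F (a * w') = 1
          rw [_root_.map_mul]
          exact hm2 _ _ ha hFw'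
        · show x * 1 = x
          rw [mul_one]
  have hp2 : Function.Bijective p2 := by
    constructor
    · rw [injective_iff_map_eq_one]
      intro a ha
      have ha1 : a.1.1.2 = 1 := ha
      have ha2 : c a.1.1.2 = T (c a.1.1.1) := a.1.2
      rw [ha1, h.map_one] at ha2
      have ha3 : c a.1.1.1 = 0 := by
        apply T.injective
        rw [← ha2, map_zero]
      rcases (h.ker _).mp ha3 with h2 | h2
      · apply Subtype.ext
        apply Subtype.ext
        apply Prod.ext
        · exact h2
        · exact ha1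
      · exfalso
        have : a.1 = w := by
          apply Subtype.ext
          apply Prod.ext
          · exact h2
          · exact ha1
        apply hFw
        rw [← this]
        exact a.2
    · intro y
      obtain ⟨x, hx⟩ := h.surj (T.symm (c y))
      have hxy : c y = T (c x) := by rw [hx, AddEquiv.apply_symm_apply]
      let a : ↥(h.fib T) := ⟨(x, y), hxy⟩
      by_cases ha : F a = 1
      · exact ⟨⟨a, ha⟩, rfl⟩
      · refine ⟨⟨a * w, ?_⟩, ?_⟩
        · show F (a * w) = 1
          rw [_root_.map_mul]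
          exact hm2 _ _ ha hFw
        · show y * 1 = y
          rw [mul_one]
  refine ⟨(MulEquiv.ofBijective p1 hp1).symm.trans (MulEquiv.ofBijective p2 hp2), ?_⟩
  intro x
  set a := (MulEquiv.ofBijective p1 hp1).symm x with ha
  have h1 : p1 a = x := (MulEquiv.ofBijective p1 hp1).apply_symm_apply x
  have h2 : c a.1.1.2 = T (c a.1.1.1) := a.1.2
  have h3 : a.1.1.1 = x := h1
  show c (p2 a) = T (c x)
  rw [← h3]
  exact h2

end Coord

end Cfsg.Agent.Helper4.ExOut
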