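import Mathlib
import Cfsg.Prelude.Def_Classical
import Cfsg.Prelude.Def_KGroupFacts
import Cfsg.Prelude.Def_Transfer
import Cfsg.Agent.Lead.ExtraspecialInner2
import Cfsg.Agent.Helper4.ExOutLift

set_option autoImplicit false

/-!
Helper library (helper4): given coordinates of an extraspecial 2-group `E` modulo its centre
carrying the squaring map to `Qs`, the outer automorphism group of `E` is isomorphic to the group
of invertible matrices preserving `Qs`.
-/

namespace Cfsg.Agent.Helper4.ExOut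

open Cfsg Matrix

namespace Coord

variable {E : Type*} [Group E] {ι : Type} {z : E} {c : E → (ι → ZMod 2)}
  {Qs : (ι → ZMod 2) → ZMod 2}

theorem zmod2_eq_of_ne : ∀ a b : ZMod 2, a ≠ 0 → b ≠ 0 → a = b := by decide

theorem aut_z (h : Coord z c Qs) (φ : E ≃* E) : φ z = z := by
  have h1 : ∀ y : E, φ z * y = y * φ z := by
    intro y
    have := congrArg φ (h.z_cen (φ.symm y))
    rwa [_root_.map_mul, _root_.map_mul, MulEquiv.apply_symm_apply] at this
  rcases h.cen _ h1 with h2 | h2
  · exfalso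
    apply h.z_ne
    apply φ.injective
    rw [h2, _root_.map_one]
  · exact h2

theorem map_aut_congr (h : Coord z c Qs) (φ : E ≃* E) {x y : E} (hxy : c x = c y) :
    c (φ x) = c (φ y) := by
  rcases h.eq_of_map_eq hxy with rfl | rfl
  · rfl
  · rw [_root_.map_mul, h.aut_z, h.map_mul, h.map_z, add_zero]

theorem form_aut (h : Coord z c Qs) (φ : E ≃* E) (x : E) : Qs (c (φ x)) = Qs (c x) := by
  by_cases h0 : Qs (c x) = 0
  · rw [h0]
    by_contra h1
    have h2 := h.sq1 _ h1
    rw [← _root_.map_mul, h.sq0 x h0, _root_.map_one] at h2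
    exact h.z_ne h2.symm
  · apply zmod2_eq_of_ne _ _ _ h0
    intro h1
    have h2 := h.sq0 _ h1
    rw [← _root_.map_mul, h.sq1 x h0, h.aut_z] at h2
    exact h.z_ne h2

/-- a section of the coordinate map. -/
noncomputable def sec (h : Coord z c Qs) (v : ι → ZMod 2) : E := Classical.choose (h.surj v)

theorem map_sec (h : Coord z c Qs) (v : ι → ZMod 2) : c (h.sec v) = v :=
  Classical.choose_spec (h.surj v)

/-- the additive map induced by an automorphism. -/
noncomputable def autAdd (h : Coord z c Qs) (φ : E ≃* E) : (ι → ZMod 2) →+ (ι → ZMod 2) where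
  toFun v := c (φ (h.sec v))
  map_zero' := by
    have h1 : c (h.sec 0) = c 1 := by rw [h.map_sec, h.map_one]
    rw [h.map_aut_congr φ h1, _root_.map_one, h.map_one]
  map_add' u v := by
    have h1 : c (h.sec (u + v)) = c (h.sec u * h.sec v) := by
      rw [h.map_sec, h.map_mul, h.map_sec, h.map_sec]
    rw [h.map_aut_congr φ h1, _root_.map_mul, h.map_mul]

theorem autAdd_map (h : Coord z c Qs) (φ : E ≃* E) (x : E) : h.autAdd φ (c x) = c (φ x) := by
  show c (φ (h.sec (c x))) = c (φ x)
  exact h.map_aut_congr φ (h.map_sec _)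

variable [Fintype ι] [DecidableEq ι]

/-- the matrix of an automorphism. -/
noncomputable def autMat (h : Coord z c Qs) : MulAut E →* Matrix ι ι (ZMod 2) where
  toFun φ := LinearMap.toMatrix' ((h.autAdd φ).toZModLinearMap 2)
  map_one' := by
    rw [← LinearMap.toMatrix'_id]
    congr 1
    apply LinearMap.ext
    intro v
    show c ((1 : MulAut E) (h.sec v)) = v
    rw [MulAut.one_apply, h.map_sec]
  map_mul' φ ψ := by
    rw [← LinearMap.toMatrix'_comp]
    congr 1
    apply LinearMap.ext
    intro v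
    show c ((φ * ψ) (h.sec v)) = h.autAdd φ (c (ψ (h.sec v)))
    rw [h.autAdd_map, MulAut.mul_apply]

theorem autMat_mulVec (h : Coord z c Qs) (φ : MulAut E) (x : E) :
    h.autMat φ *ᵥ c x = c (φ x) := by
  show LinearMap.toMatrix' ((h.autAdd φ).toZModLinearMap 2) *ᵥ c x = c (φ x)
  rw [LinearMap.toMatrix'_mulVec]
  exact h.autAdd_map φ x

theorem autMat_eq_one_iff (h : Coord z c Qs) (φ : MulAut E) :
    h.autMat φ = 1 ↔ ∀ x, c (φ x) = c x := by
  constructor
  · intro h1 x
    rw [← h.autMat_mulVec, h1, Matrix.one_mulVec]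
  · intro h1
    show LinearMap.toMatrix' ((h.autAdd φ).toZModLinearMap 2) = 1
    rw [← LinearMap.toMatrix'_id]
    congr 1
    apply LinearMap.ext
    intro v
    show c (φ (h.sec v)) = v
    rw [h1, h.map_sec]

/-- the homomorphism from the automorphism group to the isometry group. -/
noncomputable def autIso (h : Coord z c Qs) : MulAut E →* ↥(isometryGroup (ZMod 2) Qs) :=
  MonoidHom.codRestrict h.autMat.toHomUnits (isometryGroup (ZMod 2) Qs) (by
    intro φ u v
    show Qs ((h.autMat.toHomUnits φ : Matrix ι ι (ZMod 2)) *ᵥ u) = Qs u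
    rw [MonoidHom.coe_toHomUnits]
    obtain ⟨x, rfl⟩ := h.surj u
    rw [h.autMat_mulVec]
    exact h.form_aut φ x)

theorem autIso_val (h : Coord z c Qs) (φ : MulAut E) :
    (((h.autIso φ : ↥(isometryGroup (ZMod 2) Qs)) : GL ι (ZMod 2)) : Matrix ι ι (ZMod 2)) =
      h.autMat φ := rfl

theorem autIso_ker [Finite E] (h : Coord z c Qs) (hE : IsExtraspecial 2 E) :
    Inn E = h.autIso.ker := by
  have : Fact (Nat.Prime 2) := ⟨Nat.prime_two⟩
  ext φ
  rw [MonoidHom.mem_ker]
  have key : h.autIso φ = 1 ↔ ∀ x, c (φ x) = c x := by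
    rw [← h.autMat_eq_one_iff, ← h.autIso_val]
    constructor
    · intro h1
      rw [h1]
      rfl
    · intro h1
      apply Subtype.ext
      apply Units.ext
      exact h1
  rw [key]
  constructor
  · rintro ⟨g, rfl⟩ x
    rw [MulAut.conj_apply, h.map_mul, h.map_mul, h.map_inv]
    rw [add_comm (c g), add_assoc, vec_add_self, add_zero]
  · intro h1
    have h2 : ∀ x : E, φ x * x⁻¹ ∈ Subgroup.center E := by
      intro x
      have h3 : c (φ x * x⁻¹) = 0 := by rw [h.map_mul, h.map_inv, h1, vec_add_self]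
      rw [Subgroup.mem_center_iff]
      rcases (h.ker _).mp h3 with h4 | h4
      · intro y
        rw [h4, mul_one, one_mul]
      · intro y
        rw [h4]
        exact (h.z_cen y).symm
    obtain ⟨g, hg⟩ := Cfsg.Agent.Lead.inner_of_trivial_mod_center hE φ h2
    refine ⟨g, ?_⟩
    ext x
    rw [MulAut.conj_apply, hg]

theorem autIso_surjective (h : Coord z c Qs) : Function.Surjective h.autIso := by
  rintro ⟨M, hM⟩
  have hM' : ∀ u : ι → ZMod 2, Qs ((M : Matrix ι ι (ZMod 2)) *ᵥ u) = Qs u := fun u => hM u u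
  let T : (ι → ZMod 2) ≃+ (ι → ZMod 2) :=
    { toFun := fun v => (M : Matrix ι ι (ZMod 2)) *ᵥ v
      invFun := fun v => ((M⁻¹ : GL ι (ZMod 2)) : Matrix ι ι (ZMod 2)) *ᵥ v
      left_inv := fun v => by
        show ((M⁻¹ : GL ι (ZMod 2)) : Matrix ι ι (ZMod 2)) *ᵥ ((M : Matrix ι ι (ZMod 2)) *ᵥ v) = v
        rw [Matrix.mulVec_mulVec, ← Units.val_mul, inv_mul_cancel, Units.val_one,
          Matrix.one_mulVec]
      right_inv := fun v => by
        show (M : Matrix ι ι (ZMod 2)) *ᵥ (((M⁻¹ : GL ι (ZMod 2)) : Matrix ι ι (ZMod 2)) *ᵥ v) = v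
        rw [Matrix.mulVec_mulVec, ← Units.val_mul, mul_inv_cancel, Units.val_one,
          Matrix.one_mulVec]
      map_add' := fun u v => Matrix.mulVec_add _ u v }
  obtain ⟨φ, hφ⟩ := h.exists_lift T hM'
  refine ⟨φ, ?_⟩
  apply Subtype.ext
  apply Units.ext
  rw [h.autIso_val]
  show LinearMap.toMatrix' ((h.autAdd φ).toZModLinearMap 2) = (M : Matrix ι ι (ZMod 2))
  rw [← LinearMap.toMatrix'_toLin' (M : Matrix ι ι (ZMod 2))]
  congr 1
  apply LinearMap.ext
  intro v
  show c (φ (h.sec v)) = Matrix.toLin' (M : Matrix ι ι (ZMod 2)) v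
  rw [hφ, h.map_sec, Matrix.toLin'_apply]
  rfl

/-- the outer automorphism group is the isometry group. -/
theorem out_equiv [Finite E] (h : Coord z c Qs) (hE : IsExtraspecial 2 E) :
    Nonempty (Out E ≃* ↥(isometryGroup (ZMod 2) Qs)) :=
  ⟨(QuotientGroup.quotientMulEquivOfEq (h.autIso_ker hE)).trans
    (QuotientGroup.quotientKerEquivOfSurjective h.autIso h.autIso_surjective)⟩

end Coord

end Cfsg.Agent.Helper4.ExOut
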