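import Mathlib
import Cfsg.Agent.Helper3.AutExA

set_option autoImplicit false

/-!
Helper library (helper4): the commutator form `kb` and the squaring form `sqf` of an extraspecial
2-group with values in `ZMod 2`.
-/

namespace Cfsg.Agent.Helper4.ExOut

open Cfsg.Agent.Helper3.AutEx Cfsg.Agent.Helper3.SympT

variable {E : Type*} [Group E]

open Classical in
/-- the commutator form. -/
noncomputable def kb (x y : E) : ZMod 2 := if x * y = y * x then 0 else 1

open Classical in
/-- the squaring form. -/
noncomputable def sqf (x : E) : ZMod 2 := if x * x = 1 then 0 else 1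

theorem kb_eq_zero_iff {x y : E} : kb x y = 0 ↔ x * y = y * x := by
  unfold kb
  split_ifs with h
  · exact ⟨fun _ => h, fun _ => rfl⟩
  · exact ⟨fun h1 => absurd h1 (by decide), fun h1 => absurd h1 h⟩

theorem kb_eq_one_iff {x y : E} : kb x y = 1 ↔ x * y ≠ y * x := by
  unfold kb
  split_ifs with h
  · exact ⟨fun h1 => absurd h1 (by decide), fun h1 => absurd h h1⟩
  · exact ⟨fun _ => h, fun _ => rfl⟩

theorem sqf_eq_zero_iff {x : E} : sqf x = 0 ↔ x * x = 1 := by
  unfold sqf
  split_ifs with h
  · exact ⟨fun _ => h, fun _ => rfl⟩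
  · exact ⟨fun h1 => absurd h1 (by decide), fun h1 => absurd h1 h⟩

theorem kb_symm (x y : E) : kb x y = kb y x := by
  by_cases h : x * y = y * x
  · rw [kb_eq_zero_iff.mpr h, kb_eq_zero_iff.mpr h.symm]
  · rw [kb_eq_one_iff.mpr h, kb_eq_one_iff.mpr (fun h1 => h h1.symm)]

theorem kb_self (x : E) : kb x x = 0 := kb_eq_zero_iff.mpr rfl

theorem kb_one_left (y : E) : kb 1 y = 0 := kb_eq_zero_iff.mpr (by rw [one_mul, mul_one])

theorem zmod2_cases : ∀ a : ZMod 2, a = 0 ∨ a = 1 := by decide

theorem one_add_one_z2 : (1 : ZMod 2) + 1 = 0 := by decide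

variable {z : E}

theorem kb_eq_zero_iff_kap (x y : E) : kb x y = 0 ↔ kap x y = 1 :=
  kb_eq_zero_iff.trans kap_eq_one_iff.symm

theorem kb_mul_left (h : E2 E z) (x x' y : E) : kb (x * x') y = kb x y + kb x' y := by
  have h1 := h.kap_mul_left x x' y
  have hz : ∀ a b : E, kb a b ≠ 0 → kap a b = z := by
    intro a b hab
    rcases h.comm a b with h2 | h2
    · exact absurd ((kb_eq_zero_iff_kap a b).mpr h2) hab
    · exact h2
  by_cases hx : kb x y = 0 <;> by_cases hx' : kb x' y = 0
  · rw [hx, hx', add_zero, kb_eq_zero_iff_kap, h1, (kb_eq_zero_iff_kap x y).mp hx,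
      (kb_eq_zero_iff_kap x' y).mp hx', one_mul]
  · have e1 : kb x' y = 1 := (zmod2_cases _).resolve_left hx'
    rw [hx, e1, zero_add]
    apply (zmod2_cases _).resolve_left
    rw [kb_eq_zero_iff_kap, h1, (kb_eq_zero_iff_kap x y).mp hx, one_mul, hz x' y hx']
    exact h.z_ne
  · have e1 : kb x y = 1 := (zmod2_cases _).resolve_left hx
    rw [hx', e1, add_zero]
    apply (zmod2_cases _).resolve_left
    rw [kb_eq_zero_iff_kap, h1, (kb_eq_zero_iff_kap x' y).mp hx', mul_one, hz x y hx]
    exact h.z_ne
  · have e1 : kb x y = 1 := (zmod2_cases _).resolve_left hx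
    have e2 : kb x' y = 1 := (zmod2_cases _).resolve_left hx'
    rw [e1, e2, one_add_one_z2, kb_eq_zero_iff_kap, h1, hz x y hx, hz x' y hx', h.z_sq]

theorem kb_mul_right (h : E2 E z) (x y y' : E) : kb x (y * y') = kb x y + kb x y' := by
  rw [kb_symm, kb_mul_left h, kb_symm y, kb_symm y']

theorem kb_z_left (h : E2 E z) (y : E) : kb z y = 0 :=
  kb_eq_zero_iff.mpr (h.z_comm y).symm

theorem kb_z_right (h : E2 E z) (x : E) : kb x z = 0 := by rw [kb_symm, kb_z_left h]

theorem sqf_mul_z (h : E2 E z) (x : E) : sqf (x * z) = sqf x := by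
  have : x * z * (x * z) = x * x := by
    calc x * z * (x * z) = x * (z * x) * z := by group
      _ = x * (x * z) * z := by rw [h.z_comm x]
      _ = x * x * (z * z) := by group
      _ = x * x := by rw [h.z_sq, mul_one]
  unfold sqf
  rw [this]

theorem sqf_eq_one_iff (h : E2 E z) {x : E} : sqf x = 1 ↔ x * x = z := by
  constructor
  · intro h1
    rcases h.sq x with h2 | h2
    · rw [sqf_eq_zero_iff.mpr h2] at h1
      exact absurd h1 (by decide)
    · exact h2
  · intro h1
    apply (zmod2_cases _).resolve_left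
    rw [sqf_eq_zero_iff, h1]
    exact h.z_ne

/-- the element of the centre with a given `ZMod 2` label. -/
def zpw (z : E) (a : ZMod 2) : E := if a = 0 then 1 else z

theorem zpw_add (h : E2 E z) : ∀ a b : ZMod 2, zpw z (a + b) = zpw z a * zpw z b := by
  intro a b
  rcases zmod2_cases a with rfl | rfl <;> rcases zmod2_cases b with rfl | rfl
  · simp [zpw]
  · simp [zpw]
  · simp [zpw]
  · rw [one_add_one_z2]
    simp [zpw, h.z_sq]

theorem zpw_injective (h : E2 E z) {a b : ZMod 2} (hab : zpw z a = zpw z b) : a = b := by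
  rcases zmod2_cases a with rfl | rfl <;> rcases zmod2_cases b with rfl | rfl
  · rfl
  · simp [zpw] at hab
    exact absurd hab.symm h.z_ne
  · simp [zpw] at hab
    exact absurd hab h.z_ne
  · rfl

theorem sq_eq_zpw (h : E2 E z) (x : E) : x * x = zpw z (sqf x) := by
  rcases h.sq x with h1 | h1
  · rw [sqf_eq_zero_iff.mpr h1, h1]
    simp [zpw]
  · rw [(sqf_eq_one_iff h).mpr h1, h1]
    simp [zpw]

theorem kap_eq_zpw (h : E2 E z) (x y : E) : kap x y = zpw z (kb x y) := by
  rcases h.comm x y with h1 | h1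
  · rw [(kb_eq_zero_iff_kap x y).mpr h1, h1]
    simp [zpw]
  · have : kb x y = 1 := by
      apply (zmod2_cases _).resolve_left
      rw [kb_eq_zero_iff_kap, h1]
      exact h.z_ne
    rw [this, h1]
    simp [zpw]

theorem zpw_comm (h : E2 E z) (a : ZMod 2) (x : E) : zpw z a * x = x * zpw z a := by
  rcases zmod2_cases a with rfl | rfl
  · simp [zpw]
  · simp only [zpw, one_ne_zero, if_false]
    exact (h.z_comm x).symm

/-- the squaring form is quadratic with polar form the commutator form. -/
theorem sqf_mul (h : E2 E z) (x y : E) : sqf (x * y) = sqf x + sqf y + kb x y := by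
  apply zpw_injective h
  rw [← sq_eq_zpw h, zpw_add h, zpw_add h, ← sq_eq_zpw h, ← sq_eq_zpw h, kb_symm, ← kap_eq_zpw h]
  -- x y x y = x x y y (y x y⁻¹ x⁻¹)
  have hc := h.kap_central x y
  have e1 : x * y * (x * y) = x * (kap y x * x * y) * y := by
    unfold kap
    group
  rw [e1]
  have e2 : x * (kap y x * x * y) * y = x * x * (kap y x * (y * y)) := by
    have h3 : x * kap y x = kap y x * x := hc x
    calc x * (kap y x * x * y) * y = (x * kap y x) * x * y * y := by group
      _ = (kap y x * x) * x * y * y := by rw [h3]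
      _ = kap y x * (x * x) * (y * y) := by group
      _ = x * x * (kap y x * (y * y)) := by
        have h4 : kap y x * (x * x) = (x * x) * kap y x := by
          rw [← mul_assoc, ← h3, mul_assoc, ← h3, ← mul_assoc]
        rw [h4]
        group
  rw [e2]
  have h5 : kap y x * (y * y) = y * y * kap y x := by
    have h6 : y * kap y x = kap y x * y := hc y
    rw [← mul_assoc, ← h6, mul_assoc, ← h6, ← mul_assoc]
  rw [h5]
  group

end Cfsg.Agent.Helper4.ExOut
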