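import Mathlib
import Cfsg.Agent.Helper4.ExOutLift
import Cfsg.Agent.Helper4.ExOutForm

set_option autoImplicit false

/-!
Helper library (helper4): for coordinates of an extraspecial 2-group, the form `Qs` is the
squaring form and is quadratic with polar form the commutator form; transport of coordinates
along an additive bijection; existence of some coordinates.
-/

namespace Cfsg.Agent.Helper4.ExOut

open Cfsg.Agent.Helper3.AutEx Cfsg.Agent.Helper3.SympT

namespace Coord

variable {E : Type*} [Group E] {ι : Type} {z : E} {c : E → (ι → ZMod 2)}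
  {Qs : (ι → ZMod 2) → ZMod 2}

/-- a section of the coordinate map. -/
noncomputable def sec' (h : Coord z c Qs) (v : ι → ZMod 2) : E := Classical.choose (h.surj v)

theorem map_sec' (h : Coord z c Qs) (v : ι → ZMod 2) : c (h.sec' v) = v :=
  Classical.choose_spec (h.surj v)

theorem form_eq_sqf (h : Coord z c Qs) (x : E) : Qs (c x) = sqf x := by
  by_cases h0 : Qs (c x) = 0
  · rw [h0, eq_comm, sqf_eq_zero_iff]
    exact h.sq0 x h0
  · have h1 : Qs (c x) = 1 := (zmod2_cases _).resolve_left h0
    rw [h1, eq_comm]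
    apply (zmod2_cases _).resolve_left
    rw [sqf_eq_zero_iff, h.sq1 x h0]
    exact h.z_ne

theorem kb_congr (h : Coord z c Qs) (he : E2 E z) {x x' : E} (hx : c x = c x') (y : E) :
    kb x y = kb x' y := by
  rcases h.eq_of_map_eq hx with rfl | rfl
  · rfl
  · rw [kb_mul_left he, kb_z_left he, add_zero]

/-- the commutator form in coordinates. -/
noncomputable def bform (h : Coord z c Qs) (u v : ι → ZMod 2) : ZMod 2 :=
  kb (h.sec' u) (h.sec' v)

theorem bform_map (h : Coord z c Qs) (he : E2 E z) (x y : E) : h.bform (c x) (c y) = kb x y := by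
  unfold bform
  rw [h.kb_congr he (h.map_sec' (c x)), kb_symm, h.kb_congr he (h.map_sec' (c y)), kb_symm]

theorem bform_symm (h : Coord z c Qs) (u v : ι → ZMod 2) : h.bform u v = h.bform v u :=
  kb_symm _ _

theorem bform_self (h : Coord z c Qs) (u : ι → ZMod 2) : h.bform u u = 0 := kb_self _

theorem bform_add_left (h : Coord z c Qs) (he : E2 E z) (u u' v : ι → ZMod 2) :
    h.bform (u + u') v = h.bform u v + h.bform u' v := by
  obtain ⟨x, rfl⟩ := h.surj u
  obtain ⟨x', rfl⟩ := h.surj u'
  obtain ⟨y, rfl⟩ := h.surj v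
  rw [← h.map_mul, h.bform_map he, h.bform_map he, h.bform_map he, kb_mul_left he]

theorem bform_add_right (h : Coord z c Qs) (he : E2 E z) (u v v' : ι → ZMod 2) :
    h.bform u (v + v') = h.bform u v + h.bform u v' := by
  rw [h.bform_symm, h.bform_add_left he, h.bform_symm v, h.bform_symm v']

theorem bform_zero_left (h : Coord z c Qs) (he : E2 E z) (v : ι → ZMod 2) : h.bform 0 v = 0 := by
  have := h.bform_add_left he 0 0 v
  rw [add_zero] at this
  exact left_eq_add.mp this

theorem bform_nondeg (h : Coord z c Qs) (he : E2 E z) (u : ι → ZMod 2)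
    (hu : ∀ v, h.bform u v = 0) : u = 0 := by
  obtain ⟨x, rfl⟩ := h.surj u
  rw [h.ker]
  apply h.cen
  intro y
  have := hu (c y)
  rw [h.bform_map he] at this
  exact kb_eq_zero_iff.mp this

/-- `Qs` is quadratic with polar form `bform`. -/
theorem form_add (h : Coord z c Qs) (he : E2 E z) (u v : ι → ZMod 2) :
    Qs (u + v) = Qs u + Qs v + h.bform u v := by
  obtain ⟨x, rfl⟩ := h.surj u
  obtain ⟨y, rfl⟩ := h.surj v
  rw [← h.map_mul, h.form_eq_sqf, h.form_eq_sqf, h.form_eq_sqf, h.bform_map he, sqf_mul he]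

/-- transport of coordinates along an additive bijection. -/
theorem comp (h : Coord z c Qs) {ι' : Type} (g : (ι → ZMod 2) ≃+ (ι' → ZMod 2))
    (Qs' : (ι' → ZMod 2) → ZMod 2) (hg : ∀ v, Qs v = Qs' (g v)) :
    Coord z (fun x => g (c x)) Qs' where
  z_ne := h.z_ne
  z_sq := h.z_sq
  z_cen := h.z_cen
  cen := h.cen
  map_mul x y := by
    show g (c (x * y)) = g (c x) + g (c y)
    rw [h.map_mul, _root_.map_add]
  surj v := by
    obtain ⟨x, hx⟩ := h.surj (g.symm v)
    exact ⟨x, by show g (c x) = v; rw [hx, AddEquiv.apply_symm_apply]⟩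
  ker x := by
    show g (c x) = 0 ↔ _
    rw [← h.ker]
    constructor
    · intro h1
      apply g.injective
      rw [h1, _root_.map_zero]
    · intro h1
      rw [h1, _root_.map_zero]
  sq0 x hx := h.sq0 x (by rw [hg]; exact hx)
  sq1 x hx := h.sq1 x (by rw [hg]; exact hx)

theorem bform_comp (h : Coord z c Qs) (he : E2 E z) {ι' : Type}
    (g : (ι → ZMod 2) ≃+ (ι' → ZMod 2)) (Qs' : (ι' → ZMod 2) → ZMod 2)
    (hg : ∀ v, Qs v = Qs' (g v)) (u v : ι → ZMod 2) :
    (h.comp g Qs' hg).bform (g u) (g v) = h.bform u v := by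
  obtain ⟨x, rfl⟩ := h.surj u
  obtain ⟨y, rfl⟩ := h.surj v
  rw [h.bform_map he]
  exact (h.comp g Qs' hg).bform_map he x y

end Coord

end Cfsg.Agent.Helper4.ExOut
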