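import Mathlib
import Cfsg.Agent.Helper4.ExOutCoord

set_option autoImplicit false

/-!
Helper library (helper4): existence of coordinates of an extraspecial 2-group modulo its centre.
-/

namespace Cfsg.Agent.Helper4.ExOut

open Cfsg.Agent.Helper3.AutEx Cfsg.Agent.Helper3.SympT

variable {E : Type*} [Group E] {z : E}

/-- a surjective homomorphism to a vector group with kernel the centre gives coordinates. -/
theorem coord_of_hom (he : E2 E z) {ι : Type} (c : E → (ι → ZMod 2))
    (hmul : ∀ x y : E, c (x * y) = c x + c y) (hsurj : Function.Surjective c)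
    (hker : ∀ x : E, c x = 0 ↔ (x = 1 ∨ x = z)) :
    ∃ Qs : (ι → ZMod 2) → ZMod 2, Coord z c Qs := by
  classical
  have hcong : ∀ x y : E, c x = c y → sqf x = sqf y := by
    intro x y hxy
    have h1 : c (x⁻¹ * y) = 0 := by
      have e1 : c (x * (x⁻¹ * y)) = c y := by rw [mul_inv_cancel_left]
      rw [hmul, hxy] at e1
      exact add_eq_left.mp e1
    rcases (hker _).mp h1 with h2 | h2
    · have : y = x := by
        have := congrArg (fun t => x * t) h2
        simpa using this
      rw [this]
    · have : y = x * z := by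
        have := congrArg (fun t => x * t) h2
        simpa using this
      rw [this, sqf_mul_z he]
  refine ⟨fun v => sqf (Classical.choose (hsurj v)), ?_⟩
  have hQ : ∀ x : E, sqf (Classical.choose (hsurj (c x))) = sqf x := fun x =>
    hcong _ _ (Classical.choose_spec (hsurj (c x)))
  refine ⟨he.z_ne, he.z_sq, fun x => (he.z_comm x).symm, ?_, hmul, hsurj, hker, ?_, ?_⟩
  · intro x hx
    apply (he.cen x).mp
    rw [Subgroup.mem_center_iff]
    intro y
    exact (hx y).symm
  · intro x hx
    have hx' : sqf (Classical.choose (hsurj (c x))) = 0 := hx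
    rw [hQ] at hx'
    exact sqf_eq_zero_iff.mp hx'
  · intro x hx
    have hx' : sqf (Classical.choose (hsurj (c x))) ≠ 0 := hx
    rw [hQ] at hx'
    exact (sqf_eq_one_iff he).mp ((zmod2_cases _).resolve_left hx')

/-- existence of a surjective homomorphism to a vector group with kernel the centre. -/
theorem exists_hom [Finite E] (he : E2 E z) (hc : Nat.card (Subgroup.center E) = 2) (n : ℕ)
    (hcard : Nat.card E = 2 ^ (2 * n + 1)) :
    ∃ c : E → (Fin (2 * n) → ZMod 2), (∀ x y : E, c (x * y) = c x + c y) ∧
      Function.Surjective c ∧ ∀ x : E, c x = 0 ↔ (x = 1 ∨ x = z) := by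
  classical
  have : Fact (Nat.Prime 2) := ⟨Nat.prime_two⟩
  have hexp : ∀ q : E ⧸ Subgroup.center E, q * q = 1 := by
    intro q
    induction q using QuotientGroup.induction_on with
    | H x =>
      rw [← QuotientGroup.mk_mul, QuotientGroup.eq_one_iff, he.cen]
      exact he.sq x
  have hinv : ∀ q : E ⧸ Subgroup.center E, q⁻¹ = q := fun q =>
    inv_eq_of_mul_eq_one_left (hexp q)
  have hcomm : ∀ a b : E ⧸ Subgroup.center E, a * b = b * a := by
    intro a b
    calc a * b = (a * b)⁻¹ := (hinv _).symm
      _ = b⁻¹ * a⁻¹ := mul_inv_rev a b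
      _ = b * a := by rw [hinv, hinv]
  let _ : CommGroup (E ⧸ Subgroup.center E) :=
    { (inferInstance : Group (E ⧸ Subgroup.center E)) with mul_comm := hcomm }
  let _ : Module (ZMod 2) (Additive (E ⧸ Subgroup.center E)) :=
    AddCommGroup.zmodModule (n := 2) (fun x => by
      change Additive.ofMul (x.toMul ^ 2) = 0
      rw [pow_two, hexp]; rfl)
  have : Finite (Additive (E ⧸ Subgroup.center E)) :=
    (inferInstance : Finite (E ⧸ Subgroup.center E))
  have hQcard : Nat.card (Additive (E ⧸ Subgroup.center E)) = 2 ^ (2 * n) := by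
    have h1 := Subgroup.card_eq_card_quotient_mul_card_subgroup (Subgroup.center E)
    rw [hcard, hc, pow_succ] at h1
    have h2 : Nat.card (E ⧸ Subgroup.center E) = 2 ^ (2 * n) :=
      (Nat.eq_of_mul_eq_mul_right (by norm_num : 0 < 2) h1).symm
    exact h2
  have hfr : Module.finrank (ZMod 2) (Additive (E ⧸ Subgroup.center E)) = 2 * n := by
    have h1 := Module.natCard_eq_pow_finrank (K := ZMod 2)
      (V := Additive (E ⧸ Subgroup.center E))
    rw [hQcard, Nat.card_zmod] at h1
    exact (Nat.pow_right_injective (a := 2) (by norm_num) h1).symm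
  let e : Additive (E ⧸ Subgroup.center E) ≃ₗ[ZMod 2] (Fin (2 * n) → ZMod 2) :=
    LinearEquiv.ofFinrankEq _ _ (by rw [hfr, Module.finrank_fin_fun])
  refine ⟨fun x => e (Additive.ofMul (QuotientGroup.mk x)), ?_, ?_, ?_⟩
  · intro x y
    show e (Additive.ofMul (QuotientGroup.mk (x * y))) = _
    rw [QuotientGroup.mk_mul, ofMul_mul, map_add]
  · intro v
    obtain ⟨q, hq⟩ : ∃ q : E ⧸ Subgroup.center E, Additive.ofMul q = e.symm v :=
      ⟨(e.symm v).toMul, rfl⟩
    obtain ⟨x, rfl⟩ := QuotientGroup.mk_surjective q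
    refine ⟨x, ?_⟩
    show e (Additive.ofMul (QuotientGroup.mk x)) = v
    rw [hq, LinearEquiv.apply_symm_apply]
  · intro x
    show e (Additive.ofMul (QuotientGroup.mk x)) = 0 ↔ _
    rw [← he.cen, LinearEquiv.map_eq_zero_iff]
    constructor
    · intro h1
      exact (QuotientGroup.eq_one_iff x).mp (Additive.ofMul.injective h1)
    · intro h1
      have : (QuotientGroup.mk x : E ⧸ Subgroup.center E) = 1 :=
        (QuotientGroup.eq_one_iff x).mpr h1
      rw [this]
      rfl

end Cfsg.Agent.Helper4.ExOut
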