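import Mathlib
import Cfsg.Agent.Helper4.ExOutExist
import Cfsg.Agent.Helper8.SpSSympIso
import Cfsg.Agent.S2564

set_option autoImplicit false

/-!
Helper library (helper4): symplectic coordinates of an extraspecial 2-group modulo its centre:
the squaring form polarises to the standard hyperbolic form.
-/

namespace Cfsg.Agent.Helper4.ExOut

open Cfsg.Agent.Helper3.AutEx Cfsg.Agent.Helper3.SympT Cfsg.Agent.S2564 Cfsg.Agent.Helper8
open Module

theorem neg_one_z2 : (-1 : ZMod 2) = 1 := by decide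

/-- a bilinear form with the standard alternating Gram matrix in a basis is the standard polar
form in the coordinates of that basis. -/
theorem bilin_eq_pol {W : Type*} [AddCommGroup W] [Module (ZMod 2) W] {k : ℕ}
    (B : W →ₗ[ZMod 2] W →ₗ[ZMod 2] ZMod 2) (b : Basis (Fin k ⊕ Fin k) (ZMod 2) W)
    (hb : ∀ x y, B (b x) (b y) = SpS.Jent x y) (u v : V k) :
    B (b.equivFun.symm u) (b.equivFun.symm v) = pol k u v := by
  rw [Basis.equivFun_symm_apply, Basis.equivFun_symm_apply, pol_eq, dotProduct]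
  have e1 : ∀ w : W, B (∑ i, u i • b i) w = ∑ i, u i * B (b i) w := by
    intro w
    rw [map_sum, LinearMap.sum_apply]
    apply Finset.sum_congr rfl
    intro i _
    rw [map_smul, LinearMap.smul_apply, smul_eq_mul]
  rw [e1]
  apply Finset.sum_congr rfl
  intro s _
  congr 1
  rw [map_sum]
  simp only [map_smul, smul_eq_mul, hb]
  rw [Fintype.sum_sum_type]
  rcases s with i | i
  · rw [hyp_mulVec_inl]
    simp [SpS.Jent]
  · rw [hyp_mulVec_inr]
    simp [SpS.Jent]

variable {E : Type*} [Group E] {z : E}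

theorem exists_symp_coord [Finite E] (he : E2 E z) (hc : Nat.card (Subgroup.center E) = 2)
    (n : ℕ) (hcard : Nat.card E = 2 ^ (2 * n + 1)) :
    ∃ (c : E → V n) (Qs : V n → ZMod 2), Coord z c Qs ∧
      ∀ u v, Qs (u + v) = Qs u + Qs v + pol n u v := by
  classical
  have : Fact (Nat.Prime 2) := ⟨Nat.prime_two⟩
  obtain ⟨c₀, hmul, hsurj, hker⟩ := exists_hom he hc n hcard
  obtain ⟨Q₀, h₀⟩ := coord_of_hom he c₀ hmul hsurj hker
  have hsm : ∀ (a : ZMod 2) (u v : Fin (2 * n) → ZMod 2),
      h₀.bform (a • u) v = a • h₀.bform u v := by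
    intro a u v
    rcases zmod2_cases a with rfl | rfl
    · rw [zero_smul, zero_smul, h₀.bform_zero_left he]
    · rw [one_smul, one_smul]
  have hsm' : ∀ (a : ZMod 2) (u v : Fin (2 * n) → ZMod 2),
      h₀.bform u (a • v) = a • h₀.bform u v := by
    intro a u v
    rw [h₀.bform_symm, hsm, h₀.bform_symm]
  let B : (Fin (2 * n) → ZMod 2) →ₗ[ZMod 2] (Fin (2 * n) → ZMod 2) →ₗ[ZMod 2] ZMod 2 :=
    LinearMap.mk₂ (ZMod 2) h₀.bform (h₀.bform_add_left he) hsm (h₀.bform_add_right he) hsm'
  have hB : ∀ u v, B u v = h₀.bform u v := fun u v => rfl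
  have hAlt : SpS.Alt B := fun v => h₀.bform_self v
  have hND : SpS.Nondeg B := fun u hu => h₀.bform_nondeg he u hu
  obtain ⟨k, b, hb⟩ := SpS.exists_symp_basis B hAlt hND
  have hk : k = n := by
    have h1 := Module.finrank_eq_card_basis b
    rw [Module.finrank_fin_fun, Fintype.card_sum, Fintype.card_fin] at h1
    omega
  subst hk
  let g : (Fin (2 * k) → ZMod 2) ≃+ V k := b.equivFun.toAddEquiv
  let Qs : V k → ZMod 2 := fun w => Q₀ (g.symm w)
  have hg : ∀ v, Q₀ v = Qs (g v) := by
    intro v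
    show Q₀ v = Q₀ (g.symm (g v))
    rw [AddEquiv.symm_apply_apply]
  refine ⟨fun x => g (c₀ x), Qs, h₀.comp g Qs hg, ?_⟩
  intro u v
  have h1 := (h₀.comp g Qs hg).form_add he u v
  refine h1.trans ?_
  congr 1
  have hu : g (g.symm u) = u := AddEquiv.apply_symm_apply g u
  have hv : g (g.symm v) = v := AddEquiv.apply_symm_apply g v
  rw [← hu, ← hv, h₀.bform_comp he g Qs hg, hu, hv, ← hB]
  exact bilin_eq_pol B b hb u v

end Cfsg.Agent.Helper4.ExOut
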