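import Mathlib
import Cfsg.Prelude.Def_Transfer
import Cfsg.Agent.Helper4.ExOutCoord

set_option autoImplicit false

/-!
Helper library (helper4): totally singular subspaces of the coordinate space of an extraspecial
2-group correspond to elementary abelian subgroups containing the centre.
-/

namespace Cfsg.Agent.Helper4.ExOut

open Cfsg

namespace Coord

variable {E : Type*} [Group E] {ι : Type} {z : E} {c : E → (ι → ZMod 2)}
  {Qs : (ι → ZMod 2) → ZMod 2}

open Classical in
/-- the label distinguishing the two elements of a fibre of the coordinate map. -/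
noncomputable def eps (h : Coord z c Qs) (x : E) : ZMod 2 := if x = h.sec' (c x) then 0 else 1

theorem eq_sec_mul (h : Coord z c Qs) (x : E) : x = h.sec' (c x) * zpw z (h.eps x) := by
  unfold eps
  split_ifs with h1
  · simp only [zpw, if_true, mul_one]
    exact h1
  · simp only [zpw, one_ne_zero, if_false]
    rcases h.eq_of_map_eq (h.map_sec' (c x)) with h2 | h2
    · exact absurd h2 h1
    · exact h2

theorem map_zpw (h : Coord z c Qs) (a : ZMod 2) : c (zpw z a) = 0 := by
  unfold zpw
  split_ifs
  · exact h.map_one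
  · exact h.map_z

/-- the coordinate map together with the label is injective. -/
theorem pair_injective (h : Coord z c Qs) {x y : E} (h1 : c x = c y) (h2 : h.eps x = h.eps y) :
    x = y := by
  rw [h.eq_sec_mul x, h.eq_sec_mul y, h1, h2]

theorem eps_sec_mul (h : Coord z c Qs) (u : ι → ZMod 2) (a : ZMod 2) :
    h.eps (h.sec' u * zpw z a) = a := by
  have hc : c (h.sec' u * zpw z a) = u := by rw [h.map_mul, h.map_zpw, add_zero, h.map_sec']
  unfold eps
  rw [hc]
  rcases zmod2_cases a with rfl | rfl
  · rw [if_pos]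
    simp [zpw]
  · rw [if_neg]
    simp only [zpw, one_ne_zero, if_false]
    intro h1
    exact h.z_ne (mul_eq_left.mp h1)

theorem mul_self_of_form (h : Coord z c Qs) {x : E} (hx : Qs (c x) = 0) : x * x = 1 := h.sq0 x hx

/-- a totally singular subspace gives an elementary abelian subgroup of twice its order. -/
theorem exists_elemAb [Finite ι] (h : Coord z c Qs) (U : Submodule (ZMod 2) (ι → ZMod 2))
    (hU : ∀ u ∈ U, Qs u = 0) :
    ∃ A : Subgroup E, IsElementaryAbelian 2 A ∧ Nat.card ↥A = 2 * Nat.card ↥U := by
  classical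
  let A : Subgroup E :=
    { carrier := {x | c x ∈ U}
      mul_mem' := by
        intro x y hx hy
        show c (x * y) ∈ U
        rw [h.map_mul]
        exact U.add_mem hx hy
      one_mem' := by
        show c 1 ∈ U
        rw [h.map_one]
        exact U.zero_mem
      inv_mem' := by
        intro x hx
        show c x⁻¹ ∈ U
        rw [h.map_inv]
        exact hx }
  have hA : ∀ x, x ∈ A ↔ c x ∈ U := fun x => Iff.rfl
  have hsq : ∀ x ∈ A, x * x = 1 := fun x hx => h.sq0 x (hU _ hx)
  refine ⟨A, ⟨⟨⟨?_⟩⟩, ?_⟩, ?_⟩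
  · intro a b
    apply Subtype.ext
    show (a : E) * b = b * a
    have ha := hsq a a.2
    have hb := hsq b b.2
    have hab := hsq _ (A.mul_mem a.2 b.2)
    have hai : (a : E)⁻¹ = a := inv_eq_of_mul_eq_one_left ha
    have hbi : (b : E)⁻¹ = b := inv_eq_of_mul_eq_one_left hb
    calc (a : E) * b = ((a : E) * b)⁻¹ := (inv_eq_of_mul_eq_one_left hab).symm
      _ = (b : E)⁻¹ * (a : E)⁻¹ := mul_inv_rev _ _
      _ = b * a := by rw [hai, hbi]
  · intro a ha
    rw [pow_two]
    exact hsq a ha
  · have e : ↥A ≃ ↥U × ZMod 2 :=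
      { toFun := fun x => (⟨c x, x.2⟩, h.eps x)
        invFun := fun p => ⟨h.sec' p.1 * zpw z p.2, by
          show c (h.sec' p.1 * zpw z p.2) ∈ U
          rw [h.map_mul, h.map_zpw, add_zero, h.map_sec']
          exact p.1.2⟩
        left_inv := by
          intro x
          apply Subtype.ext
          exact (h.eq_sec_mul x).symm
        right_inv := by
          rintro ⟨⟨u, hu⟩, a⟩
          apply Prod.ext
          · apply Subtype.ext
            show c (h.sec' u * zpw z a) = u
            rw [h.map_mul, h.map_zpw, add_zero, h.map_sec']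
          · exact h.eps_sec_mul u a }
    rw [Nat.card_congr e, Nat.card_prod, Nat.card_zmod, mul_comm]

/-- an elementary abelian subgroup gives a totally singular subspace of at least half its order. -/
theorem exists_ts [Finite ι] (h : Coord z c Qs) (A : Subgroup E)
    (hA : IsElementaryAbelian 2 A) :
    ∃ U : Submodule (ZMod 2) (ι → ZMod 2), (∀ u ∈ U, Qs u = 0) ∧
      Nat.card ↥A ≤ 2 * Nat.card ↥U := by
  classical
  let U : Submodule (ZMod 2) (ι → ZMod 2) :=
    { carrier := {v | ∃ a ∈ A, c a = v}
      add_mem' := by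
        rintro _ _ ⟨a, ha, rfl⟩ ⟨b, hb, rfl⟩
        exact ⟨a * b, A.mul_mem ha hb, h.map_mul a b⟩
      zero_mem' := ⟨1, A.one_mem, h.map_one⟩
      smul_mem' := by
        rintro r _ ⟨a, ha, rfl⟩
        rcases zmod2_cases r with rfl | rfl
        · exact ⟨1, A.one_mem, by rw [h.map_one, zero_smul]⟩
        · exact ⟨a, ha, by rw [one_smul]⟩ }
  refine ⟨U, ?_, ?_⟩
  · rintro _ ⟨a, ha, rfl⟩
    by_contra h0
    have h1 := h.sq1 a h0
    have h2 := hA.2 a ha
    rw [pow_two] at h2
    exact h.z_ne (h1.symm.trans h2)
  · have hinj : Function.Injective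
        (fun x : ↥A => ((⟨c x, ⟨x, x.2, rfl⟩⟩ : ↥U), h.eps x)) := by
      intro x y hxy
      apply Subtype.ext
      have h1 : c x = c y := congrArg (fun p : ↥U × ZMod 2 => (p.1 : ι → ZMod 2)) hxy
      have h2 : h.eps x = h.eps y := congrArg (fun p : ↥U × ZMod 2 => p.2) hxy
      exact h.pair_injective h1 h2
    have := Nat.card_le_card_of_injective _ hinj
    rwa [Nat.card_prod, Nat.card_zmod, mul_comm] at this

end Coord

end Cfsg.Agent.Helper4.ExOut
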