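import Mathlib
import Cfsg.Agent.Helper4.ExOutIso
import Cfsg.Agent.Helper4.ExOutSymp
import Cfsg.Agent.Helper4.ExOutType
import Cfsg.Agent.S2561
import Cfsg.Agent.S2562

set_option autoImplicit false

/-!
Helper library (helper4): the outer automorphism group of an extraspecial 2-group of order
`2 ^ (2 n + 1)` is the orthogonal group of plus or minus type of dimension `2 n` over the field
with two elements, according to the existence of an elementary abelian subgroup of order
`2 ^ (n + 1)`.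
-/

namespace Cfsg.Agent.Helper4.ExOut

open Cfsg Cfsg.Agent.Helper3.AutEx

theorem card_submodule_z2 {ι : Type} [Fintype ι] (U : Submodule (ZMod 2) (ι → ZMod 2)) :
    Nat.card ↥U = 2 ^ Module.finrank (ZMod 2) ↥U := by
  have : Fact (Nat.Prime 2) := ⟨Nat.prime_two⟩
  have h1 := Module.natCard_eq_pow_finrank (K := ZMod 2) (V := ↥U)
  rwa [Nat.card_zmod] at h1

theorem main {E : Type*} [Group E] [Finite E] (hE : IsExtraspecial 2 E) (n : ℕ) (hn : 1 ≤ n)
    (hcard : Nat.card E = 2 ^ (2 * n + 1)) :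
    ((∃ A : Subgroup E, IsElementaryAbelian 2 A ∧ Nat.card ↥A = 2 ^ (n + 1)) →
      Nonempty (Out E ≃* isometryGroup (ZMod 2) (quadFormPlus n (ZMod 2)))) ∧
    ((¬ ∃ A : Subgroup E, IsElementaryAbelian 2 A ∧ Nat.card ↥A = 2 ^ (n + 1)) →
      Nonempty (Out E ≃* isometryGroup (ZMod 2) (quadFormMinus (n - 1) (ZMod 2) 1 1))) := by
  have : Fact (Nat.Prime 2) := ⟨Nat.prime_two⟩
  have hC := Cfsg.Agent.Helper3.Extra.inClass_of_isExtraspecial hE
  obtain ⟨z, he⟩ := exists_e2 hC
  obtain ⟨c, Qs, h, hpol⟩ := exists_symp_coord he hC.card_center n hcard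
  have hcls := (Cfsg.Agent.S2561.result n hn).2.1 Qs hpol
  obtain ⟨hts_plus, -, -, hts_minus⟩ := Cfsg.Agent.S2562.result n hn
  rcases hcls with ⟨g, hg⟩ | ⟨g, hg⟩
  · have h' := h.comp g.toAddEquiv (quadFormPlus n (ZMod 2)) hg
    have iso := h'.out_equiv hE
    refine ⟨fun _ => iso, fun hno => ?_⟩
    exfalso
    apply hno
    obtain ⟨U, hU0, hUr⟩ := hts_plus
    obtain ⟨A, hA, hAc⟩ := h'.exists_elemAb U hU0
    refine ⟨A, hA, ?_⟩
    rw [hAc, card_submodule_z2, hUr, pow_succ, mul_comm]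
  · have h' := h.comp g.toAddEquiv (quadFormMinus (n - 1) (ZMod 2) 1 1) hg
    refine ⟨fun hex => ?_, fun _ => h'.out_equiv hE⟩
    exfalso
    obtain ⟨A, hA, hAc⟩ := hex
    obtain ⟨U, hU0, hle⟩ := h'.exists_ts A hA
    have h1 := hts_minus U hU0
    rw [hAc, card_submodule_z2, ← pow_succ'] at hle
    have h2 := (Nat.pow_le_pow_iff_right (by norm_num : 1 < 2)).mp hle
    omega

end Cfsg.Agent.Helper4.ExOut
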