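import Mathlib

set_option autoImplicit false

namespace Cfsg.Agent.Helper4

/-- A finite `p`-group acting by additive automorphisms on an abelian group of exponent `p`
has a nonzero fixed vector in every nonzero invariant additive subgroup. -/
theorem exists_fixed_ne_zero_of_pgroup {P V : Type*} [Group P] [Finite P] {p : ℕ}
    [hp : Fact p.Prime] (hP : IsPGroup p P) [AddCommGroup V]
    (ρ : P →* AddMonoid.End V) (hV : ∀ v : V, p • v = 0)
    (U : AddSubgroup V) (hU : ∀ g : P, ∀ u ∈ U, ρ g u ∈ U) (hne : U ≠ ⊥) :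
    ∃ v ∈ U, v ≠ 0 ∧ ∀ g : P, ρ g v = v := by
  classical
  obtain ⟨u, huU, hu0⟩ : ∃ u ∈ U, u ≠ 0 := by
    by_contra hcon
    apply hne
    rw [eq_bot_iff]
    intro x hx
    rw [AddSubgroup.mem_bot]
    by_contra hx0
    exact hcon ⟨x, hx, hx0⟩
  obtain ⟨S, hS⟩ : ∃ S : Set V, S = Set.range (fun g : P => ρ g u) := ⟨_, rfl⟩
  have hSfin : S.Finite := by rw [hS]; exact Set.finite_range _
  have hSU : S ⊆ U := by
    rw [hS]
    rintro _ ⟨g, rfl⟩
    exact hU g u huU
  obtain ⟨A, hA⟩ : ∃ A : AddSubgroup V, A = AddSubgroup.closure S := ⟨_, rfl⟩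
  have hAU : A ≤ U := by
    rw [hA, AddSubgroup.closure_le]
    exact hSU
  have huA : u ∈ A := by
    rw [hA]
    apply AddSubgroup.subset_closure
    rw [hS]
    exact ⟨1, by show ρ 1 u = u; rw [map_one]; rfl⟩
  have hinv : ∀ g : P, ∀ a ∈ A, ρ g a ∈ A := by
    intro g a ha
    rw [hA] at ha ⊢
    induction ha using AddSubgroup.closure_induction with
    | mem x hx =>
      apply AddSubgroup.subset_closure
      rw [hS] at hx ⊢
      obtain ⟨k, rfl⟩ := hx
      refine ⟨g * k, ?_⟩
      show ρ (g * k) u = ρ g (ρ k u)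
      rw [map_mul]; rfl
    | zero => rw [map_zero]; exact AddSubgroup.zero_mem _
    | add x y _ _ hx hy => rw [map_add]; exact AddSubgroup.add_mem _ hx hy
    | neg x _ hx => rw [map_neg]; exact AddSubgroup.neg_mem _ hx
  have hAfg : AddGroup.FG A := by
    rw [AddGroup.fg_iff_addSubgroup_fg, AddSubgroup.fg_iff]
    exact ⟨S, hA.symm, hSfin⟩
  have hAtors : IsAddTorsion A := by
    intro a
    rw [isOfFinAddOrder_iff_nsmul_eq_zero]
    refine ⟨p, hp.out.pos, ?_⟩
    apply Subtype.ext
    rw [AddSubgroup.coe_nsmul]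
    exact hV a
  haveI hAfin : Finite A := AddCommGroup.finite_of_fg_isAddTorsion A hAtors
  letI act : MulAction P A :=
    { smul := fun g a => ⟨ρ g a.1, hinv g a.1 a.2⟩
      one_smul := fun a => Subtype.ext (by
        show ρ 1 a.1 = a.1
        rw [map_one]; rfl)
      mul_smul := fun g h a => Subtype.ext (by
        show ρ (g * h) a.1 = ρ g (ρ h a.1)
        rw [map_mul]; rfl) }
  have hmod := hP.card_modEq_card_fixedPoints A
  -- p divides card A
  have hpA : p ∣ Nat.card A := by
    have hord : addOrderOf (⟨u, huA⟩ : A) = p := by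
      apply addOrderOf_eq_prime
      · apply Subtype.ext
        rw [AddSubgroup.coe_nsmul]
        exact hV u
      · intro h
        exact hu0 (congrArg Subtype.val h)
    rw [← hord]
    exact addOrderOf_dvd_natCard _
  have hpF : p ∣ Nat.card (MulAction.fixedPoints P A) := by
    exact (Nat.modEq_zero_iff_dvd.1 (hmod.symm.trans (Nat.modEq_zero_iff_dvd.2 hpA)))
  have h0fix : (0 : A) ∈ MulAction.fixedPoints P A := by
    intro g
    apply Subtype.ext
    show ρ g (0 : V) = 0
    rw [map_zero]
  have hcard2 : 1 < Nat.card (MulAction.fixedPoints P A) := by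
    have hpos : 0 < Nat.card (MulAction.fixedPoints P A) := by
      haveI : Nonempty (MulAction.fixedPoints P A) := ⟨⟨0, h0fix⟩⟩
      exact Nat.card_pos
    have := Nat.le_of_dvd hpos hpF
    exact lt_of_lt_of_le hp.out.one_lt this
  rw [Finite.one_lt_card_iff_nontrivial] at hcard2
  obtain ⟨v, hv⟩ := exists_ne (⟨0, h0fix⟩ : MulAction.fixedPoints P A)
  refine ⟨v.1.1, hAU v.1.2, ?_, ?_⟩
  · intro h
    apply hv
    apply Subtype.ext
    apply Subtype.ext
    exact h
  · intro g
    have := v.2 g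
    exact congrArg Subtype.val this

end Cfsg.Agent.Helper4
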