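import Mathlib

set_option autoImplicit false

namespace Cfsg.Agent.Helper4

/-- A Sylow `p`-subgroup of a group acting transitively on a set of `p`-power size is
transitive. -/
theorem sylow_isPretransitive_of_card_eq_prime_pow {G Ω : Type*} [Group G] [Finite G]
    [MulAction G Ω] [Finite Ω] [MulAction.IsPretransitive G Ω] {p f : ℕ} [hp : Fact p.Prime]
    (hcard : Nat.card Ω = p ^ f) (P : Sylow p G) :
    MulAction.IsPretransitive (P : Subgroup G) Ω := by
  classical
  constructor
  intro x y
  -- the orbit of x under P is everything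
  have hH : (MulAction.stabilizer G x).index = p ^ f := by
    rw [MulAction.index_stabilizer_of_transitive, hcard]
  have h1 : (MulAction.stabilizer G x ⊓ (P : Subgroup G)).relIndex (P : Subgroup G) *
      (P : Subgroup G).index = (MulAction.stabilizer G x ⊓ (P : Subgroup G)).index :=
    Subgroup.relIndex_mul_index inf_le_right
  rw [Subgroup.inf_relIndex_right] at h1
  have h2 : (MulAction.stabilizer G x).index ∣
      (MulAction.stabilizer G x ⊓ (P : Subgroup G)).index :=
    Subgroup.index_dvd_of_le inf_le_left
  rw [hH, ← h1] at h2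
  have hcop : (p ^ f).Coprime (P : Subgroup G).index := by
    apply Nat.Coprime.pow_left
    rw [Nat.Prime.coprime_iff_not_dvd hp.out]
    exact P.not_dvd_index
  have h3 : p ^ f ∣ (MulAction.stabilizer G x).relIndex (P : Subgroup G) :=
    hcop.dvd_of_dvd_mul_right h2
  have hstab : (MulAction.stabilizer G x).subgroupOf (P : Subgroup G) =
      MulAction.stabilizer (P : Subgroup G) x := by
    ext g
    rw [Subgroup.mem_subgroupOf, MulAction.mem_stabilizer_iff, MulAction.mem_stabilizer_iff]
    rfl
  have h4 : (MulAction.stabilizer G x).relIndex (P : Subgroup G) =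
      Nat.card (MulAction.orbit (P : Subgroup G) x) := by
    unfold Subgroup.relIndex
    rw [hstab, MulAction.index_stabilizer, Nat.card_coe_set_eq]
  rw [h4] at h3
  have hle : Nat.card (MulAction.orbit (P : Subgroup G) x) ≤ Nat.card Ω :=
    Nat.card_le_card_of_injective _ Subtype.val_injective
  have hpos : 0 < Nat.card (MulAction.orbit (P : Subgroup G) x) := by
    haveI : Nonempty (MulAction.orbit (P : Subgroup G) x) := ⟨⟨x, MulAction.mem_orbit_self x⟩⟩
    exact Nat.card_pos
  have hge : p ^ f ≤ Nat.card (MulAction.orbit (P : Subgroup G) x) := Nat.le_of_dvd hpos h3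
  have heq : Nat.card (MulAction.orbit (P : Subgroup G) x) = Nat.card Ω := by
    rw [hcard] at hle ⊢; omega
  have huniv : MulAction.orbit (P : Subgroup G) x = Set.univ := by
    have hfin : (Set.univ : Set Ω).Finite := Set.finite_univ
    apply Set.eq_of_subset_of_ncard_le (Set.subset_univ _) _ hfin
    rw [Set.ncard_univ, ← heq]
    rw [Nat.card_coe_set_eq]
  have hy : y ∈ MulAction.orbit (P : Subgroup G) x := by rw [huniv]; exact Set.mem_univ _
  exact hy

end Cfsg.Agent.Helper4
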