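import Mathlib
import Cfsg.Agent.Helper1.SylowInt

set_option autoImplicit false

namespace Cfsg.Agent.Helper4

section

variable {A G : Type*} [Group A] [Finite A] [Group G] [Finite G] [MulDistribMulAction A G]

/-- coprime action: there is an invariant Sylow subgroup -/
theorem exists_invariant_sylow_action (hcop : (Nat.card A).Coprime (Nat.card G))
    (hsol : Group.IsSolvable A ∨ Group.IsSolvable G) (r : ℕ) [hr : Fact r.Prime] :
    ∃ P : Subgroup G, (∀ a : A, ∀ x ∈ P, a • x ∈ P) ∧
      Nat.card P = r ^ (Nat.card G).factorization r := by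
  obtain ⟨φ, hφ⟩ : ∃ φ : A →* MulAut G, φ = MulDistribMulAction.toMulAut A G := ⟨_, rfl⟩
  have hφa : ∀ (a : A) (x : G), φ a x = a • x := fun a x => by rw [hφ]; rfl
  have hfinX : Finite (G ⋊[φ] A) := Finite.of_equiv _ (SemidirectProduct.equivProd (φ := φ)).symm
  obtain ⟨K, hK⟩ : ∃ K : Subgroup (G ⋊[φ] A), K = (SemidirectProduct.inl : G →* G ⋊[φ] A).range :=
    ⟨_, rfl⟩
  obtain ⟨A', hA'⟩ : ∃ A' : Subgroup (G ⋊[φ] A),
      A' = (SemidirectProduct.inr : A →* G ⋊[φ] A).range := ⟨_, rfl⟩
  have eK : G ≃* K := by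
    rw [hK]; exact MonoidHom.ofInjective SemidirectProduct.inl_injective
  have eA : A ≃* A' := by
    rw [hA']; exact MonoidHom.ofInjective SemidirectProduct.inr_injective
  have hcardK : Nat.card K = Nat.card G := (Nat.card_congr eK.toEquiv).symm
  have hcardA : Nat.card A' = Nat.card A := (Nat.card_congr eA.toEquiv).symm
  have hKn : K.Normal := by
    rw [hK, SemidirectProduct.range_inl_eq_ker_rightHom]
    exact MonoidHom.normal_ker _
  have hAK : A' ≤ Subgroup.normalizer (K : Set (G ⋊[φ] A)) := by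
    rw [Subgroup.normalizer_eq_top_iff.2 hKn]; exact le_top
  have hsolv : Group.IsSolvable A' ∨ Group.IsSolvable K := by
    rcases hsol with h | h
    · exact Or.inl (Group.isSolvable_of_surjective (f := eA.toMonoidHom) eA.surjective)
    · exact Or.inr (Group.isSolvable_of_surjective (f := eK.toMonoidHom) eK.surjective)
  obtain ⟨P, hP⟩ := Cfsg.Agent.Helper1.exists_invariant_sylow (p := r) A' K hAK
    (by rw [hcardK, hcardA]; exact hcop) hsolv
  obtain ⟨P', hP'⟩ : ∃ P' : Subgroup (G ⋊[φ] A), P' = (P : Subgroup K).map K.subtype := ⟨_, rfl⟩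
  rw [← hP'] at hP
  have hP'K : P' ≤ K := by rw [hP']; exact Subgroup.map_subtype_le _
  have hcardP' : Nat.card P' = r ^ (Nat.card G).factorization r := by
    rw [hP', Subgroup.card_map_of_injective K.subtype_injective, P.card_eq_multiplicity, hcardK]
  refine ⟨P'.comap (SemidirectProduct.inl : G →* G ⋊[φ] A), ?_, ?_⟩
  · intro a x hx
    rw [Subgroup.mem_comap] at hx ⊢
    rw [← hφa, SemidirectProduct.inl_aut]
    have ha : (SemidirectProduct.inr a : G ⋊[φ] A) ∈ A' := by rw [hA']; exact ⟨a, rfl⟩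
    have hn := (Subgroup.mem_normalizer_iff.1 (hP ha) (SemidirectProduct.inl x)).1 hx
    rw [map_inv]
    exact hn
  · rw [← hcardP']
    have h1 : (P'.comap (SemidirectProduct.inl : G →* G ⋊[φ] A)).map SemidirectProduct.inl = P' := by
      apply Subgroup.map_comap_eq_self
      rw [← hK]; exact hP'K
    conv_rhs => rw [← h1]
    exact (Subgroup.card_map_of_injective SemidirectProduct.inl_injective).symm

end

end Cfsg.Agent.Helper4
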