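import Mathlib

set_option autoImplicit false

namespace Cfsg.Agent.Helper4

/-- Maschke's theorem, multiplicative form with instances. -/
theorem exists_invariant_compl_mod {A Q : Type*} [Group A] [Finite A] [CommGroup Q]
    (p : ℕ) [hp : Fact p.Prime] [Module (ZMod p) (Additive Q)] (hpA : ¬ p ∣ Nat.card A)
    (θ : A → (Q →* Q)) (hθ1 : ∀ x, θ 1 x = x)
    (hθm : ∀ a b x, θ (a * b) x = θ a (θ b x)) (W : Subgroup Q)
    (hW : ∀ a, ∀ x ∈ W, θ a x ∈ W) :
    ∃ W' : Subgroup Q, (∀ a, ∀ x ∈ W', θ a x ∈ W') ∧ W ⊔ W' = ⊤ ∧ W ⊓ W' = ⊥ := by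
  let ρ : Representation (ZMod p) A (Additive Q) :=
    { toFun := fun a => AddMonoidHom.toZModLinearMap p (MonoidHom.toAdditive (θ a))
      map_one' := by
        ext v
        exact congrArg Additive.ofMul (hθ1 v.toMul)
      map_mul' := by
        intro a b
        ext v
        exact congrArg Additive.ofMul (hθm a b v.toMul) }
  have hρ : ∀ (a : A) (v : Additive Q), ρ a v = Additive.ofMul (θ a v.toMul) := fun a v => rfl
  have : NeZero ((Nat.card A : ZMod p)) := ⟨by
    rw [Ne, ZMod.natCast_eq_zero_iff]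
    exact hpA⟩
  let σ : Subrepresentation ρ :=
    ⟨AddSubgroup.toZModSubmodule p (Subgroup.toAddSubgroup W), fun a v hv => hW a _ hv⟩
  have hσ : ∀ v : Additive Q, v ∈ σ.toSubmodule ↔ v.toMul ∈ W := fun v => Iff.rfl
  obtain ⟨τ, hτ⟩ := exists_isCompl σ
  refine ⟨{ carrier := {x | Additive.ofMul x ∈ τ.toSubmodule}
            mul_mem' := fun {a b} ha hb => τ.toSubmodule.add_mem ha hb
            one_mem' := τ.toSubmodule.zero_mem
            inv_mem' := fun {a} ha => τ.toSubmodule.neg_mem ha }, ?_, ?_, ?_⟩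
  · intro a x hx
    exact τ.apply_mem_toSubmodule a hx
  · rw [eq_top_iff]
    intro x _
    have h1 : Additive.ofMul x ∈ (σ ⊔ τ).toSubmodule := by
      rw [hτ.sup_eq_top]
      exact Submodule.mem_top
    rw [Subrepresentation.toSubmodule_sup, Submodule.mem_sup] at h1
    obtain ⟨s, hs, t, ht, hst⟩ := h1
    have h2 : x = s.toMul * t.toMul := by
      have := congrArg Additive.toMul hst
      exact this.symm
    rw [h2]
    exact Subgroup.mul_mem _ (Subgroup.mem_sup_left ((hσ s).1 hs)) (Subgroup.mem_sup_right ht)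
  · rw [eq_bot_iff]
    rintro x ⟨hx1, hx2⟩
    have h1 : Additive.ofMul x ∈ (σ ⊓ τ).toSubmodule := by
      rw [Subrepresentation.toSubmodule_inf]
      exact ⟨(hσ _).2 hx1, hx2⟩
    rw [hτ.inf_eq_bot] at h1
    have h2 : Additive.ofMul x = 0 := h1
    rw [Subgroup.mem_bot]
    exact congrArg Additive.toMul h2

/-- Maschke's theorem for an elementary abelian `p`-group `Q` (written multiplicatively) with a
coprime operator family `θ`. -/
theorem exists_invariant_compl_aux {A Q : Type*} [Group A] [Finite A] [Group Q]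
    (hcomm : ∀ x y : Q, x * y = y * x) (p : ℕ) [hp : Fact p.Prime] (hpA : ¬ p ∣ Nat.card A)
    (hexp : ∀ x : Q, x ^ p = 1) (θ : A → (Q →* Q)) (hθ1 : ∀ x, θ 1 x = x)
    (hθm : ∀ a b x, θ (a * b) x = θ a (θ b x)) (W : Subgroup Q)
    (hW : ∀ a, ∀ x ∈ W, θ a x ∈ W) :
    ∃ W' : Subgroup Q, (∀ a, ∀ x ∈ W', θ a x ∈ W') ∧ W ⊔ W' = ⊤ ∧ W ⊓ W' = ⊥ := by
  let cg : CommGroup Q := { (inferInstance : Group Q) with mul_comm := hcomm }
  have hV : ∀ v : Additive Q, p • v = 0 := by
    intro v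
    show Additive.ofMul (v.toMul ^ p) = 0
    rw [hexp]
    rfl
  let md : Module (ZMod p) (Additive Q) := AddCommGroup.zmodModule hV
  exact @exists_invariant_compl_mod A Q _ _ cg p hp md hpA θ hθ1 hθm W hW

end Cfsg.Agent.Helper4
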