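import Mathlib
import Cfsg.Agent.Helper4.CoprimeActA
import Cfsg.Agent.Helper4.CoprimeActB
import Cfsg.Agent.Helper4.FrattiniQuotient

set_option autoImplicit false
open Pointwise

namespace Cfsg.Agent.Helper4

section

variable {A G : Type*} [Group A] [Group G] [MulDistribMulAction A G]

/-- `L` is invariant under the acting group `A`. -/
def ActInv (A : Type*) {G : Type*} [Group A] [Group G] [MulDistribMulAction A G]
    (L : Subgroup G) : Prop := ∀ a : A, ∀ x ∈ L, a • x ∈ L

/-- maximal invariant subgroup -/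
def ActMaxInv (A : Type*) {G : Type*} [Group A] [Group G] [MulDistribMulAction A G]
    (M : Subgroup G) : Prop :=
  M ≠ ⊤ ∧ (∀ a : A, ∀ x ∈ M, a • x ∈ M) ∧
    ∀ L : Subgroup G, M < L → (∀ a : A, ∀ x ∈ L, a • x ∈ L) → L = ⊤

theorem actInv_frattini : ActInv A (frattini G) := by
  intro a x hx
  have h := (frattini_characteristic (G := G)).fixed (MulDistribMulAction.toMulEquiv G a)
  rw [← h] at hx
  exact hx

theorem actInv_sup {L₁ L₂ : Subgroup G} (h₁ : ActInv A L₁) (h₂ : ActInv A L₂) :
    ActInv A (L₁ ⊔ L₂) := by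
  intro a x hx
  have h : (L₁ ⊔ L₂).map (MulDistribMulAction.toMonoidHom G a) ≤ L₁ ⊔ L₂ := by
    rw [Subgroup.map_sup]
    apply sup_le_sup
    · rintro _ ⟨y, hy, rfl⟩
      exact h₁ a y hy
    · rintro _ ⟨y, hy, rfl⟩
      exact h₂ a y hy
  exact h ⟨x, hx, rfl⟩

theorem actInv_bot : ActInv A (⊥ : Subgroup G) := by
  intro a x hx
  rw [Subgroup.mem_bot] at hx ⊢
  rw [hx, smul_one]

theorem exists_actMaxInv [Finite G] {L : Subgroup G} (hL : ActInv A L) (hLt : L ≠ ⊤) :
    ∃ M : Subgroup G, L ≤ M ∧ ActMaxInv A M := by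
  obtain ⟨M, hLM, hM⟩ := Set.Finite.exists_le_maximal (s := {M : Subgroup G | ActInv A M ∧ M ≠ ⊤})
    (Set.toFinite _) (a := L) ⟨hL, hLt⟩
  refine ⟨M, hLM, hM.prop.2, hM.prop.1, ?_⟩
  intro K hMK hK
  by_contra hKt
  exact absurd (hM.le_of_ge ⟨hK, hKt⟩ hMK.le) (not_le_of_gt hMK)

/-- key lemma: when `Φ(G)` is the only candidate -/
theorem actMaxInv_iff_of_min [Finite G]
    (hmin : ∀ L : Subgroup G, frattini G < L → (∀ a : A, ∀ x ∈ L, a • x ∈ L) → L = ⊤)
    (M : Subgroup G) : ActMaxInv A M ↔ (M = frattini G ∧ M ≠ ⊤) := by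
  constructor
  · rintro ⟨hMt, hMi, hMm⟩
    refine ⟨?_, hMt⟩
    have h1 : M ⊔ frattini G ≠ ⊤ := fun h => hMt (frattini_nongenerating h)
    have h2 : frattini G ≤ M := by
      by_contra hle
      apply h1
      apply hMm _ _ (actInv_sup hMi actInv_frattini)
      apply lt_of_le_of_ne le_sup_left
      intro h
      apply hle
      rw [h]
      exact le_sup_right
    by_contra hne
    exact hMt (hmin M (lt_of_le_of_ne h2 (Ne.symm hne)) hMi)
  · rintro ⟨rfl, hMt⟩
    exact ⟨hMt, actInv_frattini, hmin⟩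

/-- invariant complement modulo Frattini in a `p`-group -/
theorem exists_invariant_compl_mod_frattini [Finite A] [Finite G] {p : ℕ} [hp : Fact p.Prime] (hG : IsPGroup p G)
    (hpA : ¬ p ∣ Nat.card A) {L : Subgroup G} (hL : ActInv A L) (hΦL : frattini G ≤ L) :
    ∃ L' : Subgroup G, ActInv A L' ∧ frattini G ≤ L' ∧ L ⊔ L' = ⊤ ∧ L ⊓ L' = frattini G := by
  have hΦn : (frattini G).Normal := inferInstance
  have hcomm : ∀ x y : G ⧸ frattini G, x * y = y * x := by
    intro x y
    induction x using QuotientGroup.induction_on with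
    | H x =>
      induction y using QuotientGroup.induction_on with
      | H y =>
        rw [← QuotientGroup.mk_mul, ← QuotientGroup.mk_mul, QuotientGroup.eq]
        have h := pgroup_commutator_mem_frattini hG y⁻¹ x⁻¹
        have h2 : (x * y)⁻¹ * (y * x) = y⁻¹ * x⁻¹ * y⁻¹⁻¹ * x⁻¹⁻¹ := by group
        rw [h2]
        exact h
  have hexp : ∀ x : G ⧸ frattini G, x ^ p = 1 := by
    intro x
    induction x using QuotientGroup.induction_on with
    | H x =>
      rw [← QuotientGroup.mk_pow, QuotientGroup.eq_one_iff]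
      exact pgroup_pow_mem_frattini hG x
  have hle : ∀ a : A, frattini G ≤ (frattini G).comap (MulDistribMulAction.toMonoidHom G a) := by
    intro a x hx
    exact actInv_frattini a x hx
  obtain ⟨θ, hθ⟩ : ∃ θ : A → (G ⧸ frattini G →* G ⧸ frattini G), ∀ a (x : G),
      θ a (QuotientGroup.mk x) = QuotientGroup.mk (a • x) :=
    ⟨fun a => QuotientGroup.map (frattini G) (frattini G) (MulDistribMulAction.toMonoidHom G a)
      (hle a), fun a x => rfl⟩
  have hθ1 : ∀ x, θ 1 x = x := by
    intro x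
    induction x using QuotientGroup.induction_on with
    | H x => rw [hθ, one_smul]
  have hθm : ∀ a b x, θ (a * b) x = θ a (θ b x) := by
    intro a b x
    induction x using QuotientGroup.induction_on with
    | H x => rw [hθ, hθ, hθ, mul_smul]
  have hW : ∀ a, ∀ x ∈ L.map (QuotientGroup.mk' (frattini G)), θ a x ∈
      L.map (QuotientGroup.mk' (frattini G)) := by
    rintro a _ ⟨x, hx, rfl⟩
    exact ⟨a • x, hL a x hx, (hθ a x).symm⟩
  obtain ⟨W', hW'i, hsup, hinf⟩ := exists_invariant_compl_aux hcomm p hpA hexp θ hθ1 hθm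
    (L.map (QuotientGroup.mk' (frattini G))) hW
  have hker : (QuotientGroup.mk' (frattini G)).ker ≤ L := by
    rw [QuotientGroup.ker_mk']
    exact hΦL
  have hLeq : (L.map (QuotientGroup.mk' (frattini G))).comap (QuotientGroup.mk' (frattini G)) = L :=
    Subgroup.comap_map_eq_self hker
  refine ⟨W'.comap (QuotientGroup.mk' (frattini G)), ?_, ?_, ?_, ?_⟩
  · intro a x hx
    rw [Subgroup.mem_comap] at hx ⊢
    have := hW'i a _ hx
    rw [QuotientGroup.mk'_apply, hθ] at this
    exact this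
  · intro x hx
    rw [Subgroup.mem_comap, QuotientGroup.mk'_apply, (QuotientGroup.eq_one_iff x).2 hx]
    exact W'.one_mem
  · conv_lhs => rw [← hLeq]
    rw [Subgroup.comap_sup_eq _ _ _ (QuotientGroup.mk'_surjective _), hsup, Subgroup.comap_top]
  · conv_lhs => rw [← hLeq]
    rw [← Subgroup.comap_inf, hinf, MonoidHom.comap_bot, QuotientGroup.ker_mk']

end

end Cfsg.Agent.Helper4
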