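import Mathlib

set_option autoImplicit false

namespace Cfsg.Agent.Helper4

open MulAction

/-- If the pointwise stabilizer of every set with fewer than `k` points is transitive on the
complement, the action is `k`-transitive. -/
theorem isMultiplyPretransitive_of_fixing_transitive {K α : Type*} [Group K] [MulAction K α]
    [DecidableEq α] (k : ℕ)
    (hQ : ∀ t : Finset α, t.card < k → ∀ a b : α, a ∉ t → b ∉ t →
      ∃ g : K, (∀ z ∈ t, g • z = z) ∧ g • a = b) :
    IsMultiplyPretransitive K α k := by
  have key : ∀ j : ℕ, j ≤ k → ∀ x y : Fin j ↪ α, ∃ g : K, ∀ i, g • x i = y i := by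
    intro j
    induction j with
    | zero =>
      intro _ x y
      exact ⟨1, fun i => i.elim0⟩
    | succ j ih =>
      intro hj x y
      obtain ⟨g, hg⟩ := ih (by omega) (Fin.castSuccEmb.trans x) (Fin.castSuccEmb.trans y)
      have hg' : ∀ i : Fin j, g • x i.castSucc = y i.castSucc := hg
      obtain ⟨t, ht⟩ : ∃ t : Finset α, t = Finset.univ.image (fun i : Fin j => y i.castSucc) :=
        ⟨_, rfl⟩
      have htcard : t.card = j := by
        rw [ht, Finset.card_image_of_injective, Finset.card_univ, Fintype.card_fin]
        intro i i' h
        exact Fin.castSucc_injective _ (y.injective h)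
      have ha : g • x (Fin.last j) ∉ t := by
        rw [ht]
        intro h
        rw [Finset.mem_image] at h
        obtain ⟨i, _, hi⟩ := h
        rw [← hg' i] at hi
        have := x.injective (MulAction.injective g hi)
        exact absurd this (Fin.castSucc_lt_last i).ne
      have hb : y (Fin.last j) ∉ t := by
        rw [ht]
        intro h
        rw [Finset.mem_image] at h
        obtain ⟨i, _, hi⟩ := h
        have := y.injective hi
        exact absurd this (Fin.castSucc_lt_last i).ne
      obtain ⟨h, hfix, hab⟩ := hQ t (by omega) _ _ ha hb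
      refine ⟨h * g, fun i => ?_⟩
      refine Fin.lastCases ?_ (fun i' => ?_) i
      · rw [mul_smul, hab]
      · rw [mul_smul, hg' i']
        apply hfix
        rw [ht]
        exact Finset.mem_image_of_mem _ (Finset.mem_univ i')
  constructor
  intro x y
  obtain ⟨g, hg⟩ := key k le_rfl x y
  refine ⟨g, ?_⟩
  ext i
  rw [Function.Embedding.smul_apply]
  exact hg i

end Cfsg.Agent.Helper4
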