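import Mathlib
import Cfsg.Agent.Helper4.SylFewA

set_option autoImplicit false

namespace Cfsg.Agent.Helper4.SylFew

open MulAction
open Cfsg.Agent.Helper4

/-- Fixed points of an element of prime order `r ≠ 7` centralizing a Sylow 7-subgroup, in a group
acting faithfully on its fifteen Sylow 7-subgroups. -/
theorem fixed_of_centralizer {G : Type*} [Group G] [Finite G] [Fact (Nat.Prime 7)]
    (h15 : Nat.card (Sylow 7 G) = 15)
    (hfaith : ∀ g : G, (∀ Q : Sylow 7 G, g • Q = Q) → g = 1)
    (P : Sylow 7 G) (g : G) (hg : g ∈ Subgroup.centralizer ((P : Subgroup G) : Set G))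
    (r : ℕ) (hr : r.Prime) (hgr : orderOf g = r) (hr7 : r ≠ 7) :
    (∀ Q : Sylow 7 G, g • Q = Q → Q = P) ∧ r ∣ 14 := by
  have hlt49 : Nat.card (Sylow 7 G) < 7 ^ 2 := by rw [h15]; norm_num
  haveI : Fact r.Prime := ⟨hr⟩
  have hgP : g • P = P := by
    rw [Sylow.smul_eq_iff_mem_normalizer]
    exact Subgroup.centralizer_le_normalizer _ hg
  have hcomm : ∀ (x : (P : Subgroup G)) (R : Sylow 7 G), g • (x • R) = x • (g • R) := by
    intro x R
    rw [Subgroup.smul_def, Subgroup.smul_def, ← mul_smul, ← mul_smul]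
    congr 1
    exact ((Subgroup.mem_centralizer_iff.1 hg) x x.2).symm
  obtain ⟨F, hF⟩ : ∃ F : Set (Sylow 7 G), F = {R | g • R = R} := ⟨_, rfl⟩
  have hmemF : ∀ R : Sylow 7 G, R ∈ F ↔ g • R = R := by
    intro R; rw [hF]; rfl
  have hmod : Nat.card (Sylow 7 G) ≡ F.ncard [MOD r] := by
    have hz : IsPGroup r (Subgroup.zpowers g) := by
      apply IsPGroup.of_card (n := 1)
      rw [Nat.card_zpowers, hgr, pow_one]
    have h1 := hz.card_modEq_card_fixedPoints (Sylow 7 G)
    have h2 : fixedPoints (Subgroup.zpowers g) (Sylow 7 G) = F := by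
      ext R
      rw [mem_fixedPoints, hmemF]
      constructor
      · intro h
        exact h ⟨g, Subgroup.mem_zpowers g⟩
      · intro h y
        have hle : Subgroup.zpowers g ≤ stabilizer G R := by
          rw [Subgroup.zpowers_le]; exact h
        exact hle y.2
    rw [h2, Nat.card_coe_set_eq] at h1
    exact h1
  have hFP : P ∈ F := (hmemF P).2 hgP
  have hsplit : ∀ Q : Sylow 7 G, g • Q = Q → Q = P := by
    intro Q hQ
    by_contra hne
    have hO1 : (orbit (P : Subgroup G) Q).ncard = 7 := ncard_orbit_sylow hlt49 P Q (Ne.symm hne)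
    have hO1F : orbit (P : Subgroup G) Q ⊆ F := by
      rintro R ⟨x, rfl⟩
      rw [hmemF]
      show g • (x • Q) = x • Q
      rw [hcomm, hQ]
    have hPO1 : P ∉ orbit (P : Subgroup G) Q := by
      rintro ⟨x, hx⟩
      apply hne
      have hxP : (x : G) • P = P := by
        rw [Sylow.smul_eq_iff_mem_normalizer]
        exact Subgroup.le_normalizer x.2
      have hx' : (x : G) • Q = P := hx
      have hx2 : (x : G) • Q = (x : G) • P := hx'.trans hxP.symm
      exact smul_left_cancel _ hx2
    have h8 : 8 ≤ F.ncard := by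
      have hsub : insert P (orbit (P : Subgroup G) Q) ⊆ F := Set.insert_subset hFP hO1F
      have := Set.ncard_le_ncard hsub (Set.toFinite F)
      rw [Set.ncard_insert_of_notMem hPO1 (Set.toFinite _), hO1] at this
      exact this
    have hFne : ∃ R, R ∉ F := by
      by_contra hall
      push Not at hall
      have : g = 1 := hfaith g (fun Q => (hmemF Q).1 (hall Q))
      rw [this, orderOf_one] at hgr
      exact hr.ne_one hgr.symm
    obtain ⟨R, hR⟩ := hFne
    have hRP : P ≠ R := fun h => hR (h ▸ hFP)
    have hO2 : (orbit (P : Subgroup G) R).ncard = 7 := ncard_orbit_sylow hlt49 P R hRP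
    have hdisj : Disjoint (orbit (P : Subgroup G) R) F := by
      rw [Set.disjoint_left]
      rintro S ⟨x, rfl⟩ hS
      apply hR
      rw [hmemF] at hS ⊢
      have hS' : g • (x • R) = x • R := hS
      rw [hcomm] at hS'
      exact smul_left_cancel _ hS'
    have h15' : F.ncard + 7 ≤ 15 := by
      have hun : (F ∪ orbit (P : Subgroup G) R).ncard =
          F.ncard + (orbit (P : Subgroup G) R).ncard :=
        Set.ncard_union_eq hdisj.symm (Set.toFinite _) (Set.toFinite _)
      have hle : (F ∪ orbit (P : Subgroup G) R).ncard ≤ Nat.card (Sylow 7 G) := by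
        rw [← Set.ncard_univ]
        exact Set.ncard_le_ncard (Set.subset_univ _) (Set.toFinite _)
      rw [hun, hO2, h15] at hle
      exact hle
    have hF8 : F.ncard = 8 := by omega
    rw [h15, hF8] at hmod
    have hdvd : r ∣ 15 - 8 := (Nat.modEq_iff_dvd' (by norm_num)).1 hmod.symm
    have h7 : r ∣ 7 := by simpa using hdvd
    exact hr7 ((Nat.prime_dvd_prime_iff_eq hr (by norm_num)).1 h7)
  refine ⟨hsplit, ?_⟩
  have hF1 : F = {P} := by
    ext R
    constructor
    · intro h; exact hsplit R ((hmemF R).1 h)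
    · intro h; rw [Set.mem_singleton_iff] at h; rw [h]; exact hFP
  rw [h15, hF1, Set.ncard_singleton] at hmod
  have hdvd : r ∣ 15 - 1 := (Nat.modEq_iff_dvd' (by norm_num)).1 hmod.symm
  simpa using hdvd

theorem main_aux.{u} : ∀ (n : ℕ) (G : Type u) [Group G] [Finite G], Nat.card G = n →
    Nat.card (Sylow 7 G) ≠ 15 := by
  intro n
  induction n using Nat.strong_induction_on with
  | _ n ih =>
  intro G _ _ hn h15
  haveI : Fact (Nat.Prime 7) := ⟨by norm_num⟩
  have IH : ∀ (H : Type u) [Group H] [Finite H], Nat.card H < Nat.card G →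
      Nat.card (Sylow 7 H) ≠ 15 := by
    intro H _ _ hlt
    exact ih (Nat.card H) (hn ▸ hlt) H rfl
  obtain ⟨P⟩ : Nonempty (Sylow 7 G) := inferInstance
  obtain ⟨N, hN⟩ : ∃ N : Subgroup G, N = Subgroup.normalizer ((P : Subgroup G) : Set G) :=
    ⟨_, rfl⟩
  have hlt49 : Nat.card (Sylow 7 G) < 7 ^ 2 := by rw [h15]; norm_num
  have hNidx : N.index = 15 := by
    rw [hN, ← h15]; exact (P.card_eq_index_normalizer).symm
  -- Step 1: the core of the normalizer is trivial
  have hcore : N.normalCore = ⊥ := by
    by_contra hne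
    obtain ⟨K, hK⟩ : ∃ K : Subgroup G, K = N.normalCore := ⟨_, rfl⟩
    haveI : K.Normal := by rw [hK]; exact Subgroup.normalCore_normal N
    have h1 := card_sylow_eq_mul K P
    have hle : (P : Subgroup G) ⊔ K ≤ N :=
      sup_le (by rw [hN]; exact Subgroup.le_normalizer) (by rw [hK]; exact Subgroup.normalCore_le N)
    have h2 := card_sylow_subgroup_eq_relIndex P ((P : Subgroup G) ⊔ K) le_sup_left
    rw [← hN, Subgroup.relIndex_eq_one.2 hle] at h2
    rw [h2, mul_one] at h1
    have hKne : K ≠ ⊥ := by rw [hK]; exact hne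
    have hKcard : 1 < Nat.card K := (Subgroup.one_lt_card_iff_ne_bot K).2 hKne
    have hmul := Subgroup.card_eq_card_quotient_mul_card_subgroup K
    have hqpos : 0 < Nat.card (G ⧸ K) := Nat.card_pos
    have hlt : Nat.card (G ⧸ K) < Nat.card G := by
      rw [hmul]; nlinarith
    exact IH (G ⧸ K) hlt (h1.symm.trans h15)
  -- Step 2: no proper normal subgroup of index prime to 7
  have hnoNormal : ∀ H : Subgroup G, H.Normal → ¬ 7 ∣ H.index → H = ⊤ := by
    intro H hH h7
    by_contra hne
    haveI := hH
    have h1 := card_sylow_of_normal_of_not_dvd_index 7 H h7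
    have hmul := H.card_mul_index
    have hidx : H.index ≠ 1 := fun h => hne (Subgroup.index_eq_one.1 h)
    have hidx0 : H.index ≠ 0 := Subgroup.index_ne_zero_of_finite
    have hHpos : 0 < Nat.card H := Nat.card_pos
    have hlt : Nat.card H < Nat.card G := by
      rw [← hmul]
      have : 2 ≤ H.index := by omega
      nlinarith
    exact IH H hlt (h1.trans h15)
  -- Step 3: faithful action
  have hfaith : ∀ g : G, (∀ Q : Sylow 7 G, g • Q = Q) → g = 1 := by
    intro g hg
    have hmem : g ∈ N.normalCore := by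
      intro b
      have hb : (b * g * b⁻¹) • P = P := by
        rw [mul_smul, mul_smul, hg (b⁻¹ • P), smul_inv_smul]
      rw [hN]
      exact Sylow.smul_eq_iff_mem_normalizer.1 hb
    rw [hcore] at hmem
    exact Subgroup.mem_bot.1 hmem
  have hcoreD : ∀ D : Subgroup G, D ≠ ⊥ → ∃ R : Sylow 7 G, ¬ D ≤ (R : Subgroup G) := by
    intro D hD
    by_contra hall
    push Not at hall
    apply hD
    rw [eq_bot_iff]
    intro d hd
    rw [Subgroup.mem_bot]
    apply hfaith
    intro Q
    rw [Sylow.smul_eq_iff_mem_normalizer]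
    exact Subgroup.le_normalizer (hall Q hd)
  have hPbot : (P : Subgroup G) ≠ ⊥ := by
    intro hP
    have : N = ⊤ := by
      rw [hN, hP]
      exact Subgroup.normalizer_eq_top _
    rw [this, Subgroup.index_top] at hNidx
    omega
  have hP7 : Nat.card (P : Subgroup G) = 7 := card_eq_prime_of_few hcoreD hlt49 P hPbot
  -- Step 4: the centralizer
  obtain ⟨C, hC⟩ : ∃ C : Subgroup G, C = Subgroup.centralizer ((P : Subgroup G) : Set G) :=
    ⟨_, rfl⟩
  have hCN : C ≤ N := by rw [hC, hN]; exact Subgroup.centralizer_le_normalizer _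
  have hrel : C.relIndex N ∣ 6 := by
    have hcyc : IsCyclic (P : Subgroup G) := isCyclic_of_prime_card hP7
    have key := Subgroup.card_dvd_of_injective _
      (QuotientGroup.kerLift_injective (P : Subgroup G).normalizerMonoidHom)
    rw [Subgroup.normalizerMonoidHom_ker, ← Subgroup.index, ← Subgroup.relIndex] at key
    rw [hcyc.card_mulAut, hP7, Nat.totient_prime (by norm_num : Nat.Prime 7)] at key
    rw [hC, hN]; exact key
  have hNcard : Nat.card C * C.relIndex N = Nat.card N := card_mul_relIndex' hCN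
  have hGcard : Nat.card N * 15 = Nat.card G := by rw [← hNidx]; exact N.card_mul_index
  have hCprime : ∀ r : ℕ, r.Prime → r ≠ 7 → r ∣ Nat.card C →
      ∃ t : G, t ∈ C ∧ orderOf t = r ∧ (∀ Q : Sylow 7 G, t • Q = Q → Q = P) ∧ r ∣ 14 := by
    intro r hr hr7 hdvd
    haveI : Fact r.Prime := ⟨hr⟩
    obtain ⟨x, hx⟩ := exists_prime_orderOf_dvd_card' r hdvd
    have hxo : orderOf (x : G) = r := by rw [Subgroup.orderOf_coe]; exact hx
    have := fixed_of_centralizer h15 hfaith P (x : G) (hC ▸ x.2) r hr hxo hr7
    exact ⟨x, x.2, hxo, this.1, this.2⟩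
  by_cases h2C : 2 ∣ Nat.card C
  · -- an involution centralizing `P` is an odd permutation
    obtain ⟨t, htC, hto, htfix, -⟩ := hCprime 2 Nat.prime_two (by norm_num) h2C
    classical
    haveI : Fintype (Sylow 7 G) := Fintype.ofFinite _
    have htP : t • P = P := by
      have h := hCN htC
      rw [hN] at h
      exact Sylow.smul_eq_iff_mem_normalizer.2 h
    obtain ⟨f, hf⟩ : ∃ f : G →* ℤˣ,
        f = (Equiv.Perm.sign).comp (MulAction.toPermHom G (Sylow 7 G)) := ⟨_, rfl⟩
    have hft : f t = -1 := by
      rw [hf, MonoidHom.comp_apply]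
      refine sign_eq_neg_one_of_involution _ ?_ ?_ P ?_
      · rw [← map_pow, ← hto, pow_orderOf_eq_one, map_one]
      · rw [← Nat.card_eq_fintype_card, h15]
      · intro Q
        rw [MulAction.toPermHom_apply, MulAction.toPerm_apply]
        constructor
        · exact htfix Q
        · intro h; rw [h]; exact htP
    have hker : f.ker = ⊤ := by
      apply hnoNormal _ inferInstance
      rw [Subgroup.index_ker]
      intro h7
      have hle : Nat.card f.range ≤ 2 := by
        have hd := Subgroup.card_subgroup_dvd_card f.range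
        have h2 : Nat.card ℤˣ = 2 := by
          rw [Nat.card_eq_fintype_card]; exact Fintype.card_units_int
        rw [h2] at hd
        exact Nat.le_of_dvd (by norm_num) hd
      have := Nat.le_of_dvd Nat.card_pos h7
      omega
    have htk : t ∈ f.ker := by rw [hker]; trivial
    rw [MonoidHom.mem_ker, hft] at htk
    exact absurd htk (by decide)
  · -- `|C|` is odd
    have h4N : ¬ 4 ∣ Nat.card N := by
      intro h4
      rw [← hNcard] at h4
      obtain ⟨m, hm⟩ := hrel
      have h46 : 4 ∣ Nat.card C * 6 := by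
        rw [hm, ← mul_assoc]; exact Dvd.dvd.mul_right h4 m
      omega
    have h4G : ¬ 4 ∣ Nat.card G := by
      intro h4
      rw [← hGcard] at h4
      omega
    have h5C : ¬ 5 ∣ Nat.card C := by
      intro h5
      obtain ⟨t, -, -, -, h14⟩ := hCprime 5 (by norm_num) (by norm_num) h5
      omega
    have h5N : ¬ 5 ∣ Nat.card N := by
      intro h5
      rw [← hNcard] at h5
      rcases (Nat.Prime.dvd_mul (by norm_num : Nat.Prime 5)).1 h5 with h | h
      · exact h5C h
      · have := dvd_trans h hrel
        omega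
    have h25G : ¬ 25 ∣ Nat.card G := by
      intro h25
      rw [← hGcard] at h25
      omega
    have h5G : 5 ∣ Nat.card G := by
      rw [← hGcard]; exact Dvd.dvd.mul_left (by norm_num) _
    by_cases h2G : 2 ∣ Nat.card G
    · haveI : Fact (Nat.Prime 2) := ⟨Nat.prime_two⟩
      obtain ⟨T⟩ : Nonempty (Sylow 2 G) := inferInstance
      have hT : Nat.card (T : Subgroup G) = 2 :=
        sylow_card_eq_prime_of_sq_not_dvd T h2G
          (by rw [show (2 : ℕ) ^ 2 = 4 by norm_num]; exact h4G)
      obtain ⟨K, hKn, hKi⟩ := exists_normal_index_eq_prime T hT (by simp)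
      have hKtop := hnoNormal K hKn (by rw [hKi]; norm_num)
      rw [hKtop, Subgroup.index_top] at hKi
      omega
    · haveI : Fact (Nat.Prime 5) := ⟨by norm_num⟩
      obtain ⟨S⟩ : Nonempty (Sylow 5 G) := inferInstance
      have hS : Nat.card (S : Subgroup G) = 5 :=
        sylow_card_eq_prime_of_sq_not_dvd S h5G
          (by rw [show (5 : ℕ) ^ 2 = 25 by norm_num]; exact h25G)
      have hco : (Nat.card G).Coprime (5 - 1) := by
        have h2 : (Nat.card G).Coprime 2 :=
          Nat.coprime_comm.1 ((Nat.Prime.coprime_iff_not_dvd Nat.prime_two).2 h2G)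
        rw [show (5 - 1 : ℕ) = 2 ^ 2 by norm_num]
        exact Nat.Coprime.pow_right 2 h2
      obtain ⟨K, hKn, hKi⟩ := exists_normal_index_eq_prime S hS hco
      have hKtop := hnoNormal K hKn (by rw [hKi]; norm_num)
      rw [hKtop, Subgroup.index_top] at hKi
      omega

/-- No finite group has exactly 15 Sylow 7-subgroups. -/
theorem card_sylow_seven_ne_fifteen {G : Type*} [Group G] [Finite G] :
    Nat.card (Sylow 7 G) ≠ 15 :=
  main_aux (Nat.card G) G rfl

end Cfsg.Agent.Helper4.SylFew
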