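import Mathlib

set_option autoImplicit false

namespace Cfsg.Agent.Helper4

section RankTwo

variable {E V : Type*} [Group E] [CommGroup V]

/-- powers indexed by `ZMod q` -/
def zmodPow (q : ℕ) (e : E) (i : ZMod q) : E := e ^ i.val

theorem zmodPow_add {q : ℕ} [NeZero q] (e : E) (he : e ^ q = 1) (i j : ZMod q) :
    zmodPow q e (i + j) = zmodPow q e i * zmodPow q e j := by
  unfold zmodPow
  rw [ZMod.val_add, ← pow_add, ← pow_eq_pow_mod _ he]

theorem zmodPow_mul {q : ℕ} [NeZero q] (e : E) (he : e ^ q = 1) (i j : ZMod q) :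
    zmodPow q e (i * j) = (zmodPow q e i) ^ j.val := by
  unfold zmodPow
  rw [ZMod.val_mul, ← pow_mul, ← pow_eq_pow_mod _ he]

theorem zmodPow_zero {q : ℕ} (e : E) : zmodPow q e 0 = 1 := by
  unfold zmodPow
  rw [ZMod.val_zero, pow_zero]

theorem zmodPow_one {q : ℕ} [hq : Fact (1 < q)] (e : E) : zmodPow q e 1 = e := by
  unfold zmodPow
  rw [ZMod.val_one, pow_one]

/-- the norm over a cyclic group of order `q` is trivial for a fixed-point-free generator -/
theorem prod_zmodPow_eq_one {q : ℕ} [hq : Fact q.Prime] (φ : E →* MulAut V) (c : E) (hc : c ^ q = 1)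
    (hfix : ∀ v : V, φ c v = v → v = 1) (v : V) : ∏ i : ZMod q, φ (zmodPow q c i) v = 1 := by
  have h1q : Fact (1 < q) := ⟨hq.out.one_lt⟩
  apply hfix
  rw [map_prod]
  have : ∀ i : ZMod q, φ c (φ (zmodPow q c i) v) = φ (zmodPow q c (i + 1)) v := by
    intro i
    rw [zmodPow_add c hc, zmodPow_one, ← MulAut.mul_apply, ← map_mul]
    congr 2
    unfold zmodPow
    exact (pow_mul_comm' c _).symm
  simp_rw [this]
  exact Fintype.prod_equiv (Equiv.addRight (1 : ZMod q)) _ _ (fun i => rfl)

theorem pow_prime_eq_one_of_rank_two_fpf {q : ℕ} [hq : Fact q.Prime] (φ : E →* MulAut V)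
    (a b : E) (hab : a * b = b * a) (ha : a ^ q = 1) (hb : b ^ q = 1) (ha1 : a ≠ 1)
    (hba : ∀ k : ℕ, a ^ k * b ≠ 1)
    (hfpf : ∀ e : E, e ≠ 1 → e ^ q = 1 → ∀ v : V, φ e v = v → v = 1) (v : V) : v ^ q = 1 := by
  have h1q : Fact (1 < q) := ⟨hq.out.one_lt⟩
  have hcomm : Commute a b := hab
  -- S i
  obtain ⟨S, hS⟩ : ∃ S : ZMod q → V, ∀ i, S i = ∏ m : ZMod q, φ (zmodPow q a m * zmodPow q b i) v :=
    ⟨_, fun i => rfl⟩
  -- T = ∏ S i = 1
  have hT : ∏ i : ZMod q, S i = 1 := by
    apply hfpf a ha1 ha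
    simp_rw [hS]
    rw [Finset.prod_comm, map_prod]
    have : ∀ m : ZMod q, φ a (∏ i : ZMod q, φ (zmodPow q a m * zmodPow q b i) v) =
        ∏ i : ZMod q, φ (zmodPow q a (m + 1) * zmodPow q b i) v := by
      intro m
      rw [map_prod]
      apply Finset.prod_congr rfl
      intro i _
      rw [zmodPow_add a ha, zmodPow_one, ← MulAut.mul_apply, ← map_mul]
      congr 2
      unfold zmodPow
      rw [← mul_assoc, pow_mul_comm']
    simp_rw [this]
    exact Fintype.prod_equiv (Equiv.addRight (1 : ZMod q)) _ _ (fun i => rfl)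
  -- S 0 = N_a = 1
  have hS0 : S 0 = 1 := by
    rw [hS]
    have := prod_zmodPow_eq_one φ a ha (hfpf a ha1 ha) v
    simpa [zmodPow_zero] using this
  -- the product over the other cyclic subgroups
  have hN : ∀ k : ZMod q, ∏ i : ZMod q, φ (zmodPow q (zmodPow q a k * b) i) v = 1 := by
    intro k
    have hc1 : zmodPow q a k * b ≠ 1 := hba _
    have hcq : (zmodPow q a k * b) ^ q = 1 := by
      have hc : Commute (zmodPow q a k) b := hcomm.pow_left _
      rw [hc.mul_pow, hb, mul_one]
      unfold zmodPow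
      rw [← pow_mul, mul_comm, pow_mul, ha, one_pow]
    exact prod_zmodPow_eq_one φ _ hcq (hfpf _ hc1 hcq) v
  have hrew : ∀ k i : ZMod q, zmodPow q (zmodPow q a k * b) i =
      zmodPow q a (k * i) * zmodPow q b i := by
    intro k i
    have hc : Commute (zmodPow q a k) b := hcomm.pow_left _
    rw [zmodPow_mul a ha]
    show (zmodPow q a k * b) ^ i.val = zmodPow q a k ^ i.val * b ^ i.val
    rw [hc.mul_pow]
  have hprod : ∏ k : ZMod q, ∏ i : ZMod q, φ (zmodPow q (zmodPow q a k * b) i) v = 1 :=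
    Finset.prod_eq_one (fun k _ => hN k)
  simp_rw [hrew] at hprod
  rw [Finset.prod_comm] at hprod
  -- inner product for each i
  have hinner : ∀ i : ZMod q, i ≠ 0 →
      ∏ k : ZMod q, φ (zmodPow q a (k * i) * zmodPow q b i) v = S i := by
    intro i hi
    rw [hS]
    have hbij : Function.Bijective (fun k : ZMod q => k * i) := by
      have hinj : Function.Injective (fun k : ZMod q => k * i) := by
        intro k k' hkk
        exact mul_right_cancel₀ hi hkk
      exact ⟨hinj, Finite.surjective_of_injective hinj⟩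
    exact Fintype.prod_bijective _ hbij _ _ (fun k => rfl)
  have hinner0 : ∏ k : ZMod q, φ (zmodPow q a (k * 0) * zmodPow q b 0) v = v ^ q := by
    simp only [mul_zero, zmodPow_zero, mul_one, map_one, MulAut.one_apply]
    rw [Finset.prod_const, Finset.card_univ, ZMod.card]
  rw [← Finset.mul_prod_erase Finset.univ _ (Finset.mem_univ (0 : ZMod q)), hinner0] at hprod
  rw [← Finset.mul_prod_erase Finset.univ _ (Finset.mem_univ (0 : ZMod q)), hS0, one_mul] at hT
  have hrest : ∏ i ∈ Finset.univ.erase (0 : ZMod q),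
      ∏ k : ZMod q, φ (zmodPow q a (k * i) * zmodPow q b i) v =
      ∏ i ∈ Finset.univ.erase (0 : ZMod q), S i := by
    apply Finset.prod_congr rfl
    intro i hi
    exact hinner i (Finset.ne_of_mem_erase hi)
  rw [hrest, hT, mul_one] at hprod
  exact hprod

end RankTwo

end Cfsg.Agent.Helper4
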