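import Mathlib
import Cfsg.Agent.Helper4.EqualOrderA
import Cfsg.Agent.Helper4.FrobActionB
import Cfsg.Agent.Helper1.NilpCoprime
import Cfsg.Agent.S0016

set_option autoImplicit false

namespace Cfsg.Agent.Helper4

section EqualOrder

variable {G : Type*} [Group G]

/-- version of the rank two lemma for a commutative subgroup -/
theorem pow_prime_eq_one_of_rank_two_fpf_subgroup {E : Type*} [Group E] {q : ℕ} [hq : Fact q.Prime]
    (V : Subgroup G) (hV : ∀ a ∈ V, ∀ b ∈ V, a * b = b * a) (φ : E →* MulAut V)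
    (a b : E) (hab : a * b = b * a) (ha : a ^ q = 1) (hb : b ^ q = 1) (ha1 : a ≠ 1)
    (hba : ∀ k : ℕ, a ^ k * b ≠ 1)
    (hfpf : ∀ e : E, e ≠ 1 → e ^ q = 1 → ∀ v : V, φ e v = v → v = 1) (v : V) : v ^ q = 1 := by
  let instC : CommGroup V :=
    { (inferInstance : Group V) with
      mul_comm := fun x y => Subtype.ext (hV x x.2 y y.2) }
  exact pow_prime_eq_one_of_rank_two_fpf (V := V) φ a b hab ha hb ha1 hba hfpf v

/-- the normal Sylow subgroups of a nilpotent normal subgroup -/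
theorem exists_normal_sylow_of_isNilpotent [Finite G] (M : Subgroup G) [hM : M.Normal]
    (hnil : Group.IsNilpotent M) (r : ℕ) [hr : Fact r.Prime] :
    ∃ R : Subgroup G, R.Normal ∧ IsPGroup r R ∧ R ≤ M ∧
      (∀ y ∈ M, ∀ k : ℕ, orderOf y = r ^ k → y ∈ R) ∧ (r ∣ Nat.card M → R ≠ ⊥) := by
  have hall := ((Group.isNilpotent_of_finite_tfae (G := M)).out 0 3).1 hnil
  obtain ⟨P⟩ : Nonempty (Sylow r M) := inferInstance
  have hPn : (P : Subgroup M).Normal := hall r inferInstance P
  have hPc : (P : Subgroup M).Characteristic := Sylow.characteristic_of_normal P hPn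
  have hmem : ∀ y ∈ M, ∀ k : ℕ, orderOf y = r ^ k → y ∈ (P : Subgroup M).map M.subtype := by
    intro y hy k hk
    refine ⟨⟨y, hy⟩, ?_, rfl⟩
    exact Cfsg.Agent.Helper1.mem_sylow_of_isNilpotent P ⟨y, hy⟩ k
      (by rw [Subgroup.orderOf_mk]; exact hk)
  refine ⟨(P : Subgroup M).map M.subtype, ConjAct.normal_of_characteristic_of_normal,
    P.2.map _, Subgroup.map_subtype_le _, hmem, ?_⟩
  intro hdvd hbot
  obtain ⟨z, hz⟩ := exists_prime_orderOf_dvd_card' r hdvd
  have hz' : orderOf (z : G) = r ^ 1 := by rw [Subgroup.orderOf_coe, hz, pow_one]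
  have := hmem z z.2 1 hz'
  rw [hbot, Subgroup.mem_bot] at this
  rw [this, orderOf_one, pow_one] at hz'
  exact hr.out.one_lt.ne hz'

variable [Finite G] (N : Subgroup G) [hNn : N.Normal]

theorem eq_one_of_equalOrder (heq : ∀ x : G, x ∉ N → ∀ n ∈ N, orderOf (x * n) = orderOf x)
    {x n : G} (hx : x ∉ N) (hn : n ∈ N) (hc : x * n = n * x)
    (hcop : (orderOf x).Coprime (orderOf n)) : n = 1 := by
  have h := Commute.orderOf_mul_eq_mul_orderOf_of_coprime (show Commute x n from hc) hcop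
  rw [heq x hx n hn] at h
  have hpos := orderOf_pos x
  have h1 : orderOf n = 1 := by
    have : orderOf x * 1 = orderOf x * orderOf n := by rw [mul_one]; exact h
    exact (Nat.eq_of_mul_eq_mul_left hpos this).symm
  exact orderOf_eq_one_iff.1 h1

theorem exists_prime_ne_dvd_card (hN1 : N ≠ ⊥) (hnpp : ¬ IsPrimePow (Nat.card N)) (q : ℕ) :
    ∃ p : ℕ, p.Prime ∧ p ≠ q ∧ p ∣ Nat.card N := by
  by_contra hcon
  push Not at hcon
  have h0 : Nat.card N ≠ 0 := Nat.card_pos.ne'
  have hall : ∀ {d : ℕ}, d.Prime → d ∣ Nat.card N → d = q := by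
    intro d hd hdvd
    by_contra hne
    exact hcon d hd hne hdvd
  have h1 : Nat.card N ≠ 1 := by
    intro h1
    apply hN1
    exact Subgroup.card_eq_one.1 h1
  obtain ⟨d, hd, hdvd⟩ := Nat.exists_prime_and_dvd h1
  have hdq : d = q := hall hd hdvd
  have hpow := Nat.eq_prime_pow_of_unique_prime_dvd h0 hall
  apply hnpp
  rw [hpow]
  apply (hdq ▸ hd).isPrimePow.pow
  intro hlen
  rw [hlen, pow_zero] at hpow
  exact h1 hpow

/-- the module `Ω₁(Z(O_p(N)))` -/
theorem exists_equalOrder_module (hnil : Group.IsNilpotent N) (p : ℕ) [hp : Fact p.Prime]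
    (hdvd : p ∣ Nat.card N) :
    ∃ V : Subgroup G, V.Normal ∧ V ≤ N ∧ V ≠ ⊥ ∧ (∀ v ∈ V, v ^ p = 1) ∧
      (∀ n ∈ N, ∀ v ∈ V, n * v = v * n) := by
  obtain ⟨R, hRn, hRp, hRN, hRmem, hRbot⟩ := exists_normal_sylow_of_isNilpotent N hnil p
  refine ⟨omegaCenter R p, omegaCenter_normal R p, ?_, omegaCenter_ne_bot R p hRp (hRbot hdvd),
    fun v hv => hv.2.2, ?_⟩
  · intro v hv
    exact hRN hv.1
  · intro n hn v hv
    have hvN : v ∈ N := hRN hv.1
    have : n ∈ Subgroup.centralizer ({v} : Set G) := by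
      apply Cfsg.Agent.Helper1.mem_of_forall_primePow_mem
      intro y hy hyp
      have hyN : y ∈ N := (Subgroup.zpowers_le.2 hn) hy
      rw [isPrimePow_nat_iff] at hyp
      obtain ⟨r, k, hr, hk, hrk⟩ := hyp
      rw [Subgroup.mem_centralizer_iff]
      intro g hg
      rw [Set.mem_singleton_iff] at hg
      subst hg
      by_cases hrp : r = p
      · subst hrp
        have hyR : y ∈ R := hRmem y hyN k hrk.symm
        exact (hv.2.1 y hyR).symm
      · have hvo : orderOf g ∣ p := orderOf_dvd_of_pow_eq_one hv.2.2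
        have hcop : (orderOf (⟨y, hyN⟩ : N)).Coprime (orderOf (⟨g, hvN⟩ : N)) := by
          rw [Subgroup.orderOf_mk, Subgroup.orderOf_mk, ← hrk]
          apply Nat.Coprime.coprime_dvd_right hvo
          apply Nat.Coprime.pow_left
          exact (Nat.coprime_primes hr hp.out).2 hrp
        have := Cfsg.Agent.Helper1.commute_of_coprime_orderOf (G := N) (hnil := hnil)
          ⟨y, hyN⟩ ⟨g, hvN⟩ hcop
        exact (congrArg Subtype.val this).symm
    exact (Subgroup.mem_centralizer_iff.1 this v rfl).symm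

/-- every normal nilpotent subgroup lies in `N` -/
theorem le_of_normal_isNilpotent_of_equalOrder (hN1 : N ≠ ⊥)
    (heq : ∀ x : G, x ∉ N → ∀ n ∈ N, orderOf (x * n) = orderOf x)
    (hnil : Group.IsNilpotent N) (hnpp : ¬ IsPrimePow (Nat.card N))
    (M : Subgroup G) (hMn : M.Normal) (hMnil : Group.IsNilpotent M) : M ≤ N := by
  intro c hc
  apply Cfsg.Agent.Helper1.mem_of_forall_primePow_mem
  intro y hy hyp
  have hyM : y ∈ M := (Subgroup.zpowers_le.2 hc) hy
  rw [isPrimePow_nat_iff] at hyp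
  obtain ⟨q, k, hq, hk, hqk⟩ := hyp
  by_contra hyN
  obtain ⟨p, hp, hpq, hpdvd⟩ := exists_prime_ne_dvd_card N hN1 hnpp q
  have := Fact.mk hp
  have := Fact.mk hq
  obtain ⟨V, hVn, hVN, hVbot, hVp, hVc⟩ := exists_equalOrder_module N hnil p hpdvd
  obtain ⟨Q, hQn, hQq, hQM, hQmem, -⟩ := exists_normal_sylow_of_isNilpotent M hMnil q
  have hyQ : y ∈ Q := hQmem y hyM k hqk.symm
  have hVpg : IsPGroup p V := by
    intro v
    refine ⟨1, ?_⟩
    apply Subtype.ext
    rw [pow_one, Subgroup.coe_pow, Subgroup.coe_one]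
    exact hVp v v.2
  have hdisj : Disjoint Q V := IsPGroup.disjoint_of_ne q p (Ne.symm hpq) Q V hQq hVpg
  obtain ⟨⟨v, hv⟩, hv1⟩ := (Subgroup.ne_bot_iff_exists_ne_one.1 hVbot)
  have hcomm : Commute y v := Subgroup.commute_of_normal_of_disjoint Q V hQn hVn hdisj y v hyQ hv
  have hvo : orderOf v ∣ p := orderOf_dvd_of_pow_eq_one (hVp v hv)
  have hcop : (orderOf y).Coprime (orderOf v) := by
    rw [← hqk]
    apply Nat.Coprime.coprime_dvd_right hvo
    apply Nat.Coprime.pow_left
    exact (Nat.coprime_primes hq hp).2 (Ne.symm hpq)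
  have := eq_one_of_equalOrder N heq hyN (hVN hv) hcomm.eq hcop
  apply hv1
  exact Subtype.ext this

/-- a `p`-group whose elements of order `p` all lie in one central cyclic subgroup -/
theorem cyclic_or_quaternion_of_key {K : Type*} [Group K] [Finite K] (p : ℕ)
    [hp : Fact p.Prime] (hK : IsPGroup p K)
    (key : ∀ z a : K, z ∈ Subgroup.center K → orderOf z = p → a ^ p = 1 →
      a ∈ Subgroup.zpowers z) :
    IsCyclic K ∨ (p = 2 ∧ ∃ n : ℕ, Nonempty (K ≃* QuaternionGroup (2 ^ n))) := by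
  apply Cfsg.Agent.S0016.result p hK
  intro A B hA hB
  have hnt : Nontrivial K := by
    by_contra hnt
    rw [not_nontrivial_iff_subsingleton] at hnt
    have : Nat.card A = 1 := Nat.card_unique
    rw [hA] at this
    exact hp.out.one_lt.ne' this
  have hcn : Nontrivial (Subgroup.center K) := hK.center_nontrivial
  have hcp : IsPGroup p (Subgroup.center K) := hK.to_subgroup _
  obtain ⟨k, hk⟩ := IsPGroup.iff_card.1 hcp
  have hk0 : k ≠ 0 := by
    rintro rfl
    rw [pow_zero] at hk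
    have := (Finite.one_lt_card_iff_nontrivial (α := Subgroup.center K)).2 hcn
    omega
  have hdvd : p ∣ Nat.card (Subgroup.center K) := by
    rw [hk]; exact dvd_pow_self p hk0
  obtain ⟨z, hz⟩ := exists_prime_orderOf_dvd_card' p hdvd
  have hzo : orderOf (z : K) = p := by
    rw [Subgroup.orderOf_coe]; exact hz
  have hall : ∀ C : Subgroup K, Nat.card C = p → C = Subgroup.zpowers (z : K) := by
    intro C hC
    apply Subgroup.eq_of_le_of_card_ge
    · intro c hc
      apply key _ c z.2 hzo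
      have h1 : (⟨c, hc⟩ : C) ^ p = 1 := by
        have := pow_card_eq_one' (G := C) (x := ⟨c, hc⟩)
        rwa [hC] at this
      have h2 := congrArg Subtype.val h1
      rw [Subgroup.coe_pow, Subgroup.coe_one] at h2
      exact h2
    · rw [Nat.card_zpowers, hzo, hC]
  rw [hall A hA, hall B hB]

/-- the Sylow subgroups of `G ⧸ N` have a unique subgroup of prime order -/
theorem sylow_quotient_key_of_equalOrder (hN1 : N ≠ ⊥)
    (heq : ∀ x : G, x ∉ N → ∀ n ∈ N, orderOf (x * n) = orderOf x)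
    (hnil : Group.IsNilpotent N) (hnpp : ¬ IsPrimePow (Nat.card N))
    (q : ℕ) [hq : Fact q.Prime] (Q : Subgroup (G ⧸ N))
    (z a : Q) (hz : z ∈ Subgroup.center Q) (hzo : orderOf z = q) (ha : a ^ q = 1) :
    a ∈ Subgroup.zpowers z := by
  by_contra hcon
  obtain ⟨p, hp, hpq, hpdvd⟩ := exists_prime_ne_dvd_card N hN1 hnpp q
  have := Fact.mk hp
  obtain ⟨V, hVn, hVN, hVbot, hVp, hVc⟩ := exists_equalOrder_module N hnil p hpdvd
  have hVcomm : ∀ a ∈ V, ∀ b ∈ V, a * b = b * a := fun a ha b hb => hVc a (hVN ha) b hb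
  have hker : N ≤ (MulAut.conjNormal (H := V)).ker := by
    intro n hn
    rw [MonoidHom.mem_ker]
    ext v
    rw [MulAut.conjNormal_apply, MulAut.one_apply, hVc n hn v v.2, mul_inv_cancel_right]
  obtain ⟨φ, hφ⟩ : ∃ φ : G ⧸ N →* MulAut V, φ = QuotientGroup.lift N (MulAut.conjNormal (H := V)) hker :=
    ⟨_, rfl⟩
  have hφmk : ∀ (x : G) (v : V), ((φ (x : G ⧸ N) v : V) : G) = x * v * x⁻¹ := by
    intro x v
    rw [hφ, QuotientGroup.lift_mk, MulAut.conjNormal_apply]
  -- fixed point freeness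
  have hfpf : ∀ e : G ⧸ N, e ≠ 1 → e ^ q = 1 → ∀ v : V, φ e v = v → v = 1 := by
    intro e he1 heq' v hv
    obtain ⟨x, rfl⟩ := QuotientGroup.mk_surjective e
    have hxv : x * (v : G) = (v : G) * x := by
      have h1 := hφmk x v
      rw [hv] at h1
      calc x * (v : G) = x * (v : G) * x⁻¹ * x := by rw [inv_mul_cancel_right]
        _ = (v : G) * x := by rw [← h1]
    have ho0 : orderOf x ≠ 0 := (orderOf_pos x).ne'
    obtain ⟨k, m, hqm, hkm⟩ := Nat.exists_eq_pow_mul_and_not_dvd ho0 q hq.out.one_lt.ne'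
    have hm0 : m ≠ 0 := by
      rintro rfl
      rw [mul_zero] at hkm
      exact ho0 hkm
    have ho1 : orderOf (x ^ m) = q ^ k := by
      rw [orderOf_pow_of_dvd hm0 (by rw [hkm]; exact dvd_mul_left _ _), hkm,
        Nat.mul_div_cancel _ (Nat.pos_of_ne_zero hm0)]
    have hxm : x ^ m ∉ N := by
      intro hmem
      have h1 : ((x : G ⧸ N)) ^ m = 1 := by
        rw [← QuotientGroup.mk_pow]
        exact (QuotientGroup.eq_one_iff _).2 hmem
      have hd1 : orderOf (x : G ⧸ N) ∣ m := orderOf_dvd_of_pow_eq_one h1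
      have hd2 : orderOf (x : G ⧸ N) ∣ q := orderOf_dvd_of_pow_eq_one heq'
      have hcop : Nat.Coprime m q := ((Nat.Prime.coprime_iff_not_dvd hq.out).2 hqm).symm
      have : orderOf (x : G ⧸ N) = 1 := Nat.eq_one_of_dvd_coprimes hcop hd1 hd2
      exact he1 (orderOf_eq_one_iff.1 this)
    have hcomm : x ^ m * (v : G) = (v : G) * x ^ m := ((show Commute x v from hxv).pow_left m).eq
    have hvo : orderOf (v : G) ∣ p := orderOf_dvd_of_pow_eq_one (hVp v v.2)
    have hcop : (orderOf (x ^ m)).Coprime (orderOf (v : G)) := by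
      rw [ho1]
      apply Nat.Coprime.coprime_dvd_right hvo
      apply Nat.Coprime.pow_left
      exact (Nat.coprime_primes hq.out hp).2 (Ne.symm hpq)
    have := eq_one_of_equalOrder N heq hxm (hVN v.2) hcomm hcop
    exact Subtype.ext this
  -- the two elements
  have hab : ((z : Q) : G ⧸ N) * ((a : Q) : G ⧸ N) = (a : G ⧸ N) * (z : G ⧸ N) := by
    have h1 := Subgroup.mem_center_iff.1 hz a
    have h2 := congrArg Subtype.val h1
    exact h2.symm
  have hzq : ((z : Q) : G ⧸ N) ^ q = 1 := by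
    have : z ^ q = 1 := by rw [← hzo]; exact pow_orderOf_eq_one z
    have h2 := congrArg Subtype.val this
    exact h2
  have haq : ((a : Q) : G ⧸ N) ^ q = 1 := congrArg Subtype.val ha
  have hz1 : ((z : Q) : G ⧸ N) ≠ 1 := by
    intro h1
    have : z = 1 := Subtype.ext h1
    rw [this, orderOf_one] at hzo
    exact hq.out.one_lt.ne hzo
  have hba : ∀ k : ℕ, ((z : Q) : G ⧸ N) ^ k * ((a : Q) : G ⧸ N) ≠ 1 := by
    intro k hk
    apply hcon
    have h1 : z ^ k * a = 1 := Subtype.ext hk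
    have h2 : a = (z ^ k)⁻¹ := (inv_eq_of_mul_eq_one_right h1).symm
    rw [h2]
    exact Subgroup.inv_mem _ (Subgroup.pow_mem _ (Subgroup.mem_zpowers z) k)
  have hall : ∀ v : V, v ^ q = 1 :=
    pow_prime_eq_one_of_rank_two_fpf_subgroup V hVcomm φ _ _ hab hzq haq hz1 hba hfpf
  apply hVbot
  rw [Subgroup.eq_bot_iff_forall]
  intro v hv
  have h1 : v ^ q = 1 := by
    have := hall ⟨v, hv⟩
    exact congrArg Subtype.val this
  have h2 : v ^ p = 1 := hVp v hv
  have hd1 : orderOf v ∣ q := orderOf_dvd_of_pow_eq_one h1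
  have hd2 : orderOf v ∣ p := orderOf_dvd_of_pow_eq_one h2
  have hcop : Nat.Coprime q p := (Nat.coprime_primes hq.out hp).2 (Ne.symm hpq)
  have : orderOf v = 1 := Nat.eq_one_of_dvd_coprimes hcop hd1 hd2
  exact orderOf_eq_one_iff.1 this

end EqualOrder

end Cfsg.Agent.Helper4
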