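import Mathlib
import Cfsg.Prelude.Def_GeometricClasses
import Cfsg.Agent.Helper7.Hermitian
import Cfsg.Agent.Helper3.AschUSubA
import Cfsg.Agent.Helper5.AschForm5
import Cfsg.Agent.Helper4.AschFC7I

/-!
# FORM-C7 (helper4), part K: the unitary shape

`perfect_case_unitary`: `N ≤ GU_n(q)`: in the tensor-induced alternative the Hermitian form is (a multiple of) the
`k`-th tensor power of a non-degenerate Hermitian form `f₁` on `F^d`, and a perfect absolutely irreducible group `P₁`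
of isometries of `f₁` is exhibited.
-/

set_option autoImplicit false
set_option linter.style.haveILetI false
set_option linter.unusedVariables false
set_option linter.unusedSectionVars false

namespace Cfsg.Agent.Helper4.AschTI

open Cfsg Cfsg.Geo Cfsg.Agent.Lead.Asch Cfsg.Agent.Helper4.AschP Cfsg.Agent.Helper9.AschC6
open Cfsg.Agent.Helper5.AschF Cfsg.Agent.Helper5.GramForm Cfsg.Agent.Helper3.Asch
open Cfsg.Agent.Helper3.AschU Cfsg.Agent.Helper7.Herm
open scoped MatrixGroups Matrix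

variable {n : ℕ} {F : Type*} [Field F] [Fintype F] {q : ℕ}

/-- Hilbert 90 for `x ↦ x ^ q` on the field with `q²` elements -/
theorem hilbert90_q (hF : Fintype.card F = q ^ 2) {κ : F} (hκnorm : κ * κ ^ q = 1) :
    ∃ μ : F, μ ≠ 0 ∧ μ ^ q = κ * μ := by
  by_cases h1 : κ = 1
  · exact ⟨1, one_ne_zero, by rw [h1, one_pow, one_mul]⟩
  by_cases h2 : κ = -1
  · obtain ⟨x, hx⟩ := exists_pow_q_ne hF
    refine ⟨x - x ^ q, sub_ne_zero.mpr (Ne.symm hx), ?_⟩
    have := map_sub (sigq hF) x (x ^ q)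
    simp only [sigq_apply] at this
    rw [this, pow_q_pow_q hF, h2]
    ring
  · refine ⟨1 + κ ^ q, ?_, ?_⟩
    · intro h
      apply h2
      have h3 : κ ^ q = -1 := eq_neg_of_add_eq_zero_right h
      have h4 : (κ ^ q) ^ q = κ := pow_q_pow_q hF κ
      rw [h3] at h4
      have h5 : ((-1 : F)) ^ q = -1 := by
        have := map_neg (sigq hF) (1 : F)
        simp only [sigq_apply, one_pow] at this
        exact this
      rw [h5] at h4
      exact h4.symm
    · rw [add_pow_q hF, one_pow, pow_q_pow_q hF]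
      linear_combination -hκnorm

/-- **FORM-C7, unitary shape**. -/
theorem perfect_case_unitary (hn : 2 ≤ n) (hF : Fintype.card F = q ^ 2) {H N : Subgroup (GL (Fin n) F)}
    (hNH : N ≤ H) (hnz : Nzes H N) (hns : ¬ N ≤ scalars (Fin n) F)
    (hall : ∀ M : Subgroup (GL (Fin n) F), M ≤ H → Nzes H M →
      M ≤ scalars (Fin n) F ∨ ActsAbsolutelyIrreducibly (matrixSet M))
    (hmin : ∀ M : Subgroup (GL (Fin n) F), M ≤ N → Nzes H M → ¬ M ≤ scalars (Fin n) F → M = N)
    (hperf : ⁅N, N⁆ = N) (hNU : N ≤ GU n F q) :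
    (∃ (d k : ℕ) (e : Fin n ≃ (Fin k → Fin d)) (Pm : GL (Fin n) F) (f₁ : (Fin d → F) → (Fin d → F) → F)
        (P₁ : Subgroup (GL (Fin d) F)),
      2 ≤ d ∧ 2 ≤ k ∧ IsUnitaryFormPow q f₁ ∧
      IsTensorPowerFormStructure (fun x : F => x ^ q) (hermForm n F q) f₁ e Pm ∧
      ⁅P₁, P₁⁆ = P₁ ∧ ActsAbsolutelyIrreducibly (matrixSet P₁) ∧ FixesForm (matrixSet P₁) f₁ ∧
      H ≤ tensorWreathSubgroup d k e Pm) ∨
    (IsSimpleGroup (N ⧸ (scalars (Fin n) F).subgroupOf N) ∧
      ¬ IsMulCommutative (N ⧸ (scalars (Fin n) F).subgroupOf N) ∧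
      (∀ h ∈ H, (∀ x ∈ N, h * x * h⁻¹ * x⁻¹ ∈ scalars (Fin n) F) → h ∈ scalars (Fin n) F)) := by
  classical
  have hR := RForm.of_hermForm (n := n) hF
  set σ : F ≃+* F := sigq hF with hσdef
  have hσσ : ∀ a, (σ : F →+* F) ((σ : F →+* F) a) = a := fun a => pow_q_pow_q hF a
  rcases perfect_case_form hn hR.sesq hR.nondeg hNH hnz hns hall hmin hperf
    (fun x hx u v => (hNU hx) u v) with
    ⟨d, k, e, Pm, G₁, c, P₁, hd, hk, hc, hG₁u, hform, hP₁perf, hP₁abs, hP₁inv, hle⟩ | h3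
  swap
  · exact Or.inr h3
  left
  have hG₁0 : G₁ ≠ 0 := isUnit_det_ne_zero (by omega) hG₁u
  have hform' : ∀ x y : (Fin k → Fin d) → F,
      hermForm n F q ((Pm : Matrix (Fin n) (Fin n) F) *ᵥ (x ∘ e))
        ((Pm : Matrix (Fin n) (Fin n) F) *ᵥ (y ∘ e)) =
        c * formOfGram (σ : F →+* F) (ptens (fun _ : Fin k => G₁)) x y := fun x y => hform x y
  -- Hermitian symmetry of the tensor power
  have hcσ : (σ : F →+* F) c ≠ 0 := (map_ne_zero _).2 hc
  have hH : ((ptens (fun _ : Fin k => G₁)).map (σ : F →+* F))ᵀ =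
      (c * ((σ : F →+* F) c)⁻¹) • ptens (fun _ : Fin k => G₁) := by
    ext a b
    have h1 := hform' (Pi.single a 1) (Pi.single b 1)
    have h2 := hform' (Pi.single b 1) (Pi.single a 1)
    rw [formOfGram_single] at h1 h2
    rw [hermForm_swap hF, h2] at h1
    rw [Matrix.transpose_apply, Matrix.map_apply, Matrix.smul_apply, smul_eq_mul]
    have h3 : (σ : F →+* F) c * (σ : F →+* F) (ptens (fun _ : Fin k => G₁) b a) =
        c * ptens (fun _ : Fin k => G₁) a b := by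
      rw [← map_mul]
      exact h1
    field_simp
    linear_combination h3
  obtain ⟨ε, hε, hεk, hεn⟩ := gram_type_of_conjTranspose (σ : F →+* F) hσσ hG₁0 (by omega)
    (mul_ne_zero hc (inv_ne_zero hcσ)) hH
  -- Hilbert 90
  have hκ : (ε ^ q) * (ε ^ q) ^ q = 1 := by
    rw [pow_q_pow_q hF, mul_comm]
    exact hεn
  obtain ⟨μ, hμ0, hμ⟩ := hilbert90_q hF hκ
  have hε0 : ε ≠ 0 := left_ne_zero_of_mul_eq_one hεn
  have hμε : (σ : F →+* F) μ * ε = μ := by
    show μ ^ q * ε = μ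
    rw [hμ]
    have : ε * ε ^ q = 1 := hεn
    linear_combination μ * this
  have hG₁' : (((μ • G₁).map (σ : F →+* F)))ᵀ = μ • G₁ := by
    have e1 : (μ • G₁).map (σ : F →+* F) = (σ : F →+* F) μ • G₁.map (σ : F →+* F) := by
      ext a b
      rw [Matrix.map_apply, Matrix.smul_apply, Matrix.smul_apply, Matrix.map_apply, smul_eq_mul, smul_eq_mul,
        map_mul]
    rw [e1, Matrix.transpose_smul, hε, smul_smul, hμε]
  have hdet : IsUnit (μ • G₁).det := by
    rw [Matrix.det_smul]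
    exact (IsUnit.pow _ (isUnit_iff_ne_zero.2 hμ0)).mul hG₁u
  let f₁ : (Fin d → F) → (Fin d → F) → F := formOfGram (σ : F →+* F) (μ • G₁)
  have hf₁ : IsUnitaryFormPow q f₁ :=
    ⟨formOfGram_add_left _ _, formOfGram_smul_left _ _,
      fun v w => formOfGram_herm (σ : F →+* F) hσσ hG₁' v w,
      formOfGram_nondegenerate (σ : F →+* F) hdet⟩
  have hμk : μ ^ k ≠ 0 := pow_ne_zero _ hμ0
  refine ⟨d, k, e, Pm, f₁, P₁, hd, hk, hf₁, ⟨c * (μ ^ k)⁻¹, mul_ne_zero hc (inv_ne_zero hμk), fun x y => ?_⟩,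
    hP₁perf, hP₁abs, ?_, hle⟩
  · have hgm : gramMatrix f₁ = μ • G₁ := gramMatrix_formOfGram' (σ : F →+* F) (μ • G₁)
    rw [hform x y, hgm]
    have e2 : ∀ a b : Fin k → Fin d, ∏ i, (μ • G₁) (a i) (b i) = μ ^ k * ∏ i, G₁ (a i) (b i) := by
      intro a b
      simp only [Matrix.smul_apply, smul_eq_mul]
      rw [Finset.prod_mul_distrib, Finset.prod_const, Finset.card_univ, Fintype.card_fin]
    simp only [e2]
    have e3 : ∀ a b : Fin k → Fin d, x a * (μ ^ k * ∏ i, G₁ (a i) (b i)) * (fun x : F => x ^ q) (y b) =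
        μ ^ k * (x a * (∏ i, G₁ (a i) (b i)) * σ (y b)) := by
      intro a b
      show x a * (μ ^ k * ∏ i, G₁ (a i) (b i)) * (y b) ^ q = μ ^ k * (x a * (∏ i, G₁ (a i) (b i)) * (y b) ^ q)
      ring
    simp only [e3, ← Finset.mul_sum]
    rw [mul_assoc, ← mul_assoc (μ ^ k)⁻¹, inv_mul_cancel₀ hμk, one_mul]
  · apply fixesForm_formOfGram (σ : F →+* F)
    intro u hu
    rw [Matrix.mul_smul, Matrix.smul_mul]
    exact congrArg (fun M => μ • M) (hP₁inv u hu)

end Cfsg.Agent.Helper4.AschTI
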