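import Cfsg.Agent.Helper4.McLLBJu0
import Cfsg.Agent.Helper4.McLLBJu1
import Cfsg.Agent.Helper4.McLLBJu2
import Cfsg.Agent.Helper4.McLLBJu3
import Cfsg.Agent.Helper4.McLLBJu4
import Cfsg.Agent.Helper4.McLLBJu5
import Cfsg.Agent.Helper4.McLLBJu6
import Cfsg.Agent.Helper4.McLLBJu7
import Cfsg.Agent.Helper4.McLLBJu8
import Cfsg.Agent.Helper4.McLLBJu9
import Cfsg.Agent.Helper4.McLLBJu10
import Cfsg.Agent.Helper4.McLLBJu11
import Cfsg.Agent.Helper4.McLLBJu12
import Cfsg.Agent.Helper4.McLLBJu13
import Cfsg.Agent.Helper4.McLLBJu14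
import Cfsg.Agent.Helper4.McLLBJu15
import Cfsg.Agent.Helper4.McLLBJu16
import Cfsg.Agent.Helper4.McLLBJu17
import Cfsg.Agent.Helper4.McLLBJu18
import Cfsg.Agent.Helper4.McLLBJu19
import Cfsg.Agent.Helper4.McLLBJu20
import Cfsg.Agent.Helper4.McLLBJu21
import Cfsg.Agent.Helper4.McLLBJu22
import Cfsg.Agent.Helper4.McLLBJu23
import Cfsg.Agent.Helper4.McLLBJu24
import Cfsg.Agent.Helper4.McLLBJu25
import Cfsg.Agent.Helper4.McLLBJu26
import Cfsg.Agent.Helper4.McLLBJu27
import Cfsg.Agent.Helper4.McLLBJu28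
import Cfsg.Agent.Helper4.McLLBJu29
import Cfsg.Agent.Helper4.McLLBJu30
import Cfsg.Agent.Helper4.McLLBJu31
import Cfsg.Agent.Helper4.McLLBTb0
import Cfsg.Agent.Helper4.McLLBTb1
import Cfsg.Agent.Helper4.McLLBTb2
import Cfsg.Agent.Helper4.McLLBTb3
import Cfsg.Agent.Helper4.McLLBTb4
import Cfsg.Agent.Helper4.McLLBTb5
import Cfsg.Agent.Helper4.McLLBTb6
import Cfsg.Agent.Helper4.McLLBTb7
import Cfsg.Agent.Helper4.McLLBTb8

/-! generated labelled Todd-Coxeter certificate, summary: McLLB -/

set_option autoImplicit false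
set_option maxRecDepth 1000000

namespace Cfsg.Agent.Helper4.McLLB
open Cfsg.Agent.Helper5.LTC

theorem upto_0 : ∀ j, j < 0 → ∃ r, checkFact cert j r = true := fun j hj => absurd hj (by omega)

theorem upto_1 : ∀ j, j < 2500 → ∃ r, checkFact cert j r = true :=
  upto_step cert upto_0 ju_0 2500 len_0 chk_0

theorem upto_2 : ∀ j, j < 5000 → ∃ r, checkFact cert j r = true :=
  upto_step cert upto_1 ju_1 2500 len_1 chk_1

theorem upto_3 : ∀ j, j < 7500 → ∃ r, checkFact cert j r = true :=
  upto_step cert upto_2 ju_2 2500 len_2 chk_2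

theorem upto_4 : ∀ j, j < 10000 → ∃ r, checkFact cert j r = true :=
  upto_step cert upto_3 ju_3 2500 len_3 chk_3

theorem upto_5 : ∀ j, j < 12500 → ∃ r, checkFact cert j r = true :=
  upto_step cert upto_4 ju_4 2500 len_4 chk_4

theorem upto_6 : ∀ j, j < 15000 → ∃ r, checkFact cert j r = true :=
  upto_step cert upto_5 ju_5 2500 len_5 chk_5

theorem upto_7 : ∀ j, j < 17500 → ∃ r, checkFact cert j r = true :=
  upto_step cert upto_6 ju_6 2500 len_6 chk_6

theorem upto_8 : ∀ j, j < 20000 → ∃ r, checkFact cert j r = true :=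
  upto_step cert upto_7 ju_7 2500 len_7 chk_7

theorem upto_9 : ∀ j, j < 22500 → ∃ r, checkFact cert j r = true :=
  upto_step cert upto_8 ju_8 2500 len_8 chk_8

theorem upto_10 : ∀ j, j < 25000 → ∃ r, checkFact cert j r = true :=
  upto_step cert upto_9 ju_9 2500 len_9 chk_9

theorem upto_11 : ∀ j, j < 27500 → ∃ r, checkFact cert j r = true :=
  upto_step cert upto_10 ju_10 2500 len_10 chk_10

theorem upto_12 : ∀ j, j < 30000 → ∃ r, checkFact cert j r = true :=
  upto_step cert upto_11 ju_11 2500 len_11 chk_11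

theorem upto_13 : ∀ j, j < 32500 → ∃ r, checkFact cert j r = true :=
  upto_step cert upto_12 ju_12 2500 len_12 chk_12

theorem upto_14 : ∀ j, j < 35000 → ∃ r, checkFact cert j r = true :=
  upto_step cert upto_13 ju_13 2500 len_13 chk_13

theorem upto_15 : ∀ j, j < 37500 → ∃ r, checkFact cert j r = true :=
  upto_step cert upto_14 ju_14 2500 len_14 chk_14

theorem upto_16 : ∀ j, j < 40000 → ∃ r, checkFact cert j r = true :=
  upto_step cert upto_15 ju_15 2500 len_15 chk_15

theorem upto_17 : ∀ j, j < 42500 → ∃ r, checkFact cert j r = true :=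
  upto_step cert upto_16 ju_16 2500 len_16 chk_16

theorem upto_18 : ∀ j, j < 45000 → ∃ r, checkFact cert j r = true :=
  upto_step cert upto_17 ju_17 2500 len_17 chk_17

theorem upto_19 : ∀ j, j < 47500 → ∃ r, checkFact cert j r = true :=
  upto_step cert upto_18 ju_18 2500 len_18 chk_18

theorem upto_20 : ∀ j, j < 50000 → ∃ r, checkFact cert j r = true :=
  upto_step cert upto_19 ju_19 2500 len_19 chk_19

theorem upto_21 : ∀ j, j < 52500 → ∃ r, checkFact cert j r = true :=
  upto_step cert upto_20 ju_20 2500 len_20 chk_20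

theorem upto_22 : ∀ j, j < 55000 → ∃ r, checkFact cert j r = true :=
  upto_step cert upto_21 ju_21 2500 len_21 chk_21

theorem upto_23 : ∀ j, j < 57500 → ∃ r, checkFact cert j r = true :=
  upto_step cert upto_22 ju_22 2500 len_22 chk_22

theorem upto_24 : ∀ j, j < 60000 → ∃ r, checkFact cert j r = true :=
  upto_step cert upto_23 ju_23 2500 len_23 chk_23

theorem upto_25 : ∀ j, j < 62500 → ∃ r, checkFact cert j r = true :=
  upto_step cert upto_24 ju_24 2500 len_24 chk_24

theorem upto_26 : ∀ j, j < 65000 → ∃ r, checkFact cert j r = true :=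
  upto_step cert upto_25 ju_25 2500 len_25 chk_25

theorem upto_27 : ∀ j, j < 67500 → ∃ r, checkFact cert j r = true :=
  upto_step cert upto_26 ju_26 2500 len_26 chk_26

theorem upto_28 : ∀ j, j < 70000 → ∃ r, checkFact cert j r = true :=
  upto_step cert upto_27 ju_27 2500 len_27 chk_27

theorem upto_29 : ∀ j, j < 72500 → ∃ r, checkFact cert j r = true :=
  upto_step cert upto_28 ju_28 2500 len_28 chk_28

theorem upto_30 : ∀ j, j < 75000 → ∃ r, checkFact cert j r = true :=
  upto_step cert upto_29 ju_29 2500 len_29 chk_29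

theorem upto_31 : ∀ j, j < 77500 → ∃ r, checkFact cert j r = true :=
  upto_step cert upto_30 ju_30 2500 len_30 chk_30

theorem upto_32 : ∀ j, j < 77850 → ∃ r, checkFact cert j r = true :=
  upto_step cert upto_31 ju_31 350 len_31 chk_31

theorem hchk : ∀ j, j < cert.nf → ∃ r, checkFact cert j r = true := upto_32

theorem rowsto_0 : ∀ n, n < 0 → ∀ x, x < cert.k → tabEntryOK cert tab n x = true :=
  fun n hn => absurd hn (by omega)

theorem rowsto_1 : ∀ n, n < 2500 → ∀ x, x < cert.k → tabEntryOK cert tab n x = true :=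
  rows_step cert tab rowsto_0 2500 rows_0

theorem rowsto_2 : ∀ n, n < 5000 → ∀ x, x < cert.k → tabEntryOK cert tab n x = true :=
  rows_step cert tab rowsto_1 2500 rows_1

theorem rowsto_3 : ∀ n, n < 7500 → ∀ x, x < cert.k → tabEntryOK cert tab n x = true :=
  rows_step cert tab rowsto_2 2500 rows_2

theorem rowsto_4 : ∀ n, n < 10000 → ∀ x, x < cert.k → tabEntryOK cert tab n x = true :=
  rows_step cert tab rowsto_3 2500 rows_3

theorem rowsto_5 : ∀ n, n < 12500 → ∀ x, x < cert.k → tabEntryOK cert tab n x = true :=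
  rows_step cert tab rowsto_4 2500 rows_4

theorem rowsto_6 : ∀ n, n < 15000 → ∀ x, x < cert.k → tabEntryOK cert tab n x = true :=
  rows_step cert tab rowsto_5 2500 rows_5

theorem rowsto_7 : ∀ n, n < 17500 → ∀ x, x < cert.k → tabEntryOK cert tab n x = true :=
  rows_step cert tab rowsto_6 2500 rows_6

theorem rowsto_8 : ∀ n, n < 20000 → ∀ x, x < cert.k → tabEntryOK cert tab n x = true :=
  rows_step cert tab rowsto_7 2500 rows_7

theorem rowsto_9 : ∀ n, n < 22275 → ∀ x, x < cert.k → tabEntryOK cert tab n x = true :=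
  rows_step cert tab rowsto_8 2275 rows_8

theorem hT : ∀ n, n < tab.N → ∀ x, x < cert.k → tabEntryOK cert tab n x = true := rowsto_9

theorem hjs : ∀ j ∈ js, relFactOK cert j = true := by decide +kernel

theorem h0 : ordOK cert js cs0 0 3 = true := by decide +kernel

theorem hgs : ∀ i, i < 8 → genOK cert js (css.getD i []) i 0 (as_.getD i 0) = true := by decide +kernel

end Cfsg.Agent.Helper4.McLLB
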