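import Mathlib
import Cfsg.Agent.Helper9.McLO.Final

/-!
# The McLaughlin group as helper9's table group on 275 points

`Spor.McL ≃* GS core`, and the order of the table group (restated from `Helper9.McLO.Final`, where the
isomorphism is only used inside a proof).
-/

set_option autoImplicit false

noncomputable section

namespace Cfsg.Agent.Helper4.McLM

open Cfsg Cfsg.Agent.Helper9.Golay Cfsg.Agent.Helper9.Leech Cfsg.Agent.Helper9.OutG
open Cfsg.Agent.Helper9.LeechAct Cfsg.Agent.Helper9.McLO

/-- the table group. -/
abbrev GG : Type := ↥(GS core)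

theorem mcl_iso : Nonempty (↥Spor.McL ≃* GG) ∧ Nat.card GG = 898128000 := by
  have := mcl_fin.1
  have hx0 : ((rootL : ↥leechLattice) : GolayPt → ℤ) = toVec (nthZ dBr.pts dBr.rt) := by
    have e : nthZ dBr.pts dBr.rt = [0, 4, 0, 0, 0, 0, 0, 0, 0, 0, 0, 0, 0, 0, 0, 0, 0, 0, 0, 0, 0,
      0, 0, 4] := by decide +kernel
    rw [e]
    funext p
    revert p
    decide
  exact bridge core brOK Spor.McL mcl_fin.2
    [(Spor.leechV, dFix.getD 0 []), (Spor.leechU, dFix.getD 1 [])]
    (by
      intro f hf
      simp only [List.mem_cons, List.not_mem_nil, or_false] at hf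
      rcases hf with rfl | rfl
      · exact coeV
      · exact coeU)
    (by decide)
    (by
      intro f hf
      simp only [List.mem_cons, List.not_mem_nil, or_false] at hf
      rcases hf with rfl | rfl <;> decide)
    (by
      intro g hg hfx
      rw [mem_McL_iff]
      exact ⟨hg, hfx (Spor.leechV, dFix.getD 0 []) List.mem_cons_self,
        hfx (Spor.leechU, dFix.getD 1 []) (List.mem_cons_of_mem _ List.mem_cons_self)⟩)
    rootL hx0 br_len

theorem card_GG : Nat.card GG = 898128000 := mcl_iso.2

instance finGG : Finite GG := Nat.finite_of_card_ne_zero (by rw [card_GG]; norm_num)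

end Cfsg.Agent.Helper4.McLM

end
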