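import Mathlib
import Cfsg.Agent.Helper4.McLMGrp
import Cfsg.Agent.Helper4.McLMDat
import Cfsg.Agent.Helper5.StemPB

/-!
# Generators of the McLaughlin group for the Schur multiplier

In helper9's table group on 275 points: elements `a, b, c` of order 7 (`a, b` generating the
centraliser `2.A8` of an involution), their relators, generation, and lower bounds for the orders of
the subgroups generated by `a, b` and by `a, b, c` from stabiliser chains.
-/

set_option autoImplicit false

noncomputable section

namespace Cfsg.Agent.Helper4.McLM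

open Cfsg Cfsg.Agent.Helper9.OutG Cfsg.Agent.Helper9.McLO Cfsg.Agent.Helper9.J3
  Cfsg.Agent.Helper5.StemP

/-- the generators. -/
def g (i : ℕ) : GG := gW core (LW (2 * i))

/-- the orders. -/
def mm (_ : ℕ) : ℕ := 7

theorem LW_inv : invW dD (LW 0) = LW 1 ∧ invW dD (LW 2) = LW 3 ∧ invW dD (LW 4) = LW 5 := by
  decide +kernel

theorem lval_g : ∀ c, c < 6 → lval g c = gW core (LW c) := by
  intro c hc
  obtain ⟨h1, h3, h5⟩ := LW_inv
  interval_cases c
  · rfl
  · show (gW core (LW 0))⁻¹ = _
    rw [gW_inv, h1]
  · rfl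
  · show (gW core (LW 2))⁻¹ = _
    rw [gW_inv, h3]
  · rfl
  · show (gW core (LW 4))⁻¹ = _
    rw [gW_inv, h5]

theorem word_ev : ∀ l : List ℕ, (∀ c ∈ l, c < 6) →
    (l.map (lval g)).prod = gW core (l.flatMap LW)
  | [], _ => by
    rw [List.map_nil, List.prod_nil, List.flatMap_nil, gW_nil]
  | c :: l, h => by
    rw [List.map_cons, List.prod_cons, word_ev l (fun c hc => h c (List.mem_cons_of_mem _ hc)),
      lval_g c (h c List.mem_cons_self), List.flatMap_cons, gW_append]

/-- the check that a word in the six letters acts trivially on the 275 points. -/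
def trivB (l : List ℕ) : Bool :=
  allB (fun x => Nat.beq (evalT dD (l.flatMap LW) x) x) 275

theorem word_eq_one (l : List ℕ) (hl : ∀ c ∈ l, c < 6) (h : trivB l = true) :
    (l.map (lval g)).prod = 1 := by
  rw [word_ev l hl]
  apply Subtype.ext
  exact Comp.eq_of_all (comp_gW core (l.flatMap LW)) Comp.one h

theorem CC_lt : ∀ r ∈ CC, ∀ c ∈ r, c < 2 * 3 := by decide

theorem CU_lt : ∀ r ∈ CU, ∀ c ∈ r, c < 2 * 2 := by decide

theorem CU_sub : ∀ r ∈ CU, r ∈ CC := by decide

set_option maxRecDepth 1000000 in
theorem chk_rels : ∀ r ∈ CC, trivB r = true := by decide +kernel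

theorem CC_rel : ∀ r ∈ CC, (r.map (lval g)).prod = 1 := fun r hr =>
  word_eq_one r (CC_lt r hr) (chk_rels r hr)

set_option maxRecDepth 1000000 in
theorem chk_pow : trivB (List.replicate 7 0) = true ∧ trivB (List.replicate 7 2) = true ∧
    trivB (List.replicate 7 4) = true := by decide +kernel

theorem pow_eq_one {i n : ℕ} (hi : i < 3) (h : trivB (List.replicate n (2 * i)) = true) :
    g i ^ n = 1 := by
  have h1 : ((List.replicate n (2 * i)).map (lval g)).prod = 1 := by
    apply word_eq_one _ _ h
    intro c hc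
    rw [List.eq_of_mem_replicate hc]
    omega
  rwa [List.map_replicate, List.prod_replicate, lval_even] at h1

theorem g_pow : ∀ i, i < 3 → g i ^ mm i = 1 := by
  intro i hi
  interval_cases i
  · exact pow_eq_one (by norm_num) chk_pow.1
  · exact pow_eq_one (by norm_num) chk_pow.2.1
  · exact pow_eq_one (by norm_num) chk_pow.2.2

set_option maxRecDepth 1000000 in
theorem chk_move : evalT dD (LW 0) 0 ≠ 0 := by decide +kernel

theorem g0_ne : g 0 ≠ 1 := by
  intro h
  apply chk_move
  have h1 := comp_gW core (LW 0) ⟨0, by decide⟩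
  have h2 : gW core (LW 0) = 1 := h
  rw [h2] at h1
  exact h1.symm

theorem order_g0 : orderOf (g 0) = 7 := by
  have : Fact (Nat.Prime 7) := ⟨by norm_num⟩
  have h7 : g 0 ^ 7 = 1 := g_pow 0 (by norm_num)
  exact orderOf_eq_prime h7 g0_ne

/-! ### lower bounds from stabiliser chains -/

/-- the words of a chain, spelled in the four letters of the model. -/
def expand (wss : List (List (List ℕ))) : List (List (List ℕ)) :=
  wss.map fun ws => ws.map fun u => u.flatMap LW

theorem prodLen_expand (wss : List (List (List ℕ))) : prodLen (expand wss) = prodLen wss := by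
  unfold prodLen expand
  rw [List.map_map]
  congr 1
  apply List.map_congr_left
  intro ws _
  simp

/-- a subgroup containing the first `k` letters has at least as many elements as a chain in these
letters certifies. -/
theorem chain_le (H : Subgroup GG) (k : ℕ) (hk : k ≤ 6) (hH : ∀ c, c < k → lval g c ∈ H)
    (bs : List ℕ) (wss : List (List (List ℕ)))
    (hlt : ∀ ws ∈ wss, ∀ u ∈ ws, ∀ c ∈ u, c < k)
    (hchk : chainChk dD bs [] (expand wss) = true) : prodLen wss ≤ Nat.card H := by
  have h1 := card_ge_of_chain dD core.tab (H.map (GS core).subtype) bs (expand wss) ?_ hchk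
  · rw [prodLen_expand] at h1
    have h2 : Nat.card (H.map (GS core).subtype) = Nat.card H :=
      Nat.card_congr (H.equivMapOfInjective _ (GS core).subtype_injective).symm.toEquiv
    rw [h2] at h1
    exact h1
  · intro ws' hws' w' hw'
    obtain ⟨ws, hws, rfl⟩ := List.mem_map.mp hws'
    obtain ⟨u, hu, rfl⟩ := List.mem_map.mp hw'
    have hu6 : ∀ c ∈ u, c < 6 := fun c hc => lt_of_lt_of_le (hlt ws hws u hu c hc) hk
    refine ⟨(u.map (lval g)).prod, ?_, ?_⟩
    · apply Subgroup.list_prod_mem
      intro y hy
      obtain ⟨c, hc, rfl⟩ := List.mem_map.mp hy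
      exact hH c (hlt ws hws u hu c hc)
    · rw [word_ev u hu6]
      rfl

theorem wssU_lt : ∀ ws ∈ wssU, ∀ u ∈ ws, ∀ c ∈ u, c < 4 := by decide +kernel

theorem wssG_lt : ∀ ws ∈ wssG, ∀ u ∈ ws, ∀ c ∈ u, c < 6 := by decide +kernel

set_option maxRecDepth 1000000 in
theorem chainU_ok : chainChk dD bsU [] (expand wssU) = true := by decide +kernel

theorem chainU_prod : prodLen wssU = 40320 := by decide +kernel

set_option maxRecDepth 1000000 in
theorem chainG_ok : chainChk dD bsG [] (expand wssG) = true := by decide +kernel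

theorem chainG_prod : prodLen wssG = 898128000 := by decide +kernel

/-- the three generators generate the group. -/
theorem g_closure : Subgroup.closure {y : GG | ∃ i, i < 3 ∧ y = g i} = ⊤ := by
  have hH : ∀ c, c < 6 → lval g c ∈ Subgroup.closure {y : GG | ∃ i, i < 3 ∧ y = g i} := by
    intro c hc
    have hi : c / 2 < 3 := by omega
    unfold lval
    split_ifs
    · exact Subgroup.subset_closure ⟨c / 2, hi, rfl⟩
    · exact inv_mem (Subgroup.subset_closure ⟨c / 2, hi, rfl⟩)
  have h1 := chain_le _ 6 le_rfl hH bsG wssG wssG_lt chainG_ok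
  rw [chainG_prod] at h1
  apply Subgroup.eq_top_of_card_eq
  have h2 := Subgroup.card_le_card_group
    (Subgroup.closure {y : GG | ∃ i, i < 3 ∧ y = g i})
  rw [card_GG] at h2 ⊢
  omega

end Cfsg.Agent.Helper4.McLM

end
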