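import Cfsg.Agent.Helper4.McLMMDat

/-! generated permutation model, checks: McLMM -/

set_option autoImplicit false
set_option Elab.async false
set_option maxRecDepth 1000000

namespace Cfsg.Agent.Helper4.McLMM
open Cfsg.Agent.Helper5.TC Cfsg.Agent.Helper5.TCI Cfsg.Agent.Helper5.LP

theorem fixc_3_0 : fixPtsF W_3 26666 0 = true := by decide +kernel

theorem fixc_20_57142 : fixPtsF W_20 9683 57142 = true := by decide +kernel

end Cfsg.Agent.Helper4.McLMM
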