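import Mathlib
import Cfsg.Agent.Helper5.LPI
import Cfsg.Agent.Helper5.LPE
import Cfsg.Agent.Helper5.StemPE
import Cfsg.Agent.Helper5.LTCM
import Cfsg.Agent.Helper5.LPV

/-!
# Permutation models of cyclic central extensions with a shift letter

A table `T` on `N` points with `2 * (d + 1)` letters: the first `2 * d` letters are the generators
and their inverses, the letter `2 * d` is a "shift" `σ`.  If the letters commute with the shift,
every central word `r` acts as a power of the shift (`r σ ^ k` fixes all points), the generators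
have the right orders and `σ ^ a = 1` with `a ∣ e`, then the covering group `CovG d m CC CC e` acts
on the table.  All the hypotheses are checks of words fixing all the points.
-/

set_option autoImplicit false

namespace Cfsg.Agent.Helper4.ShM

open Cfsg.Agent.Helper5.LP Cfsg.Agent.Helper5.StemP Cfsg.Agent.Helper5.LTC
  Cfsg.Agent.Helper5.TC Cfsg.Agent.Helper5.TCI

section
variable {d N : ℕ} {T : ℕ → ℕ → ℕ}

/-- the permutation of a letter. -/
noncomputable def pp (T : ℕ → ℕ → ℕ) (N c : ℕ) : Equiv.Perm (Fin N) := tblPermI T linv N c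

theorem prod_pp_apply (hT : TableOKI (2 * (d + 1)) N linv T) (l : List ℕ)
    (hl : ∀ c ∈ l, c < 2 * (d + 1)) (v : Fin N) :
    ((l.map (pp T N)).prod v).val = actL T l v.val :=
  prod_tpermI_apply linv_linv (fun _ hx => linv_lt hx) hT l hl v

theorem prod_pp_eq_one (hT : TableOKI (2 * (d + 1)) N linv T) (l : List ℕ)
    (hl : ∀ c ∈ l, c < 2 * (d + 1)) (h : ∀ v, v < N → actL T l v = v) :
    (l.map (pp T N)).prod = 1 := by
  ext v
  rw [prod_pp_apply hT l hl, h v.val v.isLt]
  rfl

theorem pp_linv (c : ℕ) : pp T N (linv c) = (pp T N c)⁻¹ :=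
  eq_inv_of_mul_eq_one_right (tblPermI_mul T linv linv_linv N c)

theorem linv_even (i : ℕ) : linv (2 * i) = 2 * i + 1 := by
  unfold linv
  rw [if_pos (by omega)]

theorem linv_odd (i : ℕ) : linv (2 * i + 1) = 2 * i := by
  unfold linv
  rw [if_neg (by omega)]
  omega

theorem pp_odd (i : ℕ) : pp T N (2 * i + 1) = (pp T N (2 * i))⁻¹ := by
  rw [← linv_even, pp_linv]

/-- **the covering group acts on a table with a shift letter.** -/
theorem exists_model (d : ℕ) (m : ℕ → ℕ) (CC : List (List ℕ)) (e N : ℕ) (T : ℕ → ℕ → ℕ)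
    (hT : TableOKI (2 * (d + 1)) N linv T)
    (hlt : ∀ r ∈ CC, ∀ c ∈ r, c < 2 * d)
    (hcomm : ∀ i, i < d → ∀ v, v < N → actL T [2 * i, 2 * d, 2 * i + 1, 2 * d + 1] v = v)
    (hr : ∀ r ∈ CC, ∃ k, ∀ v, v < N → actL T (r ++ List.replicate k (2 * d)) v = v)
    (hm : ∀ i, i < d → ∀ v, v < N → actL T (List.replicate (m i) (2 * i)) v = v)
    (a : ℕ) (ha : ∀ v, v < N → actL T (List.replicate a (2 * d)) v = v) (hae : a ∣ e) :
    ∃ ρ : CovG d m CC CC e →* Equiv.Perm (Fin N),
      ActsOn ρ (ev (2 * d) (coverRels d m CC CC e)) (2 * d) T := by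
  classical
  set σ : Equiv.Perm (Fin N) := pp T N (2 * d) with hσ
  have hσinv : pp T N (2 * d + 1) = σ⁻¹ := pp_odd d
  -- the generators commute with the shift
  have hcm : ∀ i, i < d → σ * pp T N (2 * i) = pp T N (2 * i) * σ := by
    intro i hi
    have h1 := prod_pp_eq_one hT [2 * i, 2 * d, 2 * i + 1, 2 * d + 1] (by
      intro c hc
      simp only [List.mem_cons, List.not_mem_nil, or_false] at hc
      rcases hc with rfl | rfl | rfl | rfl <;> omega) (hcomm i hi)
    simp only [List.map_cons, List.map_nil, List.prod_cons, List.prod_nil, mul_one] at h1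
    rw [hσinv, pp_odd i, ← hσ] at h1
    -- p σ p⁻¹ σ⁻¹ = 1
    have h2 : pp T N (2 * i) * σ = σ * pp T N (2 * i) := by
      have h3 : pp T N (2 * i) * σ * ((pp T N (2 * i))⁻¹ * σ⁻¹) = 1 := by
        rw [← h1]
        group
      have h4 := eq_inv_of_mul_eq_one_left h3
      rw [h4]
      group
    exact h2.symm
  -- the centraliser of the shift
  let K : Subgroup (Equiv.Perm (Fin N)) := Subgroup.centralizer {σ}
  have hmemK : ∀ i, i < d → pp T N (2 * i) ∈ K := by
    intro i hi
    rw [Subgroup.mem_centralizer_iff]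
    intro h hh
    rw [Set.mem_singleton_iff] at hh
    rw [hh]
    exact hcm i hi
  let x : ℕ → K := fun i => if h : i < d then ⟨pp T N (2 * i), hmemK i h⟩ else 1
  have hx : ∀ i, i < d → ((x i : K) : Equiv.Perm (Fin N)) = pp T N (2 * i) := by
    intro i hi
    show ((if h : i < d then (⟨pp T N (2 * i), hmemK i h⟩ : K) else 1 : K) :
      Equiv.Perm (Fin N)) = _
    rw [dif_pos hi]
  have hlv : ∀ c, c < 2 * d → ((lval x c : K) : Equiv.Perm (Fin N)) = pp T N c := by
    intro c hc
    obtain ⟨i, rfl | rfl⟩ : ∃ i, c = 2 * i ∨ c = 2 * i + 1 := ⟨c / 2, by omega⟩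
    · rw [lval_even, hx i (by omega)]
    · rw [lval_odd, Subgroup.coe_inv, hx i (by omega), pp_odd]
  have hprod : ∀ l : List ℕ, (∀ c ∈ l, c < 2 * d) →
      (((l.map (lval x)).prod : K) : Equiv.Perm (Fin N)) = (l.map (pp T N)).prod := by
    intro l
    induction l with
    | nil => intro _; rfl
    | cons c l ih =>
      intro hl
      rw [List.map_cons, List.prod_cons, List.map_cons, List.prod_cons, Subgroup.coe_mul,
        hlv c (hl c List.mem_cons_self), ih (fun c hc => hl c (List.mem_cons_of_mem _ hc))]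
  -- the shift in the centraliser
  have hσK : σ ∈ K := by
    rw [Subgroup.mem_centralizer_iff]
    intro h hh
    rw [Set.mem_singleton_iff] at hh
    rw [hh]
  let s : K := ⟨σ, hσK⟩
  have hsc : s ∈ Subgroup.center K := by
    rw [Subgroup.mem_center_iff]
    intro g
    apply Subtype.ext
    rw [Subgroup.coe_mul, Subgroup.coe_mul]
    exact ((Subgroup.mem_centralizer_iff.mp g.2) σ rfl).symm
  have hsa : s ^ a = 1 := by
    apply Subtype.ext
    rw [Subgroup.coe_pow, Subgroup.coe_one]
    have h1 := prod_pp_eq_one hT (List.replicate a (2 * d)) (by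
      intro c hc
      rw [List.eq_of_mem_replicate hc]
      omega) ha
    rwa [List.map_replicate, List.prod_replicate] at h1
  have hrs : ∀ r ∈ CC, ∃ k : ℕ, (r.map (lval x)).prod = (s ^ k)⁻¹ := by
    intro r hr'
    obtain ⟨k, hk⟩ := hr r hr'
    refine ⟨k, ?_⟩
    apply Subtype.ext
    rw [hprod r (hlt r hr'), Subgroup.coe_inv, Subgroup.coe_pow]
    have h1 := prod_pp_eq_one hT (r ++ List.replicate k (2 * d)) (by
      intro c hc
      rcases List.mem_append.mp hc with h | h
      · have := hlt r hr' c h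
        omega
      · rw [List.eq_of_mem_replicate h]
        omega) hk
    rw [List.map_append, List.prod_append, List.map_replicate, List.prod_replicate] at h1
    exact eq_inv_of_mul_eq_one_left h1
  have h1 : ∀ i, i < d → x i ^ m i = 1 := by
    intro i hi
    apply Subtype.ext
    rw [Subgroup.coe_pow, Subgroup.coe_one, hx i hi]
    have h1 := prod_pp_eq_one hT (List.replicate (m i) (2 * i)) (by
      intro c hc
      rw [List.eq_of_mem_replicate hc]
      omega) (hm i hi)
    rwa [List.map_replicate, List.prod_replicate] at h1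
  have h2 : ∀ r ∈ CC, (r.map (lval x)).prod ∈ Subgroup.center K := by
    intro r hr'
    obtain ⟨k, hk⟩ := hrs r hr'
    rw [hk]
    exact inv_mem (pow_mem hsc k)
  have h3 : ∀ r ∈ CC, ((r.map (lval x)).prod) ^ e = 1 := by
    intro r hr'
    obtain ⟨k, hk⟩ := hrs r hr'
    obtain ⟨c, rfl⟩ := hae
    rw [hk, inv_pow, ← pow_mul, mul_comm k, mul_assoc, pow_mul, hsa, one_pow, inv_one]
  have hlt2 : ∀ r ∈ CC ++ CC, ∀ c ∈ r, c < 2 * d := by
    intro r hr'
    rcases List.mem_append.mp hr' with h | h <;> exact hlt r h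
  let ρK : CovG d m CC CC e →* K :=
    lift (lval x) (coverRels_lt d m CC CC e hlt2) (coverRels_hold x d m CC CC e h1 h2 h3)
  refine ⟨K.subtype.comp ρK, ⟨?_⟩⟩
  intro l hl v
  have e1 : (K.subtype.comp ρK) (ev (2 * d) (coverRels d m CC CC e) l) =
      (l.map (pp T N)).prod := by
    rw [MonoidHom.comp_apply]
    show ((lift (lval x) (coverRels_lt d m CC CC e hlt2)
      (coverRels_hold x d m CC CC e h1 h2 h3) (ev (2 * d) (coverRels d m CC CC e) l) : K) :
        Equiv.Perm (Fin N)) = _
    rw [lift_ev _ _ _ l hl, hprod l hl]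
  rw [e1]
  exact prod_pp_apply hT l (fun c hc => by have := hl c hc; omega) v

end

end Cfsg.Agent.Helper4.ShM

namespace Cfsg.Agent.Helper4.ShM

open Cfsg.Agent.Helper5.LP Cfsg.Agent.Helper5.StemP Cfsg.Agent.Helper5.LTC
  Cfsg.Agent.Helper5.TC Cfsg.Agent.Helper5.TCI

/-- one more chunk of points fixed by a word. -/
theorem fix_step {T : ℕ → ℕ → ℕ} {l : List ℕ} {lo : ℕ} (h : ∀ v, v < lo → actL T l v = v)
    (cnt : ℕ) (hc : fixPtsF (actLF T l) cnt lo = true) : ∀ v, v < lo + cnt → actL T l v = v := by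
  intro v hv
  by_cases h1 : v < lo
  · exact h v h1
  · rw [← actLF_eq]
    exact fixPtsF_spec (actLF T l) cnt lo hc v (by omega) hv

/-- one more chunk of points fixed by a function. -/
theorem fixW_step {W : ℕ → ℕ} {lo : ℕ} (h : ∀ v, v < lo → W v = v)
    (cnt : ℕ) (hc : fixPtsF W cnt lo = true) : ∀ v, v < lo + cnt → W v = v := by
  intro v hv
  by_cases h1 : v < lo
  · exact h v h1
  · exact fixPtsF_spec W cnt lo hc v (by omega) hv

/-- one more chunk of points on which a letter acts with its inverse letter. -/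
theorem inv_step {T : ℕ → ℕ → ℕ} {N x X lo : ℕ}
    (h : ∀ v, v < lo → T x v < N ∧ T X (T x v) = v)
    (cnt : ℕ) (hc : invRowFI T N x X cnt lo = true) :
    ∀ v, v < lo + cnt → T x v < N ∧ T X (T x v) = v := by
  intro v hv
  by_cases h1 : v < lo
  · exact h v h1
  · exact invRowFI_spec T N x X cnt lo hc v (by omega) hv

end Cfsg.Agent.Helper4.ShM
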