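import Mathlib
import Cfsg.Agent.Helper5.StemPA

/-!
# A kernel of exponent prime to its order is trivial
-/

set_option autoImplicit false

namespace Cfsg.Agent.Helper4.StemX

open Cfsg.Agent.Helper5.StemP

universe u v

/-- the part of the kernel of a stem extension of exponent dividing `s`, of order dividing `a`
prime to `s`, is trivial. -/
theorem ker_trivial_of_coprime {Γ : Type u} {G : Type v} [Group Γ] [Group G] [Finite Γ]
    (σ : Γ →* G) (hσ : Cfsg.IsStemExtension σ) (hc : σ.ker ≤ Subgroup.center Γ) (s t a : ℕ)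
    (hst : Nat.card G = s * t) (hs : Nat.gcd s a = 1)
    (h2 : Nat.card (qmap σ hc t).ker ∣ a) : Nat.card (qmap σ hc t).ker = 1 := by
  have hbot : (qmap σ hc t).ker = ⊥ := by
    rw [Subgroup.eq_bot_iff_forall]
    intro y hy
    have hs' : y ^ s = 1 := qmap_ker_pow σ hσ hc (s := s) (t := t) hst y hy
    have h2' : y ^ a = 1 := by
      obtain ⟨c, hc2⟩ := h2
      have h5 : y ^ Nat.card (qmap σ hc t).ker = 1 := by
        have h4 : (⟨y, hy⟩ : (qmap σ hc t).ker) ^ Nat.card (qmap σ hc t).ker = 1 :=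
          pow_card_eq_one'
        have h7 := congrArg Subtype.val h4
        rwa [Subgroup.coe_pow, Subgroup.coe_one] at h7
      have h6 : y ^ (Nat.card (qmap σ hc t).ker * c) = 1 := by rw [pow_mul, h5, one_pow]
      rwa [← hc2] at h6
    have hd : orderOf y ∣ Nat.gcd s a :=
      Nat.dvd_gcd (orderOf_dvd_of_pow_eq_one hs') (orderOf_dvd_of_pow_eq_one h2')
    rw [hs] at hd
    exact orderOf_eq_one_iff.mp (Nat.dvd_one.mp hd)
  exact (Subgroup.eq_bot_iff_card _).mp hbot

end Cfsg.Agent.Helper4.StemX
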