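import Mathlib
import Cfsg.Agent.Helper4.McLMCovB
import Cfsg.Agent.Helper4.McLMMSum
import Cfsg.Agent.Helper4.ShiftModel
import Cfsg.Agent.Helper4.StemX
import Cfsg.Agent.Helper5.LPE
import Cfsg.Agent.Helper5.StemPL
import Cfsg.Agent.Helper5.StemPH
import Cfsg.Agent.Helper5.StemPM

/-!
# The Schur multiplier of the McLaughlin group is cyclic of order 3
-/

set_option autoImplicit false

namespace Cfsg.Agent.Helper4.McLM

open Cfsg Cfsg.Agent.Helper5.StemP Cfsg.Agent.Helper5.LP Cfsg.Agent.Helper5.LTC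
  Cfsg.Agent.Helper5.TC Cfsg.Agent.Helper5.TCI Cfsg.Agent.Helper4.ShM Cfsg.Agent.Helper4.StemX

/-! ### the covering group is a triple cover -/

theorem cw_eq : McLMM.cw = CC := by decide

/-- the covering group acts on the model with 66825 points. -/
theorem model_F : ∃ ρ : CovG 3 mm CC CC 90 →* Equiv.Perm (Fin 66825),
    ActsOn ρ (ev (2 * 3) (coverRels 3 mm CC CC 90)) (2 * 3) McLMM.mT := by
  refine exists_model 3 mm CC 90 66825 McLMM.mT McLMM.tableOK CC_lt McLMM.hcomm ?_ ?_ 3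
    McLMM.hsh (by norm_num)
  · intro r hr
    exact McLMM.hcent r (by rw [cw_eq]; exact hr)
  · intro i hi
    have h := McLMM.hpow i hi
    interval_cases i <;> exact h

/-- the word of a central element of order 3. -/
def zw : List ℕ := [4, 1, 2, 1, 3, 1, 4, 1, 3, 1, 2, 2, 2, 1]

theorem zw_mem : zw ∈ CC := by decide

theorem zw_lt : ∀ c ∈ zw, c < 2 * 3 := CC_lt zw zw_mem

set_option maxRecDepth 1000000 in
theorem move_F : actL McLMM.mT (List.replicate 10 zw).flatten 0 ≠ 0 := by decide +kernel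

/-- the central element of order 3. -/
noncomputable def z0 : CovG 3 mm CC CC 90 := ev (2 * 3) (coverRels 3 mm CC CC 90) zw ^ 10

theorem z0_ne : z0 ^ 3 ^ (1 - 1) ≠ 1 := by
  obtain ⟨ρ, hA⟩ := model_F
  have e1 : 3 ^ (1 - 1) = 1 := by norm_num
  unfold z0
  rw [e1, pow_one, ev_pow]
  refine ne_one_of_move hA _ ?_ 0 (by norm_num) move_F
  intro c hc
  obtain ⟨l, hl, hcl⟩ := List.mem_flatten.mp hc
  rw [List.eq_of_mem_replicate hl] at hcl
  exact zw_lt c hcl

theorem z0_center : z0 ∈ Subgroup.center (CovG 3 mm CC CC 90) :=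
  Subgroup.pow_mem _ (cover_center 3 mm CC CC 90 zw_mem zw_lt) 10

theorem z0_ker : z0 ∈ piF.ker :=
  Subgroup.pow_mem _ (coverHomU_ker 3 mm CC CC 90 CC2_lt g g_pow CC2_rel zw_mem) 10

theorem z0_pow : z0 ^ 3 ^ 2 = 1 := by
  unfold z0
  rw [← pow_mul, show 10 * 3 ^ 2 = 90 from rfl, ev_pow]
  exact ev_rel (mem_coverRels_T 3 mm CC CC 90 zw_mem)

theorem cgen_pow7 : ∀ x ∈ {x : CovG 3 mm CC CC 90 | ∃ i, i < 3 ∧ x = cgen 3 mm CC CC 90 i},
    x ^ 7 = 1 := by
  rintro x ⟨i, hi, rfl⟩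
  exact cgen_pow 3 mm CC CC 90 (i := i) hi

theorem stem_F : (Cfsg.IsStemExtension piF ∧
    Nonempty (piF.ker ≃* Multiplicative (ZMod (3 ^ 1)))) ∧
    Nat.card (CovG 3 mm CC CC 90) = Nat.card GG * 3 ^ 1 :=
  stem_cyclic_le piF piF_surj 3 1 2 Nat.prime_three (by norm_num)
    (by rw [card_GG]; exact card_le_F.2)
    z0 z0_center z0_ker z0_pow z0_ne
    _ (closure_cgen 3 mm CC CC 90) 7 cgen_pow7 (by decide)

theorem card_F : Nat.card (CovG 3 mm CC CC 90) = Nat.card GG * 3 := stem_F.2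

/-! ### the bound for the stem extensions -/

theorem mm_cop2 : ∀ i, i < 3 → g i ^ mm i = 1 ∧ (mm i).Coprime (2 ^ 7) := by
  intro i hi
  exact ⟨g_pow i hi, by show Nat.Coprime 7 _; decide⟩

theorem mm_cop3 : ∀ i, i < 3 → g i ^ mm i = 1 ∧ (mm i).Coprime (3 ^ 6) := by
  intro i hi
  exact ⟨g_pow i hi, by show Nat.Coprime 7 _; decide⟩

theorem mm_cop5 : ∀ i, i < 3 → g i ^ mm i = 1 ∧ (mm i).Coprime (5 ^ 3) := by
  intro i hi
  exact ⟨g_pow i hi, by show Nat.Coprime 7 _; decide⟩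

theorem bound (Γ : Type) [Group Γ] [Finite Γ] (σ : Γ →* GG)
    (hσ : Cfsg.IsStemExtension σ) : Nat.card σ.ker ≤ 3 := by
  have hc := hσ.2.1
  have : Finite (LPG (2 * 3) (coverRels 3 mm CC CC 90)) := card_le_F.1
  have hcard : Nat.card (LPG (2 * 3) (coverRels 3 mm CC CC 90)) ∣ Nat.card GG * 3 := by
    show Nat.card (CovG 3 mm CC CC 90) ∣ _
    rw [card_F]
  have h2 : Nat.card (qmap σ hc 7016625).ker ∣ 3 :=
    card_qmap_ker_dvd_of_pow_dvd σ hσ hc 2 Nat.prime_two 7 1 7016625 90 (by norm_num)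
      (by rw [card_GG]; norm_num)
      3 mm CC CC CC2_lt g g_closure mm_cop2 CC2_rel 3 hcard (by decide)
  have h3 : Nat.card (qmap σ hc 1232000).ker ∣ 3 :=
    card_qmap_ker_dvd_of_pow_dvd σ hσ hc 3 Nat.prime_three 6 2 1232000 90 (by norm_num)
      (by rw [card_GG]; norm_num)
      3 mm CC CC CC2_lt g g_closure mm_cop3 CC2_rel 3 hcard (by decide)
  have h5 : Nat.card (qmap σ hc 7185024).ker ∣ 3 :=
    card_qmap_ker_dvd_of_pow_dvd σ hσ hc 5 Nat.prime_five 3 1 7185024 90 (by norm_num)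
      (by rw [card_GG]; norm_num)
      3 mm CC CC CC2_lt g g_closure mm_cop5 CC2_rel 3 hcard (by decide)
  have h2' : Nat.card (qmap σ hc 7016625).ker = 1 :=
    ker_trivial_of_coprime σ hσ hc 128 7016625 3 (by rw [card_GG]) (by decide) h2
  have h5' : Nat.card (qmap σ hc 7185024).ker = 1 :=
    ker_trivial_of_coprime σ hσ hc 125 7185024 3 (by rw [card_GG]) (by decide) h5
  have h7 : ∀ z ∈ σ.ker, z ^ Nat.gcd (Nat.gcd 7016625 1232000) 7185024 = 1 → z = 1 := by
    intro z hz hz1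
    have e77 : Nat.gcd (Nat.gcd 7016625 1232000) 7185024 = 7 * 11 := by decide
    rw [e77] at hz1
    refine eq_one_of_pow_eq_one σ hσ (7 * 11) ?_ z hz hz1
    intro q hq hqd
    rw [card_GG]
    rcases (Nat.Prime.dvd_mul hq).mp hqd with h | h
    · rw [(Nat.prime_dvd_prime_iff_eq hq (by norm_num)).mp h]
      decide
    · rw [(Nat.prime_dvd_prime_iff_eq hq (by norm_num)).mp h]
      decide
  have h8 := card_ker_le_mul3 σ hc 7016625 1232000 7185024 h7
  calc Nat.card σ.ker ≤ Nat.card (qmap σ hc 7016625).ker * Nat.card (qmap σ hc 1232000).ker *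
        Nat.card (qmap σ hc 7185024).ker := h8
    _ ≤ 1 * 3 * 1 := by
        rw [h2', h5']
        exact Nat.mul_le_mul (Nat.mul_le_mul le_rfl (Nat.le_of_dvd (by norm_num) h3)) le_rfl
    _ = 3 := by norm_num

theorem main : Cfsg.HasCyclicSchurMultiplier GG 3 := by
  have c3 : Nat.card (Multiplicative (ZMod 3)) = 3 := by
    change Nat.card (ZMod 3) = 3
    rw [Nat.card_zmod]
  apply hasSchurMultiplier_of_exists_of_card_le
  · exact ⟨CovG 3 mm CC CC 90, inferInstance, card_le_F.1, piF, stem_F.1.1, stem_F.1.2⟩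
  · intro Γ _ _ σ hσ
    rw [c3]
    exact bound Γ σ hσ

end Cfsg.Agent.Helper4.McLM
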