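import Mathlib
import Cfsg.Prelude.Def_Solvable
import Cfsg.Agent.Helper1.Fitting
import Cfsg.Agent.Helper1.SylowInt
import Cfsg.Agent.Helper9.Gross2.Defs

/-!
Tower extraction for S3795 (Gross, `p = 2`): from `FitTwo H s t` and the tower theorem (T)
(as a hypothesis) deduce `[H, t] ≤ F(H)`.
-/

set_option autoImplicit false

namespace Cfsg.Agent.Helper4.G2Tower

open Cfsg.Agent.Helper1

universe u

variable {Γ : Type u} [Group Γ]

/-- The Fitting subgroup of `H`, as a subgroup of the ambient group. -/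
def fitIm (H : Subgroup Γ) : Subgroup Γ := (Cfsg.fittingSubgroup ↥H).map H.subtype

/-- `O_q(H)`, as a subgroup of the ambient group. -/
def coreIm (q : ℕ) (H : Subgroup Γ) : Subgroup Γ := (Cfsg.pCore q ↥H).map H.subtype

theorem fitIm_le (H : Subgroup Γ) : fitIm H ≤ H := Subgroup.map_subtype_le _

theorem coreIm_le (q : ℕ) (H : Subgroup Γ) : coreIm q H ≤ H := Subgroup.map_subtype_le _

theorem mem_fitIm {H : Subgroup Γ} {x : Γ} :
    x ∈ fitIm H ↔ ∃ h : x ∈ H, (⟨x, h⟩ : H) ∈ Cfsg.fittingSubgroup ↥H := by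
  unfold fitIm
  constructor
  · rintro ⟨y, hy, rfl⟩
    exact ⟨y.2, hy⟩
  · rintro ⟨h, hx⟩
    exact ⟨⟨x, h⟩, hx, rfl⟩

theorem mem_coreIm {q : ℕ} {H : Subgroup Γ} {x : Γ} :
    x ∈ coreIm q H ↔ ∃ h : x ∈ H, (⟨x, h⟩ : H) ∈ Cfsg.pCore q ↥H := by
  unfold coreIm
  constructor
  · rintro ⟨y, hy, rfl⟩
    exact ⟨y.2, hy⟩
  · rintro ⟨h, hx⟩
    exact ⟨⟨x, h⟩, hx, rfl⟩

theorem fitIm_conj (H : Subgroup Γ) : ∀ g ∈ H, ∀ x ∈ fitIm H, g * x * g⁻¹ ∈ fitIm H := by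
  intro g hg x hx
  obtain ⟨hxH, hxF⟩ := mem_fitIm.mp hx
  refine mem_fitIm.mpr ⟨H.mul_mem (H.mul_mem hg hxH) (H.inv_mem hg), ?_⟩
  have := (fittingSubgroup_normal (G := ↥H)).conj_mem ⟨x, hxH⟩ hxF ⟨g, hg⟩
  exact this

theorem coreIm_conj (q : ℕ) (H : Subgroup Γ) :
    ∀ g ∈ H, ∀ x ∈ coreIm q H, g * x * g⁻¹ ∈ coreIm q H := by
  intro g hg x hx
  obtain ⟨hxH, hxF⟩ := mem_coreIm.mp hx
  refine mem_coreIm.mpr ⟨H.mul_mem (H.mul_mem hg hxH) (H.inv_mem hg), ?_⟩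
  have := (pCore_normal (G := ↥H) q).conj_mem ⟨x, hxH⟩ hxF ⟨g, hg⟩
  exact this

theorem fitIm_nilp [Finite Γ] (H : Subgroup Γ) : ∃ c : ℕ, (fitIm H).lowerCentralSeries c = ⊥ := by
  have h := fittingSubgroup_isNilpotent (G := ↥H)
  rw [Subgroup.isNilpotent_iff_lowerCentralSeries] at h
  obtain ⟨c, hc⟩ := h
  refine ⟨c, ?_⟩
  unfold fitIm
  rw [← Subgroup.map_lowerCentralSeries, hc, Subgroup.map_bot]

theorem coreIm_isPGroup (q : ℕ) [Fact q.Prime] (H : Subgroup Γ) : IsPGroup q (coreIm q H) :=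
  (pCore_isPGroup (G := ↥H) q).map _

/-- A nilpotent subgroup of `H` normalized by `H` lies in the Fitting subgroup. -/
theorem le_fitIm {H D : Subgroup Γ} (hDH : D ≤ H) (hn : ∀ g ∈ H, ∀ x ∈ D, g * x * g⁻¹ ∈ D)
    (hnil : Group.IsNilpotent D) : D ≤ fitIm H := by
  have hN : (D.subgroupOf H).Normal := by
    constructor
    intro x hx g
    exact hn g g.2 x hx
  have hnil' : Group.IsNilpotent (D.subgroupOf H) :=
    have := hnil
    (Group.nilpotent_of_mulEquiv (Subgroup.subgroupOfEquivOfLe hDH).symm)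
  intro x hx
  exact mem_fitIm.mpr ⟨hDH hx, le_fittingSubgroup hN hnil' (Subgroup.mem_subgroupOf.mpr hx)⟩

/-- A `q`-subgroup of `H` normalized by `H` lies in `O_q(H)`. -/
theorem le_coreIm {q : ℕ} {H D : Subgroup Γ} (hDH : D ≤ H)
    (hn : ∀ g ∈ H, ∀ x ∈ D, g * x * g⁻¹ ∈ D) (hq : IsPGroup q D) : D ≤ coreIm q H := by
  have hN : (D.subgroupOf H).Normal := by
    constructor
    intro x hx g
    exact hn g g.2 x hx
  have hq' : IsPGroup q (D.subgroupOf H) := hq.comap_subtype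
  intro x hx
  exact mem_coreIm.mpr ⟨hDH hx, le_pCore hN hq' (Subgroup.mem_subgroupOf.mpr hx)⟩

/-- The image of a subgroup under conjugation by `s`. -/
def cj (s : Γ) (D : Subgroup Γ) : Subgroup Γ := D.map (MulAut.conj s).toMonoidHom

theorem mem_cj {s : Γ} {D : Subgroup Γ} {x : Γ} : x ∈ cj s D ↔ s⁻¹ * x * s ∈ D := by
  unfold cj
  constructor
  · rintro ⟨y, hy, rfl⟩
    show s⁻¹ * (s * y * s⁻¹) * s ∈ D
    have : s⁻¹ * (s * y * s⁻¹) * s = y := by group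
    rw [this]; exact hy
  · intro h
    refine ⟨s⁻¹ * x * s, h, ?_⟩
    show s * (s⁻¹ * x * s) * s⁻¹ = x
    group

theorem conj_mem_of_normalizer {s : Γ} {H : Subgroup Γ}
    (hs : s ∈ Subgroup.normalizer (H : Set Γ)) {x : Γ} (hx : x ∈ H) : s * x * s⁻¹ ∈ H :=
  (Subgroup.mem_normalizer_iff.mp hs x).mp hx

theorem conj_inv_mem_of_normalizer {s : Γ} {H : Subgroup Γ}
    (hs : s ∈ Subgroup.normalizer (H : Set Γ)) {x : Γ} (hx : x ∈ H) : s⁻¹ * x * s ∈ H := by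
  have := (Subgroup.mem_normalizer_iff.mp hs (s⁻¹ * x * s)).mpr
  apply this
  have h2 : s * (s⁻¹ * x * s) * s⁻¹ = x := by group
  rw [h2]; exact hx

theorem fitIm_inv [Finite Γ] {s : Γ} {H : Subgroup Γ}
    (hs : s ∈ Subgroup.normalizer (H : Set Γ)) : ∀ x ∈ fitIm H, s * x * s⁻¹ ∈ fitIm H := by
  have hle : cj s (fitIm H) ≤ fitIm H := by
    apply le_fitIm
    · intro x hx
      have h1 := fitIm_le H (mem_cj.mp hx)
      have h2 := conj_mem_of_normalizer hs h1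
      have h3 : s * (s⁻¹ * x * s) * s⁻¹ = x := by group
      rw [h3] at h2; exact h2
    · intro g hg x hx
      rw [mem_cj] at hx ⊢
      have hg' : s⁻¹ * g * s ∈ H := conj_inv_mem_of_normalizer hs hg
      have := fitIm_conj H _ hg' _ hx
      have h3 : s⁻¹ * g * s * (s⁻¹ * x * s) * (s⁻¹ * g * s)⁻¹ = s⁻¹ * (g * x * g⁻¹) * s := by group
      rw [h3] at this; exact this
    · have h := fittingSubgroup_isNilpotent (G := ↥H)
      have e1 : ↥(Cfsg.fittingSubgroup ↥H) ≃* ↥(fitIm H) :=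
        Subgroup.equivMapOfInjective _ _ H.subtype_injective
      have e2 : ↥(fitIm H) ≃* ↥(cj s (fitIm H)) :=
        Subgroup.equivMapOfInjective _ _ (MulAut.conj s).injective
      exact Group.nilpotent_of_mulEquiv (e1.trans e2)
  intro x hx
  apply hle
  rw [mem_cj]
  have h3 : s⁻¹ * (s * x * s⁻¹) * s = x := by group
  rw [h3]; exact hx

theorem coreIm_inv [Finite Γ] (q : ℕ) [Fact q.Prime] {s : Γ} {H : Subgroup Γ}
    (hs : s ∈ Subgroup.normalizer (H : Set Γ)) : ∀ x ∈ coreIm q H, s * x * s⁻¹ ∈ coreIm q H := by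
  have hle : cj s (coreIm q H) ≤ coreIm q H := by
    apply le_coreIm
    · intro x hx
      have h1 := coreIm_le q H (mem_cj.mp hx)
      have h2 := conj_mem_of_normalizer hs h1
      have h3 : s * (s⁻¹ * x * s) * s⁻¹ = x := by group
      rw [h3] at h2; exact h2
    · intro g hg x hx
      rw [mem_cj] at hx ⊢
      have hg' : s⁻¹ * g * s ∈ H := conj_inv_mem_of_normalizer hs hg
      have := coreIm_conj q H _ hg' _ hx
      have h3 : s⁻¹ * g * s * (s⁻¹ * x * s) * (s⁻¹ * g * s)⁻¹ = s⁻¹ * (g * x * g⁻¹) * s := by group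
      rw [h3] at this; exact this
    · exact (coreIm_isPGroup q H).map _
  intro x hx
  apply hle
  rw [mem_cj]
  have h3 : s⁻¹ * (s * x * s⁻¹) * s = x := by group
  rw [h3]; exact hx


/-! ### The abstract core -/

section core

variable {G : Type u} [Group G] [Finite G]

/-- the join of the `r`-cores for `r ≠ q`. -/
def coJoin (q : Nat.Primes) (G : Type u) [Group G] : Subgroup G :=
  ⨆ (r : Nat.Primes) (_ : r ≠ q), Cfsg.pCore (r : ℕ) G

instance coJoin_normal (q : Nat.Primes) : (coJoin q G).Normal := by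
  unfold coJoin
  infer_instance

theorem fitting_split (q : Nat.Primes) :
    Cfsg.fittingSubgroup G = Cfsg.pCore (q : ℕ) G ⊔ coJoin q G := by
  rw [fittingSubgroup_eq_fitJoin, fitJoin, iSup_split_single _ q]
  rfl

/-- An element of the Fitting subgroup of order prime to `q` lies in the join of the other cores. -/
theorem mem_coJoin_of_coprime (q : Nat.Primes) {x : G} (hx : x ∈ Cfsg.fittingSubgroup G)
    (hcop : (orderOf x).Coprime q) : x ∈ coJoin q G := by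
  haveI : Fact (q : ℕ).Prime := ⟨q.2⟩
  set ρ := QuotientGroup.mk' (coJoin q G) with hρ
  have h1 : ρ x ∈ (Cfsg.pCore (q : ℕ) G).map ρ := by
    have h2 : ρ x ∈ (Cfsg.fittingSubgroup G).map ρ := ⟨x, hx, rfl⟩
    rw [fitting_split q, Subgroup.map_sup] at h2
    have h3 : (coJoin q G).map ρ = ⊥ := by
      rw [hρ, QuotientGroup.map_mk'_self]
    rw [h3, sup_bot_eq] at h2
    exact h2
  have hp : IsPGroup (q : ℕ) ((Cfsg.pCore (q : ℕ) G).map ρ) := (pCore_isPGroup (q : ℕ)).map ρ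
  obtain ⟨k, hk⟩ := hp ⟨ρ x, h1⟩
  have hk' : (ρ x) ^ ((q : ℕ) ^ k) = 1 := by
    have := congrArg Subtype.val hk
    simpa using this
  have h4 : orderOf (ρ x) ∣ (q : ℕ) ^ k := orderOf_dvd_of_pow_eq_one hk'
  have h5 : orderOf (ρ x) ∣ orderOf x := orderOf_map_dvd ρ x
  have h6 : orderOf (ρ x) = 1 := by
    have hc : (orderOf x).Coprime ((q : ℕ) ^ k) := Nat.Coprime.pow_right k hcop
    exact Nat.eq_one_of_dvd_coprimes hc h5 h4
  rw [orderOf_eq_one_iff] at h6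
  rw [hρ] at h6
  exact (QuotientGroup.eq_one_iff x).mp h6

/-- **Core lemma.**  Let `X` be normal in `G` with `X F / F` nilpotent (`F = F(G)`), and `c ∈ X F` a `q`-element
centralizing `O_r(G)` for all primes `r ≠ q`.  Then `c ∈ F(G)`. -/
theorem core_mem_fitting (X : Subgroup G) [hX : X.Normal]
    (hnil : ∃ n : ℕ, X.lowerCentralSeries n ≤ Cfsg.fittingSubgroup G) (q : Nat.Primes)
    (c : G) (hcX : c ∈ X ⊔ Cfsg.fittingSubgroup G) (hcq : ∃ k : ℕ, c ^ ((q : ℕ) ^ k) = 1)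
    (hcc : ∀ r : Nat.Primes, r ≠ q → ∀ v ∈ Cfsg.pCore (r : ℕ) G, c * v = v * c) :
    c ∈ Cfsg.fittingSubgroup G := by
  haveI : Fact (q : ℕ).Prime := ⟨q.2⟩
  set Fit := Cfsg.fittingSubgroup G with hFit
  set π := QuotientGroup.mk' Fit with hπ
  have hπsurj : Function.Surjective π := QuotientGroup.mk'_surjective Fit
  set Xb := X.map π with hXb
  haveI hXbn : Xb.Normal := hX.map π hπsurj
  -- `Xb` is nilpotent
  have hXbnil : Group.IsNilpotent Xb := by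
    rw [Subgroup.isNilpotent_iff_lowerCentralSeries]
    obtain ⟨n, hn⟩ := hnil
    refine ⟨n, ?_⟩
    rw [hXb, ← Subgroup.map_lowerCentralSeries, eq_bot_iff]
    calc (X.lowerCentralSeries n).map π ≤ Fit.map π := Subgroup.map_mono hn
      _ = ⊥ := by rw [hπ, QuotientGroup.map_mk'_self]
  -- its Sylow `q`-subgroup
  obtain ⟨Pb⟩ : Nonempty (Sylow (q : ℕ) Xb) := inferInstance
  haveI hPbn : (Pb : Subgroup Xb).Normal := inferInstance
  haveI hPbc : (Pb : Subgroup Xb).Characteristic := Sylow.characteristic_of_normal Pb hPbn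
  set Yb : Subgroup (G ⧸ Fit) := (Pb : Subgroup Xb).map Xb.subtype with hYb
  haveI hYbn : Yb.Normal := inferInstance
  have hYbp : IsPGroup (q : ℕ) Yb := Pb.isPGroup'.map _
  set R := Yb.comap π with hR
  haveI hRn : R.Normal := hYbn.comap π
  -- `q`-elements of `X F` lie in `R`
  have hR1 : ∀ g : G, g ∈ X ⊔ Fit → (∃ k : ℕ, g ^ ((q : ℕ) ^ k) = 1) → g ∈ R := by
    intro g hg hgq
    have hgb : π g ∈ Xb := by
      have h1 : π g ∈ (X ⊔ Fit).map π := ⟨g, hg, rfl⟩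
      rw [Subgroup.map_sup] at h1
      have h3 : Fit.map π = ⊥ := by rw [hπ, QuotientGroup.map_mk'_self]
      rw [h3, sup_bot_eq] at h1
      exact h1
    obtain ⟨k, hk⟩ := hgq
    have hyk : (⟨π g, hgb⟩ : Xb) ^ ((q : ℕ) ^ k) = 1 := by
      apply Subtype.ext
      show (π g) ^ ((q : ℕ) ^ k) = 1
      rw [← map_pow, hk, map_one]
    have hz : IsPGroup (q : ℕ) (Subgroup.zpowers (⟨π g, hgb⟩ : Xb)) := by
      rintro ⟨z, hz⟩
      obtain ⟨j, rfl⟩ := Subgroup.mem_zpowers_iff.mp hz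
      refine ⟨k, ?_⟩
      apply Subtype.ext
      show ((⟨π g, hgb⟩ : Xb) ^ j) ^ ((q : ℕ) ^ k) = 1
      rw [← zpow_natCast, ← zpow_mul, mul_comm, zpow_mul, zpow_natCast, hyk, one_zpow]
    obtain ⟨Q, hQ⟩ := hz.exists_le_sylow
    haveI := Sylow.unique_of_normal Pb hPbn
    have hQP : Q = Pb := Subsingleton.elim _ _
    have hmem : (⟨π g, hgb⟩ : Xb) ∈ (Pb : Subgroup Xb) := by
      rw [← hQP]
      exact hQ (Subgroup.mem_zpowers _)
    show π g ∈ Yb
    exact ⟨⟨π g, hgb⟩, hmem, rfl⟩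
  -- elements of `R` of order prime to `q` lie in `Fit`
  have hR2 : ∀ x : G, x ∈ R → (orderOf x).Coprime q → x ∈ Fit := by
    intro x hx hcop
    have hx' : π x ∈ Yb := hx
    obtain ⟨k, hk⟩ := hYbp ⟨π x, hx'⟩
    have hk' : (π x) ^ ((q : ℕ) ^ k) = 1 := by
      have := congrArg Subtype.val hk
      simpa using this
    have h4 : orderOf (π x) ∣ (q : ℕ) ^ k := orderOf_dvd_of_pow_eq_one hk'
    have h5 : orderOf (π x) ∣ orderOf x := orderOf_map_dvd π x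
    have h6 : orderOf (π x) = 1 := by
      have hc : (orderOf x).Coprime ((q : ℕ) ^ k) := Nat.Coprime.pow_right k hcop
      exact Nat.eq_one_of_dvd_coprimes hc h5 h4
    rw [orderOf_eq_one_iff, hπ] at h6
    exact (QuotientGroup.eq_one_iff x).mp h6
  -- the subgroup `D`
  set K := coJoin q G with hK
  set D := R ⊓ Subgroup.centralizer (K : Set G) with hD
  haveI hDn : D.Normal := by
    rw [hD]
    infer_instance
  -- elements of `D` of order prime to `q` are central in `D`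
  have hD1 : ∀ x : G, x ∈ D → (orderOf x).Coprime q → ∀ y ∈ D, y * x = x * y := by
    intro x hx hcop y hy
    have hxK : x ∈ K := mem_coJoin_of_coprime q (hR2 x hx.1 hcop) hcop
    exact (Subgroup.mem_centralizer_iff.mp hy.2 x hxK).symm
  -- `D` is nilpotent
  have hDnil : Group.IsNilpotent D := by
    have hquot : Group.IsNilpotent (↥D ⧸ Subgroup.center ↥D) := by
      apply IsPGroup.isNilpotent (p := (q : ℕ))
      intro yb
      obtain ⟨y, rfl⟩ := QuotientGroup.mk'_surjective _ yb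
      obtain ⟨k, m, hm, hkm⟩ := Nat.exists_eq_pow_mul_and_not_dvd (orderOf_pos (y : G)).ne' (q : ℕ)
        q.2.ne_one
      refine ⟨k, ?_⟩
      rw [← map_pow, QuotientGroup.mk'_apply, QuotientGroup.eq_one_iff, Subgroup.mem_center_iff]
      intro z
      apply Subtype.ext
      have hyk : ((y : G) ^ ((q : ℕ) ^ k)) ∈ D := D.pow_mem y.2 _
      have hord : (orderOf ((y : G) ^ ((q : ℕ) ^ k))).Coprime q := by
        have h1 : orderOf ((y : G) ^ ((q : ℕ) ^ k)) ∣ m := by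
          apply orderOf_dvd_of_pow_eq_one
          rw [← pow_mul, ← hkm, pow_orderOf_eq_one]
        have h2 : m.Coprime q := ((Nat.Prime.coprime_iff_not_dvd q.2).mpr hm).symm
        exact Nat.Coprime.coprime_dvd_left h1 h2
      have := hD1 _ hyk hord z z.2
      simpa using this
    exact Subgroup.isNilpotent_of_ker_le_center (QuotientGroup.mk' (Subgroup.center D))
      (by rw [QuotientGroup.ker_mk'])
  have hDF : D ≤ Fit := le_fittingSubgroup hDn hDnil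
  apply hDF
  refine ⟨hR1 c hcX hcq, ?_⟩
  show c ∈ Subgroup.centralizer (K : Set G)
  rw [Subgroup.mem_centralizer_iff]
  intro h hh
  have hle : K ≤ Subgroup.centralizer ({c} : Set G) := by
    rw [hK, coJoin]
    apply iSup_le
    intro r
    apply iSup_le
    intro hr v hv
    rw [Subgroup.mem_centralizer_iff]
    intro c' hc'
    rw [Set.mem_singleton_iff] at hc'
    subst hc'
    exact hcc r hr v hv
  have := Subgroup.mem_centralizer_iff.mp (hle hh) c (Set.mem_singleton c)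
  exact this.symm

end core


/-! ### Generation by Sylow subgroups, invariance under powers, the commutator subgroup modulo `F` -/

section aux

variable [Finite Γ]

/-- A subgroup of `M` containing a Sylow `p`-subgroup of `M` for every prime `p` is `M`. -/
theorem eq_of_sylow_le (M L : Subgroup Γ) (hLM : L ≤ M)
    (h : ∀ p : ℕ, ∀ _ : Fact p.Prime, ∃ P : Sylow p M, (P : Subgroup M).map M.subtype ≤ L) :
    L = M := by
  have hdvd : Nat.card M ∣ Nat.card L := by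
    rw [← Nat.factorization_prime_le_iff_dvd Nat.card_pos.ne' Nat.card_pos.ne']
    intro p hp
    haveI : Fact p.Prime := ⟨hp⟩
    obtain ⟨P, hP⟩ := h p ⟨hp⟩
    rw [← hp.pow_dvd_iff_le_factorization Nat.card_pos.ne', ← P.card_eq_multiplicity,
      ← Subgroup.card_map_of_injective M.subtype_injective]
    exact Subgroup.card_dvd_of_le hP
  exact Subgroup.eq_of_le_of_card_ge hLM (Nat.le_of_dvd Nat.card_pos hdvd)

omit [Finite Γ] in
theorem pow_conj_mem {s : Γ} {A : Subgroup Γ} (h : ∀ x ∈ A, s * x * s⁻¹ ∈ A) (m : ℕ) :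
    ∀ x ∈ A, s ^ m * x * (s ^ m)⁻¹ ∈ A := by
  induction m with
  | zero => intro x hx; simpa using hx
  | succ m ih =>
    intro x hx
    have h1 := h _ (ih x hx)
    have h2 : s * (s ^ m * x * (s ^ m)⁻¹) * s⁻¹ = s ^ (m + 1) * x * (s ^ (m + 1))⁻¹ := by
      rw [pow_succ']
      group
    rw [h2] at h1
    exact h1

omit [Finite Γ] in
theorem sup_conj_mem {s : Γ} {A B : Subgroup Γ} (hA : ∀ x ∈ A, s * x * s⁻¹ ∈ A)
    (hB : ∀ x ∈ B, s * x * s⁻¹ ∈ B) : ∀ x ∈ A ⊔ B, s * x * s⁻¹ ∈ A ⊔ B := by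
  intro x hx
  have h1 : (MulAut.conj s).toMonoidHom x ∈ (A ⊔ B).map (MulAut.conj s).toMonoidHom :=
    ⟨x, hx, rfl⟩
  rw [Subgroup.map_sup] at h1
  have hA' : A.map (MulAut.conj s).toMonoidHom ≤ A := by
    rintro _ ⟨y, hy, rfl⟩
    exact hA y hy
  have hB' : B.map (MulAut.conj s).toMonoidHom ≤ B := by
    rintro _ ⟨y, hy, rfl⟩
    exact hB y hy
  exact sup_le_sup hA' hB' h1

/-- The elements `y` of `H` with `[t, y] ∈ F`, for `F` normalized by `H`. -/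
def commSub (t : Γ) (H F : Subgroup Γ) (hF : ∀ g ∈ H, ∀ x ∈ F, g * x * g⁻¹ ∈ F) : Subgroup Γ where
  carrier := {y | y ∈ H ∧ t * y * t⁻¹ * y⁻¹ ∈ F}
  one_mem' := ⟨H.one_mem, by simp⟩
  mul_mem' := by
    rintro y z ⟨hy, hyF⟩ ⟨hz, hzF⟩
    refine ⟨H.mul_mem hy hz, ?_⟩
    have h1 : t * (y * z) * t⁻¹ * (y * z)⁻¹ =
        (t * y * t⁻¹ * y⁻¹) * (y * (t * z * t⁻¹ * z⁻¹) * y⁻¹) := by group
    rw [h1]
    exact F.mul_mem hyF (hF y hy _ hzF)
  inv_mem' := by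
    rintro y ⟨hy, hyF⟩
    refine ⟨H.inv_mem hy, ?_⟩
    have h1 : t * y⁻¹ * t⁻¹ * y⁻¹⁻¹ = y⁻¹ * (t * y * t⁻¹ * y⁻¹)⁻¹ * y⁻¹⁻¹ := by group
    rw [h1]
    exact hF _ (H.inv_mem hy) _ (F.inv_mem hyF)

omit [Finite Γ] in
theorem mem_commSub {t : Γ} {H F : Subgroup Γ} {hF : ∀ g ∈ H, ∀ x ∈ F, g * x * g⁻¹ ∈ F} {y : Γ} :
    y ∈ commSub t H F hF ↔ y ∈ H ∧ t * y * t⁻¹ * y⁻¹ ∈ F := Iff.rfl


theorem mem_normalizer_of_conj {s : Γ} {A : Subgroup Γ} (h : ∀ x ∈ A, s * x * s⁻¹ ∈ A) :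
    s ∈ Subgroup.normalizer (A : Set Γ) := by
  rw [Subgroup.mem_normalizer_iff]
  intro x
  refine ⟨h x, fun hx => ?_⟩
  have h1 := pow_conj_mem h (orderOf s - 1) _ hx
  have h2 : s ^ (orderOf s - 1) = s⁻¹ := by
    apply eq_inv_of_mul_eq_one_left
    rw [← pow_succ, Nat.sub_add_cancel (orderOf_pos s), pow_orderOf_eq_one]
  rw [h2] at h1
  have h3 : s⁻¹ * (s * x * s⁻¹) * s⁻¹⁻¹ = x := by group
  rw [h3] at h1
  exact h1

end aux

/-! ### Tower extraction -/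

/-- **Tower extraction** (plan §1(b) of S3795): from `FitTwo H s t` and the tower theorem (T) as a hypothesis,
`[H, t]` lies in the Fitting subgroup of `H` (an `s`-invariant nilpotent normal subgroup). -/
theorem tower_extract {Γ : Type*} [Group Γ] [Finite Γ] (s t : Γ) (n m : ℕ) (hs : s ^ (2 ^ n) = 1)
    (htm : t = s ^ m) (H : Subgroup Γ) (hsH : s ∈ Subgroup.normalizer (H : Set Γ))
    (_hsol : Group.IsSolvable H) (hodd : (Nat.card H).Coprime 2)
    (_hfpf : ∀ x ∈ H, s * x * s⁻¹ = x → x = 1)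
    (hF2 : Cfsg.Agent.Helper9.Gross2.FitTwo H s t)
    (hT : ∀ q q' : ℕ, q.Prime → q'.Prime → q' ≠ q → ∀ Q Q' : Subgroup Γ, Q ≤ H → Q' ≤ H →
      IsPGroup q Q → IsPGroup q' Q' → (∀ g ∈ H, ∀ x ∈ Q, g * x * g⁻¹ ∈ Q) →
      (∀ x ∈ Q, s * x * s⁻¹ ∈ Q) → (∀ x ∈ Q', s * x * s⁻¹ ∈ Q') →
      ∀ g ∈ Q', ∀ v ∈ Q, (t * g * t⁻¹ * g⁻¹) * v = v * (t * g * t⁻¹ * g⁻¹)) :
    ∃ N : Subgroup Γ, N ≤ H ∧ (∀ g ∈ H, ∀ x ∈ N, g * x * g⁻¹ ∈ N) ∧ (∀ x ∈ N, s * x * s⁻¹ ∈ N) ∧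
      (∃ c : ℕ, N.lowerCentralSeries c = ⊥) ∧ ∀ x ∈ H, t * x * t⁻¹ * x⁻¹ ∈ N := by
  obtain ⟨N₀, X, hN₀X, hXH, hN₀n, hXn, _hN₀s, hXs, ⟨c₀, hc₀⟩, ⟨c₁, hc₁⟩, hcomm⟩ := hF2
  set F := fitIm H with hF
  have hFH : F ≤ H := fitIm_le H
  have hFn : ∀ g ∈ H, ∀ x ∈ F, g * x * g⁻¹ ∈ F := fitIm_conj H
  have hFs : ∀ x ∈ F, s * x * s⁻¹ ∈ F := fitIm_inv hsH
  refine ⟨F, hFH, hFn, hFs, fitIm_nilp H, ?_⟩
  have hN₀F : N₀ ≤ F :=
    le_fitIm (hN₀X.trans hXH) hN₀n ((Subgroup.isNilpotent_iff_lowerCentralSeries N₀).mpr ⟨c₀, hc₀⟩)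
  have ht_inv : ∀ A : Subgroup Γ, (∀ x ∈ A, s * x * s⁻¹ ∈ A) → ∀ x ∈ A, t * x * t⁻¹ ∈ A := by
    intro A hA
    rw [htm]
    exact pow_conj_mem hA m
  set M := X ⊔ F with hM
  have hMH : M ≤ H := sup_le hXH hFH
  have hMs : ∀ x ∈ M, s * x * s⁻¹ ∈ M := sup_conj_mem hXs hFs
  haveI hX₀n : (X.subgroupOf H).Normal := ⟨fun x hx g => hXn g g.2 x hx⟩
  have hX₀nil : ∃ k, (X.subgroupOf H).lowerCentralSeries k ≤ Cfsg.fittingSubgroup ↥H := by
    refine ⟨c₁, ?_⟩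
    intro y hy
    have h1 : (y : Γ) ∈ ((X.subgroupOf H).lowerCentralSeries c₁).map H.subtype := ⟨y, hy, rfl⟩
    rw [Subgroup.map_lowerCentralSeries, Subgroup.map_subgroupOf_eq_of_le hXH] at h1
    have h2 := hN₀F (hc₁ h1)
    obtain ⟨_, h4⟩ := mem_fitIm.mp h2
    exact h4
  have hMmap : M = ((X.subgroupOf H) ⊔ Cfsg.fittingSubgroup ↥H).map H.subtype := by
    rw [Subgroup.map_sup, Subgroup.map_subgroupOf_eq_of_le hXH]
    rfl
  -- Claim A
  have claimA : ∀ (q' : ℕ) (_ : q'.Prime) (P' : Subgroup Γ), P' ≤ M → IsPGroup q' P' →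
      (∀ x ∈ P', s * x * s⁻¹ ∈ P') → ∀ g ∈ P', t * g * t⁻¹ * g⁻¹ ∈ F := by
    intro q' hq' P' hP'M hP'q hP's g hg
    have hcP' : t * g * t⁻¹ * g⁻¹ ∈ P' := P'.mul_mem (ht_inv P' hP's g hg) (P'.inv_mem hg)
    have hcH : t * g * t⁻¹ * g⁻¹ ∈ H := hMH (hP'M hcP')
    have key := core_mem_fitting (G := ↥H) (X.subgroupOf H) hX₀nil ⟨q', hq'⟩
      ⟨t * g * t⁻¹ * g⁻¹, hcH⟩ ?_ ?_ ?_
    · exact mem_fitIm.mpr ⟨hcH, key⟩
    · have h1 : t * g * t⁻¹ * g⁻¹ ∈ M := hP'M hcP'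
      rw [hMmap] at h1
      obtain ⟨y, hy, hyc⟩ := h1
      have : y = ⟨t * g * t⁻¹ * g⁻¹, hcH⟩ := Subtype.ext hyc
      rw [← this]
      exact hy
    · obtain ⟨k, hk⟩ := hP'q ⟨t * g * t⁻¹ * g⁻¹, hcP'⟩
      refine ⟨k, ?_⟩
      apply Subtype.ext
      have := congrArg Subtype.val hk
      simpa using this
    · intro r hr v hv
      apply Subtype.ext
      have hrq : q' ≠ (r : ℕ) := fun h => hr (Subtype.ext h.symm)
      have hv' : (v : Γ) ∈ coreIm (r : ℕ) H := mem_coreIm.mpr ⟨v.2, hv⟩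
      haveI : Fact (r : ℕ).Prime := ⟨r.2⟩
      exact hT (r : ℕ) q' r.2 hq' hrq (coreIm r H) P' (coreIm_le _ H) (hP'M.trans hMH)
        (coreIm_isPGroup _ H) hP'q (coreIm_conj _ H) (coreIm_inv _ hsH) hP's g hg v hv'
  -- Step 1: `t` acts trivially on `M / F`
  have hMC : M ≤ commSub t H F hFn := by
    have hL : commSub t H F hFn ⊓ M = M := by
      apply eq_of_sylow_le M (commSub t H F hFn ⊓ M) inf_le_right
      intro p hp
      have hAM : Subgroup.zpowers s ≤ Subgroup.normalizer (M : Set Γ) := by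
        rw [Subgroup.zpowers_le]
        exact mem_normalizer_of_conj hMs
      have hcop : (Nat.card (Subgroup.zpowers s)).Coprime (Nat.card M) := by
        rw [Nat.card_zpowers]
        have h1 : orderOf s ∣ 2 ^ n := orderOf_dvd_of_pow_eq_one hs
        have h2 : (2 ^ n).Coprime (Nat.card M) := by
          apply Nat.Coprime.pow_left
          exact (Nat.Coprime.coprime_dvd_left (Subgroup.card_dvd_of_le hMH) hodd).symm
        exact Nat.Coprime.coprime_dvd_left h1 h2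
      have hsolvA : Group.IsSolvable (Subgroup.zpowers s) := by
        haveI : IsMulCommutative (Subgroup.zpowers s) := inferInstance
        infer_instance
      obtain ⟨P, hP⟩ := exists_invariant_sylow (p := p) (Subgroup.zpowers s) M hAM hcop
        (Or.inl hsolvA)
      refine ⟨P, ?_⟩
      have hP's : ∀ x ∈ (P : Subgroup M).map M.subtype, s * x * s⁻¹ ∈ (P : Subgroup M).map M.subtype :=
        fun x hx => conj_mem_of_normalizer (hP (Subgroup.mem_zpowers s)) hx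
      have hP'M : (P : Subgroup M).map M.subtype ≤ M := Subgroup.map_subtype_le _
      intro y hy
      refine ⟨⟨hMH (hP'M hy), ?_⟩, hP'M hy⟩
      exact claimA p hp.out _ hP'M (P.isPGroup'.map _) hP's y hy
    rw [← hL]
    exact inf_le_left
  -- Step 0
  intro x hx
  set m' := t * x * t⁻¹ * x⁻¹ with hm'
  have hm'M : m' ∈ M := le_sup_left (a := X) (b := F) (hcomm x hx)
  have hMt : ∀ y ∈ M, t * y * t⁻¹ ∈ M := ht_inv M hMs
  have key : ∀ k : ℕ, t ^ k * x * (t ^ k)⁻¹ * x⁻¹ ∈ M ∧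
      (t ^ k * x * (t ^ k)⁻¹ * x⁻¹) * (m' ^ k)⁻¹ ∈ F := by
    intro k
    induction k with
    | zero => simp
    | succ k ih =>
      obtain ⟨ih1, ih2⟩ := ih
      have h1 : t ^ (k + 1) * x * (t ^ (k + 1))⁻¹ * x⁻¹ =
          (t * (t ^ k * x * (t ^ k)⁻¹ * x⁻¹) * t⁻¹) * m' := by
        rw [hm', pow_succ']
        group
      refine ⟨?_, ?_⟩
      · rw [h1]
        exact M.mul_mem (hMt _ ih1) hm'M
      · have h2 : (t ^ (k + 1) * x * (t ^ (k + 1))⁻¹ * x⁻¹) * (m' ^ (k + 1))⁻¹ =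
            ((t * (t ^ k * x * (t ^ k)⁻¹ * x⁻¹) * t⁻¹) * (t ^ k * x * (t ^ k)⁻¹ * x⁻¹)⁻¹) *
              ((t ^ k * x * (t ^ k)⁻¹ * x⁻¹) * (m' ^ k)⁻¹) := by
          rw [h1, pow_succ]
          group
        rw [h2]
        exact F.mul_mem ((mem_commSub.mp (hMC ih1)).2) ih2
  have htn : t ^ (2 ^ n) = 1 := by
    rw [htm, ← pow_mul, mul_comm, pow_mul, hs, one_pow]
  have h1 := (key (2 ^ n)).2
  rw [htn] at h1
  have h2 : (m' ^ (2 ^ n))⁻¹ ∈ F := by simpa using h1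
  have h3 : m' ^ (2 ^ n) ∈ F := by
    have := F.inv_mem h2
    simpa using this
  have hm'H : m' ∈ H := hMH hm'M
  have hcop : (orderOf m').Coprime (2 ^ n) := by
    apply Nat.Coprime.pow_right
    have h4 : orderOf m' ∣ Nat.card H := by
      have := orderOf_dvd_natCard (⟨m', hm'H⟩ : H)
      rwa [Subgroup.orderOf_mk] at this
    exact Nat.Coprime.coprime_dvd_left h4 hodd
  obtain ⟨j, hj⟩ := exists_pow_eq_self_of_coprime hcop.symm
  rw [← hj]
  exact F.pow_mem h3 j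

end Cfsg.Agent.Helper4.G2Tower
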