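import Mathlib
import Cfsg.Prelude.Def_FusionSystem
import Cfsg.Agent.Lead.SimpleCritD
import Cfsg.Agent.Helper4.PCore
import Cfsg.Agent.Helper9.J3Z.Abs
import Cfsg.Agent.Helper9.J3Z.Sylow

set_option autoImplicit false

/-!
The simplicity criterion for the 2-fusion system of a group with one class of involutions in which
the centralizer of an involution is a split extension of an extraspecial group `Q` of order 32 by
the alternating group of degree five acting non-trivially on `Q` modulo its centre, with `Q`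
generated by its involutions, and with Sylow 2-subgroups of order `2 ^ 7`.
-/

namespace Cfsg.Agent.Helper4.J3Fus

open Cfsg Cfsg.Agent.Lead Cfsg.Agent.Lead.SimpCrit Cfsg.Agent.Helper9.J3Z

/-- an even permutation of five points whose fourth power is trivial has trivial square. -/
theorem perm5_sq : ∀ σ : Equiv.Perm (Fin 5), σ ^ 4 = 1 → Equiv.Perm.sign σ = 1 → σ ^ 2 = 1 := by
  decide +kernel

/-- in a group isomorphic to the alternating group of degree five, an element of order a power of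
two has trivial square. -/
theorem sq_eq_one_of_iso_a5 {Y : Type*} [Group Y] (e : Y ≃* ↥(alternatingGroup (Fin 5))) (y : Y)
    (k : ℕ) (hy : y ^ 2 ^ k = 1) : y * y = 1 := by
  have h1 : (e y) ^ 2 ^ k = 1 := by rw [← map_pow, hy, map_one]
  have h2 : orderOf (e y) ∣ 2 ^ k := orderOf_dvd_of_pow_eq_one h1
  have h3 : orderOf (e y) ∣ 60 := by
    have := orderOf_dvd_natCard (e y)
    rw [nat_card_alternatingGroup, Nat.card_eq_fintype_card, Fintype.card_fin] at this
    exact this
  obtain ⟨j, -, hj⟩ := (Nat.dvd_prime_pow Nat.prime_two).mp h2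
  have hj2 : j ≤ 2 := by
    by_contra hlt
    rw [not_le] at hlt
    have : 2 ^ 3 ∣ 60 := by
      refine dvd_trans (pow_dvd_pow 2 hlt) ?_
      rw [← hj]; exact h3
    norm_num at this
  have h4 : (e y) ^ 4 = 1 := by
    apply orderOf_dvd_iff_pow_eq_one.mp
    rw [hj]
    exact pow_dvd_pow 2 hj2
  have h5 : ((e y : ↥(alternatingGroup (Fin 5))) : Equiv.Perm (Fin 5)) ^ 4 = 1 := by
    have := congrArg Subtype.val h4
    simpa using this
  have h6 := perm5_sq _ h5 (Equiv.Perm.mem_alternatingGroup.mp (e y).2)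
  have h7 : (e y) ^ 2 = 1 := by
    apply Subtype.ext
    simpa using h6
  apply e.injective
  rw [map_mul, map_one, ← pow_two]
  exact h7

variable {X : Type*} [Group X] {t : X} {Q H : Subgroup X}

/-- the further properties: the normal subgroup is generated by its elements of trivial square, and
some element of the complement acts non-trivially modulo the centre. -/
structure Extra (t : X) (Q H : Subgroup X) : Prop where
  gen : Q ≤ Subgroup.closure {x : X | x ∈ Q ∧ x * x = 1}
  act : ∃ h ∈ H, ∃ q ∈ Q, h * q * h⁻¹ ≠ q ∧ h * q * h⁻¹ ≠ t * q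

theorem Extra.map {X' : Type*} [Group X'] (φ : X ≃* X') (h : Extra t Q H) :
    Extra (φ t) (Q.map φ.toMonoidHom) (H.map φ.toMonoidHom) where
  gen := by
    have h1 : Q.map φ.toMonoidHom ≤
        (Subgroup.closure {x : X | x ∈ Q ∧ x * x = 1}).map φ.toMonoidHom :=
      Subgroup.map_mono h.gen
    refine h1.trans ?_
    rw [MonoidHom.map_closure]
    apply Subgroup.closure_mono
    rintro _ ⟨x, ⟨hx, hxx⟩, rfl⟩
    refine ⟨⟨x, hx, rfl⟩, ?_⟩
    change φ x * φ x = 1
    rw [← map_mul, hxx, map_one]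
  act := by
    obtain ⟨k, hk, q, hq, h1, h2⟩ := h.act
    refine ⟨φ k, ⟨k, hk, rfl⟩, φ q, ⟨q, hq, rfl⟩, ?_, ?_⟩
    · intro e
      apply h1
      apply φ.injective
      rw [map_mul, map_mul, map_inv]
      exact e
    · intro e
      apply h2
      apply φ.injective
      rw [map_mul, map_mul, map_inv, map_mul]
      exact e

namespace ZD

section
variable (hz : ZData t Q H)
include hz

theorem Q_le_C : Q ≤ Subgroup.centralizer ({t} : Set X) := fun q hq =>
  Subgroup.mem_centralizer_singleton_iff.mpr (hz.hQC q hq)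

theorem H_le_C : H ≤ Subgroup.centralizer ({t} : Set X) := fun q hq =>
  Subgroup.mem_centralizer_singleton_iff.mpr (hz.hHC q hq)

theorem t_inv : t⁻¹ = t := inv_eq_of_mul_eq_one_left hz.tsq

theorem exists_mul [Finite X] (y : X) (hy : y ∈ Subgroup.centralizer ({t} : Set X)) :
    ∃ q ∈ Q, ∃ h ∈ H, y = q * h :=
  exists_mul_of_card _ Q H (Q_le_C hz) (H_le_C hz) hz.disj
    (by rw [hz.cardQ, hz.cardH]; exact hz.cardC) y hy

theorem card_C [Finite X] : Nat.card (Subgroup.centralizer ({t} : Set X)) = 1920 := by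
  apply le_antisymm hz.cardC
  have h1 : Nat.card Q * Nat.card H = 1920 := by rw [hz.cardQ, hz.cardH]
  rw [← h1, ← Nat.card_prod]
  let C := Subgroup.centralizer ({t} : Set X)
  let f : ↥Q × ↥H → ↥C := fun p =>
    ⟨(p.1 : X) * (p.2 : X), C.mul_mem (Q_le_C hz p.1.2) (H_le_C hz p.2.2)⟩
  have hf : Function.Injective f := by
    rintro ⟨a, b⟩ ⟨c, d⟩ hab
    have h1 : (a : X) * b = c * d := congrArg Subtype.val hab
    have h2 : (c : X)⁻¹ * a = d * (b : X)⁻¹ := by
      rw [inv_mul_eq_iff_eq_mul, ← mul_assoc, ← h1, mul_inv_cancel_right]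
    have h3 : (c : X)⁻¹ * a = 1 :=
      hz.disj _ (Q.mul_mem (Q.inv_mem c.2) a.2) (h2 ▸ H.mul_mem d.2 (H.inv_mem b.2))
    have h4 : (d : X) * (b : X)⁻¹ = 1 := by rw [← h2, h3]
    apply Prod.ext
    · exact Subtype.ext (inv_mul_eq_one.mp h3).symm
    · exact Subtype.ext (mul_inv_eq_one.mp h4).symm
  exact Nat.card_le_card_of_injective f hf

/-- the elements of the complement acting trivially on the normal subgroup modulo its centre. -/
def ker : Subgroup ↥H where
  carrier := {a | ∀ q ∈ Q, (a : X) * q * (a : X)⁻¹ = q ∨ (a : X) * q * (a : X)⁻¹ = t * q}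
  one_mem' := by
    intro q _
    left
    simp
  mul_mem' := by
    intro a b ha hb q hq
    have e : ((a * b : ↥H) : X) * q * ((a * b : ↥H) : X)⁻¹ =
        (a : X) * ((b : X) * q * (b : X)⁻¹) * (a : X)⁻¹ := by
      rw [Subgroup.coe_mul]; group
    rw [e]
    rcases hb q hq with h1 | h1
    · rw [h1]
      exact ha q hq
    · rw [h1]
      have e2 : (a : X) * (t * q) * (a : X)⁻¹ = t * ((a : X) * q * (a : X)⁻¹) := by
        rw [← mul_assoc, hz.hHC a a.2]; group
      rw [e2]
      rcases ha q hq with h2 | h2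
      · right; rw [h2]
      · left; rw [h2, ← mul_assoc, hz.tsq, one_mul]
  inv_mem' := by
    intro a ha q hq
    have hq' : (a : X)⁻¹ * q * (a : X) ∈ Q := by
      have := hz.norm _ (H.inv_mem a.2) q hq
      rwa [inv_inv] at this
    have e : ((a⁻¹ : ↥H) : X) * q * ((a⁻¹ : ↥H) : X)⁻¹ = (a : X)⁻¹ * q * (a : X) := by
      rw [Subgroup.coe_inv, inv_inv]
    rw [e]
    have e2 : (a : X) * ((a : X)⁻¹ * q * (a : X)) * (a : X)⁻¹ = q := by group
    generalize (a : X)⁻¹ * q * (a : X) = q' at hq' e2 ⊢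
    rcases ha _ hq' with h1 | h1
    · left
      rw [← e2, h1]
    · right
      rw [← e2, h1, ← mul_assoc, hz.tsq, one_mul]

theorem mem_ker (a : ↥H) :
    a ∈ ker hz ↔ ∀ q ∈ Q, (a : X) * q * (a : X)⁻¹ = q ∨ (a : X) * q * (a : X)⁻¹ = t * q :=
  Iff.rfl

theorem ker_normal : (ker hz).Normal := by
  constructor
  intro a ha g q hq
  have hq' : (g : X)⁻¹ * q * (g : X) ∈ Q := by
    have := hz.norm _ (H.inv_mem g.2) q hq
    rwa [inv_inv] at this
  have e : ((g * a * g⁻¹ : ↥H) : X) * q * ((g * a * g⁻¹ : ↥H) : X)⁻¹ =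
      (g : X) * ((a : X) * ((g : X)⁻¹ * q * (g : X)) * (a : X)⁻¹) * (g : X)⁻¹ := by
    rw [Subgroup.coe_mul, Subgroup.coe_mul, Subgroup.coe_inv]; group
  rw [e]
  rcases ha _ hq' with h1 | h1
  · left
    rw [h1]; group
  · right
    rw [h1]
    have : (g : X) * (t * ((g : X)⁻¹ * q * (g : X))) * (g : X)⁻¹ =
        ((g : X) * t) * (g : X)⁻¹ * q := by group
    rw [this, hz.hHC g g.2]; group

theorem ker_eq_bot (he : Extra t Q H) : ker hz = ⊥ := by
  obtain ⟨eH⟩ := hz.isoH
  have hs : IsSimpleGroup ↥H := by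
    have : IsSimpleGroup ↥(alternatingGroup (Fin 5)) := alternatingGroup.isSimpleGroup (by simp)
    exact eH.isSimpleGroup
  have := ker_normal hz
  rcases hs.eq_bot_or_eq_top_of_normal (ker hz) this with h1 | h1
  · exact h1
  · exfalso
    obtain ⟨k, hk, q, hq, h2, h3⟩ := he.act
    have : (⟨k, hk⟩ : ↥H) ∈ ker hz := by rw [h1]; exact Subgroup.mem_top _
    rcases this q hq with h4 | h4
    · exact h2 h4
    · exact h3 h4

/-- an element of the centralizer of the involution commuting with every element of the normal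
subgroup lies in it. -/
theorem mem_Q_of_comm [Finite X] (he : Extra t Q H) (x : X)
    (hx : x ∈ Subgroup.centralizer ({t} : Set X)) (hc : ∀ q ∈ Q, x * q = q * x) : x ∈ Q := by
  obtain ⟨q₀, hq₀, h₀, hh₀, rfl⟩ := exists_mul hz x hx
  have hk : (⟨h₀, hh₀⟩ : ↥H) ∈ ker hz := by
    intro q hq
    change h₀ * q * h₀⁻¹ = q ∨ h₀ * q * h₀⁻¹ = t * q
    have e : h₀ * q * h₀⁻¹ = q₀⁻¹ * q * q₀ := by
      have := hc q hq
      have e1 : h₀ * q = q₀⁻¹ * q * q₀ * h₀ := by
        calc h₀ * q = q₀⁻¹ * (q₀ * h₀ * q) := by group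
          _ = q₀⁻¹ * (q * (q₀ * h₀)) := by rw [this]
          _ = q₀⁻¹ * q * q₀ * h₀ := by group
      rw [e1]; group
    rw [e]
    have := hz.comm q₀⁻¹ (Q.inv_mem hq₀) q hq
    rw [inv_inv] at this
    rcases this with h1 | h1
    · left
      have : q₀⁻¹ * q * q₀ = (q₀⁻¹ * q * q₀ * q⁻¹) * q := by group
      rw [this, h1, one_mul]
    · right
      have : q₀⁻¹ * q * q₀ = (q₀⁻¹ * q * q₀ * q⁻¹) * q := by group
      rw [this, h1]
  rw [ker_eq_bot hz he, Subgroup.mem_bot] at hk
  have : h₀ = 1 := congrArg Subtype.val hk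
  rw [this, mul_one]
  exact hq₀

end

end ZD

end Cfsg.Agent.Helper4.J3Fus
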