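import Mathlib
import Cfsg.Agent.Helper3.SubgroupCount

set_option autoImplicit false

/-!
Counting lemmas for P. Hall's enumeration congruence modulo `p ^ 2` (Wielandt-style count,
second order).
-/

namespace Cfsg.Agent.Helper4.HallEnum

open scoped Pointwise
open MulAction Cfsg.Agent.Helper3

/-- Constant fibre size: `|α| = |β| * k`. -/
theorem card_eq_mul_of_fibers {α β : Type*} [Finite α] [Finite β] (f : α → β) (k : ℕ)
    (h : ∀ b : β, Nat.card {a : α // f a = b} = k) : Nat.card α = Nat.card β * k := by
  classical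
  have : Fintype β := Fintype.ofFinite β
  rw [Nat.card_congr (Equiv.sigmaFiberEquiv f).symm, Nat.card_sigma]
  simp only [h, Finset.sum_const, Finset.card_univ, smul_eq_mul, Nat.card_eq_fintype_card]

/-- Fibres of size divisible by `d`: `d ∣ |α|`. -/
theorem dvd_card_of_fibers {α β : Type*} [Finite α] (f : α → β) (d : ℕ)
    (h : ∀ a : α, d ∣ Nat.card {a' : α // f a' = f a}) : d ∣ Nat.card α := by
  classical
  have : Fintype α := Fintype.ofFinite α
  have : Finite (Set.range f) := Set.finite_range f
  have : Fintype (Set.range f) := Fintype.ofFinite _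
  let f' : α → Set.range f := fun a => ⟨f a, a, rfl⟩
  rw [Nat.card_congr (Equiv.sigmaFiberEquiv f').symm, Nat.card_sigma]
  apply Finset.dvd_sum
  rintro ⟨b, a, rfl⟩ _
  have e : {a' : α // f' a' = ⟨f a, a, rfl⟩} ≃ {a' : α // f a' = f a} :=
    Equiv.subtypeEquivRight (fun a' => by simp [f', Subtype.ext_iff])
  rw [Nat.card_congr e]
  exact h a

section Wielandt

variable {G : Type*} [Group G] [Fintype G] [DecidableEq G]

/-- Weighted count over the `k`-subsets whose stabilizer has order `k`. -/
theorem sum_stabilizer_weight [Fintype (Subgroup G)] (k N : ℕ) (hk : 0 < k)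
    (hn : Fintype.card G = k * N) (w : Subgroup G → ℕ) :
    ∑ X ∈ (Finset.powersetCard k (Finset.univ : Finset G)).filter
        (fun X => Nat.card (stabilizer G X) = k), w (stabilizer G X) =
      N * ∑ L ∈ Finset.univ.filter (fun L : Subgroup G => Nat.card L = k), w L := by
  classical
  set Y₁ := (Finset.powersetCard k (Finset.univ : Finset G)).filter
        (fun X => Nat.card (stabilizer G X) = k) with hY₁
  set T : Finset (Σ _ : Finset G, G) := Y₁.sigma (fun X => X) with hT
  set U : Finset (Subgroup G × G) :=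
    (Finset.univ.filter (fun H : Subgroup G => Nat.card H = k)) ×ˢ (Finset.univ : Finset G) with hU
  have hTsum : ∑ q ∈ T, w (stabilizer G q.1) = k * ∑ X ∈ Y₁, w (stabilizer G X) := by
    rw [hT, Finset.sum_sigma, Finset.mul_sum]
    apply Finset.sum_congr rfl
    intro X hX
    rw [hY₁, Finset.mem_filter, Finset.mem_powersetCard_univ] at hX
    simp only [Finset.sum_const, hX.1, smul_eq_mul]
  have hUsum : ∑ r ∈ U, w r.1 =
      k * N * ∑ L ∈ Finset.univ.filter (fun L : Subgroup G => Nat.card L = k), w L := by
    rw [hU, Finset.sum_product, Finset.mul_sum]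
    apply Finset.sum_congr rfl
    intro L _
    simp only [Finset.sum_const, Finset.card_univ, hn, smul_eq_mul]
  have hTU : ∑ q ∈ T, w (stabilizer G q.1) = ∑ r ∈ U, w r.1 := by
    refine Finset.sum_nbij' (fun q => (stabilizer G q.1, q.2))
      (fun r => ⟨rcoset r.1 r.2, r.2⟩) ?_ ?_ ?_ ?_ ?_
    · intro q hq
      rw [hT, Finset.mem_sigma, hY₁, Finset.mem_filter, Finset.mem_powersetCard_univ] at hq
      rw [hU, Finset.mem_product, Finset.mem_filter]
      exact ⟨⟨Finset.mem_univ _, hq.1.2⟩, Finset.mem_univ _⟩
    · intro r hr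
      rw [hU, Finset.mem_product, Finset.mem_filter] at hr
      rw [hT, Finset.mem_sigma, hY₁, Finset.mem_filter, Finset.mem_powersetCard_univ]
      refine ⟨⟨?_, ?_⟩, self_mem_rcoset _ _⟩
      · rw [card_rcoset]; exact hr.1.2
      · rw [stabilizer_rcoset]; exact hr.1.2
    · rintro ⟨X, x⟩ hq
      rw [hT, Finset.mem_sigma, hY₁, Finset.mem_filter, Finset.mem_powersetCard_univ] at hq
      simp only
      rw [rcoset_stabilizer_eq X hq.2 (hq.1.2.trans hq.1.1.symm)]
    · rintro ⟨H, x⟩ hr
      simp only
      rw [stabilizer_rcoset]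
    · intro q _
      rfl
  apply Nat.eq_of_mul_eq_mul_left hk
  rw [← hTsum, hTU, hUsum]
  ring

end Wielandt

section Inv

variable {G : Type*} [Group G] [Fintype G] [DecidableEq G]

/-- The map `g ↦ g⁻¹ K`; its fibres are the right cosets `K g`. -/
def rq (K : Subgroup G) (g : G) : G ⧸ K := ((g⁻¹ : G) : G ⧸ K)

omit [Fintype G] [DecidableEq G] in
theorem rq_eq_iff (K : Subgroup G) (g g' : G) : rq K g = rq K g' ↔ g * g'⁻¹ ∈ K := by
  unfold rq
  rw [QuotientGroup.eq, inv_inv]

omit [Fintype G] [DecidableEq G] in
theorem rq_surjective (K : Subgroup G) : Function.Surjective (rq K) := fun t => by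
  obtain ⟨g, rfl⟩ := QuotientGroup.mk_surjective t
  exact ⟨g⁻¹, by simp [rq]⟩

omit [DecidableEq G] in
theorem card_preimage_rq (K : Subgroup G) [DecidableEq (G ⧸ K)] (T : Finset (G ⧸ K)) :
    (Finset.univ.filter (fun g => rq K g ∈ T)).card = T.card * Nat.card K := by
  classical
  have hmaps : Set.MapsTo (rq K) (Finset.univ.filter (fun g => rq K g ∈ T) : Finset G) (T : Finset (G ⧸ K)) := by
    intro x hx
    exact (Finset.mem_filter.1 hx).2
  rw [Finset.card_eq_sum_card_fiberwise hmaps]
  apply Finset.sum_const_nat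
  intro t ht
  obtain ⟨g₀, rfl⟩ := rq_surjective K t
  have : (Finset.univ.filter (fun g => rq K g ∈ T)).filter (fun g => rq K g = rq K g₀) =
      rcoset K g₀ := by
    ext g
    simp only [Finset.mem_filter, Finset.mem_univ, true_and, mem_rcoset, rq_eq_iff]
    constructor
    · exact fun h => h.2
    · intro h
      refine ⟨?_, h⟩
      rw [← rq_eq_iff] at h
      rw [h]; exact ht
  rw [this, card_rcoset]

/-- The number of `K`-invariant subsets of size `j * |K|` is `C(|G : K|, j)`. -/
theorem card_invariant_sets (K : Subgroup G) (j : ℕ) :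
    (open scoped Classical in
    ((Finset.powersetCard (j * Nat.card K) (Finset.univ : Finset G)).filter
      (fun X => K ≤ stabilizer G X)).card) = (K.index).choose j := by
  classical
  have : Fintype (G ⧸ K) := Fintype.ofFinite _
  have hidx : K.index = Fintype.card (G ⧸ K) := by
    rw [Subgroup.index_eq_card, Nat.card_eq_fintype_card]
  have hKpos : 0 < Nat.card K := Nat.card_pos
  rw [hidx, ← Finset.card_univ, ← Finset.card_powersetCard]
  have hsat : ∀ X : Finset G, K ≤ stabilizer G X →
      Finset.univ.filter (fun g => rq K g ∈ X.image (rq K)) = X := by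
    intro X hX
    ext g
    simp only [Finset.mem_filter, Finset.mem_univ, true_and, Finset.mem_image]
    constructor
    · rintro ⟨x, hx, hxg⟩
      rw [rq_eq_iff] at hxg
      have hk : g * x⁻¹ ∈ K := by
        have := K.inv_mem hxg
        simpa [mul_inv_rev] using this
      have hs := mem_stabilizer_iff.1 (hX hk)
      have h1 : (g * x⁻¹) • x ∈ (g * x⁻¹) • X := Finset.smul_mem_smul_finset hx
      rw [hs, smul_eq_mul, inv_mul_cancel_right] at h1
      exact h1
    · intro hg
      exact ⟨g, hg, rfl⟩
  apply Finset.card_nbij' (fun X => X.image (rq K))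
    (fun T => Finset.univ.filter (fun g => rq K g ∈ T))
  · intro X hX
    rw [Finset.mem_coe, Finset.mem_filter, Finset.mem_powersetCard_univ] at hX
    rw [Finset.mem_coe, Finset.mem_powersetCard_univ]
    have h1 := card_preimage_rq K (X.image (rq K))
    rw [hsat X hX.2, hX.1] at h1
    exact (Nat.eq_of_mul_eq_mul_right hKpos h1).symm
  · intro T hT
    rw [Finset.mem_coe, Finset.mem_powersetCard_univ] at hT
    rw [Finset.mem_coe, Finset.mem_filter, Finset.mem_powersetCard_univ]
    refine ⟨by rw [card_preimage_rq, hT], ?_⟩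
    intro k hk
    rw [mem_stabilizer_iff]
    ext g
    rw [← Finset.inv_smul_mem_iff]
    simp only [Finset.mem_filter, Finset.mem_univ, true_and, smul_eq_mul]
    have : rq K (k⁻¹ * g) = rq K g := by
      rw [rq_eq_iff, mul_inv_cancel_right]
      exact K.inv_mem hk
    rw [this]
  · intro X hX
    rw [Finset.mem_coe, Finset.mem_filter, Finset.mem_powersetCard_univ] at hX
    exact hsat X hX.2
  · intro T _
    ext t
    simp only [Finset.mem_image, Finset.mem_filter, Finset.mem_univ, true_and]
    constructor
    · rintro ⟨g, hg, rfl⟩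
      exact hg
    · intro ht
      obtain ⟨g, rfl⟩ := rq_surjective K t
      exact ⟨g, ht, rfl⟩

end Inv

end Cfsg.Agent.Helper4.HallEnum
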