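import Mathlib
import Cfsg.Agent.Helper4.Cyclic
import Cfsg.Agent.Helper4.HallEnumA

set_option autoImplicit false

/-!
The number of maximal subgroups of a finite `p`-group modulo `p ^ 2`.
-/

namespace Cfsg.Agent.Helper4.HallEnum

/-- In a finite cyclic group, subgroups of the same order are equal. -/
theorem eq_of_card_eq_of_isCyclic {C : Type*} [Group C] [Finite C] [IsCyclic C]
    (K₁ K₂ : Subgroup C) (h : Nat.card K₁ = Nat.card K₂) : K₁ = K₂ := by
  obtain ⟨⟨a, haK⟩, ha⟩ := IsCyclic.exists_generator (α := K₁)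
  have hord : orderOf a = Nat.card K₁ := by
    rw [← Subgroup.orderOf_mk a haK]
    exact orderOf_eq_card_of_forall_mem_zpowers ha
  have hle : K₂ ≤ K₁ := by
    intro b hb
    have hb1 : b ^ Nat.card K₁ = 1 := by
      rw [h]
      have h0 : (⟨b, hb⟩ : K₂) ^ Nat.card K₂ = 1 := pow_card_eq_one'
      have h00 := congrArg Subtype.val h0
      rwa [Subgroup.coe_pow] at h00
    have := mem_zpowers_of_pow_eq_one_of_isCyclic a b (Nat.card K₁) Nat.card_pos hord hb1
    exact (Subgroup.zpowers_le.2 haK) this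
  exact (Subgroup.eq_of_le_of_card_ge hle h.le).symm

section MaxCount

variable {L : Type*} [Group L] [Finite L] {p : ℕ} [hp : Fact p.Prime]

theorem card_multiplicative_zmod : Nat.card (Multiplicative (ZMod p)) = p := by
  rw [Nat.card_congr Multiplicative.toAdd, Nat.card_zmod]

theorem index_of_card {β : ℕ} (hL : Nat.card L = p ^ (β + 1)) (M : Subgroup L)
    (hM : Nat.card M = p ^ β) : M.index = p := by
  have h1 : M.index * p ^ β = p * p ^ β := by
    rw [← hM, Subgroup.index_mul_card, hL, hM, pow_succ']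
  exact Nat.eq_of_mul_eq_mul_right (pow_pos hp.out.pos β) h1

theorem normal_of_card {β : ℕ} (hL : Nat.card L = p ^ (β + 1)) (M : Subgroup L)
    (hM : Nat.card M = p ^ β) : M.Normal := by
  apply Subgroup.normal_of_index_eq_minFac_card
  rw [index_of_card hL M hM, hL, hp.out.pow_minFac (Nat.succ_ne_zero β)]

theorem card_of_index {β : ℕ} (hL : Nat.card L = p ^ (β + 1)) (M : Subgroup L)
    (hM : M.index = p) : Nat.card M = p ^ β := by
  have h1 : p * Nat.card M = p * p ^ β := by
    rw [← hM, Subgroup.index_mul_card, hL, hM, pow_succ']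
  exact Nat.eq_of_mul_eq_mul_left hp.out.pos h1

/-- A subgroup strictly containing a subgroup of index `p` is everything. -/
theorem eq_top_of_lt {β : ℕ} (hL : Nat.card L = p ^ (β + 1)) (M E : Subgroup L)
    (hM : Nat.card M = p ^ β) (hME : M ≤ E) (x : L) (hxE : x ∈ E) (hxM : x ∉ M) : E = ⊤ := by
  have h1 : Nat.card E ∣ p ^ (β + 1) := hL ▸ Subgroup.card_subgroup_dvd_card E
  obtain ⟨j, hj, hEj⟩ := (Nat.dvd_prime_pow hp.out).1 h1
  have h2 : p ^ β ∣ p ^ j := by
    rw [← hM, ← hEj]; exact Subgroup.card_dvd_of_le hME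
  have h3 : β ≤ j := (Nat.pow_dvd_pow_iff_le_right hp.out.one_lt).1 h2
  have hjne : j ≠ β := by
    intro h
    have : M = E := Subgroup.eq_of_le_of_card_ge hME (by rw [hEj, hM, h])
    exact hxM (this ▸ hxE)
  have hj1 : j = β + 1 := by omega
  rw [← Subgroup.card_eq_iff_eq_top, hEj, hL, hj1]

/-- The kernel of a nontrivial homomorphism to `C_p` has index `p`. -/
theorem card_ker_of_ne_one {β : ℕ} (hL : Nat.card L = p ^ (β + 1))
    (f : L →* Multiplicative (ZMod p)) (hf : f ≠ 1) : Nat.card f.ker = p ^ β := by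
  apply card_of_index hL
  rw [Subgroup.index_ker]
  have h1 : Nat.card f.range ∣ p := by
    have := Subgroup.card_subgroup_dvd_card f.range
    rwa [card_multiplicative_zmod] at this
  rcases (Nat.dvd_prime hp.out).1 h1 with h | h
  · exfalso
    apply hf
    ext x
    have hx : f x ∈ f.range := ⟨x, rfl⟩
    rw [Subgroup.card_eq_one.1 h, Subgroup.mem_bot] at hx
    rw [hx]; rfl
  · exact h

/-- The homomorphisms to `C_p` killing `M`. -/
def homKilling (M : Subgroup L) : Subgroup (L →* Multiplicative (ZMod p)) where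
  carrier := {f | ∀ m ∈ M, f m = 1}
  one_mem' := fun _ _ => rfl
  mul_mem' := by
    intro f g hf hg m hm
    rw [MonoidHom.mul_apply, hf m hm, hg m hm, one_mul]
  inv_mem' := by
    intro f hf m hm
    rw [MonoidHom.inv_apply, hf m hm, inv_one]

theorem mem_homKilling (M : Subgroup L) (f : L →* Multiplicative (ZMod p)) :
    f ∈ homKilling M ↔ ∀ m ∈ M, f m = 1 := Iff.rfl

instance finite_hom : Finite (L →* Multiplicative (ZMod p)) :=
  Finite.of_injective (fun f => (f : L → Multiplicative (ZMod p))) DFunLike.coe_injective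

theorem isPGroup_hom : IsPGroup p (L →* Multiplicative (ZMod p)) := by
  intro f
  refine ⟨1, ?_⟩
  ext x
  rw [pow_one, MonoidHom.pow_apply]
  have := pow_card_eq_one' (G := Multiplicative (ZMod p)) (x := f x)
  rw [card_multiplicative_zmod] at this
  rw [this]; rfl

theorem card_homKilling {β : ℕ} (hL : Nat.card L = p ^ (β + 1)) (M : Subgroup L)
    (hM : Nat.card M = p ^ β) : Nat.card (homKilling (p := p) M) = p := by
  haveI hMn : M.Normal := normal_of_card hL M hM
  -- an element outside M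
  obtain ⟨x₀, hx₀⟩ : ∃ x₀ : L, x₀ ∉ M := by
    by_contra hcon
    push Not at hcon
    have : M = ⊤ := (Subgroup.eq_top_iff' M).2 hcon
    have h1 := (Subgroup.card_eq_iff_eq_top M).2 this
    rw [hM, hL] at h1
    have := Nat.pow_right_injective hp.out.two_le h1
    omega
  apply le_antisymm
  · -- evaluation at x₀ is injective
    have hinj : Function.Injective
        (fun f : homKilling (p := p) M => (f.1 x₀ : Multiplicative (ZMod p))) := by
      intro f g hfg
      have hE : MonoidHom.eqLocus f.1 g.1 = ⊤ := by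
        apply eq_top_of_lt hL M _ hM _ x₀ hfg hx₀
        intro m hm
        change f.1 m = g.1 m
        rw [f.2 m hm, g.2 m hm]
      apply Subtype.ext
      ext x
      have : x ∈ MonoidHom.eqLocus f.1 g.1 := by rw [hE]; exact Subgroup.mem_top x
      exact congrArg _ this
    have := Nat.card_le_card_of_injective _ hinj
    rwa [card_multiplicative_zmod] at this
  · -- nontrivial
    have hQ : Nat.card (L ⧸ M) = p := by
      rw [← Subgroup.index_eq_card, index_of_card hL M hM]
    let e : L ⧸ M ≃* Multiplicative (ZMod p) := mulEquivOfPrimeCardEq hQ card_multiplicative_zmod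
    let φ : L →* Multiplicative (ZMod p) := e.toMonoidHom.comp (QuotientGroup.mk' M)
    have hφ : φ ∈ homKilling (p := p) M := by
      intro m hm
      change e (QuotientGroup.mk' M m) = 1
      have h0 : QuotientGroup.mk' M m = 1 := (QuotientGroup.eq_one_iff m).2 hm
      rw [h0, map_one]
    have hφne : (⟨φ, hφ⟩ : homKilling (p := p) M) ≠ 1 := by
      intro h
      have h1 : φ x₀ = 1 := by
        have := congrArg (fun f : homKilling (p := p) M => f.1 x₀) h
        exact this
      have h2 : e (QuotientGroup.mk' M x₀) = 1 := h1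
      rw [MulEquiv.map_eq_one_iff] at h2
      exact hx₀ ((QuotientGroup.eq_one_iff x₀).1 h2)
    have hpg : IsPGroup p (homKilling (p := p) M) := (isPGroup_hom (L := L)).to_subgroup _
    rcases hpg.card_eq_or_dvd with h | h
    · exfalso
      have : Subsingleton (homKilling (p := p) M) := (Nat.card_eq_one_iff_unique.1 h).1
      exact hφne (Subsingleton.elim _ _)
    · exact Nat.le_of_dvd Nat.card_pos h

/-- `|Hom(L, C_p)| = 1 + (p - 1) m` where `m` is the number of subgroups of index `p`. -/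
theorem card_hom_eq {β : ℕ} (hL : Nat.card L = p ^ (β + 1)) :
    Nat.card (L →* Multiplicative (ZMod p)) =
      Nat.card {M : Subgroup L // Nat.card M = p ^ β} * (p - 1) + 1 := by
  classical
  rw [← Nat.card_congr (Equiv.optionSubtypeNe (1 : L →* Multiplicative (ZMod p))),
    Finite.card_option]
  congr 1
  let κ : {f : L →* Multiplicative (ZMod p) // f ≠ 1} → {M : Subgroup L // Nat.card M = p ^ β} :=
    fun f => ⟨f.1.ker, card_ker_of_ne_one hL f.1 f.2⟩
  apply card_eq_mul_of_fibers κ
  rintro ⟨M, hM⟩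
  have h1 := card_homKilling (p := p) hL M hM
  rw [← Nat.card_congr (Equiv.optionSubtypeNe (1 : homKilling (p := p) M)),
    Finite.card_option] at h1
  have h2 : Nat.card {b : homKilling (p := p) M // b ≠ 1} = p - 1 := by omega
  rw [← h2]
  apply Nat.card_congr
  refine ⟨fun f => ⟨⟨f.1.1, ?_⟩, ?_⟩, fun g => ⟨⟨g.1.1, ?_⟩, ?_⟩, ?_, ?_⟩
  · intro m hm
    have : f.1.1.ker = M := congrArg Subtype.val f.2
    rw [← this] at hm
    exact hm
  · intro h
    exact f.1.2 (congrArg Subtype.val h)
  · intro h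
    exact g.2 (Subtype.ext h)
  · apply Subtype.ext
    change g.1.1.ker = M
    have hle : M ≤ g.1.1.ker := fun m hm => g.1.2 m hm
    have hne : g.1.1 ≠ 1 := fun h => g.2 (Subtype.ext h)
    exact (Subgroup.eq_of_le_of_card_ge hle (by rw [card_ker_of_ne_one hL _ hne, hM])).symm
  · intro f; rfl
  · intro g; rfl

/-- A cyclic group has exactly one subgroup of each prime power order dividing its order. -/
theorem card_subgroups_of_isCyclic {Z : Type*} [Group Z] [Finite Z] [IsCyclic Z] (j : ℕ)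
    (h : p ^ j ∣ Nat.card Z) : Nat.card {H : Subgroup Z // Nat.card H = p ^ j} = 1 := by
  rw [Nat.card_eq_one_iff_unique]
  constructor
  · constructor
    rintro ⟨H₁, h₁⟩ ⟨H₂, h₂⟩
    exact Subtype.ext (eq_of_card_eq_of_isCyclic H₁ H₂ (h₁.trans h₂.symm))
  · obtain ⟨K, hK⟩ := Sylow.exists_subgroup_card_pow_prime p h
    exact ⟨⟨K, hK⟩⟩

/-- A noncyclic `p`-group has at least two maximal subgroups. -/
theorem two_le_card_maximal {β : ℕ} (hL : Nat.card L = p ^ (β + 1)) (hnc : ¬ IsCyclic L) :
    2 ≤ Nat.card {M : Subgroup L // Nat.card M = p ^ β} := by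
  by_contra hcon
  have hle : Nat.card {M : Subgroup L // Nat.card M = p ^ β} ≤ 1 := by omega
  have hss : Subsingleton {M : Subgroup L // Nat.card M = p ^ β} :=
    Finite.card_le_one_iff_subsingleton.1 hle
  have hdvd : p ^ β ∣ Nat.card L := by rw [hL]; exact pow_dvd_pow p (Nat.le_succ β)
  obtain ⟨M₀, hM₀⟩ := Sylow.exists_subgroup_card_pow_prime p hdvd
  obtain ⟨x₀, hx₀⟩ : ∃ x₀ : L, x₀ ∉ M₀ := by
    by_contra hcon
    push Not at hcon
    have : M₀ = ⊤ := (Subgroup.eq_top_iff' M₀).2 hcon
    have h1 := (Subgroup.card_eq_iff_eq_top M₀).2 this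
    rw [hM₀, hL] at h1
    have := Nat.pow_right_injective hp.out.two_le h1
    omega
  apply hnc
  rw [isCyclic_iff_exists_zpowers_eq_top]
  refine ⟨x₀, ?_⟩
  by_contra hne
  have h1 : Nat.card (Subgroup.zpowers x₀) ∣ p ^ (β + 1) :=
    hL ▸ Subgroup.card_subgroup_dvd_card _
  obtain ⟨j, hj, hcj⟩ := (Nat.dvd_prime_pow hp.out).1 h1
  have hjne : j ≠ β + 1 := by
    intro h
    apply hne
    rw [← Subgroup.card_eq_iff_eq_top, hcj, hL, h]
  obtain ⟨K, hK, hle⟩ := Sylow.exists_subgroup_card_pow_prime_le p hdvd (Subgroup.zpowers x₀) hcj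
    (by omega)
  have : (⟨K, hK⟩ : {M : Subgroup L // Nat.card M = p ^ β}) = ⟨M₀, hM₀⟩ := Subsingleton.elim _ _
  have hKM : K = M₀ := congrArg Subtype.val this
  exact hx₀ (hKM ▸ hle (Subgroup.mem_zpowers x₀))

/-- The number of maximal subgroups of a noncyclic `p`-group is `≡ 1 + p (mod p ^ 2)`. -/
theorem card_maximal_modEq {β : ℕ} (hL : Nat.card L = p ^ (β + 1)) (hnc : ¬ IsCyclic L) :
    Nat.card {M : Subgroup L // Nat.card M = p ^ β} ≡ 1 + p [MOD p ^ 2] := by
  have h2 := two_le_card_maximal hL hnc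
  have h1 := card_hom_eq (p := p) hL
  obtain ⟨d, hd⟩ := IsPGroup.iff_card.1 (isPGroup_hom (L := L) (p := p))
  set m := Nat.card {M : Subgroup L // Nat.card M = p ^ β} with hm
  have hp2 : 2 ≤ p := hp.out.two_le
  rw [hd] at h1
  have hd2 : 2 ≤ d := by
    by_contra hcon
    have hd1 : d ≤ 1 := by omega
    have : p ^ d ≤ p ^ 1 := Nat.pow_le_pow_right hp.out.pos hd1
    rw [pow_one] at this
    have h3 : 2 * (p - 1) ≤ m * (p - 1) := Nat.mul_le_mul_right _ h2
    omega
  have hdvd : p ^ 2 ∣ p ^ d := pow_dvd_pow p hd2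
  have e1 : m * (p - 1) + 1 ≡ 0 [MOD p ^ 2] := by
    rw [← h1]; exact (Nat.modEq_zero_iff_dvd).2 hdvd
  have e2 : (1 + p) * (p - 1) + 1 ≡ 0 [MOD p ^ 2] := by
    have : (1 + p) * (p - 1) + 1 = p ^ 2 := by
      obtain ⟨q, rfl⟩ : ∃ q, p = q + 1 := ⟨p - 1, by omega⟩
      simp only [Nat.add_sub_cancel]
      ring
    rw [this]; exact (Nat.modEq_zero_iff_dvd).2 dvd_rfl
  have e3 : m * (p - 1) ≡ (1 + p) * (p - 1) [MOD p ^ 2] :=
    Nat.ModEq.add_right_cancel' 1 (e1.trans e2.symm)
  refine Nat.ModEq.cancel_right_of_coprime ?_ e3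
  apply Nat.Coprime.pow_left
  rw [Nat.Prime.coprime_iff_not_dvd hp.out]
  intro h
  have := Nat.le_of_dvd (by omega) h
  omega

end MaxCount

end Cfsg.Agent.Helper4.HallEnum
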