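import Mathlib

set_option autoImplicit false

namespace Cfsg.Agent.Helper4

theorem map_conj_one {G : Type*} [Group G] (K : Subgroup G) :
    K.map (MulAut.conj (1 : G)).toMonoidHom = K := by
  ext k
  simp

theorem map_conj_mul {G : Type*} [Group G] (K : Subgroup G) (a b : G) :
    K.map (MulAut.conj (a * b)).toMonoidHom =
      (K.map (MulAut.conj b).toMonoidHom).map (MulAut.conj a).toMonoidHom := by
  rw [Subgroup.map_map]
  congr 1
  ext x
  simp [MulAut.conj_apply, mul_assoc]

theorem mem_map_conj_iff {G : Type*} [Group G] (K : Subgroup G) (g x : G) :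
    x ∈ K.map (MulAut.conj g).toMonoidHom ↔ g⁻¹ * x * g ∈ K := by
  constructor
  · rintro ⟨k, hk, rfl⟩
    simpa [MulAut.conj_apply, mul_assoc] using hk
  · intro h
    exact ⟨g⁻¹ * x * g, h, by simp [MulAut.conj_apply, mul_assoc]⟩

open Pointwise in
theorem map_conj_eq_smul {G : Type*} [Group G] (K : Subgroup G) (g : G) :
    K.map (MulAut.conj g).toMonoidHom = MulAut.conj g • K := rfl

theorem mem_normalizer_of_map_conj_eq {G : Type*} [Group G] (K : Subgroup G) (g : G)
    (h : K.map (MulAut.conj g).toMonoidHom = K) : g ∈ Subgroup.normalizer (K : Set G) := by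
  rw [Subgroup.mem_normalizer_iff]
  intro k
  constructor
  · intro hk
    have : g * k * g⁻¹ ∈ K.map (MulAut.conj g).toMonoidHom := ⟨k, hk, by simp [MulAut.conj_apply]⟩
    rwa [h] at this
  · intro hk
    rw [← h, mem_map_conj_iff] at hk
    simpa [mul_assoc] using hk

theorem map_conj_eq_of_mem_normalizer {G : Type*} [Group G] (K : Subgroup G) (g : G)
    (h : g ∈ Subgroup.normalizer (K : Set G)) : K.map (MulAut.conj g).toMonoidHom = K := by
  rw [Subgroup.mem_normalizer_iff] at h
  ext k
  rw [mem_map_conj_iff, h]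
  simp [mul_assoc]

end Cfsg.Agent.Helper4
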