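import Mathlib
import Cfsg.Agent.Helper6.GaloisChar

/-!
# M11 cluster, piece C10-EIG: an eigenvalue inequality for elements of order 10

If `χ` has degree 10, vanishes on the nontrivial powers of `z ^ 2` (`z ^ 10 = 1`) and
`χ (z ^ 5) = a ∈ ℤ`, then `∑_{j = 1,3,7,9} |χ (z ^ j)|² ≥ |a| (10 - |a|)`.
-/

set_option autoImplicit false

namespace Cfsg.Agent.Helper2.M11

open Module Representation Finset
open scoped ComplexConjugate

universe u v

theorem h4_geom5 (y : ℂ) (hy : y ^ 5 = 1) :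
    ∑ l ∈ Finset.range 5, y ^ l = if y = 1 then 5 else 0 := by
  split_ifs with h
  · subst h; simp
  · rw [geom_sum_eq h, hy, sub_self, zero_div]

/-- The abstract statement about ten 10-th roots of unity. -/
theorem h4_eig10_aux {ι : Type*} [Fintype ι] (μ : ι → ℂ) (hμ : ∀ i, μ i ^ 10 = 1)
    (hcard : Fintype.card ι = 10)
    (h2 : ∑ i, μ i ^ 2 = 0) (h4 : ∑ i, μ i ^ 4 = 0) (h6 : ∑ i, μ i ^ 6 = 0)
    (h8 : ∑ i, μ i ^ 8 = 0) (a : ℤ) (ha : ∑ i, μ i ^ 5 = (a : ℂ)) :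
    ((|a| * (10 - |a|) : ℤ) : ℝ) ≤ ‖∑ i, μ i‖ ^ 2 + ‖∑ i, μ i ^ 3‖ ^ 2
        + ‖∑ i, μ i ^ 7‖ ^ 2 + ‖∑ i, μ i ^ 9‖ ^ 2 := by
  classical
  have hne : ∀ i, μ i ≠ 0 := by
    intro i h0
    have := hμ i
    rw [h0] at this
    norm_num at this
  -- signs
  have hs5 : ∀ i, μ i ^ 5 = 1 ∨ μ i ^ 5 = -1 := by
    intro i
    have h : μ i ^ 5 * μ i ^ 5 = 1 := by rw [← pow_add]; exact hμ i
    exact mul_self_eq_one_iff.mp h
  have hex : ∀ i, ∃ t : ℝ, μ i ^ 5 = ((t : ℝ) : ℂ) ∧ (t = 1 ∨ t = -1) := by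
    intro i
    rcases hs5 i with h | h
    · exact ⟨1, by rw [h]; norm_num, Or.inl rfl⟩
    · exact ⟨-1, by rw [h]; norm_num, Or.inr rfl⟩
  choose s hsμ hs using hex
  -- classes
  set C : ι → Finset ι := fun i => Finset.univ.filter (fun j => μ j ^ 2 = μ i ^ 2) with hCdef
  have hν5 : ∀ i, (μ i ^ 2) ^ 5 = 1 := by
    intro i; rw [← pow_mul]; exact hμ i
  have hC : ∀ i, (C i).card = 2 := by
    intro i
    have key : (5 : ℂ) * ((C i).card : ℂ) = 10 := by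
      have e1 : (5 : ℂ) * ((C i).card : ℂ) = ∑ j, (if μ j ^ 2 = μ i ^ 2 then (5 : ℂ) else 0) := by
        rw [Finset.sum_ite, Finset.sum_const_zero, add_zero, Finset.sum_const, nsmul_eq_mul,
          mul_comm]
      have e2 : ∀ j, (if μ j ^ 2 = μ i ^ 2 then (5 : ℂ) else 0)
          = ∑ l ∈ Finset.range 5, (μ j ^ 2 * (μ i ^ 2)⁻¹) ^ l := by
        intro j
        have h5 : (μ j ^ 2 * (μ i ^ 2)⁻¹) ^ 5 = 1 := by
          rw [mul_pow, inv_pow, hν5, hν5, inv_one, mul_one]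
        rw [h4_geom5 _ h5]
        have hi0 : μ i ^ 2 ≠ 0 := pow_ne_zero _ (hne i)
        have : (μ j ^ 2 * (μ i ^ 2)⁻¹ = 1) ↔ (μ j ^ 2 = μ i ^ 2) := by
          rw [mul_inv_eq_one₀ hi0]
        simp only [this]
      rw [e1, Finset.sum_congr rfl (fun j _ => e2 j), Finset.sum_comm]
      have e3 : ∀ l ∈ Finset.range 5, ∑ j, (μ j ^ 2 * (μ i ^ 2)⁻¹) ^ l
          = ((μ i ^ 2)⁻¹) ^ l * ∑ j, μ j ^ (2 * l) := by
        intro l _
        rw [Finset.mul_sum]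
        apply Finset.sum_congr rfl
        intro j _
        rw [mul_pow, pow_mul]; ring
      rw [Finset.sum_congr rfl e3]
      simp only [Finset.sum_range_succ, Finset.sum_range_zero, zero_add, Nat.mul_zero, pow_zero,
        Nat.mul_one, one_mul]
      norm_num [h2, h4, h6, h8, hcard]
    have : (5 * (C i).card : ℕ) = 10 := by exact_mod_cast key
    omega
  have hiC : ∀ i, i ∈ C i := by
    intro i; simp [hCdef]
  -- T
  set T : ℝ := ∑ i, ∑ j ∈ C i, s i * s j with hT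
  -- odd power sums
  have hconj : ∀ j, conj (μ j) = (μ j)⁻¹ :=
    fun j => (Cfsg.Agent.Helper6.inv_eq_conj_of_pow_eq_one (by norm_num : 0 < 10) (hμ j)).symm
  have hnorm : ∀ k : ℕ, ((‖∑ i, μ i ^ k‖ : ℝ) : ℂ) ^ 2
      = ∑ i, ∑ j, (μ i * (μ j)⁻¹) ^ k := by
    intro k
    rw [← Complex.ofReal_pow, ← Complex.normSq_eq_norm_sq, ← Complex.mul_conj, map_sum,
      Finset.sum_mul_sum]
    apply Finset.sum_congr rfl; intro i _
    apply Finset.sum_congr rfl; intro j _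
    rw [map_pow, hconj, mul_pow]
  have hodd : ‖∑ i, μ i ^ 1‖ ^ 2 + ‖∑ i, μ i ^ 3‖ ^ 2 + ‖∑ i, μ i ^ 5‖ ^ 2
      + ‖∑ i, μ i ^ 7‖ ^ 2 + ‖∑ i, μ i ^ 9‖ ^ 2 = 5 * T := by
    apply Complex.ofReal_injective
    push_cast
    rw [hnorm 1, hnorm 3, hnorm 5, hnorm 7, hnorm 9]
    simp only [← Finset.sum_add_distrib]
    rw [hT]
    push_cast
    rw [Finset.mul_sum]
    apply Finset.sum_congr rfl; intro i _
    rw [hCdef]
    simp only [Finset.sum_filter, Finset.mul_sum]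
    apply Finset.sum_congr rfl; intro j _
    set x := μ i * (μ j)⁻¹ with hx
    have hx10 : x ^ 10 = 1 := by rw [hx, mul_pow, inv_pow, hμ, hμ, inv_one, mul_one]
    have hx25 : (x ^ 2) ^ 5 = 1 := by rw [← pow_mul]; exact hx10
    have hgeo := h4_geom5 (x ^ 2) hx25
    have hj0 : μ j ^ 2 ≠ 0 := pow_ne_zero _ (hne j)
    have hiff : (x ^ 2 = 1) ↔ (μ j ^ 2 = μ i ^ 2) := by
      rw [hx, mul_pow, inv_pow, mul_inv_eq_one₀ hj0]
      exact eq_comm
    have hsum : x ^ 1 + x ^ 3 + x ^ 5 + x ^ 7 + x ^ 9 = x * ∑ l ∈ Finset.range 5, (x ^ 2) ^ l := by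
      simp only [Finset.sum_range_succ, Finset.sum_range_zero]
      ring
    rw [hsum, hgeo]
    by_cases hc : μ j ^ 2 = μ i ^ 2
    · have hx2 : x ^ 2 = 1 := hiff.mpr hc
      rw [if_pos hx2, if_pos hc]
      have hx5 : x ^ 5 = x := by
        have : x ^ 5 = (x ^ 2) ^ 2 * x := by ring
        rw [this, hx2, one_pow, one_mul]
      have hx5' : x ^ 5 = ((s i : ℝ) : ℂ) * ((s j : ℝ) : ℂ) := by
        rw [hx, mul_pow, inv_pow, hsμ i, hsμ j]
        rcases hs j with h | h <;> rw [h] <;> norm_num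
      rw [← hx5, hx5']
      ring
    · have hx2 : ¬ x ^ 2 = 1 := fun h => hc (hiff.mp h)
      rw [if_neg hx2, if_neg hc, mul_zero, mul_zero]
  -- sum of signs
  have hsum_s : (∑ i, s i : ℝ) = (a : ℝ) := by
    apply Complex.ofReal_injective
    push_cast
    rw [← ha]
    exact Finset.sum_congr rfl (fun i _ => (hsμ i).symm)
  have hdouble : ∑ i, ∑ j ∈ C i, s j = 2 * (a : ℝ) := by
    rw [← hsum_s, hCdef]
    simp only [Finset.sum_filter]
    rw [Finset.sum_comm, Finset.mul_sum]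
    apply Finset.sum_congr rfl; intro j _
    rw [← Finset.sum_filter]
    have : (Finset.univ.filter (fun i => μ j ^ 2 = μ i ^ 2)) = C j := by
      rw [hCdef]
      apply Finset.filter_congr
      intro i _
      exact eq_comm
    rw [this, Finset.sum_const, hC j]
    simp
  have hlocal : ∀ i, |∑ j ∈ C i, s j| ≤ ∑ j ∈ C i, s i * s j := by
    intro i
    obtain ⟨x, y, hxy, hCxy⟩ := Finset.card_eq_two.mp (hC i)
    have hi := hiC i
    rw [hCxy] at hi ⊢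
    rw [Finset.sum_pair hxy, Finset.sum_pair hxy]
    rcases Finset.mem_insert.mp hi with h | h
    · subst h
      rcases hs i with h1 | h1 <;> rcases hs y with h2 | h2 <;> rw [h1, h2] <;> norm_num
    · rw [Finset.mem_singleton] at h
      subst h
      rcases hs i with h1 | h1 <;> rcases hs x with h2 | h2 <;> rw [h1, h2] <;> norm_num
  have hTa : 2 * |(a : ℝ)| ≤ T := by
    have h1 : |2 * (a : ℝ)| ≤ ∑ i, |∑ j ∈ C i, s j| := by
      rw [← hdouble]
      exact Finset.abs_sum_le_sum_abs _ _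
    have h2' : ∑ i, |∑ j ∈ C i, s j| ≤ T := by
      rw [hT]
      exact Finset.sum_le_sum (fun i _ => hlocal i)
    have h3 : |2 * (a : ℝ)| = 2 * |(a : ℝ)| := by
      rw [abs_mul]; norm_num
    linarith
  have h5norm : ‖∑ i, μ i ^ 5‖ ^ 2 = (a : ℝ) ^ 2 := by
    rw [ha, Complex.norm_intCast, sq_abs]
  have hodd' : ‖∑ i, μ i‖ ^ 2 + ‖∑ i, μ i ^ 3‖ ^ 2 + ‖∑ i, μ i ^ 7‖ ^ 2 + ‖∑ i, μ i ^ 9‖ ^ 2
      = 5 * T - (a : ℝ) ^ 2 := by
    have := hodd
    simp only [pow_one] at this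
    linarith
  rw [hodd']
  push_cast
  have habs : |(a : ℝ)| ^ 2 = (a : ℝ) ^ 2 := sq_abs _
  nlinarith [hTa, abs_nonneg (a : ℝ)]

/-- **C10-EIG**: the eigenvalue inequality for an element of order dividing 10 in a
representation of degree 10 whose character vanishes on the nontrivial powers of `z ^ 2`. -/
theorem eig10 {G : Type u} [Group G] [Finite G] {V : Type v} [AddCommGroup V] [Module ℂ V]
    [FiniteDimensional ℂ V]
    (ρ : Representation ℂ G V) (z : G) (hz : z ^ 10 = 1) (hdim : Module.finrank ℂ V = 10)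
    (h2 : ρ.character (z ^ 2) = 0) (h4 : ρ.character (z ^ 4) = 0)
    (h6 : ρ.character (z ^ 6) = 0) (h8 : ρ.character (z ^ 8) = 0)
    (a : ℤ) (ha : ρ.character (z ^ 5) = (a : ℂ)) :
    ((|a| * (10 - |a|) : ℤ) : ℝ) ≤ ‖ρ.character z‖ ^ 2 + ‖ρ.character (z ^ 3)‖ ^ 2
        + ‖ρ.character (z ^ 7)‖ ^ 2 + ‖ρ.character (z ^ 9)‖ ^ 2 := by
  obtain ⟨ι, hι, b, μ, h1, hord, hcard⟩ := Cfsg.Agent.Helper6.exists_eigenbasis_rep ρ z
  have hμ : ∀ i, μ i ^ 10 = 1 := by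
    intro i
    obtain ⟨c, hc⟩ := orderOf_dvd_of_pow_eq_one hz
    rw [hc, pow_mul, hord i, one_pow]
  have hpow : ∀ k : ℕ, ρ.character (z ^ k) = ∑ i, μ i ^ k :=
    Cfsg.Agent.Helper6.char_pow_eq_sum ρ z b μ h1
  have hone : ρ.character z = ∑ i, μ i := by
    have := hpow 1
    simpa using this
  rw [hone, hpow 3, hpow 7, hpow 9]
  rw [hpow 2] at h2
  rw [hpow 4] at h4
  rw [hpow 6] at h6
  rw [hpow 8] at h8
  rw [hpow 5] at ha
  exact h4_eig10_aux μ hμ (hcard.trans hdim) h2 h4 h6 h8 a ha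

end Cfsg.Agent.Helper2.M11
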