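import Mathlib
import Cfsg.Prelude.Def_Characters
import Cfsg.Prelude.Def_Blocks
import Cfsg.Agent.Helper6.ColumnOrth
import Cfsg.Agent.Helper6.OddDegRealA
import Cfsg.Agent.Helper6.BlockPart
import Cfsg.Agent.Helper4.Bsw2.ClassMult

/-!
# M11 cluster: the two involution identities, in list form (shared by INV-A and INV-B)

`L` is a duplicate-free list of irreducible characters containing every character that does not
vanish at `s` (`orderOf s = 11`), `u` an involution, and no involution inverts `s`.  Then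
* column `(u, s)`: `∑_{χ ∈ L} χ(u) conj χ(s) = 0`;
* `a(u, u, s) = 0`: `∑_{χ ∈ L} χ(u)² conj χ(s) / χ(1) = 0`.
-/

set_option autoImplicit false

namespace Cfsg.Agent.Helper2.M11

open Cfsg.Agent.Helper6
open scoped ComplexConjugate

universe u

/-- splitting a sum over all irreducible characters along a duplicate-free list outside which
the summand vanishes -/
theorem h4_sum_eq_list_sum {ι : Type*} [Fintype ι] [DecidableEq ι] (L : List ι) (hL : L.Nodup)
    (f : ι → ℂ) (h0 : ∀ i, i ∉ L → f i = 0) : ∑ i, f i = (L.map f).sum := by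
  rw [← List.sum_toFinset f hL]
  symm
  apply Finset.sum_subset (Finset.subset_univ _)
  intro i _ hi
  apply h0
  simpa using hi

theorem h4_inv_common {G : Type u} [Group G] [Fintype G] [Fintype (Cfsg.IrrCharacter G)]
    (L : List (Cfsg.IrrCharacter G)) (hL : L.Nodup)
    (s u : G) (hs11 : orderOf s = 11) (hu : orderOf u = 2)
    (hinv : ∀ g : G, orderOf g = 2 → g * s * g⁻¹ ≠ s⁻¹)
    (hrest : ∀ χ : Cfsg.IrrCharacter G, χ ∉ L → (χ : G → ℂ) s = 0) :
    (L.map (fun χ : Cfsg.IrrCharacter G => (χ : G → ℂ) u * conj ((χ : G → ℂ) s))).sum = 0 ∧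
    (L.map (fun χ : Cfsg.IrrCharacter G =>
      (χ : G → ℂ) u * (χ : G → ℂ) u * conj ((χ : G → ℂ) s) / (χ : G → ℂ) 1)).sum = 0 := by
  classical
  have hnc : ¬ IsConj u s := by
    intro h
    obtain ⟨c, hc⟩ := h
    have := SemiconjBy.orderOf_eq (c : G) hc
    rw [hu, hs11] at this
    norm_num at this
  constructor
  · have h1 := column_orthogonality_aux u s
    rw [if_neg hnc] at h1
    rw [← h1]
    symm
    apply h4_sum_eq_list_sum L hL
    intro χ hχ
    rw [hrest χ hχ, map_zero, mul_zero]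
  · have h2 := Cfsg.Agent.Helper4.Bsw2.class_mult_count u u s
    have hlhs : ∑ x ∈ classFinset u, ∑ y ∈ classFinset u, (if x * y = s then (1 : ℂ) else 0) = 0 := by
      apply Finset.sum_eq_zero
      intro x hx
      apply Finset.sum_eq_zero
      intro y hy
      rw [if_neg]
      intro hxy
      rw [mem_classFinset] at hx hy
      have hx2 : orderOf x = 2 := by
        obtain ⟨c, hc⟩ := hx
        rw [← SemiconjBy.orderOf_eq (c : G) hc, hu]
      have hy2 : orderOf y = 2 := by
        obtain ⟨c, hc⟩ := hy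
        rw [← SemiconjBy.orderOf_eq (c : G) hc, hu]
      have hxx : x * x = 1 := by
        have := pow_orderOf_eq_one x
        rw [hx2, pow_two] at this
        exact this
      have hyy : y * y = 1 := by
        have := pow_orderOf_eq_one y
        rw [hy2, pow_two] at this
        exact this
      apply hinv x hx2
      have hxinv : x⁻¹ = x := inv_eq_of_mul_eq_one_right hxx
      have hyinv : y⁻¹ = y := inv_eq_of_mul_eq_one_right hyy
      rw [← hxy, mul_inv_rev, hxinv, hyinv]
      calc x * (x * y) * x = (x * x) * y * x := by group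
        _ = y * x := by rw [hxx, one_mul]
    rw [hlhs] at h2
    have hcl : ((classFinset u).card : ℂ) ≠ 0 := by
      have : u ∈ classFinset u := by rw [mem_classFinset]
      have hpos : 0 < (classFinset u).card := Finset.card_pos.mpr ⟨u, this⟩
      exact_mod_cast hpos.ne'
    have hG0 : (Nat.card G : ℂ) ≠ 0 := by
      have : 0 < Nat.card G := Nat.card_pos
      exact_mod_cast this.ne'
    have h3 : ∑ χ : Cfsg.IrrCharacter G,
        (χ : G → ℂ) u * (χ : G → ℂ) u * conj ((χ : G → ℂ) s) / (χ : G → ℂ) 1 = 0 := by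
      have hne : ((classFinset u).card : ℂ) * ((classFinset u).card : ℂ) / (Nat.card G : ℂ) ≠ 0 :=
        div_ne_zero (mul_ne_zero hcl hcl) hG0
      rcases mul_eq_zero.mp h2.symm with h | h
      · exact absurd h hne
      · exact h
    rw [← h3]
    symm
    apply h4_sum_eq_list_sum L hL
    intro χ hχ
    rw [hrest χ hχ, map_zero, mul_zero, zero_div]

/-- the value of an irreducible character at an involution, as an integer with its parity -/
theorem h4_involution_value {G : Type u} [Group G] [Finite G] (χ : Cfsg.IrrCharacter G) (u : G)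
    (hu : orderOf u = 2) :
    ∃ v : ℤ, (χ : G → ℂ) u = (v : ℂ) ∧
      ∃ m : ℤ, v = (Cfsg.charDegree (χ : G → ℂ) : ℤ) + 2 * m := by
  have hχ : Cfsg.IsCharacter G (χ : G → ℂ) := IsIrrCharacter.isCharacter χ.2
  obtain ⟨m, hm⟩ := char_involution_parity hχ u hu
  refine ⟨(Cfsg.charDegree (χ : G → ℂ) : ℤ) + 2 * m, ?_, m, rfl⟩
  rw [hm, ← charDegree_cast_of_isCharacter hχ]
  push_cast
  ring

/-- `(2n + d)² = 11 d²` has no integer solution with `d ≠ 0`. -/
theorem h4_no_sqrt_eleven (m d : ℤ) (hd : d ≠ 0) (h : m ^ 2 = 11 * d ^ 2) : False := by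
  have hirr : Irrational (Real.sqrt (11 : ℕ)) := Nat.Prime.irrational_sqrt (by norm_num)
  apply hirr
  have hd' : (|d| : ℝ) ≠ 0 := by
    have : |d| ≠ 0 := abs_ne_zero.mpr hd
    exact_mod_cast this
  have hsq : Real.sqrt (11 : ℕ) = (|m| : ℝ) / (|d| : ℝ) := by
    rw [Real.sqrt_eq_iff_mul_self_eq (by positivity) (by positivity)]
    have hR : (m : ℝ) ^ 2 = 11 * (d : ℝ) ^ 2 := by exact_mod_cast h
    have h1 : (|m| : ℝ) ^ 2 = (m : ℝ) ^ 2 := sq_abs _
    have h2 : (|d| : ℝ) ^ 2 = (d : ℝ) ^ 2 := sq_abs _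
    rw [div_mul_div_comm, ← pow_two, ← pow_two, h1, h2, hR]
    have hd2 : (d : ℝ) ^ 2 ≠ 0 := by
      have : (d : ℝ) ≠ 0 := by exact_mod_cast hd
      positivity
    rw [mul_div_assoc, div_self hd2, mul_one]
    norm_num
  refine ⟨(|m| : ℚ) / (|d| : ℚ), ?_⟩
  rw [hsq]
  push_cast
  rfl

end Cfsg.Agent.Helper2.M11
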