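import Mathlib
import Cfsg.Agent.Helper2.M11_Case
import Cfsg.Agent.Helper4.M11_InvCommon

/-!
# M11 cluster, piece INV-B: the involution column in Case B
-/

set_option autoImplicit false

namespace Cfsg.Agent.Helper2.M11

open Cfsg.Agent.Helper6
open scoped ComplexConjugate

universe u

theorem inv_caseB {G : Type u} [Group G] [Fintype G] [Fintype (Cfsg.IrrCharacter G)]
    {K : Subgroup G} (B : CaseB K) (s : G) (hsK : s ∈ K) (hs11 : orderOf s = 11)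
    (hinv : ∀ g : G, orderOf g = 2 → g * s * g⁻¹ ≠ s⁻¹) (u : G) (hu : orderOf u = 2) :
    ∃ y₁ y₂ a₁ a₂ ℓ : ℤ, (B.Y₁ : G → ℂ) u = y₁ ∧ (B.Y₂ : G → ℂ) u = y₂ ∧
      (B.X₁ : G → ℂ) u = a₁ ∧ (B.X₂ : G → ℂ) u = a₂ ∧ (B.Λ₀ : G → ℂ) u = ℓ ∧
      (B.Λ₁ : G → ℂ) u = ℓ ∧ 1 + y₁ + y₂ - a₁ - a₂ - ℓ = 0 ∧
      60 + 5 * (y₁ ^ 2 + y₂ ^ 2) = 6 * (a₁ ^ 2 + a₂ ^ 2) + 12 * ℓ ^ 2 ∧
      Even y₁ ∧ Even y₂ ∧ Even a₁ ∧ Even a₂ ∧ Odd ℓ := by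
  classical
  have hs1 : s ≠ 1 := by
    intro h
    rw [h, orderOf_one] at hs11
    norm_num at hs11
  -- integer values at u
  obtain ⟨y₁, hy₁, m₁, hm₁⟩ := h4_involution_value B.Y₁ u hu
  obtain ⟨y₂, hy₂, m₂, hm₂⟩ := h4_involution_value B.Y₂ u hu
  obtain ⟨a₁, ha₁, n₁, hn₁⟩ := h4_involution_value B.X₁ u hu
  obtain ⟨a₂, ha₂, n₂, hn₂⟩ := h4_involution_value B.X₂ u hu
  obtain ⟨ℓ₀, hℓ₀, k₀, hk₀⟩ := h4_involution_value B.Λ₀ u hu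
  obtain ⟨ℓ₁, hℓ₁, k₁, hk₁⟩ := h4_involution_value B.Λ₁ u hu
  rw [B.degY₁] at hm₁
  rw [B.degY₂] at hm₂
  rw [B.degX₁] at hn₁
  rw [B.degX₂] at hn₂
  rw [B.degΛ₀] at hk₀
  rw [B.degΛ₁] at hk₁
  -- degrees as complex numbers
  have hdeg : ∀ χ : Cfsg.IrrCharacter G, (χ : G → ℂ) 1 = (Cfsg.charDegree (χ : G → ℂ) : ℂ) :=
    fun χ => (charDegree_cast_of_isCharacter (IsIrrCharacter.isCharacter χ.2)).symm
  have hdΛ₀ : (B.Λ₀ : G → ℂ) 1 = 5 := by rw [hdeg, B.degΛ₀]; norm_num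
  have hdΛ₁ : (B.Λ₁ : G → ℂ) 1 = 5 := by rw [hdeg, B.degΛ₁]; norm_num
  have hdY₁ : (B.Y₁ : G → ℂ) 1 = 12 := by rw [hdeg, B.degY₁]; norm_num
  have hdY₂ : (B.Y₂ : G → ℂ) 1 = 12 := by rw [hdeg, B.degY₂]; norm_num
  have hdX₁ : (B.X₁ : G → ℂ) 1 = 10 := by rw [hdeg, B.degX₁]; norm_num
  have hdX₂ : (B.X₂ : G → ℂ) 1 = 10 := by rw [hdeg, B.degX₂]; norm_num
  have htriv : ∀ g : G, ((triv G : Cfsg.IrrCharacter G) : G → ℂ) g = 1 := fun _ => rfl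
  -- the two identities
  obtain ⟨hcol, hmult⟩ := h4_inv_common [triv G, B.Λ₀, B.Λ₁, B.Y₁, B.Y₂, B.X₁, B.X₂] B.nodup
    s u hs11 hu hinv (fun χ hχ => (B.rest χ hχ).1 s hsK hs1)
  simp only [List.map_cons, List.map_nil, List.sum_cons, List.sum_nil, add_zero] at hcol hmult
  rw [htriv, htriv, B.valΛ₀ s hsK hs1, B.valΛ₁ s hsK hs1, B.valY₁ s hsK hs1, B.valY₂ s hsK hs1,
    B.valX₁ s hsK hs1, B.valX₂ s hsK hs1, hℓ₀, hℓ₁, hy₁, hy₂, ha₁, ha₂] at hcol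
  rw [htriv, htriv, htriv, B.valΛ₀ s hsK hs1, B.valΛ₁ s hsK hs1, B.valY₁ s hsK hs1,
    B.valY₂ s hsK hs1, B.valX₁ s hsK hs1, B.valX₂ s hsK hs1, hℓ₀, hℓ₁, hy₁, hy₂, ha₁, ha₂,
    hdΛ₀, hdΛ₁, hdY₁, hdY₂, hdX₁, hdX₂] at hmult
  simp only [map_one, map_neg, mul_one] at hcol hmult
  set x : ℂ := B.x s with hx
  set y : ℂ := B.y s with hy
  have hxy : x + y = -1 := B.hxy s hsK hs1
  have hxy2 : x * conj x + y * conj y = 6 := B.hxy2 s hsK hs1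
  have hcxy : conj x + conj y = -1 := by
    have := congrArg conj hxy
    simpa using this
  -- ℓ₀ = ℓ₁
  have hℓ : ℓ₀ = ℓ₁ := by
    by_contra hne
    have hd : ℓ₀ - ℓ₁ ≠ 0 := sub_ne_zero.mpr hne
    set n : ℤ := ℓ₁ - 1 - y₁ - y₂ + a₁ + a₂ with hn
    have hcy : conj y = -1 - conj x := by linear_combination hcxy
    have e1 : ((ℓ₀ - ℓ₁ : ℤ) : ℂ) * conj x = (n : ℂ) := by
      rw [hcy] at hcol
      rw [hn]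
      push_cast
      linear_combination hcol
    have hdC : ((ℓ₀ - ℓ₁ : ℤ) : ℂ) ≠ 0 := by exact_mod_cast hd
    have hcx : conj x = (n : ℂ) / ((ℓ₀ - ℓ₁ : ℤ) : ℂ) := by
      rw [eq_div_iff hdC, mul_comm]; exact e1
    have hxq : x = (n : ℂ) / ((ℓ₀ - ℓ₁ : ℤ) : ℂ) := by
      have := congrArg conj hcx
      simpa using this
    have hyq : y = -1 - x := by linear_combination hxy
    rw [hcy, hyq, hcx, hxq] at hxy2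
    -- 2 n² + 2 n d - 5 d² = 0
    have e2 : (2 * n + (ℓ₀ - ℓ₁)) ^ 2 = 11 * (ℓ₀ - ℓ₁) ^ 2 := by
      have : ((2 * n + (ℓ₀ - ℓ₁) : ℤ) : ℂ) ^ 2 = 11 * ((ℓ₀ - ℓ₁ : ℤ) : ℂ) ^ 2 := by
        field_simp at hxy2
        push_cast at hxy2 ⊢
        linear_combination 2 * hxy2
      exact_mod_cast this
    exact h4_no_sqrt_eleven _ _ hd e2
  subst hℓ
  refine ⟨y₁, y₂, a₁, a₂, ℓ₀, hy₁, hy₂, ha₁, ha₂, hℓ₀, hℓ₁, ?_, ?_, ?_, ?_, ?_, ?_, ?_⟩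
  · have : ((1 + y₁ + y₂ - a₁ - a₂ - ℓ₀ : ℤ) : ℂ) = 0 := by
      push_cast
      linear_combination hcol - (ℓ₀ : ℂ) * hcxy
    exact_mod_cast this
  · have : ((60 + 5 * (y₁ ^ 2 + y₂ ^ 2) : ℤ) : ℂ) = ((6 * (a₁ ^ 2 + a₂ ^ 2) + 12 * ℓ₀ ^ 2 : ℤ) : ℂ) := by
      push_cast
      linear_combination 60 * hmult - 12 * (ℓ₀ : ℂ) ^ 2 * hcxy
    exact_mod_cast this
  · exact ⟨6 + m₁, by rw [hm₁]; push_cast; ring⟩
  · exact ⟨6 + m₂, by rw [hm₂]; push_cast; ring⟩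
  · exact ⟨5 + n₁, by rw [hn₁]; push_cast; ring⟩
  · exact ⟨5 + n₂, by rw [hn₂]; push_cast; ring⟩
  · exact ⟨2 + k₀, by rw [hk₀]; push_cast; ring⟩

end Cfsg.Agent.Helper2.M11
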