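import Mathlib
import Cfsg.Agent.Helper4.PrimitiveSocle

set_option autoImplicit false

namespace Cfsg.Agent.Helper4

open MulAction

/-- A minimal normal subgroup of a solvable group is abelian. -/
theorem minNormal_commute_of_solvable {G : Type*} [Group G] [hs : Group.IsSolvable G]
    (M : Subgroup G) [hMn : M.Normal] (hM : M ≠ ⊥)
    (hmin : ∀ K : Subgroup G, K.Normal → K ≤ M → K = ⊥ ∨ K = M) :
    ∀ a ∈ M, ∀ b ∈ M, a * b = b * a := by
  have hDn : (⁅M, M⁆ : Subgroup G).Normal := Subgroup.commutator_normal M M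
  have hDle : (⁅M, M⁆ : Subgroup G) ≤ M := Subgroup.commutator_le_left M M
  rcases hmin _ hDn hDle with h | h
  · rw [Subgroup.commutator_eq_bot_iff_le_centralizer] at h
    intro a ha b hb
    exact (h hb a ha)
  · exfalso
    obtain ⟨n, hn⟩ := hs.solvable
    have hall : ∀ k : ℕ, M ≤ derivedSeries G k := by
      intro k
      induction k with
      | zero => exact le_top
      | succ k ih =>
        rw [derivedSeries_succ]
        calc M = ⁅M, M⁆ := h.symm
          _ ≤ ⁅derivedSeries G k, derivedSeries G k⁆ := Subgroup.commutator_mono ih ih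
    have := hall n
    rw [hn] at this
    exact hM (le_bot_iff.mp this)

/-- An abelian minimal normal subgroup of a finite group has prime exponent. -/
theorem exists_prime_exponent_of_abelian_minNormal {G : Type*} [Group G] [Finite G]
    (M : Subgroup G) [hMn : M.Normal] (hM : M ≠ ⊥)
    (hmin : ∀ K : Subgroup G, K.Normal → K ≤ M → K = ⊥ ∨ K = M)
    (hcomm : ∀ a ∈ M, ∀ b ∈ M, a * b = b * a) :
    ∃ p : ℕ, p.Prime ∧ ∀ m ∈ M, m ^ p = 1 := by
  haveI hMnt : Nontrivial M := (Subgroup.nontrivial_iff_ne_bot _).mpr hM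
  obtain ⟨p, hp, hpM⟩ := Nat.exists_prime_and_dvd (Finite.one_lt_card (α := M)).ne'
  haveI : Fact p.Prime := ⟨hp⟩
  let R : Subgroup G :=
    { carrier := {x | x ∈ M ∧ x ^ p = 1}
      mul_mem' := by
        rintro a b ⟨ha, hap⟩ ⟨hb, hbp⟩
        refine ⟨M.mul_mem ha hb, ?_⟩
        have hc : Commute a b := hcomm a ha b hb
        rw [hc.mul_pow, hap, hbp, one_mul]
      one_mem' := ⟨M.one_mem, one_pow p⟩
      inv_mem' := by
        rintro a ⟨ha, hap⟩
        exact ⟨M.inv_mem ha, by rw [inv_pow, hap, inv_one]⟩ }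
  have hRn : R.Normal := ⟨fun x hx g => ⟨hMn.conj_mem x hx.1 g, by
    rw [conj_pow, hx.2, mul_one, mul_inv_cancel]⟩⟩
  have hRne : R ≠ ⊥ := by
    obtain ⟨x, hx⟩ := exists_prime_orderOf_dvd_card' p hpM
    intro h
    have hxR : (x : G) ∈ R := ⟨x.2, by
      have : x ^ p = 1 := by rw [← hx]; exact pow_orderOf_eq_one x
      exact_mod_cast congrArg Subtype.val this⟩
    rw [h, Subgroup.mem_bot] at hxR
    have hx1 : x = 1 := Subtype.ext hxR
    rw [hx1, orderOf_one] at hx
    exact hp.one_lt.ne hx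
  have hRM : R = M := (hmin R hRn (fun x hx => hx.1)).resolve_left hRne
  refine ⟨p, hp, fun m hm => ?_⟩
  have : m ∈ R := by rw [hRM]; exact hm
  exact this.2

/-- An abelian transitive subgroup of a faithful group is regular. -/
theorem eq_one_of_abelian_transitive {G Ω : Type*} [Group G] [MulAction G Ω] [FaithfulSMul G Ω]
    (M : Subgroup G) [IsPretransitive M Ω] (hcomm : ∀ a ∈ M, ∀ b ∈ M, a * b = b * a)
    (m : G) (hm : m ∈ M) (ω : Ω) (hω : m • ω = ω) : m = 1 :=
  eq_one_of_commute_transitive M m (fun k hk => hcomm m hm k hk) ω hω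

end Cfsg.Agent.Helper4
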