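import Mathlib
import Cfsg.Agent.Helper4.ClassSize
import Cfsg.Agent.Helper4.HallConverseA
import Cfsg.Agent.Helper4.PiParts
import Cfsg.Agent.Helper4.AbelPComplA

/-!
Generic lemmas on centralizers and class sizes used for the theorem on groups whose two largest
class sizes are coprime.
-/

set_option autoImplicit false

namespace Cfsg.Agent.Helper4.TwoClass

variable {G : Type*} [Group G]

/-- centralizer of an element -/
abbrev C (g : G) : Subgroup G := Subgroup.centralizer ({g} : Set G)

/-- class size of an element -/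
noncomputable abbrev cs (g : G) : ℕ := (Subgroup.centralizer ({g} : Set G)).index

theorem mem_C {g k : G} : k ∈ C g ↔ k * g = g * k := Subgroup.mem_centralizer_singleton_iff

theorem self_mem_C (g : G) : g ∈ C g := mem_C.2 rfl

theorem center_le_C (g : G) : Subgroup.center G ≤ C g := Subgroup.center_le_centralizer _

theorem mem_C_comm {g k : G} : k ∈ C g ↔ g ∈ C k := by
  rw [mem_C, mem_C]; exact eq_comm

theorem cs_pos [Finite G] (g : G) : 0 < cs g :=
  Nat.pos_of_ne_zero Subgroup.index_ne_zero_of_finite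

theorem cs_eq_one_iff (a : G) : cs a = 1 ↔ a ∈ Subgroup.center G := by
  unfold cs
  rw [Subgroup.index_eq_one, Subgroup.centralizer_eq_top_iff_subset, Set.singleton_subset_iff]
  rfl

theorem cs_conj (g a : G) : cs (g * a * g⁻¹) = cs a := by
  unfold cs
  rw [index_centralizer_eq_card_conj, index_centralizer_eq_card_conj]
  apply Nat.card_congr
  refine Equiv.subtypeEquivRight ?_
  intro y
  have h : IsConj a (g * a * g⁻¹) := isConj_iff.2 ⟨g, rfl⟩
  exact ⟨fun h1 => h.trans h1, fun h1 => h.symm.trans h1⟩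

theorem mem_C_conj {g a h : G} : h ∈ C (g * a * g⁻¹) ↔ g⁻¹ * h * g ∈ C a := by
  rw [mem_C, mem_C]
  constructor
  · intro e
    have := congrArg (fun t => g⁻¹ * t * g) e
    simpa [mul_assoc] using this
  · intro e
    have := congrArg (fun t => g * t * g⁻¹) e
    simpa [mul_assoc] using this

theorem cs_dvd_of_le {a b : G} (h : C a ≤ C b) : cs b ∣ cs a := Subgroup.index_dvd_of_le h

theorem C_le_of_mem_zpowers {a b : G} (h : b ∈ Subgroup.zpowers a) : C a ≤ C b := by
  intro k hk
  obtain ⟨i, rfl⟩ := Subgroup.mem_zpowers_iff.1 h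
  rw [mem_C] at hk ⊢
  exact (show Commute k a from hk).zpow_right i

theorem C_eq_of_le_of_cs_eq [Finite G] {a b : G} (h : C a ≤ C b) (hc : cs a = cs b) : C a = C b := by
  have h1 := Subgroup.relIndex_mul_index h
  have h2 : (C a).relIndex (C b) = 1 := by
    have hpos : 0 < (C b).index := cs_pos b
    have h3 : (C a).relIndex (C b) * (C b).index = 1 * (C b).index := by
      rw [h1, one_mul]; exact hc
    exact Nat.eq_of_mul_eq_mul_right hpos h3
  exact le_antisymm h (Subgroup.relIndex_eq_one.1 h2)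

theorem C_mul_central {a z : G} (hz : z ∈ Subgroup.center G) : C (a * z) = C a := by
  ext k
  rw [mem_C, mem_C]
  have hzk : z * k = k * z := (Subgroup.mem_center_iff.1 hz k).symm
  constructor
  · intro h
    have h1 : k * a * z = a * k * z := by
      calc k * a * z = k * (a * z) := by rw [mul_assoc]
        _ = a * z * k := h
        _ = a * (z * k) := by rw [mul_assoc]
        _ = a * (k * z) := by rw [hzk]
        _ = a * k * z := by rw [mul_assoc]
    exact mul_right_cancel h1
  · intro h
    calc k * (a * z) = k * a * z := by rw [mul_assoc]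
      _ = a * k * z := by rw [h]
      _ = a * (k * z) := by rw [mul_assoc]
      _ = a * (z * k) := by rw [hzk]
      _ = a * z * k := by rw [mul_assoc]

/-- For commuting elements of coprime orders, both lie in the cyclic group of the product. -/
theorem mem_zpowers_mul {a b : G} (hc : Commute a b) (hcop : (orderOf a).Coprime (orderOf b)) :
    a ∈ Subgroup.zpowers (a * b) ∧ b ∈ Subgroup.zpowers (a * b) := by
  have h1 : (a * b) ^ orderOf b = a ^ orderOf b := by
    rw [hc.mul_pow, pow_orderOf_eq_one, mul_one]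
  obtain ⟨m, hm⟩ := exists_pow_eq_self_of_coprime hcop.symm
  have ha : a ∈ Subgroup.zpowers (a * b) := by
    have h0 : ((a * b) ^ orderOf b) ^ m ∈ Subgroup.zpowers (a * b) :=
      Subgroup.pow_mem _ (Subgroup.npow_mem_zpowers (a * b) _) _
    rwa [h1, hm] at h0
  refine ⟨ha, ?_⟩
  have h2 : a⁻¹ * (a * b) ∈ Subgroup.zpowers (a * b) :=
    Subgroup.mul_mem _ (Subgroup.inv_mem _ ha) (Subgroup.mem_zpowers _)
  have h3 : a⁻¹ * (a * b) = b := by group
  rwa [h3] at h2

theorem C_mul_of_coprime {a b : G} (hc : Commute a b) (hcop : (orderOf a).Coprime (orderOf b)) :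
    C (a * b) = C a ⊓ C b := by
  obtain ⟨ha, hb⟩ := mem_zpowers_mul hc hcop
  apply le_antisymm
  · exact le_inf (C_le_of_mem_zpowers ha) (C_le_of_mem_zpowers hb)
  · intro k hk
    obtain ⟨h1, h2⟩ := Subgroup.mem_inf.1 hk
    rw [mem_C] at h1 h2 ⊢
    exact (show Commute k a from h1).mul_right h2

/-- A normal subgroup of order coprime to the index of `K` lies in `K`. -/
theorem normal_le_of_coprime [Finite G] (N K : Subgroup G) [N.Normal]
    (h : (Nat.card N).Coprime K.index) : N ≤ K := by
  -- image of `K` in `G ⧸ N`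
  have h1 : N.relIndex K = Nat.card (K.map (QuotientGroup.mk' N)) := by
    have := Subgroup.relIndex_ker (QuotientGroup.mk' N) (K := K)
    rwa [QuotientGroup.ker_mk'] at this
  have h2 : Nat.card (K.map (QuotientGroup.mk' N)) ∣ Nat.card (G ⧸ N) :=
    Subgroup.card_subgroup_dvd_card _
  obtain ⟨k, hk⟩ := h2
  have h3 : Nat.card N * Nat.card (G ⧸ N) = Nat.card G := by
    rw [← Subgroup.index_eq_card]; exact Subgroup.card_mul_index N
  have h4 : Nat.card K * K.index = Nat.card G := Subgroup.card_mul_index K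
  -- |K| = |K ⊓ N| * relIndex
  have h5 : Nat.card ((N ⊓ K : Subgroup G)) * N.relIndex K = Nat.card K := by
    have := Subgroup.card_mul_index ((N ⊓ K).subgroupOf K)
    rw [Subgroup.inf_subgroupOf_right] at this
    have e : Nat.card ((N.subgroupOf K)) = Nat.card ((N ⊓ K : Subgroup G)) := by
      rw [← Subgroup.inf_subgroupOf_right]
      exact Nat.card_congr (Subgroup.subgroupOfEquivOfLe inf_le_right).toEquiv
    rw [e] at this
    exact this
  -- |N| = |N ⊓ K| * j
  obtain ⟨j, hj⟩ : Nat.card ((N ⊓ K : Subgroup G)) ∣ Nat.card N :=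
    Subgroup.card_dvd_of_le inf_le_left
  have hpos : 0 < Nat.card ((N ⊓ K : Subgroup G)) := Nat.card_pos
  have hposr : 0 < N.relIndex K := by
    rw [h1]; exact Nat.card_pos
  -- j * k = index K
  have h6 : j * k = K.index := by
    have e1 : Nat.card ((N ⊓ K : Subgroup G)) * N.relIndex K * K.index
        = Nat.card ((N ⊓ K : Subgroup G)) * N.relIndex K * (j * k) := by
      calc Nat.card ((N ⊓ K : Subgroup G)) * N.relIndex K * K.index
          = Nat.card K * K.index := by rw [h5]
        _ = Nat.card N * Nat.card (G ⧸ N) := by rw [h4, h3]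
        _ = (Nat.card ((N ⊓ K : Subgroup G)) * j) * (N.relIndex K * k) := by
            rw [← hj, h1, ← hk]
        _ = Nat.card ((N ⊓ K : Subgroup G)) * N.relIndex K * (j * k) := by ring
    exact (Nat.eq_of_mul_eq_mul_left (Nat.mul_pos hpos hposr) e1).symm
  have h7 : j ∣ Nat.card N := ⟨_, by rw [hj]; ring⟩
  have h8 : j ∣ K.index := ⟨k, h6.symm⟩
  have h9 : j = 1 := Nat.eq_one_of_dvd_coprimes h h7 h8
  rw [h9, mul_one] at hj
  have h10 : (N ⊓ K : Subgroup G) = N :=
    Subgroup.eq_of_le_of_card_ge inf_le_left (le_of_eq hj)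
  rw [← h10]
  exact inf_le_right

/-- Membership in a subgroup can be checked on prime-power-order powers. -/
theorem mem_of_primary_parts [Finite G] (S : Subgroup G) :
    ∀ (g : G), (∀ p : ℕ, p.Prime → ∀ b ∈ Subgroup.zpowers g, (∃ k : ℕ, orderOf b = p ^ k) → b ∈ S) →
      g ∈ S := by
  intro g
  induction' h : orderOf g using Nat.strong_induction_on with o ih generalizing g
  intro hg
  by_cases h1 : o = 1
  · rw [h1, orderOf_eq_one_iff] at h
    rw [h]; exact S.one_mem
  have ho0 : o ≠ 0 := by rw [← h]; exact (orderOf_pos g).ne'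
  set p := o.minFac with hp
  have hpp : p.Prime := Nat.minFac_prime h1
  have hpo : p ∣ o := Nat.minFac_dvd o
  obtain ⟨a, b, ha, hb, hpa, hpb, hab⟩ := PiParts.exists_decomp ({p} : Set ℕ) g
  have hao : ∃ k : ℕ, orderOf a = p ^ k := by
    refine ⟨_, Nat.eq_prime_pow_of_unique_prime_dvd (orderOf_pos a).ne' ?_⟩
    intro d hd hda
    exact hpa d hd hda
  have haS : a ∈ S := hg p hpp a ha hao
  have hbo : orderOf b ∣ o := by rw [← h]; exact orderOf_dvd_of_mem_zpowers hb
  have hbp : ¬ p ∣ orderOf b := fun hd => hpb p hpp hd rfl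
  have hlt : orderOf b < o := by
    apply lt_of_le_of_ne (Nat.le_of_dvd (Nat.pos_of_ne_zero ho0) hbo)
    intro e
    exact hbp (e ▸ hpo)
  have hbS : b ∈ S := by
    apply ih (orderOf b) hlt b rfl
    intro q hq c hc hco
    apply hg q hq c _ hco
    exact (Subgroup.zpowers_le.2 hb) hc
  rw [← hab]
  exact S.mul_mem haS hbS

/-- If the class sizes of `a` and `w` are coprime, `C(a)` is transitive on the class of `w`. -/
theorem exists_mem_C_conj_eq [Finite G] (a w : G) (hcop : (cs a).Coprime (cs w)) (g : G) :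
    ∃ c ∈ C a, c * w * c⁻¹ = g * w * g⁻¹ := by
  classical
  let S : Subgroup (C a) := (C w).subgroupOf (C a)
  let f : (C a) ⧸ S → {v : G // IsConj w v} := fun q =>
    Quotient.liftOn' q
      (fun c => (⟨(c : G) * w * (c : G)⁻¹, isConj_iff.2 ⟨c, rfl⟩⟩ : {v : G // IsConj w v}))
      (by
        intro c c' h
        rw [QuotientGroup.leftRel_apply] at h
        have h' : ((c : G))⁻¹ * (c' : G) ∈ C w := by
          have := Subgroup.mem_subgroupOf.1 h
          simpa using this
        rw [mem_C] at h'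
        apply Subtype.ext
        show (c : G) * w * (c : G)⁻¹ = (c' : G) * w * (c' : G)⁻¹
        calc (c : G) * w * (c : G)⁻¹
            = (c : G) * (w * ((c : G)⁻¹ * (c' : G))) * (c' : G)⁻¹ := by group
          _ = (c : G) * ((c : G)⁻¹ * (c' : G) * w) * (c' : G)⁻¹ := by rw [h']
          _ = (c' : G) * w * (c' : G)⁻¹ := by group)
  have hinj : Function.Injective f := by
    intro q q'
    refine Quotient.inductionOn₂' q q' ?_
    intro c c' h
    have h1 : (c : G) * w * (c : G)⁻¹ = (c' : G) * w * (c' : G)⁻¹ := congrArg Subtype.val h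
    apply Quotient.sound'
    rw [QuotientGroup.leftRel_apply]
    show c⁻¹ * c' ∈ (C w).subgroupOf (C a)
    rw [Subgroup.mem_subgroupOf]
    show ((c⁻¹ * c' : C a) : G) ∈ C w
    rw [mem_C]
    push_cast
    calc (c : G)⁻¹ * (c' : G) * w
        = (c : G)⁻¹ * ((c' : G) * w * (c' : G)⁻¹) * (c' : G) := by group
      _ = (c : G)⁻¹ * ((c : G) * w * (c : G)⁻¹) * (c' : G) := by rw [h1]
      _ = w * ((c : G)⁻¹ * (c' : G)) := by group
  have hc1 : Nat.card ((C a) ⧸ S) = cs w := by
    rw [← Subgroup.index_eq_card]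
    exact relIndex_of_coprime_index (C a) (C w) hcop
  have hc2 : Nat.card {v : G // IsConj w v} = cs w := (index_centralizer_eq_card_conj w).symm
  have hbij : Function.Bijective f :=
    hinj.bijective_of_nat_card_le (by rw [hc1, hc2])
  obtain ⟨q, hq⟩ := hbij.2 ⟨g * w * g⁻¹, isConj_iff.2 ⟨g, rfl⟩⟩
  induction q using Quotient.inductionOn' with
  | h c =>
    exact ⟨c, c.2, congrArg Subtype.val hq⟩

/-- With coprime class sizes, `G = C(a) C(w)`. -/
theorem exists_mul_of_coprime [Finite G] (a w : G) (hcop : (cs a).Coprime (cs w)) (g : G) :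
    ∃ c ∈ C a, ∃ d ∈ C w, g = c * d := by
  obtain ⟨c, hc, h⟩ := exists_mem_C_conj_eq a w hcop g
  refine ⟨c, hc, c⁻¹ * g, ?_, by group⟩
  rw [mem_C]
  calc c⁻¹ * g * w = c⁻¹ * (g * w * g⁻¹) * g := by group
    _ = c⁻¹ * (c * w * c⁻¹) * g := by rw [h]
    _ = w * (c⁻¹ * g) := by group

/-- If `p ∤ [G : K]`, then `K` contains a Sylow `p`-subgroup of `G`. -/
theorem exists_sylow_le_of_not_dvd_index [Finite G] (p : ℕ) [Fact p.Prime] (K : Subgroup G)
    (h : ¬ p ∣ K.index) : ∃ P : Sylow p G, (P : Subgroup G) ≤ K := by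
  obtain ⟨Q⟩ : Nonempty (Sylow p K) := inferInstance
  have hQ : IsPGroup p ((Q : Subgroup K).map K.subtype) := Q.2.map _
  obtain ⟨P, hP⟩ := hQ.exists_le_sylow
  refine ⟨P, ?_⟩
  have hc1 : Nat.card ((Q : Subgroup K).map K.subtype) = Nat.card (Q : Subgroup K) :=
    Subgroup.card_map_of_injective K.subtype_injective
  have hc2 : Nat.card (Q : Subgroup K) = p ^ (Nat.card K).factorization p :=
    Q.card_eq_multiplicity
  have hc3 : Nat.card (P : Subgroup G) = p ^ (Nat.card G).factorization p :=
    P.card_eq_multiplicity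
  have hK : Nat.card G = Nat.card K * K.index := (Subgroup.card_mul_index K).symm
  have hfac : (Nat.card G).factorization p = (Nat.card K).factorization p := by
    rw [hK, Nat.factorization_mul Nat.card_pos.ne' (Subgroup.index_ne_zero_of_finite)]
    simp [Nat.factorization_eq_zero_of_not_dvd h]
  have heq : (Q : Subgroup K).map K.subtype = (P : Subgroup G) := by
    apply Subgroup.eq_of_le_of_card_ge hP
    rw [hc1, hc2, hc3, hfac]
  rw [← heq]
  exact Subgroup.map_subtype_le _

/-- If `K` contains a Sylow `p`-subgroup then `p ∤ [G : K]`. -/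
theorem not_dvd_index_of_sylow_le [Finite G] (p : ℕ) [Fact p.Prime] (K : Subgroup G)
    (P : Sylow p G) (h : (P : Subgroup G) ≤ K) : ¬ p ∣ K.index := by
  intro hd
  exact P.not_dvd_index (hd.trans (Subgroup.index_dvd_of_le h))

/-- If `q ∤ [G : K]`, every `q`-element is conjugate into `K`. -/
theorem exists_conj_mem [Finite G] {q : ℕ} (hq : q.Prime) (K : Subgroup G) (hK : ¬ q ∣ K.index)
    (y : G) (hy : ∃ e : ℕ, orderOf y = q ^ e) : ∃ g : G, g * y * g⁻¹ ∈ K := by
  haveI := Fact.mk hq
  obtain ⟨e, he⟩ := hy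
  exact AbelPCompl.exists_conj_mem_of_not_dvd_index K hK y e he

theorem coprime_of_prime_pow {q k N : ℕ} (hq : q.Prime) (h : ¬ q ∣ N) : (q ^ k).Coprime N :=
  Nat.Coprime.pow_left k ((Nat.Prime.coprime_iff_not_dvd hq).2 h)

end Cfsg.Agent.Helper4.TwoClass
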