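import Mathlib
import Cfsg.Agent.Helper5.ProdCard

/-!
Isaacs' lemma on classes of minimal size: if `A` is an abelian normal subgroup of the finite
group `G` and `x` is a noncentral element whose class size is minimal among the noncentral
class sizes, then `[A, x] ≤ Z(G)`.  Consequence: if moreover `C_G(A) = A`, the subgroup generated
by central elements and such `x` has class at most 3.
-/

namespace Cfsg.Agent.Helper4.MinClassCentral

open Subgroup
open scoped Pointwise commutatorElement

variable {G : Type*} [Group G]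

/-- fibre counting: if `f g = f g'` forces `g⁻¹ g' ∈ U` on `C`, then `|C| ≤ |U| · |f '' C|`. -/
theorem card_le_card_mul_card_image [Finite G] {β : Type*} (C U : Subgroup G) (f : G → β)
    (hf : ∀ g ∈ C, ∀ g' ∈ C, f g = f g' → g⁻¹ * g' ∈ U) :
    Nat.card C ≤ Nat.card U * Nat.card (f '' (C : Set G)) := by
  classical
  have hrep : ∀ c : (f '' (C : Set G)), ∃ g : G, g ∈ C ∧ f g = c.1 := by
    rintro ⟨c, g, hg, rfl⟩
    exact ⟨g, hg, rfl⟩
  choose rep hrepC hrepf using hrep
  let φ : C → U × (f '' (C : Set G)) := fun g =>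
    (⟨(rep ⟨f g.1, g.1, g.2, rfl⟩)⁻¹ * g.1,
      hf _ (hrepC _) _ g.2 (hrepf _)⟩, ⟨f g.1, g.1, g.2, rfl⟩)
  have hinj : Function.Injective φ := by
    intro g g' h
    have h2 : (⟨f g.1, g.1, g.2, rfl⟩ : (f '' (C : Set G))) = ⟨f g'.1, g'.1, g'.2, rfl⟩ :=
      congrArg Prod.snd h
    have h1 := congrArg (fun z => (z.1 : G)) h
    simp only [φ] at h1
    rw [h2] at h1
    exact Subtype.ext (mul_left_cancel h1)
  have := Nat.card_le_card_of_injective φ hinj
  rwa [Nat.card_prod] at this

/-- `|{[a,x] : a ∈ A}| · |C_A(x)| ≤ |A|`. -/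
theorem card_image_commutator_mul_le [Finite G] (A : Subgroup G) (x : G) :
    Nat.card ((fun a => ⁅a, x⁆) '' (A : Set G)) * Nat.card (A ⊓ centralizer ({x} : Set G) : Subgroup G)
      ≤ Nat.card A := by
  classical
  have hrep : ∀ c : ((fun a => ⁅a, x⁆) '' (A : Set G)), ∃ a : G, a ∈ A ∧ ⁅a, x⁆ = c.1 := by
    rintro ⟨c, a, ha, rfl⟩
    exact ⟨a, ha, rfl⟩
  choose rep hrepA hrepf using hrep
  let φ : ((fun a => ⁅a, x⁆) '' (A : Set G)) × (A ⊓ centralizer ({x} : Set G) : Subgroup G) → A :=
    fun z => ⟨rep z.1 * z.2.1, A.mul_mem (hrepA _) (Subgroup.mem_inf.1 z.2.2).1⟩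
  have hkey : ∀ (a k : G), k ∈ centralizer ({x} : Set G) → ⁅a * k, x⁆ = ⁅a, x⁆ := by
    intro a k hk
    rw [Subgroup.mem_centralizer_singleton_iff] at hk
    simp only [commutatorElement_def]
    calc a * k * x * (a * k)⁻¹ * x⁻¹ = a * (k * x) * k⁻¹ * a⁻¹ * x⁻¹ := by group
      _ = a * (x * k) * k⁻¹ * a⁻¹ * x⁻¹ := by rw [hk]
      _ = a * x * a⁻¹ * x⁻¹ := by group
  have hinj : Function.Injective φ := by
    rintro ⟨c, k⟩ ⟨c', k'⟩ h
    have h1 : rep c * k.1 = rep c' * k'.1 := congrArg Subtype.val h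
    have h2 : ⁅rep c * k.1, x⁆ = ⁅rep c' * k'.1, x⁆ := by rw [h1]
    rw [hkey _ _ (Subgroup.mem_inf.1 k.2).2, hkey _ _ (Subgroup.mem_inf.1 k'.2).2, hrepf, hrepf] at h2
    have hc : c = c' := Subtype.ext h2
    subst hc
    have hk : k = k' := Subtype.ext (mul_left_cancel h1)
    rw [hk]
  have := Nat.card_le_card_of_injective φ hinj
  rwa [Nat.card_prod] at this

/-- **Isaacs' lemma**: commutators of an abelian normal subgroup with an element of minimal
noncentral class size are central. -/
theorem commutator_mem_center_of_min_class [Finite G] (A : Subgroup G) [hAn : A.Normal]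
    (hA : IsMulCommutative A) (m : ℕ) (x : G)
    (hx : (centralizer ({x} : Set G)).index = m)
    (hmin : ∀ y : G, 1 < (centralizer ({y} : Set G)).index → m ≤ (centralizer ({y} : Set G)).index)
    (a : G) (ha : a ∈ A) : ⁅a, x⁆ ∈ center G := by
  classical
  by_contra hb
  set b := ⁅a, x⁆ with hbdef
  have hbA : b ∈ A := by
    rw [hbdef, commutatorElement_def]
    have h1 : x * a⁻¹ * x⁻¹ ∈ A := hAn.conj_mem _ (A.inv_mem ha) x
    have h2 : a * x * a⁻¹ * x⁻¹ = a * (x * a⁻¹ * x⁻¹) := by group
    rw [h2]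
    exact A.mul_mem ha h1
  have hb1 : b ≠ 1 := by
    intro h
    exact hb (h ▸ Subgroup.one_mem _)
  -- class size of b is at least m
  have hidx : 1 < (centralizer ({b} : Set G)).index := by
    have h0 : (centralizer ({b} : Set G)).index ≠ 0 := Subgroup.index_ne_zero_of_finite
    have h1 : (centralizer ({b} : Set G)).index ≠ 1 := by
      intro h
      rw [Subgroup.index_eq_one] at h
      apply hb
      rw [Subgroup.mem_center_iff]
      intro g
      have : g ∈ centralizer ({b} : Set G) := by rw [h]; trivial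
      rw [Subgroup.mem_centralizer_singleton_iff] at this
      exact this
    omega
  have hmb := hmin b hidx
  have hcard : Nat.card (centralizer ({b} : Set G)) ≤ Nat.card (centralizer ({x} : Set G)) := by
    have h1 := Subgroup.card_mul_index (centralizer ({b} : Set G))
    have h2 := Subgroup.card_mul_index (centralizer ({x} : Set G))
    rw [hx] at h2
    have h3 : Nat.card (centralizer ({b} : Set G)) * m ≤ Nat.card (centralizer ({x} : Set G)) * m := by
      rw [h2, ← h1]
      exact Nat.mul_le_mul_left _ hmb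
    have hm0 : 0 < m := by
      rw [← hx]; exact Nat.pos_of_ne_zero Subgroup.index_ne_zero_of_finite
    exact Nat.le_of_mul_le_mul_right h3 hm0
  set Cx := centralizer ({x} : Set G) with hCx
  set U := Cx ⊓ centralizer ({b} : Set G) with hU
  set B := (fun a' => ⁅a', x⁆) '' (A : Set G) with hB
  set CA := A ⊓ Cx with hCA
  -- A * U ⊆ C(b)
  have hAcb : A ≤ centralizer ({b} : Set G) := by
    intro a' ha'
    rw [Subgroup.mem_centralizer_singleton_iff]
    have := hA.is_comm.comm ⟨a', ha'⟩ ⟨b, hbA⟩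
    exact congrArg Subtype.val this
  have hprod := Cfsg.Agent.Helper5.card_mul_set_mul_card_inf A U
  have hsub : ((A : Set G) * (U : Set G) : Set G) ⊆ (centralizer ({b} : Set G) : Set G) := by
    rintro _ ⟨a', ha', u, hu, rfl⟩
    exact Subgroup.mul_mem _ (hAcb ha') (Subgroup.mem_inf.1 hu).2
  have h1 : Nat.card ((A : Set G) * (U : Set G) : Set G) ≤ Nat.card (centralizer ({b} : Set G)) :=
    Nat.card_mono (Set.toFinite _) hsub
  have h2 : Nat.card (A ⊓ U : Subgroup G) ≤ Nat.card CA :=
    Subgroup.card_le_of_le (le_inf inf_le_left (inf_le_right.trans inf_le_left))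
  -- orbit bound
  have horb : Nat.card Cx ≤ Nat.card U * Nat.card ((fun g => g * b * g⁻¹) '' (Cx : Set G)) := by
    apply card_le_card_mul_card_image Cx U
    intro g hg g' hg' h
    refine Subgroup.mem_inf.2 ⟨Cx.mul_mem (Cx.inv_mem hg) hg', ?_⟩
    rw [Subgroup.mem_centralizer_singleton_iff]
    have h : g * b * g⁻¹ = g' * b * g'⁻¹ := h
    calc g⁻¹ * g' * b = g⁻¹ * (g' * b * g'⁻¹) * g' := by group
      _ = g⁻¹ * (g * b * g⁻¹) * g' := by rw [h]
      _ = b * (g⁻¹ * g') := by group
  have himg : ((fun g => g * b * g⁻¹) '' (Cx : Set G)) ⊆ B \ {1} := by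
    rintro _ ⟨g, hg, rfl⟩
    refine ⟨⟨g * a * g⁻¹, hAn.conj_mem a ha g, ?_⟩, ?_⟩
    · have hgx : g * x = x * g := Subgroup.mem_centralizer_singleton_iff.1 hg
      have e1 : g * x * g⁻¹ = x := by rw [hgx]; group
      have e2 : g * x⁻¹ * g⁻¹ = x⁻¹ := by
        calc g * x⁻¹ * g⁻¹ = (g * x * g⁻¹)⁻¹ := by group
          _ = x⁻¹ := by rw [e1]
      change ⁅g * a * g⁻¹, x⁆ = g * b * g⁻¹
      rw [hbdef, commutatorElement_def, commutatorElement_def]
      calc g * a * g⁻¹ * x * (g * a * g⁻¹)⁻¹ * x⁻¹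
          = g * a * g⁻¹ * (g * x * g⁻¹) * (g * a * g⁻¹)⁻¹ * (g * x⁻¹ * g⁻¹) := by rw [e1, e2]
        _ = g * (a * x * a⁻¹ * x⁻¹) * g⁻¹ := by group
    · simp only [Set.mem_singleton_iff]
      intro h
      apply hb1
      calc b = g⁻¹ * (g * b * g⁻¹) * g := by group
        _ = 1 := by rw [h]; group
  have hBfin : B.Finite := Set.toFinite _
  have hBone : (1 : G) ∈ B := ⟨1, A.one_mem, by simp⟩
  have himgcard : Nat.card ((fun g => g * b * g⁻¹) '' (Cx : Set G)) + 1 ≤ Nat.card B := by
    have h3 : Nat.card ((fun g => g * b * g⁻¹) '' (Cx : Set G)) ≤ Nat.card (B \ {1} : Set G) :=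
      Nat.card_mono (Set.toFinite _) himg
    have h4 : Nat.card (B \ {1} : Set G) + 1 = Nat.card B := by
      rw [Nat.card_coe_set_eq, Nat.card_coe_set_eq]
      exact Set.ncard_sdiff_singleton_add_one hBone hBfin
    omega
  have hBA := card_image_commutator_mul_le A x
  change Nat.card B * Nat.card CA ≤ Nat.card A at hBA
  -- combine
  have hUpos : 0 < Nat.card U := Nat.card_pos
  have hCApos : 0 < Nat.card CA := Nat.card_pos
  set nA := Nat.card A
  set nU := Nat.card U
  set nB := Nat.card B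
  set nCA := Nat.card CA
  set nO := Nat.card ((fun g => g * b * g⁻¹) '' (Cx : Set G))
  set nCx := Nat.card Cx
  set nCb := Nat.card (centralizer ({b} : Set G))
  set nAU := Nat.card ((A : Set G) * (U : Set G) : Set G)
  set nI := Nat.card (A ⊓ U : Subgroup G)
  -- nA * nU = nAU * nI ≤ nCb * nCA ≤ nCx * nCA ≤ nU * nO * nCA
  have e1 : nA * nU ≤ nU * nO * nCA := by
    calc nA * nU = nAU * nI := hprod.symm
      _ ≤ nCb * nCA := Nat.mul_le_mul h1 h2
      _ ≤ nCx * nCA := Nat.mul_le_mul_right _ hcard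
      _ ≤ nU * nO * nCA := Nat.mul_le_mul_right _ horb
  have e2 : nO * nCA + nCA ≤ nA := by
    calc nO * nCA + nCA = (nO + 1) * nCA := by ring
      _ ≤ nB * nCA := Nat.mul_le_mul_right _ himgcard
      _ ≤ nA := hBA
  have e3 : nU * (nO * nCA + nCA) ≤ nU * nA := Nat.mul_le_mul_left _ e2
  have e4 : nU * nCA > 0 := Nat.mul_pos hUpos hCApos
  nlinarith


/-- The elements `g` with `[A, g] ⊆ Z(G)` form a subgroup; hence the property extends to closures. -/
theorem commutator_mem_center_of_mem_closure (A : Subgroup G) (S : Set G)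
    (hS : ∀ x ∈ S, ∀ a ∈ A, ⁅a, x⁆ ∈ center G) :
    ∀ g ∈ closure S, ∀ a ∈ A, ⁅a, g⁆ ∈ center G := by
  intro g hg
  induction hg using Subgroup.closure_induction with
  | mem x hx => exact hS x hx
  | one => intro a _; simp
  | mul g h _ _ ihg ihh =>
    intro a ha
    have e : ⁅a, g * h⁆ = ⁅a, g⁆ * (g * ⁅a, h⁆ * g⁻¹) := by
      simp only [commutatorElement_def]; group
    rw [e]
    have hc := ihh a ha
    have e2 : g * ⁅a, h⁆ * g⁻¹ = ⁅a, h⁆ := by
      rw [Subgroup.mem_center_iff] at hc
      rw [hc g]; group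
    rw [e2]
    exact Subgroup.mul_mem _ (ihg a ha) hc
  | inv g _ ihg =>
    intro a ha
    have hc := ihg a ha
    have e : ⁅a, g⁻¹⁆ = g⁻¹ * (⁅a, g⁆)⁻¹ * g := by
      simp only [commutatorElement_def]; group
    rw [e]
    have hc' := Subgroup.inv_mem _ hc
    have e2 : g⁻¹ * (⁅a, g⁆)⁻¹ * g = (⁅a, g⁆)⁻¹ := by
      rw [Subgroup.mem_center_iff] at hc'
      rw [hc' g⁻¹]; group
    rw [e2]
    exact hc'

/-- If `[A, M] ≤ Z(G)` and `C_G(A) = A` then `M' ≤ A`. -/
theorem commutator_le_of_commutator_le_center (A M : Subgroup G)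
    (hCA : centralizer (A : Set G) = A)
    (h : ∀ g ∈ M, ∀ a ∈ A, ⁅a, g⁆ ∈ center G) : ⁅M, M⁆ ≤ A := by
  have h0 : ⁅A, M⁆ ≤ center G := by
    rw [Subgroup.commutator_le]
    intro a ha g hg
    exact h g hg a ha
  have h1 : ⁅⁅A, M⁆, M⁆ = ⊥ := by
    rw [Subgroup.commutator_eq_bot_iff_le_centralizer]
    intro c hc
    have := h0 hc
    rw [Subgroup.mem_center_iff] at this
    rw [Subgroup.mem_centralizer_iff]
    intro g _
    exact this g
  have h2 : ⁅⁅M, A⁆, M⁆ = ⊥ := by rw [Subgroup.commutator_comm M A]; exact h1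
  have h3 : ⁅⁅M, M⁆, A⁆ = ⊥ := Subgroup.commutator_commutator_eq_bot_of_rotate h2 h1
  rw [Subgroup.commutator_eq_bot_iff_le_centralizer, hCA] at h3
  exact h3

/-- abstract class-3 criterion. -/
theorem upperCentralSeries_three_eq_top {H : Type*} [Group H] (T : Subgroup H)
    (h1 : ∀ u v : H, ⁅u, v⁆ ∈ T) (h2 : ∀ t ∈ T, ∀ y : H, ⁅t, y⁆ ∈ center H) :
    Subgroup.upperCentralSeries H 3 = ⊤ := by
  rw [eq_top_iff]
  intro u _
  rw [Subgroup.mem_upperCentralSeries_succ_iff]
  intro v
  rw [Subgroup.mem_upperCentralSeries_succ_iff]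
  intro w
  rw [Subgroup.upperCentralSeries_one]
  exact h2 _ (h1 u v) w

/-- **Isaacs**: the subgroup generated by the classes of size `1` and of minimal noncentral size
has class at most `3` when `G` has a self-centralizing normal abelian subgroup. -/
theorem upperCentralSeries_closure_min_class [Finite G]
    (A : Subgroup G) [A.Normal] (hA : IsMulCommutative A) (hCA : centralizer (A : Set G) = A)
    (m : ℕ)
    (hmin : ∀ x : G, 1 < (centralizer ({x} : Set G)).index → m ≤ (centralizer ({x} : Set G)).index) :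
    Subgroup.upperCentralSeries ↥(closure {x : G | (centralizer ({x} : Set G)).index = 1 ∨
      (centralizer ({x} : Set G)).index = m}) 3 = ⊤ := by
  set S := {x : G | (centralizer ({x} : Set G)).index = 1 ∨ (centralizer ({x} : Set G)).index = m}
  have hS : ∀ x ∈ S, ∀ a ∈ A, ⁅a, x⁆ ∈ center G := by
    intro x hx a ha
    rcases hx with hx | hx
    · rw [Subgroup.index_eq_one] at hx
      have : x ∈ centralizer ({x} : Set G) → True := fun _ => trivial
      have hxc : ∀ g : G, g * x = x * g := by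
        intro g
        have : g ∈ centralizer ({x} : Set G) := by rw [hx]; trivial
        exact Subgroup.mem_centralizer_singleton_iff.1 this
      have : ⁅a, x⁆ = 1 := by
        rw [commutatorElement_def, hxc a]; group
      rw [this]; exact Subgroup.one_mem _
    · exact commutator_mem_center_of_min_class A hA m x hx hmin a ha
  have hM := commutator_mem_center_of_mem_closure A S hS
  have hMA := commutator_le_of_commutator_le_center A (closure S) hCA hM
  apply upperCentralSeries_three_eq_top (A.subgroupOf (closure S))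
  · intro u v
    rw [Subgroup.mem_subgroupOf]
    have : ((⁅u, v⁆ : closure S) : G) = ⁅(u : G), (v : G)⁆ := by
      simp [commutatorElement_def]
    rw [this]
    exact hMA (Subgroup.commutator_mem_commutator u.2 v.2)
  · intro t ht y
    rw [Subgroup.mem_subgroupOf] at ht
    rw [Subgroup.mem_center_iff]
    intro g
    have hc := hM y.1 y.2 t.1 ht
    rw [Subgroup.mem_center_iff] at hc
    apply Subtype.ext
    have : ((⁅t, y⁆ : closure S) : G) = ⁅(t : G), (y : G)⁆ := by
      simp [commutatorElement_def]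
    simp only [Subgroup.coe_mul, this]
    exact hc g

end Cfsg.Agent.Helper4.MinClassCentral
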