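import Mathlib
import Cfsg.Agent.Helper4.MinClassCentral
import Cfsg.Agent.Helper5.SCN

/-!
Isaacs: a finite `p`-group with exactly two class sizes `{1, m}` has `P / Z(P)` of exponent `p`.
-/

namespace Cfsg.Agent.Helper4.TwoClassSizesP

open Subgroup
open scoped commutatorElement

variable {P : Type*} [Group P]

/-- `[u^n, g] = [u, g]^n` when `[u, g]` is central. -/
theorem commutator_pow_left (u g : P) (h : ⁅u, g⁆ ∈ center P) (n : ℕ) :
    ⁅u ^ n, g⁆ = ⁅u, g⁆ ^ n := by
  induction n with
  | zero => simp
  | succ n ih =>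
    have e : ⁅u ^ (n + 1), g⁆ = u * ⁅u ^ n, g⁆ * u⁻¹ * ⁅u, g⁆ := by
      simp only [commutatorElement_def, pow_succ']; group
    rw [e, ih]
    have hc : ⁅u, g⁆ ^ n ∈ center P := Subgroup.pow_mem _ h n
    rw [Subgroup.mem_center_iff] at hc
    have : u * ⁅u, g⁆ ^ n * u⁻¹ = ⁅u, g⁆ ^ n := by rw [hc u]; group
    rw [this, ← pow_succ]

/-- `[u, g^n] = [u, g]^n` when `[u, g]` is central. -/
theorem commutator_pow_right (u g : P) (h : ⁅u, g⁆ ∈ center P) (n : ℕ) :
    ⁅u, g ^ n⁆ = ⁅u, g⁆ ^ n := by
  induction n with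
  | zero => simp
  | succ n ih =>
    have e : ⁅u, g ^ (n + 1)⁆ = ⁅u, g⁆ * (g * ⁅u, g ^ n⁆ * g⁻¹) := by
      simp only [commutatorElement_def, pow_succ']; group
    rw [e, ih]
    have hc : ⁅u, g⁆ ^ n ∈ center P := Subgroup.pow_mem _ h n
    rw [Subgroup.mem_center_iff] at hc
    have : g * ⁅u, g⁆ ^ n * g⁻¹ = ⁅u, g⁆ ^ n := by rw [hc g]; group
    rw [this, ← pow_succ']

theorem pow_mem_center [Finite P] (p : ℕ) [Fact p.Prime] (hP : IsPGroup p P) (m : ℕ)
    (h : ∀ x : P, (centralizer ({x} : Set P)).index = 1 ∨ (centralizer ({x} : Set P)).index = m)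
    (x : P) : x ^ p ∈ center P := by
  classical
  have hp := (Fact.out : p.Prime)
  obtain ⟨A, hAn, hAc, -, -, hCA⟩ := Cfsg.Agent.Helper5.exists_scn_ge hP (⊤ : Subgroup P)
    (⊥ : Subgroup P) bot_le
    (by
      refine ⟨⟨?_⟩⟩
      intro a b
      have ha : a = 1 := Subsingleton.elim _ _
      have hb : b = 1 := Subsingleton.elim _ _
      rw [ha, hb])
  rw [top_inf_eq] at hCA
  have hmin : ∀ y : P, 1 < (centralizer ({y} : Set P)).index →
      m ≤ (centralizer ({y} : Set P)).index := by
    intro y hy
    rcases h y with h1 | h1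
    · omega
    · exact h1.ge
  have hcentral_of_idx : ∀ g : P, (centralizer ({g} : Set P)).index = 1 → g ∈ center P := by
    intro g h1
    rw [Subgroup.index_eq_one] at h1
    rw [Subgroup.mem_center_iff]
    intro k
    have : k ∈ centralizer ({g} : Set P) := by rw [h1]; trivial
    exact Subgroup.mem_centralizer_singleton_iff.1 this
  have hidx_of_not_central : ∀ g : P, g ∉ center P → (centralizer ({g} : Set P)).index = m := by
    intro g hg
    rcases h g with h1 | h1
    · exact absurd (hcentral_of_idx g h1) hg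
    · exact h1
  have hAZ : ∀ g : P, ∀ a ∈ A, ⁅a, g⁆ ∈ center P := by
    intro g a ha
    by_cases hg : g ∈ center P
    · have : ⁅a, g⁆ = 1 := by
        rw [Subgroup.mem_center_iff] at hg
        rw [commutatorElement_def, hg a]; group
      rw [this]; exact Subgroup.one_mem _
    · exact Cfsg.Agent.Helper4.MinClassCentral.commutator_mem_center_of_min_class A hAc m g
        (hidx_of_not_central g hg) hmin a ha
  -- centralizers: C(g) ≤ C(g^p), equal if g^p noncentral
  have hcent_eq : ∀ g : P, g ^ p ∉ center P →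
      centralizer ({g ^ p} : Set P) = centralizer ({g} : Set P) := by
    intro g hgp
    have hg : g ∉ center P := fun hg => hgp (Subgroup.pow_mem _ hg p)
    have hle : centralizer ({g} : Set P) ≤ centralizer ({g ^ p} : Set P) := by
      intro c hc
      rw [Subgroup.mem_centralizer_singleton_iff] at hc ⊢
      exact ((show Commute c g from hc).pow_right p).eq
    symm
    apply Subgroup.eq_of_le_of_card_ge hle
    have h1 := Subgroup.card_mul_index (centralizer ({g} : Set P))
    have h2 := Subgroup.card_mul_index (centralizer ({g ^ p} : Set P))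
    rw [hidx_of_not_central g hg] at h1
    rw [hidx_of_not_central _ hgp] at h2
    have hm0 : 0 < m := by
      rw [← hidx_of_not_central g hg]
      exact Nat.pos_of_ne_zero Subgroup.index_ne_zero_of_finite
    have : Nat.card (centralizer ({g ^ p} : Set P)) * m = Nat.card (centralizer ({g} : Set P)) * m := by
      rw [h1, h2]
    exact (Nat.eq_of_mul_eq_mul_right hm0 this).le
  -- Step 2: u ∈ A ⇒ u^p central
  have hstep2 : ∀ u ∈ A, u ^ p ∈ center P := by
    intro u hu
    by_contra hup
    have hu' : u ∉ center P := fun hu' => hup (Subgroup.pow_mem _ hu' p)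
    have hceq := hcent_eq u hup
    -- the image of g ↦ [u,g] is a nontrivial p-subgroup of the centre
    let φ : P →* center P :=
      { toFun := fun g => ⟨⁅u, g⁆, hAZ g u hu⟩
        map_one' := by apply Subtype.ext; simp
        map_mul' := by
          intro g k
          apply Subtype.ext
          have e : ⁅u, g * k⁆ = ⁅u, g⁆ * (g * ⁅u, k⁆ * g⁻¹) := by
            simp only [commutatorElement_def]; group
          have hc := hAZ k u hu
          rw [Subgroup.mem_center_iff] at hc
          have : g * ⁅u, k⁆ * g⁻¹ = ⁅u, k⁆ := by rw [hc g]; group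
          simp only [Subgroup.coe_mul]
          rw [e, this] }
    have hφne : ∃ g : P, φ g ≠ 1 := by
      by_contra hall
      push Not at hall
      apply hu'
      rw [Subgroup.mem_center_iff]
      intro g
      have := congrArg Subtype.val (hall g)
      simp only [φ, MonoidHom.coe_mk, OneHom.coe_mk, Subgroup.coe_one] at this
      rw [commutatorElement_eq_one_iff_mul_comm] at this
      exact this.symm
    obtain ⟨g1, hg1⟩ := hφne
    -- an element of order p in the cyclic group generated by φ g1
    have hpg : IsPGroup p (center P) := hP.to_subgroup _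
    obtain ⟨k, hk⟩ := (IsPGroup.iff_orderOf.1 hpg) (φ g1)
    have hk0 : k ≠ 0 := by
      rintro rfl
      rw [pow_zero, orderOf_eq_one_iff] at hk
      exact hg1 hk
    obtain ⟨j, rfl⟩ := Nat.exists_eq_succ_of_ne_zero hk0
    set g0 := g1 ^ (p ^ j) with hg0
    have hφg0 : φ g0 = (φ g1) ^ (p ^ j) := map_pow φ g1 _
    have hφg0ne : φ g0 ≠ 1 := by
      rw [hφg0]
      intro h1
      have := orderOf_dvd_of_pow_eq_one h1
      rw [hk] at this
      have hlt : p ^ j < p ^ (j + 1) := Nat.pow_lt_pow_right hp.one_lt (Nat.lt_succ_self j)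
      exact absurd (Nat.le_of_dvd (pow_pos hp.pos j) this) (not_le.2 hlt)
    have hφg0p : (φ g0) ^ p = 1 := by
      rw [hφg0, ← pow_mul, ← pow_succ, ← hk, pow_orderOf_eq_one]
    have h1 : ⁅u ^ p, g0⁆ = 1 := by
      rw [commutator_pow_left u g0 (hAZ g0 u hu) p]
      have := congrArg Subtype.val hφg0p
      simpa [φ] using this
    have h2 : g0 ∈ centralizer ({u ^ p} : Set P) := by
      rw [Subgroup.mem_centralizer_singleton_iff]
      rw [commutatorElement_eq_one_iff_mul_comm] at h1
      exact h1.symm
    rw [hceq, Subgroup.mem_centralizer_singleton_iff] at h2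
    apply hφg0ne
    apply Subtype.ext
    simp only [φ, MonoidHom.coe_mk, OneHom.coe_mk, Subgroup.coe_one]
    rw [commutatorElement_eq_one_iff_mul_comm]
    exact h2.symm
  -- Step 3: x^p ∈ A
  have hstep3 : ∀ g : P, g ^ p ∈ A := by
    intro g
    rw [← hCA, Subgroup.mem_centralizer_iff]
    intro u hu
    have h1 : ⁅u, g ^ p⁆ = ⁅u, g⁆ ^ p := commutator_pow_right u g (hAZ g u hu) p
    have h2 : ⁅u ^ p, g⁆ = ⁅u, g⁆ ^ p := commutator_pow_left u g (hAZ g u hu) p
    have h3 : ⁅u ^ p, g⁆ = 1 := by
      have hc := hstep2 u hu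
      rw [Subgroup.mem_center_iff] at hc
      rw [commutatorElement_def, ← hc g]; group
    rw [← h2, h3] at h1
    rw [commutatorElement_eq_one_iff_mul_comm] at h1
    exact h1
  -- Step 4
  by_contra hx
  have hceq := hcent_eq x hx
  have hxA : x ∈ A := by
    rw [← hCA, Subgroup.mem_centralizer_iff]
    intro u hu
    have : u ∈ centralizer ({x ^ p} : Set P) := by
      rw [Subgroup.mem_centralizer_singleton_iff]
      have := hAc.is_comm.comm ⟨u, hu⟩ ⟨x ^ p, hstep3 x⟩
      exact congrArg Subtype.val this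
    rw [hceq, Subgroup.mem_centralizer_singleton_iff] at this
    exact this
  exact hx (hstep2 x hxA)

end Cfsg.Agent.Helper4.TwoClassSizesP
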