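import Mathlib
import Cfsg.Agent.Helper4.ItoTwoA
import Cfsg.Agent.Helper4.TwoClassSizesP
import Cfsg.Agent.Helper4.SylowProduct2
import Cfsg.Agent.Helper5.ProdCard

set_option autoImplicit false

/-!
Itô's theorem, the case where `n` is a prime power: `G = P × A` with `A` abelian.
-/

namespace Cfsg.Agent.Helper4.ItoTwo

open Subgroup
open scoped Pointwise

variable {G : Type*} [Group G] [Finite G]

/-- index transfer to a Sylow subgroup complemented by a central subgroup -/
theorem relIndex_eq_index_of_sup_eq_top (H P C : Subgroup G) [H.Normal] (hHC : H ≤ C)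
    (hsup : P ⊔ H = ⊤) : C.relIndex P = C.index := by
  have h1 := Cfsg.Agent.Helper5.card_mul_set_mul_card_inf P C
  have huniv : ((P : Set G) * (C : Set G) : Set G) = Set.univ := by
    rw [Set.eq_univ_iff_forall]
    intro g
    have hg : g ∈ ((P ⊔ H : Subgroup G) : Set G) := by rw [hsup]; trivial
    rw [Subgroup.mul_normal] at hg
    obtain ⟨x, hx, y, hy, rfl⟩ := Set.mem_mul.mp hg
    exact Set.mem_mul.mpr ⟨x, hx, y, hHC hy, rfl⟩
  rw [huniv, Nat.card_congr (Equiv.Set.univ G)] at h1
  have h2 := Cfsg.Agent.Helper4.card_mul_relIndex' (inf_le_left : P ⊓ C ≤ P)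
  have h3 := C.card_mul_index
  have h4 : (P ⊓ C).relIndex P = C.relIndex P := by
    rw [inf_comm]; exact Subgroup.inf_relIndex_right C P
  rw [h4] at h2
  have hpos : 0 < Nat.card C := Nat.card_pos
  have hpos2 : 0 < Nat.card ↥(P ⊓ C) := Nat.card_pos
  apply Nat.eq_of_mul_eq_mul_left hpos2
  apply Nat.eq_of_mul_eq_mul_left hpos
  calc Nat.card C * (Nat.card ↥(P ⊓ C) * C.relIndex P) = Nat.card C * Nat.card P := by rw [h2]
    _ = Nat.card G * Nat.card ↥(P ⊓ C) := by rw [h1, mul_comm]
    _ = Nat.card C * (Nat.card ↥(P ⊓ C) * C.index) := by rw [← h3]; ring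

variable {n : ℕ}
  (h : ∀ x : G, (centralizer ({x} : Set G)).index = 1 ∨ (centralizer ({x} : Set G)).index = n)

include h

/-- in the prime power case all `p'`-elements are central -/
theorem mem_center_of_not_dvd_orderOf (hn : 1 < n) (p : ℕ) [hp : Fact p.Prime] (a : ℕ)
    (hna : n = p ^ a) (y : G) (hy : ¬ p ∣ orderOf y) : y ∈ center G := by
  by_contra hyc
  obtain ⟨ℓ, hℓ, g', hg', ⟨k, hk⟩, hg'c, -⟩ := exists_prime_power_part h _ y rfl hyc
  haveI : Fact ℓ.Prime := ⟨hℓ⟩
  apply hg'c
  apply mem_center_of_not_dvd h hn ℓ _ g' k hk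
  intro hℓn
  rw [hna] at hℓn
  have hℓp : ℓ = p := (Nat.prime_dvd_prime_iff_eq hℓ hp.out).mp (hℓ.dvd_of_dvd_pow hℓn)
  have hk0 : k ≠ 0 := by
    rintro rfl
    rw [pow_zero, orderOf_eq_one_iff] at hk
    exact hg'c (hk ▸ one_mem _)
  apply hy
  have h1 : orderOf g' ∣ orderOf y := orderOf_dvd_of_mem_zpowers hg'
  rw [hk, hℓp] at h1
  exact (dvd_pow_self p hk0).trans h1

theorem case_prime_power (hn : 1 < n) (p : ℕ) [hp : Fact p.Prime] (a : ℕ)
    (hna : n = p ^ a) (P : Sylow p G) :
    (P : Subgroup G).Normal ∧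
      (∃ N : Subgroup G, N.Normal ∧ N.IsComplement' (P : Subgroup G) ∧ IsMulCommutative N ∧
        ∀ x ∈ N, ∀ y ∈ (P : Subgroup G), x * y = y * x) ∧
      ∃ A : Subgroup (P : Subgroup G), A.Normal ∧ IsMulCommutative A ∧
        ∀ y : (P : Subgroup G), y ^ p ∈ A := by
  have hcentral := mem_center_of_not_dvd_orderOf h hn p a hna
  obtain ⟨H, hHn, hHmem, hHcard, -⟩ := CaminaLemma.camina (K := G) p (by
    intro y hy
    have := (index_eq_one_iff y).mpr (hcentral y hy)
    rw [this]
    exact hp.out.not_dvd_one)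
  haveI := hHn
  have hHcenter : H ≤ center G := fun y hy => hcentral y ((hHmem y).mp hy)
  have hcardP : Nat.card (P : Subgroup G) = p ^ (Nat.card G).factorization p := P.card_eq_multiplicity
  have hcompl : H.IsComplement' (P : Subgroup G) := by
    apply isComplement'_of_coprime
    · rw [hHcard, hcardP, mul_comm]
      exact Nat.ordProj_mul_ordCompl_eq_self _ _
    · rw [hHcard, hcardP]
      exact (Nat.Coprime.pow_left _ (Nat.coprime_ordCompl hp.out Nat.card_pos.ne')).symm
  have hsup : (P : Subgroup G) ⊔ H = ⊤ := by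
    rw [sup_comm]; exact hcompl.sup_eq_top
  have hcomm : ∀ x ∈ H, ∀ y : G, x * y = y * x := by
    intro x hx y
    exact ((mem_center_iff.mp (hHcenter hx)) y).symm
  have hPn : (P : Subgroup G).Normal := by
    rw [← normalizer_eq_top_iff, eq_top_iff, ← hsup]
    apply sup_le le_normalizer
    exact hHcenter.trans (center_le_normalizer _)
  refine ⟨hPn, ⟨H, hHn, hcompl, ?_, fun x hx y _ => hcomm x hx y⟩, ?_⟩
  · exact ⟨⟨fun x y => Subtype.ext (hcomm x.1 x.2 y.1)⟩⟩
  · refine ⟨center (P : Subgroup G), inferInstance, inferInstance, ?_⟩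
    have hcs : ∀ y : (P : Subgroup G),
        (centralizer ({y} : Set (P : Subgroup G))).index = 1 ∨
          (centralizer ({y} : Set (P : Subgroup G))).index = n := by
      intro y
      have h1 : centralizer ({y} : Set (P : Subgroup G)) =
          (centralizer ({(y : G)} : Set G)).subgroupOf (P : Subgroup G) := by
        ext z
        rw [mem_centralizer_singleton_iff, mem_subgroupOf, mem_centralizer_singleton_iff]
        constructor
        · intro hz
          have := congrArg Subtype.val hz
          simpa using this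
        · intro hz
          apply Subtype.ext
          simpa using hz
      have h2 : H ≤ centralizer ({(y : G)} : Set G) := by
        intro x hx
        rw [mem_centralizer_singleton_iff]
        exact hcomm x hx _
      have h3 := relIndex_eq_index_of_sup_eq_top H (P : Subgroup G) _ h2 hsup
      rw [h1]
      show (centralizer ({(y : G)} : Set G)).relIndex (P : Subgroup G) = 1 ∨
        (centralizer ({(y : G)} : Set G)).relIndex (P : Subgroup G) = n
      rw [h3]
      exact h (y : G)
    intro y
    exact TwoClassSizesP.pow_mem_center p P.isPGroup' n hcs y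

end Cfsg.Agent.Helper4.ItoTwo
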