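import Mathlib
import Cfsg.Agent.Helper4.ItoTwoA
import Cfsg.Agent.Helper4.MinClassCentral
import Cfsg.Agent.Helper4.TwoClassSizesP
import Cfsg.Agent.Helper5.Misc

set_option autoImplicit false

/-!
Itô's theorem: if `n` has two distinct prime divisors then all centralizers of noncentral elements
are abelian, and none of them is normal.
-/

namespace Cfsg.Agent.Helper4.ItoTwo

open Subgroup
open scoped commutatorElement

variable {G : Type*} [Group G] [Finite G] {n : ℕ}
  (h : ∀ x : G, (centralizer ({x} : Set G)).index = 1 ∨ (centralizer ({x} : Set G)).index = n)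

include h

theorem sylow_not_le_center (hn : 1 < n) (hex : ∃ x : G, (centralizer ({x} : Set G)).index = n)
    (ℓ : ℕ) [Fact ℓ.Prime] (hℓ : ℓ ∣ n) (L : Sylow ℓ G) : ¬ (L : Subgroup G) ≤ center G := by
  intro hle
  obtain ⟨x₀, hx₀⟩ := hex
  have h1 : (L : Subgroup G) ≤ centralizer ({x₀} : Set G) := hle.trans (center_le_centralizer _)
  have h2 := index_dvd_of_le h1
  rw [hx₀] at h2
  exact L.not_dvd_index (hℓ.trans h2)

theorem exists_noncentral_prime_power (hn : 1 < n)
    (hex : ∃ x : G, (centralizer ({x} : Set G)).index = n)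
    (ℓ : ℕ) [Fact ℓ.Prime] (hℓ : ℓ ∣ n) : ∃ y : G, y ∉ center G ∧ ∃ k : ℕ, orderOf y = ℓ ^ k := by
  let L : Sylow ℓ G := default
  have := sylow_not_le_center h hn hex ℓ hℓ L
  rw [SetLike.not_le_iff_exists] at this
  obtain ⟨y, hyL, hyc⟩ := this
  refine ⟨y, hyc, ?_⟩
  obtain ⟨k, hk⟩ := L.isPGroup' ⟨y, hyL⟩
  have hk' : y ^ ℓ ^ k = 1 := by
    have := congrArg Subtype.val hk
    simpa using this
  obtain ⟨j, -, hj⟩ := (Nat.dvd_prime_pow (Fact.out : ℓ.Prime)).1 (orderOf_dvd_of_pow_eq_one hk')
  exact ⟨j, hj⟩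

/-- comparing `q`-parts of centralizer orders: if all `q`-elements of `C(x)` are central, there is
no noncentral `q`-element. -/
theorem false_of_prime_power_central (q : ℕ) [hq : Fact q.Prime] {x y : G} (hx : x ∉ center G)
    (hyc : y ∉ center G) (ky : ℕ) (hyk : orderOf y = q ^ ky)
    (hxq : ∀ t ∈ centralizer ({x} : Set G), (∃ j : ℕ, orderOf t = q ^ j) → t ∈ center G) : False := by
  classical
  have hcardx := (centralizer ({x} : Set G)).card_mul_index
  have hcardy := (centralizer ({y} : Set G)).card_mul_index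
  rw [index_of_not_mem_center h hx] at hcardx
  rw [index_of_not_mem_center h hyc] at hcardy
  have hn0 : 0 < n := by
    rw [← index_of_not_mem_center h hx]
    exact Nat.pos_of_ne_zero index_ne_zero_of_finite
  have hcard : Nat.card (centralizer ({x} : Set G)) = Nat.card (centralizer ({y} : Set G)) :=
    Nat.eq_of_mul_eq_mul_right hn0 (hcardx.trans hcardy.symm)
  -- Claim A
  have hA : q ^ (Nat.card (centralizer ({x} : Set G))).factorization q ∣ Nat.card (center G) := by
    let T : Sylow q ↥(centralizer ({x} : Set G)) := default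
    have hT : (T : Subgroup ↥(centralizer ({x} : Set G))).map (centralizer ({x} : Set G)).subtype ≤
        center G := by
      rintro _ ⟨t, ht, rfl⟩
      apply hxq _ t.2
      obtain ⟨j, hj⟩ := T.isPGroup' ⟨t, ht⟩
      have hj' : (t : G) ^ q ^ j = 1 := by
        have := congrArg Subtype.val (congrArg Subtype.val hj)
        simpa using this
      obtain ⟨i, -, hi⟩ := (Nat.dvd_prime_pow hq.out).1 (orderOf_dvd_of_pow_eq_one hj')
      exact ⟨i, hi⟩
    have h1 := Subgroup.card_dvd_of_le hT
    rwa [Subgroup.card_map_of_injective (Subgroup.subtype_injective _), T.card_eq_multiplicity] at h1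
  -- Claim B
  have hB : ∃ t : ℕ, Nat.card (centralizer ({y} : Set G)) = t * Nat.card (center G) ∧ q ∣ t := by
    have hZle : center G ≤ centralizer ({y} : Set G) := center_le_centralizer _
    refine ⟨Nat.card (↥(centralizer ({y} : Set G)) ⧸ (center G).subgroupOf (centralizer ({y} : Set G))), ?_, ?_⟩
    · rw [Subgroup.card_eq_card_quotient_mul_card_subgroup
        ((center G).subgroupOf (centralizer ({y} : Set G)))]
      congr 1
      exact Nat.card_congr (Subgroup.subgroupOfEquivOfLe hZle).toEquiv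
    · have hymem : y ∈ centralizer ({y} : Set G) := by
        rw [mem_centralizer_singleton_iff]
      set yb : ↥(centralizer ({y} : Set G)) ⧸ (center G).subgroupOf (centralizer ({y} : Set G)) :=
        QuotientGroup.mk ⟨y, hymem⟩ with hyb
      have hyb1 : yb ≠ 1 := by
        intro h1
        rw [hyb, QuotientGroup.eq_one_iff, mem_subgroupOf] at h1
        exact hyc h1
      have hybpow : yb ^ q ^ ky = 1 := by
        rw [hyb, ← QuotientGroup.mk_pow]
        have : (⟨y, hymem⟩ : ↥(centralizer ({y} : Set G))) ^ q ^ ky = 1 := by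
          apply Subtype.ext
          simp only [SubmonoidClass.mk_pow, OneMemClass.coe_one]
          rw [← hyk]; exact pow_orderOf_eq_one y
        rw [this]; rfl
      obtain ⟨j, -, hj⟩ := (Nat.dvd_prime_pow hq.out).1 (orderOf_dvd_of_pow_eq_one hybpow)
      have hj0 : j ≠ 0 := by
        rintro rfl
        rw [pow_zero, orderOf_eq_one_iff] at hj
        exact hyb1 hj
      have : q ∣ orderOf yb := hj ▸ dvd_pow_self q hj0
      exact this.trans (orderOf_dvd_natCard yb)
  obtain ⟨t, ht, hqt⟩ := hB
  have hm0 : Nat.card (centralizer ({x} : Set G)) ≠ 0 := Nat.card_pos.ne'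
  apply Nat.pow_succ_factorization_not_dvd hm0 hq.out
  have hmt : t * Nat.card (center G) = Nat.card (centralizer ({x} : Set G)) := by
    rw [hcard, ht]
  rw [pow_succ, mul_comm]
  calc q * q ^ (Nat.card (centralizer ({x} : Set G))).factorization q
      ∣ t * Nat.card (center G) := mul_dvd_mul hqt hA
    _ = Nat.card (centralizer ({x} : Set G)) := hmt

/-- (CA-1): centralizers of noncentral elements of prime power order are abelian, when another
prime divides `n`. -/
theorem comm_of_prime_power (hn : 1 < n) (hex : ∃ x : G, (centralizer ({x} : Set G)).index = n)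
    (ℓ q : ℕ) [hℓ : Fact ℓ.Prime] [hq : Fact q.Prime] (hqℓ : q ≠ ℓ) (hqn : q ∣ n)
    {x : G} (hx : x ∉ center G) (k : ℕ) (hxk : orderOf x = ℓ ^ k) :
    ∀ c ∈ centralizer ({x} : Set G), ∀ d ∈ centralizer ({x} : Set G), c * d = d * c := by
  classical
  -- Step 1
  have hstep1 : ∃ u ∈ centralizer ({x} : Set G), ¬ ℓ ∣ orderOf u ∧ u ∉ center G := by
    by_contra hcon
    push_neg at hcon
    obtain ⟨y, hyc, ky, hyk⟩ := exists_noncentral_prime_power h hn hex q hqn
    apply false_of_prime_power_central h q hx hyc ky hyk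
    intro t ht ⟨j, hj⟩
    apply hcon t ht
    rw [hj]
    intro hd
    have h2 := (Nat.prime_dvd_prime_iff_eq hℓ.out hq.out).mp (hℓ.out.dvd_of_dvd_pow hd)
    exact hqℓ h2.symm
  obtain ⟨u, huC, huℓ, huc⟩ := hstep1
  -- Step 2
  have hCxu : centralizer ({x} : Set G) ≤ centralizer ({u} : Set G) :=
    centralizer_le_of_coprime h ℓ hx k hxk huC huℓ
  have hCeq : centralizer ({u} : Set G) = centralizer ({x} : Set G) :=
    (centralizer_eq_of_le h hx huc hCxu).symm
  -- Step 3
  obtain ⟨r, hr, u', hu', ⟨k', hk'⟩, hu'c, hCu'⟩ := exists_prime_power_part h _ u rfl huc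
  haveI : Fact r.Prime := ⟨hr⟩
  have hrℓ : r ≠ ℓ := by
    rintro rfl
    apply huℓ
    have hk0 : k' ≠ 0 := by
      rintro rfl
      rw [pow_zero, orderOf_eq_one_iff] at hk'
      exact hu'c (hk' ▸ one_mem _)
    have h1 : orderOf u' ∣ orderOf u := orderOf_dvd_of_mem_zpowers hu'
    rw [hk'] at h1
    exact (dvd_pow_self r hk0).trans h1
  have hCu'x : centralizer ({u'} : Set G) = centralizer ({x} : Set G) := hCu'.trans hCeq
  -- Step 4
  have hcentral : ∀ c ∈ centralizer ({x} : Set G),
      centralizer ({x} : Set G) ≤ centralizer ({c} : Set G) := by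
    intro c hc
    obtain ⟨c₁, c₂, hc₁, hc₂, ⟨j, hj⟩, hc₂r, hcc⟩ := exists_parts r hr c
    have hzp : zpowers c ≤ centralizer ({x} : Set G) := zpowers_le.mpr hc
    have h1 : centralizer ({x} : Set G) ≤ centralizer ({c₁} : Set G) := by
      apply centralizer_le_of_coprime h ℓ hx k hxk (hzp hc₁)
      rw [hj]
      intro hd
      exact hrℓ ((Nat.prime_dvd_prime_iff_eq hℓ.out hr).mp (hℓ.out.dvd_of_dvd_pow hd)).symm
    have h2 : centralizer ({x} : Set G) ≤ centralizer ({c₂} : Set G) := by
      rw [← hCu'x]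
      apply centralizer_le_of_coprime h r hu'c k' hk' _ hc₂r
      rw [hCu'x]
      exact hzp hc₂
    intro d hd
    have hd1 := h1 hd
    have hd2 := h2 hd
    rw [mem_centralizer_singleton_iff] at hd1 hd2 ⊢
    rw [← hcc]
    exact (show Commute d c₁ from hd1).mul_right hd2
  intro c hc d hd
  have := hcentral c hc hd
  rw [mem_centralizer_singleton_iff] at this
  exact this.symm

/-- (CA): if two distinct primes divide `n`, all centralizers of noncentral elements are
abelian. -/
theorem comm_centralizer (hn : 1 < n) (hex : ∃ x : G, (centralizer ({x} : Set G)).index = n)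
    (p q : ℕ) [hp : Fact p.Prime] [hq : Fact q.Prime] (hpq : p ≠ q) (hpn : p ∣ n) (hqn : q ∣ n)
    {g : G} (hg : g ∉ center G) :
    ∀ c ∈ centralizer ({g} : Set G), ∀ d ∈ centralizer ({g} : Set G), c * d = d * c := by
  obtain ⟨ℓ, hℓ, g', -, ⟨k, hk⟩, hg'c, hC⟩ := exists_prime_power_part h _ g rfl hg
  haveI : Fact ℓ.Prime := ⟨hℓ⟩
  rw [← hC]
  by_cases hℓp : ℓ = p
  · exact comm_of_prime_power h hn hex ℓ q (by rw [hℓp]; exact hpq.symm) hqn hg'c k hk
  · exact comm_of_prime_power h hn hex ℓ p (fun h1 => hℓp h1.symm) hpn hg'c k hk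

end Cfsg.Agent.Helper4.ItoTwo
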