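import Mathlib
import Cfsg.Agent.Helper4.ItoTwoC

set_option autoImplicit false

/-!
Itô's theorem, two primes: consequences of all noncentral centralizers being abelian.
-/

namespace Cfsg.Agent.Helper4.ItoTwo

open Subgroup
open scoped commutatorElement

variable {G : Type*} [Group G] [Finite G] {n : ℕ}
  (h : ∀ x : G, (centralizer ({x} : Set G)).index = 1 ∨ (centralizer ({x} : Set G)).index = n)
  (hCA : ∀ g : G, g ∉ center G → ∀ c ∈ centralizer ({g} : Set G),
    ∀ d ∈ centralizer ({g} : Set G), c * d = d * c)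

include h hCA

/-- (TI) -/
theorem centralizer_eq_of_mem_centralizer {x g : G} (hx : x ∉ center G) (hg : g ∉ center G)
    (hgx : g ∈ centralizer ({x} : Set G)) :
    centralizer ({g} : Set G) = centralizer ({x} : Set G) := by
  have hle : centralizer ({x} : Set G) ≤ centralizer ({g} : Set G) := by
    intro c hc
    rw [mem_centralizer_singleton_iff]
    exact hCA x hx c hc g hgx
  exact (centralizer_eq_of_le h hx hg hle).symm

/-- (2a): no centralizer of a noncentral element is normal. -/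
theorem not_normal_centralizer (hn : 1 < n) (p q : ℕ) [hp : Fact p.Prime] [hq : Fact q.Prime]
    (hpq : p ≠ q) (hpn : p ∣ n) (hqn : q ∣ n) {x : G} (hx : x ∉ center G) :
    ¬ (centralizer ({x} : Set G)).Normal := by
  intro hN
  obtain ⟨D, hD⟩ : ∃ D, D = centralizer ({x} : Set G) := ⟨_, rfl⟩
  rw [← hD] at hN
  have hDidx : D.index = n := hD ▸ index_of_not_mem_center h hx
  have hDcomm : IsMulCommutative D :=
    ⟨⟨fun a b => Subtype.ext (hCA x hx a.1 (hD ▸ a.2) b.1 (hD ▸ b.2))⟩⟩
  have hZD : center G ≤ D := hD ▸ center_le_centralizer _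
  have hmin : ∀ y : G, 1 < (centralizer ({y} : Set G)).index → n ≤ (centralizer ({y} : Set G)).index := by
    intro y hy
    rcases h y with h1 | h1
    · omega
    · omega
  -- key claim for a prime r dividing n
  have key : ∀ r : ℕ, [Fact r.Prime] → r ∣ n → ∃ m : ℕ, (∃ j : ℕ, m = r ^ j) ∧ ∀ a ∈ D, a ^ m ∈ center G := by
    intro r hr hrn
    let R : Sylow r G := default
    have hRD : ¬ (R : Subgroup G) ≤ D := by
      intro hle
      have h2 := index_dvd_of_le hle
      rw [hDidx] at h2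
      exact R.not_dvd_index (hrn.trans h2)
    rw [SetLike.not_le_iff_exists] at hRD
    obtain ⟨g, hgR, hgD⟩ := hRD
    have hgc : g ∉ center G := fun hc => hgD (hZD hc)
    obtain ⟨j, hj⟩ := R.isPGroup' ⟨g, hgR⟩
    have hj' : g ^ r ^ j = 1 := by
      have := congrArg Subtype.val hj
      simpa using this
    refine ⟨r ^ j, ⟨j, rfl⟩, ?_⟩
    intro a ha
    have hcomm : ⁅a, g⁆ ∈ center G :=
      MinClassCentral.commutator_mem_center_of_min_class D hDcomm n g
        (index_of_not_mem_center h hgc) hmin a ha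
    have h1 : ⁅a ^ r ^ j, g⁆ = 1 := by
      rw [TwoClassSizesP.commutator_pow_left a g hcomm, ← TwoClassSizesP.commutator_pow_right a g hcomm,
        hj']
      simp
    by_contra hac
    have haD : a ^ r ^ j ∈ D := D.pow_mem ha _
    have hCa : centralizer ({a ^ r ^ j} : Set G) = D := by
      rw [hD]
      exact centralizer_eq_of_mem_centralizer h hCA hx hac (hD ▸ haD)
    apply hgD
    rw [← hCa, mem_centralizer_singleton_iff]
    rw [commutatorElement_eq_one_iff_mul_comm] at h1
    exact h1.symm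
  obtain ⟨m₁, ⟨j₁, hm₁⟩, hk₁⟩ := key p hpn
  obtain ⟨m₂, ⟨j₂, hm₂⟩, hk₂⟩ := key q hqn
  have hcop : Nat.Coprime m₁ m₂ := by
    rw [hm₁, hm₂]
    exact Nat.Coprime.pow _ _ ((Nat.coprime_primes hp.out hq.out).mpr hpq)
  apply hx
  have hxD : x ∈ D := by
    rw [hD, mem_centralizer_singleton_iff]
  exact Cfsg.Agent.Helper5.mem_of_pow_mem_of_coprime (center G) x m₁ m₂ hcop (hk₁ x hxD) (hk₂ x hxD)

omit hCA in
/-- (2b-i) -/
theorem mem_center_of_sylow_central (ℓ : ℕ) [Fact ℓ.Prime] (hℓ : ℓ ∣ n) (L : Sylow ℓ G) {u : G}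
    (hcomm : ∀ v ∈ (L : Subgroup G), v * u = u * v) : u ∈ center G := by
  by_contra huc
  have hle : (L : Subgroup G) ≤ centralizer ({u} : Set G) := by
    intro v hv
    rw [mem_centralizer_singleton_iff]
    exact hcomm v hv
  have h2 := index_dvd_of_le hle
  rw [index_of_not_mem_center h huc] at h2
  exact L.not_dvd_index (hℓ.trans h2)

omit hCA in
/-- (2b-ii) -/
theorem false_of_index_prime_central (hn : 1 < n)
    (hex : ∃ x : G, (centralizer ({x} : Set G)).index = n) (ℓ : ℕ) [hℓp : Fact ℓ.Prime] (hℓ : ℓ ∣ n)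
    (L : Sylow ℓ G) (M : Subgroup G) (hML : M ≤ (L : Subgroup G)) (hMZ : M ≤ center G)
    (hidx : M.relIndex (L : Subgroup G) = ℓ) : False := by
  apply sylow_not_le_center h hn hex ℓ hℓ L
  intro g hgL
  by_cases hgM : g ∈ M
  · exact hMZ hgM
  apply mem_center_of_sylow_central h ℓ hℓ L
  obtain ⟨CL, hCL⟩ : ∃ CL, CL = centralizer ({g} : Set G) ⊓ (L : Subgroup G) := ⟨_, rfl⟩
  have hMCL : M ≤ CL := by
    rw [hCL]
    refine le_inf ?_ hML
    exact hMZ.trans (center_le_centralizer _)
  have hCLL : CL ≤ (L : Subgroup G) := hCL ▸ inf_le_right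
  have hgCL : g ∈ CL := by
    rw [hCL]
    refine mem_inf.mpr ⟨?_, hgL⟩
    rw [mem_centralizer_singleton_iff]
  have hmul := relIndex_mul_relIndex M CL (L : Subgroup G) hMCL hCLL
  rw [hidx] at hmul
  have h1 : M.relIndex CL ≠ 1 := by
    intro h1
    rw [relIndex_eq_one] at h1
    exact hgM (h1 hgCL)
  have h2 : M.relIndex CL ∣ ℓ := Dvd.intro _ hmul
  rcases (Nat.dvd_prime hℓp.out).mp h2 with h3 | h3
  · exact absurd h3 h1
  · rw [h3] at hmul
    have h4 : CL.relIndex (L : Subgroup G) = 1 := by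
      have hpos : 0 < ℓ := hℓp.out.pos
      have : ℓ * CL.relIndex (L : Subgroup G) = ℓ * 1 := by rw [hmul, mul_one]
      exact Nat.eq_of_mul_eq_mul_left hpos this
    rw [relIndex_eq_one] at h4
    intro v hv
    have := h4 hv
    rw [hCL] at this
    have h5 := (mem_inf.mp this).1
    rw [mem_centralizer_singleton_iff] at h5
    exact h5

omit hCA in
/-- (2c): an element `w` of `L` inducing a central element of order `ℓ` in `L/Z(L)`. -/
theorem exists_w (hn : 1 < n) (hex : ∃ x : G, (centralizer ({x} : Set G)).index = n)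
    (ℓ : ℕ) [hℓp : Fact ℓ.Prime] (hℓ : ℓ ∣ n) (L : Sylow ℓ G) :
    ∃ w ∈ (L : Subgroup G), w ∉ center G ∧ (∀ g ∈ (L : Subgroup G), ⁅g, w⁆ ∈ center G) ∧
      w ^ ℓ ∈ center G := by
  classical
  -- elements of Z(L) are central in G
  have hZL : ∀ z : ↥(L : Subgroup G), z ∈ center ↥(L : Subgroup G) → (z : G) ∈ center G := by
    intro z hz
    apply mem_center_of_sylow_central h ℓ hℓ L
    intro v hv
    have := (mem_center_iff.mp hz) ⟨v, hv⟩
    exact congrArg Subtype.val this
  have hne : center ↥(L : Subgroup G) ≠ ⊤ := by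
    intro htop
    apply sylow_not_le_center h hn hex ℓ hℓ L
    intro g hg
    have : (⟨g, hg⟩ : ↥(L : Subgroup G)) ∈ center ↥(L : Subgroup G) := by rw [htop]; trivial
    exact hZL _ this
  haveI : Nontrivial (↥(L : Subgroup G) ⧸ center ↥(L : Subgroup G)) :=
    QuotientGroup.nontrivial_iff.mpr hne
  have hQp : IsPGroup ℓ (↥(L : Subgroup G) ⧸ center ↥(L : Subgroup G)) := L.isPGroup'.to_quotient _
  haveI := hQp.center_nontrivial
  have hZQp : IsPGroup ℓ ↥(center (↥(L : Subgroup G) ⧸ center ↥(L : Subgroup G))) :=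
    hQp.to_subgroup _
  obtain ⟨k, hk0, hk⟩ := hZQp.nontrivial_iff_card.mp inferInstance
  have hdvd : ℓ ∣ Nat.card ↥(center (↥(L : Subgroup G) ⧸ center ↥(L : Subgroup G))) := by
    rw [hk]; exact dvd_pow_self ℓ hk0.ne'
  obtain ⟨z, hz⟩ := exists_prime_orderOf_dvd_card' ℓ hdvd
  obtain ⟨w', hw'⟩ := QuotientGroup.mk_surjective (z : ↥(L : Subgroup G) ⧸ center ↥(L : Subgroup G))
  have hzord : orderOf (z : ↥(L : Subgroup G) ⧸ center ↥(L : Subgroup G)) = ℓ := by
    rw [Subgroup.orderOf_coe]; exact hz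
  refine ⟨(w' : G), w'.2, ?_, ?_, ?_⟩
  · intro hwc
    have hw'Z : w' ∈ center ↥(L : Subgroup G) := by
      rw [mem_center_iff]
      intro g
      apply Subtype.ext
      exact (mem_center_iff.mp hwc) (g : G)
    have : (z : ↥(L : Subgroup G) ⧸ center ↥(L : Subgroup G)) = 1 := by
      rw [← hw']; exact (QuotientGroup.eq_one_iff w').mpr hw'Z
    rw [this, orderOf_one] at hzord
    exact hℓp.out.one_lt.ne hzord
  · intro g hg
    have hcomm : ⁅(⟨g, hg⟩ : ↥(L : Subgroup G)), w'⁆ ∈ center ↥(L : Subgroup G) := by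
      rw [← QuotientGroup.eq_one_iff]
      have h1 : ((⁅(⟨g, hg⟩ : ↥(L : Subgroup G)), w'⁆ : ↥(L : Subgroup G)) :
          ↥(L : Subgroup G) ⧸ center ↥(L : Subgroup G)) =
          ⁅(QuotientGroup.mk (⟨g, hg⟩ : ↥(L : Subgroup G)) :
            ↥(L : Subgroup G) ⧸ center ↥(L : Subgroup G)), QuotientGroup.mk w'⁆ := by
        simp only [commutatorElement_def, QuotientGroup.mk_mul, QuotientGroup.mk_inv]
      rw [h1, hw', commutatorElement_eq_one_iff_mul_comm]
      exact (mem_center_iff.mp z.2) _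
    have := hZL _ hcomm
    simpa [commutatorElement_def] using this
  · have hpow : w' ^ ℓ ∈ center ↥(L : Subgroup G) := by
      rw [← QuotientGroup.eq_one_iff, QuotientGroup.mk_pow, hw']
      have h9 := pow_orderOf_eq_one (z : ↥(L : Subgroup G) ⧸ center ↥(L : Subgroup G))
      rw [hzord] at h9
      exact h9
    have := hZL _ hpow
    simpa using this

end Cfsg.Agent.Helper4.ItoTwo
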