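import Mathlib
import Cfsg.Agent.Helper4.ItoTwoD
import Cfsg.Agent.Helper4.ItoTwoAvg

set_option autoImplicit false

/-!
Itô's theorem, two primes: the dichotomy for a prime `ℓ ∣ n` (Claim X).
-/

namespace Cfsg.Agent.Helper4.ItoTwo

open Subgroup
open scoped commutatorElement

variable {G : Type*} [Group G] [Finite G] {n : ℕ}
  (h : ∀ x : G, (centralizer ({x} : Set G)).index = 1 ∨ (centralizer ({x} : Set G)).index = n)
  (hCA : ∀ g : G, g ∉ center G → ∀ c ∈ centralizer ({g} : Set G),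
    ∀ d ∈ centralizer ({g} : Set G), c * d = d * c)

omit [Finite G] in
/-- `L` normalizes `C(w)` when `[L, w] ≤ Z(G)`. -/
theorem conj_mem_centralizer_of_commutator_central (L : Subgroup G) (w : G)
    (hwL : ∀ g ∈ L, ⁅g, w⁆ ∈ center G) :
    ∀ g ∈ L, ∀ t ∈ centralizer ({w} : Set G), g * t * g⁻¹ ∈ centralizer ({w} : Set G) := by
  intro g hg t ht
  rw [mem_centralizer_singleton_iff] at ht ⊢
  have hz := hwL g⁻¹ (L.inv_mem hg)
  rw [mem_center_iff] at hz
  have h1 : g⁻¹ * w * g = ⁅g⁻¹, w⁆ * w := by rw [commutatorElement_def]; group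
  have h2 : g * t * g⁻¹ * w = g * (t * (g⁻¹ * w * g)) * g⁻¹ := by group
  have h3 : w * (g * t * g⁻¹) = g * ((g⁻¹ * w * g) * t) * g⁻¹ := by group
  rw [h2, h3, h1]
  congr 2
  calc t * (⁅g⁻¹, w⁆ * w) = (t * ⁅g⁻¹, w⁆) * w := by rw [mul_assoc]
    _ = (⁅g⁻¹, w⁆ * t) * w := by rw [hz t]
    _ = ⁅g⁻¹, w⁆ * (t * w) := by rw [mul_assoc]
    _ = ⁅g⁻¹, w⁆ * (w * t) := by rw [ht]
    _ = ⁅g⁻¹, w⁆ * w * t := by rw [mul_assoc]

omit [Finite G] in
/-- the commutator homomorphism `g ↦ [g, w]` from `L` to the center -/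
theorem exists_commutator_hom (L : Subgroup G) (w : G) (hwL : ∀ g ∈ L, ⁅g, w⁆ ∈ center G) :
    ∃ φ : ↥L →* ↥(center G), ∀ g : ↥L, ((φ g : ↥(center G)) : G) = ⁅(g : G), w⁆ := by
  refine ⟨MonoidHom.mk' (fun g => ⟨⁅(g : G), w⁆, hwL g g.2⟩) ?_, fun g => rfl⟩
  intro a b
  apply Subtype.ext
  show ⁅((a * b : ↥L) : G), w⁆ = ⁅(a : G), w⁆ * ⁅(b : G), w⁆
  have hb := hwL b b.2
  rw [mem_center_iff] at hb
  have h1 : ⁅((a * b : ↥L) : G), w⁆ = (a : G) * ⁅(b : G), w⁆ * (a : G)⁻¹ * ⁅(a : G), w⁆ := by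
    rw [Subgroup.coe_mul]
    simp only [commutatorElement_def]; group
  rw [h1, hb (a : G)]
  have ha := hwL a a.2
  rw [mem_center_iff] at ha
  have h2 : ⁅(b : G), w⁆ * (a : G) * (a : G)⁻¹ = ⁅(b : G), w⁆ := by group
  rw [h2]
  exact ha _

include h hCA

/-- Claim X. -/
theorem claimX (ℓ : ℕ) [hℓp : Fact ℓ.Prime] (hℓ : ℓ ∣ n) (L : Sylow ℓ G) (w : G)
    (hwc : w ∉ center G)
    (hwL : ∀ g ∈ (L : Subgroup G), ⁅g, w⁆ ∈ center G) (hwℓ : w ^ ℓ ∈ center G) :
    ¬ ℓ ^ 2 ∣ n ∨ ∀ t ∈ centralizer ({w} : Set G), ¬ ℓ ∣ orderOf t → t ∈ center G := by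
  classical
  obtain ⟨D, hD⟩ : ∃ D, D = centralizer ({w} : Set G) := ⟨_, rfl⟩
  rw [← hD]
  have hLD : ∀ g ∈ (L : Subgroup G), ∀ t ∈ D, g * t * g⁻¹ ∈ D :=
    hD ▸ conj_mem_centralizer_of_commutator_central (L : Subgroup G) w hwL
  have hDcomm : ∀ a b : ↥D, a * b = b * a :=
    fun a b => Subtype.ext (hCA w hwc a.1 (hD ▸ a.2) b.1 (hD ▸ b.2))
  obtain ⟨φ, hφ⟩ := exists_commutator_hom (L : Subgroup G) w hwL
  -- kernel of φ
  have hφker : ∀ g : ↥(L : Subgroup G), φ g = 1 ↔ (g : G) ∈ D := by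
    intro g
    rw [hD, mem_centralizer_singleton_iff, ← commutatorElement_eq_one_iff_mul_comm, ← hφ g]
    constructor
    · intro h1; rw [h1]; rfl
    · intro h1; exact Subtype.ext h1
  -- exponent ℓ
  have hφℓ : ∀ g : ↥(L : Subgroup G), (φ g) ^ ℓ = 1 := by
    intro g
    apply Subtype.ext
    rw [Subgroup.coe_pow, hφ g, ← TwoClassSizesP.commutator_pow_right _ _ (hwL g g.2)]
    have := mem_center_iff.mp hwℓ (g : G)
    rw [Subgroup.coe_one, commutatorElement_eq_one_iff_mul_comm]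
    exact this
  -- Ψ
  obtain ⟨Ψ, hΨdef⟩ : ∃ Ψ, Ψ = conjHom (L : Subgroup G) D hLD := ⟨_, rfl⟩
  have hΨapp : ∀ (g : ↥(L : Subgroup G)) (t : ↥D), ((Ψ g t : ↥D) : G) = (g : G) * t * (g : G)⁻¹ := by
    intro g t; rw [hΨdef]; rfl
  have hΨone : ∀ g : ↥(L : Subgroup G), (g : G) ∈ D → Ψ g = 1 := by
    intro g hg
    ext t
    rw [hΨapp, MulAut.one_apply]
    have := hDcomm ⟨g, hg⟩ t
    have h2 : (g : G) * t = t * g := congrArg Subtype.val this
    rw [h2]; group
  have hxw : ∃ v ∈ (L : Subgroup G), v ∉ D := by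
    by_contra hcon
    push_neg at hcon
    apply hwc
    apply mem_center_of_sylow_central h ℓ hℓ L
    intro v hv
    have := hcon v hv
    rw [hD, mem_centralizer_singleton_iff] at this
    exact this
  by_cases hE : ∃ g₁ g₂ : ↥(L : Subgroup G), ∀ i j : ℕ, (¬ ℓ ∣ i ∨ ¬ ℓ ∣ j) →
      ((g₁ ^ i * g₂ ^ j : ↥(L : Subgroup G)) : G) ∉ D
  · right
    obtain ⟨g₁, g₂, hind⟩ := hE
    intro t htD htℓ
    have hαβ : Ψ g₁ * Ψ g₂ = Ψ g₂ * Ψ g₁ := by
      rw [← map_mul, ← map_mul]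
      have hc : g₁ * g₂ = (g₂ * g₁) * ((g₂ * g₁)⁻¹ * (g₁ * g₂)) := by group
      have hcD : (((g₂ * g₁)⁻¹ * (g₁ * g₂) : ↥(L : Subgroup G)) : G) ∈ D := by
        rw [← hφker]
        simp only [map_mul, map_inv]
        have hφcomm : φ g₁ * φ g₂ = φ g₂ * φ g₁ :=
          Subtype.ext (mem_center_iff.mp (φ g₂).2 (φ g₁).1)
        rw [hφcomm, inv_mul_cancel]
      rw [hc, map_mul, hΨone _ hcD, mul_one]
    have hpowD : ∀ g : ↥(L : Subgroup G), Ψ g ^ ℓ = 1 := by
      intro g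
      rw [← map_pow]
      apply hΨone
      rw [← hφker, map_pow]
      exact hφℓ g
    have hZfix : ∀ g : ↥(L : Subgroup G), ∀ v ∈ (center G).subgroupOf D, Ψ g v = v := by
      intro g v hv
      rw [mem_subgroupOf, mem_center_iff] at hv
      apply Subtype.ext
      rw [hΨapp, hv (g : G)]
      group
    have key := pow_mem_of_commuting_auts' hDcomm ((center G).subgroupOf D) (Ψ g₁) (Ψ g₂) hαβ
      (hpowD g₁) (hpowD g₂) (hZfix g₁) (hZfix g₂) (by
        intro i j hij v hv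
        rw [← map_pow, ← map_pow, ← map_mul] at hv
        rw [mem_subgroupOf]
        by_contra hvc
        apply hind i j hij
        have hCv : centralizer ({(v : G)} : Set G) = D :=
          (centralizer_eq_of_mem_centralizer h hCA hwc hvc (by rw [← hD]; exact v.2)).trans hD.symm
        rw [← hCv, mem_centralizer_singleton_iff]
        have h1 := congrArg Subtype.val hv
        rw [hΨapp] at h1
        calc ((g₁ ^ i * g₂ ^ j : ↥(L : Subgroup G)) : G) * (v : G)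
            = (((g₁ ^ i * g₂ ^ j : ↥(L : Subgroup G)) : G) * (v : G) *
                ((g₁ ^ i * g₂ ^ j : ↥(L : Subgroup G)) : G)⁻¹) *
                ((g₁ ^ i * g₂ ^ j : ↥(L : Subgroup G)) : G) := by group
          _ = (v : G) * ((g₁ ^ i * g₂ ^ j : ↥(L : Subgroup G)) : G) := by rw [h1])
    have h1 := key ⟨t, htD⟩
    rw [mem_subgroupOf] at h1
    have h2 : t ^ ℓ ∈ center G := by simpa using h1
    have h3 : t ^ orderOf t ∈ center G := by rw [pow_orderOf_eq_one]; exact one_mem _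
    have hcop : Nat.Coprime ℓ (orderOf t) := (Nat.Prime.coprime_iff_not_dvd hℓp.out).mpr htℓ
    exact Cfsg.Agent.Helper5.mem_of_pow_mem_of_coprime (center G) t ℓ (orderOf t) hcop h2 h3
  · left
    push_neg at hE
    obtain ⟨g₁', hg₁L, hg₁D⟩ := hxw
    obtain ⟨g₁, hg₁⟩ : ∃ g₁ : ↥(L : Subgroup G), g₁ = ⟨g₁', hg₁L⟩ := ⟨_, rfl⟩
    have hg₁D' : φ g₁ ≠ 1 := by
      intro h1
      rw [hφker, hg₁] at h1
      exact hg₁D h1
    -- range φ ≤ zpowers (φ g₁)
    have hrange : φ.range ≤ zpowers (φ g₁) := by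
      rintro _ ⟨g₂, rfl⟩
      obtain ⟨i, j, hij, hmem⟩ := hE g₁ g₂
      rw [← hφker, map_mul, map_pow, map_pow] at hmem
      by_cases hj : ℓ ∣ j
      · exfalso
        obtain ⟨j', rfl⟩ := hj
        rw [pow_mul, hφℓ g₂, one_pow, mul_one] at hmem
        have hi : ¬ ℓ ∣ i := by
          rcases hij with h1 | h1
          · exact h1
          · exact absurd (dvd_mul_right ℓ j') h1
        apply hg₁D'
        have hcop : Nat.Coprime i ℓ := ((Nat.Prime.coprime_iff_not_dvd hℓp.out).mpr hi).symm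
        have := Cfsg.Agent.Helper5.mem_of_pow_mem_of_coprime (⊥ : Subgroup ↥(center G)) (φ g₁) i ℓ hcop
          (by rw [hmem]; exact one_mem _) (by rw [hφℓ]; exact one_mem _)
        exact (mem_bot.mp this)
      · have hcop : Nat.Coprime j ℓ := ((Nat.Prime.coprime_iff_not_dvd hℓp.out).mpr hj).symm
        apply Cfsg.Agent.Helper5.mem_of_pow_mem_of_coprime (zpowers (φ g₁)) (φ g₂) j ℓ hcop
        · have : φ g₂ ^ j = ((φ g₁) ^ i)⁻¹ := eq_inv_of_mul_eq_one_right hmem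
          rw [this]
          exact inv_mem (pow_mem (mem_zpowers _) _)
        · rw [hφℓ]; exact one_mem _
    have hcardrange : Nat.card φ.range ≤ ℓ := by
      have h1 : Nat.card φ.range ≤ Nat.card (zpowers (φ g₁)) :=
        Nat.le_of_dvd Nat.card_pos (Subgroup.card_dvd_of_le hrange)
      rw [Nat.card_zpowers] at h1
      have h2 : orderOf (φ g₁) ∣ ℓ := orderOf_dvd_of_pow_eq_one (hφℓ g₁)
      exact h1.trans (Nat.le_of_dvd hℓp.out.pos h2)
    have hcardL : Nat.card (L : Subgroup G) = Nat.card φ.ker * Nat.card φ.range := by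
      rw [← Subgroup.index_ker, Subgroup.card_mul_index]
    have hkerp : IsPGroup ℓ φ.ker := L.isPGroup'.to_subgroup _
    obtain ⟨e, he⟩ := IsPGroup.iff_card.mp hkerp
    have hkerD : ℓ ^ e ∣ Nat.card D := by
      rw [← he]
      have hle : φ.ker.map (L : Subgroup G).subtype ≤ D := by
        rintro _ ⟨g, hg, rfl⟩
        have hg' : g ∈ φ.ker := hg
        rw [MonoidHom.mem_ker, hφker] at hg'
        exact hg'
      have := Subgroup.card_dvd_of_le hle
      rwa [Subgroup.card_map_of_injective (Subgroup.subtype_injective _)] at this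
    intro hsq
    have hDidx : D.index = n := hD ▸ index_of_not_mem_center h hwc
    have hcardG : Nat.card D * n = Nat.card G := by rw [← hDidx]; exact D.card_mul_index
    have h1 : ℓ ^ (e + 2) ∣ Nat.card G := by
      rw [← hcardG, pow_add]
      exact mul_dvd_mul hkerD hsq
    have h2 : e + 2 ≤ (Nat.card G).factorization ℓ :=
      (Nat.Prime.pow_dvd_iff_le_factorization hℓp.out Nat.card_pos.ne').mp h1
    have h3 : Nat.card (L : Subgroup G) = ℓ ^ (Nat.card G).factorization ℓ := L.card_eq_multiplicity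
    have h4 : Nat.card (L : Subgroup G) ≤ ℓ ^ (e + 1) := by
      rw [hcardL, he, pow_succ]
      exact Nat.mul_le_mul_left _ hcardrange
    have h5 : ℓ ^ (e + 2) ≤ ℓ ^ (Nat.card G).factorization ℓ :=
      Nat.pow_le_pow_right hℓp.out.pos h2
    have h6 : ℓ ^ (e + 1) < ℓ ^ (e + 2) := Nat.pow_lt_pow_right hℓp.out.one_lt (by omega)
    omega

end Cfsg.Agent.Helper4.ItoTwo
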