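import Mathlib
import Cfsg.Agent.Helper4.ItoTwoB
import Cfsg.Agent.Helper4.ItoTwoE

set_option autoImplicit false

/-!
Itô's theorem on groups with two class sizes: final assembly.
-/

namespace Cfsg.Agent.Helper4.ItoTwo

open Subgroup
open scoped commutatorElement

variable {G : Type*} [Group G] [Finite G] {n : ℕ}
  (h : ∀ x : G, (centralizer ({x} : Set G)).index = 1 ∨ (centralizer ({x} : Set G)).index = n)

include h

/-- (F1) a Sylow `ℓ`-subgroup of `C(x)` has index `ℓ` in a Sylow `ℓ`-subgroup of `G` when `ℓ ∥ n`. -/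
theorem exists_sylow_index (ℓ : ℕ) [hℓp : Fact ℓ.Prime] (hℓ : ℓ ∣ n) (hℓ1 : ¬ ℓ ^ 2 ∣ n) {x : G}
    (hx : x ∉ center G) :
    ∃ (L : Sylow ℓ G) (R₀ : Subgroup G), R₀ ≤ (L : Subgroup G) ∧ R₀ ≤ centralizer ({x} : Set G) ∧
      R₀.relIndex (L : Subgroup G) = ℓ := by
  classical
  obtain ⟨D, hD⟩ : ∃ D, D = centralizer ({x} : Set G) := ⟨_, rfl⟩
  rw [← hD]
  let T : Sylow ℓ ↥D := default
  obtain ⟨R₀, hR₀⟩ : ∃ R₀, R₀ = (T : Subgroup ↥D).map D.subtype := ⟨_, rfl⟩
  have hR₀D : R₀ ≤ D := hR₀ ▸ Subgroup.map_subtype_le _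
  have hR₀p : IsPGroup ℓ R₀ := hR₀ ▸ T.isPGroup'.map _
  obtain ⟨L, hL⟩ := hR₀p.exists_le_sylow
  refine ⟨L, R₀, hL, hR₀D, ?_⟩
  have hcardR₀ : Nat.card R₀ = ℓ ^ (Nat.card D).factorization ℓ := by
    rw [hR₀, Subgroup.card_map_of_injective (Subgroup.subtype_injective _), T.card_eq_multiplicity]
  have hcardL : Nat.card (L : Subgroup G) = ℓ ^ (Nat.card G).factorization ℓ := L.card_eq_multiplicity
  have hDidx : D.index = n := hD ▸ index_of_not_mem_center h hx
  have hn0 : n ≠ 0 := by rw [← hDidx]; exact index_ne_zero_of_finite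
  have hcardG : Nat.card D * n = Nat.card G := by rw [← hDidx]; exact D.card_mul_index
  have hfn : n.factorization ℓ = 1 := by
    have h1 : 1 ≤ n.factorization ℓ := (Nat.Prime.dvd_iff_one_le_factorization hℓp.out hn0).mp hℓ
    have h2 : ¬ 2 ≤ n.factorization ℓ := fun h2 =>
      hℓ1 ((Nat.Prime.pow_dvd_iff_le_factorization hℓp.out hn0).mpr h2)
    omega
  have hfG : (Nat.card G).factorization ℓ = (Nat.card D).factorization ℓ + 1 := by
    rw [← hcardG, Nat.factorization_mul Nat.card_pos.ne' hn0, Finsupp.add_apply, hfn]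
  have h3 := Cfsg.Agent.Helper4.card_mul_relIndex' hL
  rw [hcardR₀, hcardL, hfG, pow_succ] at h3
  exact Nat.eq_of_mul_eq_mul_left (pow_pos hℓp.out.pos _) h3

/-- (W') -/
theorem false_of_central_prime_elements (hn : 1 < n)
    (hex : ∃ x : G, (centralizer ({x} : Set G)).index = n) (r : ℕ) [hr : Fact r.Prime] (hrn : r ∣ n)
    (hr1 : ¬ r ^ 2 ∣ n) {x : G} (hx : x ∉ center G)
    (hrD : ∀ t ∈ centralizer ({x} : Set G), (∃ k : ℕ, orderOf t = r ^ k) → t ∈ center G) : False := by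
  obtain ⟨L, R₀, hR₀L, hR₀D, hidx⟩ := exists_sylow_index h r hrn hr1 hx
  apply false_of_index_prime_central h hn hex r hrn L R₀ hR₀L _ hidx
  intro t ht
  apply hrD t (hR₀D ht)
  obtain ⟨k, hk⟩ := L.isPGroup' ⟨t, hR₀L ht⟩
  have hk' : t ^ r ^ k = 1 := by
    have := congrArg Subtype.val hk
    simpa using this
  obtain ⟨j, -, hj⟩ := (Nat.dvd_prime_pow hr.out).1 (orderOf_dvd_of_pow_eq_one hk')
  exact ⟨j, hj⟩

/-- (F3) in the squarefree case every noncentral centralizer is normal. -/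
theorem normal_centralizer_of_squarefree (hn : 1 < n)
    (hex : ∃ x : G, (centralizer ({x} : Set G)).index = n)
    (hCA : ∀ g : G, g ∉ center G → ∀ c ∈ centralizer ({g} : Set G),
      ∀ d ∈ centralizer ({g} : Set G), c * d = d * c)
    (hsqf : ∀ ℓ : ℕ, ℓ.Prime → ℓ ∣ n → ¬ ℓ ^ 2 ∣ n) {x : G} (hx : x ∉ center G) :
    (centralizer ({x} : Set G)).Normal := by
  classical
  obtain ⟨D, hD⟩ : ∃ D, D = centralizer ({x} : Set G) := ⟨_, rfl⟩
  rw [← hD]
  rw [← normalizer_eq_top_iff]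
  by_contra hne
  have hidx1 : (normalizer (D : Set G)).index ≠ 1 := fun h1 => hne (index_eq_one.mp h1)
  obtain ⟨ℓ, hℓ, hℓd⟩ := Nat.exists_prime_and_dvd hidx1
  haveI : Fact ℓ.Prime := ⟨hℓ⟩
  have hDidx : D.index = n := hD ▸ index_of_not_mem_center h hx
  have hℓn : ℓ ∣ n := by
    rw [← hDidx]
    exact hℓd.trans (index_dvd_of_le le_normalizer)
  obtain ⟨L, R₀, hR₀L, hR₀D, hidx⟩ := exists_sylow_index h ℓ hℓn (hsqf ℓ hℓ hℓn) hx
  rw [← hD] at hR₀D
  by_cases hR₀Z : R₀ ≤ center G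
  · exact false_of_index_prime_central h hn hex ℓ hℓn L R₀ hR₀L hR₀Z hidx
  rw [SetLike.not_le_iff_exists] at hR₀Z
  obtain ⟨u, huR₀, huc⟩ := hR₀Z
  -- R₀ is normal in L
  have hnormal : (R₀.subgroupOf (L : Subgroup G)).Normal := by
    apply normal_of_index_eq_minFac_card
    have h1 : (R₀.subgroupOf (L : Subgroup G)).index = ℓ := hidx
    rw [h1, L.card_eq_multiplicity]
    have hv : (Nat.card G).factorization ℓ ≠ 0 := by
      intro h0
      have h2 := Cfsg.Agent.Helper4.card_mul_relIndex' hR₀L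
      rw [hidx, L.card_eq_multiplicity, h0, pow_zero] at h2
      have h3 : ℓ ∣ 1 := Dvd.intro_left _ h2
      exact hℓ.one_lt.ne' (Nat.dvd_one.mp h3)
    exact (Nat.Prime.pow_minFac hℓ hv).symm
  have hconj : ∀ g ∈ (L : Subgroup G), ∀ t ∈ R₀, g * t * g⁻¹ ∈ R₀ := by
    intro g hg t ht
    have := hnormal.conj_mem ⟨t, hR₀L ht⟩ (mem_subgroupOf.mpr ht) ⟨g, hg⟩
    rw [mem_subgroupOf] at this
    simpa using this
  have hCu : centralizer ({u} : Set G) = D :=
    (centralizer_eq_of_mem_centralizer h hCA hx huc (by rw [← hD]; exact hR₀D huR₀)).trans hD.symm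
  have hLN : (L : Subgroup G) ≤ normalizer (D : Set G) := by
    intro g hg
    have hu' : g * u * g⁻¹ ∈ R₀ := hconj g hg u huR₀
    have hu'c : g * u * g⁻¹ ∉ center G := by
      intro hc
      apply huc
      have : u = g⁻¹ * (g * u * g⁻¹) * g := by group
      rw [this]
      exact (inferInstance : (center G).Normal).conj_mem _ hc g⁻¹ |> fun h1 => by simpa using h1
    have hCu' : centralizer ({g * u * g⁻¹} : Set G) = D :=
      (centralizer_eq_of_mem_centralizer h hCA hx hu'c (by rw [← hD]; exact hR₀D hu')).trans hD.symm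
    rw [mem_normalizer_iff]
    intro d
    have e1 : d ∈ D ↔ d * u = u * d := by rw [← hCu, mem_centralizer_singleton_iff]
    have e2 : g * d * g⁻¹ ∈ D ↔ g * d * g⁻¹ * (g * u * g⁻¹) = g * u * g⁻¹ * (g * d * g⁻¹) := by
      rw [← hCu', mem_centralizer_singleton_iff]
    rw [e1, e2]
    constructor
    · intro hd
      calc g * d * g⁻¹ * (g * u * g⁻¹) = g * (d * u) * g⁻¹ := by group
        _ = g * (u * d) * g⁻¹ := by rw [hd]
        _ = g * u * g⁻¹ * (g * d * g⁻¹) := by group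
    · intro hd
      have : d * u = g⁻¹ * (g * d * g⁻¹ * (g * u * g⁻¹)) * g := by group
      rw [this, hd]; group
  have h2 := index_dvd_of_le hLN
  exact L.not_dvd_index (hℓd.trans h2)

/-- two distinct primes cannot divide `n`. -/
theorem false_of_two_primes (hn : 1 < n) (hex : ∃ x : G, (centralizer ({x} : Set G)).index = n)
    (p q : ℕ) [hp : Fact p.Prime] [hq : Fact q.Prime] (hpq : p ≠ q) (hpn : p ∣ n) (hqn : q ∣ n) :
    False := by
  have hCA : ∀ g : G, g ∉ center G → ∀ c ∈ centralizer ({g} : Set G),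
      ∀ d ∈ centralizer ({g} : Set G), c * d = d * c :=
    fun g hg => comm_centralizer h hn hex p q hpq hpn hqn hg
  obtain ⟨x₀, hx₀⟩ := hex
  have hx₀c : x₀ ∉ center G := by
    intro hc
    rw [← index_eq_one_iff, hx₀] at hc
    omega
  have hex : ∃ x : G, (centralizer ({x} : Set G)).index = n := ⟨x₀, hx₀⟩
  by_cases hsq : ∃ ℓ : ℕ, ℓ.Prime ∧ ℓ ∣ n ∧ ℓ ^ 2 ∣ n
  · obtain ⟨ℓ, hℓ, hℓn, hℓ2⟩ := hsq
    haveI : Fact ℓ.Prime := ⟨hℓ⟩
    let L : Sylow ℓ G := default
    obtain ⟨w, hwL, hwc, hwcomm, hwℓ⟩ := exists_w h hn hex ℓ hℓn L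
    rcases claimX h hCA ℓ hℓn L w hwc hwcomm hwℓ with h1 | hcent
    · exact h1 hℓ2
    -- the other prime
    obtain ⟨r, hr, hrℓ, hrn⟩ : ∃ r : ℕ, r.Prime ∧ r ≠ ℓ ∧ r ∣ n := by
      by_cases hpℓ : p = ℓ
      · exact ⟨q, hq.out, fun h1 => hpq (hpℓ.trans h1.symm), hqn⟩
      · exact ⟨p, hp.out, hpℓ, hpn⟩
    haveI : Fact r.Prime := ⟨hr⟩
    let R : Sylow r G := default
    obtain ⟨wr, hwrR, hwrc, hwrcomm, hwrr⟩ := exists_w h hn hex r hrn R
    rcases claimX h hCA r hrn R wr hwrc hwrcomm hwrr with hr1 | hcentr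
    · -- W' with D = C w
      apply false_of_central_prime_elements h hn hex r hrn hr1 hwc
      intro t ht ⟨k, hk⟩
      apply hcent t ht
      rw [hk]
      intro hd
      exact hrℓ ((Nat.prime_dvd_prime_iff_eq hℓ hr).mp (hℓ.dvd_of_dvd_pow hd)).symm
    · -- compare ℓ-parts of C(wr) and C(w)
      obtain ⟨k, hk⟩ := L.isPGroup' ⟨w, hwL⟩
      have hk' : w ^ ℓ ^ k = 1 := by
        have := congrArg Subtype.val hk
        simpa using this
      obtain ⟨j, -, hj⟩ := (Nat.dvd_prime_pow hℓ).1 (orderOf_dvd_of_pow_eq_one hk')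
      apply false_of_prime_power_central h ℓ hwrc hwc j hj
      intro t ht ⟨i, hi⟩
      apply hcentr t ht
      rw [hi]
      intro hd
      exact hrℓ ((Nat.prime_dvd_prime_iff_eq hr hℓ).mp (hr.dvd_of_dvd_pow hd))
  · push_neg at hsq
    have hnormal := normal_centralizer_of_squarefree h hn hex hCA
      (fun ℓ hℓ hℓn => hsq ℓ hℓ hℓn) hx₀c
    exact not_normal_centralizer h hCA hn p q hpq hpn hqn hx₀c hnormal

/-- **Itô's theorem** (with Isaacs' addition): a finite group with class sizes `1` and `n > 1`. -/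
theorem ito (hn : 1 < n) (hex : ∃ x : G, (centralizer ({x} : Set G)).index = n) :
    ∃ (p : ℕ) (_ : Fact p.Prime) (a : ℕ), n = p ^ a ∧ ∀ P : Sylow p G,
      (P : Subgroup G).Normal ∧
      (∃ N : Subgroup G, N.Normal ∧ N.IsComplement' (P : Subgroup G) ∧ IsMulCommutative N ∧
        ∀ x ∈ N, ∀ y ∈ (P : Subgroup G), x * y = y * x) ∧
      ∃ A : Subgroup (P : Subgroup G), A.Normal ∧ IsMulCommutative A ∧
        ∀ y : (P : Subgroup G), y ^ p ∈ A := by
  obtain ⟨p, hp, hpn⟩ := Nat.exists_prime_and_dvd (by omega : n ≠ 1)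
  haveI hpf : Fact p.Prime := ⟨hp⟩
  by_cases hall : ∀ d : ℕ, d.Prime → d ∣ n → d = p
  · have hna : n = p ^ n.primeFactorsList.length :=
      Nat.eq_prime_pow_of_unique_prime_dvd (by omega) (fun {d} hd hdn => hall d hd hdn)
    refine ⟨p, hpf, n.primeFactorsList.length, hna, ?_⟩
    intro P
    exact case_prime_power h hn p _ hna P
  · exfalso
    push_neg at hall
    obtain ⟨q, hq, hqn, hqp⟩ := hall
    haveI : Fact q.Prime := ⟨hq⟩
    exact false_of_two_primes h hn hex p q (fun h1 => hqp h1.symm) hpn hqn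

end Cfsg.Agent.Helper4.ItoTwo
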