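import Cfsg.Agent.Helper4.TensA2C

set_option autoImplicit false
set_option linter.unusedSectionVars false
set_option linter.unusedVariables false

/-! S5666, case `dim U = 2` (helper4): step (S5), a good `u`, and the final statement. -/

namespace Cfsg.Agent.Helper4.TensA2

open Module Cfsg.Agent.Helper7.ExtF Cfsg.Agent.Helper8.Tens Cfsg.Agent.Helper6.SpO

variable {F : Type*} [Field F] {U W V : Type*} [AddCommGroup U] [Module F U]
  [AddCommGroup W] [Module F W] [AddCommGroup V] [Module F V]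
  [FiniteDimensional F U] [FiniteDimensional F W] [FiniteDimensional F V]
  {t : U →ₗ[F] W →ₗ[F] V} {B : LinearMap.BilinForm F V} {f₁ : LinearMap.BilinForm F U}
  {f₂ : LinearMap.BilinForm F W} {X : Subgroup (V ≃ₗ[F] V)}

/-- a symplectic pair spanning a two-dimensional symplectic space, with the expansion formula. -/
theorem exists_symp_pair (alt₁ : ∀ u, f₁ u u = 0) (nd₁ : ∀ u, (∀ v, f₁ u v = 0) → u = 0)
    (hU2 : finrank F U = 2) :
    ∃ u₁ u₂ : U, f₁ u₁ u₂ = 1 ∧ ∀ u, u = f₁ u u₂ • u₁ - f₁ u u₁ • u₂ := by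
  have hskew : ∀ a b, f₁ a b = - f₁ b a := by
    intro a b
    have := alt₁ (a + b)
    simp only [map_add, LinearMap.add_apply, alt₁] at this
    linear_combination this
  obtain ⟨u₁, hu₁⟩ : ∃ u₁ : U, u₁ ≠ 0 := by
    have : 0 < finrank F U := by omega
    exact Module.finrank_pos_iff_exists_ne_zero.mp this
  obtain ⟨v, hv⟩ : ∃ v, f₁ u₁ v ≠ 0 := by
    by_contra hcon
    push Not at hcon
    exact hu₁ (nd₁ u₁ hcon)
  set u₂ := (f₁ u₁ v)⁻¹ • v with hu₂
  have h12 : f₁ u₁ u₂ = 1 := by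
    rw [hu₂, map_smul, smul_eq_mul, inv_mul_cancel₀ hv]
  have h21 : f₁ u₂ u₁ = -1 := by rw [hskew, h12]
  refine ⟨u₁, u₂, h12, ?_⟩
  -- the map `u ↦ (f₁ u u₁, f₁ u u₂)` is injective
  set L : U →ₗ[F] F × F := (LinearMap.flip f₁ u₁).prod (LinearMap.flip f₁ u₂) with hL
  have hLapp : ∀ u, L u = (f₁ u u₁, f₁ u u₂) := fun u => rfl
  have hsurj : LinearMap.range L = ⊤ := by
    rw [eq_top_iff]
    rintro ⟨a, b⟩ -
    refine ⟨b • u₁ - a • u₂, ?_⟩
    rw [hLapp]
    simp only [map_sub, map_smul, LinearMap.sub_apply, LinearMap.smul_apply, alt₁, h12, h21,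
      smul_eq_mul]
    ext <;> simp
  have hker : LinearMap.ker L = ⊥ := by
    have h1 := LinearMap.finrank_range_add_finrank_ker L
    rw [hsurj, finrank_top, Module.finrank_prod, Module.finrank_self, hU2] at h1
    have h0 : finrank F (LinearMap.ker L) = 0 := by omega
    exact Submodule.finrank_eq_zero.mp h0
  intro u
  have hd : u - (f₁ u u₂ • u₁ - f₁ u u₁ • u₂) ∈ LinearMap.ker L := by
    rw [LinearMap.mem_ker, hLapp]
    simp only [map_sub, map_smul, LinearMap.sub_apply, LinearMap.smul_apply, alt₁, h12, h21,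
      smul_eq_mul]
    ext <;> simp
  rw [hker, Submodule.mem_bot] at hd
  exact sub_eq_zero.mp hd

/-- `(z^⊥)^⊥ = F z`. -/
theorem perp_perp (sym₂ : ∀ w w', f₂ w w' = f₂ w' w) (nd₂ : ∀ w, (∀ y, f₂ w y = 0) → w = 0)
    {z x : W} (hz : z ≠ 0) (hx : ∀ w, f₂ w z = 0 → f₂ x w = 0) : ∃ l : F, x = l • z := by
  obtain ⟨w₁, hw₁⟩ : ∃ w₁, f₂ z w₁ ≠ 0 := by
    by_contra hcon
    push Not at hcon
    exact hz (nd₂ z hcon)
  refine ⟨f₂ x w₁ / f₂ z w₁, ?_⟩
  have : x - (f₂ x w₁ / f₂ z w₁) • z = 0 := by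
    apply nd₂
    intro w
    have h1 : f₂ (w - (f₂ z w / f₂ z w₁) • w₁) z = 0 := by
      rw [map_sub, LinearMap.sub_apply, map_smul, LinearMap.smul_apply, smul_eq_mul, sym₂ w z,
        sym₂ w₁ z]
      field_simp
      ring
    have h2 := hx _ h1
    rw [map_sub, map_smul, smul_eq_mul] at h2
    rw [map_sub, LinearMap.sub_apply, map_smul, LinearMap.smul_apply, smul_eq_mul]
    have h3 : f₂ x w = f₂ z w / f₂ z w₁ * f₂ x w₁ := by linear_combination h2
    rw [h3]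
    field_simp
    ring
  exact sub_eq_zero.mp this

/-- two independent vectors span a two-dimensional subspace. -/
theorem mem_pair_of_finrank_two {E : Type*} [AddCommGroup E] [Module F E] (P : Submodule F E)
    [FiniteDimensional F P] (hP2 : finrank F P = 2) {p₁ p₂ : E} (h₁ : p₁ ∈ P) (h₂ : p₂ ∈ P)
    (hp₁ : p₁ ≠ 0) (hind : ∀ m : F, p₂ ≠ m • p₁) (p : E) (hp : p ∈ P) :
    ∃ a b : F, p = a • p₁ + b • p₂ := by
  have hp₂ : p₂ ≠ 0 := by
    intro h0
    exact hind 0 (by rw [h0, zero_smul])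
  set S₁ := Submodule.span F {p₁} with hS₁
  set S₂ := Submodule.span F {p₂} with hS₂
  have hinf : S₁ ⊓ S₂ = ⊥ := by
    rw [eq_bot_iff]
    rintro x ⟨hx1, hx2⟩
    obtain ⟨a, rfl⟩ := Submodule.mem_span_singleton.mp hx1
    obtain ⟨b, hb⟩ := Submodule.mem_span_singleton.mp hx2
    by_cases hb0 : b = 0
    · rw [hb0, zero_smul] at hb
      rw [← hb]; exact Submodule.zero_mem _
    · exfalso
      apply hind (b⁻¹ * a)
      rw [mul_smul, ← hb, smul_smul, inv_mul_cancel₀ hb0, one_smul]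
  have hle : S₁ ⊔ S₂ ≤ P := by
    apply sup_le
    · rw [hS₁, Submodule.span_singleton_le_iff_mem]; exact h₁
    · rw [hS₂, Submodule.span_singleton_le_iff_mem]; exact h₂
  have hfin : finrank F ↥(S₁ ⊔ S₂) = 2 := by
    have h1 := Submodule.finrank_sup_add_finrank_inf_eq S₁ S₂
    rw [hinf, finrank_bot, hS₁, hS₂, finrank_span_singleton hp₁, finrank_span_singleton hp₂]
      at h1
    omega
  have heq : S₁ ⊔ S₂ = P := Submodule.eq_of_le_of_finrank_eq hle (by rw [hfin, hP2])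
  rw [← heq] at hp
  obtain ⟨x, hx, y, hy, rfl⟩ := Submodule.mem_sup.mp hp
  obtain ⟨a, rfl⟩ := Submodule.mem_span_singleton.mp hx
  obtain ⟨b, rfl⟩ := Submodule.mem_span_singleton.mp hy
  exact ⟨a, b, rfl⟩

/-- **(S5)**: a good `u`. -/
theorem goodStep (ht : IsTensorProduct t) (h : Hyp t B f₁ f₂ X) (hU2 : finrank F U = 2) :
    GoodStep ht B f₁ f₂ := by
  intro P hP2 hPnd z hz hPz W' hW' hzW hnf
  obtain ⟨u₁, u₂, h12, hexp⟩ := exists_symp_pair h.alt₁ h.nd₁ hU2
  have hskew : ∀ a b, f₁ a b = - f₁ b a := by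
    intro a b
    have := h.alt₁ (a + b)
    simp only [map_add, LinearMap.add_apply, h.alt₁] at this
    linear_combination this
  have hBskew : ∀ x y, B x y = - B y x := by
    intro x y
    have := h.altB (x + y)
    simp only [map_add, LinearMap.add_apply, h.altB] at this
    linear_combination this
  have h21 : f₁ u₂ u₁ = -1 := by rw [hskew, h12]
  haveI : FiniteDimensional F P := inferInstance
  -- the contractions
  set c : U → V →ₗ[F] W := fun u => evU ht (f₁.flip u) with hc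
  have hcadd : ∀ a b : F, ∀ u u' : U, ∀ p, c (a • u + b • u') p = a • c u p + b • c u' p := by
    intro a b u u' p
    simp only [hc]
    rw [map_add, map_smul, map_smul, evU_add, evU_smul, evU_smul, LinearMap.add_apply,
      LinearMap.smul_apply, LinearMap.smul_apply]
  have hexpV : ∀ v : V, v = t u₁ (c u₂ v) - t u₂ (c u₁ v) := by
    have : (LinearMap.id : V →ₗ[F] V) = (t u₁).comp (c u₂) - (t u₂).comp (c u₁) := by
      apply ext_pure ht
      intro u w
      simp only [LinearMap.id_apply, LinearMap.sub_apply, LinearMap.comp_apply, hc, evU_t,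
        map_smul]
      have e2 : (f₁.flip u₂) u = f₁ u u₂ := rfl
      have e1 : (f₁.flip u₁) u = f₁ u u₁ := rfl
      rw [e1, e2]
      conv_lhs => rw [hexp u]
      simp only [map_sub, map_smul, LinearMap.sub_apply, LinearMap.smul_apply]
    intro v
    exact LinearMap.congr_fun this v
  have hBc : ∀ p u w, B p (t u w) = f₂ (c u p) w := fun p u w => h8_B_pure_evU ht h p u w
  -- both contractions in `F z` kills `p`
  have hkill : ∀ p ∈ P, (∃ l : F, c u₁ p = l • z) → (∃ l : F, c u₂ p = l • z) → p = 0 := by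
    rintro p hp ⟨l₁, hl₁⟩ ⟨l₂, hl₂⟩
    apply hPnd p hp
    intro p' hp'
    have hz0 : ∀ (u : U) (l : F), B (t u (l • z)) p' = 0 := by
      intro u l
      rw [hBskew, map_smul, map_smul, smul_eq_mul, hPz p' hp' u, mul_zero, neg_zero]
    rw [hexpV p, hl₁, hl₂, map_sub, LinearMap.sub_apply, hz0, hz0, sub_zero]
  by_contra hall
  push Not at hall
  have hbad : ∀ u : U, u ≠ 0 → ∃ p ∈ P, p ≠ 0 ∧ ∃ l : F, c u p = l • z := by
    intro u hu
    obtain ⟨p, hp, hperp, hp0⟩ := hall u hu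
    refine ⟨p, hp, hp0, perp_perp h.symm₂ h.nd₂ hz (fun w hw => ?_)⟩
    rw [← hBc]; exact hperp w hw
  have hu₁ : u₁ ≠ 0 := by
    rintro rfl
    simp at h12
  have hu₂ : u₂ ≠ 0 := by
    rintro rfl
    simp at h12
  have hu₃ : u₁ + u₂ ≠ 0 := by
    intro h0
    have : f₁ (u₁ + u₂) u₂ = 1 := by
      rw [map_add, LinearMap.add_apply, h12, h.alt₁, add_zero]
    rw [h0] at this
    simp at this
  obtain ⟨p₁, hp₁P, hp₁, l₁, hl₁⟩ := hbad u₁ hu₁
  obtain ⟨p₂, hp₂P, hp₂, l₂, hl₂⟩ := hbad u₂ hu₂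
  obtain ⟨p₃, hp₃P, hp₃, l₃, hl₃⟩ := hbad (u₁ + u₂) hu₃
  have hc3 : ∀ p, c (u₁ + u₂) p = c u₁ p + c u₂ p := by
    intro p
    have := hcadd 1 1 u₁ u₂ p
    simpa using this
  -- `p₁`, `p₂` are independent
  have hind : ∀ m : F, p₂ ≠ m • p₁ := by
    intro m hm
    have hm0 : m ≠ 0 := by
      rintro rfl
      rw [zero_smul] at hm
      exact hp₂ hm
    apply hp₁
    apply hkill p₁ hp₁P ⟨l₁, hl₁⟩
    refine ⟨m⁻¹ * l₂, ?_⟩
    have : c u₂ p₁ = m⁻¹ • c u₂ p₂ := by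
      rw [hm, map_smul, smul_smul, inv_mul_cancel₀ hm0, one_smul]
    rw [this, hl₂, smul_smul]
  have hpair := mem_pair_of_finrank_two P hP2 hp₁P hp₂P hp₁ hind
  obtain ⟨m₁, m₂, hp₃eq⟩ := hpair p₃ hp₃P
  -- the relation coming from `u₁ + u₂`
  have hrel : m₁ • c u₂ p₁ + m₂ • c u₁ p₂ = (l₃ - m₁ * l₁ - m₂ * l₂) • z := by
    have h3 := hl₃
    rw [hc3, hp₃eq, map_add, map_add, map_smul, map_smul, map_smul, map_smul, hl₁, hl₂] at h3
    have : m₁ • c u₂ p₁ + m₂ • c u₁ p₂ =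
        (m₁ • l₁ • z + m₂ • c u₁ p₂ + (m₁ • c u₂ p₁ + m₂ • l₂ • z)) - m₁ • l₁ • z
          - m₂ • l₂ • z := by abel
    rw [this, h3]
    module
  have hm₁ : m₁ ≠ 0 := by
    rintro rfl
    have hm₂ : m₂ ≠ 0 := by
      rintro rfl
      rw [zero_smul, zero_smul, add_zero] at hp₃eq
      exact hp₃ hp₃eq
    apply hp₂
    apply hkill p₂ hp₂P _ ⟨l₂, hl₂⟩
    refine ⟨m₂⁻¹ * (l₃ - 0 * l₁ - m₂ * l₂), ?_⟩
    rw [zero_smul, zero_add] at hrel
    rw [mul_smul, ← hrel, smul_smul, inv_mul_cancel₀ hm₂, one_smul]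
  have hm₂ : m₂ ≠ 0 := by
    rintro rfl
    apply hp₁
    apply hkill p₁ hp₁P ⟨l₁, hl₁⟩
    refine ⟨m₁⁻¹ * (l₃ - m₁ * l₁ - 0 * l₂), ?_⟩
    rw [zero_smul, add_zero] at hrel
    rw [mul_smul, ← hrel, smul_smul, inv_mul_cancel₀ hm₁, one_smul]
  -- all contractions lie in `T = span {w₀, z}`
  set w₀ := c u₂ p₁ with hw₀
  set T : Submodule F W := Submodule.span F {w₀, z} with hT
  have hw₀T : w₀ ∈ T := Submodule.subset_span (by simp)
  have hzT : z ∈ T := Submodule.subset_span (by simp)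
  have h11 : c u₁ p₁ ∈ T := by rw [hl₁]; exact T.smul_mem _ hzT
  have h22 : c u₂ p₂ ∈ T := by rw [hl₂]; exact T.smul_mem _ hzT
  have h12T : c u₁ p₂ ∈ T := by
    have : c u₁ p₂ = m₂⁻¹ • ((l₃ - m₁ * l₁ - m₂ * l₂) • z - m₁ • w₀) := by
      rw [← hrel, add_sub_cancel_left, smul_smul, inv_mul_cancel₀ hm₂, one_smul]
    rw [this]
    exact T.smul_mem _ (T.sub_mem (T.smul_mem _ hzT) (T.smul_mem _ hw₀T))
  have hallT : ∀ p ∈ P, ∀ u : U, c u p ∈ T := by
    intro p hp u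
    obtain ⟨a, b, rfl⟩ := hpair p hp
    rw [hexp u, sub_eq_add_neg, ← neg_smul, hcadd]
    simp only [map_add, map_smul]
    exact T.add_mem (T.smul_mem _ (T.add_mem (T.smul_mem _ h11) (T.smul_mem _ h12T)))
      (T.smul_mem _ (T.add_mem (T.smul_mem _ hw₀T) (T.smul_mem _ h22)))
  have hW'T : W' ≤ T := (hW' T).mpr hallT
  have hT2 : finrank F T ≤ 2 := by
    classical
    have h1 := finrank_span_finset_le_card (R := F) ({w₀, z} : Finset W)
    have h2 : (({w₀, z} : Finset W) : Set W) = {w₀, z} := by simp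
    rw [h2] at h1
    exact le_trans h1 Finset.card_le_two
  have hW'1 : finrank F W' ≤ 1 := by
    rcases hzW with hzW | hzW
    · have hlt : W' < T := lt_of_le_of_ne hW'T (fun heq => hzW (by rw [heq]; exact hzT))
      have := Submodule.finrank_lt_finrank_of_lt hlt
      omega
    · have := Submodule.finrank_mono hW'T
      omega
  obtain ⟨⟨w', hw'W⟩, hw'⟩ := finrank_le_one_iff.mp hW'1
  have hcW' : ∀ p ∈ P, ∀ u : U, ∃ r : F, c u p = r • w' := by
    intro p hp u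
    have hmem : c u p ∈ W' := (hW' W').mp le_rfl p hp u
    obtain ⟨r, hr⟩ := hw' ⟨c u p, hmem⟩
    exact ⟨r, by
      have := congrArg Subtype.val hr
      simpa using this.symm⟩
  have hPle : P ≤ fib t w' := by
    intro p hp
    obtain ⟨r₁, hr₁⟩ := hcW' p hp u₁
    obtain ⟨r₂, hr₂⟩ := hcW' p hp u₂
    rw [hexpV p, hr₁, hr₂, mem_fib]
    refine ⟨r₂ • u₁ - r₁ • u₂, ?_⟩
    simp only [map_sub, map_smul, LinearMap.sub_apply, LinearMap.smul_apply]
  have hw'0 : w' ≠ 0 := by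
    rintro rfl
    apply hp₁
    obtain ⟨u, hu⟩ := mem_fib.mp (hPle hp₁P)
    rw [← hu, map_zero]
  apply hnf
  refine ⟨w', hw'0, Submodule.eq_of_le_of_finrank_eq hPle ?_⟩
  rw [hP2, finrank_fib ht hw'0, hU2]

/-- **the case `dim U = 2` of S5666**: if `X ≥ Sp(U) ⊗ O(W)` contains a non-tensor, it contains a
full root group of transvections with a pure centre. -/
theorem hasPureTv_of_not_isTens [Finite F] (ht : IsTensorProduct t) (h : Hyp t B f₁ f₂ X)
    (hU2 : finrank F U = 2) (hb : 7 ≤ finrank F W) {g₀ : V ≃ₗ[F] V} (hg₀ : g₀ ∈ X)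
    (hnt : ¬ IsTens t g₀) : HasPureTv t B h.altB X :=
  hasPureTv_of_not_isTens_aux ht h hU2 hb (goodStep ht h hU2) hg₀ hnt

end Cfsg.Agent.Helper4.TensA2
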