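import Mathlib

set_option autoImplicit false

/-!
The least common multiples of the cycle types of the even permutations of 10 points.
-/

namespace Cfsg.Agent.Helper4.Spec

/-- the element orders of the alternating group of degree 10. -/
def T10 : List ℕ := [1, 2, 3, 4, 5, 6, 7, 8, 9, 10, 12, 15, 21]

/-- every cycle type of a permutation of 10 points lies below this multiset. -/
def M10 : Multiset ℕ := {2, 2, 2, 2, 2, 3, 3, 3, 4, 4, 5, 5, 6, 7, 8, 9, 10}

set_option maxRecDepth 100000 in
theorem ms_check : ∀ m ∈ M10.powerset, m.sum ≤ 10 →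
    (m.map fun n => -(-1 : ℤˣ) ^ n).prod = 1 → m.lcm ∈ T10 := by
  decide +kernel

theorem count_M10 : ∀ a ∈ Finset.Icc 2 10, 10 / a ≤ Multiset.count a M10 := by decide

end Cfsg.Agent.Helper4.Spec
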