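import Mathlib
import Cfsg.Agent.Helper4.A10SpecM

set_option autoImplicit false

/-!
The set of element orders of the alternating group of degree 10.
-/

namespace Cfsg.Agent.Helper4.Spec

theorem count_mul_le_sum (m : Multiset ℕ) (a : ℕ) : m.count a * a ≤ m.sum := by
  have h : Multiset.replicate (m.count a) a ≤ m := Multiset.le_count_iff_replicate_le.mp le_rfl
  have h2 := Multiset.sub_add_cancel h
  have h3 : m.sum = (m - Multiset.replicate (m.count a) a).sum +
      (Multiset.replicate (m.count a) a).sum := by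
    rw [← Multiset.sum_add, h2]
  rw [h3, Multiset.sum_replicate, smul_eq_mul]
  exact Nat.le_add_left _ _

theorem le_M10 (m : Multiset ℕ) (h2 : ∀ n ∈ m, 2 ≤ n) (hs : m.sum ≤ 10) : m ≤ M10 := by
  rw [Multiset.le_iff_count]
  intro a
  have hc := count_mul_le_sum m a
  by_cases ha : a ∈ m
  · have h2a := h2 a ha
    have hpos : 0 < m.count a := Multiset.count_pos.mpr ha
    have ha10 : a ≤ 10 := by nlinarith
    have h1 : m.count a ≤ 10 / a := (Nat.le_div_iff_mul_le (by omega)).mpr (hc.trans hs)
    exact h1.trans (count_M10 a (Finset.mem_Icc.mpr ⟨h2a, ha10⟩))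
  · rw [Multiset.count_eq_zero_of_notMem ha]
    exact Nat.zero_le _

theorem orderOf_mem_T10 (σ : Equiv.Perm (Fin 10)) (hσ : Equiv.Perm.sign σ = 1) :
    orderOf σ ∈ T10 := by
  rw [← Equiv.Perm.lcm_cycleType]
  have hs : σ.cycleType.sum ≤ 10 := by
    have := Equiv.Perm.sum_cycleType_le σ
    simpa using this
  apply ms_check σ.cycleType
  · rw [Multiset.mem_powerset]
    exact le_M10 _ (fun n hn => Equiv.Perm.two_le_of_mem_cycleType hn) hs
  · exact hs
  · rw [← Equiv.Perm.sign_of_cycleType', hσ]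

/-- an element of the alternating group with a given order. -/
theorem exists_orderOf (σ : Equiv.Perm (Fin 10)) (hσ : Equiv.Perm.sign σ = 1) (n : ℕ)
    (h : orderOf σ = n) : n ∈ Set.range (orderOf : alternatingGroup (Fin 10) → ℕ) := by
  refine ⟨⟨σ, Equiv.Perm.mem_alternatingGroup.mpr hσ⟩, ?_⟩
  rw [← Subgroup.orderOf_coe]
  exact h

theorem orderOf_eq_of_checks {G : Type*} [Group G] (x : G) (n : ℕ) (hn : 0 < n) (h1 : x ^ n = 1)
    (h2 : ∀ p ∈ n.primeFactorsList, x ^ (n / p) ≠ 1) : orderOf x = n := by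
  apply orderOf_eq_of_pow_and_pow_div_prime hn h1
  intro p hp hd
  exact h2 p ((Nat.mem_primeFactorsList hn.ne').mpr ⟨hp, hd⟩)

/-- the product of the cycles given by lists of points. -/
def cycP (l : List (List (Fin 10))) : Equiv.Perm (Fin 10) := (l.map List.formPerm).prod

theorem order_check (l : List (List (Fin 10))) (n : ℕ) (hn : 0 < n)
    (h : Equiv.Perm.sign (cycP l) = 1 ∧ cycP l ^ n = 1 ∧ ∀ m < n, 0 < m → cycP l ^ m ≠ 1) :
    n ∈ Set.range (orderOf : alternatingGroup (Fin 10) → ℕ) :=
  exists_orderOf (cycP l) h.1 n ((orderOf_eq_iff hn).mpr h.2)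

set_option maxRecDepth 100000 in
theorem range_A10 : Set.range (orderOf : alternatingGroup (Fin 10) → ℕ) = {n | n ∈ T10} := by
  apply Set.Subset.antisymm
  · rintro _ ⟨g, rfl⟩
    rw [← Subgroup.orderOf_coe]
    exact orderOf_mem_T10 _ (Equiv.Perm.mem_alternatingGroup.mp g.2)
  · intro n hn
    simp only [T10, Set.mem_ofPred_eq, List.mem_cons, List.not_mem_nil, or_false] at hn
    rcases hn with rfl | rfl | rfl | rfl | rfl | rfl | rfl | rfl | rfl | rfl | rfl | rfl | rfl
    · exact order_check [] 1 (by norm_num) (by decide +kernel)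
    · exact order_check [[0, 1], [2, 3]] 2 (by norm_num) (by decide +kernel)
    · exact order_check [[0, 1, 2]] 3 (by norm_num) (by decide +kernel)
    · exact order_check [[0, 1, 2, 3], [4, 5]] 4 (by norm_num) (by decide +kernel)
    · exact order_check [[0, 1, 2, 3, 4]] 5 (by norm_num) (by decide +kernel)
    · exact order_check [[0, 1, 2], [3, 4], [5, 6]] 6 (by norm_num) (by decide +kernel)
    · exact order_check [[0, 1, 2, 3, 4, 5, 6]] 7 (by norm_num) (by decide +kernel)
    · exact order_check [[0, 1, 2, 3, 4, 5, 6, 7], [8, 9]] 8 (by norm_num) (by decide +kernel)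
    · exact order_check [[0, 1, 2, 3, 4, 5, 6, 7, 8]] 9 (by norm_num) (by decide +kernel)
    · exact order_check [[0, 1, 2, 3, 4], [5, 6], [7, 8]] 10 (by norm_num) (by decide +kernel)
    · exact order_check [[0, 1, 2, 3], [4, 5, 6], [7, 8]] 12 (by norm_num) (by decide +kernel)
    · exact order_check [[0, 1, 2, 3, 4], [5, 6, 7]] 15 (by norm_num) (by decide +kernel)
    · exact order_check [[0, 1, 2, 3, 4, 5, 6], [7, 8, 9]] 21 (by norm_num) (by decide +kernel)

end Cfsg.Agent.Helper4.Spec
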