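import Mathlib

set_option autoImplicit false

/-!
Data for a group of order 240 of matrices of size 4 over the field with 7 elements (a double cover
of the symmetric group of degree 5 acting without fixed points): matrices are coded by the lists of
their 16 entries.
-/

namespace Cfsg.Agent.Helper4.Spec

/-- the code of a product. -/
def mulC (a b : List ℕ) : List ℕ :=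
  [(a.getD 0 0 * b.getD 0 0 + a.getD 1 0 * b.getD 4 0 + a.getD 2 0 * b.getD 8 0 + a.getD 3 0 * b.getD 12 0) % 7,
   (a.getD 0 0 * b.getD 1 0 + a.getD 1 0 * b.getD 5 0 + a.getD 2 0 * b.getD 9 0 + a.getD 3 0 * b.getD 13 0) % 7,
   (a.getD 0 0 * b.getD 2 0 + a.getD 1 0 * b.getD 6 0 + a.getD 2 0 * b.getD 10 0 + a.getD 3 0 * b.getD 14 0) % 7,
   (a.getD 0 0 * b.getD 3 0 + a.getD 1 0 * b.getD 7 0 + a.getD 2 0 * b.getD 11 0 + a.getD 3 0 * b.getD 15 0) % 7,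
   (a.getD 4 0 * b.getD 0 0 + a.getD 5 0 * b.getD 4 0 + a.getD 6 0 * b.getD 8 0 + a.getD 7 0 * b.getD 12 0) % 7,
   (a.getD 4 0 * b.getD 1 0 + a.getD 5 0 * b.getD 5 0 + a.getD 6 0 * b.getD 9 0 + a.getD 7 0 * b.getD 13 0) % 7,
   (a.getD 4 0 * b.getD 2 0 + a.getD 5 0 * b.getD 6 0 + a.getD 6 0 * b.getD 10 0 + a.getD 7 0 * b.getD 14 0) % 7,
   (a.getD 4 0 * b.getD 3 0 + a.getD 5 0 * b.getD 7 0 + a.getD 6 0 * b.getD 11 0 + a.getD 7 0 * b.getD 15 0) % 7,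
   (a.getD 8 0 * b.getD 0 0 + a.getD 9 0 * b.getD 4 0 + a.getD 10 0 * b.getD 8 0 + a.getD 11 0 * b.getD 12 0) % 7,
   (a.getD 8 0 * b.getD 1 0 + a.getD 9 0 * b.getD 5 0 + a.getD 10 0 * b.getD 9 0 + a.getD 11 0 * b.getD 13 0) % 7,
   (a.getD 8 0 * b.getD 2 0 + a.getD 9 0 * b.getD 6 0 + a.getD 10 0 * b.getD 10 0 + a.getD 11 0 * b.getD 14 0) % 7,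
   (a.getD 8 0 * b.getD 3 0 + a.getD 9 0 * b.getD 7 0 + a.getD 10 0 * b.getD 11 0 + a.getD 11 0 * b.getD 15 0) % 7,
   (a.getD 12 0 * b.getD 0 0 + a.getD 13 0 * b.getD 4 0 + a.getD 14 0 * b.getD 8 0 + a.getD 15 0 * b.getD 12 0) % 7,
   (a.getD 12 0 * b.getD 1 0 + a.getD 13 0 * b.getD 5 0 + a.getD 14 0 * b.getD 9 0 + a.getD 15 0 * b.getD 13 0) % 7,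
   (a.getD 12 0 * b.getD 2 0 + a.getD 13 0 * b.getD 6 0 + a.getD 14 0 * b.getD 10 0 + a.getD 15 0 * b.getD 14 0) % 7,
   (a.getD 12 0 * b.getD 3 0 + a.getD 13 0 * b.getD 7 0 + a.getD 14 0 * b.getD 11 0 + a.getD 15 0 * b.getD 15 0) % 7]

/-- the code of a sum. -/
def addC (a b : List ℕ) : List ℕ :=
  [(a.getD 0 0 + b.getD 0 0) % 7,
   (a.getD 1 0 + b.getD 1 0) % 7,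
   (a.getD 2 0 + b.getD 2 0) % 7,
   (a.getD 3 0 + b.getD 3 0) % 7,
   (a.getD 4 0 + b.getD 4 0) % 7,
   (a.getD 5 0 + b.getD 5 0) % 7,
   (a.getD 6 0 + b.getD 6 0) % 7,
   (a.getD 7 0 + b.getD 7 0) % 7,
   (a.getD 8 0 + b.getD 8 0) % 7,
   (a.getD 9 0 + b.getD 9 0) % 7,
   (a.getD 10 0 + b.getD 10 0) % 7,
   (a.getD 11 0 + b.getD 11 0) % 7,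
   (a.getD 12 0 + b.getD 12 0) % 7,
   (a.getD 13 0 + b.getD 13 0) % 7,
   (a.getD 14 0 + b.getD 14 0) % 7,
   (a.getD 15 0 + b.getD 15 0) % 7]

/-- the code of the identity. -/
def idC : List ℕ := [1, 0, 0, 0, 0, 1, 0, 0, 0, 0, 1, 0, 0, 0, 0, 1]

/-- the code of minus the identity. -/
def negIdC : List ℕ := [6, 0, 0, 0, 0, 6, 0, 0, 0, 0, 6, 0, 0, 0, 0, 6]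

/-- the code of zero. -/
def zeroC : List ℕ := [0, 0, 0, 0, 0, 0, 0, 0, 0, 0, 0, 0, 0, 0, 0, 0]

/-- the code of a power. -/
def powC (a : List ℕ) : ℕ → List ℕ
  | 0 => idC
  | n + 1 => mulC (powC a n) a

/-- the code of the sum of the first powers. -/
def sumPowC (a : List ℕ) : ℕ → List ℕ
  | 0 => zeroC
  | n + 1 => addC (sumPowC a n) (powC a n)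

/-- the first generator, of order 8. -/
def cA : List ℕ := [0, 0, 2, 2, 0, 0, 2, 5, 0, 6, 0, 5, 6, 0, 5, 0]

/-- its inverse. -/
def cAinv : List ℕ := [3, 3, 0, 6, 3, 4, 6, 0, 2, 2, 0, 0, 2, 5, 0, 0]

/-- the second generator, of order 12. -/
def cB : List ℕ := [0, 3, 6, 3, 3, 0, 3, 1, 2, 3, 4, 2, 3, 5, 2, 3]

/-- its inverse. -/
def cBinv : List ℕ := [3, 5, 6, 3, 5, 4, 3, 1, 5, 4, 6, 6, 4, 2, 6, 1]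

/-- the codes of the 240 elements of the group. -/
def kL : List (List ℕ) := [
  [0, 0, 2, 2, 0, 0, 2, 5, 0, 6, 0, 5, 6, 0, 5, 0],
  [0, 0, 2, 4, 0, 0, 3, 2, 2, 3, 3, 2, 4, 2, 5, 3],
  [0, 0, 2, 5, 0, 0, 5, 5, 1, 0, 0, 5, 0, 6, 5, 0],
  [0, 0, 3, 2, 0, 0, 5, 3, 3, 5, 0, 0, 2, 3, 0, 0],
  [0, 0, 4, 5, 0, 0, 2, 4, 4, 2, 0, 0, 5, 4, 0, 0],
  [0, 0, 5, 2, 0, 0, 2, 2, 6, 0, 0, 2, 0, 1, 2, 0],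
  [0, 0, 5, 3, 0, 0, 4, 5, 5, 4, 4, 5, 3, 5, 2, 4],
  [0, 0, 5, 5, 0, 0, 5, 2, 0, 1, 0, 2, 1, 0, 2, 0],
  [0, 1, 0, 0, 6, 0, 0, 0, 6, 0, 0, 6, 0, 6, 1, 0],
  [0, 1, 1, 1, 1, 0, 1, 6, 4, 0, 6, 5, 0, 3, 5, 1],
  [0, 1, 2, 2, 6, 0, 5, 2, 0, 0, 0, 6, 0, 0, 1, 0],
  [0, 3, 0, 3, 3, 0, 3, 0, 1, 4, 4, 0, 4, 6, 0, 3],
  [0, 3, 1, 0, 4, 0, 0, 1, 1, 0, 0, 4, 0, 1, 3, 0],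
  [0, 3, 1, 1, 4, 0, 6, 1, 6, 5, 6, 4, 2, 6, 3, 6],
  [0, 3, 3, 1, 3, 0, 1, 4, 4, 6, 1, 1, 6, 3, 1, 6],
  [0, 3, 3, 5, 3, 0, 5, 4, 6, 1, 0, 1, 1, 1, 1, 0],
  [0, 3, 5, 5, 4, 0, 2, 5, 5, 2, 0, 4, 5, 5, 3, 0],
  [0, 3, 5, 6, 4, 0, 1, 5, 3, 0, 6, 4, 0, 3, 3, 6],
  [0, 3, 6, 3, 3, 0, 3, 1, 2, 3, 4, 2, 3, 5, 2, 3],
  [0, 4, 0, 4, 4, 0, 4, 0, 6, 3, 3, 0, 3, 1, 0, 4],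
  [0, 4, 1, 4, 4, 0, 4, 6, 5, 4, 3, 5, 4, 2, 5, 4],
  [0, 4, 2, 1, 3, 0, 6, 2, 4, 0, 1, 3, 0, 4, 4, 1],
  [0, 4, 2, 2, 3, 0, 5, 2, 2, 5, 0, 3, 2, 2, 4, 0],
  [0, 4, 4, 2, 4, 0, 2, 3, 1, 6, 0, 6, 6, 6, 6, 0],
  [0, 4, 4, 6, 4, 0, 6, 3, 3, 1, 6, 6, 1, 4, 6, 1],
  [0, 4, 6, 0, 3, 0, 0, 6, 6, 0, 0, 3, 0, 6, 4, 0],
  [0, 4, 6, 6, 3, 0, 1, 6, 1, 2, 1, 3, 5, 1, 4, 1],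
  [0, 6, 0, 0, 1, 0, 0, 0, 1, 0, 0, 1, 0, 1, 6, 0],
  [0, 6, 5, 5, 1, 0, 2, 5, 0, 0, 0, 1, 0, 0, 6, 0],
  [0, 6, 6, 6, 6, 0, 6, 1, 3, 0, 1, 2, 0, 4, 2, 6],
  [1, 0, 0, 0, 0, 1, 0, 0, 0, 0, 1, 0, 0, 0, 0, 1],
  [1, 0, 1, 6, 0, 6, 6, 6, 0, 3, 1, 5, 3, 0, 5, 6],
  [1, 0, 2, 5, 0, 1, 2, 2, 0, 1, 3, 2, 6, 0, 5, 3],
  [1, 1, 0, 4, 6, 1, 3, 0, 5, 6, 2, 4, 1, 5, 3, 2],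
  [1, 1, 1, 6, 1, 6, 6, 6, 4, 0, 0, 5, 0, 3, 5, 0],
  [1, 1, 2, 1, 6, 1, 6, 2, 0, 2, 5, 6, 5, 0, 1, 5],
  [1, 1, 2, 6, 6, 1, 1, 2, 6, 6, 2, 4, 1, 6, 3, 2],
  [1, 1, 3, 1, 1, 6, 1, 4, 4, 6, 0, 3, 6, 3, 3, 0],
  [1, 1, 4, 3, 6, 1, 4, 4, 1, 2, 5, 6, 5, 1, 1, 5],
  [1, 2, 1, 5, 2, 6, 5, 6, 3, 1, 5, 1, 1, 4, 1, 2],
  [1, 2, 2, 6, 5, 1, 1, 2, 5, 6, 2, 3, 1, 5, 4, 2],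
  [1, 2, 3, 0, 2, 6, 0, 4, 3, 0, 5, 6, 0, 4, 6, 2],
  [1, 2, 3, 2, 2, 6, 2, 4, 6, 6, 1, 2, 6, 1, 2, 6],
  [1, 2, 4, 3, 5, 1, 4, 4, 0, 2, 5, 5, 5, 0, 2, 5],
  [1, 2, 5, 4, 2, 6, 4, 2, 6, 5, 1, 0, 5, 1, 0, 6],
  [1, 3, 0, 3, 4, 1, 4, 0, 5, 3, 3, 6, 4, 5, 1, 3],
  [1, 3, 1, 1, 4, 1, 6, 1, 6, 5, 0, 4, 2, 6, 3, 0],
  [1, 3, 3, 0, 4, 1, 0, 3, 1, 6, 3, 2, 1, 1, 5, 3],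
  [1, 3, 3, 5, 4, 1, 2, 3, 1, 1, 3, 6, 6, 1, 1, 3],
  [1, 3, 5, 4, 4, 1, 3, 5, 3, 2, 6, 4, 5, 3, 3, 6],
  [1, 3, 5, 6, 4, 1, 1, 5, 3, 0, 0, 4, 0, 3, 3, 0],
  [1, 5, 1, 1, 5, 6, 1, 6, 4, 5, 2, 1, 5, 3, 1, 5],
  [1, 5, 1, 5, 2, 1, 2, 1, 0, 1, 3, 0, 6, 0, 0, 3],
  [1, 5, 2, 5, 2, 1, 2, 2, 2, 6, 3, 0, 1, 2, 0, 3],
  [1, 5, 3, 3, 2, 1, 4, 3, 0, 2, 5, 2, 5, 0, 5, 5],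
  [1, 5, 4, 0, 5, 6, 0, 3, 1, 1, 5, 2, 1, 6, 2, 2],
  [1, 5, 4, 3, 2, 1, 4, 4, 2, 0, 5, 2, 0, 2, 5, 5],
  [1, 5, 6, 3, 5, 6, 3, 1, 3, 5, 2, 3, 5, 4, 3, 5],
  [1, 5, 6, 5, 5, 6, 5, 1, 2, 1, 5, 0, 1, 5, 0, 2],
  [1, 6, 1, 4, 6, 6, 4, 6, 0, 3, 1, 6, 3, 0, 6, 6],
  [1, 6, 1, 5, 1, 1, 2, 1, 6, 1, 3, 6, 6, 6, 1, 3],
  [1, 6, 3, 3, 1, 1, 4, 3, 6, 2, 5, 1, 5, 6, 6, 5],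
  [1, 6, 4, 0, 1, 1, 0, 4, 2, 6, 3, 6, 1, 2, 1, 3],
  [1, 6, 6, 5, 1, 1, 2, 6, 2, 0, 5, 1, 0, 2, 6, 5],
  [1, 6, 6, 6, 6, 6, 6, 1, 6, 3, 1, 1, 3, 1, 1, 6],
  [2, 1, 0, 4, 1, 5, 4, 0, 2, 4, 6, 2, 4, 5, 2, 1],
  [2, 1, 2, 1, 6, 2, 6, 2, 0, 2, 6, 6, 5, 0, 1, 6],
  [2, 1, 2, 2, 6, 2, 5, 2, 5, 0, 5, 6, 0, 5, 1, 5],
  [2, 1, 2, 6, 1, 5, 6, 5, 2, 3, 6, 0, 3, 5, 0, 1],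
  [2, 1, 4, 3, 6, 2, 4, 4, 1, 2, 6, 6, 5, 1, 1, 6],
  [2, 1, 4, 4, 6, 2, 3, 4, 6, 0, 5, 6, 0, 6, 1, 5],
  [2, 1, 4, 6, 1, 5, 6, 3, 6, 2, 2, 1, 2, 1, 1, 5],
  [2, 1, 6, 1, 1, 5, 1, 1, 6, 1, 2, 6, 1, 1, 6, 5],
  [2, 2, 2, 6, 2, 5, 6, 5, 6, 0, 5, 0, 0, 1, 0, 2],
  [2, 2, 3, 5, 2, 5, 5, 4, 3, 0, 6, 6, 0, 4, 6, 1],
  [2, 2, 4, 3, 5, 2, 4, 4, 0, 2, 6, 5, 5, 0, 2, 6],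
  [2, 2, 4, 4, 5, 2, 3, 4, 5, 0, 5, 5, 0, 5, 2, 5],
  [2, 2, 5, 2, 2, 5, 2, 2, 6, 5, 2, 0, 5, 1, 0, 5],
  [2, 2, 6, 1, 2, 5, 1, 1, 3, 5, 1, 6, 5, 4, 6, 6],
  [2, 3, 4, 6, 3, 5, 6, 3, 0, 0, 5, 4, 0, 0, 4, 2],
  [2, 3, 5, 1, 4, 2, 6, 5, 2, 1, 1, 2, 6, 2, 5, 1],
  [2, 3, 6, 3, 3, 5, 3, 1, 3, 5, 1, 5, 5, 4, 5, 6],
  [2, 4, 0, 0, 4, 5, 0, 0, 3, 1, 3, 2, 1, 4, 2, 4],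
  [2, 4, 0, 3, 3, 2, 4, 0, 2, 1, 1, 1, 6, 2, 6, 1],
  [2, 4, 2, 2, 3, 2, 5, 2, 4, 2, 5, 3, 5, 4, 4, 5],
  [2, 4, 3, 2, 3, 2, 5, 3, 6, 0, 5, 3, 0, 6, 4, 5],
  [2, 4, 5, 1, 3, 2, 6, 5, 1, 1, 1, 1, 6, 1, 6, 1],
  [2, 4, 5, 4, 4, 5, 4, 2, 1, 4, 6, 1, 4, 6, 1, 1],
  [2, 5, 1, 1, 5, 5, 1, 6, 0, 1, 2, 0, 1, 0, 0, 5],
  [2, 5, 2, 2, 5, 5, 2, 5, 0, 4, 2, 0, 4, 0, 0, 5],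
  [2, 5, 3, 3, 2, 2, 4, 3, 0, 2, 6, 2, 5, 0, 5, 6],
  [2, 5, 4, 3, 2, 2, 4, 4, 2, 0, 6, 2, 0, 2, 5, 6],
  [2, 5, 5, 4, 5, 5, 4, 2, 5, 1, 5, 1, 1, 2, 1, 2],
  [2, 5, 6, 5, 5, 5, 5, 1, 5, 4, 5, 6, 4, 2, 6, 2],
  [2, 6, 0, 4, 6, 5, 4, 0, 6, 1, 5, 5, 1, 1, 5, 2],
  [2, 6, 2, 4, 6, 5, 4, 5, 0, 4, 2, 6, 4, 0, 6, 5],
  [2, 6, 3, 3, 1, 2, 4, 3, 6, 2, 6, 1, 5, 6, 6, 6],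
  [2, 6, 4, 2, 6, 5, 2, 3, 1, 4, 2, 4, 4, 6, 4, 5],
  [2, 6, 5, 6, 6, 5, 6, 2, 5, 1, 5, 0, 1, 2, 0, 2],
  [2, 6, 6, 5, 1, 2, 2, 6, 2, 0, 6, 1, 0, 2, 6, 6],
  [3, 0, 0, 6, 0, 3, 1, 0, 0, 4, 4, 0, 3, 0, 0, 4],
  [3, 0, 1, 4, 0, 4, 4, 6, 1, 1, 3, 0, 1, 6, 0, 4],
  [3, 0, 1, 6, 0, 3, 1, 1, 2, 2, 4, 0, 5, 2, 0, 4],
  [3, 0, 3, 0, 0, 4, 0, 4, 3, 5, 0, 1, 5, 4, 1, 0],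
  [3, 0, 3, 1, 0, 4, 1, 4, 4, 6, 6, 1, 6, 3, 1, 1],
  [3, 0, 5, 2, 0, 3, 5, 5, 5, 1, 1, 5, 6, 5, 2, 1],
  [3, 0, 5, 4, 0, 4, 4, 2, 6, 3, 3, 2, 3, 1, 2, 4],
  [3, 0, 6, 2, 0, 3, 5, 6, 0, 6, 1, 5, 1, 0, 2, 1],
  [3, 2, 0, 0, 2, 4, 0, 0, 3, 1, 2, 4, 1, 4, 4, 5],
  [3, 2, 3, 5, 2, 4, 5, 4, 6, 3, 6, 5, 3, 1, 5, 1],
  [3, 2, 4, 0, 5, 3, 0, 4, 6, 1, 1, 3, 6, 6, 4, 1],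
  [3, 2, 5, 2, 5, 3, 5, 5, 0, 6, 1, 0, 1, 0, 0, 1],
  [3, 2, 5, 3, 5, 3, 4, 5, 5, 4, 0, 0, 3, 5, 0, 0],
  [3, 2, 6, 5, 5, 3, 2, 6, 6, 2, 3, 5, 5, 6, 2, 3],
  [3, 3, 0, 6, 3, 4, 6, 0, 2, 2, 0, 0, 2, 5, 0, 0],
  [3, 3, 1, 0, 3, 4, 0, 6, 2, 5, 0, 0, 5, 5, 0, 0],
  [3, 3, 4, 0, 3, 4, 0, 3, 1, 6, 0, 4, 6, 6, 4, 0],
  [3, 3, 5, 1, 3, 4, 1, 2, 1, 2, 0, 2, 2, 6, 2, 0],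
  [3, 3, 6, 2, 3, 4, 2, 1, 1, 5, 0, 2, 5, 6, 2, 0],
  [3, 3, 6, 5, 3, 4, 5, 1, 2, 6, 0, 2, 6, 5, 2, 0],
  [3, 4, 0, 3, 4, 4, 3, 0, 5, 5, 6, 0, 5, 2, 0, 1],
  [3, 4, 0, 6, 4, 4, 6, 0, 6, 6, 6, 0, 6, 1, 0, 1],
  [3, 4, 1, 2, 4, 4, 2, 6, 2, 5, 0, 6, 5, 5, 6, 0],
  [3, 4, 2, 1, 4, 4, 1, 5, 6, 5, 6, 5, 5, 1, 5, 1],
  [3, 4, 5, 1, 4, 4, 1, 2, 5, 6, 6, 2, 6, 2, 2, 1],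
  [3, 4, 6, 0, 4, 4, 0, 1, 2, 6, 0, 1, 6, 5, 1, 0],
  [3, 5, 1, 2, 2, 3, 5, 1, 1, 5, 3, 2, 2, 1, 5, 3],
  [3, 5, 3, 1, 5, 4, 1, 4, 0, 0, 3, 5, 0, 0, 5, 4],
  [3, 5, 6, 3, 5, 4, 3, 1, 5, 4, 6, 6, 4, 2, 6, 1],
  [3, 6, 0, 4, 1, 3, 3, 0, 2, 4, 1, 3, 3, 2, 4, 1],
  [3, 6, 1, 6, 1, 3, 1, 1, 3, 2, 4, 1, 5, 3, 6, 4],
  [3, 6, 3, 0, 1, 3, 0, 3, 5, 1, 1, 6, 6, 5, 1, 1],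
  [3, 6, 4, 2, 1, 3, 5, 4, 6, 6, 1, 3, 1, 6, 4, 1],
  [3, 6, 5, 4, 1, 3, 3, 5, 0, 4, 4, 1, 3, 0, 6, 4],
  [3, 6, 6, 2, 1, 3, 5, 6, 1, 6, 1, 6, 1, 1, 1, 1],
  [4, 0, 0, 1, 0, 4, 6, 0, 0, 3, 3, 0, 4, 0, 0, 3],
  [4, 0, 1, 5, 0, 4, 2, 1, 0, 1, 6, 2, 6, 0, 5, 6],
  [4, 0, 2, 3, 0, 3, 3, 5, 1, 4, 4, 5, 4, 6, 5, 3],
  [4, 0, 2, 5, 0, 4, 2, 2, 2, 6, 6, 2, 1, 2, 5, 6],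
  [4, 0, 4, 0, 0, 3, 0, 3, 4, 2, 0, 6, 2, 3, 6, 0],
  [4, 0, 4, 6, 0, 3, 6, 3, 3, 1, 1, 6, 1, 4, 6, 6],
  [4, 0, 6, 1, 0, 4, 6, 6, 5, 5, 3, 0, 2, 5, 0, 3],
  [4, 0, 6, 3, 0, 3, 3, 1, 6, 6, 4, 0, 6, 1, 0, 3],
  [4, 1, 0, 3, 6, 4, 4, 0, 5, 3, 6, 4, 4, 5, 3, 6],
  [4, 1, 1, 5, 6, 4, 2, 1, 6, 1, 6, 1, 6, 6, 6, 6],
  [4, 1, 2, 3, 6, 4, 4, 2, 0, 3, 3, 6, 4, 0, 1, 3],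
  [4, 1, 3, 5, 6, 4, 2, 3, 1, 1, 6, 4, 6, 1, 3, 6],
  [4, 1, 4, 0, 6, 4, 0, 4, 2, 6, 6, 1, 1, 2, 6, 6],
  [4, 1, 6, 1, 6, 4, 6, 6, 4, 5, 3, 6, 2, 4, 1, 3],
  [4, 2, 1, 4, 2, 3, 4, 6, 2, 3, 1, 1, 3, 5, 1, 6],
  [4, 2, 4, 6, 2, 3, 6, 3, 0, 0, 4, 2, 0, 0, 2, 3],
  [4, 2, 6, 5, 5, 4, 2, 6, 6, 2, 4, 5, 5, 6, 2, 4],
  [4, 3, 0, 1, 3, 3, 1, 0, 1, 1, 1, 0, 1, 6, 0, 6],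
  [4, 3, 0, 4, 3, 3, 4, 0, 2, 2, 1, 0, 2, 5, 0, 6],
  [4, 3, 1, 0, 3, 3, 0, 6, 5, 1, 0, 6, 1, 2, 6, 0],
  [4, 3, 2, 6, 3, 3, 6, 5, 2, 1, 1, 5, 1, 5, 5, 6],
  [4, 3, 5, 6, 3, 3, 6, 2, 1, 2, 1, 2, 2, 6, 2, 6],
  [4, 3, 6, 5, 3, 3, 5, 1, 5, 2, 0, 1, 2, 2, 1, 0],
  [4, 4, 0, 1, 4, 3, 1, 0, 5, 5, 0, 0, 5, 2, 0, 0],
  [4, 4, 1, 2, 4, 3, 2, 6, 5, 1, 0, 5, 1, 2, 5, 0],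
  [4, 4, 1, 5, 4, 3, 5, 6, 6, 2, 0, 5, 2, 1, 5, 0],
  [4, 4, 2, 6, 4, 3, 6, 5, 6, 5, 0, 5, 5, 1, 5, 0],
  [4, 4, 3, 0, 4, 3, 0, 4, 6, 1, 0, 3, 1, 1, 3, 0],
  [4, 4, 6, 0, 4, 3, 0, 1, 5, 2, 0, 0, 2, 2, 0, 0],
  [4, 5, 0, 0, 5, 3, 0, 0, 4, 6, 5, 3, 6, 3, 3, 2],
  [4, 5, 1, 2, 2, 4, 5, 1, 1, 5, 4, 2, 2, 1, 5, 4],
  [4, 5, 2, 4, 2, 4, 3, 2, 2, 3, 0, 0, 4, 2, 0, 0],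
  [4, 5, 2, 5, 2, 4, 2, 2, 0, 1, 6, 0, 6, 0, 0, 6],
  [4, 5, 3, 0, 2, 4, 0, 3, 1, 6, 6, 4, 1, 1, 3, 6],
  [4, 5, 4, 2, 5, 3, 2, 3, 1, 4, 1, 2, 4, 6, 2, 6],
  [5, 1, 0, 3, 1, 2, 3, 0, 1, 6, 2, 2, 6, 6, 2, 5],
  [5, 1, 1, 2, 6, 5, 5, 1, 5, 0, 1, 6, 0, 5, 1, 1],
  [5, 1, 2, 1, 1, 2, 1, 5, 2, 6, 2, 0, 6, 5, 0, 5],
  [5, 1, 3, 5, 1, 2, 5, 4, 6, 3, 5, 3, 3, 1, 3, 2],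
  [5, 1, 4, 4, 6, 5, 3, 4, 1, 5, 1, 6, 2, 1, 1, 1],
  [5, 1, 5, 3, 1, 2, 3, 2, 0, 3, 5, 1, 3, 0, 1, 2],
  [5, 2, 1, 2, 2, 2, 2, 6, 2, 3, 2, 1, 3, 5, 1, 5],
  [5, 2, 2, 3, 2, 2, 3, 5, 2, 6, 2, 6, 6, 5, 6, 5],
  [5, 2, 3, 4, 5, 5, 3, 3, 5, 0, 1, 5, 0, 5, 2, 1],
  [5, 2, 4, 4, 5, 5, 3, 4, 0, 5, 1, 5, 2, 0, 2, 1],
  [5, 2, 5, 5, 2, 2, 5, 2, 0, 3, 5, 0, 3, 0, 0, 2],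
  [5, 2, 6, 6, 2, 2, 6, 1, 0, 6, 5, 0, 6, 0, 0, 2],
  [5, 3, 0, 0, 3, 2, 0, 0, 4, 6, 4, 5, 6, 3, 5, 3],
  [5, 3, 0, 4, 4, 5, 3, 0, 5, 6, 6, 6, 1, 5, 1, 6],
  [5, 3, 2, 3, 3, 2, 3, 5, 6, 3, 1, 6, 3, 1, 6, 6],
  [5, 3, 2, 6, 4, 5, 1, 2, 6, 6, 6, 6, 1, 6, 1, 6],
  [5, 3, 4, 5, 4, 5, 2, 4, 1, 0, 2, 4, 0, 1, 3, 2],
  [5, 3, 5, 5, 4, 5, 2, 5, 3, 5, 2, 4, 2, 3, 3, 2],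
  [5, 4, 1, 4, 4, 2, 4, 6, 4, 2, 6, 2, 2, 3, 2, 1],
  [5, 4, 2, 6, 3, 5, 1, 2, 5, 6, 6, 5, 1, 5, 2, 6],
  [5, 4, 3, 1, 4, 2, 1, 4, 0, 0, 2, 3, 0, 0, 3, 5],
  [5, 5, 1, 6, 5, 2, 6, 6, 4, 2, 6, 1, 2, 3, 1, 1],
  [5, 5, 2, 5, 5, 2, 5, 5, 1, 2, 5, 0, 2, 6, 0, 2],
  [5, 5, 3, 3, 2, 5, 4, 3, 2, 0, 2, 2, 0, 2, 5, 2],
  [5, 5, 3, 4, 2, 5, 3, 3, 0, 5, 1, 2, 2, 0, 5, 1],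
  [5, 5, 4, 2, 5, 2, 2, 3, 4, 0, 1, 1, 0, 3, 1, 6],
  [5, 5, 5, 1, 5, 2, 1, 2, 1, 0, 2, 0, 0, 6, 0, 5],
  [5, 6, 0, 3, 6, 2, 3, 0, 5, 3, 1, 5, 3, 2, 5, 6],
  [5, 6, 1, 6, 6, 2, 6, 6, 1, 6, 5, 1, 6, 6, 1, 2],
  [5, 6, 3, 1, 6, 2, 1, 4, 1, 5, 5, 6, 5, 6, 6, 2],
  [5, 6, 3, 3, 1, 5, 4, 3, 1, 0, 2, 1, 0, 1, 6, 2],
  [5, 6, 3, 4, 1, 5, 3, 3, 6, 5, 1, 1, 2, 6, 6, 1],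
  [5, 6, 5, 1, 6, 2, 1, 2, 5, 4, 1, 0, 4, 2, 0, 6],
  [5, 6, 5, 5, 1, 5, 2, 5, 2, 0, 2, 1, 0, 2, 6, 2],
  [5, 6, 5, 6, 1, 5, 1, 5, 0, 5, 1, 1, 2, 0, 6, 1],
  [6, 0, 0, 0, 0, 6, 0, 0, 0, 0, 6, 0, 0, 0, 0, 6],
  [6, 0, 5, 2, 0, 6, 5, 5, 0, 6, 4, 5, 1, 0, 2, 4],
  [6, 0, 6, 1, 0, 1, 1, 1, 0, 4, 6, 2, 4, 0, 2, 1],
  [6, 1, 1, 1, 1, 1, 1, 6, 1, 4, 6, 6, 4, 6, 6, 1],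
  [6, 1, 1, 2, 6, 6, 5, 1, 5, 0, 2, 6, 0, 5, 1, 2],
  [6, 1, 3, 0, 6, 6, 0, 3, 5, 1, 4, 1, 6, 5, 6, 4],
  [6, 1, 4, 4, 6, 6, 3, 4, 1, 5, 2, 6, 2, 1, 1, 2],
  [6, 1, 6, 2, 6, 6, 5, 6, 1, 6, 4, 1, 1, 1, 6, 4],
  [6, 1, 6, 3, 1, 1, 3, 1, 0, 4, 6, 1, 4, 0, 1, 1],
  [6, 2, 1, 2, 2, 1, 2, 6, 5, 6, 2, 0, 6, 2, 0, 5],
  [6, 2, 1, 4, 2, 1, 4, 6, 4, 2, 5, 4, 2, 3, 4, 2],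
  [6, 2, 3, 0, 2, 1, 0, 4, 6, 6, 2, 5, 6, 1, 5, 5],
  [6, 2, 3, 4, 5, 6, 3, 3, 5, 0, 2, 5, 0, 5, 2, 2],
  [6, 2, 4, 4, 5, 6, 3, 4, 0, 5, 2, 5, 2, 0, 2, 2],
  [6, 2, 5, 2, 5, 6, 5, 5, 5, 1, 4, 0, 6, 5, 0, 4],
  [6, 2, 6, 2, 5, 6, 5, 6, 0, 6, 4, 0, 1, 0, 0, 4],
  [6, 2, 6, 6, 2, 1, 6, 1, 3, 2, 5, 6, 2, 4, 6, 2],
  [6, 4, 0, 4, 3, 6, 3, 0, 2, 4, 4, 1, 3, 2, 6, 4],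
  [6, 4, 2, 1, 3, 6, 6, 2, 4, 0, 0, 3, 0, 4, 4, 0],
  [6, 4, 2, 3, 3, 6, 4, 2, 4, 5, 1, 3, 2, 4, 4, 1],
  [6, 4, 4, 0, 3, 6, 0, 4, 6, 1, 4, 5, 6, 6, 2, 4],
  [6, 4, 4, 2, 3, 6, 5, 4, 6, 6, 4, 1, 1, 6, 6, 4],
  [6, 4, 6, 6, 3, 6, 1, 6, 1, 2, 0, 3, 5, 1, 4, 0],
  [6, 5, 2, 3, 5, 1, 3, 5, 1, 2, 6, 0, 2, 6, 0, 1],
  [6, 5, 3, 4, 2, 6, 3, 3, 0, 5, 2, 2, 2, 0, 5, 2],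
  [6, 5, 4, 0, 5, 1, 0, 3, 4, 0, 2, 1, 0, 3, 1, 5],
  [6, 5, 4, 5, 5, 1, 5, 3, 1, 1, 6, 5, 1, 6, 5, 1],
  [6, 5, 5, 1, 2, 6, 6, 5, 2, 1, 5, 4, 6, 2, 3, 5],
  [6, 5, 6, 2, 5, 1, 2, 1, 4, 6, 2, 6, 6, 3, 6, 5],
  [6, 6, 0, 3, 1, 6, 4, 0, 2, 1, 5, 3, 6, 2, 4, 5],
  [6, 6, 3, 4, 1, 6, 3, 3, 6, 5, 2, 1, 2, 6, 6, 2],
  [6, 6, 4, 6, 6, 1, 6, 3, 3, 1, 0, 4, 1, 4, 4, 0],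
  [6, 6, 5, 1, 1, 6, 6, 5, 1, 1, 5, 3, 6, 1, 4, 5],
  [6, 6, 5, 6, 1, 6, 1, 5, 0, 5, 2, 1, 2, 0, 6, 2],
  [6, 6, 6, 1, 6, 1, 1, 1, 3, 0, 0, 2, 0, 4, 2, 0]]

theorem kL_one : idC ∈ kL := by decide +kernel

theorem kL_closed : kL.all (fun c => kL.contains (mulC c cA) && kL.contains (mulC c cB) &&
    kL.contains (mulC c cAinv) && kL.contains (mulC c cBinv)) = true := by decide +kernel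

/-- the classification of the elements: the identity, the elements of order 3 and 5 (whose powers
add up to zero), and the elements one of whose powers is minus the identity. -/
theorem kL_class : kL.all (fun c => c == idC ||
    (powC c 3 == idC && sumPowC c 3 == zeroC) || (powC c 5 == idC && sumPowC c 5 == zeroC) ||
    (List.range 6).any (fun m => powC c (m + 1) == negIdC)) = true := by decide +kernel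

theorem gen_inv : mulC cA cAinv = idC ∧ mulC cAinv cA = idC ∧ mulC cB cBinv = idC ∧
    mulC cBinv cB = idC := by decide +kernel

theorem gen_pow : powC cA 4 = negIdC ∧ powC cB 6 = negIdC ∧ powC cB 4 ≠ idC ∧
    powC (mulC cA cB) 5 = idC ∧ mulC cA cB ≠ idC ∧ sumPowC (powC cB 4) 3 = zeroC ∧
    sumPowC (mulC cA cB) 5 = zeroC := by decide +kernel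

end Cfsg.Agent.Helper4.Spec
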