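import Mathlib

set_option autoImplicit false
set_option linter.unusedSectionVars false

/-!
The semidirect product of an abelian group (written additively) by a group acting on it, with the
formula for powers.
-/

namespace Cfsg.Agent.Helper4.Spec

/-- the semidirect product of the additive group `A` by the group `K` acting on it. -/
@[ext]
structure SD (A K : Type*) where
  /-- the component in the normal subgroup -/
  a : A
  /-- the component in the complement -/
  g : K

namespace SD

variable {A K : Type*} [AddCommGroup A] [Group K] [DistribMulAction K A]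

instance : Mul (SD A K) := ⟨fun x y => ⟨x.a + x.g • y.a, x.g * y.g⟩⟩

instance : One (SD A K) := ⟨⟨0, 1⟩⟩

instance : Inv (SD A K) := ⟨fun x => ⟨-(x.g⁻¹ • x.a), x.g⁻¹⟩⟩

@[simp] theorem mul_a (x y : SD A K) : (x * y).a = x.a + x.g • y.a := rfl

@[simp] theorem mul_g (x y : SD A K) : (x * y).g = x.g * y.g := rfl

@[simp] theorem one_a : (1 : SD A K).a = 0 := rfl

@[simp] theorem one_g : (1 : SD A K).g = 1 := rfl

@[simp] theorem inv_a (x : SD A K) : x⁻¹.a = -(x.g⁻¹ • x.a) := rfl

@[simp] theorem inv_g (x : SD A K) : x⁻¹.g = x.g⁻¹ := rfl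

instance : Group (SD A K) :=
  Group.ofLeftAxioms
    (by
      intro x y z
      ext
      · simp only [mul_a, mul_g, smul_add, mul_smul, add_assoc]
      · simp only [mul_g, mul_assoc])
    (by
      intro x
      ext
      · simp only [mul_a, one_a, one_g, one_smul, zero_add]
      · simp only [mul_g, one_g, one_mul])
    (by
      intro x
      ext
      · simp only [mul_a, inv_a, inv_g, one_a, neg_add_cancel]
      · simp only [mul_g, inv_g, inv_mul_cancel, one_g])

theorem pow_eq (x : SD A K) (k : ℕ) :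
    x ^ k = ⟨∑ i ∈ Finset.range k, x.g ^ i • x.a, x.g ^ k⟩ := by
  induction k with
  | zero =>
    rw [pow_zero]
    ext
    · simp only [one_a, Finset.range_zero, Finset.sum_empty]
    · simp only [one_g, pow_zero]
  | succ k ih =>
    rw [pow_succ, ih]
    ext
    · simp only [mul_a, Finset.sum_range_succ]
    · simp only [mul_g, pow_succ]

theorem pow_a (x : SD A K) (k : ℕ) : (x ^ k).a = ∑ i ∈ Finset.range k, x.g ^ i • x.a := by
  rw [pow_eq]

theorem pow_g (x : SD A K) (k : ℕ) : (x ^ k).g = x.g ^ k := by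
  rw [pow_eq]

theorem eq_one_iff (x : SD A K) : x = 1 ↔ x.a = 0 ∧ x.g = 1 :=
  ⟨fun h => by rw [h]; exact ⟨rfl, rfl⟩, fun h => SD.ext h.1 h.2⟩

/-- the powers of an element of the normal subgroup. -/
theorem pow_mk_one (a : A) (k : ℕ) : (⟨a, 1⟩ : SD A K) ^ k = ⟨k • a, 1⟩ := by
  rw [pow_eq]
  ext
  · simp only [one_pow, one_smul, Finset.sum_const, Finset.card_range]
  · simp only [one_pow]

/-- the powers of an element of the complement. -/
theorem pow_mk_zero (g : K) (k : ℕ) : (⟨0, g⟩ : SD A K) ^ k = ⟨0, g ^ k⟩ := by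
  rw [pow_eq]
  ext
  · simp only [smul_zero, Finset.sum_const_zero]
  · rfl

theorem orderOf_mk_zero (g : K) : orderOf (⟨0, g⟩ : SD A K) = orderOf g := by
  apply orderOf_eq_orderOf_iff.mpr
  intro n
  rw [pow_mk_zero, eq_one_iff]
  simp

/-- the equivalence with the product. -/
def equivProd : SD A K ≃ A × K where
  toFun x := (x.a, x.g)
  invFun p := ⟨p.1, p.2⟩
  left_inv _ := rfl
  right_inv _ := rfl

instance [Finite A] [Finite K] : Finite (SD A K) := Finite.of_equiv _ equivProd.symm

/-- the projection onto the complement. -/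
def proj : SD A K →* K where
  toFun x := x.g
  map_one' := rfl
  map_mul' _ _ := rfl

theorem mem_ker_proj (x : SD A K) : x ∈ (proj : SD A K →* K).ker ↔ x.g = 1 := Iff.rfl

theorem ker_proj_comm (x y : SD A K) (hx : x ∈ (proj : SD A K →* K).ker)
    (hy : y ∈ (proj : SD A K →* K).ker) : x * y = y * x := by
  rw [mem_ker_proj] at hx hy
  ext
  · simp only [mul_a, hx, hy, one_smul, add_comm]
  · simp only [mul_g, hx, hy]

theorem isSolvable_ker_proj : Group.IsSolvable (proj : SD A K →* K).ker := by
  apply Group.isSolvable_of_comm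
  rintro ⟨x, hx⟩ ⟨y, hy⟩
  exact Subtype.ext (ker_proj_comm x y hx hy)

theorem ker_proj_ne_bot (a : A) (ha : a ≠ 0) : (proj : SD A K →* K).ker ≠ ⊥ := by
  intro h
  have hmem : (⟨a, 1⟩ : SD A K) ∈ (proj : SD A K →* K).ker := rfl
  rw [h, Subgroup.mem_bot, eq_one_iff] at hmem
  exact ha hmem.1

end SD

end Cfsg.Agent.Helper4.Spec
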