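import Mathlib
import Cfsg.Agent.Helper4.A10SpecA
import Cfsg.Agent.Helper4.A10SpecData
import Cfsg.Agent.Helper4.SDProd

set_option autoImplicit false

/-!
A finite group with a non-trivial solvable normal subgroup and the same set of element orders as
the alternating group of degree 10: the semidirect product of `7^4 × W` by a group of order 240 of
matrices of size 4 over the field with 7 elements acting without fixed points, where `W` is the
module over the field with 3 elements of the functions on the group which change sign under the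
central involution.
-/

namespace Cfsg.Agent.Helper4.Spec

/-- matrices of size 4 over the field with 7 elements. -/
abbrev Mat7 := Matrix (Fin 4) (Fin 4) (ZMod 7)

/-- the matrix with a given code. -/
def toM (c : List ℕ) : Mat7 := Matrix.of fun i j => ((c.getD (4 * i.val + j.val) 0 : ℕ) : ZMod 7)

theorem toM_apply (c : List ℕ) (i j : Fin 4) :
    toM c i j = ((c.getD (4 * i.val + j.val) 0 : ℕ) : ZMod 7) := rfl

theorem getD_mulC (a b : List ℕ) (i j : ℕ) (hi : i < 4) (hj : j < 4) :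
    (mulC a b).getD (4 * i + j) 0 = (a.getD (4 * i + 0) 0 * b.getD (4 * 0 + j) 0 +
      a.getD (4 * i + 1) 0 * b.getD (4 * 1 + j) 0 + a.getD (4 * i + 2) 0 * b.getD (4 * 2 + j) 0 +
      a.getD (4 * i + 3) 0 * b.getD (4 * 3 + j) 0) % 7 := by
  interval_cases i <;> interval_cases j <;> rfl

theorem getD_addC (a b : List ℕ) (t : ℕ) (ht : t < 16) :
    (addC a b).getD t 0 = (a.getD t 0 + b.getD t 0) % 7 := by
  interval_cases t <;> rfl

theorem toM_mulC (a b : List ℕ) : toM (mulC a b) = toM a * toM b := by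
  ext i j
  rw [Matrix.mul_apply, Fin.sum_univ_four]
  simp only [toM_apply]
  rw [getD_mulC a b i.val j.val i.2 j.2, ZMod.natCast_mod]
  push_cast
  rfl

theorem toM_addC (a b : List ℕ) : toM (addC a b) = toM a + toM b := by
  ext i j
  rw [Matrix.add_apply]
  simp only [toM_apply]
  rw [getD_addC a b _ (by have := i.2; have := j.2; omega), ZMod.natCast_mod]
  push_cast
  rfl

theorem toM_idC : toM idC = 1 := by
  ext i j
  fin_cases i <;> fin_cases j <;> rfl

theorem toM_zeroC : toM zeroC = 0 := by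
  ext i j
  fin_cases i <;> fin_cases j <;> rfl

theorem toM_negIdC : toM negIdC = -1 := by
  ext i j
  fin_cases i <;> fin_cases j <;> decide

theorem toM_powC (a : List ℕ) (n : ℕ) : toM (powC a n) = toM a ^ n := by
  induction n with
  | zero => rw [pow_zero]; exact toM_idC
  | succ n ih => rw [pow_succ, ← ih, ← toM_mulC]; rfl

theorem toM_sumPowC (a : List ℕ) (n : ℕ) :
    toM (sumPowC a n) = ∑ i ∈ Finset.range n, toM a ^ i := by
  induction n with
  | zero => rw [Finset.range_zero, Finset.sum_empty]; exact toM_zeroC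
  | succ n ih => rw [Finset.sum_range_succ, ← ih, ← toM_powC, ← toM_addC]; rfl

/-- the invertible matrix with a given code and the code of its inverse. -/
def toGL (c c' : List ℕ) (h1 : mulC c c' = idC) (h2 : mulC c' c = idC) : GL (Fin 4) (ZMod 7) where
  val := toM c
  inv := toM c'
  val_inv := by rw [← toM_mulC, h1, toM_idC]
  inv_val := by rw [← toM_mulC, h2, toM_idC]

/-- the first generator. -/
def gA : GL (Fin 4) (ZMod 7) := toGL cA cAinv gen_inv.1 gen_inv.2.1

/-- the second generator. -/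
def gB : GL (Fin 4) (ZMod 7) := toGL cB cBinv gen_inv.2.2.1 gen_inv.2.2.2

theorem gA_val : (gA : Mat7) = toM cA := rfl

theorem gB_val : (gB : Mat7) = toM cB := rfl

theorem gA_inv_val : ((gA⁻¹ : GL (Fin 4) (ZMod 7)) : Mat7) = toM cAinv := rfl

theorem gB_inv_val : ((gB⁻¹ : GL (Fin 4) (ZMod 7)) : Mat7) = toM cBinv := rfl

/-- the group generated by the two matrices. -/
def K7 : Subgroup (GL (Fin 4) (ZMod 7)) := Subgroup.closure {gA, gB}

theorem gA_mem : gA ∈ K7 := Subgroup.subset_closure (by simp)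

theorem gB_mem : gB ∈ K7 := Subgroup.subset_closure (by simp)

theorem kL_closed' (c : List ℕ) (hc : c ∈ kL) : mulC c cA ∈ kL ∧ mulC c cB ∈ kL ∧
    mulC c cAinv ∈ kL ∧ mulC c cBinv ∈ kL := by
  have h := List.all_eq_true.mp kL_closed c hc
  simp only [Bool.and_eq_true] at h
  obtain ⟨⟨⟨h1, h2⟩, h3⟩, h4⟩ := h
  exact ⟨List.mem_of_elem_eq_true h1, List.mem_of_elem_eq_true h2, List.mem_of_elem_eq_true h3,
    List.mem_of_elem_eq_true h4⟩

/-- every element of the group has its code in the list. -/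
theorem exists_code (g : GL (Fin 4) (ZMod 7)) (hg : g ∈ K7) : ∃ c ∈ kL, (g : Mat7) = toM c := by
  unfold K7 at hg
  induction hg using Subgroup.closure_induction_right with
  | one => exact ⟨idC, kL_one, by rw [Units.val_one, toM_idC]⟩
  | mul_right x hx y hy ih =>
    obtain ⟨c, hc, hxc⟩ := ih
    obtain ⟨h1, h2, -, -⟩ := kL_closed' c hc
    rcases hy with rfl | rfl
    · exact ⟨_, h1, by rw [Units.val_mul, hxc, gA_val, toM_mulC]⟩
    · exact ⟨_, h2, by rw [Units.val_mul, hxc, gB_val, toM_mulC]⟩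
  | mul_inv_cancel x hx y hy ih =>
    obtain ⟨c, hc, hxc⟩ := ih
    obtain ⟨-, -, h3, h4⟩ := kL_closed' c hc
    rcases hy with rfl | rfl
    · exact ⟨_, h3, by rw [Units.val_mul, hxc, gA_inv_val, toM_mulC]⟩
    · exact ⟨_, h4, by rw [Units.val_mul, hxc, gB_inv_val, toM_mulC]⟩

theorem gl_ext {g h : GL (Fin 4) (ZMod 7)} (e : (g : Mat7) = (h : Mat7)) : g = h := Units.ext e

theorem gl_pow_val (g : GL (Fin 4) (ZMod 7)) (n : ℕ) : ((g ^ n : GL (Fin 4) (ZMod 7)) : Mat7) =
    (g : Mat7) ^ n := Units.val_pow_eq_pow_val g n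

theorem negOne_val : ((-1 : GL (Fin 4) (ZMod 7)) : Mat7) = -1 := rfl

/-- the classification of the elements of the group. -/
theorem class_K7 (g : GL (Fin 4) (ZMod 7)) (hg : g ∈ K7) : g = 1 ∨
    (g ^ 3 = 1 ∧ ∑ i ∈ Finset.range 3, (g : Mat7) ^ i = 0) ∨
    (g ^ 5 = 1 ∧ ∑ i ∈ Finset.range 5, (g : Mat7) ^ i = 0) ∨
    ∃ m : ℕ, 1 ≤ m ∧ m ≤ 6 ∧ g ^ m = -1 := by
  obtain ⟨c, hc, hgc⟩ := exists_code g hg
  have h := List.all_eq_true.mp kL_class c hc
  simp only [Bool.or_eq_true, Bool.and_eq_true, beq_iff_eq, List.any_eq_true, List.mem_range] at h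
  rcases h with ((h | ⟨h1, h2⟩) | ⟨h1, h2⟩) | ⟨m, hm, h⟩
  · left
    apply gl_ext
    rw [hgc, h, toM_idC, Units.val_one]
  · right; left
    refine ⟨?_, ?_⟩
    · apply gl_ext
      rw [gl_pow_val, hgc, ← toM_powC, h1, toM_idC, Units.val_one]
    · rw [hgc, ← toM_sumPowC, h2, toM_zeroC]
  · right; right; left
    refine ⟨?_, ?_⟩
    · apply gl_ext
      rw [gl_pow_val, hgc, ← toM_powC, h1, toM_idC, Units.val_one]
    · rw [hgc, ← toM_sumPowC, h2, toM_zeroC]
  · right; right; right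
    refine ⟨m + 1, by omega, by omega, ?_⟩
    apply gl_ext
    rw [gl_pow_val, hgc, ← toM_powC, h, toM_negIdC, negOne_val]

theorem gA_pow4 : gA ^ 4 = -1 := by
  apply gl_ext
  rw [gl_pow_val, gA_val, ← toM_powC, gen_pow.1, toM_negIdC, negOne_val]

theorem gB_pow6 : gB ^ 6 = -1 := by
  apply gl_ext
  rw [gl_pow_val, gB_val, ← toM_powC, gen_pow.2.1, toM_negIdC, negOne_val]

theorem negOne_mem : (-1 : GL (Fin 4) (ZMod 7)) ∈ K7 := by
  rw [← gA_pow4]
  exact K7.pow_mem gA_mem 4

theorem negOne_ne_one : (-1 : GL (Fin 4) (ZMod 7)) ≠ 1 := by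
  intro h
  have := congrArg (fun g : GL (Fin 4) (ZMod 7) => (g : Mat7) 0 0) h
  revert this
  decide

theorem negOne_sq7 : (-1 : GL (Fin 4) (ZMod 7)) ^ 2 = 1 := by
  rw [_root_.neg_one_sq]

/-! ### the two modules -/

/-- the vectors of length 4 over the field with 7 elements. -/
abbrev V7 := Fin 4 → ZMod 7

instance instActV : DistribMulAction ↥K7 V7 where
  smul g v := ((g : GL (Fin 4) (ZMod 7)) : Mat7).mulVec v
  one_smul v := Matrix.one_mulVec v
  mul_smul g h v := by
    show (((g * h : ↥K7) : GL (Fin 4) (ZMod 7)) : Mat7).mulVec v = _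
    rw [Subgroup.coe_mul, Units.val_mul, ← Matrix.mulVec_mulVec]
    rfl
  smul_zero g := Matrix.mulVec_zero _
  smul_add g v w := Matrix.mulVec_add _ v w

theorem smulV_def (g : ↥K7) (v : V7) : g • v = ((g : GL (Fin 4) (ZMod 7)) : Mat7).mulVec v := rfl

/-- the central involution. -/
def zK : ↥K7 := ⟨-1, negOne_mem⟩

theorem zK_comm (g : ↥K7) : zK * g = g * zK := by
  apply Subtype.ext
  show (-1 : GL (Fin 4) (ZMod 7)) * g.1 = g.1 * (-1)
  rw [neg_one_mul, mul_neg_one]

theorem zK_ne_one : zK ≠ 1 := by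
  intro h
  exact negOne_ne_one (congrArg Subtype.val h)

theorem zK_sq : zK ^ 2 = 1 := by
  apply Subtype.ext
  exact negOne_sq7

/-- the functions on the group which change sign under the central involution. -/
def W3 : AddSubgroup (↥K7 → ZMod 3) where
  carrier := {f | ∀ x, f (x * zK) = - f x}
  zero_mem' := by intro x; simp
  add_mem' := by
    intro f h hf hh x
    rw [Pi.add_apply, Pi.add_apply, hf x, hh x, neg_add]
  neg_mem' := by
    intro f hf x
    rw [Pi.neg_apply, Pi.neg_apply, hf x]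

theorem W3_odd (w : ↥W3) (x : ↥K7) : w.1 (x * zK) = - w.1 x := w.2 x

instance instActW : DistribMulAction ↥K7 ↥W3 where
  smul g w := ⟨fun x => w.1 (x * g), by
    intro x
    show w.1 (x * zK * g) = - w.1 (x * g)
    rw [mul_assoc, zK_comm, ← mul_assoc, W3_odd]⟩
  one_smul w := by
    apply Subtype.ext
    funext x
    show w.1 (x * 1) = w.1 x
    rw [mul_one]
  mul_smul g h w := by
    apply Subtype.ext
    funext x
    show w.1 (x * (g * h)) = w.1 (x * g * h)
    rw [mul_assoc]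
  smul_zero g := by
    apply Subtype.ext
    funext x
    rfl
  smul_add g v w := by
    apply Subtype.ext
    funext x
    rfl

theorem smulW_apply (g : ↥K7) (w : ↥W3) (x : ↥K7) : (g • w).1 x = w.1 (x * g) := rfl

/-- the group: the semidirect product of the two modules by the matrix group. -/
abbrev H10 := SD (V7 × ↥W3) ↥K7

theorem zK_smulV (v : V7) : zK • v = -v := by
  rw [smulV_def]
  show (-1 : Mat7).mulVec v = -v
  rw [Matrix.neg_mulVec, Matrix.one_mulVec]

theorem zK_smulW (w : ↥W3) : zK • w = -w := by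
  apply Subtype.ext
  funext x
  rw [smulW_apply, W3_odd]
  rfl

theorem zK_smul (a : V7 × ↥W3) : zK • a = -a := by
  apply Prod.ext
  · rw [Prod.smul_fst, zK_smulV]; rfl
  · rw [Prod.smul_snd, zK_smulW]; rfl

/-! ### the orders of the elements divide the expected numbers -/

theorem coe_pow_K7 (g : ↥K7) (i : ℕ) : (((g ^ i : ↥K7) : GL (Fin 4) (ZMod 7)) : Mat7) =
    ((g : GL (Fin 4) (ZMod 7)) : Mat7) ^ i := by
  rw [Subgroup.coe_pow, gl_pow_val]

theorem sum_smulV (g : ↥K7) (v : V7) (k : ℕ) : ∑ i ∈ Finset.range k, g ^ i • v =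
    (∑ i ∈ Finset.range k, ((g : GL (Fin 4) (ZMod 7)) : Mat7) ^ i).mulVec v := by
  rw [Matrix.sum_mulVec]
  apply Finset.sum_congr rfl
  intro i _
  rw [smulV_def, coe_pow_K7]

theorem nsmul_V7 (v : V7) : 7 • v = 0 := by
  funext i
  rw [Pi.smul_apply, nsmul_eq_mul]
  have : ((7 : ℕ) : ZMod 7) = 0 := by decide
  rw [this, zero_mul]
  rfl

theorem nsmul_W3 (w : ↥W3) : 3 • w = 0 := by
  apply Subtype.ext
  funext x
  show (3 • w.1) x = 0
  rw [Pi.smul_apply, nsmul_eq_mul]
  have : ((3 : ℕ) : ZMod 3) = 0 := by decide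
  rw [this, zero_mul]

theorem nsmul_A (a : V7 × ↥W3) : 21 • a = 0 := by
  apply Prod.ext
  · rw [Prod.smul_fst, show (21 : ℕ) = 3 * 7 from rfl, mul_smul, nsmul_V7, smul_zero]; rfl
  · rw [Prod.smul_snd, show (21 : ℕ) = 7 * 3 from rfl, mul_smul, nsmul_W3, smul_zero]; rfl

/-- the elements of the normal subgroup. -/
theorem pow_of_one (x : H10) (h : x.g = 1) : x ^ 21 = 1 := by
  have hx : x = ⟨x.a, 1⟩ := SD.ext rfl h
  rw [hx, SD.pow_mk_one, nsmul_A]
  rfl

/-- the elements over an element of order 3 or 5. -/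
theorem pow_of_odd (x : H10) (n : ℕ) (h1 : x.g ^ n = 1)
    (h2 : ∑ i ∈ Finset.range n, ((x.g : GL (Fin 4) (ZMod 7)) : Mat7) ^ i = 0) :
    x ^ (n * 3) = 1 := by
  have hx : x ^ n = ⟨(0, (x ^ n).a.2), 1⟩ := by
    apply SD.ext
    · apply Prod.ext
      · show (x ^ n).a.1 = 0
        rw [SD.pow_a, Prod.fst_sum]
        simp only [Prod.smul_fst]
        rw [sum_smulV, h2, Matrix.zero_mulVec]
      · rfl
    · rw [SD.pow_g, h1]
  rw [pow_mul, hx, SD.pow_mk_one]
  apply SD.ext
  · apply Prod.ext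
    · show (3 • ((0 : V7), (x ^ n).a.2)).1 = 0
      rw [Prod.smul_fst, smul_zero]
    · show (3 • ((0 : V7), (x ^ n).a.2)).2 = 0
      rw [Prod.smul_snd, nsmul_W3]
  · rfl

/-- the elements over an element with a power equal to the central involution. -/
theorem pow_of_even (x : H10) (m : ℕ) (h : x.g ^ m = zK) : x ^ (m + m) = 1 := by
  apply SD.ext
  · rw [SD.pow_a, Finset.sum_range_add]
    have : ∀ i, x.g ^ (m + i) • x.a = -(x.g ^ i • x.a) := by
      intro i
      rw [add_comm, pow_add, mul_smul, h, zK_smul, smul_neg]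
    simp only [this, Finset.sum_neg_distrib, add_neg_cancel]
    rfl
  · rw [SD.pow_g, pow_add, h, ← pow_two, zK_sq]
    rfl

theorem dvd_check : ∀ n ≤ 21, (n ∣ 21 ∨ n ∣ 3 * 3 ∨ n ∣ 5 * 3 ∨ ∃ m ∈ Finset.Icc 1 6, n ∣ m + m) →
    n ∈ T10 := by decide

theorem orderOf_mem (x : H10) : orderOf x ∈ T10 := by
  have hcl := class_K7 x.g.1 x.g.2
  have key : orderOf x ∣ 21 ∨ orderOf x ∣ 3 * 3 ∨ orderOf x ∣ 5 * 3 ∨
      ∃ m ∈ Finset.Icc 1 6, orderOf x ∣ m + m := by
    rcases hcl with h | ⟨h1, h2⟩ | ⟨h1, h2⟩ | ⟨m, hm1, hm6, h⟩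
    · left
      apply orderOf_dvd_of_pow_eq_one
      exact pow_of_one x (Subtype.ext h)
    · right; left
      apply orderOf_dvd_of_pow_eq_one
      exact pow_of_odd x 3 (Subtype.ext (by rw [Subgroup.coe_pow]; exact h1)) h2
    · right; right; left
      apply orderOf_dvd_of_pow_eq_one
      exact pow_of_odd x 5 (Subtype.ext (by rw [Subgroup.coe_pow]; exact h1)) h2
    · right; right; right
      refine ⟨m, Finset.mem_Icc.mpr ⟨hm1, hm6⟩, ?_⟩
      apply orderOf_dvd_of_pow_eq_one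
      exact pow_of_even x m (Subtype.ext (by rw [Subgroup.coe_pow]; exact h))
  have hpos : 0 < orderOf x := orderOf_pos x
  have hle : orderOf x ≤ 21 := by
    rcases key with h | h | h | ⟨m, hm, h⟩
    · exact Nat.le_of_dvd (by norm_num) h
    · exact (Nat.le_of_dvd (by norm_num) h).trans (by norm_num)
    · exact (Nat.le_of_dvd (by norm_num) h).trans (by norm_num)
    · rw [Finset.mem_Icc] at hm
      exact (Nat.le_of_dvd (by omega) h).trans (by omega)
  exact dvd_check _ hle key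

/-! ### elements of the expected orders -/

/-- the first generator, in the group. -/
def a8 : ↥K7 := ⟨gA, gA_mem⟩

/-- the second generator, in the group. -/
def b12 : ↥K7 := ⟨gB, gB_mem⟩

/-- an element of order 5. -/
def c5 : ↥K7 := a8 * b12

theorem a8_pow4 : a8 ^ 4 = zK := Subtype.ext (by rw [Subgroup.coe_pow]; exact gA_pow4)

theorem b12_pow6 : b12 ^ 6 = zK := Subtype.ext (by rw [Subgroup.coe_pow]; exact gB_pow6)

theorem orderOf_zK : orderOf zK = 2 := orderOf_eq_prime zK_sq zK_ne_one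

theorem orderOf_a8 : orderOf a8 = 8 := by
  have h := orderOf_eq_prime_pow (x := a8) (p := 2) (n := 2) (by rw [show 2 ^ 2 = 4 from rfl, a8_pow4]; exact zK_ne_one)
    (by rw [show 2 ^ (2 + 1) = 4 * 2 from rfl, pow_mul, a8_pow4, zK_sq])
  simpa using h

theorem three_ne_zero_mat : (∑ _i ∈ Finset.range 3, (1 : Mat7)) ≠ 0 := by
  intro h
  have := congrArg (fun M : Mat7 => M 0 0) h
  revert this
  simp only [Finset.sum_const, Finset.card_range]
  decide

theorem five_ne_zero_mat : (∑ _i ∈ Finset.range 5, (1 : Mat7)) ≠ 0 := by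
  intro h
  have := congrArg (fun M : Mat7 => M 0 0) h
  revert this
  simp only [Finset.sum_const, Finset.card_range]
  decide

theorem b12_pow4_val : (((b12 ^ 4 : ↥K7) : GL (Fin 4) (ZMod 7)) : Mat7) = toM (powC cB 4) := by
  rw [coe_pow_K7, toM_powC]
  rfl

theorem sum_b12_pow4 : ∑ i ∈ Finset.range 3,
    (((b12 ^ 4 : ↥K7) : GL (Fin 4) (ZMod 7)) : Mat7) ^ i = 0 := by
  rw [b12_pow4_val, ← toM_sumPowC, gen_pow.2.2.2.2.2.1, toM_zeroC]

theorem b12_pow4_ne : b12 ^ 4 ≠ 1 := by
  intro h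
  have h2 := sum_b12_pow4
  rw [h] at h2
  apply three_ne_zero_mat
  rw [← h2]
  apply Finset.sum_congr rfl
  intro i _
  show (1 : Mat7) = (1 : Mat7) ^ i
  rw [one_pow]

theorem b12_pow12 : b12 ^ 12 = 1 := by
  rw [show 12 = 6 * 2 from rfl, pow_mul, b12_pow6, zK_sq]

theorem prime_dvd_12 (p : ℕ) (hp : p.Prime) (h : p ∣ 12) : p = 2 ∨ p = 3 := by
  have hle : p ≤ 12 := Nat.le_of_dvd (by norm_num) h
  interval_cases p <;> first | (left; rfl) | (right; rfl) | (exfalso; revert hp h; decide)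

theorem prime_dvd_15 (p : ℕ) (hp : p.Prime) (h : p ∣ 15) : p = 3 ∨ p = 5 := by
  have hle : p ≤ 15 := Nat.le_of_dvd (by norm_num) h
  interval_cases p <;> first | (left; rfl) | (right; rfl) | (exfalso; revert hp h; decide)

theorem prime_dvd_21 (p : ℕ) (hp : p.Prime) (h : p ∣ 21) : p = 3 ∨ p = 7 := by
  have hle : p ≤ 21 := Nat.le_of_dvd (by norm_num) h
  interval_cases p <;> first | (left; rfl) | (right; rfl) | (exfalso; revert hp h; decide)

theorem orderOf_b12 : orderOf b12 = 12 := by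
  apply orderOf_eq_of_pow_and_pow_div_prime (by norm_num) b12_pow12
  intro p hp hd
  rcases prime_dvd_12 p hp hd with rfl | rfl
  · rw [show 12 / 2 = 6 from rfl, b12_pow6]
    exact zK_ne_one
  · rw [show 12 / 3 = 4 from rfl]
    exact b12_pow4_ne

theorem c5_val : ((c5 : GL (Fin 4) (ZMod 7)) : Mat7) = toM (mulC cA cB) := by
  rw [toM_mulC]
  rfl

theorem sum_c5 : ∑ i ∈ Finset.range 5, ((c5 : GL (Fin 4) (ZMod 7)) : Mat7) ^ i = 0 := by
  rw [c5_val, ← toM_sumPowC, gen_pow.2.2.2.2.2.2, toM_zeroC]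

theorem c5_pow5 : c5 ^ 5 = 1 := by
  apply Subtype.ext
  apply gl_ext
  rw [coe_pow_K7, c5_val, ← toM_powC, gen_pow.2.2.2.1, toM_idC]
  rfl

theorem c5_ne : c5 ≠ 1 := by
  intro h
  have h2 := sum_c5
  rw [h] at h2
  apply five_ne_zero_mat
  rw [← h2]
  apply Finset.sum_congr rfl
  intro i _
  show (1 : Mat7) = (1 : Mat7) ^ i
  rw [one_pow]

theorem orderOf_c5 : orderOf c5 = 5 := by
  have : Fact (Nat.Prime 5) := ⟨by norm_num⟩
  exact orderOf_eq_prime c5_pow5 c5_ne

theorem orderOf_b12_pow4 : orderOf (b12 ^ 4) = 3 := by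
  rw [orderOf_pow' b12 (by norm_num), orderOf_b12]
  rfl

open Classical in
/-- the function with value 1 at the identity and -1 at the central involution. -/
noncomputable def f0fun : ↥K7 → ZMod 3 := fun x => if x = 1 then 1 else if x = zK then -1 else 0

theorem f0fun_one : f0fun 1 = 1 := by
  unfold f0fun
  rw [if_pos rfl]

theorem f0fun_zK : f0fun zK = -1 := by
  unfold f0fun
  rw [if_neg zK_ne_one, if_pos rfl]

theorem f0fun_of_ne (x : ↥K7) (h1 : x ≠ 1) (h2 : x ≠ zK) : f0fun x = 0 := by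
  unfold f0fun
  rw [if_neg h1, if_neg h2]

theorem f0fun_odd (x : ↥K7) : f0fun (x * zK) = - f0fun x := by
  have hz2 : zK * zK = 1 := by rw [← pow_two, zK_sq]
  by_cases h1 : x = 1
  · rw [h1, one_mul, f0fun_zK, f0fun_one]
  · by_cases h2 : x = zK
    · rw [h2, hz2, f0fun_zK, f0fun_one, neg_neg]
    · have h3 : x * zK ≠ 1 := by
        intro h
        apply h2
        calc x = x * (zK * zK) := by rw [hz2, mul_one]
          _ = (x * zK) * zK := by rw [mul_assoc]
          _ = zK := by rw [h, one_mul]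
      have h4 : x * zK ≠ zK := by
        intro h
        apply h1
        exact mul_eq_right.mp h
      rw [f0fun_of_ne _ h3 h4, f0fun_of_ne _ h1 h2, neg_zero]

/-- the same function, as an element of the module. -/
noncomputable def f0 : ↥W3 := ⟨f0fun, f0fun_odd⟩

theorem f0_one : f0.1 1 = 1 := f0fun_one

theorem f0_of_ne (x : ↥K7) (h1 : x ≠ 1) (h2 : x ≠ zK) : f0.1 x = 0 := f0fun_of_ne x h1 h2

theorem f0_ne_zero : f0 ≠ 0 := by
  intro h
  have := f0_one
  rw [h] at this
  revert this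
  show (0 : ZMod 3) = 1 → False
  decide

theorem coe_sum_W3 (s : Finset ℕ) (F : ℕ → ↥W3) (x : ↥K7) :
    (∑ i ∈ s, F i).1 x = ∑ i ∈ s, (F i).1 x := by
  rw [show (∑ i ∈ s, F i).1 = ∑ i ∈ s, (F i).1 from AddSubgroup.val_finsetSum _ _ _,
    Finset.sum_apply]

/-- the sum of the translates of `f0` under the powers of an element of odd order does not
vanish. -/
theorem norm_f0 (g : ↥K7) (n : ℕ) (hn : orderOf g = n) (hodd : Odd n) :
    (∑ i ∈ Finset.range n, g ^ i • f0).1 1 = 1 := by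
  rw [coe_sum_W3]
  have hpos : 0 < n := hodd.pos
  rw [Finset.sum_eq_single 0]
  · rw [pow_zero, one_smul, f0_one]
  · intro i hi hi0
    rw [Finset.mem_range] at hi
    rw [smulW_apply, one_mul]
    apply f0_of_ne
    · apply pow_ne_one_of_lt_orderOf hi0
      rw [hn]
      exact hi
    · intro h
      have h2 : g ^ (i * 2) = 1 := by rw [pow_mul, h, zK_sq]
      have h3 : n ∣ i * 2 := by
        rw [← hn]
        exact orderOf_dvd_of_pow_eq_one h2
      have h4 : n ∣ i := (Nat.Coprime.dvd_mul_right (Nat.Coprime.symm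
        (Nat.coprime_two_left.mpr hodd))).mp h3
      have := Nat.le_of_dvd (Nat.pos_of_ne_zero hi0) h4
      omega
  · intro h
    exact absurd (Finset.mem_range.mpr hpos) h

/-- the first vector of the standard basis. -/
def e0 : V7 := Pi.single 0 1

theorem e0_ne : e0 ≠ 0 := by
  intro h
  have := congrFun h 0
  revert this
  decide

theorem snd_pow_a (w : ↥W3) (g : ↥K7) (n : ℕ) :
    ((⟨((0 : V7), w), g⟩ : H10) ^ n).a.2 = ∑ i ∈ Finset.range n, g ^ i • w := by
  rw [SD.pow_a, Prod.snd_sum]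
  rfl

theorem pow_ne_of_norm (g : ↥K7) (n : ℕ) (hn : orderOf g = n) (hodd : Odd n) :
    (⟨((0 : V7), f0), g⟩ : H10) ^ n ≠ 1 := by
  intro h
  have h1 := congrArg (fun x : H10 => x.a.2.1 1) h
  try simp only at h1
  rw [snd_pow_a, norm_f0 g n hn hodd] at h1
  revert h1
  show (1 : ZMod 3) = 0 → False
  decide

theorem order9 : orderOf (⟨((0 : V7), f0), b12 ^ 4⟩ : H10) = 9 := by
  have h9 := pow_of_odd (⟨((0 : V7), f0), b12 ^ 4⟩ : H10) 3
    (by show (b12 ^ 4) ^ 3 = 1; rw [← pow_mul]; exact b12_pow12) sum_b12_pow4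
  have h3 := pow_ne_of_norm (b12 ^ 4) 3 orderOf_b12_pow4 (by decide)
  have h := orderOf_eq_prime_pow (x := (⟨((0 : V7), f0), b12 ^ 4⟩ : H10)) (p := 3) (n := 1)
    (by rw [pow_one]; exact h3) (by rw [show 3 ^ (1 + 1) = 3 * 3 from rfl]; exact h9)
  simpa using h

theorem order15 : orderOf (⟨((0 : V7), f0), c5⟩ : H10) = 15 := by
  have h15 := pow_of_odd (⟨((0 : V7), f0), c5⟩ : H10) 5 c5_pow5 sum_c5
  apply orderOf_eq_of_pow_and_pow_div_prime (by norm_num) h15
  intro p hp hd
  rcases prime_dvd_15 p hp hd with rfl | rfl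
  · rw [show 15 / 3 = 5 from rfl]
    exact pow_ne_of_norm c5 5 orderOf_c5 (by decide)
  · rw [show 15 / 5 = 3 from rfl]
    intro h
    have h1 := congrArg (fun x : H10 => x.g) h
    try simp only at h1
    rw [SD.pow_g] at h1
    have h2 : orderOf c5 ∣ 3 := orderOf_dvd_of_pow_eq_one h1
    rw [orderOf_c5] at h2
    revert h2
    decide

theorem order7 : orderOf (⟨(e0, (0 : ↥W3)), 1⟩ : H10) = 7 := by
  have : Fact (Nat.Prime 7) := ⟨by norm_num⟩
  apply orderOf_eq_prime
  · rw [SD.pow_mk_one]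
    apply SD.ext
    · apply Prod.ext
      · show 7 • e0 = 0
        exact nsmul_V7 e0
      · show 7 • (0 : ↥W3) = 0
        rw [smul_zero]
    · rfl
  · intro h
    have h1 := congrArg (fun x : H10 => x.a.1) h
    exact e0_ne h1

theorem order21 : orderOf (⟨(e0, f0), 1⟩ : H10) = 21 := by
  apply orderOf_eq_of_pow_and_pow_div_prime (by norm_num) (pow_of_one _ rfl)
  intro p hp hd
  rcases prime_dvd_21 p hp hd with rfl | rfl
  · rw [show 21 / 3 = 7 from rfl, SD.pow_mk_one]
    intro h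
    have h1 := congrArg (fun x : H10 => x.a.2.1 1) h
    try simp only at h1
    have h2 : ((7 • (e0, f0) : V7 × ↥W3).2).1 1 = 1 := by
      show (7 • f0.1) 1 = 1
      rw [Pi.smul_apply, f0_one]
      decide
    rw [h2] at h1
    revert h1
    show (1 : ZMod 3) = 0 → False
    decide
  · rw [show 21 / 7 = 3 from rfl, SD.pow_mk_one]
    intro h
    have h1 := congrArg (fun x : H10 => x.a.1 0) h
    try simp only at h1
    have h2 : ((3 • (e0, f0) : V7 × ↥W3).1) 0 = 3 := by
      show (3 • e0) 0 = 3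
      rw [Pi.smul_apply]
      decide
    rw [h2] at h1
    revert h1
    show (3 : ZMod 7) = 0 → False
    decide

theorem orderOf_zK_c5 : orderOf (zK * c5) = 10 := by
  rw [Commute.orderOf_mul_eq_mul_orderOf_of_coprime (zK_comm c5), orderOf_zK, orderOf_c5]
  rw [orderOf_zK, orderOf_c5]
  decide

theorem mem_range_of_K7 (g : ↥K7) (n : ℕ) (h : orderOf g = n) :
    n ∈ Set.range (orderOf : H10 → ℕ) :=
  ⟨⟨0, g⟩, by rw [SD.orderOf_mk_zero, h]⟩

theorem range_H10 : Set.range (orderOf : H10 → ℕ) = {n | n ∈ T10} := by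
  apply Set.Subset.antisymm
  · rintro _ ⟨x, rfl⟩
    exact orderOf_mem x
  · intro n hn
    simp only [T10, Set.mem_ofPred_eq, List.mem_cons, List.not_mem_nil, or_false] at hn
    rcases hn with rfl | rfl | rfl | rfl | rfl | rfl | rfl | rfl | rfl | rfl | rfl | rfl | rfl
    · exact mem_range_of_K7 1 1 orderOf_one
    · exact mem_range_of_K7 zK 2 orderOf_zK
    · exact mem_range_of_K7 (b12 ^ 4) 3 orderOf_b12_pow4
    · exact mem_range_of_K7 (a8 ^ 2) 4 (by rw [orderOf_pow' a8 (by norm_num), orderOf_a8]; rfl)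
    · exact mem_range_of_K7 c5 5 orderOf_c5
    · exact mem_range_of_K7 (b12 ^ 2) 6 (by rw [orderOf_pow' b12 (by norm_num), orderOf_b12]; rfl)
    · exact ⟨_, order7⟩
    · exact mem_range_of_K7 a8 8 orderOf_a8
    · exact ⟨_, order9⟩
    · exact mem_range_of_K7 (zK * c5) 10 orderOf_zK_c5
    · exact mem_range_of_K7 b12 12 orderOf_b12
    · exact ⟨_, order15⟩
    · exact ⟨_, order21⟩

/-- the group has a non-trivial solvable normal subgroup. -/
theorem ker_ne_bot : (SD.proj : H10 →* ↥K7).ker ≠ ⊥ :=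
  SD.ker_proj_ne_bot ((e0, 0) : V7 × ↥W3) (by
    intro h
    exact e0_ne (congrArg Prod.fst h))

end Cfsg.Agent.Helper4.Spec
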