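import Mathlib
import Cfsg.Agent.S3377

/-!
# Subgroups isomorphic to `A₅` via `(3,5,2)`-generating pairs

A pair `(x, y)` in a group with `x³ = y⁵ = (xy)² = 1`, `x ≠ 1` generates a subgroup isomorphic to
`A₅` (using the presentation `S3377`), with an explicit list of its 60 elements as words.
-/

set_option autoImplicit false

namespace Cfsg.Agent.Helper4.A5Pair

open Cfsg.Agent.S3377 Cfsg.Agent.Helper3.CosetCert

variable {G : Type*} [Group G]

/-- a `(3,5,2)`-pair -/
structure IsPair (x y : G) : Prop where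
  hx : x ^ 3 = 1
  hy : y ^ 5 = 1
  hxy : (x * y) ^ 2 = 1
  hne : x ≠ 1

/-- the assignment of generators -/
def gmap (x y : G) : Fin 2 → G := fun i => if i = 0 then x else y

theorem rels_ok {x y : G} (h : IsPair x y) : ∀ r ∈ rels, FreeGroup.lift (gmap x y) r = 1 := by
  intro r hr
  simp only [rels, Set.mem_insert_iff, Set.mem_singleton_iff] at hr
  rcases hr with rfl | rfl | rfl
  · rw [map_pow, FreeGroup.lift_apply_of]; exact h.hx
  · rw [map_pow, FreeGroup.lift_apply_of]; exact h.hy
  · rw [map_pow, map_mul, FreeGroup.lift_apply_of, FreeGroup.lift_apply_of]; exact h.hxy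

/-- the homomorphism from the presented group -/
def hom {x y : G} (h : IsPair x y) : PresentedGroup rels →* G := PresentedGroup.toGroup (rels_ok h)

theorem hom_gens {x y : G} (h : IsPair x y) (i : Fin 2) : hom h (gens i) = gmap x y i :=
  PresentedGroup.toGroup.of (rels_ok h)

theorem hom_prodL {x y : G} (h : IsPair x y) (l : List (Fin 2)) :
    hom h (prodL gens l) = prodL (gmap x y) l := by
  induction l with
  | nil => simp [prodL]
  | cons s l ih =>
    rw [prodL_cons, prodL_cons, map_mul, ih, hom_gens]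

theorem isSimple_pres : IsSimpleGroup (PresentedGroup rels) := by
  obtain ⟨e⟩ := Cfsg.Agent.S3377.result
  haveI : IsSimpleGroup (alternatingGroup (Fin 5)) := alternatingGroup.isSimpleGroup (by simp)
  exact (MulEquiv.isSimpleGroup_congr e).mpr inferInstance

theorem hom_injective {x y : G} (h : IsPair x y) : Function.Injective (hom h) := by
  haveI := isSimple_pres
  rw [← MonoidHom.ker_eq_bot_iff]
  rcases Subgroup.Normal.eq_bot_or_eq_top (MonoidHom.normal_ker (hom h)) with h' | h'
  · exact h'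
  · exfalso
    have h1 : gens 0 ∈ (hom h).ker := by rw [h']; exact Subgroup.mem_top _
    rw [MonoidHom.mem_ker, hom_gens] at h1
    exact h.hne h1

/-- the subgroup generated by the pair -/
def sub {x y : G} (h : IsPair x y) : Subgroup G := (hom h).range

theorem mem_sub_iff {x y : G} (h : IsPair x y) (g : G) :
    g ∈ sub h ↔ ∃ ω : Fin 60, g = prodL (gmap x y) (word ω) := by
  constructor
  · rintro ⟨a, rfl⟩
    obtain ⟨ω, hω⟩ := surj a
    refine ⟨ω, ?_⟩
    rw [← hω]
    exact hom_prodL h (word ω)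
  · rintro ⟨ω, rfl⟩
    exact ⟨prodL gens (word ω), hom_prodL h (word ω)⟩

theorem sub_equiv {x y : G} (h : IsPair x y) :
    Nonempty (sub h ≃* alternatingGroup (Fin 5)) := by
  obtain ⟨e⟩ := Cfsg.Agent.S3377.result
  exact ⟨(MonoidHom.ofInjective (hom_injective h)).symm.trans e⟩

theorem card_A5 : Nat.card (alternatingGroup (Fin 5)) = 60 := by
  rw [nat_card_alternatingGroup, Nat.card_fin]
  decide

theorem card_sub {x y : G} (h : IsPair x y) : Nat.card (sub h) = 60 := by
  obtain ⟨e⟩ := sub_equiv h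
  rw [Nat.card_congr e.toEquiv, card_A5]

theorem left_mem {x y : G} (h : IsPair x y) : x ∈ sub h :=
  ⟨gens 0, hom_gens h 0⟩

theorem right_mem {x y : G} (h : IsPair x y) : y ∈ sub h :=
  ⟨gens 1, hom_gens h 1⟩

theorem sub_le {x y : G} (h : IsPair x y) {L : Subgroup G} (hx : x ∈ L) (hy : y ∈ L) :
    sub h ≤ L := by
  rintro g ⟨a, rfl⟩
  have hmem : a ∈ Subgroup.closure (Set.range gens) := by rw [hgen]; exact Subgroup.mem_top _
  induction hmem using Subgroup.closure_induction with
  | mem z hz =>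
    obtain ⟨i, rfl⟩ := hz
    rw [hom_gens]
    fin_cases i
    · exact hx
    · exact hy
  | one => rw [map_one]; exact L.one_mem
  | mul a b _ _ ha hb => rw [map_mul]; exact L.mul_mem ha hb
  | inv a _ ha => rw [map_inv]; exact L.inv_mem ha

theorem eq_sub_of_card {x y : G} (h : IsPair x y) {L : Subgroup G} (hx : x ∈ L) (hy : y ∈ L)
    (hc : Nat.card L = 60) : L = sub h := by
  haveI : Finite L := Nat.finite_of_card_ne_zero (by rw [hc]; norm_num)
  symm
  exact Subgroup.eq_of_le_of_card_ge (sub_le h hx hy) (by rw [card_sub, hc])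

/-! ### facts about `A₅` by computation -/

set_option maxRecDepth 100000 in
theorem A5_exists_three : ∃ x : alternatingGroup (Fin 5), x ^ 3 = 1 ∧ x ≠ 1 := by
  decide +kernel

set_option maxRecDepth 100000 in
theorem A5_exists_pair : ∀ x : alternatingGroup (Fin 5), x ^ 3 = 1 → x ≠ 1 →
    ∃ y : alternatingGroup (Fin 5), y ^ 5 = 1 ∧ (x * y) ^ 2 = 1 := by
  decide +kernel

set_option maxRecDepth 100000 in
theorem A5_conj3 : ∀ x x' : alternatingGroup (Fin 5), x ^ 3 = 1 → x ≠ 1 → x' ^ 3 = 1 → x' ≠ 1 →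
    ∃ h : alternatingGroup (Fin 5), h * x * h⁻¹ = x' := by
  decide +kernel

/-! ### transport to a group isomorphic to `A₅` -/

variable {L : Type*} [Group L]

theorem exists_three (e : L ≃* alternatingGroup (Fin 5)) : ∃ x : L, x ^ 3 = 1 ∧ x ≠ 1 := by
  obtain ⟨a, ha, hne⟩ := A5_exists_three
  refine ⟨e.symm a, ?_, ?_⟩
  · rw [← map_pow, ha, map_one]
  · intro h
    apply hne
    have := congrArg e h
    rwa [e.apply_symm_apply, map_one] at this

theorem exists_pair (e : L ≃* alternatingGroup (Fin 5)) (x : L) (hx : x ^ 3 = 1) (hne : x ≠ 1) :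
    ∃ y : L, IsPair x y := by
  have h1 : (e x) ^ 3 = 1 := by rw [← map_pow, hx, map_one]
  have h2 : e x ≠ 1 := fun h => hne (by rwa [MulEquiv.map_eq_one_iff] at h)
  obtain ⟨b, hb1, hb2⟩ := A5_exists_pair (e x) h1 h2
  refine ⟨e.symm b, hx, ?_, ?_, hne⟩
  · rw [← map_pow, hb1, map_one]
  · apply e.injective
    rw [map_pow, map_mul, e.apply_symm_apply, hb2, map_one]

theorem conj_three (e : L ≃* alternatingGroup (Fin 5)) (x x' : L) (hx : x ^ 3 = 1) (hne : x ≠ 1)
    (hx' : x' ^ 3 = 1) (hne' : x' ≠ 1) : ∃ h : L, h * x * h⁻¹ = x' := by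
  have h1 : (e x) ^ 3 = 1 := by rw [← map_pow, hx, map_one]
  have h2 : e x ≠ 1 := fun h => hne (by rwa [MulEquiv.map_eq_one_iff] at h)
  have h1' : (e x') ^ 3 = 1 := by rw [← map_pow, hx', map_one]
  have h2' : e x' ≠ 1 := fun h => hne' (by rwa [MulEquiv.map_eq_one_iff] at h)
  obtain ⟨b, hb⟩ := A5_conj3 (e x) (e x') h1 h2 h1' h2'
  refine ⟨e.symm b, ?_⟩
  apply e.injective
  rw [map_mul, map_mul, map_inv, e.apply_symm_apply, hb]

end Cfsg.Agent.Helper4.A5Pair
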