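import Mathlib

set_option autoImplicit false

namespace Cfsg.Agent.Helper4.AGL19

/-- the semidihedral group of order 16, elements `ω^i σ^e` -/
structure K where
  i : ZMod 8
  e : Bool
deriving DecidableEq

instance instFintypeK : Fintype K :=
  Fintype.ofEquiv (ZMod 8 × Bool)
    { toFun := fun p => ⟨p.1, p.2⟩
      invFun := fun k => (k.i, k.e)
      left_inv := fun _ => rfl
      right_inv := fun _ => rfl }

/-- twist of exponents by the Frobenius -/
def tw (e : Bool) (j : ZMod 8) : ZMod 8 := if e then 3 * j else j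

instance instMulK : Mul K := ⟨fun a b => ⟨a.i + tw a.e b.i, xor a.e b.e⟩⟩
instance instOneK : One K := ⟨⟨0, false⟩⟩
instance instInvK : Inv K := ⟨fun a => ⟨- tw a.e a.i, a.e⟩⟩

theorem K_mul_assoc : ∀ a b c : K, a * b * c = a * (b * c) := by decide
theorem K_one_mul : ∀ a : K, 1 * a = a := by decide
theorem K_inv_mul : ∀ a : K, a⁻¹ * a = 1 := by decide

instance instGroupK : Group K := Group.ofLeftAxioms K_mul_assoc K_one_mul K_inv_mul

/-- the vector space `F_9 = F_3[i]` -/
abbrev V := ZMod 3 × ZMod 3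

/-- powers of `ω = 1 + i` -/
def pw (j : ZMod 8) : V :=
  (![(1, 0), (1, 1), (0, 2), (1, 2), (2, 0), (2, 2), (0, 1), (2, 1)] : Fin 8 → V) j

/-- Frobenius -/
def cj (e : Bool) (v : V) : V := if e then (v.1, -v.2) else v

/-- multiplication of `F_9` -/
def fmul (a b : V) : V := (a.1 * b.1 - a.2 * b.2, a.1 * b.2 + a.2 * b.1)

/-- the action of `K` on `V` -/
def act (k : K) (v : V) : V := fmul (pw k.i) (cj k.e v)

theorem act_mul : ∀ (a b : K) (v : V), act (a * b) v = act a (act b v) := by decide
theorem act_add : ∀ (a : K) (v w : V), act a (v + w) = act a v + act a w := by decide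
theorem act_one : ∀ v : V, act 1 v = v := by decide

/-- the group `AΓL(1,9)` -/
structure G where
  v : V
  k : K
deriving DecidableEq

instance instFintypeG : Fintype G :=
  Fintype.ofEquiv (V × K)
    { toFun := fun p => ⟨p.1, p.2⟩
      invFun := fun g => (g.v, g.k)
      left_inv := fun _ => rfl
      right_inv := fun _ => rfl }

instance instMulG : Mul G := ⟨fun g h => ⟨g.v + act g.k h.v, g.k * h.k⟩⟩
instance instOneG : One G := ⟨⟨0, 1⟩⟩
instance instInvG : Inv G := ⟨fun g => ⟨- act g.k⁻¹ g.v, g.k⁻¹⟩⟩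

theorem G_mul_def (g h : G) : g * h = ⟨g.v + act g.k h.v, g.k * h.k⟩ := rfl
theorem G_one_def : (1 : G) = ⟨0, 1⟩ := rfl
theorem G_inv_def (g : G) : g⁻¹ = ⟨- act g.k⁻¹ g.v, g.k⁻¹⟩ := rfl

instance instGroupG : Group G := Group.ofLeftAxioms
  (by
    intro a b c
    simp only [G_mul_def, act_mul, act_add, add_assoc, mul_assoc])
  (by
    intro a
    simp only [G_mul_def, G_one_def, act_one, zero_add, one_mul])
  (by
    intro a
    simp only [G_mul_def, G_inv_def, G_one_def, neg_add_cancel, inv_mul_cancel])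

end Cfsg.Agent.Helper4.AGL19
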