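import Mathlib
import Cfsg.Agent.Helper4.AGammaL19

set_option autoImplicit false

namespace Cfsg.Agent.Helper4.AGL19

/-- the reflection -/
def a : G := ⟨0, ⟨0, true⟩⟩

/-- a translation not fixed by `a` -/
def t : G := ⟨(0, 1), 1⟩

set_option maxRecDepth 1000000 in
theorem key : ∀ c : G, ∃ h : G, (h * c * h⁻¹).v = 0 ∨ h * c * h⁻¹ * a = a * (h * c * h⁻¹) := by
  decide

theorem a_sq : a ^ 2 = 1 := by decide
theorem a_ne_one : a ≠ 1 := by decide
theorem u_cube : (a * t * a⁻¹ * t⁻¹) ^ 3 = 1 := by decide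
theorem u_ne_one : a * t * a⁻¹ * t⁻¹ ≠ 1 := by decide
theorem act_zero : ∀ k : K, act k 0 = 0 := by decide

/-- projection onto the complement -/
def proj : G →* K where
  toFun g := g.k
  map_one' := rfl
  map_mul' _ _ := rfl

/-- inclusion of the translations -/
def iota : Multiplicative V →* G where
  toFun v := ⟨v.toAdd, 1⟩
  map_one' := rfl
  map_mul' v w := by
    rw [G_mul_def]
    simp only [act_one, mul_one]
    rfl

theorem card_K : Nat.card K = 2 ^ 4 := by
  rw [Nat.card_eq_fintype_card]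
  rfl

theorem isPGroup_K : IsPGroup 2 K := IsPGroup.of_card card_K

instance instSolvableK : Group.IsSolvable K := by
  have : Fact (Nat.Prime 2) := ⟨Nat.prime_two⟩
  have := isPGroup_K.isNilpotent
  infer_instance

instance instSolvableG : Group.IsSolvable G := by
  refine Group.isSolvable_of_ker_le_range iota proj ?_
  intro g hg
  rw [MonoidHom.mem_ker] at hg
  refine ⟨Multiplicative.ofAdd g.v, ?_⟩
  change (⟨g.v, 1⟩ : G) = g
  have h1 : g.k = 1 := hg
  rw [← h1]

/-- the complement (a Sylow 2-subgroup) -/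
def S : Subgroup G where
  carrier := {g | g.v = 0}
  mul_mem' {g h} hg hh := by
    change (g * h).v = 0
    have hg' : g.v = 0 := hg
    have hh' : h.v = 0 := hh
    rw [G_mul_def]
    simp only [hg', hh', act_zero, add_zero]
  one_mem' := rfl
  inv_mem' {g} hg := by
    change (g⁻¹).v = 0
    have hg' : g.v = 0 := hg
    rw [G_inv_def]
    simp only [hg', act_zero, neg_zero]

theorem mem_S (g : G) : g ∈ S ↔ g.v = 0 := Iff.rfl

theorem isPGroup_S : IsPGroup 2 S := by
  refine isPGroup_K.of_injective (proj.comp S.subtype) ?_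
  rintro ⟨x, hx⟩ ⟨y, hy⟩ hxy
  have h1 : x.k = y.k := hxy
  have hx' : x.v = 0 := hx
  have hy' : y.v = 0 := hy
  apply Subtype.ext
  change x = y
  cases x; cases y
  simp only at h1 hx' hy'
  rw [h1, hx', hy']

theorem a_mem_S : a ∈ S := rfl

theorem card_zpowers_a : Nat.card (Subgroup.zpowers a) = 2 := by
  have : Fact (Nat.Prime 2) := ⟨Nat.prime_two⟩
  rw [Nat.card_zpowers]
  exact orderOf_eq_prime a_sq a_ne_one

end Cfsg.Agent.Helper4.AGL19
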