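import Mathlib

set_option autoImplicit false

/-!
Helper library (helper4): coordinates on a finite vector space over the field with two elements
in which a given non-zero vector becomes the first basis vector; the multiplicative version for
an elementary abelian 2-group.
-/

namespace Cfsg.Agent.Helper4.F2Coord

open Module

/-- coordinates in which a given non-zero vector is the first basis vector. -/
theorem exists_coord {n : ℕ} (V : Type*) [AddCommGroup V] [Module (ZMod 2) V] [Finite V]
    (hcard : Nat.card V = 2 ^ (n + 1)) (v : V) (hv : v ≠ 0) :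
    ∃ e : V ≃ₗ[ZMod 2] (Fin (n + 1) → ZMod 2), e v = Pi.single 0 1 := by
  classical
  have : Fact (Nat.Prime 2) := ⟨by norm_num⟩
  have hs : LinearIndepOn (ZMod 2) id ({v} : Set V) := LinearIndepOn.singleton (v := id) hv
  let B := Basis.extend hs
  have hfin : Finite ↥(hs.extend (Set.subset_univ _)) := Subtype.finite
  have hfr : Module.finrank (ZMod 2) V = n + 1 := by
    have h1 := Module.natCard_eq_pow_finrank (K := ZMod 2) (V := V)
    rw [hcard, Nat.card_zmod] at h1
    exact (Nat.pow_right_injective (a := 2) (by norm_num) h1).symm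
  have hcardι : Nat.card ↥(hs.extend (Set.subset_univ _)) = n + 1 := by
    rw [← Module.finrank_eq_nat_card_basis B, hfr]
  let i₀ : ↥(hs.extend (Set.subset_univ _)) := ⟨v, Basis.subset_extend hs (Set.mem_singleton v)⟩
  have hB0 : B i₀ = v := Basis.extend_apply_self hs i₀
  let σ₀ : ↥(hs.extend (Set.subset_univ _)) ≃ Fin (n + 1) := Finite.equivFinOfCardEq hcardι
  let σ : ↥(hs.extend (Set.subset_univ _)) ≃ Fin (n + 1) := σ₀.trans (Equiv.swap (σ₀ i₀) 0)
  have hσ : σ i₀ = 0 := by
    show Equiv.swap (σ₀ i₀) 0 (σ₀ i₀) = 0
    exact Equiv.swap_apply_left _ _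
  let B' := B.reindex σ
  have hB'0 : B' 0 = v := by
    show B.reindex σ 0 = v
    rw [Basis.reindex_apply, ← hσ, Equiv.symm_apply_apply, hB0]
  refine ⟨B'.equivFun, ?_⟩
  rw [← hB'0]
  ext j
  rw [Basis.equivFun_self, Pi.single_apply]
  by_cases h : j = 0
  · rw [if_pos h, if_pos h.symm]
  · rw [if_neg h, if_neg (Ne.symm h)]

/-- a finite group of exponent two and order `2 ^ (n + 1)` is isomorphic to the vector group
`(ZMod 2) ^ (n + 1)`, by an isomorphism sending a given non-identity element to the first basis
vector. -/
theorem exists_theta {n : ℕ} (U : Type*) [Group U] [Finite U]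
    (hcomm : ∀ x y : U, x * y = y * x) (hexp : ∀ x : U, x ^ 2 = 1)
    (hcard : Nat.card U = 2 ^ (n + 1)) (z : U) (hz : z ≠ 1) :
    ∃ θ : U ≃* Multiplicative (Fin (n + 1) → ZMod 2),
      θ z = Multiplicative.ofAdd (Pi.single 0 1) := by
  classical
  let _ : CommGroup U := { ‹Group U› with mul_comm := hcomm }
  let _ : Module (ZMod 2) (Additive U) := AddCommGroup.zmodModule (n := 2) (fun x => by
    change Additive.ofMul (x.toMul ^ 2) = 0
    rw [hexp]; rfl)
  have : Finite (Additive U) := ‹Finite U›
  have hc : Nat.card (Additive U) = 2 ^ (n + 1) := hcard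
  have hz0 : Additive.ofMul z ≠ 0 := fun h => hz (Additive.ofMul.injective h)
  obtain ⟨e, he⟩ := exists_coord (Additive U) hc (Additive.ofMul z) hz0
  refine ⟨{ toFun := fun u => Multiplicative.ofAdd (e (Additive.ofMul u))
            invFun := fun w => (e.symm (Multiplicative.toAdd w)).toMul
            left_inv := fun u => by
              show (e.symm (e (Additive.ofMul u))).toMul = u
              rw [LinearEquiv.symm_apply_apply]; rfl
            right_inv := fun w => by
              show Multiplicative.ofAdd (e (Additive.ofMul (e.symm (Multiplicative.toAdd w)).toMul))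
                = w
              rw [ofMul_toMul, LinearEquiv.apply_symm_apply]; rfl
            map_mul' := fun u v => by
              show Multiplicative.ofAdd (e (Additive.ofMul (u * v))) =
                Multiplicative.ofAdd (e (Additive.ofMul u)) *
                  Multiplicative.ofAdd (e (Additive.ofMul v))
              rw [ofMul_mul, map_add, ofAdd_add] }, ?_⟩
  show Multiplicative.ofAdd (e (Additive.ofMul z)) = _
  rw [he]

end Cfsg.Agent.Helper4.F2Coord
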