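import Mathlib
import Cfsg.Prelude
import Cfsg.Agent.S5421
import Cfsg.Agent.Helper9.Core
import Cfsg.Agent.Helper5.CharP2
import Cfsg.Agent.Helper3.ExtraCore

set_option autoImplicit false

/-!
Helper library (helper4): the centralizer of an involution that is the split extension of an
extraspecial group of order `2 ^ (2 n + 1)` by a group with trivial largest normal 2-subgroup:
the conclusions (extraspecial, large, complement) from data given element by element.  This is
the width-`n` version of `Cfsg.Agent.Helper9.C2A.Data`.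
-/

namespace Cfsg.Agent.Helper4.LxData

open Cfsg

/-- the data, element by element. -/
structure Data {G : Type*} [Group G] (n : ℕ) (z : G) (Q K E : Subgroup G) (b : G) : Prop where
  hn : 1 ≤ n
  hz : orderOf z = 2
  hQC : ∀ q ∈ Q, q * z = z * q
  hKC : ∀ k ∈ K, k * z = z * k
  hKQ : ∀ k ∈ K, ∀ q ∈ Q, k * q * k⁻¹ ∈ Q
  cardQ : Nat.card Q = 2 ^ (2 * n + 1)
  hQK : ∀ x ∈ Q, x ∈ K → x = 1
  decomp : ∀ c : G, c * z = z * c → ∃ q ∈ Q, ∃ k ∈ K, c = q * k
  zQ : z ∈ Q
  comm : ∀ x ∈ Q, ∀ y ∈ Q, x * y * x⁻¹ * y⁻¹ = 1 ∨ x * y * x⁻¹ * y⁻¹ = z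
  sq : ∀ x ∈ Q, x * x = 1 ∨ x * x = z
  cen : ∀ x ∈ Q, (∀ y ∈ Q, x * y = y * x) → x = 1 ∨ x = z
  coreK : ∀ N : Subgroup ↥K, N.Normal → IsPGroup 2 ↥N → N = ⊥
  hEQ : E ≤ Q
  zE : z ∈ E
  Ecomm : ∀ x ∈ E, ∀ y ∈ E, x * y = y * x
  Esq : ∀ x ∈ E, x * x = 1
  cardE : Nat.card E = 2 ^ (n + 1)
  bE : b ∈ E
  b1 : b ≠ 1
  bz : b ≠ z
  hbE : ∀ c : G, c * b = b * c → ∀ e ∈ E, c * e * c⁻¹ ∈ E
  faith : ∀ k ∈ K, k ≠ 1 → ∃ s ∈ Q, k * s * k⁻¹ ≠ s ∧ k * s * k⁻¹ ≠ z * s

namespace Data

variable {G : Type*} [Group G] {n : ℕ} {z : G} {Q K E : Subgroup G} {b : G}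

theorem mem_C {x : G} : x ∈ Subgroup.centralizer ({z} : Set G) ↔ x * z = z * x :=
  Subgroup.mem_centralizer_singleton_iff

section

variable (h : Data n z Q K E b)

include h

theorem Q_le : Q ≤ Subgroup.centralizer ({z} : Set G) := fun q hq => mem_C.mpr (h.hQC q hq)

theorem K_le : K ≤ Subgroup.centralizer ({z} : Set G) := fun q hq => mem_C.mpr (h.hKC q hq)

theorem z_ne_one : z ≠ 1 := by
  intro hz1
  have := h.hz
  rw [hz1, orderOf_one] at this
  omega

theorem z_sq : z * z = 1 := by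
  have := pow_orderOf_eq_one z
  rw [h.hz, pow_two] at this
  exact this

theorem decomp' :
    ∀ c ∈ Subgroup.centralizer ({z} : Set G), ∃ q ∈ Q, ∃ k ∈ K, c = q * k :=
  fun c hc => h.decomp c (mem_C.mp hc)

theorem normalQ :
    ∀ c ∈ Subgroup.centralizer ({z} : Set G), ∀ x ∈ Q, c * x * c⁻¹ ∈ Q := by
  intro c hc x hx
  obtain ⟨q, hq, k, hk, rfl⟩ := h.decomp' c hc
  have e : q * k * x * (q * k)⁻¹ = q * (k * x * k⁻¹) * q⁻¹ := by group
  rw [e]
  exact Q.mul_mem (Q.mul_mem hq (h.hKQ k hk x hx)) (Q.inv_mem hq)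

theorem C_le_normalizer :
    Subgroup.centralizer ({z} : Set G) ≤ Subgroup.normalizer (Q : Set G) := by
  intro c hc
  rw [Subgroup.mem_normalizer_iff]
  intro x
  constructor
  · exact h.normalQ c hc x
  · intro hx
    have := h.normalQ c⁻¹ (Subgroup.inv_mem _ hc) _ hx
    have e : c⁻¹ * (c * x * c⁻¹) * c⁻¹⁻¹ = x := by group
    rwa [e] at this

theorem Q_le_pCore :
    Q ≤ (pCore 2 ↥(Subgroup.centralizer ({z} : Set G))).map
      (Subgroup.centralizer ({z} : Set G)).subtype :=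
  Cfsg.Agent.Helper5.le_pCore_map_subtype _ Q h.Q_le (IsPGroup.of_card h.cardQ)
    h.C_le_normalizer

theorem pCore_eq [Finite G] :
    (pCore 2 ↥(Subgroup.centralizer ({z} : Set G))).map
      (Subgroup.centralizer ({z} : Set G)).subtype = Q := by
  have : Fact (Nat.Prime 2) := ⟨Nat.prime_two⟩
  apply le_antisymm
  · rintro _ ⟨y, hy, rfl⟩
    obtain ⟨q, hq, k, hk, e⟩ := h.decomp' y.1 y.2
    have hqR : (⟨q, h.Q_le hq⟩ : ↥(Subgroup.centralizer ({z} : Set G))) ∈
        pCore 2 ↥(Subgroup.centralizer ({z} : Set G)) := by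
      obtain ⟨y', hy', e'⟩ := h.Q_le_pCore hq
      have : y' = ⟨q, h.Q_le hq⟩ := Subtype.ext e'
      rw [← this]
      exact hy'
    have hkR : (⟨k, h.K_le hk⟩ : ↥(Subgroup.centralizer ({z} : Set G))) ∈
        pCore 2 ↥(Subgroup.centralizer ({z} : Set G)) := by
      have e2 : (⟨k, h.K_le hk⟩ : ↥(Subgroup.centralizer ({z} : Set G))) =
          (⟨q, h.Q_le hq⟩ : ↥(Subgroup.centralizer ({z} : Set G)))⁻¹ * y := by
        apply Subtype.ext
        show k = q⁻¹ * y.1
        rw [e]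
        group
      rw [e2]
      exact Subgroup.mul_mem _ (Subgroup.inv_mem _ hqR) hy
    have hnormal : (pCore 2 ↥(Subgroup.centralizer ({z} : Set G))).Normal :=
      Cfsg.Agent.Helper9.pCore_normal
    have hN : ((pCore 2 ↥(Subgroup.centralizer ({z} : Set G))).comap
        (Subgroup.inclusion h.K_le)).Normal := hnormal.comap _
    have hNp : IsPGroup 2 ↥((pCore 2 ↥(Subgroup.centralizer ({z} : Set G))).comap
        (Subgroup.inclusion h.K_le)) :=
      (Cfsg.Agent.Helper9.pCore_isPGroup).comap_of_injective _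
        (Subgroup.inclusion_injective h.K_le)
    have hkN : (⟨k, hk⟩ : ↥K) ∈ (pCore 2 ↥(Subgroup.centralizer ({z} : Set G))).comap
        (Subgroup.inclusion h.K_le) := hkR
    rw [h.coreK _ hN hNp, Subgroup.mem_bot] at hkN
    have hk1 : k = 1 := congrArg Subtype.val hkN
    show y.1 ∈ Q
    rw [e, hk1, mul_one]
    exact hq
  · exact h.Q_le_pCore

/-- the central element as an element of the subgroup. -/
theorem zq_central (g : ↥Q) : g * (⟨z, h.zQ⟩ : ↥Q) = ⟨z, h.zQ⟩ * g :=
  Subtype.ext (h.hQC g g.2)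

theorem mem_center_iff (x : ↥Q) : x ∈ Subgroup.center ↥Q ↔ x = 1 ∨ x = ⟨z, h.zQ⟩ := by
  rw [Subgroup.mem_center_iff]
  constructor
  · intro hx
    have := h.cen x x.2 (fun y hy => by
      have := congrArg Subtype.val (hx ⟨y, hy⟩)
      exact this.symm)
    rcases this with e | e
    · exact Or.inl (Subtype.ext e)
    · exact Or.inr (Subtype.ext e)
  · rintro (rfl | rfl)
    · intro g
      rw [mul_one, one_mul]
    · exact h.zq_central

theorem mem_ZQ_iff (x : G) : x ∈ (Subgroup.center ↥Q).map Q.subtype ↔ x = 1 ∨ x = z := by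
  constructor
  · rintro ⟨y, hy, rfl⟩
    rcases (h.mem_center_iff y).mp hy with e | e
    · left
      rw [e]
      rfl
    · right
      rw [e]
      rfl
  · rintro (rfl | rfl)
    · exact Subgroup.one_mem _
    · exact ⟨⟨x, h.zQ⟩, (h.mem_center_iff _).mpr (Or.inr rfl), rfl⟩

theorem extraspecial [Finite G] : IsExtraspecial 2 ↥Q := by
  have : Fact (Nat.Prime 2) := ⟨Nat.prime_two⟩
  have hIn : Cfsg.Agent.Helper3.Extra.InClass 2 ↥Q := by
    refine ⟨?_, ?_, ?_⟩
    · rw [Nat.card_eq_two_iff]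
      refine ⟨⟨1, Subgroup.one_mem _⟩, ⟨⟨z, h.zQ⟩, (h.mem_center_iff _).mpr (Or.inr rfl)⟩, ?_, ?_⟩
      · intro e
        have e1 := congrArg (fun x : ↥(Subgroup.center ↥Q) => ((x : ↥Q) : G)) e
        exact h.z_ne_one e1.symm
      · apply Set.eq_univ_of_forall
        intro x
        rcases (h.mem_center_iff x.1).mp x.2 with e | e
        · left
          exact Subtype.ext e
        · right
          exact Subtype.ext e
    · intro x y
      rw [h.mem_center_iff, commutatorElement_def]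
      rcases h.comm x x.2 y y.2 with e | e
      · left
        exact Subtype.ext e
      · right
        exact Subtype.ext e
    · intro x
      rw [h.mem_center_iff, pow_two]
      rcases h.sq x x.2 with e | e
      · left
        exact Subtype.ext e
      · right
        exact Subtype.ext e
  refine hIn.isExtraspecial ?_
  rw [h.cardQ]
  have h1 : 2 * n + 1 ≥ 3 := by have := h.hn; omega
  calc 2 < 2 ^ 3 := by norm_num
    _ ≤ 2 ^ (2 * n + 1) := Nat.pow_le_pow_right (by norm_num) h1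

theorem centralizer_Q :
    Subgroup.centralizer (Q : Set G) = (Subgroup.center ↥Q).map Q.subtype := by
  ext x
  rw [h.mem_ZQ_iff, Subgroup.mem_centralizer_iff]
  constructor
  · intro hx
    have hxC : x ∈ Subgroup.centralizer ({z} : Set G) := mem_C.mpr (hx z h.zQ).symm
    obtain ⟨q, hq, k, hk, rfl⟩ := h.decomp' x hxC
    have hk1 : k = 1 := by
      by_contra hne
      obtain ⟨s, hs, n1, n2⟩ := h.faith k hk hne
      have e1 : s * (q * k) = q * k * s := hx s hs
      have e2 : k * s * k⁻¹ = q⁻¹ * s * q := by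
        calc k * s * k⁻¹ = q⁻¹ * (q * k * s) * k⁻¹ := by group
          _ = q⁻¹ * (s * (q * k)) * k⁻¹ := by rw [e1]
          _ = q⁻¹ * s * q := by group
      rcases h.comm q⁻¹ (Q.inv_mem hq) s hs with e | e
      · apply n1
        rw [e2]
        have : q⁻¹ * s * q = (q⁻¹ * s * q⁻¹⁻¹ * s⁻¹) * s := by group
        rw [this, e, one_mul]
      · apply n2
        rw [e2]
        have : q⁻¹ * s * q = (q⁻¹ * s * q⁻¹⁻¹ * s⁻¹) * s := by group
        rw [this, e]
    rw [hk1, mul_one]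
    apply h.cen q hq
    intro y hy
    have := hx y hy
    rw [hk1, mul_one] at this
    exact this.symm
  · rintro (rfl | rfl)
    · intro s _
      rw [mul_one, one_mul]
    · intro s hs
      exact h.hQC s hs

theorem centralizer_ZQ_le :
    Subgroup.centralizer (((Subgroup.center ↥Q).map Q.subtype : Subgroup G) : Set G) ≤
      Subgroup.normalizer (Q : Set G) := by
  intro x hx
  apply h.C_le_normalizer
  rw [Subgroup.mem_centralizer_iff] at hx
  exact mem_C.mpr (hx z ((h.mem_ZQ_iff z).mpr (Or.inr rfl))).symm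

theorem b_sq : b * b = 1 := h.Esq b h.bE

theorem order_b : orderOf b = 2 := by
  have : Fact (Nat.Prime 2) := ⟨Nat.prime_two⟩
  apply orderOf_eq_prime
  · rw [pow_two]
    exact h.b_sq
  · exact h.b1

theorem ZQ_le_pCore : (Subgroup.center ↥Q).map Q.subtype ≤
    (pCore 2 ↥(Subgroup.centralizer ({b} : Set G))).map
      (Subgroup.centralizer ({b} : Set G)).subtype := by
  have hE : E ≤ (pCore 2 ↥(Subgroup.centralizer ({b} : Set G))).map
      (Subgroup.centralizer ({b} : Set G)).subtype := by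
    apply Cfsg.Agent.Helper5.le_pCore_map_subtype _ E ?_ (IsPGroup.of_card h.cardE) ?_
    · intro e he
      rw [Subgroup.mem_centralizer_singleton_iff]
      exact h.Ecomm e he b h.bE
    · intro c hc
      rw [Subgroup.mem_centralizer_singleton_iff] at hc
      have hc' : c⁻¹ * b = b * c⁻¹ := by
        have := congrArg (fun x => c⁻¹ * x * c⁻¹) hc
        simp only [mul_assoc, inv_mul_cancel_left, mul_inv_cancel, mul_one] at this
        exact this.symm
      rw [Subgroup.mem_normalizer_iff]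
      intro x
      constructor
      · exact h.hbE c hc x
      · intro hx
        have := h.hbE c⁻¹ hc' _ hx
        have e : c⁻¹ * (c * x * c⁻¹) * c⁻¹⁻¹ = x := by group
        rwa [e] at this
  intro x hx
  rcases (h.mem_ZQ_iff x).mp hx with rfl | rfl
  · exact Subgroup.one_mem _
  · exact hE h.zE

theorem large [Finite G] : IsLargeExtraspecial Q := by
  apply Cfsg.Agent.S5421.result Q h.extraspecial h.centralizer_Q h.centralizer_ZQ_le b
    (h.hEQ h.bE) ?_ h.order_b h.ZQ_le_pCore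
  rw [h.mem_ZQ_iff]
  rintro (e | e)
  · exact h.b1 e
  · exact h.bz e

theorem sup_eq : Q ⊔ K = Subgroup.centralizer ({z} : Set G) := by
  apply le_antisymm
  · exact sup_le h.Q_le h.K_le
  · intro c hc
    obtain ⟨q, hq, k, hk, rfl⟩ := h.decomp' c hc
    exact Subgroup.mul_mem _ (Subgroup.mem_sup_left hq) (Subgroup.mem_sup_right hk)

theorem inf_eq : Q ⊓ K = ⊥ := by
  rw [eq_bot_iff]
  intro x hx
  rw [Subgroup.mem_bot]
  exact h.hQK x hx.1 hx.2

theorem elemAb : IsElementaryAbelian 2 E := by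
  refine ⟨⟨⟨fun a b => Subtype.ext (h.Ecomm a a.2 b b.2)⟩⟩, ?_⟩
  intro a ha
  rw [pow_two]
  exact h.Esq a ha

/-- the conclusions. -/
theorem main [Finite G] {X : Type*} [Group X] (isoK : Nonempty (↥K ≃* X)) (Q' : Subgroup G)
    (hQ' : Q' = (pCore 2 ↥(Subgroup.centralizer ({z} : Set G))).map
      (Subgroup.centralizer ({z} : Set G)).subtype) :
    IsExtraspecial 2 ↥Q' ∧ Nat.card ↥Q' = 2 ^ (2 * n + 1) ∧
      (∃ E : Subgroup G, E ≤ Q' ∧ IsElementaryAbelian 2 E ∧ Nat.card ↥E = 2 ^ (n + 1)) ∧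
      IsLargeExtraspecial Q' ∧
      ∃ K : Subgroup G, K ≤ Subgroup.centralizer ({z} : Set G) ∧ Q' ⊓ K = ⊥ ∧
        Q' ⊔ K = Subgroup.centralizer ({z} : Set G) ∧ Nonempty (↥K ≃* X) := by
  rw [h.pCore_eq] at hQ'
  subst hQ'
  exact ⟨h.extraspecial, h.cardQ, ⟨E, h.hEQ, h.elemAb, h.cardE⟩, h.large,
    ⟨K, h.K_le, h.inf_eq, h.sup_eq, isoK⟩⟩

end

end Data

end Cfsg.Agent.Helper4.LxData
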