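import Mathlib

set_option autoImplicit false

/-!
Helper library (helper4): `SL(n, 2)` has no non-trivial normal 2-subgroup (a normal 2-subgroup
fixes a non-zero vector, the fixed vectors form an invariant subspace, and the transvections move
any non-zero vector to a spanning set).
-/

namespace Cfsg.Agent.Helper4.SL2Core

open Matrix

variable {n : ℕ}

local notation "SLn" => Matrix.SpecialLinearGroup (Fin n) (ZMod 2)
local notation "Mn" => Matrix (Fin n) (Fin n) (ZMod 2)

theorem z2_add_self' (x : ZMod 2) : x + x = 0 := by revert x; decide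

theorem z2_aux1 : ∀ x y : ZMod 2, x + y + x = y := by decide

theorem z2_aux2 : ∀ x : ZMod 2, x ≠ 1 → x = 0 := by decide

/-- the transvection `1 + E_{ik}` as an element of `SL`. -/
def tv (i k : Fin n) (hik : i ≠ k) : SLn :=
  ⟨Matrix.transvection i k 1, Matrix.det_transvection_of_ne i k hik 1⟩

theorem tv_mulVec (i k : Fin n) (hik : i ≠ k) (v : Fin n → ZMod 2) :
    ((tv i k hik : SLn) : Mn) *ᵥ v = v + Pi.single i (v k) := by
  show (Matrix.transvection i k (1 : ZMod 2)) *ᵥ v = _
  rw [Matrix.transvection, Matrix.add_mulVec, Matrix.one_mulVec, Matrix.single_mulVec, one_mul]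
  rfl

theorem eq_one_of_fix (g : SLn) (h : ∀ j, (g : Mn) *ᵥ Pi.single j 1 = Pi.single j 1) : g = 1 := by
  apply Subtype.ext
  rw [Matrix.SpecialLinearGroup.coe_one]
  ext i j
  have := congrFun (h j) i
  rw [Matrix.mulVec_single_one] at this
  rw [Matrix.one_apply]
  simpa [Pi.single_apply, eq_comm] using this

/-- `O_2(SL(n,2)) = 1`. -/
theorem coreSL (N : Subgroup SLn) (hN : N.Normal) (hp : IsPGroup 2 ↥N) : N = ⊥ := by
  have : Fact (Nat.Prime 2) := ⟨Nat.prime_two⟩
  rcases Nat.eq_zero_or_pos n with h0 | hpos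
  · subst h0
    have : Subsingleton (Matrix.SpecialLinearGroup (Fin 0) (ZMod 2)) :=
      ⟨fun A B => Subtype.ext (Subsingleton.elim _ _)⟩
    exact Subsingleton.elim _ _
  -- the action on vectors
  let act : MulAction ↥N (Fin n → ZMod 2) :=
    { smul := fun g v => ((g : SLn) : Mn) *ᵥ v
      one_smul := fun v => by
        show (((1 : ↥N) : SLn) : Mn) *ᵥ v = v
        rw [Subgroup.coe_one, Matrix.SpecialLinearGroup.coe_one, Matrix.one_mulVec]
      mul_smul := fun g h v => by
        show (((g * h : ↥N) : SLn) : Mn) *ᵥ v = ((g : SLn) : Mn) *ᵥ (((h : SLn) : Mn) *ᵥ v)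
        rw [Subgroup.coe_mul, Matrix.SpecialLinearGroup.coe_mul, Matrix.mulVec_mulVec] }
  have hsmul : ∀ (g : ↥N) (v : Fin n → ZMod 2), g • v = ((g : SLn) : Mn) *ᵥ v := fun _ _ => rfl
  have hmod := hp.card_modEq_card_fixedPoints (Fin n → ZMod 2)
  have hcardV : Nat.card (Fin n → ZMod 2) = 2 ^ n := by
    rw [Nat.card_fun, Nat.card_zmod, Nat.card_fin]
  have heven : 2 ∣ Nat.card ↥(MulAction.fixedPoints ↥N (Fin n → ZMod 2)) := by
    have h2 : 2 ∣ Nat.card (Fin n → ZMod 2) := by
      rw [hcardV]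
      exact dvd_pow_self 2 hpos.ne'
    exact (Nat.modEq_zero_iff_dvd.mp ((hmod.symm).trans (Nat.modEq_zero_iff_dvd.mpr h2)))
  have hposF : 0 < Nat.card ↥(MulAction.fixedPoints ↥N (Fin n → ZMod 2)) := by
    have : Nonempty ↥(MulAction.fixedPoints ↥N (Fin n → ZMod 2)) :=
      ⟨⟨0, fun g => by rw [hsmul, Matrix.mulVec_zero]⟩⟩
    exact Nat.card_pos
  have h1lt : 1 < Nat.card ↥(MulAction.fixedPoints ↥N (Fin n → ZMod 2)) := by
    obtain ⟨m, hm⟩ := heven
    omega
  have hnt := Finite.one_lt_card_iff_nontrivial.mp h1lt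
  obtain ⟨⟨v, hv⟩, hv0⟩ := exists_ne (⟨0, fun g => by rw [hsmul, Matrix.mulVec_zero]⟩ :
    ↥(MulAction.fixedPoints ↥N (Fin n → ZMod 2)))
  have hv0' : v ≠ 0 := fun h => hv0 (Subtype.ext h)
  -- the set of fixed vectors
  let W : Set (Fin n → ZMod 2) := {w | ∀ g ∈ N, ((g : SLn) : Mn) *ᵥ w = w}
  have hvW : v ∈ W := fun g hg => hv ⟨g, hg⟩
  have hWadd : ∀ u w, u ∈ W → w ∈ W → u + w ∈ W := by
    intro u w hu hw g hg
    rw [Matrix.mulVec_add, hu g hg, hw g hg]
  have hWact : ∀ (t : SLn) w, w ∈ W → (t : Mn) *ᵥ w ∈ W := by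
    intro t w hw g hg
    have hconj : t⁻¹ * g * t ∈ N := by
      have := hN.conj_mem g hg t⁻¹
      rwa [inv_inv] at this
    have h1 := hw _ hconj
    have h2 : g * t = t * (t⁻¹ * g * t) := by group
    rw [Matrix.mulVec_mulVec, ← Matrix.SpecialLinearGroup.coe_mul, h2,
      Matrix.SpecialLinearGroup.coe_mul, ← Matrix.mulVec_mulVec, h1]
  -- from a fixed vector with `k`-th coordinate `1` to the basis vectors
  have hstep : ∀ (w : Fin n → ZMod 2) (k i : Fin n), w ∈ W → w k = 1 → i ≠ k →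
      (Pi.single i 1 : Fin n → ZMod 2) ∈ W := by
    intro w k i hw hk hik
    have h1 := hWact (tv i k hik) w hw
    rw [tv_mulVec, hk] at h1
    have h2 := hWadd _ _ h1 hw
    have h3 : w + Pi.single i 1 + w = (Pi.single i 1 : Fin n → ZMod 2) := by
      funext j
      simp only [Pi.add_apply]
      exact z2_aux1 _ _
    rwa [h3] at h2
  obtain ⟨k, hk⟩ : ∃ k, v k = 1 := by
    by_contra hcon
    push Not at hcon
    apply hv0'
    funext j
    exact z2_aux2 _ (hcon j)
  have hbasis : ∀ j, (Pi.single j 1 : Fin n → ZMod 2) ∈ W := by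
    intro j
    by_cases hjk : j = k
    · subst hjk
      by_cases hex : ∃ i, i ≠ j
      · obtain ⟨i, hi⟩ := hex
        have h1 := hstep v j i hvW hk hi
        exact hstep _ i j h1 (by simp) (Ne.symm hi)
      · push Not at hex
        have : v = Pi.single j 1 := by
          funext i
          rw [hex i, hk, Pi.single_eq_same]
        rw [← this]
        exact hvW
    · exact hstep v k j hvW hk hjk
  rw [eq_bot_iff]
  intro g hg
  rw [Subgroup.mem_bot]
  exact eq_one_of_fix g (fun j => hbasis j g hg)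

/-- transport along an isomorphism. -/
theorem core_transport {H X : Type*} [Group H] [Group X] (e : H ≃* X)
    (hX : ∀ N : Subgroup X, N.Normal → IsPGroup 2 ↥N → N = ⊥) :
    ∀ N : Subgroup H, N.Normal → IsPGroup 2 ↥N → N = ⊥ := by
  intro N hN hp
  have h1 := hX (N.map e.toMonoidHom) (hN.map _ e.surjective) (hp.map _)
  exact (Subgroup.map_eq_bot_iff_of_injective N e.injective).mp h1

end Cfsg.Agent.Helper4.SL2Core
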