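import Mathlib
import Cfsg.Agent.Helper4.LxData
import Cfsg.Agent.Helper4.SL2Core

set_option autoImplicit false

/-!
Helper library (helper4): the data `LxData.Data` pulls back along an injective homomorphism whose
range contains the subgroups `Q` and `K`.
-/

namespace Cfsg.Agent.Helper4.LxData

open Cfsg

/-- the pull-back of a subgroup contained in the range of an injective homomorphism is isomorphic
to the subgroup. -/
noncomputable def comapEquiv {G H : Type*} [Group G] [Group H] (ψ : G →* H)
    (hψ : Function.Injective ψ) (X : Subgroup H) (hX : X ≤ ψ.range) : ↥(X.comap ψ) ≃* ↥X :=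
  MulEquiv.ofBijective (ψ.subgroupComap X) (by
    constructor
    · intro a b h
      apply Subtype.ext
      apply hψ
      exact congrArg Subtype.val h
    · rintro ⟨x, hx⟩
      obtain ⟨g, rfl⟩ := hX hx
      exact ⟨⟨g, hx⟩, rfl⟩)

theorem card_comap {G H : Type*} [Group G] [Group H] (ψ : G →* H)
    (hψ : Function.Injective ψ) (X : Subgroup H) (hX : X ≤ ψ.range) :
    Nat.card ↥(X.comap ψ) = Nat.card ↥X :=
  Nat.card_congr (comapEquiv ψ hψ X hX).toEquiv

theorem Data.comap {G H : Type*} [Group G] [Group H] (ψ : G →* H) (hψ : Function.Injective ψ)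
    {n : ℕ} {z b : G} {Q' K' E' : Subgroup H} (h : Data n (ψ z) Q' K' E' (ψ b))
    (hQ : Q' ≤ ψ.range) (hK : K' ≤ ψ.range) :
    Data n z (Q'.comap ψ) (K'.comap ψ) (E'.comap ψ) b where
  hn := h.hn
  hz := by rw [← orderOf_injective ψ hψ z]; exact h.hz
  hQC := by
    intro q hq
    apply hψ
    rw [map_mul, map_mul]
    exact h.hQC _ hq
  hKC := by
    intro k hk
    apply hψ
    rw [map_mul, map_mul]
    exact h.hKC _ hk
  hKQ := by
    intro k hk q hq
    show ψ (k * q * k⁻¹) ∈ Q'
    rw [map_mul, map_mul, map_inv]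
    exact h.hKQ _ hk _ hq
  cardQ := by rw [card_comap ψ hψ Q' hQ]; exact h.cardQ
  hQK := by
    intro x hx hx'
    apply hψ
    rw [map_one]
    exact h.hQK _ hx hx'
  decomp := by
    intro c hc
    have hc' : ψ c * ψ z = ψ z * ψ c := by rw [← map_mul, ← map_mul, hc]
    obtain ⟨q', hq', k', hk', e⟩ := h.decomp _ hc'
    obtain ⟨q, rfl⟩ := hQ hq'
    obtain ⟨k, rfl⟩ := hK hk'
    refine ⟨q, hq', k, hk', ?_⟩
    apply hψ
    rw [e, map_mul]
  zQ := h.zQ
  comm := by
    intro x hx y hy
    rcases h.comm _ hx _ hy with e | e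
    · left
      apply hψ
      rw [map_mul, map_mul, map_mul, map_inv, map_inv, map_one]
      exact e
    · right
      apply hψ
      rw [map_mul, map_mul, map_mul, map_inv, map_inv]
      exact e
  sq := by
    intro x hx
    rcases h.sq _ hx with e | e
    · left
      apply hψ
      rw [map_mul, map_one]
      exact e
    · right
      apply hψ
      rw [map_mul]
      exact e
  cen := by
    intro x hx hc
    have : ∀ y' ∈ Q', ψ x * y' = y' * ψ x := by
      intro y' hy'
      obtain ⟨y, rfl⟩ := hQ hy'
      rw [← map_mul, ← map_mul, hc y hy']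
    rcases h.cen _ hx this with e | e
    · left
      apply hψ
      rw [map_one]
      exact e
    · right
      exact hψ e
  coreK := SL2Core.core_transport (comapEquiv ψ hψ K' hK) h.coreK
  hEQ := Subgroup.comap_mono h.hEQ
  zE := h.zE
  Ecomm := by
    intro x hx y hy
    apply hψ
    rw [map_mul, map_mul]
    exact h.Ecomm _ hx _ hy
  Esq := by
    intro x hx
    apply hψ
    rw [map_mul, map_one]
    exact h.Esq _ hx
  cardE := by rw [card_comap ψ hψ E' (h.hEQ.trans hQ)]; exact h.cardE
  bE := h.bE
  b1 := by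
    intro e
    apply h.b1
    rw [e, map_one]
  bz := by
    intro e
    apply h.bz
    rw [e]
  hbE := by
    intro c hc e he
    show ψ (c * e * c⁻¹) ∈ E'
    rw [map_mul, map_mul, map_inv]
    apply h.hbE
    · rw [← map_mul, ← map_mul, hc]
    · exact he
  faith := by
    intro k hk hk1
    have hk1' : ψ k ≠ 1 := by
      intro e
      apply hk1
      apply hψ
      rw [e, map_one]
    obtain ⟨s', hs', n1, n2⟩ := h.faith _ hk hk1'
    obtain ⟨s, rfl⟩ := hQ hs'
    refine ⟨s, hs', ?_, ?_⟩
    · intro e
      apply n1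
      rw [← map_inv, ← map_mul, ← map_mul, e]
    · intro e
      apply n2
      rw [← map_inv, ← map_mul, ← map_mul, e, map_mul]

end Cfsg.Agent.Helper4.LxData
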