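import Mathlib

set_option autoImplicit false

/-!
Helper library (helper4): two split extensions `U ⋊ M`, `U' ⋊ M'` of a normal subgroup by a
complement acting faithfully and realising every automorphism are isomorphic by an isomorphism
extending any given isomorphism `U ≃* U'`.
-/

namespace Cfsg.Agent.Helper4.HolIso

/-- the subgroup `M` normalises `U`, acts faithfully on it and realises every automorphism of
`U`. -/
structure Act {G : Type*} [Group G] (U M : Subgroup G) : Prop where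
  norm : ∀ m ∈ M, ∀ u ∈ U, m * u * m⁻¹ ∈ U
  faith : ∀ m ∈ M, (∀ u ∈ U, m * u * m⁻¹ = u) → m = 1
  full : ∀ φ : ↥U ≃* ↥U, ∃ m ∈ M, ∀ u : ↥U, ((φ u : ↥U) : G) = m * u * m⁻¹

/-- `G` is the split extension of the normal subgroup `U` by the complement `M`, which acts
faithfully on `U` and realises every automorphism of `U`. -/
structure Hol {G : Type*} [Group G] (U M : Subgroup G) : Prop where
  normal : U.Normal
  inf : U ⊓ M = ⊥
  sup : U ⊔ M = ⊤
  faith : ∀ m ∈ M, (∀ u ∈ U, m * u * m⁻¹ = u) → m = 1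
  full : ∀ φ : ↥U ≃* ↥U, ∃ m ∈ M, ∀ u : ↥U, ((φ u : ↥U) : G) = m * u * m⁻¹

/-- an element of `M` is determined by its action on `U`. -/
theorem Act.eq_of_conj {G : Type*} [Group G] {U M : Subgroup G} (h : Act U M) {m m' : G}
    (hm : m ∈ M) (hm' : m' ∈ M)
    (e : ∀ u ∈ U, m * u * m⁻¹ = m' * u * m'⁻¹) : m = m' := by
  have h1 : m'⁻¹ * m = 1 := by
    apply h.faith _ (M.mul_mem (M.inv_mem hm') hm)
    intro u hu
    have := e u hu
    calc m'⁻¹ * m * u * (m'⁻¹ * m)⁻¹ = m'⁻¹ * (m * u * m⁻¹) * m' := by group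
      _ = m'⁻¹ * (m' * u * m'⁻¹) * m' := by rw [this]
      _ = u := by group
  have := congrArg (fun x => m' * x) h1
  simpa using this

theorem Hol.toAct {G : Type*} [Group G] {U M : Subgroup G} (h : Hol U M) : Act U M :=
  ⟨fun m _ u hu => h.normal.conj_mem u hu m, h.faith, h.full⟩

namespace Hol

variable {G : Type*} [Group G] {U M : Subgroup G}

theorem exists_decomp (h : Hol U M) (g : G) : ∃ u ∈ U, ∃ m ∈ M, g = u * m := by
  have := h.normal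
  have hg : g ∈ U ⊔ M := by rw [h.sup]; exact Subgroup.mem_top g
  rw [← SetLike.mem_coe, Subgroup.normal_mul] at hg
  obtain ⟨u, hu, m, hm, rfl⟩ := Set.mem_mul.mp hg
  exact ⟨u, hu, m, hm, rfl⟩

theorem decomp_unique (h : Hol U M) {u u' m m' : G} (hu : u ∈ U) (hu' : u' ∈ U) (hm : m ∈ M)
    (hm' : m' ∈ M) (e : u * m = u' * m') : u = u' ∧ m = m' := by
  have e1 : u'⁻¹ * u = m' * m⁻¹ := by
    calc u'⁻¹ * u = u'⁻¹ * (u * m) * m⁻¹ := by group
      _ = u'⁻¹ * (u' * m') * m⁻¹ := by rw [e]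
      _ = m' * m⁻¹ := by group
  have e2 : u'⁻¹ * u ∈ U ⊓ M :=
    ⟨U.mul_mem (U.inv_mem hu') hu, e1 ▸ M.mul_mem hm' (M.inv_mem hm)⟩
  rw [h.inf, Subgroup.mem_bot] at e2
  have e3 : u = u' := by
    have := congrArg (fun x => u' * x) e2
    simpa using this
  refine ⟨e3, ?_⟩
  rw [e2] at e1
  have := congrArg (fun x => x * m) e1
  simpa using this

end Hol

section iso

variable {G G' : Type*} [Group G] [Group G'] {U M : Subgroup G} {U' M' : Subgroup G'}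

/-- the element of `M'` inducing on `U'` the transport of conjugation by `m`. -/
theorem exists_mu [U.Normal] (h' : Act U' M') (θ : ↥U ≃* ↥U') (m : G) :
    ∃ m' ∈ M', ∀ u : ↥U, ((θ u : ↥U') : G') * 1 = ((θ u : ↥U') : G') ∧
      m' * ((θ u : ↥U') : G') * m'⁻¹ = ((θ (MulAut.conjNormal m u) : ↥U') : G') := by
  obtain ⟨m', hm', hspec⟩ := h'.full (θ.symm.trans ((MulAut.conjNormal m : MulAut ↥U).trans θ))
  refine ⟨m', hm', fun u => ⟨mul_one _, ?_⟩⟩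
  have := hspec (θ u)
  rw [← this]
  simp

/-- the homomorphism extending `θ`. -/
theorem exists_hom (h : Hol U M) (h' : Act U' M') (θ : ↥U ≃* ↥U') :
    ∃ Φ : G →* G', (∀ u : ↥U, Φ (u : G) = ((θ u : ↥U') : G')) ∧ (∀ m ∈ M, Φ m ∈ M') ∧
      (∀ m ∈ M, ∀ u v : ↥U, (v : G) = m * u * m⁻¹ →
        Φ m * ((θ u : ↥U') : G') * (Φ m)⁻¹ = ((θ v : ↥U') : G')) := by
  classical
  have := h.normal
  -- the map on `M`
  choose μ hμM hμ using fun m : G => exists_mu (U := U) h' θ m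
  have hμ' : ∀ (m : G) (u : ↥U), μ m * ((θ u : ↥U') : G') * (μ m)⁻¹ =
      ((θ (MulAut.conjNormal m u) : ↥U') : G') := fun m u => (hμ m u).2
  have hμ'' : ∀ (m : G) (x : G') (hx : x ∈ U'), μ m * x * (μ m)⁻¹ =
      ((θ (MulAut.conjNormal m (θ.symm ⟨x, hx⟩)) : ↥U') : G') := by
    intro m x hx
    have := hμ' m (θ.symm ⟨x, hx⟩)
    rwa [MulEquiv.apply_symm_apply] at this
  have hμmul : ∀ m₁ m₂ : G, μ (m₁ * m₂) = μ m₁ * μ m₂ := by
    intro m₁ m₂
    apply h'.eq_of_conj (hμM _) (M'.mul_mem (hμM _) (hμM _))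
    intro x hx
    rw [hμ'' _ x hx]
    have e1 : μ m₁ * μ m₂ * x * (μ m₁ * μ m₂)⁻¹ = μ m₁ * (μ m₂ * x * (μ m₂)⁻¹) * (μ m₁)⁻¹ := by
      group
    rw [e1, hμ'' m₂ x hx, hμ' m₁, map_mul, MulAut.mul_apply]
  have hμ1 : μ 1 = 1 := by
    have := hμmul 1 1
    rw [mul_one] at this
    exact left_eq_mul.mp this
  -- the decomposition
  choose uP huP mP hmP hdec using h.exists_decomp
  have hun : ∀ (u m : G), u ∈ U → m ∈ M → uP (u * m) = u ∧ mP (u * m) = m := by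
    intro u m hu hm
    exact h.decomp_unique (huP (u * m)) hu (hmP (u * m)) hm (hdec (u * m)).symm
  have hmul : ∀ g₁ g₂ : G, uP (g₁ * g₂) = uP g₁ * (mP g₁ * uP g₂ * (mP g₁)⁻¹) ∧
      mP (g₁ * g₂) = mP g₁ * mP g₂ := by
    intro g₁ g₂
    have e : g₁ * g₂ = (uP g₁ * (mP g₁ * uP g₂ * (mP g₁)⁻¹)) * (mP g₁ * mP g₂) := by
      conv_lhs => rw [hdec g₁, hdec g₂]
      group
    have := hun (uP g₁ * (mP g₁ * uP g₂ * (mP g₁)⁻¹)) (mP g₁ * mP g₂)
      (U.mul_mem (huP g₁) (h.normal.conj_mem _ (huP g₂) (mP g₁)))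
      (M.mul_mem (hmP g₁) (hmP g₂))
    rw [← e] at this
    exact this
  let Φ : G →* G' :=
    { toFun := fun g => ((θ ⟨uP g, huP g⟩ : ↥U') : G') * μ (mP g)
      map_one' := by
        have h1 := hun 1 1 U.one_mem M.one_mem
        rw [mul_one] at h1
        have e1 : (⟨uP 1, huP 1⟩ : ↥U) = 1 := Subtype.ext h1.1
        show ((θ ⟨uP 1, huP 1⟩ : ↥U') : G') * μ (mP 1) = 1
        rw [e1, map_one, h1.2, hμ1, Subgroup.coe_one, mul_one]
      map_mul' := by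
        intro g₁ g₂
        obtain ⟨e1, e2⟩ := hmul g₁ g₂
        show ((θ ⟨uP (g₁ * g₂), huP (g₁ * g₂)⟩ : ↥U') : G') * μ (mP (g₁ * g₂)) =
          ((θ ⟨uP g₁, huP g₁⟩ : ↥U') : G') * μ (mP g₁) *
            (((θ ⟨uP g₂, huP g₂⟩ : ↥U') : G') * μ (mP g₂))
        have e3 : (⟨uP (g₁ * g₂), huP (g₁ * g₂)⟩ : ↥U) =
            ⟨uP g₁, huP g₁⟩ * MulAut.conjNormal (mP g₁) ⟨uP g₂, huP g₂⟩ := by
          apply Subtype.ext
          rw [Subgroup.coe_mul, MulAut.conjNormal_apply]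
          exact e1
        rw [e3, map_mul, Subgroup.coe_mul, ← hμ' (mP g₁), e2, hμmul]
        group }
  have hΦU : ∀ u : ↥U, Φ (u : G) = ((θ u : ↥U') : G') := by
    intro u
    have h1 := hun u 1 u.2 M.one_mem
    rw [mul_one] at h1
    show ((θ ⟨uP u, huP u⟩ : ↥U') : G') * μ (mP u) = _
    have e1 : (⟨uP u, huP u⟩ : ↥U) = u := Subtype.ext h1.1
    rw [e1, h1.2, hμ1, mul_one]
  have hΦM : ∀ m ∈ M, Φ m = μ m := by
    intro m hm
    have h1 := hun 1 m U.one_mem hm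
    rw [one_mul] at h1
    show ((θ ⟨uP m, huP m⟩ : ↥U') : G') * μ (mP m) = _
    have e1 : (⟨uP m, huP m⟩ : ↥U) = 1 := Subtype.ext h1.1
    rw [e1, map_one, h1.2, Subgroup.coe_one, one_mul]
  refine ⟨Φ, hΦU, fun m hm => ?_, fun m hm u v hv => ?_⟩
  · rw [hΦM m hm]
    exact hμM m
  · rw [hΦM m hm, hμ' m u]
    congr 2
    apply Subtype.ext
    rw [MulAut.conjNormal_apply, hv]

/-- conjugation by an element normalising `U'`, as an automorphism of `U'`. -/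
def conjAut {H : Type*} [Group H] (U' : Subgroup H) (m : H)
    (hm : ∀ u ∈ U', m * u * m⁻¹ ∈ U') (hm' : ∀ u ∈ U', m⁻¹ * u * m⁻¹⁻¹ ∈ U') : ↥U' ≃* ↥U' where
  toFun u := ⟨m * u * m⁻¹, hm u u.2⟩
  invFun u := ⟨m⁻¹ * u * m⁻¹⁻¹, hm' u u.2⟩
  left_inv u := by
    apply Subtype.ext
    show m⁻¹ * (m * u * m⁻¹) * m⁻¹⁻¹ = u
    group
  right_inv u := by
    apply Subtype.ext
    show m * (m⁻¹ * u * m⁻¹⁻¹) * m⁻¹ = u
    group
  map_mul' u v := by
    apply Subtype.ext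
    show m * (u * v) * m⁻¹ = m * u * m⁻¹ * (m * v * m⁻¹)
    group

/-- the embedding extending `θ`. -/
theorem exists_emb (h : Hol U M) (h' : Act U' M') (hinf' : U' ⊓ M' = ⊥) (θ : ↥U ≃* ↥U') :
    ∃ Φ : G →* G', Function.Injective Φ ∧ (∀ u : ↥U, Φ (u : G) = ((θ u : ↥U') : G')) ∧
      U' ≤ Φ.range ∧ M' ≤ Φ.range := by
  obtain ⟨Φ, hΦU, hΦM, hΦc⟩ := exists_hom h h' θ
  refine ⟨Φ, ?_, hΦU, ?_, ?_⟩
  · rw [injective_iff_map_eq_one]
    intro g hg
    obtain ⟨u, hu, m, hm, rfl⟩ := h.exists_decomp g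
    rw [map_mul] at hg
    have e1 : Φ u = (Φ m)⁻¹ := eq_inv_of_mul_eq_one_left hg
    have e2 : Φ u ∈ U' ⊓ M' := by
      refine ⟨?_, ?_⟩
      · rw [hΦU ⟨u, hu⟩]
        exact (θ ⟨u, hu⟩).2
      · rw [e1]
        exact M'.inv_mem (hΦM m hm)
    rw [hinf', Subgroup.mem_bot] at e2
    have hu1 : u = 1 := by
      have e3 : ((θ ⟨u, hu⟩ : ↥U') : G') = 1 := by rw [← hΦU ⟨u, hu⟩]; exact e2
      have e4 : θ ⟨u, hu⟩ = 1 := Subtype.ext e3
      have e5 : (⟨u, hu⟩ : ↥U) = 1 := by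
        rw [← θ.symm_apply_apply ⟨u, hu⟩, e4, map_one]
      exact congrArg Subtype.val e5
    have hΦm : Φ m = 1 := by
      rw [e2] at e1
      have := congrArg (fun x => x⁻¹) e1
      simpa using this.symm
    have hm1 : m = 1 := by
      apply h.faith m hm
      intro x hx
      have hw : m * x * m⁻¹ ∈ U := h.normal.conj_mem x hx m
      have h3 := hΦc m hm ⟨x, hx⟩ ⟨m * x * m⁻¹, hw⟩ rfl
      rw [hΦm, one_mul, inv_one, mul_one] at h3
      have h4 : θ ⟨x, hx⟩ = θ ⟨m * x * m⁻¹, hw⟩ := Subtype.ext h3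
      have h5 := θ.injective h4
      exact (congrArg Subtype.val h5).symm
    rw [hu1, hm1, mul_one]
  · intro x hx
    refine ⟨(θ.symm ⟨x, hx⟩ : ↥U), ?_⟩
    rw [hΦU, MulEquiv.apply_symm_apply]
  · intro m' hm'
    have hn1 := h'.norm m' hm'
    have hn2 := h'.norm m'⁻¹ (M'.inv_mem hm')
    obtain ⟨m, hm, hspec⟩ := h.full ((θ.trans (conjAut U' m' hn1 hn2)).trans θ.symm)
    refine ⟨m, ?_⟩
    apply h'.eq_of_conj (hΦM m hm) hm'
    intro x hx
    have hw : m * (θ.symm ⟨x, hx⟩ : ↥U) * m⁻¹ ∈ U :=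
      h.normal.conj_mem _ (θ.symm ⟨x, hx⟩ : ↥U).2 m
    have h3 := hΦc m hm (θ.symm ⟨x, hx⟩) ⟨_, hw⟩ rfl
    rw [MulEquiv.apply_symm_apply] at h3
    rw [h3]
    have h4 := hspec (θ.symm ⟨x, hx⟩)
    have h5 : (⟨m * (θ.symm ⟨x, hx⟩ : ↥U) * m⁻¹, hw⟩ : ↥U) =
        ((θ.trans (conjAut U' m' hn1 hn2)).trans θ.symm) (θ.symm ⟨x, hx⟩) :=
      Subtype.ext h4.symm
    rw [h5]
    simp [conjAut]

end iso

end Cfsg.Agent.Helper4.HolIso
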