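import Mathlib

set_option autoImplicit false

namespace Cfsg.Agent.Helper4.TransvC

open Matrix

variable {n : ℕ}

/-- a function on `Fin (n + 2)` from its values at `0`, `1` and at `k + 2`. -/
def c3 {α : Type*} (x y : α) (v : Fin n → α) : Fin (n + 2) → α :=
  Fin.cons x (Fin.cons y v)

@[simp] theorem c3_zero {α : Type*} (x y : α) (v : Fin n → α) : c3 x y v 0 = x := rfl

@[simp] theorem c3_one {α : Type*} (x y : α) (v : Fin n → α) : c3 x y v 1 = y := rfl

@[simp] theorem c3_ss {α : Type*} (x y : α) (v : Fin n → α) (k : Fin n) :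
    c3 x y v k.succ.succ = v k := rfl

theorem sum3 {M : Type*} [AddCommMonoid M] (f : Fin (n + 2) → M) :
    ∑ i, f i = f 0 + (f 1 + ∑ k : Fin n, f k.succ.succ) := by
  rw [Fin.sum_univ_succ, Fin.sum_univ_succ]
  rfl

theorem cases3 {P : Fin (n + 2) → Prop} (h0 : P 0) (h1 : P 1) (h2 : ∀ k : Fin n, P k.succ.succ)
    (i : Fin (n + 2)) : P i := by
  refine Fin.cases h0 (fun i' => ?_) i
  refine Fin.cases h1 (fun k => h2 k) i'

/-- the block matrix `[1 c a; 0 1 0; 0 b A]`. -/
def blk (a b : Fin n → ZMod 2) (c : ZMod 2) (A : Matrix (Fin n) (Fin n) (ZMod 2)) :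
    Matrix (Fin (n + 2)) (Fin (n + 2)) (ZMod 2) :=
  Matrix.of (c3 (c3 1 c a) (c3 0 1 (fun _ => 0)) (fun i => c3 0 (b i) (A i)))

section entries
variable (a b : Fin n → ZMod 2) (c : ZMod 2) (A : Matrix (Fin n) (Fin n) (ZMod 2))

@[simp] theorem blk_00 : blk a b c A 0 0 = 1 := rfl
@[simp] theorem blk_01 : blk a b c A 0 1 = c := rfl
@[simp] theorem blk_0s (k : Fin n) : blk a b c A 0 k.succ.succ = a k := rfl
@[simp] theorem blk_10 : blk a b c A 1 0 = 0 := rfl
@[simp] theorem blk_11 : blk a b c A 1 1 = 1 := rfl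
@[simp] theorem blk_1s (k : Fin n) : blk a b c A 1 k.succ.succ = 0 := rfl
@[simp] theorem blk_s0 (i : Fin n) : blk a b c A i.succ.succ 0 = 0 := rfl
@[simp] theorem blk_s1 (i : Fin n) : blk a b c A i.succ.succ 1 = b i := rfl
@[simp] theorem blk_ss (i k : Fin n) : blk a b c A i.succ.succ k.succ.succ = A i k := rfl
end entries

theorem blk_mul (a b a' b' : Fin n → ZMod 2) (c c' : ZMod 2)
    (A A' : Matrix (Fin n) (Fin n) (ZMod 2)) :
    blk a b c A * blk a' b' c' A' =
      blk (a' + a ᵥ* A') (b + A *ᵥ b') (c + c' + a ⬝ᵥ b') (A * A') := by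
  ext i j
  rw [Matrix.mul_apply, sum3]
  induction i using cases3 <;> induction j using cases3 <;>
    simp [Matrix.mul_apply, Matrix.vecMul, Matrix.mulVec, dotProduct] <;> ring

@[simp] theorem ss_ne_zero (k : Fin n) : k.succ.succ ≠ 0 := Fin.succ_ne_zero _
@[simp] theorem zero_ne_ss (k : Fin n) : (0 : Fin (n + 2)) ≠ k.succ.succ := (Fin.succ_ne_zero _).symm
@[simp] theorem ss_ne_one (k : Fin n) : k.succ.succ ≠ 1 := by
  intro h
  have h1 : k.succ.succ = Fin.succ (0 : Fin (n + 1)) := h
  exact Fin.succ_ne_zero k (Fin.succ_injective _ h1)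
@[simp] theorem one_ne_ss (k : Fin n) : (1 : Fin (n + 2)) ≠ k.succ.succ := (ss_ne_one k).symm
@[simp] theorem ss_inj (i k : Fin n) : i.succ.succ = k.succ.succ ↔ i = k := by
  rw [Fin.succ_inj, Fin.succ_inj]

theorem blk_one : blk (0 : Fin n → ZMod 2) 0 0 1 = 1 := by
  ext i j
  induction i using cases3 <;> induction j using cases3 <;> simp [Matrix.one_apply]

theorem blk_inj {a b a' b' : Fin n → ZMod 2} {c c' : ZMod 2}
    {A A' : Matrix (Fin n) (Fin n) (ZMod 2)} (h : blk a b c A = blk a' b' c' A') :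
    a = a' ∧ b = b' ∧ c = c' ∧ A = A' := by
  refine ⟨?_, ?_, ?_, ?_⟩
  · ext k
    have := congrFun (congrFun h 0) k.succ.succ
    simpa using this
  · ext k
    have := congrFun (congrFun h k.succ.succ) 1
    simpa using this
  · have := congrFun (congrFun h 0) 1
    simpa using this
  · ext i k
    have := congrFun (congrFun h i.succ.succ) k.succ.succ
    simpa using this

theorem transvection_eq : (Matrix.transvection (0 : Fin (n + 2)) 1 (1 : ZMod 2)) =
    blk (0 : Fin n → ZMod 2) 0 1 1 := by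
  ext i j
  induction i using cases3 <;> induction j using cases3 <;>
    simp [Matrix.transvection, Matrix.one_apply, Matrix.single_apply]

/-- a matrix with first column `e₀` and second row `e₁` is a block matrix. -/
theorem eq_blk_of (g : Matrix (Fin (n + 2)) (Fin (n + 2)) (ZMod 2))
    (h0 : ∀ i, i ≠ 0 → g i 0 = 0) (h1 : ∀ j, j ≠ 1 → g 1 j = 0) (h00 : g 0 0 = 1)
    (h11 : g 1 1 = 1) :
    g = blk (fun k => g 0 k.succ.succ) (fun k => g k.succ.succ 1) (g 0 1)
      (fun i k => g i.succ.succ k.succ.succ) := by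
  ext i j
  induction i using cases3 with
  | h0 =>
    induction j using cases3 with
    | h0 => exact h00
    | h1 => rfl
    | h2 k => rfl
  | h1 =>
    induction j using cases3 with
    | h0 => exact h0 1 (by simp)
    | h1 => exact h11
    | h2 k => exact h1 _ (by simp)
  | h2 i =>
    induction j using cases3 with
    | h0 => exact h0 _ (by simp)
    | h1 => rfl
    | h2 k => rfl

end Cfsg.Agent.Helper4.TransvC
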