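import Mathlib
import Cfsg.Agent.Helper4.TransvBlk

set_option autoImplicit false

/-!
Helper library (helper4): the elements `mk a b c A = [1 c a; 0 1 0; 0 b A]` of `SL(n+2, 2)`,
their multiplication, and the centralizer of the transvection `mk 0 0 1 1`.
-/

namespace Cfsg.Agent.Helper4.TransvC

open Matrix

variable {n : ℕ}

local notation "SLn" => Matrix.SpecialLinearGroup (Fin n) (ZMod 2)
local notation "SLN" => Matrix.SpecialLinearGroup (Fin (n + 2)) (ZMod 2)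

theorem z2_add_self (x : ZMod 2) : x + x = 0 := by revert x; decide

theorem vec_add_self (a : Fin n → ZMod 2) : a + a = 0 := by
  funext k
  exact z2_add_self _

theorem det_eq_one_of_mul_eq_one {ι : Type*} [Fintype ι] [DecidableEq ι]
    (M M' : Matrix ι ι (ZMod 2)) (h : M * M' = 1) : M.det = 1 := by
  have h1 : M.det * M'.det = 1 := by rw [← Matrix.det_mul, h, Matrix.det_one]
  have h2 : ∀ x y : ZMod 2, x * y = 1 → x = 1 := by decide
  exact h2 _ _ h1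

theorem sl_mul_inv (A : SLn) : (A : Matrix (Fin n) (Fin n) (ZMod 2)) * (A⁻¹ : SLn) = 1 := by
  rw [← Matrix.SpecialLinearGroup.coe_mul, mul_inv_cancel, Matrix.SpecialLinearGroup.coe_one]

theorem sl_inv_mul (A : SLn) : ((A⁻¹ : SLn) : Matrix (Fin n) (Fin n) (ZMod 2)) * A = 1 := by
  rw [← Matrix.SpecialLinearGroup.coe_mul, inv_mul_cancel, Matrix.SpecialLinearGroup.coe_one]

theorem blk_mul_inv (a b : Fin n → ZMod 2) (c : ZMod 2) (A : SLn) :
    blk a b c (A : Matrix (Fin n) (Fin n) (ZMod 2)) *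
      blk (a ᵥ* ((A⁻¹ : SLn) : Matrix (Fin n) (Fin n) (ZMod 2)))
        (((A⁻¹ : SLn) : Matrix (Fin n) (Fin n) (ZMod 2)) *ᵥ b)
        (c + a ⬝ᵥ (((A⁻¹ : SLn) : Matrix (Fin n) (Fin n) (ZMod 2)) *ᵥ b))
        ((A⁻¹ : SLn) : Matrix (Fin n) (Fin n) (ZMod 2)) = 1 := by
  rw [blk_mul, vec_add_self, Matrix.mulVec_mulVec, sl_mul_inv, Matrix.one_mulVec, vec_add_self,
    ← blk_one]
  congr 1
  have : ∀ x y : ZMod 2, x + (x + y) + y = 0 := by decide
  exact this _ _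

/-- the element `[1 c a; 0 1 0; 0 b A]` of `SL(n+2, 2)`. -/
def mk (a b : Fin n → ZMod 2) (c : ZMod 2) (A : SLn) : SLN :=
  ⟨blk a b c A, det_eq_one_of_mul_eq_one _ _ (blk_mul_inv a b c A)⟩

@[simp] theorem coe_mk (a b : Fin n → ZMod 2) (c : ZMod 2) (A : SLn) :
    ((mk a b c A : SLN) : Matrix (Fin (n + 2)) (Fin (n + 2)) (ZMod 2)) = blk a b c A := rfl

theorem mk_mul (a b a' b' : Fin n → ZMod 2) (c c' : ZMod 2) (A A' : SLn) :
    mk a b c A * mk a' b' c' A' =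
      mk (a' + a ᵥ* (A' : Matrix (Fin n) (Fin n) (ZMod 2)))
        (b + (A : Matrix (Fin n) (Fin n) (ZMod 2)) *ᵥ b') (c + c' + a ⬝ᵥ b') (A * A') := by
  apply Subtype.ext
  rw [Matrix.SpecialLinearGroup.coe_mul, coe_mk, coe_mk, coe_mk, blk_mul,
    Matrix.SpecialLinearGroup.coe_mul]

theorem mk_one : mk (0 : Fin n → ZMod 2) 0 0 1 = 1 := by
  apply Subtype.ext
  rw [coe_mk, Matrix.SpecialLinearGroup.coe_one, Matrix.SpecialLinearGroup.coe_one, blk_one]

theorem mk_inj {a b a' b' : Fin n → ZMod 2} {c c' : ZMod 2} {A A' : SLn}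
    (h : mk a b c A = mk a' b' c' A') : a = a' ∧ b = b' ∧ c = c' ∧ A = A' := by
  have h1 := congrArg Subtype.val h
  obtain ⟨h2, h3, h4, h5⟩ := blk_inj h1
  exact ⟨h2, h3, h4, Subtype.ext h5⟩

theorem mk_inv (a b : Fin n → ZMod 2) (c : ZMod 2) (A : SLn) :
    (mk a b c A)⁻¹ = mk (a ᵥ* ((A⁻¹ : SLn) : Matrix (Fin n) (Fin n) (ZMod 2)))
        (((A⁻¹ : SLn) : Matrix (Fin n) (Fin n) (ZMod 2)) *ᵥ b)
        (c + a ⬝ᵥ (((A⁻¹ : SLn) : Matrix (Fin n) (Fin n) (ZMod 2)) *ᵥ b)) A⁻¹ := by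
  apply inv_eq_of_mul_eq_one_right
  apply Subtype.ext
  rw [Matrix.SpecialLinearGroup.coe_mul, coe_mk, coe_mk, blk_mul_inv,
    Matrix.SpecialLinearGroup.coe_one]

/-- the transvection. -/
def zz : SLN := mk (0 : Fin n → ZMod 2) 0 1 1

theorem eq_zz (z : SLN)
    (hz : (z : Matrix (Fin (n + 2)) (Fin (n + 2)) (ZMod 2)) = Matrix.transvection 0 1 1) :
    z = zz := by
  apply Subtype.ext
  rw [hz, zz, coe_mk, Matrix.SpecialLinearGroup.coe_one, transvection_eq]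

theorem mk_comm_zz (a b : Fin n → ZMod 2) (c : ZMod 2) (A : SLn) :
    mk a b c A * zz = zz * mk a b c A := by
  rw [zz, mk_mul, mk_mul]
  simp [add_comm]

end Cfsg.Agent.Helper4.TransvC
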