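import Mathlib
import Cfsg.Agent.Helper4.TransvMk

set_option autoImplicit false

/-!
Helper library (helper4): the centralizer of the transvection `zz` in `SL(n+2, 2)` consists of
the elements `mk a b c A`.
-/

namespace Cfsg.Agent.Helper4.TransvC

open Matrix

variable {n : ℕ}

local notation "SLn" => Matrix.SpecialLinearGroup (Fin n) (ZMod 2)
local notation "SLN" => Matrix.SpecialLinearGroup (Fin (n + 2)) (ZMod 2)
local notation "MN" => Matrix (Fin (n + 2)) (Fin (n + 2)) (ZMod 2)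

theorem coe_zz : ((zz : SLN) : MN) = 1 + Matrix.single 0 1 1 := by
  rw [zz, coe_mk, Matrix.SpecialLinearGroup.coe_one, ← transvection_eq, Matrix.transvection]

theorem cent_entries (g : SLN) (h : g * zz = zz * g) :
    (∀ i, i ≠ 0 → (g : MN) i 0 = 0) ∧ (∀ j, j ≠ 1 → (g : MN) 1 j = 0) ∧
      (g : MN) 0 0 = (g : MN) 1 1 := by
  have h1 : (g : MN) * (1 + Matrix.single 0 1 1) = (1 + Matrix.single 0 1 1) * (g : MN) := by
    rw [← coe_zz, ← Matrix.SpecialLinearGroup.coe_mul, ← Matrix.SpecialLinearGroup.coe_mul, h]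
  have h2 : (g : MN) * Matrix.single 0 1 1 = Matrix.single 0 1 1 * (g : MN) := by
    rw [mul_add, add_mul, mul_one, one_mul] at h1
    exact add_left_cancel h1
  have e1 : ∀ i j, ((g : MN) * (Matrix.single 0 1 (1 : ZMod 2) : MN)) i j =
      if j = 1 then (g : MN) i 0 else 0 := by
    intro i j
    by_cases hj : j = 1
    · subst hj
      rw [Matrix.mul_single_apply_same, mul_one, if_pos rfl]
    · rw [Matrix.mul_single_apply_of_ne _ _ _ _ _ hj, if_neg hj]
  have e2 : ∀ i j, ((Matrix.single 0 1 (1 : ZMod 2) : MN) * (g : MN)) i j =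
      if i = 0 then (g : MN) 1 j else 0 := by
    intro i j
    by_cases hi : i = 0
    · subst hi
      rw [Matrix.single_mul_apply_same, one_mul, if_pos rfl]
    · rw [Matrix.single_mul_apply_of_ne _ _ _ _ _ hi, if_neg hi]
  refine ⟨fun i hi => ?_, fun j hj => ?_, ?_⟩
  · have := congrFun (congrFun h2 i) 1
    rw [e1, e2, if_pos rfl, if_neg hi] at this
    exact this
  · have := congrFun (congrFun h2 0) j
    rw [e1, e2, if_neg hj, if_pos rfl] at this
    exact this.symm
  · have := congrFun (congrFun h2 0) 1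
    rw [e1, e2, if_pos rfl, if_pos rfl] at this
    exact this

theorem cent_inv (g : SLN) (h : g * zz = zz * g) : g⁻¹ * zz = zz * g⁻¹ := by
  have := congrArg (fun x => g⁻¹ * x * g⁻¹) h
  simp only [mul_assoc, inv_mul_cancel_left, mul_inv_cancel, mul_one] at this
  exact this.symm

theorem cent_diag (g : SLN) (h : g * zz = zz * g) : (g : MN) 0 0 = 1 := by
  obtain ⟨h0, -, -⟩ := cent_entries g⁻¹ (cent_inv g h)
  have h1 : ((g : MN) * ((g⁻¹ : SLN) : MN)) 0 0 = 1 := by
    rw [← Matrix.SpecialLinearGroup.coe_mul, mul_inv_cancel, Matrix.SpecialLinearGroup.coe_one,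
      Matrix.one_apply_eq]
  rw [Matrix.mul_apply, Finset.sum_eq_single 0] at h1
  · have h2 : ∀ x y : ZMod 2, x * y = 1 → x = 1 := by decide
    exact h2 _ _ h1
  · intro k _ hk
    rw [h0 k hk, mul_zero]
  · intro hk
    exact absurd (Finset.mem_univ _) hk

theorem cent_eq_blk (g : SLN) (h : g * zz = zz * g) :
    ∃ (a b : Fin n → ZMod 2) (c : ZMod 2) (A : Matrix (Fin n) (Fin n) (ZMod 2)),
      (g : MN) = blk a b c A := by
  obtain ⟨h0, h1, h01⟩ := cent_entries g h
  have h00 := cent_diag g h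
  exact ⟨_, _, _, _, eq_blk_of _ h0 h1 h00 (h01 ▸ h00)⟩

theorem cent_eq_mk (g : SLN) (h : g * zz = zz * g) :
    ∃ (a b : Fin n → ZMod 2) (c : ZMod 2) (A : SLn), g = mk a b c A := by
  obtain ⟨a, b, c, A, e1⟩ := cent_eq_blk g h
  obtain ⟨a', b', c', A', e2⟩ := cent_eq_blk g⁻¹ (cent_inv g h)
  have h1 : (g : MN) * ((g⁻¹ : SLN) : MN) = 1 := by
    rw [← Matrix.SpecialLinearGroup.coe_mul, mul_inv_cancel, Matrix.SpecialLinearGroup.coe_one]
  rw [e1, e2, blk_mul, ← blk_one] at h1
  obtain ⟨-, -, -, h2⟩ := blk_inj h1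
  refine ⟨a, b, c, ⟨A, det_eq_one_of_mul_eq_one _ _ h2⟩, ?_⟩
  apply Subtype.ext
  exact e1

theorem mem_cent_iff (g : SLN) :
    g ∈ Subgroup.centralizer ({zz} : Set SLN) ↔
      ∃ (a b : Fin n → ZMod 2) (c : ZMod 2) (A : SLn), g = mk a b c A := by
  rw [Subgroup.mem_centralizer_singleton_iff]
  constructor
  · intro h
    exact cent_eq_mk g h
  · rintro ⟨a, b, c, A, rfl⟩
    exact mk_comm_zz a b c A

end Cfsg.Agent.Helper4.TransvC
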