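import Mathlib
import Cfsg.Agent.Helper4.TransvCent
import Cfsg.Agent.Helper4.SL2Core
import Cfsg.Agent.Helper4.LxData

set_option autoImplicit false

/-!
Helper library (helper4): the data `LxData.Data` for the centralizer of a transvection in
`SL(n+2, 2)`.
-/

namespace Cfsg.Agent.Helper4.TransvC

open Matrix

variable {n : ℕ}

local notation "SLn" => Matrix.SpecialLinearGroup (Fin n) (ZMod 2)
local notation "SLN" => Matrix.SpecialLinearGroup (Fin (n + 2)) (ZMod 2)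
local notation "MN" => Matrix (Fin (n + 2)) (Fin (n + 2)) (ZMod 2)
local notation "Mn" => Matrix (Fin n) (Fin n) (ZMod 2)

/-- the extraspecial subgroup. -/
def Qs : Subgroup SLN where
  carrier := {g | ∃ (a b : Fin n → ZMod 2) (c : ZMod 2), g = mk a b c 1}
  mul_mem' := by
    rintro _ _ ⟨a, b, c, rfl⟩ ⟨a', b', c', rfl⟩
    exact ⟨_, _, _, by rw [mk_mul, mul_one]⟩
  one_mem' := ⟨0, 0, 0, mk_one.symm⟩
  inv_mem' := by
    rintro _ ⟨a, b, c, rfl⟩
    exact ⟨_, _, _, by rw [mk_inv, inv_one]⟩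

theorem mem_Qs {g : SLN} : g ∈ (Qs : Subgroup SLN) ↔
    ∃ (a b : Fin n → ZMod 2) (c : ZMod 2), g = mk a b c 1 := Iff.rfl

/-- the elementary abelian subgroup of transvections with centre `e₀`. -/
def Es : Subgroup SLN where
  carrier := {g | ∃ (a : Fin n → ZMod 2) (c : ZMod 2), g = mk a 0 c 1}
  mul_mem' := by
    rintro _ _ ⟨a, c, rfl⟩ ⟨a', c', rfl⟩
    refine ⟨a' + a, c + c', ?_⟩
    rw [mk_mul, mul_one]
    simp
  one_mem' := ⟨0, 0, mk_one.symm⟩
  inv_mem' := by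
    rintro _ ⟨a, c, rfl⟩
    refine ⟨a, c, ?_⟩
    rw [mk_inv, inv_one]
    simp

theorem mem_Es {g : SLN} : g ∈ (Es : Subgroup SLN) ↔
    ∃ (a : Fin n → ZMod 2) (c : ZMod 2), g = mk a 0 c 1 := Iff.rfl

/-- the complement. -/
def ιK : SLn →* SLN where
  toFun A := mk 0 0 0 A
  map_one' := mk_one
  map_mul' A B := by
    rw [mk_mul]
    simp

theorem ιK_injective : Function.Injective (ιK : SLn →* SLN) := by
  intro A B h
  exact (mk_inj h).2.2.2

/-- the complement as a subgroup. -/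
def Ks : Subgroup SLN := (ιK : SLn →* SLN).range

theorem mem_Ks {g : SLN} : g ∈ (Ks : Subgroup SLN) ↔ ∃ A : SLn, g = mk 0 0 0 A := by
  constructor
  · rintro ⟨A, rfl⟩
    exact ⟨A, rfl⟩
  · rintro ⟨A, rfl⟩
    exact ⟨A, rfl⟩

theorem mk_zero_inv (A : SLn) : (mk (0 : Fin n → ZMod 2) 0 0 A)⁻¹ = mk 0 0 0 A⁻¹ := by
  rw [mk_inv]
  simp

theorem conj_K_Q (A : SLn) (a b : Fin n → ZMod 2) (c : ZMod 2) :
    mk 0 0 0 A * mk a b c 1 * (mk 0 0 0 A)⁻¹ =
      mk (a ᵥ* ((A⁻¹ : SLn) : Mn)) ((A : Mn) *ᵥ b) c 1 := by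
  rw [mk_zero_inv, mk_mul, mk_mul]
  simp

theorem card_Qs : Nat.card ↥(Qs : Subgroup SLN) = 2 ^ (2 * n + 1) := by
  have hbij : Function.Bijective
      (fun p : (Fin n → ZMod 2) × (Fin n → ZMod 2) × ZMod 2 =>
        (⟨mk p.1 p.2.1 p.2.2 1, ⟨_, _, _, rfl⟩⟩ : ↥(Qs : Subgroup SLN))) := by
    constructor
    · rintro ⟨a, b, c⟩ ⟨a', b', c'⟩ h
      obtain ⟨h1, h2, h3, -⟩ := mk_inj (congrArg Subtype.val h)
      simp only at h1 h2 h3
      rw [h1, h2, h3]
    · rintro ⟨g, a, b, c, rfl⟩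
      exact ⟨(a, b, c), rfl⟩
  rw [← Nat.card_congr (Equiv.ofBijective _ hbij), Nat.card_prod, Nat.card_prod, Nat.card_fun,
    Nat.card_zmod, Nat.card_fin]
  ring

theorem card_Es : Nat.card ↥(Es : Subgroup SLN) = 2 ^ (n + 1) := by
  have hbij : Function.Bijective
      (fun p : (Fin n → ZMod 2) × ZMod 2 =>
        (⟨mk p.1 0 p.2 1, ⟨_, _, rfl⟩⟩ : ↥(Es : Subgroup SLN))) := by
    constructor
    · rintro ⟨a, c⟩ ⟨a', c'⟩ h
      obtain ⟨h1, -, h3, -⟩ := mk_inj (congrArg Subtype.val h)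
      simp only at h1 h3
      rw [h1, h3]
    · rintro ⟨g, a, c, rfl⟩
      exact ⟨(a, c), rfl⟩
  rw [← Nat.card_congr (Equiv.ofBijective _ hbij), Nat.card_prod, Nat.card_fun,
    Nat.card_zmod, Nat.card_fin]
  ring

theorem z2_cases (x : ZMod 2) : x = 0 ∨ x = 1 := by revert x; decide

theorem mk_c_cases (c : ZMod 2) :
    mk (0 : Fin n → ZMod 2) 0 c 1 = 1 ∨ mk (0 : Fin n → ZMod 2) 0 c 1 = zz := by
  rcases z2_cases c with rfl | rfl
  · left
    exact mk_one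
  · right
    rfl

theorem zz_ne_one : (zz : SLN) ≠ 1 := by
  intro h
  rw [zz, ← mk_one] at h
  have := (mk_inj h).2.2.1
  exact one_ne_zero this

theorem zz_sq : (zz : SLN) * zz = 1 := by
  rw [zz, mk_mul, ← mk_one]
  congr 1
  · simp
  · simp
  · simp
    exact z2_add_self 1
  · exact mul_one _

theorem orderOf_zz : orderOf (zz : SLN) = 2 := by
  have : Fact (Nat.Prime 2) := ⟨Nat.prime_two⟩
  apply orderOf_eq_prime
  · rw [pow_two]
    exact zz_sq
  · exact zz_ne_one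

theorem comm_Q (a b a' b' : Fin n → ZMod 2) (c c' : ZMod 2) :
    mk a b c 1 * mk a' b' c' 1 * (mk a b c 1)⁻¹ * (mk a' b' c' 1)⁻¹ =
      mk 0 0 (a ⬝ᵥ b' + a' ⬝ᵥ b) (1 : SLn) := by
  have h1 : mk a b c 1 * mk a' b' c' 1 =
      mk 0 0 (a ⬝ᵥ b' + a' ⬝ᵥ b) (1 : SLn) * (mk a' b' c' 1 * mk a b c 1) := by
    rw [mk_mul, mk_mul, mk_mul]
    simp only [Matrix.SpecialLinearGroup.coe_one, Matrix.vecMul_one, Matrix.one_mulVec, mul_one,
      zero_dotProduct, add_zero, zero_add]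
    congr 1
    · exact add_comm _ _
    · exact add_comm _ _
    · have : ∀ x y u w : ZMod 2, x + y + u = u + w + (y + x + w) := by decide
      exact this _ _ _ _
  have h2 : mk a b c 1 * mk a' b' c' 1 * (mk a b c 1)⁻¹ * (mk a' b' c' 1)⁻¹ =
      mk a b c 1 * mk a' b' c' 1 * (mk a' b' c' 1 * mk a b c 1)⁻¹ := by
    rw [_root_.mul_inv_rev, mul_assoc, mul_assoc]
  rw [h2, h1, mul_assoc, mul_inv_cancel, mul_one]

theorem sq_Q (a b : Fin n → ZMod 2) (c : ZMod 2) :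
    mk a b c 1 * mk a b c 1 = mk 0 0 (a ⬝ᵥ b) (1 : SLn) := by
  rw [mk_mul]
  simp only [Matrix.SpecialLinearGroup.coe_one, Matrix.vecMul_one, Matrix.one_mulVec, mul_one]
  congr 1
  · exact vec_add_self a
  · exact vec_add_self b
  · rw [z2_add_self, zero_add]

theorem cen_Q (a b : Fin n → ZMod 2) (c : ZMod 2)
    (h : ∀ y ∈ (Qs : Subgroup SLN), mk a b c 1 * y = y * mk a b c 1) : a = 0 ∧ b = 0 := by
  constructor
  · funext k
    have h1 := h (mk 0 (Pi.single k 1) 0 1) ⟨_, _, _, rfl⟩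
    rw [mk_mul, mk_mul] at h1
    have h2 := (mk_inj h1).2.2.1
    simp only [zero_dotProduct, dotProduct_single, mul_one, add_zero, zero_add] at h2
    have : ∀ x y : ZMod 2, x + y = x → y = 0 := by decide
    exact this _ _ h2
  · funext k
    have h1 := h (mk (Pi.single k 1) 0 0 1) ⟨_, _, _, rfl⟩
    rw [mk_mul, mk_mul] at h1
    have h2 := (mk_inj h1).2.2.1
    simp only [dotProduct_zero, single_dotProduct, one_mul, add_zero, zero_add] at h2
    have : ∀ x y : ZMod 2, x = x + y → y = 0 := by decide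
    exact this _ _ h2

end Cfsg.Agent.Helper4.TransvC
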