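import Mathlib
import Cfsg.Agent.Helper4.TransvData

set_option autoImplicit false

/-!
Helper library (helper4): the remaining data for the centralizer of a transvection in
`SL(n+2, 2)` and the conclusion.
-/

namespace Cfsg.Agent.Helper4.TransvC

open Matrix

variable {n : ℕ}

local notation "SLn" => Matrix.SpecialLinearGroup (Fin n) (ZMod 2)
local notation "SLN" => Matrix.SpecialLinearGroup (Fin (n + 2)) (ZMod 2)
local notation "MN" => Matrix (Fin (n + 2)) (Fin (n + 2)) (ZMod 2)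
local notation "Mn" => Matrix (Fin n) (Fin n) (ZMod 2)

/-- a second transvection with the same centre. -/
def bb (k₀ : Fin n) : SLN := mk (Pi.single k₀ 1) 0 0 1

theorem coe_bb (k₀ : Fin n) : ((bb k₀ : SLN) : MN) = 1 + Matrix.single 0 k₀.succ.succ 1 := by
  rw [bb, coe_mk, Matrix.SpecialLinearGroup.coe_one]
  ext i j
  induction i using cases3 <;> induction j using cases3 <;>
    simp [Matrix.one_apply, Matrix.single_apply, Pi.single_apply, eq_comm]

theorem col0_of_comm (k₀ : Fin n) (g : SLN) (h : g * bb k₀ = bb k₀ * g) :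
    ∀ i, i ≠ 0 → (g : MN) i 0 = 0 := by
  have h1 : (g : MN) * (1 + Matrix.single 0 k₀.succ.succ 1) =
      (1 + Matrix.single 0 k₀.succ.succ 1) * (g : MN) := by
    rw [← coe_bb, ← Matrix.SpecialLinearGroup.coe_mul, ← Matrix.SpecialLinearGroup.coe_mul, h]
  have h2 : (g : MN) * Matrix.single 0 k₀.succ.succ 1 =
      Matrix.single 0 k₀.succ.succ 1 * (g : MN) := by
    rw [mul_add, add_mul, mul_one, one_mul] at h1
    exact add_left_cancel h1
  intro i hi
  have := congrFun (congrFun h2 i) k₀.succ.succ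
  rw [Matrix.mul_single_apply_same, mul_one, Matrix.single_mul_apply_of_ne _ _ _ _ _ hi] at this
  exact this

theorem comm_inv {G : Type*} [Group G] (g b : G) (h : g * b = b * g) : g⁻¹ * b = b * g⁻¹ := by
  have := congrArg (fun x => g⁻¹ * x * g⁻¹) h
  simp only [mul_assoc, inv_mul_cancel_left, mul_inv_cancel, mul_one] at this
  exact this.symm

theorem diag0_of_col0 (g : SLN) (h' : ∀ i, i ≠ 0 → ((g⁻¹ : SLN) : MN) i 0 = 0) :
    (g : MN) 0 0 = 1 := by
  have h1 : ((g : MN) * ((g⁻¹ : SLN) : MN)) 0 0 = 1 := by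
    rw [← Matrix.SpecialLinearGroup.coe_mul, mul_inv_cancel, Matrix.SpecialLinearGroup.coe_one,
      Matrix.one_apply_eq]
  rw [Matrix.mul_apply, Finset.sum_eq_single 0] at h1
  · have h2 : ∀ x y : ZMod 2, x * y = 1 → x = 1 := by decide
    exact h2 _ _ h1
  · intro k _ hk
    rw [h' k hk, mul_zero]
  · intro hk
    exact absurd (Finset.mem_univ _) hk

theorem mulVec_e0 (g : SLN) (h : ∀ i, i ≠ 0 → (g : MN) i 0 = 0) (h0 : (g : MN) 0 0 = 1) :
    (g : MN) *ᵥ Pi.single 0 1 = Pi.single 0 1 := by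
  rw [Matrix.mulVec_single_one]
  funext i
  by_cases hi : i = 0
  · subst hi
    simp [h0]
  · simp [h i hi, Pi.single_eq_of_ne hi]

theorem coe_mk_E (a : Fin n → ZMod 2) (c : ZMod 2) :
    ((mk a 0 c 1 : SLN) : MN) = 1 + Matrix.vecMulVec (Pi.single 0 1) (c3 0 c a) := by
  rw [coe_mk, Matrix.SpecialLinearGroup.coe_one]
  ext i j
  induction i using cases3 <;> induction j using cases3 <;>
    simp [Matrix.one_apply, Matrix.vecMulVec_apply, Pi.single_apply]

theorem mem_Es_of (g : SLN) (φ : Fin (n + 2) → ZMod 2) (hφ : φ 0 = 0)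
    (h : (g : MN) = 1 + Matrix.vecMulVec (Pi.single 0 1) φ) : g ∈ (Es : Subgroup SLN) := by
  refine ⟨fun k => φ k.succ.succ, φ 1, ?_⟩
  apply Subtype.ext
  rw [h, coe_mk_E]
  congr 2
  funext j
  induction j using cases3 with
  | h0 => exact hφ
  | h1 => rfl
  | h2 k => rfl

theorem conj_Es (k₀ : Fin n) (g : SLN) (h : g * bb k₀ = bb k₀ * g) (e : SLN)
    (he : e ∈ (Es : Subgroup SLN)) : g * e * g⁻¹ ∈ (Es : Subgroup SLN) := by
  obtain ⟨a, c, rfl⟩ := he
  have hc := col0_of_comm k₀ g h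
  have hc' := col0_of_comm k₀ g⁻¹ (comm_inv g _ h)
  have hd : (g : MN) 0 0 = 1 := diag0_of_col0 g hc'
  have hmv := mulVec_e0 g hc hd
  apply mem_Es_of _ ((c3 0 c a) ᵥ* ((g⁻¹ : SLN) : MN))
  · rw [Matrix.vecMul, dotProduct, Finset.sum_eq_single 0]
    · rw [c3_zero, zero_mul]
    · intro k _ hk
      rw [hc' k hk, mul_zero]
    · intro hk
      exact absurd (Finset.mem_univ _) hk
  · rw [Matrix.SpecialLinearGroup.coe_mul, Matrix.SpecialLinearGroup.coe_mul, coe_mk_E, mul_add,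
      add_mul, mul_one, ← Matrix.SpecialLinearGroup.coe_mul, mul_inv_cancel,
      Matrix.SpecialLinearGroup.coe_one, Matrix.mul_vecMulVec, hmv, Matrix.vecMulVec_mul]

theorem decomp_C (g : SLN) (h : g * zz = zz * g) :
    ∃ q ∈ (Qs : Subgroup SLN), ∃ k ∈ (Ks : Subgroup SLN), g = q * k := by
  obtain ⟨a, b, c, A, rfl⟩ := cent_eq_mk g h
  refine ⟨mk (a ᵥ* ((A⁻¹ : SLn) : Mn)) b c 1, ⟨_, _, _, rfl⟩, mk 0 0 0 A, mem_Ks.mpr ⟨A, rfl⟩, ?_⟩
  rw [mk_mul, Matrix.vecMul_vecMul, sl_inv_mul]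
  simp

theorem faith_K (k : SLN) (hk : k ∈ (Ks : Subgroup SLN)) (hk1 : k ≠ 1) :
    ∃ s ∈ (Qs : Subgroup SLN), k * s * k⁻¹ ≠ s ∧ k * s * k⁻¹ ≠ zz * s := by
  obtain ⟨A, rfl⟩ := mem_Ks.mp hk
  have hA : (A⁻¹ : SLn) ≠ 1 := by
    intro h
    apply hk1
    rw [inv_eq_one] at h
    rw [h, mk_one]
  obtain ⟨i, hi⟩ : ∃ i : Fin n, (Pi.single i 1 : Fin n → ZMod 2) ᵥ* ((A⁻¹ : SLn) : Mn) ≠
      Pi.single i 1 := by
    by_contra hcon
    push Not at hcon
    apply hA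
    apply Subtype.ext
    rw [Matrix.SpecialLinearGroup.coe_one]
    ext i j
    have := congrFun (hcon i) j
    rw [Matrix.single_one_vecMul] at this
    rw [Matrix.one_apply]
    simpa [Pi.single_apply, eq_comm] using this
  refine ⟨mk (Pi.single i 1) 0 0 1, ⟨_, _, _, rfl⟩, ?_, ?_⟩
  · rw [conj_K_Q]
    intro h
    exact hi (mk_inj h).1
  · rw [conj_K_Q, zz, mk_mul]
    intro h
    have := (mk_inj h).2.2.1
    simp at this

/-- the data. -/
theorem data (hn : 1 ≤ n) :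
    LxData.Data n (zz : SLN) Qs Ks Es (bb (⟨0, hn⟩ : Fin n)) where
  hn := hn
  hz := orderOf_zz
  hQC := by
    rintro _ ⟨a, b, c, rfl⟩
    exact mk_comm_zz a b c 1
  hKC := by
    intro k hk
    obtain ⟨A, rfl⟩ := mem_Ks.mp hk
    exact mk_comm_zz 0 0 0 A
  hKQ := by
    intro k hk q hq
    obtain ⟨A, rfl⟩ := mem_Ks.mp hk
    obtain ⟨a, b, c, rfl⟩ := hq
    rw [conj_K_Q]
    exact ⟨_, _, _, rfl⟩
  cardQ := card_Qs
  hQK := by
    rintro x ⟨a, b, c, rfl⟩ hx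
    obtain ⟨A, hA⟩ := mem_Ks.mp hx
    obtain ⟨h1, h2, h3, h4⟩ := mk_inj hA
    rw [h1, h2, h3, mk_one]
  decomp := decomp_C
  zQ := ⟨0, 0, 1, rfl⟩
  comm := by
    rintro _ ⟨a, b, c, rfl⟩ _ ⟨a', b', c', rfl⟩
    rw [comm_Q]
    exact mk_c_cases _
  sq := by
    rintro _ ⟨a, b, c, rfl⟩
    rw [sq_Q]
    exact mk_c_cases _
  cen := by
    rintro _ ⟨a, b, c, rfl⟩ h
    obtain ⟨rfl, rfl⟩ := cen_Q a b c h
    exact mk_c_cases _
  coreK := SL2Core.core_transport (MonoidHom.ofInjective ιK_injective).symm SL2Core.coreSL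
  hEQ := by
    rintro _ ⟨a, c, rfl⟩
    exact ⟨_, _, _, rfl⟩
  zE := ⟨0, 1, rfl⟩
  Ecomm := by
    rintro _ ⟨a, c, rfl⟩ _ ⟨a', c', rfl⟩
    rw [mk_mul, mk_mul]
    simp only [Matrix.SpecialLinearGroup.coe_one, Matrix.vecMul_one, Matrix.one_mulVec, mul_one,
      dotProduct_zero, add_zero]
    congr 1
    · exact add_comm _ _
    · exact add_comm _ _
  Esq := by
    rintro _ ⟨a, c, rfl⟩
    rw [sq_Q, dotProduct_zero, mk_one]
  cardE := card_Es
  bE := ⟨_, _, rfl⟩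
  b1 := by
    intro h
    rw [bb, ← mk_one] at h
    have := congrFun (mk_inj h).1 ⟨0, hn⟩
    simp at this
  bz := by
    intro h
    rw [bb, zz] at h
    have := congrFun (mk_inj h).1 ⟨0, hn⟩
    simp at this
  hbE := fun c hc e he => conj_Es _ c hc e he
  faith := faith_K

/-- the conclusion for the centralizer of the transvection `1 + E₀₁` in `SL(n+2, 2)`. -/
theorem main (hn : 1 ≤ n) (z : SLN)
    (hz : (z : MN) = Matrix.transvection 0 1 1) (Q : Subgroup SLN)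
    (hQ : Q = (Cfsg.pCore 2 ↥(Subgroup.centralizer ({z} : Set SLN))).map
      (Subgroup.centralizer ({z} : Set SLN)).subtype) :
    Cfsg.IsExtraspecial 2 ↥Q ∧ Nat.card ↥Q = 2 ^ (2 * n + 1) ∧
      (∃ E : Subgroup SLN, E ≤ Q ∧ Cfsg.IsElementaryAbelian 2 E ∧ Nat.card ↥E = 2 ^ (n + 1)) ∧
      Cfsg.IsLargeExtraspecial Q ∧
      ∃ K : Subgroup SLN, K ≤ Subgroup.centralizer ({z} : Set SLN) ∧ Q ⊓ K = ⊥ ∧
        Q ⊔ K = Subgroup.centralizer ({z} : Set SLN) ∧ Nonempty (↥K ≃* SLn) := by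
  have hzz := eq_zz z hz
  subst hzz
  exact (data hn).main ⟨(MonoidHom.ofInjective ιK_injective).symm⟩ Q hQ

end Cfsg.Agent.Helper4.TransvC
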