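import Mathlib
import Cfsg.Agent.Helper4.TransvData2

set_option autoImplicit false

/-!
Helper library (helper4): the stabiliser of the first basis vector in `SL(n+2, 2)`: the elements
`mk1 r B = [1 r; 0 B]`, the translation subgroup `U1 = {mk1 r 1}` and the complement
`M1 = {mk1 0 B}`, which acts faithfully on `U1` and induces all its automorphisms.
-/

namespace Cfsg.Agent.Helper4.TransvC

open Matrix

variable {n : ℕ}

local notation "SLn" => Matrix.SpecialLinearGroup (Fin n) (ZMod 2)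
local notation "SLm" => Matrix.SpecialLinearGroup (Fin (n + 1)) (ZMod 2)
local notation "SLN" => Matrix.SpecialLinearGroup (Fin (n + 2)) (ZMod 2)
local notation "MN" => Matrix (Fin (n + 2)) (Fin (n + 2)) (ZMod 2)
local notation "Mm" => Matrix (Fin (n + 1)) (Fin (n + 1)) (ZMod 2)
local notation "Wm" => Fin (n + 1) → ZMod 2

/-- the block matrix `[1 r; 0 B]`. -/
def blk1 (r : Wm) (B : Mm) : MN :=
  Matrix.of (Fin.cons (Fin.cons 1 r) (fun i => Fin.cons 0 (B i)))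

@[simp] theorem blk1_00 (r : Wm) (B : Mm) : blk1 r B 0 0 = 1 := rfl
@[simp] theorem blk1_0s (r : Wm) (B : Mm) (j : Fin (n + 1)) : blk1 r B 0 j.succ = r j := rfl
@[simp] theorem blk1_s0 (r : Wm) (B : Mm) (i : Fin (n + 1)) : blk1 r B i.succ 0 = 0 := rfl
@[simp] theorem blk1_ss (r : Wm) (B : Mm) (i j : Fin (n + 1)) :
    blk1 r B i.succ j.succ = B i j := rfl

theorem blk1_mul (r r' : Wm) (B B' : Mm) :
    blk1 r B * blk1 r' B' = blk1 (r' + r ᵥ* B') (B * B') := by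
  ext i j
  rw [Matrix.mul_apply, Fin.sum_univ_succ]
  refine Fin.cases ?_ (fun i' => ?_) i <;> refine Fin.cases ?_ (fun j' => ?_) j <;>
    simp [Matrix.mul_apply, Matrix.vecMul, dotProduct]

theorem blk1_one : blk1 (0 : Wm) 1 = 1 := by
  ext i j
  refine Fin.cases ?_ (fun i' => ?_) i <;> refine Fin.cases ?_ (fun j' => ?_) j <;>
    simp [Matrix.one_apply, Fin.succ_ne_zero, (Fin.succ_ne_zero _).symm]

theorem blk1_inj {r r' : Wm} {B B' : Mm} (h : blk1 r B = blk1 r' B') : r = r' ∧ B = B' := by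
  constructor
  · funext j
    have := congrFun (congrFun h 0) j.succ
    simpa using this
  · ext i j
    have := congrFun (congrFun h i.succ) j.succ
    simpa using this

theorem slm_mul_inv (A : SLm) : (A : Mm) * (A⁻¹ : SLm) = 1 := by
  rw [← Matrix.SpecialLinearGroup.coe_mul, mul_inv_cancel, Matrix.SpecialLinearGroup.coe_one]

theorem slm_inv_mul (A : SLm) : ((A⁻¹ : SLm) : Mm) * A = 1 := by
  rw [← Matrix.SpecialLinearGroup.coe_mul, inv_mul_cancel, Matrix.SpecialLinearGroup.coe_one]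

theorem blk1_mul_inv (r : Wm) (B : SLm) :
    blk1 r (B : Mm) * blk1 (r ᵥ* ((B⁻¹ : SLm) : Mm)) ((B⁻¹ : SLm) : Mm) = 1 := by
  rw [blk1_mul, slm_mul_inv, ← blk1_one]
  congr 1
  funext j
  exact z2_add_self _

/-- the element `[1 r; 0 B]` of `SL(n+2, 2)`. -/
def mk1 (r : Wm) (B : SLm) : SLN :=
  ⟨blk1 r B, det_eq_one_of_mul_eq_one _ _ (blk1_mul_inv r B)⟩

theorem coe_mk1 (r : Wm) (B : SLm) : ((mk1 r B : SLN) : MN) = blk1 r B := rfl

theorem mk1_mul (r r' : Wm) (B B' : SLm) :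
    mk1 r B * mk1 r' B' = mk1 (r' + r ᵥ* (B' : Mm)) (B * B') := by
  apply Subtype.ext
  rw [Matrix.SpecialLinearGroup.coe_mul, coe_mk1, coe_mk1, coe_mk1, blk1_mul,
    Matrix.SpecialLinearGroup.coe_mul]

theorem mk1_one : mk1 (0 : Wm) 1 = 1 := by
  apply Subtype.ext
  rw [coe_mk1, Matrix.SpecialLinearGroup.coe_one, Matrix.SpecialLinearGroup.coe_one, blk1_one]

theorem mk1_inj {r r' : Wm} {B B' : SLm} (h : mk1 r B = mk1 r' B') : r = r' ∧ B = B' := by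
  obtain ⟨h1, h2⟩ := blk1_inj (congrArg Subtype.val h)
  exact ⟨h1, Subtype.ext h2⟩

theorem mk1_inv (r : Wm) (B : SLm) :
    (mk1 r B)⁻¹ = mk1 (r ᵥ* ((B⁻¹ : SLm) : Mm)) B⁻¹ := by
  apply inv_eq_of_mul_eq_one_right
  apply Subtype.ext
  rw [Matrix.SpecialLinearGroup.coe_mul, coe_mk1, coe_mk1, blk1_mul_inv,
    Matrix.SpecialLinearGroup.coe_one]

/-- the translation subgroup. -/
def U1 : Subgroup SLN where
  carrier := {g | ∃ r : Wm, g = mk1 r 1}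
  mul_mem' := by
    rintro _ _ ⟨r, rfl⟩ ⟨r', rfl⟩
    exact ⟨_, by rw [mk1_mul, mul_one]⟩
  one_mem' := ⟨0, mk1_one.symm⟩
  inv_mem' := by
    rintro _ ⟨r, rfl⟩
    exact ⟨_, by rw [mk1_inv, inv_one]⟩

/-- the complement. -/
def M1 : Subgroup SLN where
  carrier := {g | ∃ B : SLm, g = mk1 0 B}
  mul_mem' := by
    rintro _ _ ⟨B, rfl⟩ ⟨B', rfl⟩
    refine ⟨B * B', ?_⟩
    rw [mk1_mul]
    simp
  one_mem' := ⟨1, mk1_one.symm⟩
  inv_mem' := by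
    rintro _ ⟨B, rfl⟩
    refine ⟨B⁻¹, ?_⟩
    rw [mk1_inv]
    simp

theorem mk1_U_mul (r r' : Wm) : mk1 r (1 : SLm) * mk1 r' 1 = mk1 (r + r') 1 := by
  rw [mk1_mul, mul_one]
  congr 1
  simp [add_comm]

theorem conj_M1_U1 (B : SLm) (r : Wm) :
    mk1 0 B * mk1 r 1 * (mk1 0 B)⁻¹ = mk1 (r ᵥ* ((B⁻¹ : SLm) : Mm)) 1 := by
  rw [mk1_inv, mk1_mul, mk1_mul]
  simp

theorem U1_inf_M1 : (U1 : Subgroup SLN) ⊓ M1 = ⊥ := by
  rw [eq_bot_iff]
  rintro x ⟨⟨r, rfl⟩, ⟨B, hB⟩⟩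
  obtain ⟨h1, h2⟩ := mk1_inj hB
  rw [Subgroup.mem_bot, h1, mk1_one]

theorem mk1_mem_sup (r : Wm) (B : SLm) : mk1 r B ∈ (U1 : Subgroup SLN) ⊔ M1 := by
  have : mk1 r B = mk1 (r ᵥ* ((B⁻¹ : SLm) : Mm)) 1 * mk1 0 B := by
    rw [mk1_mul, Matrix.vecMul_vecMul, slm_inv_mul]
    simp
  rw [this]
  exact Subgroup.mul_mem _ (Subgroup.mem_sup_left ⟨_, rfl⟩) (Subgroup.mem_sup_right ⟨_, rfl⟩)

theorem eq_blk1_of (g : MN) (h0 : ∀ i, i ≠ 0 → g i 0 = 0) (h00 : g 0 0 = 1) :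
    g = blk1 (fun j => g 0 j.succ) (fun i j => g i.succ j.succ) := by
  ext i j
  refine Fin.cases ?_ (fun i' => ?_) i <;> refine Fin.cases ?_ (fun j' => ?_) j
  · exact h00
  · rfl
  · exact h0 _ (Fin.succ_ne_zero _)
  · rfl

/-- an element of `SL(n+2,2)` fixing the first basis vector, together with its inverse, is a
`mk1`. -/
theorem eq_mk1_of (g : SLN) (h0 : ∀ i, i ≠ 0 → (g : MN) i 0 = 0) (h00 : (g : MN) 0 0 = 1)
    (h0' : ∀ i, i ≠ 0 → ((g⁻¹ : SLN) : MN) i 0 = 0) (h00' : ((g⁻¹ : SLN) : MN) 0 0 = 1) :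
    ∃ (r : Wm) (B : SLm), g = mk1 r B := by
  obtain ⟨r, B, e1⟩ : ∃ (r : Wm) (B : Mm), (g : MN) = blk1 r B := ⟨_, _, eq_blk1_of _ h0 h00⟩
  obtain ⟨r', B', e2⟩ : ∃ (r : Wm) (B : Mm), ((g⁻¹ : SLN) : MN) = blk1 r B :=
    ⟨_, _, eq_blk1_of _ h0' h00'⟩
  have h1 : (g : MN) * ((g⁻¹ : SLN) : MN) = 1 := by
    rw [← Matrix.SpecialLinearGroup.coe_mul, mul_inv_cancel, Matrix.SpecialLinearGroup.coe_one]
  rw [e1, e2, blk1_mul, ← blk1_one] at h1
  obtain ⟨-, h2⟩ := blk1_inj h1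
  refine ⟨r, ⟨B, det_eq_one_of_mul_eq_one _ _ h2⟩, ?_⟩
  apply Subtype.ext
  exact e1

theorem mk_mem_sup (a b : Fin n → ZMod 2) (c : ZMod 2) (A : SLn) :
    mk a b c A ∈ (U1 : Subgroup SLN) ⊔ M1 := by
  have hcol : ∀ (a b : Fin n → ZMod 2) (c : ZMod 2) (A : SLn),
      (∀ i, i ≠ 0 → ((mk a b c A : SLN) : MN) i 0 = 0) ∧ ((mk a b c A : SLN) : MN) 0 0 = 1 := by
    intro a b c A
    refine ⟨fun i hi => ?_, rfl⟩
    induction i using cases3 with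
    | h0 => exact absurd rfl hi
    | h1 => rfl
    | h2 k => rfl
  obtain ⟨h0, h00⟩ := hcol a b c A
  have hinv := mk_inv a b c A
  obtain ⟨h0', h00'⟩ := hcol (a ᵥ* ((A⁻¹ : SLn) : Matrix (Fin n) (Fin n) (ZMod 2)))
    (((A⁻¹ : SLn) : Matrix (Fin n) (Fin n) (ZMod 2)) *ᵥ b)
    (c + a ⬝ᵥ (((A⁻¹ : SLn) : Matrix (Fin n) (Fin n) (ZMod 2)) *ᵥ b)) A⁻¹
  rw [← hinv] at h0' h00'
  obtain ⟨r, B, e⟩ := eq_mk1_of _ h0 h00 h0' h00'
  rw [e]
  exact mk1_mem_sup r B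

theorem zz_eq_mk1 : (zz : SLN) = mk1 (Pi.single 0 1) 1 := by
  apply Subtype.ext
  rw [zz, coe_mk, coe_mk1, Matrix.SpecialLinearGroup.coe_one, Matrix.SpecialLinearGroup.coe_one]
  ext i j
  induction i using cases3 with
  | h0 =>
    induction j using cases3 with
    | h0 => rfl
    | h1 => rfl
    | h2 k =>
      show (0 : ZMod 2) = (Pi.single 0 1 : Wm) k.succ
      rw [Pi.single_eq_of_ne (Fin.succ_ne_zero k)]
  | h1 =>
    induction j using cases3 with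
    | h0 => rfl
    | h1 => rfl
    | h2 k =>
      show (0 : ZMod 2) = (1 : Mm) 0 k.succ
      rw [Matrix.one_apply_ne (Fin.succ_ne_zero k).symm]
  | h2 i =>
    induction j using cases3 with
    | h0 => rfl
    | h1 =>
      show (0 : ZMod 2) = (1 : Mm) i.succ 0
      rw [Matrix.one_apply_ne (Fin.succ_ne_zero i)]
    | h2 k =>
      show (1 : Matrix (Fin n) (Fin n) (ZMod 2)) i k = (1 : Mm) i.succ k.succ
      rw [Matrix.one_apply, Matrix.one_apply]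
      simp

end Cfsg.Agent.Helper4.TransvC
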