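import Mathlib
import Cfsg.Agent.Helper4.TransvP1
import Cfsg.Agent.Helper4.HolIso

set_option autoImplicit false

/-!
Helper library (helper4): the complement `M1` normalises the translation subgroup `U1` of the
vector stabiliser in `SL(n+2, 2)`, acts faithfully on it and induces all its automorphisms.
-/

namespace Cfsg.Agent.Helper4.TransvC

open Matrix

variable {n : ℕ}

local notation "SLm" => Matrix.SpecialLinearGroup (Fin (n + 1)) (ZMod 2)
local notation "SLN" => Matrix.SpecialLinearGroup (Fin (n + 2)) (ZMod 2)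
local notation "MN" => Matrix (Fin (n + 2)) (Fin (n + 2)) (ZMod 2)
local notation "Mm" => Matrix (Fin (n + 1)) (Fin (n + 1)) (ZMod 2)
local notation "Wm" => Fin (n + 1) → ZMod 2

/-- the first row without its first entry. -/
def coord (g : SLN) : Wm := fun j => (g : MN) 0 j.succ

theorem coord_mk1 (r : Wm) (B : SLm) : coord (mk1 r B) = r := rfl

/-- the translation by `r` as an element of the subgroup. -/
def rho (r : Wm) : ↥(U1 : Subgroup SLN) := ⟨mk1 r 1, ⟨r, rfl⟩⟩

theorem rho_coord (u : ↥(U1 : Subgroup SLN)) : rho (coord (u : SLN)) = u := by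
  obtain ⟨_, r, rfl⟩ := u
  rfl

theorem coord_rho (r : Wm) : coord ((rho r : ↥(U1 : Subgroup SLN)) : SLN) = r := rfl

theorem rho_add (r r' : Wm) : rho (r + r') = rho r * rho r' := by
  apply Subtype.ext
  show mk1 (r + r') 1 = mk1 r 1 * mk1 r' 1
  rw [mk1_U_mul]

theorem coord_mul (u v : ↥(U1 : Subgroup SLN)) :
    coord ((u * v : ↥(U1 : Subgroup SLN)) : SLN) = coord (u : SLN) + coord (v : SLN) := by
  obtain ⟨_, r, rfl⟩ := u
  obtain ⟨_, r', rfl⟩ := v
  show coord (mk1 r 1 * mk1 r' 1) = _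
  rw [mk1_U_mul]
  rfl

/-- the additive map induced by an automorphism of the translation subgroup. -/
def autAdd (φ : ↥(U1 : Subgroup SLN) ≃* ↥(U1 : Subgroup SLN)) : Wm →+ Wm where
  toFun r := coord ((φ (rho r) : ↥(U1 : Subgroup SLN)) : SLN)
  map_zero' := by
    have : (rho (0 : Wm) : ↥(U1 : Subgroup SLN)) = 1 := Subtype.ext mk1_one
    rw [this, map_one]
    show coord (1 : SLN) = 0
    rw [← mk1_one]
    rfl
  map_add' r r' := by
    rw [rho_add, map_mul, coord_mul]

theorem autAdd_comp (φ : ↥(U1 : Subgroup SLN) ≃* ↥(U1 : Subgroup SLN)) (r : Wm) :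
    autAdd φ (autAdd φ.symm r) = r := by
  show coord ((φ (rho (coord ((φ.symm (rho r) : ↥(U1 : Subgroup SLN)) : SLN))) :
    ↥(U1 : Subgroup SLN)) : SLN) = r
  rw [rho_coord, MulEquiv.apply_symm_apply]
  rfl

theorem act_U1_M1 : HolIso.Act (U1 : Subgroup SLN) M1 where
  norm := by
    rintro _ ⟨B, rfl⟩ _ ⟨r, rfl⟩
    rw [conj_M1_U1]
    exact ⟨_, rfl⟩
  faith := by
    rintro _ ⟨B, rfl⟩ h
    have h1 : (B⁻¹ : SLm) = 1 := by
      apply Subtype.ext
      rw [Matrix.SpecialLinearGroup.coe_one]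
      ext i j
      have h2 := h (mk1 (Pi.single i 1) 1) ⟨_, rfl⟩
      rw [conj_M1_U1] at h2
      have h3 := congrFun (mk1_inj h2).1 j
      rw [Matrix.single_one_vecMul] at h3
      rw [Matrix.one_apply]
      simpa [Pi.single_apply, eq_comm] using h3
    rw [inv_eq_one] at h1
    rw [h1, mk1_one]
  full := by
    intro φ
    let fL : Wm →ₗ[ZMod 2] Wm := AddMonoidHom.toZModLinearMap 2 (autAdd φ)
    let fL' : Wm →ₗ[ZMod 2] Wm := AddMonoidHom.toZModLinearMap 2 (autAdd φ.symm)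
    have hcomp : fL ∘ₗ fL' = LinearMap.id := by
      apply LinearMap.ext
      intro r
      show autAdd φ (autAdd φ.symm r) = r
      exact autAdd_comp φ r
    have hFF' : LinearMap.toMatrix' fL * LinearMap.toMatrix' fL' = 1 := by
      rw [← LinearMap.toMatrix'_comp, hcomp, LinearMap.toMatrix'_id]
    have hF'F : LinearMap.toMatrix' fL' * LinearMap.toMatrix' fL = 1 :=
      mul_eq_one_comm.mp hFF'
    have h1 : (LinearMap.toMatrix' fL')ᵀ * (LinearMap.toMatrix' fL)ᵀ = 1 := by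
      rw [← Matrix.transpose_mul, hFF', Matrix.transpose_one]
    have h2 : (LinearMap.toMatrix' fL)ᵀ * (LinearMap.toMatrix' fL')ᵀ = 1 := by
      rw [← Matrix.transpose_mul, hF'F, Matrix.transpose_one]
    let B : SLm := ⟨(LinearMap.toMatrix' fL')ᵀ, det_eq_one_of_mul_eq_one _ _ h1⟩
    let B' : SLm := ⟨(LinearMap.toMatrix' fL)ᵀ, det_eq_one_of_mul_eq_one _ _ h2⟩
    have hinv : B⁻¹ = B' := by
      apply inv_eq_of_mul_eq_one_right
      apply Subtype.ext
      rw [Matrix.SpecialLinearGroup.coe_mul, Matrix.SpecialLinearGroup.coe_one]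
      exact h1
    refine ⟨mk1 0 B, ⟨B, rfl⟩, ?_⟩
    intro u
    obtain ⟨_, r, rfl⟩ := u
    show ((φ (rho r) : ↥(U1 : Subgroup SLN)) : SLN) = mk1 0 B * mk1 r 1 * (mk1 0 B)⁻¹
    rw [conj_M1_U1, hinv]
    have h3 : r ᵥ* ((B' : SLm) : Mm) = coord ((φ (rho r) : ↥(U1 : Subgroup SLN)) : SLN) := by
      show r ᵥ* (LinearMap.toMatrix' fL)ᵀ = _
      rw [Matrix.vecMul_transpose, LinearMap.toMatrix'_mulVec]
      rfl
    rw [h3]
    exact (congrArg Subtype.val (rho_coord (φ (rho r)))).symm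

end Cfsg.Agent.Helper4.TransvC
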