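import Mathlib
import Cfsg.Agent.Helper4.TransvP1Act
import Cfsg.Agent.Helper4.LxDataComap
import Cfsg.Agent.Helper4.F2Coord

set_option autoImplicit false

/-!
Helper library (helper4): the centralizer of an involution of the translation subgroup in the
affine group `2^(n+1) : GL(n+1, 2)`, given abstractly as a split extension of an elementary
abelian group by its full automorphism group: transport to the stabiliser of a vector in
`SL(n+2, 2)`.
-/

namespace Cfsg.Agent.Helper4.AffGL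

open Cfsg Matrix
open Cfsg.Agent.Helper4.TransvC

/-- over the field with two elements the special and the general linear group coincide. -/
noncomputable def slEquivGL (n : ℕ) :
    Matrix.SpecialLinearGroup (Fin n) (ZMod 2) ≃* Matrix.GeneralLinearGroup (Fin n) (ZMod 2) :=
  MulEquiv.ofBijective Matrix.SpecialLinearGroup.toGL (by
    refine ⟨Matrix.SpecialLinearGroup.toGL_injective, fun g => ?_⟩
    have hdet : (g : Matrix (Fin n) (Fin n) (ZMod 2)).det = 1 := by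
      have h1 : Matrix.GeneralLinearGroup.det g = 1 := Subsingleton.elim _ _
      have := congrArg Units.val h1
      simpa using this
    refine ⟨⟨(g : Matrix (Fin n) (Fin n) (ZMod 2)), hdet⟩, ?_⟩
    apply Units.ext
    rfl)

/-- a subgroup of order two is generated by an involution, which has the same centralizer. -/
theorem exists_gen_of_card_two {G : Type*} [Group G] (Z : Subgroup G) (hZ : Nat.card ↥Z = 2) :
    ∃ z ∈ Z, z ≠ 1 ∧ Subgroup.centralizer (Z : Set G) = Subgroup.centralizer ({z} : Set G) := by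
  have : Fact (Nat.Prime 2) := ⟨by norm_num⟩
  have hne : Z ≠ ⊥ := by
    intro h
    rw [h, Subgroup.card_bot] at hZ
    omega
  obtain ⟨⟨z, hzZ⟩, hz1'⟩ := Subgroup.ne_bot_iff_exists_ne_one.mp hne
  have hz1 : z ≠ 1 := fun h => hz1' (Subtype.ext h)
  refine ⟨z, hzZ, hz1, ?_⟩
  have htop : Subgroup.zpowers (⟨z, hzZ⟩ : ↥Z) = ⊤ :=
    zpowers_eq_top_of_prime_card hZ (fun h => hz1 (congrArg Subtype.val h))
  apply le_antisymm
  · exact Subgroup.centralizer_le (Set.singleton_subset_iff.mpr hzZ)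
  · intro g hg x hx
    have hgz : z * g = g * z := Subgroup.mem_centralizer_iff.mp hg z (Set.mem_singleton z)
    have : (⟨x, hx⟩ : ↥Z) ∈ Subgroup.zpowers (⟨z, hzZ⟩ : ↥Z) := by rw [htop]; trivial
    obtain ⟨k, hk⟩ := Subgroup.mem_zpowers_iff.mp this
    have hxk : x = z ^ k := by
      have := congrArg Subtype.val hk
      simpa using this.symm
    rw [hxk]
    exact ((Commute.zpow_left (show Commute z g from hgz) k)).eq

/-- the vector group is the translation subgroup. -/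
noncomputable def rhoEquiv (n : ℕ) : Multiplicative (Fin (n + 1) → ZMod 2) ≃*
    ↥(U1 : Subgroup (Matrix.SpecialLinearGroup (Fin (n + 2)) (ZMod 2))) where
  toFun w := rho (Multiplicative.toAdd w)
  invFun u := Multiplicative.ofAdd (coord (u : Matrix.SpecialLinearGroup (Fin (n + 2)) (ZMod 2)))
  left_inv w := by
    show Multiplicative.ofAdd (coord ((rho (Multiplicative.toAdd w) :
      ↥(U1 : Subgroup (Matrix.SpecialLinearGroup (Fin (n + 2)) (ZMod 2)))) :
        Matrix.SpecialLinearGroup (Fin (n + 2)) (ZMod 2))) = w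
    rw [coord_rho]
    rfl
  right_inv u := rho_coord u
  map_mul' w w' := by
    show rho (Multiplicative.toAdd (w * w')) = _
    rw [toAdd_mul, rho_add]

/-- the general statement with the centralizer of the involution named `C`. -/
theorem main' {G : Type*} [Group G] [Finite G] (n : ℕ) (hn : 1 ≤ n) (U M : Subgroup G)
    [U.Normal] (hU : Cfsg.IsElementaryAbelian 2 U) (hUcard : Nat.card ↥U = 2 ^ (n + 1))
    (hUM : U ⊓ M = ⊥) (hUM' : U ⊔ M = ⊤)
    (hfaith : ∀ m ∈ M, (∀ u ∈ U, m * u * m⁻¹ = u) → m = 1)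
    (hfull : ∀ φ : ↥U ≃* ↥U, ∃ m ∈ M, ∀ u : ↥U, ((φ u : ↥U) : G) = m * u * m⁻¹)
    (z : G) (hzU : z ∈ U) (hz1 : z ≠ 1) (C : Subgroup G)
    (hC : C = Subgroup.centralizer ({z} : Set G)) (Q : Subgroup G)
    (hQ : Q = (Cfsg.pCore 2 ↥C).map C.subtype) :
    Cfsg.IsExtraspecial 2 ↥Q ∧ Nat.card ↥Q = 2 ^ (2 * n + 1) ∧
      (∃ E : Subgroup G, E ≤ Q ∧ Cfsg.IsElementaryAbelian 2 E ∧ Nat.card ↥E = 2 ^ (n + 1)) ∧
      Cfsg.IsLargeExtraspecial Q ∧
      ∃ K : Subgroup G, K ≤ C ∧ Q ⊓ K = ⊥ ∧ Q ⊔ K = C ∧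
        Nonempty (↥K ≃* Matrix.GeneralLinearGroup (Fin n) (ZMod 2)) := by
  classical
  subst hC
  have hol : HolIso.Hol U M := ⟨inferInstance, hUM, hUM', hfaith, hfull⟩
  have hcomm : ∀ x y : ↥U, x * y = y * x := by
    have := hU.1
    exact fun x y => mul_comm' x y
  have hexp : ∀ x : ↥U, x ^ 2 = 1 := fun x => Subtype.ext (by simpa using hU.2 x x.2)
  obtain ⟨θ₀, hθ₀⟩ := F2Coord.exists_theta (n := n) ↥U hcomm hexp hUcard ⟨z, hzU⟩
    (fun h => hz1 (congrArg Subtype.val h))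
  let θ : ↥U ≃* ↥(U1 : Subgroup (Matrix.SpecialLinearGroup (Fin (n + 2)) (ZMod 2))) :=
    θ₀.trans (rhoEquiv n)
  have hθz : ((θ ⟨z, hzU⟩ : ↥(U1 : Subgroup (Matrix.SpecialLinearGroup (Fin (n + 2)) (ZMod 2)))) :
      Matrix.SpecialLinearGroup (Fin (n + 2)) (ZMod 2)) = zz := by
    show ((rho (Multiplicative.toAdd (θ₀ ⟨z, hzU⟩)) :
      ↥(U1 : Subgroup (Matrix.SpecialLinearGroup (Fin (n + 2)) (ZMod 2)))) :
        Matrix.SpecialLinearGroup (Fin (n + 2)) (ZMod 2)) = zz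
    rw [hθ₀]
    exact zz_eq_mk1.symm
  obtain ⟨Φ, hΦinj, hΦU, hU1, hM1⟩ := HolIso.exists_emb hol act_U1_M1 U1_inf_M1 θ
  have hΦz : Φ z = zz := by
    rw [← hθz]
    exact hΦU ⟨z, hzU⟩
  have hsup : (U1 : Subgroup (Matrix.SpecialLinearGroup (Fin (n + 2)) (ZMod 2))) ⊔ M1 ≤ Φ.range :=
    sup_le hU1 hM1
  have hQs : (Qs : Subgroup (Matrix.SpecialLinearGroup (Fin (n + 2)) (ZMod 2))) ≤ Φ.range := by
    rintro _ ⟨a, b, c, rfl⟩
    exact hsup (mk_mem_sup a b c 1)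
  have hKs : (Ks : Subgroup (Matrix.SpecialLinearGroup (Fin (n + 2)) (ZMod 2))) ≤ Φ.range := by
    intro x hx
    obtain ⟨A, rfl⟩ := mem_Ks.mp hx
    exact hsup (mk_mem_sup 0 0 0 A)
  obtain ⟨b, hb⟩ : ∃ b : G, Φ b = bb (⟨0, hn⟩ : Fin n) := hQs ⟨_, _, _, rfl⟩
  have hdata : LxData.Data n (Φ z) Qs Ks Es (Φ b) := by
    rw [hΦz, hb]
    exact data hn
  have hd := LxData.Data.comap Φ hΦinj hdata hQs hKs
  have isoK : Nonempty (↥((Ks : Subgroup (Matrix.SpecialLinearGroup (Fin (n + 2)) (ZMod 2))).comap Φ)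
      ≃* Matrix.GeneralLinearGroup (Fin n) (ZMod 2)) :=
    ⟨(LxData.comapEquiv Φ hΦinj Ks hKs).trans
      ((MonoidHom.ofInjective ιK_injective).symm.trans (slEquivGL n))⟩
  exact hd.main isoK Q hQ

/-- the centralizer of a subgroup of order two of the translation subgroup of the affine group
`2^(n+1) : GL(n+1, 2)`. -/
theorem main {G : Type*} [Group G] [Finite G] (n : ℕ) (hn : 1 ≤ n) (U M : Subgroup G)
    [U.Normal] (hU : Cfsg.IsElementaryAbelian 2 U) (hUcard : Nat.card ↥U = 2 ^ (n + 1))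
    (hUM : U ⊓ M = ⊥) (hUM' : U ⊔ M = ⊤)
    (hfaith : ∀ m ∈ M, (∀ u ∈ U, m * u * m⁻¹ = u) → m = 1)
    (hfull : ∀ φ : ↥U ≃* ↥U, ∃ m ∈ M, ∀ u : ↥U, ((φ u : ↥U) : G) = m * u * m⁻¹)
    (Z : Subgroup G) (hZU : Z ≤ U) (hZ : Nat.card ↥Z = 2) (Q : Subgroup G)
    (hQ : Q = (Cfsg.pCore 2 ↥(Subgroup.centralizer (Z : Set G))).map
      (Subgroup.centralizer (Z : Set G)).subtype) :
    Cfsg.IsExtraspecial 2 ↥Q ∧ Nat.card ↥Q = 2 ^ (2 * n + 1) ∧
      (∃ E : Subgroup G, E ≤ Q ∧ Cfsg.IsElementaryAbelian 2 E ∧ Nat.card ↥E = 2 ^ (n + 1)) ∧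
      Cfsg.IsLargeExtraspecial Q ∧
      ∃ K : Subgroup G, K ≤ Subgroup.centralizer (Z : Set G) ∧ Q ⊓ K = ⊥ ∧
        Q ⊔ K = Subgroup.centralizer (Z : Set G) ∧
        Nonempty (↥K ≃* Matrix.GeneralLinearGroup (Fin n) (ZMod 2)) := by
  obtain ⟨z, hzZ, hz1, hcent⟩ := exists_gen_of_card_two Z hZ
  exact main' n hn U M hU hUcard hUM hUM' hfaith hfull z (hZU hzZ) hz1 _ hcent Q hQ

end Cfsg.Agent.Helper4.AffGL
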