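import Mathlib

set_option autoImplicit false

namespace Cfsg.Agent.Helper4

open Matrix

universe u

/-- the affine group `F^{2×n} ⋊ SL(2,F)` -/
structure AffSL (n : ℕ) (F : Type u) [Field F] where
  lin : Matrix.SpecialLinearGroup (Fin 2) F
  tr : Matrix (Fin 2) (Fin n) F

namespace AffSL

variable {n : ℕ} {F : Type u} [Field F]

theorem ext' {a b : AffSL n F} (h1 : a.lin = b.lin) (h2 : a.tr = b.tr) : a = b := by
  cases a; cases b; simp only at h1 h2; rw [h1, h2]

instance instMulAffSL : Mul (AffSL n F) := ⟨fun a b => ⟨a.lin * b.lin, a.tr + a.lin.val * b.tr⟩⟩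
instance instOneAffSL : One (AffSL n F) := ⟨⟨1, 0⟩⟩
instance instInvAffSL : Inv (AffSL n F) := ⟨fun a => ⟨a.lin⁻¹, -(a.lin⁻¹.val * a.tr)⟩⟩

@[simp] theorem mul_lin (a b : AffSL n F) : (a * b).lin = a.lin * b.lin := rfl
@[simp] theorem mul_tr (a b : AffSL n F) : (a * b).tr = a.tr + a.lin.val * b.tr := rfl
@[simp] theorem one_lin : (1 : AffSL n F).lin = 1 := rfl
@[simp] theorem one_tr : (1 : AffSL n F).tr = 0 := rfl
@[simp] theorem inv_lin (a : AffSL n F) : (a⁻¹).lin = a.lin⁻¹ := rfl
@[simp] theorem inv_tr (a : AffSL n F) : (a⁻¹).tr = -(a.lin⁻¹.val * a.tr) := rfl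

instance instGroupAffSL : Group (AffSL n F) :=
  Group.ofLeftAxioms
    (fun a b c => by
      apply ext'
      · simp only [mul_lin, mul_assoc]
      · simp only [mul_tr, mul_lin, Matrix.SpecialLinearGroup.coe_mul, Matrix.mul_add,
          Matrix.mul_assoc, add_assoc])
    (fun a => by
      apply ext'
      · simp only [mul_lin, one_lin, one_mul]
      · simp only [mul_tr, one_tr, one_lin, Matrix.SpecialLinearGroup.coe_one, Matrix.one_mul,
          zero_add])
    (fun a => by
      apply ext'
      · simp only [mul_lin, inv_lin, one_lin, inv_mul_cancel]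
      · simp only [mul_tr, inv_tr, inv_lin, one_tr, neg_add_cancel])

/-- projection onto the linear part -/
def proj : AffSL n F →* Matrix.SpecialLinearGroup (Fin 2) F where
  toFun a := a.lin
  map_one' := rfl
  map_mul' _ _ := rfl

/-- inclusion of the linear part -/
def incl : Matrix.SpecialLinearGroup (Fin 2) F →* AffSL n F where
  toFun s := ⟨s, 0⟩
  map_one' := rfl
  map_mul' s t := by
    apply ext'
    · rfl
    · simp only [mul_tr, Matrix.mul_zero, add_zero]

@[simp] theorem proj_apply (a : AffSL n F) : proj a = a.lin := rfl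

theorem incl_injective : Function.Injective (incl : _ →* AffSL n F) := by
  intro s t h
  have := congrArg AffSL.lin h
  exact this

/-- equivalence with the product -/
def equivProd : AffSL n F ≃ Matrix.SpecialLinearGroup (Fin 2) F × Matrix (Fin 2) (Fin n) F where
  toFun a := (a.lin, a.tr)
  invFun x := ⟨x.1, x.2⟩
  left_inv a := by cases a; rfl
  right_inv x := by cases x; rfl

instance instFiniteAffSL [Finite F] : Finite (AffSL n F) := by
  classical
  haveI : Fintype F := Fintype.ofFinite F
  exact Finite.of_equiv _ (equivProd (n := n) (F := F)).symm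

theorem card_eq [Finite F] : Nat.card (AffSL n F) =
    Nat.card (Matrix.SpecialLinearGroup (Fin 2) F) * (Nat.card F ^ n) ^ 2 := by
  classical
  haveI : Fintype F := Fintype.ofFinite F
  rw [Nat.card_congr (equivProd (n := n) (F := F)), Nat.card_prod]
  congr 1
  show Nat.card (Fin 2 → Fin n → F) = _
  rw [Nat.card_fun, Nat.card_fun, Nat.card_fin, Nat.card_fin]

theorem pow_lin (a : AffSL n F) (k : ℕ) : (a ^ k).lin = a.lin ^ k := map_pow proj a k

theorem pow_tr (a : AffSL n F) (k : ℕ) :
    (a ^ k).tr = (∑ i ∈ Finset.range k, a.lin.val ^ i) * a.tr := by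
  induction k with
  | zero => simp
  | succ k ih =>
    rw [pow_succ, mul_tr, ih, pow_lin, Finset.sum_range_succ, Matrix.add_mul,
      Matrix.SpecialLinearGroup.coe_pow]

end AffSL

end Cfsg.Agent.Helper4
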