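import Cfsg.Agent.Helper4.AffSLA

set_option autoImplicit false

namespace Cfsg.Agent.Helper4

open Matrix

universe u

section

variable {F : Type u} [Field F] [CharP F 2]

theorem two_eq_zero_F : (2 : F) = 0 := by
  have := CharP.cast_eq_zero F 2
  exact_mod_cast this

/-- In characteristic 2 an element of `SL(2,F)` of trace zero squares to one. -/
theorem sl2_sq_eq_one_of_trace_zero (s : Matrix.SpecialLinearGroup (Fin 2) F)
    (ht : s.val 0 0 + s.val 1 1 = 0) : s ^ 2 = 1 := by
  have h2 : (2 : F) = 0 := two_eq_zero_F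
  have hdet : s.val 0 0 * s.val 1 1 - s.val 0 1 * s.val 1 0 = 1 := by
    have := s.prop
    rwa [Matrix.det_fin_two] at this
  apply Subtype.ext
  rw [Matrix.SpecialLinearGroup.coe_pow, Matrix.SpecialLinearGroup.coe_one, pow_two]
  ext i j
  fin_cases i <;> fin_cases j <;>
    simp only [Matrix.mul_apply, Fin.sum_univ_two, Fin.zero_eta, Fin.mk_one, Matrix.one_apply_eq,
      Fin.isValue, ne_eq, zero_ne_one, one_ne_zero, not_false_eq_true, Matrix.one_apply_ne]
  · linear_combination (s.val 0 0) * ht - hdet - h2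
  · linear_combination (s.val 0 1) * ht
  · linear_combination (s.val 1 0) * ht
  · linear_combination (s.val 1 1) * ht - hdet - h2

/-- `det (s - 1) = trace s` in characteristic two -/
theorem sl2_det_sub_one (s : Matrix.SpecialLinearGroup (Fin 2) F) :
    (s.val - 1).det = s.val 0 0 + s.val 1 1 := by
  have h2 : (2 : F) = 0 := two_eq_zero_F
  have hdet : s.val 0 0 * s.val 1 1 - s.val 0 1 * s.val 1 0 = 1 := by
    have := s.prop
    rwa [Matrix.det_fin_two] at this
  rw [Matrix.det_fin_two]
  simp only [Matrix.sub_apply, Matrix.one_apply_eq, Fin.isValue, ne_eq, zero_ne_one,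
    one_ne_zero, not_false_eq_true, Matrix.one_apply_ne, sub_zero]
  linear_combination hdet + (1 - s.val 0 0 - s.val 1 1) * h2

/-- an element of odd prime order in `SL(2,F)`, char 2, has vanishing geometric sum -/
theorem sl2_geom_sum_eq_zero (s : Matrix.SpecialLinearGroup (Fin 2) F) (p : ℕ) (hp : p.Prime)
    (hp2 : p ≠ 2) (hs : orderOf s = p) :
    (∑ i ∈ Finset.range p, s.val ^ i) = 0 := by
  have htr : s.val 0 0 + s.val 1 1 ≠ 0 := by
    intro ht
    have h1 := sl2_sq_eq_one_of_trace_zero s ht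
    have h3 : orderOf s ∣ 2 := orderOf_dvd_of_pow_eq_one h1
    rw [hs] at h3
    exact hp2 ((Nat.prime_dvd_prime_iff_eq hp Nat.prime_two).1 h3)
  have hunit : IsUnit (s.val - 1) := by
    rw [Matrix.isUnit_iff_isUnit_det, sl2_det_sub_one]
    exact isUnit_iff_ne_zero.2 htr
  have hgeom := geom_sum_mul s.val p
  have hsp : s.val ^ p = 1 := by
    have := pow_orderOf_eq_one s
    rw [hs] at this
    have h' := congrArg Subtype.val this
    rwa [Matrix.SpecialLinearGroup.coe_pow, Matrix.SpecialLinearGroup.coe_one] at h'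
  rw [hsp, sub_self] at hgeom
  exact (hunit.mul_left_eq_zero).1 hgeom

variable {n : ℕ}

/-- an element of the affine group with trivial linear part squares to one -/
theorem affSL_sq_eq_one_of_lin_eq_one (g : AffSL n F) (hg : g.lin = 1) : g ^ 2 = 1 := by
  have h2 : (2 : F) = 0 := two_eq_zero_F
  apply AffSL.ext'
  · rw [AffSL.pow_lin, hg, one_pow]; rfl
  · rw [pow_two, AffSL.mul_tr, hg, Matrix.SpecialLinearGroup.coe_one, Matrix.one_mul]
    show g.tr + g.tr = 0
    ext i j
    simp only [Matrix.add_apply, Matrix.zero_apply]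
    linear_combination (g.tr i j) * h2

/-- an element whose linear part has odd prime order `p` has order dividing `p` -/
theorem affSL_pow_eq_one (g : AffSL n F) (p : ℕ) (hp : p.Prime) (hp2 : p ≠ 2)
    (hs : orderOf g.lin = p) : g ^ p = 1 := by
  apply AffSL.ext'
  · rw [AffSL.pow_lin, ← hs, pow_orderOf_eq_one]; rfl
  · rw [AffSL.pow_tr, sl2_geom_sum_eq_zero g.lin p hp hp2 hs, Matrix.zero_mul]; rfl

theorem six_le_mul_of_primes {p q : ℕ} (hp : p.Prime) (hq : q.Prime) (hpq : p ≠ q) :
    6 ≤ p * q := by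
  have h1 := hp.two_le
  have h2 := hq.two_le
  rcases Nat.lt_or_ge p 3 with h | h
  · have : p = 2 := by omega
    have : 3 ≤ q := by omega
    nlinarith
  · nlinarith

/-- key: an element of order `p * q` cannot have linear part of order `p` -/
theorem affSL_key (g : AffSL n F) (p q : ℕ) (hp : p.Prime) (hq : q.Prime) (hpq : p ≠ q)
    (hg : orderOf g = p * q) (hs : orderOf g.lin = p) : False := by
  have h1 : (g ^ p).lin = 1 := by
    rw [AffSL.pow_lin, ← hs, pow_orderOf_eq_one]
  have h2 := affSL_sq_eq_one_of_lin_eq_one (g ^ p) h1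
  rw [← pow_mul] at h2
  have h3 : p * q ∣ p * 2 := hg ▸ orderOf_dvd_of_pow_eq_one h2
  have h4 : q ∣ 2 := Nat.dvd_of_mul_dvd_mul_left hp.pos h3
  have hq2 : q = 2 := (Nat.prime_dvd_prime_iff_eq hq Nat.prime_two).1 h4
  have hp2 : p ≠ 2 := fun h => hpq (h.trans hq2.symm)
  have h5 := affSL_pow_eq_one g p hp hp2 hs
  have h6 : p * q ∣ p := hg ▸ orderOf_dvd_of_pow_eq_one h5
  have h7 : p * q ∣ p * 1 := by rwa [mul_one]
  have h8 : q ∣ 1 := Nat.dvd_of_mul_dvd_mul_left hp.pos h7
  exact hq.one_lt.ne' (Nat.dvd_one.1 h8)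

/-- an element of order `p * q` in the affine group has linear part of order `p * q` -/
theorem affSL_orderOf_lin (g : AffSL n F) (p q : ℕ) (hp : p.Prime) (hq : q.Prime) (hpq : p ≠ q)
    (hg : orderOf g = p * q) : orderOf g.lin = p * q := by
  have hdvd : orderOf g.lin ∣ p * q := by
    have := orderOf_map_dvd (AffSL.proj (n := n) (F := F)) g
    rwa [hg] at this
  obtain ⟨a, b, ha, hb, hab⟩ := (Nat.dvd_mul).1 hdvd
  rcases (Nat.dvd_prime hp).1 ha with rfl | rfl
  · rcases (Nat.dvd_prime hq).1 hb with rfl | rfl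
    · -- order 1
      exfalso
      have h1 : g.lin = 1 := orderOf_eq_one_iff.1 (by rw [← hab])
      have h2 := affSL_sq_eq_one_of_lin_eq_one g h1
      have h3 : p * q ∣ 2 := hg ▸ orderOf_dvd_of_pow_eq_one h2
      have := Nat.le_of_dvd (by norm_num) h3
      have := six_le_mul_of_primes hp hq hpq
      omega
    · exfalso
      rw [one_mul] at hab
      rw [mul_comm] at hg
      exact affSL_key g b p hq hp (Ne.symm hpq) hg hab.symm
  · rcases (Nat.dvd_prime hq).1 hb with rfl | rfl
    · exfalso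
      rw [mul_one] at hab
      exact affSL_key g a q hp hq hpq hg hab.symm
    · exact hab.symm

end

end Cfsg.Agent.Helper4
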