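import Cfsg.Agent.Helper4.AffSLC

set_option autoImplicit false

namespace Cfsg.Agent.Helper4

open Matrix

section CH

variable {F : Type*} [CommRing F]

/-- Cayley–Hamilton for a `2 × 2` matrix of determinant one -/
theorem sl2_mul_self (s : Matrix.SpecialLinearGroup (Fin 2) F) :
    s.val * s.val = (s.val 0 0 + s.val 1 1) • s.val - 1 := by
  have hdet : s.val 0 0 * s.val 1 1 - s.val 0 1 * s.val 1 0 = 1 := by
    have := s.prop
    rwa [Matrix.det_fin_two] at this
  ext i j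
  fin_cases i <;> fin_cases j <;>
    simp only [Matrix.mul_apply, Fin.sum_univ_two, Fin.zero_eta, Fin.mk_one, Matrix.one_apply_eq,
      Fin.isValue, ne_eq, zero_ne_one, one_ne_zero, not_false_eq_true, Matrix.one_apply_ne,
      Matrix.sub_apply, Matrix.smul_apply, smul_eq_mul, sub_zero]
  · linear_combination (-1 : F) * hdet
  · ring
  · ring
  · linear_combination (-1 : F) * hdet

variable (M : Matrix (Fin 2) (Fin 2) F) (t : F) (hM : M * M = t • M - 1)

include hM in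
theorem sl2_mul_rule (a b c d : F) :
    (a • M + b • (1 : Matrix (Fin 2) (Fin 2) F)) * (c • M + d • 1) =
      (a * c * t + a * d + b * c) • M + (b * d - a * c) • 1 := by
  simp only [add_mul, mul_add, smul_mul_assoc, mul_smul_comm, mul_one, one_mul, hM, smul_sub,
    smul_smul]
  module

include hM in
theorem sl2_pow2 : M ^ 2 = t • M + (-1 : F) • 1 := by
  rw [pow_two, hM]; module

include hM in
theorem sl2_pow3 : M ^ 3 = (t ^ 2 - 1) • M + (-t) • 1 := by
  calc M ^ 3 = (t • M + (-1 : F) • 1) * ((1 : F) • M + (0 : F) • 1) := by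
        rw [pow_succ, sl2_pow2 M t hM, one_smul, zero_smul, add_zero]
    _ = _ := by
        rw [sl2_mul_rule M t hM]; congr 1 <;> congr 1 <;> ring

include hM in
theorem sl2_pow4 : M ^ 4 = (t ^ 3 - 2 * t) • M + (1 - t ^ 2) • 1 := by
  calc M ^ 4 = (t • M + (-1 : F) • 1) * (t • M + (-1 : F) • 1) := by
        rw [show 4 = 2 + 2 from rfl, pow_add, sl2_pow2 M t hM]
    _ = _ := by
        rw [sl2_mul_rule M t hM]; congr 1 <;> congr 1 <;> ring

include hM in
theorem sl2_pow7 : M ^ 7 = (t ^ 6 - 5 * t ^ 4 + 6 * t ^ 2 - 1) • M +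
    (-t ^ 5 + 4 * t ^ 3 - 3 * t) • 1 := by
  calc M ^ 7 = ((t ^ 2 - 1) • M + (-t) • 1) * ((t ^ 3 - 2 * t) • M + (1 - t ^ 2) • 1) := by
        rw [show 7 = 3 + 4 from rfl, pow_add, sl2_pow3 M t hM, sl2_pow4 M t hM]
    _ = _ := by
        rw [sl2_mul_rule M t hM]; congr 1 <;> congr 1 <;> ring

include hM in
theorem sl2_pow8 : M ^ 8 = ((t ^ 3 - 2 * t) ^ 2 * t + 2 * ((t ^ 3 - 2 * t) * (1 - t ^ 2))) • M +
    ((1 - t ^ 2) ^ 2 - (t ^ 3 - 2 * t) ^ 2) • 1 := by
  calc M ^ 8 = ((t ^ 3 - 2 * t) • M + (1 - t ^ 2) • 1) * ((t ^ 3 - 2 * t) • M + (1 - t ^ 2) • 1) := by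
        rw [show 8 = 4 + 4 from rfl, pow_add, sl2_pow4 M t hM]
    _ = _ := by
        rw [sl2_mul_rule M t hM]; congr 1 <;> congr 1 <;> ring

end CH

end Cfsg.Agent.Helper4
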