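import Cfsg.Agent.Helper4.AffSLD

set_option autoImplicit false

namespace Cfsg.Agent.Helper4

open Matrix

theorem not_mul_primes_dvd_prime_pow {p q r k : ℕ} (hp : p.Prime) (hq : q.Prime) (hpq : p ≠ q)
    (hr : r.Prime) : ¬ p * q ∣ r ^ k := by
  intro h
  have h1 : p ∣ r ^ k := (dvd_mul_right p q).trans h
  have h2 : q ∣ r ^ k := (dvd_mul_left q p).trans h
  have h3 : p = r := (Nat.prime_dvd_prime_iff_eq hp hr).1 (hp.dvd_of_dvd_pow h1)
  have h4 : q = r := (Nat.prime_dvd_prime_iff_eq hq hr).1 (hq.dvd_of_dvd_pow h2)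
  exact hpq (h3.trans h4.symm)

section F8

variable {F : Type*} [Field F] [Fintype F] [CharP F 2]

/-- every element of `SL(2, 𝔽₈)` has order dividing `2`, `7` or `9` -/
theorem sl2_F8_pow (hF : Fintype.card F = 8) (s : Matrix.SpecialLinearGroup (Fin 2) F) :
    s ^ 2 = 1 ∨ s ^ 7 = 1 ∨ s ^ 9 = 1 := by
  have h2 : (2 : F) = 0 := two_eq_zero_F
  obtain ⟨t, ht⟩ : ∃ t : F, t = s.val 0 0 + s.val 1 1 := ⟨_, rfl⟩
  have hM : s.val * s.val = t • s.val - 1 := by rw [ht]; exact sl2_mul_self s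
  by_cases ht0 : t = 0
  · left
    exact sl2_sq_eq_one_of_trace_zero s (by rw [← ht]; exact ht0)
  · right
    have ht7 : t ^ 7 = 1 := by
      have := FiniteField.pow_card_sub_one_eq_one t ht0
      rwa [hF] at this
    have h8 := sl2_pow8 s.val t hM
    have hA : (t ^ 3 - 2 * t) ^ 2 * t + 2 * ((t ^ 3 - 2 * t) * (1 - t ^ 2)) = 1 := by
      linear_combination ht7 + (-2 * t ^ 5 + 2 * t ^ 3 + (t ^ 3 - 2 * t) * (1 - t ^ 2)) * h2
    have hB : (1 - t ^ 2) ^ 2 - (t ^ 3 - 2 * t) ^ 2 = 1 + t ^ 4 + t ^ 6 := by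
      linear_combination (-t ^ 2 - t ^ 6 + 2 * t ^ 4 - 2 * t ^ 2) * h2
    rw [hA, hB, one_smul] at h8
    have hc : (1 + t ^ 4 + t ^ 6) * (1 + t ^ 4 + t ^ 6 + t) = 0 := by
      linear_combination (1 + t + t ^ 5) * ht7 + (1 + t + t ^ 5 + t ^ 4 + t ^ 6 + t ^ 10) * h2
    rcases mul_eq_zero.1 hc with hc | hc
    · left
      rw [hc, zero_smul, add_zero] at h8
      have h8' : s ^ 8 = s := by
        apply Subtype.ext
        rw [Matrix.SpecialLinearGroup.coe_pow]; exact h8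
      have : s ^ 7 * s = 1 * s := by rw [← pow_succ, one_mul]; exact h8'
      exact mul_right_cancel this
    · right
      apply Subtype.ext
      rw [Matrix.SpecialLinearGroup.coe_pow, Matrix.SpecialLinearGroup.coe_one,
        show 9 = 8 + 1 from rfl, pow_succ, h8, add_mul, hM, smul_mul_assoc, one_mul]
      have hc' : 1 + t ^ 4 + t ^ 6 = -t := by linear_combination hc
      rw [hc']
      have hneg : (-1 : F) = 1 := by linear_combination (-1 : F) * h2
      have : t • s.val - 1 + -t • s.val = (-1 : F) • (1 : Matrix (Fin 2) (Fin 2) F) := by module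
      rw [this, hneg, one_smul]

theorem sl2_F8_orderOf_ne (hF : Fintype.card F = 8) (s : Matrix.SpecialLinearGroup (Fin 2) F)
    (p q : ℕ) (hp : p.Prime) (hq : q.Prime) (hpq : p ≠ q) : orderOf s ≠ p * q := by
  intro h
  rcases sl2_F8_pow hF s with h1 | h1 | h1
  · have := orderOf_dvd_of_pow_eq_one h1
    rw [h] at this
    exact not_mul_primes_dvd_prime_pow hp hq hpq Nat.prime_two (k := 1) (by simpa using this)
  · have := orderOf_dvd_of_pow_eq_one h1
    rw [h] at this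
    exact not_mul_primes_dvd_prime_pow hp hq hpq (by norm_num : Nat.Prime 7) (k := 1)
      (by simpa using this)
  · have := orderOf_dvd_of_pow_eq_one h1
    rw [h] at this
    exact not_mul_primes_dvd_prime_pow hp hq hpq Nat.prime_three (k := 2) (by simpa using this)

end F8

section F7

variable {F : Type*} [Field F] [Fintype F]

/-- some small power of an element of `SL(2, 𝔽₇)` is a scalar `±1` -/
theorem sl2_F7_pow (hF : Fintype.card F = 7) (s : Matrix.SpecialLinearGroup (Fin 2) F) :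
    ∃ m : ℕ, (m = 2 ∨ m = 3 ∨ m = 4 ∨ m = 7) ∧ ∃ r : F, r ^ 2 = 1 ∧
      s.val ^ m = r • (1 : Matrix (Fin 2) (Fin 2) F) := by
  have h7 : (7 : F) = 0 := by
    have := Nat.cast_card_eq_zero F
    rw [hF] at this
    exact_mod_cast this
  obtain ⟨t, ht⟩ : ∃ t : F, t = s.val 0 0 + s.val 1 1 := ⟨_, rfl⟩
  have hM : s.val * s.val = t • s.val - 1 := by rw [ht]; exact sl2_mul_self s
  have ht7 : t ^ 7 = t := by
    have := FiniteField.pow_card t
    rwa [hF] at this
  have hprod : t * ((t ^ 2 - 1) * ((t ^ 2 - 4) * (t ^ 2 - 2))) = 0 := by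
    linear_combination ht7 + (-t ^ 5 + 2 * t ^ 3 - t) * h7
  rcases mul_eq_zero.1 hprod with h0 | hprod
  · refine ⟨2, Or.inl rfl, -1, by ring, ?_⟩
    rw [sl2_pow2 s.val t hM, h0, zero_smul, zero_add]
  rcases mul_eq_zero.1 hprod with h1 | hprod
  · refine ⟨3, Or.inr (Or.inl rfl), -t, by linear_combination h1, ?_⟩
    rw [sl2_pow3 s.val t hM, h1, zero_smul, zero_add]
  rcases mul_eq_zero.1 hprod with h4 | h2
  · refine ⟨7, Or.inr (Or.inr (Or.inr rfl)), -t ^ 5 + 4 * t ^ 3 - 3 * t, ?_, ?_⟩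
    · linear_combination (t ^ 8 - 4 * t ^ 6 + 6 * t ^ 4 + 9) * h4 + 5 * h7
    · rw [sl2_pow7 s.val t hM]
      have : t ^ 6 - 5 * t ^ 4 + 6 * t ^ 2 - 1 = 0 := by
        linear_combination (t ^ 4 - t ^ 2 + 2) * h4 + h7
      rw [this, zero_smul, zero_add]
  · refine ⟨4, Or.inr (Or.inr (Or.inl rfl)), -1, by ring, ?_⟩
    rw [sl2_pow4 s.val t hM]
    have h3 : t ^ 3 - 2 * t = 0 := by linear_combination t * h2
    have h5 : 1 - t ^ 2 = -1 := by linear_combination (-1 : F) * h2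
    rw [h3, h5, zero_smul, zero_add]

end F7

end Cfsg.Agent.Helper4
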