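import Cfsg.Agent.Helper4.AffSLE
import Cfsg.Agent.Helper7.SL2Sylow
import Cfsg.Agent.S0243

set_option autoImplicit false

namespace Cfsg.Agent.Helper4

open Matrix

theorem psl2_F7_orderOf_ne {F : Type*} [Field F] [Fintype F] (hF : Fintype.card F = 7)
    (g : Matrix.ProjectiveSpecialLinearGroup (Fin 2) F)
    (p q : ℕ) (hp : p.Prime) (hq : q.Prime) (hpq : p ≠ q) : orderOf g ≠ p * q := by
  intro h
  obtain ⟨s, rfl⟩ := QuotientGroup.mk_surjective g
  obtain ⟨m, hm, r, hr, hs⟩ := sl2_F7_pow hF s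
  have hcen : s ^ m ∈ Subgroup.center (Matrix.SpecialLinearGroup (Fin 2) F) := by
    rw [Matrix.SpecialLinearGroup.mem_center_iff]
    refine ⟨r, by rw [Fintype.card_fin]; exact hr, ?_⟩
    rw [Matrix.SpecialLinearGroup.coe_pow, hs, Matrix.scalar_apply, Matrix.smul_one_eq_diagonal]
  have h1 : ((s : Matrix.SpecialLinearGroup (Fin 2) F) :
      Matrix.ProjectiveSpecialLinearGroup (Fin 2) F) ^ m = 1 := by
    rw [← QuotientGroup.mk_pow]
    exact (QuotientGroup.eq_one_iff _).2 hcen
  have h2 := orderOf_dvd_of_pow_eq_one h1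
  rw [h] at h2
  rcases hm with rfl | rfl | rfl | rfl
  · exact not_mul_primes_dvd_prime_pow hp hq hpq Nat.prime_two (k := 1) (by simpa using h2)
  · exact not_mul_primes_dvd_prime_pow hp hq hpq Nat.prime_three (k := 1) (by simpa using h2)
  · exact not_mul_primes_dvd_prime_pow hp hq hpq Nat.prime_two (k := 2) (by simpa using h2)
  · exact not_mul_primes_dvd_prime_pow hp hq hpq (by norm_num : Nat.Prime 7) (k := 1)
      (by simpa using h2)

theorem card_psl2_F7 {F : Type*} [Field F] [Fintype F] (hF : Fintype.card F = 7) :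
    Nat.card (Matrix.ProjectiveSpecialLinearGroup (Fin 2) F) = 168 := by
  have h := Cfsg.Agent.S0243.result (F := F) hF 2 le_rfl
  rw [Fin.prod_univ_two] at h
  simp only [Fin.val_zero, pow_zero, Fin.val_one, pow_one] at h
  norm_num at h
  omega

theorem card_sl2_F8 {F : Type*} [Field F] [Fintype F] (hF : Fintype.card F = 8) :
    Nat.card (Matrix.SpecialLinearGroup (Fin 2) F) = 504 := by
  rw [Cfsg.Agent.Helper7.SL2.card_SL2, hF]; norm_num

theorem prime_dvd_168_iff {p : ℕ} (hp : p.Prime) : p ∣ 168 ↔ p = 2 ∨ p = 3 ∨ p = 7 := by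
  constructor
  · intro h
    rw [show 168 = 2 ^ 3 * (3 * 7) from rfl] at h
    rcases (Nat.Prime.dvd_mul hp).1 h with h | h
    · left; exact (Nat.prime_dvd_prime_iff_eq hp Nat.prime_two).1 (hp.dvd_of_dvd_pow h)
    · rcases (Nat.Prime.dvd_mul hp).1 h with h | h
      · right; left; exact (Nat.prime_dvd_prime_iff_eq hp Nat.prime_three).1 h
      · right; right; exact (Nat.prime_dvd_prime_iff_eq hp (by norm_num)).1 h
  · rintro (rfl | rfl | rfl) <;> norm_num

theorem prime_dvd_504_mul_iff {p : ℕ} (hp : p.Prime) (k : ℕ) :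
    p ∣ 504 * (8 ^ k) ^ 2 ↔ p = 2 ∨ p = 3 ∨ p = 7 := by
  constructor
  · intro h
    rcases (Nat.Prime.dvd_mul hp).1 h with h | h
    · rw [show 504 = 2 ^ 3 * (3 ^ 2 * 7) from rfl] at h
      rcases (Nat.Prime.dvd_mul hp).1 h with h | h
      · left; exact (Nat.prime_dvd_prime_iff_eq hp Nat.prime_two).1 (hp.dvd_of_dvd_pow h)
      · rcases (Nat.Prime.dvd_mul hp).1 h with h | h
        · right; left
          exact (Nat.prime_dvd_prime_iff_eq hp Nat.prime_three).1 (hp.dvd_of_dvd_pow h)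
        · right; right; exact (Nat.prime_dvd_prime_iff_eq hp (by norm_num)).1 h
    · left
      have h1 := hp.dvd_of_dvd_pow (hp.dvd_of_dvd_pow h)
      rw [show 8 = 2 ^ 3 from rfl] at h1
      exact (Nat.prime_dvd_prime_iff_eq hp Nat.prime_two).1 (hp.dvd_of_dvd_pow h1)
  · rintro (rfl | rfl | rfl)
    · exact dvd_mul_of_dvd_left (by norm_num) _
    · exact dvd_mul_of_dvd_left (by norm_num) _
    · exact dvd_mul_of_dvd_left (by norm_num) _

end Cfsg.Agent.Helper4
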