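import Mathlib

set_option autoImplicit false

/-!
Abelian Sylow `p`-subgroups of alternating groups, `p` odd: the automizer has even order
unless the Sylow subgroup is cyclic.
-/

namespace Cfsg.Agent.Helper4.AltAbelSyl

open Equiv Equiv.Perm

/-- `p ^ 2 ∣ n !` forces `2 * p ≤ n`. -/
theorem two_mul_le_of_sq_dvd_factorial {p : ℕ} (hp : p.Prime) :
    ∀ n : ℕ, p ^ 2 ∣ n.factorial → 2 * p ≤ n := by
  intro n
  induction n with
  | zero =>
    intro h
    rw [Nat.factorial_zero, Nat.dvd_one] at h
    have := hp.two_le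
    nlinarith [pow_two p]
  | succ n ih =>
    intro h
    by_contra hlt
    push Not at hlt
    rw [Nat.factorial_succ] at h
    by_cases hd : p ∣ n + 1
    · have hle : p ≤ n + 1 := Nat.le_of_dvd (Nat.succ_pos n) hd
      obtain ⟨c, hc⟩ := hd
      have hc1 : c = 1 := by
        rcases Nat.lt_or_ge c 2 with h2 | h2
        · interval_cases c
          · omega
          · rfl
        · exfalso
          have : 2 * p ≤ p * c := by nlinarith
          omega
      rw [hc1, mul_one] at hc
      rw [hc, pow_two] at h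
      have h2 : p ∣ n.factorial := Nat.dvd_of_mul_dvd_mul_left hp.pos h
      rw [hp.dvd_factorial] at h2
      omega
    · have hcop : Nat.Coprime (p ^ 2) (n + 1) :=
        Nat.Coprime.pow_left 2 ((Nat.Prime.coprime_iff_not_dvd hp).2 hd)
      have h2 : p ^ 2 ∣ n.factorial := hcop.dvd_of_dvd_mul_left h
      have := ih h2
      omega

/-- An element of odd prime order `p` of `Perm (Fin n)`, `p + 2 ≤ n`, is inverted by an even
permutation. -/
theorem exists_even_conj_inv {n p : ℕ} (hp : p.Prime) (hn : p + 2 ≤ n)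
    (σ : Perm (Fin n)) (hσ : orderOf σ = p) :
    ∃ τ : Perm (Fin n), τ ∈ alternatingGroup (Fin n) ∧ τ * σ * τ⁻¹ = σ⁻¹ := by
  have hconj : IsConj σ σ⁻¹ := isConj_iff_cycleType_eq.2 (cycleType_inv σ).symm
  obtain ⟨τ, hτ⟩ := isConj_iff.1 hconj
  have hnot : ¬ Subgroup.centralizer {σ} ≤ alternatingGroup (Fin n) := by
    rw [centralizer_le_alternating_iff]
    rintro ⟨-, h2, h3⟩
    obtain ⟨m, hm⟩ := cycleType_prime_order (σ := σ) (hσ ▸ hp)
    rw [hσ] at hm
    rcases Nat.eq_zero_or_pos m with h0 | h0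
    · rw [hm, h0] at h2
      simp at h2
      omega
    · have h4 := h3 p
      rw [hm, Multiset.count_replicate_self] at h4
      omega
  obtain ⟨c, hc, hcA⟩ := SetLike.not_le_iff_exists.1 hnot
  by_cases hτA : τ ∈ alternatingGroup (Fin n)
  · exact ⟨τ, hτA, hτ⟩
  · refine ⟨τ * c, ?_, ?_⟩
    · rw [mem_alternatingGroup] at hτA hcA ⊢
      have h1 := (Int.units_eq_one_or (sign τ)).resolve_left hτA
      have h2 := (Int.units_eq_one_or (sign c)).resolve_left hcA
      rw [Perm.sign_mul, h1, h2]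
      rfl
    · have hcomm : c * σ = σ * c := Subgroup.mem_centralizer_singleton_iff.1 hc
      calc τ * c * σ * (τ * c)⁻¹ = τ * (c * σ * c⁻¹) * τ⁻¹ := by group
        _ = τ * σ * τ⁻¹ := by rw [hcomm, mul_inv_cancel_right]
        _ = σ⁻¹ := hτ

/-- an automorphism inverting a non-involution has even order -/
theorem even_orderOf_of_inverts {P : Type*} [Group P] (ψ : MulAut P) (x : P) (h : ψ x = x⁻¹)
    (hne : x ≠ x⁻¹) : 2 ∣ orderOf ψ := by
  rcases Nat.even_or_odd (orderOf ψ) with he | ho
  · exact even_iff_two_dvd.1 he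
  · exfalso
    obtain ⟨j, hj⟩ := ho
    have h2 : (ψ ^ 2) x = x := by
      rw [pow_two, MulAut.mul_apply, h, map_inv, h, inv_inv]
    have h3 : ∀ i : ℕ, ((ψ ^ 2) ^ i) x = x := by
      intro i
      induction i with
      | zero => simp
      | succ i ih => rw [pow_succ, MulAut.mul_apply, h2, ih]
    have h4 : (ψ ^ (2 * j + 1)) x = x⁻¹ := by
      rw [pow_succ, MulAut.mul_apply, h, pow_mul, map_inv, h3]
    rw [← hj, pow_orderOf_eq_one, MulAut.one_apply] at h4
    exact hne h4

/-- main statement for odd `p` -/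
theorem even_or_cyclic {n p : ℕ} [hp : Fact p.Prime] (hp2 : p ≠ 2)
    (P : Sylow p (alternatingGroup (Fin n)))
    (hP : IsMulCommutative (P : Subgroup (alternatingGroup (Fin n)))) :
    2 ∣ ((Subgroup.centralizer ((P : Subgroup (alternatingGroup (Fin n))) :
        Set (alternatingGroup (Fin n)))).subgroupOf
        (Subgroup.normalizer ((P : Subgroup (alternatingGroup (Fin n))) :
          Set (alternatingGroup (Fin n))))).index ∨
      IsCyclic (P : Subgroup (alternatingGroup (Fin n))) := by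
  by_cases hcyc : IsCyclic (P : Subgroup (alternatingGroup (Fin n)))
  · right; exact hcyc
  left
  obtain ⟨k, hk⟩ := IsPGroup.iff_card.1 P.isPGroup'
  have hk2 : 2 ≤ k := by
    by_contra h
    push Not at h
    interval_cases k
    · apply hcyc
      haveI : Subsingleton (P : Subgroup (alternatingGroup (Fin n))) :=
        (Nat.card_eq_one_iff_unique.1 (by simpa using hk)).1
      infer_instance
    · apply hcyc
      exact isCyclic_of_prime_card (p := p) (by simpa using hk)
  have hdvd : p ^ 2 ∣ n.factorial := by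
    have h1 : p ^ 2 ∣ Nat.card (P : Subgroup (alternatingGroup (Fin n))) :=
      hk ▸ pow_dvd_pow p hk2
    have h2 : Nat.card (P : Subgroup (alternatingGroup (Fin n))) ∣
        Nat.card (alternatingGroup (Fin n)) := Subgroup.card_subgroup_dvd_card _
    have h3 : Nat.card (alternatingGroup (Fin n)) ∣ Nat.card (Perm (Fin n)) :=
      Subgroup.card_subgroup_dvd_card _
    have h4 : Nat.card (Perm (Fin n)) = n.factorial := by
      rw [Nat.card_eq_fintype_card, Fintype.card_perm, Fintype.card_fin]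
    exact h1.trans (h2.trans (h4 ▸ h3))
  have hn : 2 * p ≤ n := two_mul_le_of_sq_dvd_factorial hp.out n hdvd
  obtain ⟨x, hx⟩ := exists_prime_orderOf_dvd_card' (G := (P : Subgroup (alternatingGroup (Fin n)))) p
    (hk ▸ dvd_pow_self p (by omega))
  have hσ : orderOf (((x : alternatingGroup (Fin n)) : Perm (Fin n))) = p := by
    rw [Subgroup.orderOf_coe, Subgroup.orderOf_coe, hx]
  obtain ⟨τ, hτA, hτ⟩ := exists_even_conj_inv hp.out (by have := hp.out.two_le; omega) _ hσ
  have hg : (⟨τ, hτA⟩ : alternatingGroup (Fin n)) * (x : alternatingGroup (Fin n)) *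
      (⟨τ, hτA⟩ : alternatingGroup (Fin n))⁻¹ = (x : alternatingGroup (Fin n))⁻¹ :=
    Subtype.ext (by simpa using hτ)
  haveI := hP
  obtain ⟨m, hmN, hm⟩ := P.conj_eq_normalizer_conj_of_mem (x : alternatingGroup (Fin n))
    (⟨τ, hτA⟩ : alternatingGroup (Fin n))⁻¹ x.2 (by rw [inv_inv, hg]; exact inv_mem x.2)
  have hm' : m⁻¹ * (x : alternatingGroup (Fin n)) * m = (x : alternatingGroup (Fin n))⁻¹ := by
    rw [← hm, inv_inv, hg]
  rw [← Subgroup.normalizerMonoidHom_ker, Subgroup.index_ker]
  have hψ : (Subgroup.normalizerMonoidHom (P : Subgroup (alternatingGroup (Fin n)))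
      ⟨m⁻¹, inv_mem hmN⟩) x = x⁻¹ := by
    apply Subtype.ext
    have : ((Subgroup.normalizerMonoidHom (P : Subgroup (alternatingGroup (Fin n)))
      ⟨m⁻¹, inv_mem hmN⟩) x : alternatingGroup (Fin n)) =
        m⁻¹ * (x : alternatingGroup (Fin n)) * m⁻¹⁻¹ := rfl
    rw [this, inv_inv, hm']
    rfl
  have hne : x ≠ x⁻¹ := by
    intro h
    have h1 : x ^ 2 = 1 := by rw [pow_two]; nth_rewrite 2 [h]; exact mul_inv_cancel x
    have h2 := orderOf_dvd_of_pow_eq_one h1
    rw [hx] at h2
    exact hp2 ((Nat.prime_dvd_prime_iff_eq hp.out Nat.prime_two).1 h2)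
  have h2 := even_orderOf_of_inverts _ x hψ hne
  exact h2.trans (Subgroup.orderOf_dvd_natCard _ ⟨_, rfl⟩)

end Cfsg.Agent.Helper4.AltAbelSyl
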