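import Mathlib
import Cfsg.Agent.Helper1.Basic

set_option autoImplicit false

/-!
Sylow `2`-subgroups of alternating groups: nonabelian for `n ≥ 6`; for `n = 5` a four-group with
automizer of order `3`.
-/

namespace Cfsg.Agent.Helper4.AltAbelSyl

open Equiv Equiv.Perm
open scoped Pointwise

/-- `(0 1 2 3)(4 5)` -/
def u6 : Perm (Fin 6) := swap 0 1 * swap 1 2 * swap 2 3 * swap 4 5
/-- `(0 2)(4 5)` -/
def v6 : Perm (Fin 6) := swap 0 2 * swap 4 5

theorem sign_u6 : sign u6 = 1 := by decide
theorem sign_v6 : sign v6 = 1 := by decide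
theorem conj_u6 : v6 * u6 * v6⁻¹ = u6⁻¹ := by decide
theorem ne_u6v6 : u6 * v6 ≠ v6 * u6 := by decide
theorem u6_pow : u6 ^ 4 = 1 := by decide
theorem v6_pow : v6 ^ 2 = 1 := by decide

theorem isPGroup_zpowers_of_pow {G : Type*} [Group G] (W : G) (k : ℕ) (hW : W ^ (2 ^ k) = 1) :
    IsPGroup 2 (Subgroup.zpowers W) := by
  have h1 : orderOf W ∣ 2 ^ k := orderOf_dvd_of_pow_eq_one hW
  obtain ⟨j, -, hj⟩ := (Nat.dvd_prime_pow Nat.prime_two).1 h1
  exact IsPGroup.of_card (n := j) (by rw [Nat.card_zpowers, hj])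

/-- a pair `U, V` with `V U V⁻¹ = U⁻¹`, `V² = 1`, `U⁴ = 1` generates a `2`-group -/
theorem isPGroup_dihedral {G : Type*} [Group G] (U V : G) (hconj : V * U * V⁻¹ = U⁻¹)
    (hU : U ^ 4 = 1) (hV : V ^ 2 = 1) :
    IsPGroup 2 (Subgroup.zpowers V ⊔ Subgroup.zpowers U : Subgroup G) := by
  have fwd : ∀ h ∈ Subgroup.zpowers U, V * h * V⁻¹ ∈ Subgroup.zpowers U := by
    intro h hh
    obtain ⟨k, rfl⟩ := Subgroup.mem_zpowers_iff.1 hh
    have h1 : V * U ^ k * V⁻¹ = (U⁻¹) ^ k := by rw [← hconj, conj_zpow]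
    rw [h1]
    exact Subgroup.zpow_mem _ (Subgroup.inv_mem _ (Subgroup.mem_zpowers U)) k
  have hVn : Subgroup.zpowers V ≤ Subgroup.normalizer ((Subgroup.zpowers U : Subgroup G) : Set G) := by
    rw [Subgroup.zpowers_le, Subgroup.mem_normalizer_iff]
    intro h
    refine ⟨fwd h, fun hh => ?_⟩
    have h1 := fwd _ hh
    have hVV : V * V = 1 := by rw [← pow_two, hV]
    have h2 : V * (V * h * V⁻¹) * V⁻¹ = (V * V) * h * (V * V)⁻¹ := by
      rw [mul_inv_rev]; simp only [mul_assoc]
    rw [h2, hVV, one_mul, inv_one, mul_one] at h1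
    exact h1
  exact (isPGroup_zpowers_of_pow V 1 (by simpa using hV)).to_sup_of_normal_right'
    (isPGroup_zpowers_of_pow U 2 (by simpa using hU)) hVn

theorem not_comm_sylow_two {n : ℕ} (h6 : 6 ≤ n) (P : Sylow 2 (alternatingGroup (Fin n))) :
    ¬ IsMulCommutative (P : Subgroup (alternatingGroup (Fin n))) := by
  intro hP
  classical
  let ι : Fin 6 ↪ Fin n := Fin.castLEEmb h6
  let f : Perm (Fin 6) →* Perm (Fin n) := extendDomainHom (Equiv.ofInjective ι.1 ι.2)
  have hf : Function.Injective f := extendDomainHom_injective (Equiv.ofInjective ι.1 ι.2)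
  have hsign : ∀ e : Perm (Fin 6), sign (f e) = sign e := by
    intro e
    exact sign_extendDomain e (Equiv.ofInjective ι.1 ι.2)
  have hUA : f u6 ∈ alternatingGroup (Fin n) := by rw [mem_alternatingGroup, hsign, sign_u6]
  have hVA : f v6 ∈ alternatingGroup (Fin n) := by rw [mem_alternatingGroup, hsign, sign_v6]
  obtain ⟨U, hU⟩ : ∃ U : alternatingGroup (Fin n), (U : Perm (Fin n)) = f u6 := ⟨⟨_, hUA⟩, rfl⟩
  obtain ⟨V, hV⟩ : ∃ V : alternatingGroup (Fin n), (V : Perm (Fin n)) = f v6 := ⟨⟨_, hVA⟩, rfl⟩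
  have hconj : V * U * V⁻¹ = U⁻¹ := by
    apply Subtype.ext
    rw [Subgroup.coe_mul, Subgroup.coe_mul, Subgroup.coe_inv, Subgroup.coe_inv, hU, hV,
      ← map_inv, ← map_mul, ← map_mul, conj_u6, map_inv]
  have hne : U * V ≠ V * U := by
    intro h
    have h1 := congrArg Subtype.val h
    rw [Subgroup.coe_mul, Subgroup.coe_mul, hU, hV, ← map_mul, ← map_mul] at h1
    exact ne_u6v6 (hf h1)
  have hU4 : U ^ 4 = 1 := by
    apply Subtype.ext
    rw [Subgroup.coe_pow, hU, ← map_pow, u6_pow, map_one]; rfl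
  have hV2 : V ^ 2 = 1 := by
    apply Subtype.ext
    rw [Subgroup.coe_pow, hV, ← map_pow, v6_pow, map_one]; rfl
  have hD := isPGroup_dihedral U V hconj hU4 hV2
  obtain ⟨Q, hQ⟩ := hD.exists_le_sylow
  obtain ⟨g, hg⟩ := MulAction.exists_smul_eq (alternatingGroup (Fin n)) P Q
  have hUQ : U ∈ (Q : Subgroup (alternatingGroup (Fin n))) :=
    hQ (Subgroup.mem_sup_right (Subgroup.mem_zpowers U))
  have hVQ : V ∈ (Q : Subgroup (alternatingGroup (Fin n))) :=
    hQ (Subgroup.mem_sup_left (Subgroup.mem_zpowers V))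
  rw [← hg, Sylow.coe_subgroup_smul, Cfsg.Agent.Helper1.mem_conj_smul] at hUQ hVQ
  have hc := hP.is_comm.comm (⟨_, hUQ⟩ : (P : Subgroup (alternatingGroup (Fin n)))) ⟨_, hVQ⟩
  have hc' : g⁻¹ * U * g * (g⁻¹ * V * g) = g⁻¹ * V * g * (g⁻¹ * U * g) :=
    congrArg Subtype.val hc
  apply hne
  have h1 : U * V = g * (g⁻¹ * U * g * (g⁻¹ * V * g)) * g⁻¹ := by group
  have h2 : V * U = g * (g⁻¹ * V * g * (g⁻¹ * U * g)) * g⁻¹ := by group
  rw [h1, h2, hc']

theorem card_alt5 : Nat.card (alternatingGroup (Fin 5)) = 60 := by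
  have h := two_mul_card_alternatingGroup (α := Fin 5)
  rw [Fintype.card_perm, Fintype.card_fin] at h
  rw [Nat.card_eq_fintype_card]
  have : Nat.factorial 5 = 120 := by decide
  omega

set_option maxRecDepth 100000 in
theorem no_order_four : ∀ σ : Perm (Fin 5), sign σ = 1 → σ ^ 4 = 1 → σ ^ 2 = 1 := by decide

theorem five_two (P : Sylow 2 (alternatingGroup (Fin 5))) :
    ((Subgroup.centralizer ((P : Subgroup (alternatingGroup (Fin 5))) :
        Set (alternatingGroup (Fin 5)))).subgroupOf
        (Subgroup.normalizer ((P : Subgroup (alternatingGroup (Fin 5))) :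
          Set (alternatingGroup (Fin 5))))).index = 3 ∧
      IsKleinFour (P : Subgroup (alternatingGroup (Fin 5))) := by
  have hcardP : Nat.card (P : Subgroup (alternatingGroup (Fin 5))) = 4 := by
    rw [P.card_eq_multiplicity, card_alt5]
    have h60 : (60 : ℕ).factorization 2 = 2 := by
      rw [show (60 : ℕ) = 2 ^ 2 * 15 by norm_num, Nat.factorization_mul (by norm_num) (by norm_num),
        Finsupp.add_apply, Nat.Prime.factorization_pow Nat.prime_two,
        Nat.factorization_eq_zero_of_not_dvd (by norm_num : ¬ 2 ∣ 15)]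
      simp
    rw [h60]
    norm_num
  have hsq : ∀ x : (P : Subgroup (alternatingGroup (Fin 5))), x ^ 2 = 1 := by
    intro x
    have h4 : x ^ 4 = 1 := by rw [← hcardP]; exact pow_card_eq_one'
    have h4' : (((x : alternatingGroup (Fin 5)) : Perm (Fin 5))) ^ 4 = 1 := by
      have := congrArg (fun y : (P : Subgroup (alternatingGroup (Fin 5))) =>
        ((y : alternatingGroup (Fin 5)) : Perm (Fin 5))) h4
      simpa using this
    have h2 := no_order_four _ (mem_alternatingGroup.1 (x : alternatingGroup (Fin 5)).2) h4'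
    apply Subtype.ext
    apply Subtype.ext
    simpa using h2
  have hexp : Monoid.exponent (P : Subgroup (alternatingGroup (Fin 5))) = 2 := by
    have h1 : Monoid.exponent (P : Subgroup (alternatingGroup (Fin 5))) ∣ 2 :=
      Monoid.exponent_dvd_of_forall_pow_eq_one hsq
    rcases (Nat.dvd_prime Nat.prime_two).1 h1 with h | h
    · exfalso
      have hs : Subsingleton (P : Subgroup (alternatingGroup (Fin 5))) :=
        Monoid.exp_eq_one_iff.1 h
      have : Nat.card (P : Subgroup (alternatingGroup (Fin 5))) = 1 :=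
        Nat.card_eq_one_iff_unique.2 ⟨hs, ⟨1⟩⟩
      omega
    · exact h
  have hK : IsKleinFour (P : Subgroup (alternatingGroup (Fin 5))) := ⟨hcardP, hexp⟩
  refine ⟨?_, hK⟩
  have hPc : IsMulCommutative (P : Subgroup (alternatingGroup (Fin 5))) :=
    ⟨⟨fun a b => mul_comm_of_exponent_two hexp a b⟩⟩
  rw [← Subgroup.normalizerMonoidHom_ker, Subgroup.index_ker]
  -- r ∣ 24
  have h24 : Nat.card (Subgroup.normalizerMonoidHom
      (P : Subgroup (alternatingGroup (Fin 5)))).range ∣ 24 := by
    have hinj : Function.Injective ((MulAut.toPerm (P : Subgroup (alternatingGroup (Fin 5)))).comp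
        (Subgroup.normalizerMonoidHom (P : Subgroup (alternatingGroup (Fin 5)))).range.subtype) := by
      intro a b hab
      apply Subtype.ext
      apply MulEquiv.ext
      intro z
      have := congrArg (fun e : Perm (P : Subgroup (alternatingGroup (Fin 5))) => e z) hab
      exact this
    have h1 := Subgroup.card_dvd_of_injective _ hinj
    have h2 : Nat.card (Perm (P : Subgroup (alternatingGroup (Fin 5)))) = 24 := by
      rw [Nat.card_perm, hcardP]; rfl
    rwa [h2] at h1
  -- r ∣ 15
  have h15 : Nat.card (Subgroup.normalizerMonoidHom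
      (P : Subgroup (alternatingGroup (Fin 5)))).range ∣ 15 := by
    rw [← Subgroup.index_ker, Subgroup.normalizerMonoidHom_ker]
    have hPC : (P : Subgroup (alternatingGroup (Fin 5))) ≤
        Subgroup.centralizer ((P : Subgroup (alternatingGroup (Fin 5))) :
          Set (alternatingGroup (Fin 5))) := Subgroup.le_centralizer _
    have hCN : Subgroup.centralizer ((P : Subgroup (alternatingGroup (Fin 5))) :
          Set (alternatingGroup (Fin 5))) ≤ Subgroup.normalizer
          ((P : Subgroup (alternatingGroup (Fin 5))) : Set (alternatingGroup (Fin 5))) :=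
      Subgroup.centralizer_le_normalizer _
    have h1 : Nat.card (P : Subgroup (alternatingGroup (Fin 5))) ∣
        Nat.card (Subgroup.centralizer ((P : Subgroup (alternatingGroup (Fin 5))) :
          Set (alternatingGroup (Fin 5)))) := Subgroup.card_dvd_of_le hPC
    have h2 := Cfsg.Agent.Helper1.relIndex_mul_card_of_le hCN
    have h3 : Nat.card (Subgroup.normalizer
          ((P : Subgroup (alternatingGroup (Fin 5))) : Set (alternatingGroup (Fin 5)))) ∣ 60 :=
      card_alt5 ▸ Subgroup.card_subgroup_dvd_card _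
    rw [hcardP] at h1
    obtain ⟨c, hc⟩ := h1
    have h4 : (Subgroup.centralizer ((P : Subgroup (alternatingGroup (Fin 5))) :
          Set (alternatingGroup (Fin 5)))).relIndex (Subgroup.normalizer
          ((P : Subgroup (alternatingGroup (Fin 5))) : Set (alternatingGroup (Fin 5)))) * 4 ∣ 60 := by
      rw [← h2, hc] at h3
      exact Dvd.dvd.trans ⟨c, by ring⟩ h3
    have h5 : (60 : ℕ) = 15 * 4 := by norm_num
    rw [h5] at h4
    exact Nat.dvd_of_mul_dvd_mul_right (by norm_num) h4
  have h3 : Nat.card (Subgroup.normalizerMonoidHom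
      (P : Subgroup (alternatingGroup (Fin 5)))).range ∣ 3 := by
    have := Nat.dvd_gcd h24 h15
    simpa using this
  rcases (Nat.dvd_prime Nat.prime_three).1 h3 with h | h
  · exfalso
    -- N ≤ C, so there is a normal 2-complement
    have hNC : Subgroup.normalizer ((P : Subgroup (alternatingGroup (Fin 5))) :
        Set (alternatingGroup (Fin 5))) ≤ Subgroup.centralizer
        ((P : Subgroup (alternatingGroup (Fin 5))) : Set (alternatingGroup (Fin 5))) := by
      rw [← Subgroup.index_ker, Subgroup.normalizerMonoidHom_ker, Subgroup.index_eq_one,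
        Subgroup.subgroupOf_eq_top] at h
      exact h
    have hcompl := MonoidHom.ker_transferSylow_isComplement' P hNC
    have hcard := hcompl.card_mul
    rw [hcardP, card_alt5] at hcard
    have hK15 : Nat.card (MonoidHom.transferSylow P hNC).ker = 15 := by omega
    rcases (MonoidHom.transferSylow P hNC).normal_ker.eq_bot_or_eq_top with hb | ht
    · rw [hb, Subgroup.card_bot] at hK15; omega
    · rw [ht, Subgroup.card_top, card_alt5] at hK15; omega
  · exact h

end Cfsg.Agent.Helper4.AltAbelSyl
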