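import Mathlib

set_option autoImplicit false

namespace Cfsg.Agent.Helper4

open Classical in
/-- abstract fibre count -/
theorem card_le_of_fibers {A B : Type*} [Finite A] [Finite B] (Φ : A → B) (P Q : B → Prop)
    (h0 : ∀ a, P (Φ a))
    (h2 : ∀ b, ∃ a0 a1, ∀ a, Φ a = b → a = a0 ∨ a = a1)
    (h1 : ∀ b, ¬ Q b → ∀ a a', Φ a = b → Φ a' = b → a = a') :
    Nat.card A ≤ Nat.card {b // P b} + Nat.card {b // P b ∧ Q b} := by
  have := Fintype.ofFinite A
  have := Fintype.ofFinite B
  rw [Nat.card_eq_fintype_card, Nat.card_eq_fintype_card, Nat.card_eq_fintype_card,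
    Fintype.card_subtype, Fintype.card_subtype, ← Finset.card_univ (α := A),
    Finset.card_eq_sum_card_fiberwise (f := Φ) (s := Finset.univ) (t := Finset.univ)
      (fun _ _ => Finset.mem_coe.2 (Finset.mem_univ _)),
    Finset.card_filter, Finset.card_filter, ← Finset.sum_add_distrib]
  apply Finset.sum_le_sum
  intro b _
  by_cases hne : (Finset.univ.filter fun a => Φ a = b).Nonempty
  · obtain ⟨a, ha⟩ := hne
    rw [Finset.mem_filter] at ha
    have hP : P b := ha.2 ▸ h0 a
    rw [if_pos hP]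
    by_cases hQ : Q b
    · rw [if_pos ⟨hP, hQ⟩]
      obtain ⟨a0, a1, h⟩ := h2 b
      calc (Finset.univ.filter fun a => Φ a = b).card ≤ ({a0, a1} : Finset A).card := by
            apply Finset.card_le_card
            intro x hx
            rw [Finset.mem_filter] at hx
            rw [Finset.mem_insert, Finset.mem_singleton]
            exact h x hx.2
        _ ≤ 2 := Finset.card_le_two
    · rw [if_neg (fun h => hQ h.2), add_zero]
      apply Finset.card_le_one.2
      intro x hx y hy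
      rw [Finset.mem_filter] at hx hy
      exact h1 b hQ x y hx.2 hy.2
  · rw [Finset.not_nonempty_iff_eq_empty] at hne
    rw [hne, Finset.card_empty]
    exact Nat.zero_le _

/-- class number of a subgroup of index 2 -/
theorem card_conjClasses_index_two_le {G : Type*} [Group G] [Finite G] (H : Subgroup G)
    [hHn : H.Normal] (hidx : H.index = 2) :
    Nat.card (ConjClasses H) ≤
      Nat.card {c : ConjClasses G // ∀ g, ConjClasses.mk g = c → g ∈ H} +
      Nat.card {c : ConjClasses G // (∀ g, ConjClasses.mk g = c → g ∈ H) ∧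
        (∀ g, ConjClasses.mk g = c → Subgroup.centralizer {g} ≤ H)} := by
  have hmap : ∀ h : H, ConjClasses.map H.subtype (ConjClasses.mk h) = ConjClasses.mk (h : G) :=
    fun _ => rfl
  obtain ⟨t, ht⟩ : ∃ t : G, t ∉ H := by
    by_contra hcon
    push Not at hcon
    have : H = ⊤ := eq_top_iff.2 fun x _ => hcon x
    rw [this, Subgroup.index_top] at hidx
    omega
  have htinv : t⁻¹ ∉ H := fun h => ht (by simpa using H.inv_mem h)
  have hout : ∀ {x y : G}, x ∉ H → y ∉ H → x * y ∈ H := by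
    intro x y hx hy
    rw [Subgroup.mul_mem_iff_of_index_two hidx]
    exact ⟨fun h => absurd h hx, fun h => absurd h hy⟩
  apply card_le_of_fibers (ConjClasses.map H.subtype)
  · -- h0
    intro a g hg
    obtain ⟨h, rfl⟩ := ConjClasses.mk_surjective a
    rw [hmap, ConjClasses.mk_eq_mk_iff_isConj, isConj_iff] at hg
    obtain ⟨c, hc⟩ := hg
    have : g = c⁻¹ * (h : G) * c⁻¹⁻¹ := by rw [← hc]; group
    rw [this]
    exact hHn.conj_mem _ h.2 _
  · -- h2
    intro b
    by_cases hex : ∃ a0, ConjClasses.map H.subtype a0 = b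
    · obtain ⟨a0, ha0⟩ := hex
      obtain ⟨h0, rfl⟩ := ConjClasses.mk_surjective a0
      refine ⟨ConjClasses.mk h0, ConjClasses.mk ⟨t * h0 * t⁻¹, hHn.conj_mem _ h0.2 _⟩, ?_⟩
      intro a ha
      obtain ⟨h, rfl⟩ := ConjClasses.mk_surjective a
      rw [← ha0, hmap, hmap, ConjClasses.mk_eq_mk_iff_isConj, isConj_iff] at ha
      obtain ⟨g, hg⟩ := ha
      -- g * h * g⁻¹ = h0
      by_cases hgH : g ∈ H
      · left
        rw [ConjClasses.mk_eq_mk_iff_isConj, isConj_iff]
        exact ⟨⟨g, hgH⟩, Subtype.ext hg⟩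
      · right
        rw [ConjClasses.mk_eq_mk_iff_isConj, isConj_iff]
        refine ⟨⟨t * g, hout ht hgH⟩, Subtype.ext ?_⟩
        change t * g * (h : G) * (t * g)⁻¹ = t * h0 * t⁻¹
        rw [← hg]
        group
    · refine ⟨ConjClasses.mk 1, ConjClasses.mk 1, ?_⟩
      intro a ha
      exact absurd ⟨a, ha⟩ hex
  · -- h1
    intro b hQ a a' ha ha'
    push Not at hQ
    obtain ⟨g, hg, hcent⟩ := hQ
    obtain ⟨z, hz, hzH⟩ := SetLike.not_le_iff_exists.1 hcent
    rw [Subgroup.mem_centralizer_singleton_iff] at hz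
    obtain ⟨h, rfl⟩ := ConjClasses.mk_surjective a
    obtain ⟨h', rfl⟩ := ConjClasses.mk_surjective a'
    rw [hmap, ← hg, ConjClasses.mk_eq_mk_iff_isConj, isConj_iff] at ha ha'
    obtain ⟨y, hy⟩ := ha
    obtain ⟨y', hy'⟩ := ha'
    -- y * h * y⁻¹ = g ; y' * h' * y'⁻¹ = g
    rw [ConjClasses.mk_eq_mk_iff_isConj, isConj_iff]
    by_cases hx : y'⁻¹ * y ∈ H
    · refine ⟨⟨y'⁻¹ * y, hx⟩, Subtype.ext ?_⟩
      change y'⁻¹ * y * (h : G) * (y'⁻¹ * y)⁻¹ = h'
      have : (h' : G) = y'⁻¹ * g * y' := by rw [← hy']; group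
      rw [this, ← hy]
      group
    · have hzy : y'⁻¹ * z * y ∈ H := by
        have h1 : y'⁻¹ * z * y = (y'⁻¹ * y) * (y⁻¹ * z * y) := by group
        rw [h1]
        apply hout hx
        intro h2
        apply hzH
        have := hHn.conj_mem _ h2 y
        simpa [mul_assoc] using this
      refine ⟨⟨y'⁻¹ * z * y, hzy⟩, Subtype.ext ?_⟩
      change y'⁻¹ * z * y * (h : G) * (y'⁻¹ * z * y)⁻¹ = h'
      have e1 : (h' : G) = y'⁻¹ * g * y' := by rw [← hy']; group
      have e2 : y'⁻¹ * z * y * (h : G) * (y'⁻¹ * z * y)⁻¹ = y'⁻¹ * (z * (y * h * y⁻¹) * z⁻¹) * y' := by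
        group
      rw [e2, hy, hz, e1]
      group

end Cfsg.Agent.Helper4
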