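import Mathlib

set_option autoImplicit false

namespace Cfsg.Agent.Helper4

theorem sum_add_card_even_of_odd (s : Multiset ℕ) (h : ∀ i ∈ s, ¬ Even i) :
    Even (s.sum + Multiset.card s) := by
  induction s using Multiset.induction_on with
  | empty => simp
  | cons a s ih =>
    rw [Multiset.sum_cons, Multiset.card_cons]
    have h1 := ih (fun i hi => h i (Multiset.mem_cons_of_mem hi))
    have h2 : Odd a := Nat.not_even_iff_odd.1 (h a (Multiset.mem_cons_self a s))
    have : a + s.sum + (Multiset.card s + 1) = (s.sum + Multiset.card s) + (a + 1) := by ring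
    rw [this]
    exact h1.add (h2.add_odd odd_one)

/-- For `N ≥ 5` there are fewer partitions into distinct odd parts than partitions of odd type. -/
theorem card_oddDistincts_lt (N : ℕ) (hN : 5 ≤ N) :
    Fintype.card {l : Nat.Partition N // l ∈ Nat.Partition.oddDistincts N} <
      Fintype.card {μ : Nat.Partition N // Odd (Multiset.card μ.parts + N)} := by
  have hmem : ∀ l : Nat.Partition N, l ∈ Nat.Partition.oddDistincts N ↔
      (∀ i ∈ l.parts, ¬ Even i) ∧ l.parts.Nodup := by
    intro l
    unfold Nat.Partition.oddDistincts Nat.Partition.odds Nat.Partition.distincts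
      Nat.Partition.restricted
    rw [Finset.mem_inter, Finset.mem_filter, Finset.mem_filter]
    simp
  -- choice of a part that is at least 2
  have hex : ∀ l : {l : Nat.Partition N // l ∈ Nat.Partition.oddDistincts N},
      ∃ m, m ∈ l.1.parts ∧ 3 ≤ m := by
    intro l
    obtain ⟨hodd, hnd⟩ := (hmem l.1).1 l.2
    by_contra hcon
    push Not at hcon
    have hall : ∀ b ∈ l.1.parts, b = 1 := by
      intro b hb
      have h1 := hcon b hb
      have h2 := l.1.parts_pos hb
      have h3 := hodd b hb
      have : b ≠ 2 := fun h => h3 (h ▸ even_two)
      omega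
    have hrep : l.1.parts = Multiset.replicate (Multiset.card l.1.parts) 1 :=
      Multiset.eq_replicate.2 ⟨rfl, hall⟩
    have hcard : Multiset.card l.1.parts ≤ 1 := by
      by_contra hgt
      push Not at hgt
      have hc : Multiset.count 1 l.1.parts ≤ 1 := Multiset.nodup_iff_count_le_one.1 hnd 1
      rw [hrep, Multiset.count_replicate_self] at hc
      omega
    have hsum := l.1.parts_sum
    rw [hrep, Multiset.sum_replicate, smul_eq_mul, mul_one] at hsum
    omega
  choose m hm hm3 using hex
  have hsum : ∀ l : {l : Nat.Partition N // l ∈ Nat.Partition.oddDistincts N},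
      m l + (l.1.parts.erase (m l)).sum = N := by
    intro l
    have := congrArg Multiset.sum (Multiset.cons_erase (hm l))
    rw [Multiset.sum_cons, l.1.parts_sum] at this
    exact this
  have hcard : ∀ l : {l : Nat.Partition N // l ∈ Nat.Partition.oddDistincts N},
      Multiset.card (l.1.parts.erase (m l)) + 1 = Multiset.card l.1.parts := by
    intro l
    have := congrArg Multiset.card (Multiset.cons_erase (hm l))
    rw [Multiset.card_cons] at this
    exact this
  let φ : {l : Nat.Partition N // l ∈ Nat.Partition.oddDistincts N} →
      {μ : Nat.Partition N // Odd (Multiset.card μ.parts + N)} := fun l =>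
    ⟨{ parts := l.1.parts.erase (m l) + {m l - 1, 1}
       parts_pos := by
         intro i hi
         rw [Multiset.mem_add] at hi
         rcases hi with hi | hi
         · exact l.1.parts_pos (Multiset.erase_subset _ _ hi)
         · have h3 := hm3 l
           simp only [Multiset.insert_eq_cons, Multiset.mem_cons, Multiset.mem_singleton] at hi
           rcases hi with rfl | rfl <;> omega
       parts_sum := by
         rw [Multiset.sum_add]
         have h3 := hm3 l
         have hs := hsum l
         simp only [Multiset.insert_eq_cons, Multiset.sum_cons, Multiset.sum_singleton]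
         omega }, by
      obtain ⟨hodd, -⟩ := (hmem l.1).1 l.2
      have hev := sum_add_card_even_of_odd l.1.parts hodd
      rw [l.1.parts_sum] at hev
      have hc := hcard l
      simp only [Multiset.insert_eq_cons, Multiset.card_add, Multiset.card_cons,
        Multiset.card_singleton]
      have : Multiset.card (l.1.parts.erase (m l)) + (1 + 1) + N =
          (N + Multiset.card l.1.parts) + 1 := by omega
      rw [this]
      exact hev.add_one⟩
  have hφ : ∀ l, (φ l).1.parts = l.1.parts.erase (m l) + {m l - 1, 1} := fun l => rfl
  -- the even parts of the image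
  have hfilter : ∀ l, Multiset.filter Even (φ l).1.parts = {m l - 1} := by
    intro l
    obtain ⟨hodd, -⟩ := (hmem l.1).1 l.2
    have h3 := hm3 l
    have hmodd : ¬ Even (m l) := hodd _ (hm l)
    have hev : Even (m l - 1) := by
      rw [Nat.not_even_iff_odd] at hmodd
      obtain ⟨k, hk⟩ := hmodd
      exact ⟨k, by omega⟩
    rw [hφ, Multiset.filter_add]
    have h1 : Multiset.filter Even (l.1.parts.erase (m l)) = 0 := by
      rw [Multiset.filter_eq_nil]
      intro a ha
      exact hodd a (Multiset.erase_subset _ _ ha)
    rw [h1, zero_add]
    simp only [Multiset.insert_eq_cons]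
    rw [Multiset.filter_cons_of_pos _ hev, Multiset.filter_singleton]
    simp
  have hinj : Function.Injective φ := by
    intro l l' hll
    have h1 : (φ l).1.parts = (φ l').1.parts := by rw [hll]
    have h2 : ({m l - 1} : Multiset ℕ) = {m l' - 1} := by
      rw [← hfilter l, ← hfilter l', h1]
    have h3 : m l = m l' := by
      have := Multiset.singleton_inj.1 h2
      have := hm3 l
      have := hm3 l'
      omega
    rw [hφ, hφ, h3] at h1
    have h4 := add_right_cancel h1
    apply Subtype.ext
    apply Nat.Partition.ext
    rw [← Multiset.cons_erase (hm l), ← Multiset.cons_erase (hm l'), h3, h4]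
  -- an element outside the range
  let μ0 : {μ : Nat.Partition N // Odd (Multiset.card μ.parts + N)} :=
    ⟨{ parts := {2} + Multiset.replicate (N - 2) 1
       parts_pos := by
         intro i hi
         rw [Multiset.mem_add] at hi
         rcases hi with hi | hi
         · rw [Multiset.mem_singleton.1 hi]; norm_num
         · rw [Multiset.eq_of_mem_replicate hi]; norm_num
       parts_sum := by
         rw [Multiset.sum_add, Multiset.sum_replicate, Multiset.sum_singleton, smul_eq_mul,
           mul_one]
         omega }, by
      simp only [Multiset.card_add, Multiset.card_singleton, Multiset.card_replicate]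
      exact ⟨N - 1, by omega⟩⟩
  have hμ0 : μ0.1.parts = {2} + Multiset.replicate (N - 2) 1 := rfl
  apply Fintype.card_lt_of_injective_of_notMem φ hinj (b := μ0)
  rintro ⟨l, hl⟩
  obtain ⟨-, hnd⟩ := (hmem l.1).1 l.2
  have h1 : (φ l).1.parts = μ0.1.parts := by rw [hl]
  have h2 : Multiset.filter Even μ0.1.parts = {2} := by
    rw [hμ0, Multiset.filter_add, Multiset.filter_singleton]
    have : Multiset.filter Even (Multiset.replicate (N - 2) 1) = 0 := by
      rw [Multiset.filter_eq_nil]
      intro a ha
      rw [Multiset.eq_of_mem_replicate ha]
      decide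
    rw [this, add_zero]
    simp
  have h3 : m l - 1 = 2 := by
    have : ({m l - 1} : Multiset ℕ) = {2} := by rw [← hfilter l, h1, h2]
    exact Multiset.singleton_inj.1 this
  have hc1 := congrArg (Multiset.count 1) h1
  rw [hφ, hμ0, Multiset.count_add, Multiset.count_add, Multiset.count_replicate_self, h3] at hc1
  have h5 : Multiset.count 1 ({2, 1} : Multiset ℕ) = 1 := by decide
  have h6 : Multiset.count 1 ({2} : Multiset ℕ) = 0 := by decide
  rw [h5, h6] at hc1
  have h7 : Multiset.count 1 (l.1.parts.erase (m l)) ≤ Multiset.count 1 l.1.parts :=
    Multiset.count_le_of_le _ (Multiset.erase_le _ _)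
  have h8 := Multiset.nodup_iff_count_le_one.1 hnd 1
  omega

end Cfsg.Agent.Helper4
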