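import Mathlib

set_option autoImplicit false

namespace Cfsg.Agent.Helper4

open Nat

/-- partitions without a part `1` inject into partitions of `n - 2` -/
theorem card_partition_no_one_le (n : ℕ) (hn : 2 ≤ n) :
    Fintype.card {p : Nat.Partition n // ¬ 1 ∈ p.parts} ≤ Fintype.card (Nat.Partition (n - 2)) := by
  have hne : ∀ p : Nat.Partition n, ∃ a, a ∈ p.parts := by
    intro p
    apply Multiset.exists_mem_of_ne_zero
    intro h
    have := p.parts_sum
    rw [h, Multiset.sum_zero] at this
    omega
  choose a ha using hne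
  have ha2 : ∀ p : {p : Nat.Partition n // ¬ 1 ∈ p.parts}, 2 ≤ a p.1 := by
    intro p
    have h1 := p.1.parts_pos (ha p.1)
    have h2 : a p.1 ≠ 1 := by
      intro h
      have h3 := ha p.1
      rw [h] at h3
      exact p.2 h3
    omega
  have hsum : ∀ p : Nat.Partition n, a p + (p.parts.erase (a p)).sum = n := by
    intro p
    have := congrArg Multiset.sum (Multiset.cons_erase (ha p))
    rw [Multiset.sum_cons, p.parts_sum] at this
    exact this
  let ψ : {p : Nat.Partition n // ¬ 1 ∈ p.parts} → Nat.Partition (n - 2) := fun p =>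
    { parts := p.1.parts.erase (a p.1) + Multiset.replicate (a p.1 - 2) 1
      parts_pos := by
        intro i hi
        rw [Multiset.mem_add] at hi
        rcases hi with hi | hi
        · exact p.1.parts_pos (Multiset.erase_subset _ _ hi)
        · rw [Multiset.eq_of_mem_replicate hi]; exact Nat.one_pos
      parts_sum := by
        rw [Multiset.sum_add, Multiset.sum_replicate, smul_eq_mul, mul_one]
        have := hsum p.1
        have := ha2 p
        omega }
  have hψ : ∀ p, (ψ p).parts = p.1.parts.erase (a p.1) + Multiset.replicate (a p.1 - 2) 1 :=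
    fun p => rfl
  apply Fintype.card_le_of_injective ψ
  intro p q hpq
  have h := congrArg Nat.Partition.parts hpq
  rw [hψ, hψ] at h
  have hc1 : ∀ r : {p : Nat.Partition n // ¬ 1 ∈ p.parts},
      Multiset.count 1 (r.1.parts.erase (a r.1) + Multiset.replicate (a r.1 - 2) 1) = a r.1 - 2 := by
    intro r
    rw [Multiset.count_add, Multiset.count_replicate_self, Multiset.count_eq_zero_of_notMem,
      zero_add]
    intro hmem
    exact r.2 (Multiset.erase_subset _ _ hmem)
  have hab : a p.1 = a q.1 := by
    have h1 := congrArg (Multiset.count 1) h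
    rw [hc1, hc1] at h1
    have := ha2 p
    have := ha2 q
    omega
  rw [hab] at h
  have h2 := add_right_cancel h
  apply Subtype.ext
  apply Nat.Partition.ext
  rw [← Multiset.cons_erase (ha p.1), ← Multiset.cons_erase (ha q.1), hab, h2]

theorem card_partition_le_add (n : ℕ) (hn : 2 ≤ n) :
    Fintype.card (Nat.Partition n) ≤
      Fintype.card (Nat.Partition (n - 1)) + Fintype.card (Nat.Partition (n - 2)) := by
  have h1 : Fintype.card (Nat.Partition n) =
      Fintype.card {p : Nat.Partition n // 1 ∈ p.parts} +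
      Fintype.card {p : Nat.Partition n // ¬ 1 ∈ p.parts} := by
    rw [← Fintype.card_sum]
    exact Fintype.card_congr (Equiv.sumCompl (fun p : Nat.Partition n => 1 ∈ p.parts)).symm
  have h2 : Fintype.card {p : Nat.Partition n // 1 ∈ p.parts} =
      Fintype.card (Nat.Partition (n - 1)) :=
    Fintype.card_congr (Nat.Partition.partitionWithPartEquiv le_rfl (by omega))
  rw [h1, h2]
  exact Nat.add_le_add_left (card_partition_no_one_le n hn) _

theorem card_partition_le_fib (n : ℕ) : Fintype.card (Nat.Partition n) ≤ Nat.fib (n + 1) := by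
  induction n using Nat.strong_induction_on with
  | _ n ih =>
    rcases Nat.lt_or_ge n 2 with h | h
    · interval_cases n
      · simp [Fintype.card_unique]
      · simp [Fintype.card_unique]
    · obtain ⟨m, rfl⟩ : ∃ m, n = m + 2 := ⟨n - 2, by omega⟩
      have h1 := card_partition_le_add (m + 2) (by omega)
      have h2 : Fintype.card (Nat.Partition (m + 1)) ≤ Nat.fib (m + 2) := ih (m + 1) (by omega)
      have h3 : Fintype.card (Nat.Partition m) ≤ Nat.fib (m + 1) := ih m (by omega)
      have e1 : m + 2 - 1 = m + 1 := by omega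
      have e2 : m + 2 - 2 = m := by omega
      rw [e1, e2] at h1
      have hf : Nat.fib (m + 2 + 1) = Nat.fib (m + 1) + Nat.fib (m + 2) := by
        rw [show m + 2 + 1 = (m + 1) + 2 from rfl, Nat.fib_add_two]
      rw [hf]
      omega

theorem fib_le_two_pow (m : ℕ) : Nat.fib (m + 6) ≤ 2 ^ (m + 3) ∧ Nat.fib (m + 7) ≤ 2 ^ (m + 4) := by
  induction m with
  | zero => exact ⟨by decide, by decide⟩
  | succ m ih =>
    refine ⟨ih.2, ?_⟩
    have hf : Nat.fib (m + 1 + 7) = Nat.fib (m + 6) + Nat.fib (m + 7) := by
      rw [show m + 1 + 7 = (m + 6) + 2 from rfl, Nat.fib_add_two]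
    rw [hf]
    have e1 : 2 ^ (m + 1 + 4) = 2 ^ (m + 3) * 4 := by
      rw [show m + 1 + 4 = m + 3 + 2 from rfl, pow_add]; norm_num
    have e2 : 2 ^ (m + 4) = 2 ^ (m + 3) * 2 := by rw [show m + 4 = m + 3 + 1 from rfl, pow_succ]
    rw [e1]
    rw [e2] at ih
    omega

theorem card_partition_le_two_pow (n : ℕ) (hn : 5 ≤ n) :
    Fintype.card (Nat.Partition n) ≤ 2 ^ (n - 2) := by
  obtain ⟨m, rfl⟩ : ∃ m, n = m + 5 := ⟨n - 5, by omega⟩
  have h1 := card_partition_le_fib (m + 5)
  have h2 := (fib_le_two_pow m).1
  have e : m + 5 - 2 = m + 3 := by omega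
  rw [e]
  exact h1.trans h2

end Cfsg.Agent.Helper4
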