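import Mathlib

set_option autoImplicit false

namespace Cfsg.Agent.Helper4

open Equiv

variable {α : Type*} [Fintype α] [DecidableEq α]

/-- the partition of a conjugacy class of permutations -/
def classPartition : ConjClasses (Perm α) → Nat.Partition (Fintype.card α) :=
  Quotient.lift (fun σ : Perm α => σ.partition) (fun _ _ h => Perm.partition_eq_of_isConj.1 h)

theorem classPartition_mk (σ : Perm α) : classPartition (ConjClasses.mk σ) = σ.partition := rfl

theorem classPartition_injective : Function.Injective (classPartition (α := α)) := by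
  intro a b h
  obtain ⟨σ, rfl⟩ := ConjClasses.mk_surjective a
  obtain ⟨τ, rfl⟩ := ConjClasses.mk_surjective b
  rw [classPartition_mk, classPartition_mk] at h
  exact ConjClasses.mk_eq_mk_iff_isConj.2 (Perm.partition_eq_of_isConj.2 h)

theorem exists_perm_partition_eq (P : Nat.Partition (Fintype.card α)) :
    ∃ σ : Perm α, σ.partition = P := by
  obtain ⟨m, hm⟩ : ∃ m, m = P.parts.filter (2 ≤ ·) := ⟨_, rfl⟩
  obtain ⟨r, hr⟩ : ∃ r, r = P.parts.filter (fun a => ¬ 2 ≤ a) := ⟨_, rfl⟩
  have hsplit : m + r = P.parts := by rw [hm, hr]; exact Multiset.filter_add_not _ _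
  have hsum : m.sum + r.sum = Fintype.card α := by
    rw [← Multiset.sum_add, hsplit, P.parts_sum]
  have hr1 : r = Multiset.replicate (Multiset.card r) 1 := by
    rw [Multiset.eq_replicate]
    refine ⟨rfl, ?_⟩
    intro b hb
    rw [hr, Multiset.mem_filter] at hb
    have := P.parts_pos hb.1
    omega
  have hrsum : r.sum = Multiset.card r := by
    conv_lhs => rw [hr1]
    rw [Multiset.sum_replicate, smul_eq_mul, mul_one]
  obtain ⟨σ, hσ⟩ := (Perm.exists_with_cycleType_iff α (m := m)).2 ⟨by omega, by
    intro a ha
    rw [hm, Multiset.mem_filter] at ha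
    exact ha.2⟩
  refine ⟨σ, ?_⟩
  apply Nat.Partition.ext
  rw [Perm.parts_partition, ← Perm.sum_cycleType, hσ, ← hsplit]
  congr 1
  rw [hr1]
  congr 1
  omega

theorem classPartition_surjective : Function.Surjective (classPartition (α := α)) := by
  intro P
  obtain ⟨σ, hσ⟩ := exists_perm_partition_eq P
  exact ⟨ConjClasses.mk σ, by rw [classPartition_mk, hσ]⟩

theorem sign_eq_neg_one_pow_partition (σ : Perm α) :
    Perm.sign σ = (-1) ^ (σ.partition.parts.card + Fintype.card α) := by
  rw [Perm.sign_of_cycleType, Perm.parts_partition, Multiset.card_add, Multiset.card_replicate,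
    ← Perm.sum_cycleType]
  have hle : σ.cycleType.sum ≤ Fintype.card α := by
    rw [Perm.sum_cycleType]; exact Finset.card_le_univ _
  have : σ.cycleType.card + (Fintype.card α - σ.cycleType.sum) + Fintype.card α =
      (σ.cycleType.sum + σ.cycleType.card) + 2 * (Fintype.card α - σ.cycleType.sum) := by omega
  rw [this, pow_add (-1 : ℤˣ) (σ.cycleType.sum + σ.cycleType.card), pow_mul]
  simp

theorem mem_alternatingGroup_iff_partition (σ : Perm α) :
    σ ∈ alternatingGroup α ↔ Even (σ.partition.parts.card + Fintype.card α) := by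
  rw [Perm.mem_alternatingGroup, sign_eq_neg_one_pow_partition]
  exact neg_one_pow_eq_one_iff_even (by decide)

theorem partition_mem_oddDistincts_of_centralizer_le (σ : Perm α)
    (h : Subgroup.centralizer {σ} ≤ alternatingGroup α) :
    σ.partition ∈ Nat.Partition.oddDistincts (Fintype.card α) := by
  obtain ⟨hodd, hfix, hcount⟩ := Perm.centralizer_le_alternating_iff.1 h
  unfold Nat.Partition.oddDistincts Nat.Partition.odds Nat.Partition.distincts
    Nat.Partition.restricted
  rw [Finset.mem_inter, Finset.mem_filter, Finset.mem_filter]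
  refine ⟨⟨Finset.mem_univ _, ?_⟩, Finset.mem_univ _, ?_⟩
  · intro i hi
    rw [Perm.parts_partition, Multiset.mem_add] at hi
    rw [Nat.not_even_iff_odd]
    rcases hi with hi | hi
    · exact hodd i hi
    · rw [Multiset.eq_of_mem_replicate hi]; exact odd_one
  · rw [Perm.parts_partition, Multiset.nodup_add]
    refine ⟨Multiset.nodup_iff_count_le_one.2 hcount, ?_, ?_⟩
    · rw [← Perm.sum_cycleType]
      have : Fintype.card α - σ.cycleType.sum ≤ 1 := by omega
      interval_cases (Fintype.card α - σ.cycleType.sum)
      · simp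
      · simp
    · rw [Multiset.disjoint_left]
      intro a ha hb
      rw [Multiset.eq_of_mem_replicate hb] at ha
      have := Perm.two_le_of_mem_cycleType ha
      omega

end Cfsg.Agent.Helper4
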