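import Mathlib
import Cfsg.Agent.Helper4.PartitionBound
import Cfsg.Agent.Helper4.PermClassPartition
import Cfsg.Agent.Helper4.IndexTwoClasses
import Cfsg.Agent.Helper4.OddDistinctCount

set_option autoImplicit false

namespace Cfsg.Agent.Helper4

open Equiv

variable {α : Type*} [Fintype α] [DecidableEq α]

theorem card_conjClasses_perm_le :
    Nat.card (ConjClasses (Perm α)) ≤ Fintype.card (Nat.Partition (Fintype.card α)) := by
  rw [← Nat.card_eq_fintype_card]
  exact Nat.card_le_card_of_injective _ classPartition_injective

theorem card_conjClasses_alternatingGroup_lt (h5 : 5 ≤ Fintype.card α) :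
    Nat.card (ConjClasses (alternatingGroup α)) < Nat.card (ConjClasses (Perm α)) := by
  have hnt : Nontrivial α := Fintype.one_lt_card_iff_nontrivial.1 (by omega)
  have hidx : (alternatingGroup α).index = 2 := alternatingGroup.index_eq_two
  have h1 := card_conjClasses_index_two_le (alternatingGroup α) hidx
  -- the split classes inject into partitions with distinct odd parts
  have h2 : Nat.card {c : ConjClasses (Perm α) //
      (∀ g, ConjClasses.mk g = c → g ∈ alternatingGroup α) ∧
      (∀ g, ConjClasses.mk g = c → Subgroup.centralizer {g} ≤ alternatingGroup α)} ≤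
      Fintype.card {l : Nat.Partition (Fintype.card α) //
        l ∈ Nat.Partition.oddDistincts (Fintype.card α)} := by
    rw [← Nat.card_eq_fintype_card]
    refine Nat.card_le_card_of_injective (fun c => ⟨classPartition c.1, ?_⟩) ?_
    · obtain ⟨σ, hσ⟩ := ConjClasses.mk_surjective c.1
      rw [← hσ, classPartition_mk]
      exact partition_mem_oddDistincts_of_centralizer_le σ (c.2.2 σ hσ)
    · intro c c' hcc
      apply Subtype.ext
      apply classPartition_injective
      exact congrArg Subtype.val hcc
  have h3 := card_oddDistincts_lt (Fintype.card α) h5
  -- odd-type partitions inject into the classes outside the alternating group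
  have h4 : Fintype.card {μ : Nat.Partition (Fintype.card α) //
      Odd (Multiset.card μ.parts + Fintype.card α)} ≤
      Nat.card {c : ConjClasses (Perm α) //
        ¬ ∀ g, ConjClasses.mk g = c → g ∈ alternatingGroup α} := by
    rw [← Nat.card_eq_fintype_card]
    refine Nat.card_le_card_of_injective
      (fun μ => ⟨Function.surjInv classPartition_surjective μ.1, ?_⟩) ?_
    · intro hcon
      obtain ⟨σ, hσ⟩ := ConjClasses.mk_surjective
        (Function.surjInv (classPartition_surjective (α := α)) μ.1)
      have hmem := hcon σ hσ
      rw [mem_alternatingGroup_iff_partition] at hmem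
      have hp : σ.partition = μ.1 := by
        rw [← classPartition_mk, hσ]
        exact Function.surjInv_eq classPartition_surjective μ.1
      rw [hp] at hmem
      exact (Nat.not_even_iff_odd.2 μ.2) hmem
    · intro μ μ' h
      apply Subtype.ext
      have := congrArg Subtype.val h
      exact Function.injective_surjInv _ this
  have h5' : Nat.card {c : ConjClasses (Perm α) //
        ∀ g, ConjClasses.mk g = c → g ∈ alternatingGroup α} +
      Nat.card {c : ConjClasses (Perm α) //
        ¬ ∀ g, ConjClasses.mk g = c → g ∈ alternatingGroup α} =
      Nat.card (ConjClasses (Perm α)) := by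
    rw [← Nat.card_sum]
    classical
    exact Nat.card_congr (Equiv.sumCompl _)
  omega

end Cfsg.Agent.Helper4
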