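import Mathlib

set_option autoImplicit false

/-!
# `Good p a b`: the product `a * b` is not a `p`-element and `⟨a, b⟩` is not solvable

Transfer lemmas along homomorphisms.
-/

namespace Cfsg.Agent.Helper4.AnP

/-- `a * b` does not have `p`-power order and `⟨a, b⟩` is not solvable. -/
def Good {G : Type*} [Group G] (p : ℕ) (a b : G) : Prop :=
  (¬ ∃ k : ℕ, orderOf (a * b) = p ^ k) ∧
    ¬ Group.IsSolvable ↥(Subgroup.closure ({a, b} : Set G))

variable {G H : Type*} [Group G] [Group H]

theorem map_closure_pair (f : G →* H) (a b : G) :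
    (Subgroup.closure ({a, b} : Set G)).map f = Subgroup.closure ({f a, f b} : Set H) := by
  rw [MonoidHom.map_closure, Set.image_pair]

/-- If the images are good, so are the originals. -/
theorem good_of_map {p : ℕ} (hp : p.Prime) (f : G →* H) {a b : G}
    (h : Good p (f a) (f b)) : Good p a b := by
  refine ⟨?_, ?_⟩
  · rintro ⟨k, hk⟩
    apply h.1
    have hdvd : orderOf (f a * f b) ∣ p ^ k := by
      rw [← map_mul, ← hk]
      exact orderOf_map_dvd f (a * b)
    obtain ⟨j, _, hj⟩ := (Nat.dvd_prime_pow hp).1 hdvd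
    exact ⟨j, hj⟩
  · intro hs
    apply h.2
    rw [← map_closure_pair]
    exact Group.isSolvable_of_surjective
      (MonoidHom.subgroupMap_surjective f (Subgroup.closure ({a, b} : Set G)))

/-- Injective homomorphisms preserve goodness. -/
theorem good_map_of_injective {p : ℕ} (f : G →* H) (hf : Function.Injective f) {a b : G}
    (h : Good p a b) : Good p (f a) (f b) := by
  refine ⟨?_, ?_⟩
  · rintro ⟨k, hk⟩
    apply h.1
    refine ⟨k, ?_⟩
    rw [← hk, ← map_mul, orderOf_injective f hf]
  · intro hs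
    apply h.2
    rw [← map_closure_pair] at hs
    exact Group.isSolvable_of_isSolvable_injective
      (f := (Subgroup.equivMapOfInjective (Subgroup.closure ({a, b} : Set G)) f hf).toMonoidHom)
      (Subgroup.equivMapOfInjective (Subgroup.closure ({a, b} : Set G)) f hf).injective

theorem good_mulEquiv_iff {p : ℕ} (hp : p.Prime) (e : G ≃* H) {a b : G} :
    Good p (e a) (e b) ↔ Good p a b :=
  ⟨fun h => good_of_map hp e.toMonoidHom h,
    fun h => good_map_of_injective e.toMonoidHom e.injective h⟩

/-- Goodness is invariant under simultaneous conjugation. -/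
theorem good_conj_iff {p : ℕ} (hp : p.Prime) (x a b : G) :
    Good p (x * a * x⁻¹) (x * b * x⁻¹) ↔ Good p a b := by
  have := good_mulEquiv_iff hp (MulAut.conj x) (a := a) (b := b)
  simpa [MulAut.conj_apply] using this

/-- Goodness is symmetric. -/
theorem good_symm {p : ℕ} {a b : G} (h : Good p a b) : Good p b a := by
  refine ⟨?_, ?_⟩
  · rintro ⟨k, hk⟩
    apply h.1
    refine ⟨k, ?_⟩
    rw [← hk]
    have hsc : SemiconjBy b (a * b) (b * a) := by
      unfold SemiconjBy; group
    exact hsc.orderOf_eq b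
  · rw [Set.pair_comm]
    exact h.2

/-- Role swap: if `g * u * g⁻¹` is good against `w` (on the right), then `g⁻¹ * w * g` is good
against `u`. -/
theorem good_swap {p : ℕ} (hp : p.Prime) {u w g : G} (h : Good p w (g * u * g⁻¹)) :
    Good p u (g⁻¹ * w * (g⁻¹)⁻¹) := by
  have h1 : Good p (g * u * g⁻¹) w := good_symm h
  have h2 := (good_conj_iff hp g⁻¹ (g * u * g⁻¹) w).2
  have h3 : Good p (g⁻¹ * (g * u * g⁻¹) * (g⁻¹)⁻¹) (g⁻¹ * w * (g⁻¹)⁻¹) := by
    rw [good_conj_iff hp]
    exact h1
  have : g⁻¹ * (g * u * g⁻¹) * (g⁻¹)⁻¹ = u := by group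
  rw [this] at h3
  exact h3

end Cfsg.Agent.Helper4.AnP
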