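import Mathlib
import Cfsg.Agent.Helper4.AnP1

set_option autoImplicit false

/-!
# Reduction to an invariant subset, in cycle-type form
-/

namespace Cfsg.Agent.Helper4.AnP

open Equiv

variable {α : Type*} [Fintype α] [DecidableEq α]

theorem subtypeCongr_eq_mul (q : α → Prop) [DecidablePred q] (ep : Perm {x // q x})
    (en : Perm {x // ¬ q x}) :
    ep.subtypeCongr en = Perm.ofSubtype ep * Perm.ofSubtype en := by
  ext x
  by_cases hx : q x
  · rw [Perm.subtypeCongr.left_apply ep en hx, Perm.mul_apply,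
      Perm.ofSubtype_apply_of_not_mem en (not_not.2 hx), Perm.ofSubtype_apply_of_mem ep hx]
  · rw [Perm.subtypeCongr.right_apply ep en hx, Perm.mul_apply, Perm.ofSubtype_apply_of_mem en hx,
      Perm.ofSubtype_apply_of_not_mem ep]
    exact fun h => (en ⟨x, hx⟩).2 h

theorem cycleType_subtypeCongr (q : α → Prop) [DecidablePred q] (ep : Perm {x // q x})
    (en : Perm {x // ¬ q x}) :
    (ep.subtypeCongr en).cycleType = ep.cycleType + en.cycleType := by
  have hdisj : (Perm.ofSubtype ep).Disjoint (Perm.ofSubtype en) := by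
    intro x
    by_cases hx : q x
    · right; exact Perm.ofSubtype_apply_of_not_mem en (not_not.2 hx)
    · left; exact Perm.ofSubtype_apply_of_not_mem ep hx
  rw [subtypeCongr_eq_mul, hdisj.cycleType_mul, Perm.cycleType_ofSubtype, Perm.cycleType_ofSubtype]

/-- A permutation of `α` with prescribed cycle type, of the form `subtypeCongr u₀ a'`. -/
theorem exists_subtypeCongr_conj (q : α → Prop) [DecidablePred q] (u : Perm α)
    (u₀ : Perm {x // q x}) (hu : u₀.cycleType ≤ u.cycleType)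
    (hu' : (u.cycleType - u₀.cycleType).sum ≤ Fintype.card {x // ¬ q x}) :
    ∃ (a' : Perm {x // ¬ q x}) (x : Perm α), x * u * x⁻¹ = u₀.subtypeCongr a' := by
  obtain ⟨a', ha'⟩ := (Perm.exists_with_cycleType_iff (α := {x // ¬ q x})
    (m := u.cycleType - u₀.cycleType)).2 ⟨hu', fun a ha =>
      Perm.two_le_of_mem_cycleType (Multiset.mem_of_le (Multiset.sub_le_self _ _) ha)⟩
  have hct : (u₀.subtypeCongr a').cycleType = u.cycleType := by
    rw [cycleType_subtypeCongr, ha', add_tsub_cancel_of_le hu]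
  have hconj : IsConj u (u₀.subtypeCongr a') := (Perm.isConj_iff_cycleType_eq).2 hct.symm
  obtain ⟨x, hx⟩ := isConj_iff.1 hconj
  exact ⟨a', x, hx⟩

/-- **Reduction lemma**. -/
theorem reduction (q : α → Prop) [DecidablePred q] {p : ℕ} (hp : p.Prime) (u w : Perm α)
    (u₀ w₀ : Perm {x // q x})
    (hu : u₀.cycleType ≤ u.cycleType)
    (hu' : (u.cycleType - u₀.cycleType).sum ≤ Fintype.card {x // ¬ q x})
    (hw : w₀.cycleType ≤ w.cycleType)
    (hw' : (w.cycleType - w₀.cycleType).sum ≤ Fintype.card {x // ¬ q x})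
    (hbase : ∀ ε : ℤˣ, ∃ h : Perm {x // q x}, Perm.sign h = ε ∧ Good p u₀ (h * w₀ * h⁻¹))
    (ε : ℤˣ) : ∃ g : Perm α, Perm.sign g = ε ∧ Good p u (g * w * g⁻¹) := by
  obtain ⟨a', x, hx⟩ := exists_subtypeCongr_conj q u u₀ hu hu'
  obtain ⟨b', y, hy⟩ := exists_subtypeCongr_conj q w w₀ hw hw'
  obtain ⟨h, hs, hgood⟩ := hbase (ε * Perm.sign x * Perm.sign y)
  set Φ := Perm.subtypeCongrHom q with hΦ
  have hΦinj : Function.Injective Φ := Perm.subtypeCongrHom_injective q
  have hU : u₀.subtypeCongr a' = Φ (u₀, a') := rfl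
  have hW : w₀.subtypeCongr b' = Φ (w₀, b') := rfl
  have hgood1 : Good p ((u₀, a') : Perm {x // q x} × Perm {x // ¬ q x})
      ((h, 1) * (w₀, b') * (h, 1)⁻¹) := by
    apply good_of_map hp (MonoidHom.fst _ _)
    simpa using hgood
  have hgood2 := good_map_of_injective Φ hΦinj hgood1
  rw [map_mul, map_mul, map_inv, ← hU, ← hW, ← hx, ← hy] at hgood2
  refine ⟨x⁻¹ * Φ (h, 1) * y, ?_, ?_⟩
  · have hsΦ : Perm.sign (Φ (h, 1)) = Perm.sign h := by
      change Perm.sign (Perm.subtypeCongr h 1) = _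
      rw [Perm.sign_subtypeCongr, Perm.sign_one, mul_one]
    rw [Perm.sign_mul, Perm.sign_mul, Perm.sign_inv, hsΦ, hs]
    have hx2 : Perm.sign x * Perm.sign x = 1 := Int.units_mul_self _
    have hy2 : Perm.sign y * Perm.sign y = 1 := Int.units_mul_self _
    calc Perm.sign x * (ε * Perm.sign x * Perm.sign y) * Perm.sign y
        = ε * (Perm.sign x * Perm.sign x) * (Perm.sign y * Perm.sign y) := by
          simp only [mul_comm, mul_left_comm]
      _ = ε := by rw [hx2, hy2, mul_one, mul_one]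
  · rw [← good_conj_iff hp x]
    have e2 : x * (x⁻¹ * Φ (h, 1) * y * w * (x⁻¹ * Φ (h, 1) * y)⁻¹) * x⁻¹
        = Φ (h, 1) * (y * w * y⁻¹) * (Φ (h, 1))⁻¹ := by group
    rw [e2]
    exact hgood2

end Cfsg.Agent.Helper4.AnP
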