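import Mathlib

set_option autoImplicit false

/-!
# Greedy sub-multisets of `p`-powers with sum `p ^ k`
-/

namespace Cfsg.Agent.Helper4.AnP

theorem pow_dvd_of_le_pows {p : ℕ} (hp2 : 2 ≤ p) {a b : ℕ} (ha : ∃ j : ℕ, a = p ^ j)
    (hb : ∃ j : ℕ, b = p ^ j) (hab : b ≤ a) : b ∣ a := by
  obtain ⟨i, rfl⟩ := ha
  obtain ⟨j, rfl⟩ := hb
  exact pow_dvd_pow p ((Nat.pow_le_pow_iff_right hp2).1 hab)

/-- Greedy prefix: along a descending list of `p`-powers `≤ p ^ k`, partial sums starting from a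
value divisible by all entries hit `p ^ k` exactly, or the list is exhausted. -/
theorem exists_prefix_sum {p k : ℕ} (hp2 : 2 ≤ p) : ∀ (l : List ℕ),
    l.Pairwise (· ≥ ·) → (∀ a ∈ l, (∃ j : ℕ, a = p ^ j) ∧ a ≤ p ^ k) →
    ∀ s : ℕ, s ≤ p ^ k → (∀ a ∈ l, a ∣ s) →
    ∃ l₁ l₂ : List ℕ, l = l₁ ++ l₂ ∧ s + l₁.sum ≤ p ^ k ∧
      (s + l₁.sum = p ^ k ∨ l₂ = []) ∧ (s < p ^ k → l ≠ [] → l₁ ≠ []) := by
  intro l
  induction l with
  | nil =>
    intro _ _ s hs _
    exact ⟨[], [], rfl, by simpa using hs, Or.inr rfl, fun _ h => absurd rfl h⟩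
  | cons a l ih =>
    intro hsorted hl s hs hdiv
    rcases Nat.lt_or_ge s (p ^ k) with hlt | hge
    · have ha := hl a List.mem_cons_self
      have hak : a ∣ p ^ k := pow_dvd_of_le_pows hp2 ⟨k, rfl⟩ ha.1 ha.2
      have has : a ∣ s := hdiv a List.mem_cons_self
      have hsub : a ∣ p ^ k - s := Nat.dvd_sub hak has
      have hle : a ≤ p ^ k - s := Nat.le_of_dvd (by omega) hsub
      have hsorted' := List.pairwise_cons.1 hsorted
      obtain ⟨l₁, l₂, h1, h2, h3, _⟩ := ih hsorted'.2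
        (fun b hb => hl b (List.mem_cons_of_mem _ hb)) (s + a) (by omega) (fun b hb => by
          have hba : b ∣ a := pow_dvd_of_le_pows hp2 ha.1 (hl b (List.mem_cons_of_mem _ hb)).1
            (hsorted'.1 b hb)
          exact Nat.dvd_add (hdiv b (List.mem_cons_of_mem _ hb)) hba)
      refine ⟨a :: l₁, l₂, by rw [h1]; rfl, ?_, ?_, fun _ _ => List.cons_ne_nil _ _⟩
      · rw [List.sum_cons]; omega
      · rw [List.sum_cons]
        rcases h3 with h3 | h3
        · left; omega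
        · right; exact h3
    · refine ⟨[], a :: l, rfl, by simpa using hs, Or.inl (by simp; omega), fun h _ => by omega⟩

/-- **Greedy lemma** for multisets. -/
theorem exists_submultiset {p k : ℕ} (hp2 : 2 ≤ p) (m : Multiset ℕ)
    (hm : ∀ a ∈ m, (∃ j : ℕ, a = p ^ j) ∧ a ≤ p ^ k) (hne : m ≠ 0) :
    ∃ m' : Multiset ℕ, m' ≤ m ∧ m' ≠ 0 ∧ m'.sum ≤ p ^ k ∧ (m'.sum = p ^ k ∨ m' = m) := by
  set l := m.sort (· ≥ ·) with hl
  have hlm : (l : Multiset ℕ) = m := Multiset.sort_eq m _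
  have hmem : ∀ a ∈ l, a ∈ m := fun a ha => (Multiset.mem_sort (r := (· ≥ ·))).1 ha
  have hlne : l ≠ [] := by
    intro h
    apply hne
    rw [← hlm, h]; rfl
  obtain ⟨l₁, l₂, h1, h2, h3, h4⟩ := exists_prefix_sum hp2 l (Multiset.pairwise_sort m _)
    (fun a ha => hm a (hmem a ha)) 0 (Nat.zero_le _) (fun a _ => dvd_zero a)
  have hpos : 0 < p ^ k := Nat.pos_of_ne_zero (by positivity)
  refine ⟨(l₁ : Multiset ℕ), ?_, ?_, ?_, ?_⟩
  · rw [← hlm, h1, Multiset.coe_le]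
    exact (List.sublist_append_left l₁ l₂).subperm
  · have := h4 hpos hlne
    intro h
    apply this
    exact (Multiset.coe_eq_zero _).1 h
  · rw [Multiset.sum_coe]; omega
  · rcases h3 with h3 | h3
    · left; rw [Multiset.sum_coe]; omega
    · right
      rw [← hlm, h1, h3, List.append_nil]

end Cfsg.Agent.Helper4.AnP
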