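import Mathlib
import Cfsg.Agent.Helper4.AnP1

set_option autoImplicit false

/-!
# The small configurations for `p = 3` with all cycles of length `3`
-/

namespace Cfsg.Agent.Helper4.AnP

open Equiv
open scoped commutatorElement

/-- A subgroup generated by two elements lying in its own commutator subgroup is not solvable
(unless trivial). -/
theorem not_solvable_of_perfect_gens {G : Type*} [Group G] (a b : G) (ha1 : a ≠ 1)
    (ha : a ∈ ⁅Subgroup.closure ({a, b} : Set G), Subgroup.closure ({a, b} : Set G)⁆)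
    (hb : b ∈ ⁅Subgroup.closure ({a, b} : Set G), Subgroup.closure ({a, b} : Set G)⁆) :
    ¬ Group.IsSolvable ↥(Subgroup.closure ({a, b} : Set G)) := by
  set H := Subgroup.closure ({a, b} : Set G) with hH
  intro hsol
  have hle : ⁅H, H⁆ ≤ H := by
    rw [Subgroup.commutator_le]
    intro g₁ h₁ g₂ h₂
    exact H.mul_mem (H.mul_mem (H.mul_mem h₁ h₂) (H.inv_mem h₁)) (H.inv_mem h₂)
  have hge : H ≤ ⁅H, H⁆ := by
    rw [hH, Subgroup.closure_le]
    intro x hx
    rcases hx with rfl | hx
    · exact ha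
    · rw [Set.mem_singleton_iff] at hx; rw [hx]; exact hb
  have heq : ⁅H, H⁆ = H := le_antisymm hle hge
  have haH : a ∈ H := Subgroup.subset_closure (by simp)
  have : Nontrivial H := ⟨⟨⟨a, haH⟩, 1, fun h => ha1 (congrArg Subtype.val h)⟩⟩
  have hlt := Group.IsSolvable.commutator_lt_top_of_nontrivial H
  have hmap : (_root_.commutator H).map H.subtype = (⊤ : Subgroup H).map H.subtype := by
    rw [Subgroup.map_subtype_commutator, heq, ← MonoidHom.range_eq_map, Subgroup.range_subtype]
  have := Subgroup.map_injective H.subtype_injective hmap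
  rw [this] at hlt
  exact lt_irrefl _ hlt

/-- An element of order prime to `3` is not a nontrivial `3`-element. -/
theorem not_three_pow_order {G : Type*} [Group G] (x : G) (n : ℕ) (hn : x ^ n = 1)
    (hcop : Nat.Coprime 3 n) (hx : x ≠ 1) : ¬ ∃ k : ℕ, orderOf x = 3 ^ k := by
  rintro ⟨k, hk⟩
  have h1 : orderOf x ∣ n := orderOf_dvd_of_pow_eq_one hn
  rw [hk] at h1
  have h2 : 3 ^ k = 1 := Nat.Coprime.eq_one_of_dvd (Nat.Coprime.pow_left k hcop) h1
  rw [h2] at hk
  exact hx (orderOf_eq_one_iff.1 hk)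

/-- From goodness and an odd centralizing element: good conjugates of either sign. -/
theorem exists_sign_of_good_centralizer {α : Type*} [Fintype α] [DecidableEq α] {p : ℕ}
    (u w z : Perm α) (hgood : Good p u w) (hz1 : Perm.sign z = -1) (hz2 : z * w = w * z)
    (ε : ℤˣ) : ∃ h : Perm α, Perm.sign h = ε ∧ Good p u (h * w * h⁻¹) := by
  rcases Int.units_eq_one_or ε with h | h
  · refine ⟨1, by rw [Perm.sign_one, h], ?_⟩
    rw [one_mul, inv_one, mul_one]; exact hgood
  · refine ⟨z, by rw [hz1, h], ?_⟩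
    have : z * w * z⁻¹ = w := by rw [hz2]; group
    rw [this]; exact hgood

/-! ### The permutations -/

/-- `(0 1 2)` on five points. -/
def u5 : Perm (Fin 5) := swap 1 0 * swap 1 2
/-- `(2 3 4)` on five points. -/
def w5 : Perm (Fin 5) := swap 3 2 * swap 3 4
/-- `(0 1 2)(3 4 5)` on six points. -/
def u6 : Perm (Fin 6) := (swap 1 0 * swap 1 2) * (swap 4 3 * swap 4 5)
/-- `(2 3 4)` on six points. -/
def w6a : Perm (Fin 6) := swap 3 2 * swap 3 4
/-- `(0 1 3)(2 5 4)` on six points. -/
def w6b : Perm (Fin 6) := (swap 1 0 * swap 1 3) * (swap 5 2 * swap 5 4)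

theorem cycleType_u5 : u5.cycleType = Multiset.replicate 1 3 := by
  have : Perm.IsThreeCycle u5 :=
    Perm.isThreeCycle_swap_mul_swap_same (by decide) (by decide) (by decide)
  rw [this.cycleType]; rfl

theorem cycleType_w5 : w5.cycleType = Multiset.replicate 1 3 := by
  have : Perm.IsThreeCycle w5 :=
    Perm.isThreeCycle_swap_mul_swap_same (by decide) (by decide) (by decide)
  rw [this.cycleType]; rfl

theorem cycleType_w6a : w6a.cycleType = Multiset.replicate 1 3 := by
  have : Perm.IsThreeCycle w6a :=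
    Perm.isThreeCycle_swap_mul_swap_same (by decide) (by decide) (by decide)
  rw [this.cycleType]; rfl

theorem cycleType_u6 : u6.cycleType = Multiset.replicate 2 3 := by
  have h1 : Perm.IsThreeCycle (swap 1 0 * swap 1 2 : Perm (Fin 6)) :=
    Perm.isThreeCycle_swap_mul_swap_same (by decide) (by decide) (by decide)
  have h2 : Perm.IsThreeCycle (swap 4 3 * swap 4 5 : Perm (Fin 6)) :=
    Perm.isThreeCycle_swap_mul_swap_same (by decide) (by decide) (by decide)
  have hd : Perm.Disjoint (swap 1 0 * swap 1 2 : Perm (Fin 6)) (swap 4 3 * swap 4 5) := by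
    intro x; fin_cases x <;> decide
  unfold u6
  rw [hd.cycleType_mul, h1.cycleType, h2.cycleType]; rfl

theorem cycleType_w6b : w6b.cycleType = Multiset.replicate 2 3 := by
  have h1 : Perm.IsThreeCycle (swap 1 0 * swap 1 3 : Perm (Fin 6)) :=
    Perm.isThreeCycle_swap_mul_swap_same (by decide) (by decide) (by decide)
  have h2 : Perm.IsThreeCycle (swap 5 2 * swap 5 4 : Perm (Fin 6)) :=
    Perm.isThreeCycle_swap_mul_swap_same (by decide) (by decide) (by decide)
  have hd : Perm.Disjoint (swap 1 0 * swap 1 3 : Perm (Fin 6)) (swap 5 2 * swap 5 4) := by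
    intro x; fin_cases x <;> decide
  unfold w6b
  rw [hd.cycleType_mul, h1.cycleType, h2.cycleType]; rfl

/-! ### Goodness of the three configurations -/

set_option maxRecDepth 20000

theorem good_cfg1 : Good 3 u5 w5 := by
  refine ⟨not_three_pow_order (u5 * w5) 5 (by decide +kernel) (by decide +kernel)
    (by decide +kernel), ?_⟩
  have hu : u5 ∈ Subgroup.closure ({u5, w5} : Set (Perm (Fin 5))) :=
    Subgroup.subset_closure (by simp)
  have hw : w5 ∈ Subgroup.closure ({u5, w5} : Set (Perm (Fin 5))) :=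
    Subgroup.subset_closure (by simp)
  have hU := Subgroup.inv_mem _ hu
  have hW := Subgroup.inv_mem _ hw
  apply not_solvable_of_perfect_gens u5 w5 (by decide +kernel)
  · have h2 := Subgroup.commutator_mem_commutator hU
      (Subgroup.mul_mem _ (Subgroup.mul_mem _ (Subgroup.mul_mem _ (Subgroup.mul_mem _ hw hu) hW)
        hU) hw)
    have h1 : ⁅u5⁻¹, w5 * u5 * w5⁻¹ * u5⁻¹ * w5⁆ = u5 := by decide +kernel
    rw [h1] at h2
    exact h2
  · have h2 := Subgroup.commutator_mem_commutator hW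
      (Subgroup.mul_mem _ (Subgroup.mul_mem _ (Subgroup.mul_mem _ (Subgroup.mul_mem _ hu hw) hU)
        hW) hu)
    have h1 : ⁅w5⁻¹, u5 * w5 * u5⁻¹ * w5⁻¹ * u5⁆ = w5 := by decide +kernel
    rw [h1] at h2
    exact h2

theorem good_cfg3 : Good 3 u6 w6b := by
  refine ⟨not_three_pow_order (u6 * w6b) 5 (by decide +kernel) (by decide +kernel)
    (by decide +kernel), ?_⟩
  have hu : u6 ∈ Subgroup.closure ({u6, w6b} : Set (Perm (Fin 6))) :=
    Subgroup.subset_closure (by simp)
  have hw : w6b ∈ Subgroup.closure ({u6, w6b} : Set (Perm (Fin 6))) :=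
    Subgroup.subset_closure (by simp)
  have hU := Subgroup.inv_mem _ hu
  have hW := Subgroup.inv_mem _ hw
  apply not_solvable_of_perfect_gens u6 w6b (by decide +kernel)
  · have h2 := Subgroup.commutator_mem_commutator hU
      (Subgroup.mul_mem _ (Subgroup.mul_mem _ (Subgroup.mul_mem _ (Subgroup.mul_mem _ hw hu) hW)
        hU) hw)
    have h1 : ⁅u6⁻¹, w6b * u6 * w6b⁻¹ * u6⁻¹ * w6b⁆ = u6 := by decide +kernel
    rw [h1] at h2
    exact h2
  · have h2 := Subgroup.commutator_mem_commutator hW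
      (Subgroup.mul_mem _ (Subgroup.mul_mem _ (Subgroup.mul_mem _ (Subgroup.mul_mem _ hu hw) hU)
        hW) hu)
    have h1 : ⁅w6b⁻¹, u6 * w6b * u6⁻¹ * w6b⁻¹ * u6⁆ = w6b := by decide +kernel
    rw [h1] at h2
    exact h2

theorem good_cfg2 : Good 3 u6 w6a := by
  refine ⟨not_three_pow_order (u6 * w6a) 4 (by decide +kernel) (by decide +kernel)
    (by decide +kernel), ?_⟩
  have hu : u6 ∈ Subgroup.closure ({u6, w6a} : Set (Perm (Fin 6))) :=
    Subgroup.subset_closure (by simp)
  have hw : w6a ∈ Subgroup.closure ({u6, w6a} : Set (Perm (Fin 6))) :=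
    Subgroup.subset_closure (by simp)
  have hU := Subgroup.inv_mem _ hu
  have hW := Subgroup.inv_mem _ hw
  apply not_solvable_of_perfect_gens u6 w6a (by decide +kernel)
  · have h2 := Subgroup.commutator_mem_commutator
      (Subgroup.mul_mem _ (Subgroup.mul_mem _ (Subgroup.mul_mem _ (Subgroup.mul_mem _ hw hu) hW)
        hu) hW)
      (Subgroup.mul_mem _ (Subgroup.mul_mem _ (Subgroup.mul_mem _ (Subgroup.mul_mem _
        (Subgroup.mul_mem _ hu hW) hU) hw) hU) hw)
    have h1 : ⁅w6a * u6 * w6a⁻¹ * u6 * w6a⁻¹, u6 * w6a⁻¹ * u6⁻¹ * w6a * u6⁻¹ * w6a⁆ = u6 := by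
      decide +kernel
    rw [h1] at h2
    exact h2
  · have h2 := Subgroup.commutator_mem_commutator
      (Subgroup.mul_mem _ (Subgroup.mul_mem _ (Subgroup.mul_mem _ (Subgroup.mul_mem _ hu hw) hU)
        hw) hU)
      (Subgroup.mul_mem _ (Subgroup.mul_mem _ (Subgroup.mul_mem _ (Subgroup.mul_mem _
        (Subgroup.mul_mem _ hw hU) hW) hu) hW) hu)
    have h1 : ⁅u6 * w6a * u6⁻¹ * w6a * u6⁻¹, w6a * u6⁻¹ * w6a⁻¹ * u6 * w6a⁻¹ * u6⁆ = w6a := by
      decide +kernel
    rw [h1] at h2
    exact h2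

theorem base_cfg1 (ε : ℤˣ) :
    ∃ h : Perm (Fin 5), Perm.sign h = ε ∧ Good 3 u5 (h * w5 * h⁻¹) :=
  exists_sign_of_good_centralizer u5 w5 (swap 0 1) good_cfg1
    (Perm.sign_swap (by decide +kernel)) (by decide +kernel) ε

theorem base_cfg2 (ε : ℤˣ) :
    ∃ h : Perm (Fin 6), Perm.sign h = ε ∧ Good 3 u6 (h * w6a * h⁻¹) :=
  exists_sign_of_good_centralizer u6 w6a (swap 0 1) good_cfg2
    (Perm.sign_swap (by decide +kernel)) (by decide +kernel) ε

theorem base_cfg3 (ε : ℤˣ) :
    ∃ h : Perm (Fin 6), Perm.sign h = ε ∧ Good 3 u6 (h * w6b * h⁻¹) := by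
  refine exists_sign_of_good_centralizer u6 w6b (swap 0 2 * swap 1 5 * swap 3 4) good_cfg3
    ?_ (by decide +kernel) ε
  rw [Perm.sign_mul, Perm.sign_mul, Perm.sign_swap (by decide +kernel), Perm.sign_swap (by decide +kernel),
    Perm.sign_swap (by decide +kernel)]
  rfl


end Cfsg.Agent.Helper4.AnP
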