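import Mathlib
import Cfsg.Agent.Helper4.PrimitiveSocle

set_option autoImplicit false

/-!
# Fixed points of elements of a solvable primitive group

A solvable primitive permutation group of degree `p ^ k` has a regular normal abelian subgroup;
hence the number of fixed points of any element is `0` or a power of `p`.
-/

namespace Cfsg.Agent.Helper4.AnP

open MulAction

/-- For a regular normal abelian subgroup `A` and an element `g` fixing `ω`, the fixed points of
`g` are in bijection with `C_A(g)`. -/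
theorem card_centralizer_eq_card_fixedBy {G Ω : Type*} [Group G] [MulAction G Ω]
    (A : Subgroup G) [hAn : A.Normal] [IsPretransitive A Ω]
    (hreg : ∀ a ∈ A, ∀ ω : Ω, a • ω = ω → a = 1) (g : G) (ω : Ω) (hω : g • ω = ω) :
    Nat.card ↥(A ⊓ Subgroup.centralizer {g}) = Nat.card (fixedBy Ω g) := by
  have hginv : g⁻¹ • ω = ω := by rw [inv_smul_eq_iff, hω]
  have hwd : ∀ c : ↥(A ⊓ Subgroup.centralizer {g}), (c : G) • ω ∈ fixedBy Ω g := by
    intro c
    have hc : g * (c : G) = (c : G) * g :=
      (Subgroup.mem_centralizer_iff.1 (Subgroup.mem_inf.1 c.2).2) g (Set.mem_singleton g)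
    change g • ((c : G) • ω) = (c : G) • ω
    rw [← mul_smul, hc, mul_smul, hω]
  refine Nat.card_eq_of_bijective (fun c => (⟨(c : G) • ω, hwd c⟩ : fixedBy Ω g)) ⟨?_, ?_⟩
  · intro c c' h
    have h1 : (c : G) • ω = (c' : G) • ω := congrArg Subtype.val h
    have h2 : ((c' : G)⁻¹ * (c : G)) • ω = ω := by rw [mul_smul, h1, inv_smul_smul]
    have h3 := hreg _ (A.mul_mem (A.inv_mem (Subgroup.mem_inf.1 c'.2).1)
      (Subgroup.mem_inf.1 c.2).1) ω h2
    apply Subtype.ext
    rw [inv_mul_eq_one] at h3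
    exact h3.symm
  · rintro ⟨x, hx⟩
    obtain ⟨a, ha⟩ := exists_smul_eq A ω x
    have ha' : (a : G) • ω = x := ha
    have hx' : g • x = x := hx
    have hb : (a : G)⁻¹ * (g * (a : G) * g⁻¹) ∈ A :=
      A.mul_mem (A.inv_mem a.2) (hAn.conj_mem _ a.2 g)
    have hbω : ((a : G)⁻¹ * (g * (a : G) * g⁻¹)) • ω = ω := by
      rw [mul_smul, mul_smul, mul_smul, hginv, ha', hx', ← ha', inv_smul_smul]
    have h1 := hreg _ hb ω hbω
    have hcomm : g * (a : G) = (a : G) * g := by
      have h2 : g * (a : G) * g⁻¹ = (a : G) := by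
        rw [inv_mul_eq_one] at h1
        exact h1.symm
      calc g * (a : G) = g * (a : G) * g⁻¹ * g := by group
        _ = (a : G) * g := by rw [h2]
    have hmem : (a : G) ∈ A ⊓ Subgroup.centralizer {g} := by
      refine Subgroup.mem_inf.2 ⟨a.2, ?_⟩
      rw [Subgroup.mem_centralizer_iff]
      intro h hh
      rw [Set.mem_singleton_iff] at hh
      rw [hh]
      exact hcomm
    exact ⟨⟨a, hmem⟩, Subtype.ext ha'⟩

/-- A nontrivial solvable group has a nontrivial normal abelian subgroup. -/
theorem exists_normal_abelian_of_solvable {G : Type*} [Group G] [hs : Group.IsSolvable G]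
    [Nontrivial G] :
    ∃ A : Subgroup G, A.Normal ∧ A ≠ ⊥ ∧ ∀ a ∈ A, ∀ b ∈ A, a * b = b * a := by
  classical
  have hex : ∃ n, derivedSeries G n = ⊥ := hs.solvable
  have h0 : Nat.find hex ≠ 0 := by
    intro h
    have := Nat.find_spec hex
    rw [h, derivedSeries_zero] at this
    exact top_ne_bot this
  obtain ⟨m, hm⟩ := Nat.exists_eq_succ_of_ne_zero h0
  have hmlt : m < Nat.find hex := by omega
  have hne : derivedSeries G m ≠ ⊥ := Nat.find_min hex hmlt
  have hbot : derivedSeries G (m + 1) = ⊥ := by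
    have := Nat.find_spec hex
    rwa [hm] at this
  refine ⟨derivedSeries G m, derivedSeries_normal G m, hne, ?_⟩
  intro a ha b hb
  rw [derivedSeries_succ, Subgroup.commutator_eq_bot_iff_le_centralizer] at hbot
  have := (Subgroup.mem_centralizer_iff.1 (hbot ha)) b hb
  exact this.symm

/-- **Fixed-point lemma**: in a solvable primitive group of degree `p ^ k`, the number of fixed
points of any element is `0` or a power of `p`. -/
theorem fix_card_of_primitive_solvable {Ω : Type*} [Fintype Ω] [DecidableEq Ω] {p k : ℕ}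
    (hp : p.Prime) (hΩ : Fintype.card Ω = p ^ k) (G : Subgroup (Equiv.Perm Ω))
    (hprim : IsPreprimitive G Ω) (hsol : Group.IsSolvable G) (g : Equiv.Perm Ω) (hg : g ∈ G) :
    (Finset.univ.filter (fun x => g x = x)).card = 0 ∨
      ∃ j : ℕ, (Finset.univ.filter (fun x => g x = x)).card = p ^ j := by
  classical
  by_cases hfix : ∃ ω, g ω = ω
  swap
  · left
    rw [Finset.card_eq_zero, Finset.filter_eq_empty_iff]
    intro x _ hx
    exact hfix ⟨x, hx⟩
  right
  obtain ⟨ω, hω⟩ := hfix
  by_cases hG : Nontrivial G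
  swap
  · -- trivial group: `g = 1`
    rw [not_nontrivial_iff_subsingleton] at hG
    have hg1 : g = 1 := by
      have : (⟨g, hg⟩ : G) = 1 := Subsingleton.elim _ _
      exact congrArg Subtype.val this
    refine ⟨k, ?_⟩
    rw [← hΩ, hg1]
    simp
  obtain ⟨A, hAn, hAne, hAc⟩ := exists_normal_abelian_of_solvable (G := G)
  have := hAn
  have hAtr : IsPretransitive A Ω := normal_isPretransitive A hAne
  have hreg : ∀ a ∈ A, ∀ ω : Ω, a • ω = ω → a = 1 := by
    intro a ha ω' h
    exact eq_one_of_commute_transitive A a (fun k hk => hAc a ha k hk) ω' h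
  have h1 := card_centralizer_eq_card_fixedBy A hreg (⟨g, hg⟩ : G) ω hω
  have h2 := card_centralizer_eq_card_fixedBy A hreg (1 : G) ω (one_smul _ _)
  have hfix1 : Nat.card (fixedBy Ω (1 : G)) = p ^ k := by
    rw [← hΩ, ← Nat.card_eq_fintype_card]
    apply Nat.card_congr
    refine ⟨fun x => x.1, fun x => ⟨x, one_smul _ _⟩, fun x => rfl, fun x => rfl⟩
  have hfixg : Nat.card (fixedBy Ω (⟨g, hg⟩ : G)) = (Finset.univ.filter (fun x => g x = x)).card := by
    rw [Nat.card_eq_fintype_card, ← Fintype.card_subtype]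
    rfl
  have hdvd : Nat.card ↥(A ⊓ Subgroup.centralizer {(⟨g, hg⟩ : G)}) ∣
      Nat.card ↥(A ⊓ Subgroup.centralizer {(1 : G)}) := by
    apply Subgroup.card_dvd_of_le
    intro x hx
    refine Subgroup.mem_inf.2 ⟨(Subgroup.mem_inf.1 hx).1, ?_⟩
    rw [Subgroup.mem_centralizer_iff]
    intro h hh
    rw [Set.mem_singleton_iff] at hh
    rw [hh, one_mul, mul_one]
  rw [h1, h2, hfix1, hfixg] at hdvd
  obtain ⟨j, _, hj⟩ := (Nat.dvd_prime_pow hp).1 hdvd
  exact ⟨j, hj⟩

/-- A primitive group of degree `p ^ k` containing an element whose number of fixed points is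
neither divisible by `p` nor equal to `1` is not solvable. -/
theorem not_solvable_of_primitive_of_fix {Ω : Type*} [Fintype Ω] [DecidableEq Ω] {p k : ℕ}
    (hp : p.Prime) (hΩ : Fintype.card Ω = p ^ k) (G : Subgroup (Equiv.Perm Ω))
    (hprim : IsPreprimitive G Ω) (g : Equiv.Perm Ω) (hg : g ∈ G)
    (h1 : ¬ p ∣ (Finset.univ.filter (fun x => g x = x)).card)
    (h2 : (Finset.univ.filter (fun x => g x = x)).card ≠ 1) : ¬ Group.IsSolvable G := by
  intro hsol
  rcases fix_card_of_primitive_solvable hp hΩ G hprim hsol g hg with h | ⟨j, hj⟩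
  · apply h1
    rw [h]
    exact dvd_zero p
  · rcases Nat.eq_zero_or_pos j with rfl | hjpos
    · rw [pow_zero] at hj
      exact h2 hj
    · apply h1
      rw [hj]
      exact dvd_pow_self p hjpos.ne'

end Cfsg.Agent.Helper4.AnP
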