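import Mathlib

set_option autoImplicit false

/-!
# A primitivity criterion for groups containing the `p ^ k`-cycle `finRotate`
-/

namespace Cfsg.Agent.Helper4.AnP

open MulAction Equiv
open scoped Pointwise

theorem finRotate_val {N : ℕ} [NeZero N] (a : Fin N) :
    ((finRotate N) a).val = (a.val + 1) % N := by
  obtain ⟨n, rfl⟩ : ∃ n, N = n + 1 := Nat.exists_eq_succ_of_ne_zero (NeZero.ne N)
  rw [coe_finRotate]
  split_ifs with h
  · rw [h, Fin.val_last, Nat.mod_self]
  · have : a.val ≠ n := fun h' => h (Fin.ext (by rw [Fin.val_last]; exact h'))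
    have := a.2
    rw [Nat.mod_eq_of_lt (by omega)]

theorem finRotate_pow_val {N : ℕ} [NeZero N] (i : ℕ) (a : Fin N) :
    (((finRotate N) ^ i) a).val = (a.val + i) % N := by
  induction i with
  | zero => simp [Nat.mod_eq_of_lt a.2]
  | succ i ih =>
    rw [pow_succ', Equiv.Perm.mul_apply, finRotate_val, ih, Nat.add_mod, Nat.mod_mod,
      ← Nat.add_mod, add_assoc]

theorem finRotate_pow_card {N : ℕ} [NeZero N] : (finRotate N) ^ N = 1 := by
  ext a
  rw [finRotate_pow_val, Equiv.Perm.one_apply, Nat.add_mod_right, Nat.mod_eq_of_lt a.2]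

/-- The power of `finRotate` moving `a` to `b`. -/
theorem finRotate_pow_apply_eq {N : ℕ} [NeZero N] (a b : Fin N) :
    ((finRotate N) ^ ((b.val + N - a.val) % N)) a = b := by
  apply Fin.ext
  rw [finRotate_pow_val, Nat.add_mod_mod]
  have ha := a.2
  have hb := b.2
  have : a.val + (b.val + N - a.val) = b.val + N := by omega
  rw [this, Nat.add_mod_right, Nat.mod_eq_of_lt hb]

/-- Number theory: every nonzero residue mod `p ^ k` has a multiple congruent to `p ^ (k-1)`. -/
theorem exists_mul_mod_eq_pow {p k : ℕ} (hp : p.Prime) (hk : 1 ≤ k) {i : ℕ} (hi0 : 0 < i)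
    (hi : i < p ^ k) : ∃ s, (i * s) % p ^ k = p ^ (k - 1) := by
  obtain ⟨e, i', hi', rfl⟩ := Nat.exists_eq_pow_mul_and_not_dvd hi0.ne' p hp.ne_one
  have he : e ≤ k - 1 := by
    by_contra h
    have hke : k ≤ e := by omega
    have h1 : p ^ k ≤ p ^ e := Nat.pow_le_pow_right hp.pos hke
    have h2 : p ^ e ≤ p ^ e * i' := by
      apply Nat.le_mul_of_pos_right
      rcases Nat.eq_zero_or_pos i' with h0 | h0
      · rw [h0] at hi'; exact absurd (dvd_zero p) hi'
      · exact h0
    omega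
  have hcop : Nat.Coprime i' (p ^ k) :=
    Nat.Coprime.pow_right k ((Nat.Prime.coprime_iff_not_dvd hp).2 hi').symm
  have h1lt : 1 < p ^ k := Nat.one_lt_pow (by omega) hp.one_lt
  obtain ⟨s', -, hs'⟩ := Nat.exists_mul_mod_eq_one_of_coprime hcop h1lt
  refine ⟨s' * p ^ (k - 1 - e), ?_⟩
  have hpk : p ^ (k - 1) < p ^ k := Nat.pow_lt_pow_right hp.one_lt (by omega)
  have hmod : (i' * s') ≡ 1 [MOD p ^ k] := by
    unfold Nat.ModEq
    rw [hs', Nat.mod_eq_of_lt h1lt]
  have h2 : p ^ (k - 1) * (i' * s') ≡ p ^ (k - 1) * 1 [MOD p ^ k] := Nat.ModEq.mul_left _ hmod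
  have h3 : p ^ e * i' * (s' * p ^ (k - 1 - e)) = p ^ (k - 1) * (i' * s') := by
    have : p ^ (k - 1) = p ^ e * p ^ (k - 1 - e) := by
      rw [← pow_add]; congr 1; omega
    rw [this]; ring
  rw [h3]
  unfold Nat.ModEq at h2
  rw [h2, mul_one, Nat.mod_eq_of_lt hpk]

section

variable {N : ℕ}

/-- A permutation in the group mapping a point of the block into the block stabilizes it. -/
theorem smul_eq_of_isBlock {G : Subgroup (Perm (Fin N))} {B : Set (Fin N)} (hB : IsBlock G B)
    {σ : Perm (Fin N)} (hσ : σ ∈ G) {a : Fin N} (ha : a ∈ B) (hσa : σ a ∈ B) : σ • B = B := by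
  have := (isBlock_iff_smul_eq_of_mem.1 hB) (g := (⟨σ, hσ⟩ : G)) ha hσa
  exact this

theorem pow_smul_eq {B : Set (Fin N)} {σ : Perm (Fin N)} (h : σ • B = B) (s : ℕ) :
    (σ ^ s) • B = B := by
  have hmem : σ ∈ stabilizer (Perm (Fin N)) B := mem_stabilizer_iff.2 h
  exact mem_stabilizer_iff.1 (Subgroup.pow_mem _ hmem s)

variable [NeZero N]

theorem pow_finRotate_mod (m : ℕ) : (finRotate N) ^ m = (finRotate N) ^ (m % N) :=
  pow_eq_pow_mod m finRotate_pow_card

/-- Claim A: a block with two distinct points is stabilized by `u ^ (p ^ (k-1))`. -/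
theorem block_stab_of_two {p k : ℕ} (hp : p.Prime) (hk : 1 ≤ k) (hN : N = p ^ k)
    {G : Subgroup (Perm (Fin N))} (hu : finRotate N ∈ G) {B : Set (Fin N)} (hB : IsBlock G B)
    {a b : Fin N} (ha : a ∈ B) (hb : b ∈ B) (hab : a ≠ b) :
    ((finRotate N) ^ (p ^ (k - 1))) • B = B := by
  set i := (b.val + N - a.val) % N with hi
  have hiN : i < N := Nat.mod_lt _ (NeZero.pos N)
  have hi0 : 0 < i := by
    rcases Nat.eq_zero_or_pos i with h0 | h0
    · exfalso
      apply hab
      have := finRotate_pow_apply_eq a b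
      rw [← hi, h0, pow_zero, Equiv.Perm.one_apply] at this
      exact this
    · exact h0
  have h1 : ((finRotate N) ^ i) • B = B := by
    apply smul_eq_of_isBlock hB (Subgroup.pow_mem _ hu i) ha
    rw [hi, finRotate_pow_apply_eq]
    exact hb
  obtain ⟨s, hs⟩ := exists_mul_mod_eq_pow hp hk hi0 (by rw [← hN]; exact hiN)
  have hs' : i * s % N = p ^ (k - 1) := by
    have := hs
    rwa [← hN] at this
  have h2 := pow_smul_eq h1 s
  rw [← pow_mul, pow_finRotate_mod, hs'] at h2
  exact h2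

/-- Claim B: a block stabilized by `u ^ j` with `p ∤ j` and nonempty is everything. -/
theorem block_eq_univ_of_stab {p k : ℕ} (hp : p.Prime) (hk : 1 ≤ k) (hN : N = p ^ k)
    {B : Set (Fin N)} {j : ℕ} (hj : ¬ p ∣ j) (h : ((finRotate N) ^ j) • B = B) {a : Fin N}
    (ha : a ∈ B) : B = Set.univ := by
  have hcop : Nat.Coprime j N := by
    rw [hN]
    exact Nat.Coprime.pow_right k ((Nat.Prime.coprime_iff_not_dvd hp).2 hj).symm
  have h1lt : 1 < N := by rw [hN]; exact Nat.one_lt_pow (by omega) hp.one_lt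
  obtain ⟨s, -, hs⟩ := Nat.exists_mul_mod_eq_one_of_coprime hcop h1lt
  have h2 := pow_smul_eq h s
  rw [← pow_mul, pow_finRotate_mod, hs, pow_one] at h2
  rw [Set.eq_univ_iff_forall]
  intro b
  have h3 := pow_smul_eq h2 ((b.val + N - a.val) % N)
  rw [← h3]
  refine ⟨a, ha, ?_⟩
  exact finRotate_pow_apply_eq a b

theorem isPretransitive_of_finRotate_mem (G : Subgroup (Perm (Fin N))) (hu : finRotate N ∈ G) :
    IsPretransitive G (Fin N) := by
  refine ⟨fun a b => ?_⟩
  refine ⟨⟨(finRotate N) ^ ((b.val + N - a.val) % N), Subgroup.pow_mem _ hu _⟩, ?_⟩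
  exact finRotate_pow_apply_eq a b

/-- **Primitivity criterion**. -/
theorem isPreprimitive_of_witness {p k : ℕ} (hp : p.Prime) (hk : 1 ≤ k) (hN : N = p ^ k)
    (G : Subgroup (Perm (Fin N))) (hu : finRotate N ∈ G) (g : Perm (Fin N)) (hg : g ∈ G)
    (x y : Fin N) (hxy : x.val % p ^ (k - 1) = y.val % p ^ (k - 1))
    (hne : (g x).val % p ≠ (g y).val % p) : IsPreprimitive G (Fin N) := by
  have htr : IsPretransitive G (Fin N) := isPretransitive_of_finRotate_mem G hu
  refine { toIsPretransitive := htr, isTrivialBlock_of_isBlock := ?_ }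
  intro B hB
  by_contra hnt
  unfold IsTrivialBlock at hnt
  push Not at hnt
  obtain ⟨hns, hnu⟩ := hnt
  obtain ⟨a, ha, b, hb, hab⟩ := hns
  have hpN : p ∣ N := by rw [hN]; exact dvd_pow_self p (by omega)
  have hpkN : p ^ (k - 1) ∣ N := by rw [hN]; exact pow_dvd_pow p (by omega)
  -- translate the block so that it contains `x`
  set σ₀ := (finRotate N) ^ ((x.val + N - a.val) % N) with hσ₀
  have hσ₀G : σ₀ ∈ G := Subgroup.pow_mem _ hu _
  have hσ₀a : σ₀ a = x := finRotate_pow_apply_eq a x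
  set B' : Set (Fin N) := σ₀ • B with hB'
  have hB'blk : IsBlock G B' := hB.translate (⟨σ₀, hσ₀G⟩ : G)
  have hxB' : x ∈ B' := ⟨a, ha, hσ₀a⟩
  have hbB' : σ₀ b ∈ B' := ⟨b, hb, rfl⟩
  have hxb : x ≠ σ₀ b := by
    intro h
    apply hab
    apply σ₀.injective
    rw [hσ₀a, h]
  have hB'nu : B' ≠ Set.univ := by
    intro h
    apply hnu
    have : σ₀⁻¹ • B' = B := by rw [hB', inv_smul_smul]
    rw [← this, h]
    exact Set.smul_set_univ
  have hstab := block_stab_of_two hp hk hN hu hB'blk hxB' hbB' hxb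
  -- `y` lies in `B'`
  have hyB' : y ∈ B' := by
    set j := (y.val + N - x.val) % N with hj
    have hdvd : p ^ (k - 1) ∣ j := by
      rw [hj, Nat.dvd_mod_iff hpkN]
      have hx := x.2
      have h1 : (y.val + N - x.val) % p ^ (k - 1) = 0 := by
        have h2 : (x.val + (y.val + N - x.val)) % p ^ (k - 1) = x.val % p ^ (k - 1) := by
          have : x.val + (y.val + N - x.val) = y.val + N := by omega
          rw [this, Nat.add_mod, Nat.mod_eq_zero_of_dvd hpkN, add_zero, Nat.mod_mod, hxy]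
        have h3 : (x.val + (y.val + N - x.val)) ≡ x.val + 0 [MOD p ^ (k - 1)] := by
          unfold Nat.ModEq; rw [add_zero]; exact h2
        have h4 := Nat.ModEq.add_left_cancel' x.val h3
        unfold Nat.ModEq at h4
        rw [h4, Nat.zero_mod]
      exact Nat.dvd_of_mod_eq_zero h1
    obtain ⟨t, ht⟩ := hdvd
    have h1 := pow_smul_eq hstab t
    rw [← pow_mul, ← ht] at h1
    rw [← h1]
    refine ⟨x, hxB', ?_⟩
    rw [hj]
    exact finRotate_pow_apply_eq x y
  -- apply `g`
  set B'' : Set (Fin N) := g • B' with hB''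
  have hB''blk : IsBlock G B'' := hB'blk.translate (⟨g, hg⟩ : G)
  have hgx : g x ∈ B'' := ⟨x, hxB', rfl⟩
  have hgy : g y ∈ B'' := ⟨y, hyB', rfl⟩
  have hB''nu : B'' ≠ Set.univ := by
    intro h
    apply hB'nu
    have : g⁻¹ • B'' = B' := by rw [hB'', inv_smul_smul]
    rw [← this, h]
    exact Set.smul_set_univ
  set j' := ((g y).val + N - (g x).val) % N with hj'
  have hstab' : ((finRotate N) ^ j') • B'' = B'' := by
    apply smul_eq_of_isBlock hB''blk (Subgroup.pow_mem _ hu j') hgx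
    rw [hj', finRotate_pow_apply_eq]
    exact hgy
  have hpj' : ¬ p ∣ j' := by
    intro hdvd
    rw [hj', Nat.dvd_mod_iff hpN] at hdvd
    apply hne
    have hgx' := (g x).2
    have h1 : ((g x).val + ((g y).val + N - (g x).val)) % p = (g y).val % p := by
      have : (g x).val + ((g y).val + N - (g x).val) = (g y).val + N := by omega
      rw [this, Nat.add_mod, Nat.mod_eq_zero_of_dvd hpN, add_zero, Nat.mod_mod]
    rw [← h1, Nat.add_mod, Nat.mod_eq_zero_of_dvd hdvd, add_zero, Nat.mod_mod]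
  exact hB''nu (block_eq_univ_of_stab hp hk hN hpj' hstab' hgx)

end

end Cfsg.Agent.Helper4.AnP
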