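import Mathlib
import Cfsg.Agent.Helper4.AnP1
import Cfsg.Agent.Helper4.AnP2
import Cfsg.Agent.Helper4.AnP3

set_option autoImplicit false

/-!
# Goodness from a fixed-point count and primitivity; conjugation and parity; the cycle case
-/

namespace Cfsg.Agent.Helper4.AnP

open Equiv MulAction

theorem compl_support_eq_filter {α : Type*} [Fintype α] [DecidableEq α] (c : Perm α) :
    c.supportᶜ = Finset.univ.filter (fun x => c x = x) := by
  ext x
  simp [Perm.mem_support]

/-- A permutation of `p ^ k` points (`k ≥ 1`) whose number of fixed points is prime to `p` is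
not a `p`-element. -/
theorem not_pPow_order_of_fix {N p k : ℕ} (hp : p.Prime) (hN : N = p ^ k) (hk : 1 ≤ k)
    (c : Perm (Fin N)) (h : ¬ p ∣ (Finset.univ.filter (fun x => c x = x)).card) :
    ¬ ∃ j : ℕ, orderOf c = p ^ j := by
  rintro ⟨j, hj⟩
  have hc : c ^ p ^ j = 1 := by rw [← hj]; exact pow_orderOf_eq_one c
  have : Fact p.Prime := ⟨hp⟩
  have h1 := Equiv.Perm.card_compl_support_modEq hc
  rw [Fintype.card_fin, compl_support_eq_filter] at h1
  apply h
  have h2 : p ∣ N := by rw [hN]; exact dvd_pow_self p (by omega)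
  exact (Nat.modEq_zero_iff_dvd.1 (h1.trans (Nat.modEq_zero_iff_dvd.2 h2)))

/-- **Common lemma**: fixed-point count and primitivity give goodness. -/
theorem good_of_fix_of_primitive {N p k : ℕ} [NeZero N] (hp : p.Prime) (hN : N = p ^ k)
    (hk : 1 ≤ k) (L : Perm (Fin N))
    (h1 : ¬ p ∣ (Finset.univ.filter (fun x => (finRotate N * L) x = x)).card)
    (h2 : (Finset.univ.filter (fun x => (finRotate N * L) x = x)).card ≠ 1)
    (hprim : IsPreprimitive (Subgroup.closure ({finRotate N, L} : Set (Perm (Fin N)))) (Fin N)) :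
    Good p (finRotate N) L := by
  refine ⟨not_pPow_order_of_fix hp hN hk _ h1, ?_⟩
  have hc : finRotate N * L ∈ Subgroup.closure ({finRotate N, L} : Set (Perm (Fin N))) :=
    Subgroup.mul_mem _ (Subgroup.subset_closure (by simp)) (Subgroup.subset_closure (by simp))
  exact not_solvable_of_primitive_of_fix hp (by rw [Fintype.card_fin, hN]) _ hprim _ hc h1 h2

/-- From one good conjugate and an odd centralizing element, good conjugates by elements of
either sign. -/
theorem exists_sign_of_good_of_odd_centralizer {α : Type*} [Fintype α] [DecidableEq α] {p : ℕ}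
    (u τ L : Perm α) (hct : L.cycleType = τ.cycleType) (hgood : Good p u L)
    (hz : ∃ z : Perm α, Perm.sign z = -1 ∧ z * τ = τ * z) (ε : ℤˣ) :
    ∃ h : Perm α, Perm.sign h = ε ∧ Good p u (h * τ * h⁻¹) := by
  have hconj : IsConj τ L := (Perm.isConj_iff_cycleType_eq).2 hct.symm
  obtain ⟨h₀, hh₀⟩ := isConj_iff.1 hconj
  by_cases hs : Perm.sign h₀ = ε
  · exact ⟨h₀, hs, by rw [hh₀]; exact hgood⟩
  · obtain ⟨z, hz1, hz2⟩ := hz
    refine ⟨h₀ * z, ?_, ?_⟩
    · rw [Perm.sign_mul, hz1]
      rcases Int.units_eq_one_or (Perm.sign h₀) with h1 | h1 <;>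
        rcases Int.units_eq_one_or ε with h2 | h2
      · exact absurd (h1.trans h2.symm) hs
      · rw [h1, h2]; simp
      · rw [h1, h2]; simp
      · exact absurd (h1.trans h2.symm) hs
    · have : h₀ * z * τ * (h₀ * z)⁻¹ = h₀ * τ * h₀⁻¹ := by
        rw [mul_inv_rev, mul_assoc h₀ z τ, hz2]
        group
      rw [this, hh₀]
      exact hgood

/-- An odd element centralizing `τ` exists as soon as the centralizer is not contained in the
alternating group. -/
theorem exists_odd_centralizer {α : Type*} [Fintype α] [DecidableEq α] (τ : Perm α)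
    (h : ¬ (Subgroup.centralizer {τ} ≤ alternatingGroup α)) :
    ∃ z : Perm α, Perm.sign z = -1 ∧ z * τ = τ * z := by
  rw [SetLike.not_le_iff_exists] at h
  obtain ⟨z, hz1, hz2⟩ := h
  refine ⟨z, ?_, ?_⟩
  · rw [Perm.mem_alternatingGroup] at hz2
    rcases Int.units_eq_one_or (Perm.sign z) with h1 | h1
    · exact absurd h1 hz2
    · exact h1
  · exact ((Subgroup.mem_centralizer_iff.1 hz1) τ (Set.mem_singleton τ)).symm

end Cfsg.Agent.Helper4.AnP
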