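import Mathlib
import Cfsg.Agent.Helper4.AnP5

set_option autoImplicit false

/-!
# The cycle case: `τ` is a `p ^ k`-cycle
-/

namespace Cfsg.Agent.Helper4.AnP

open Equiv MulAction

variable {N : ℕ}

theorem finRotate_val' [NeZero N] (x : Fin N) :
    (finRotate N x).val = if x.val + 1 = N then 0 else x.val + 1 := by
  rw [finRotate_val]
  have hx := x.2
  split_ifs with h
  · rw [h, Nat.mod_self]
  · rw [Nat.mod_eq_of_lt (by omega)]

/-- The transposition `(0 2)`. -/
def rhoA (h5 : 5 ≤ N) : Perm (Fin N) := swap ⟨0, by omega⟩ ⟨2, by omega⟩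

/-- The double transposition `(0 1)(2 3)`. -/
def rhoB (h5 : 5 ≤ N) : Perm (Fin N) :=
  swap ⟨0, by omega⟩ ⟨1, by omega⟩ * swap ⟨2, by omega⟩ ⟨3, by omega⟩

theorem rhoA_val (h5 : 5 ≤ N) (x : Fin N) :
    (rhoA h5 x).val = if x.val = 0 then 2 else if x.val = 2 then 0 else x.val := by
  unfold rhoA
  rw [swap_apply_def]
  simp only [Fin.ext_iff]
  split_ifs <;> rfl

theorem rhoA_inv (h5 : 5 ≤ N) : (rhoA h5)⁻¹ = rhoA h5 := by
  unfold rhoA; exact swap_inv _ _

theorem rhoB_val (h5 : 5 ≤ N) (x : Fin N) :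
    (rhoB h5 x).val = if x.val = 0 then 1 else if x.val = 1 then 0 else
      if x.val = 2 then 3 else if x.val = 3 then 2 else x.val := by
  unfold rhoB
  rw [Perm.mul_apply, swap_apply_def, swap_apply_def]
  simp only [Fin.ext_iff]
  split_ifs <;> simp_all

theorem rhoB_inv_val (h5 : 5 ≤ N) (x : Fin N) :
    ((rhoB h5)⁻¹ x).val = if x.val = 0 then 1 else if x.val = 1 then 0 else
      if x.val = 2 then 3 else if x.val = 3 then 2 else x.val := by
  unfold rhoB
  rw [mul_inv_rev, swap_inv, swap_inv, Perm.mul_apply, swap_apply_def, swap_apply_def]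
  simp only [Fin.ext_iff]
  split_ifs <;> simp_all

theorem sign_rhoA (h5 : 5 ≤ N) : Perm.sign (rhoA h5) = -1 := by
  unfold rhoA
  apply Perm.sign_swap
  intro h
  simp [Fin.ext_iff] at h

theorem sign_rhoB (h5 : 5 ≤ N) : Perm.sign (rhoB h5) = 1 := by
  unfold rhoB
  rw [Perm.sign_mul, Perm.sign_swap, Perm.sign_swap]
  · simp
  · intro h; simp [Fin.ext_iff] at h
  · intro h; simp [Fin.ext_iff] at h

variable [NeZero N]

theorem cA_val (h5 : 5 ≤ N) (x : Fin N) :
    ((finRotate N * (rhoA h5 * finRotate N * (rhoA h5)⁻¹)) x).val =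
      if x.val = 1 then 1 else if x.val = 2 then 2 else if x.val = 0 then 4 else
        if x.val + 1 = N then 3 else if x.val + 2 = N then 0 else x.val + 2 := by
  rw [rhoA_inv]
  simp only [Perm.mul_apply, finRotate_val', rhoA_val]
  have hx := x.2
  split_ifs <;> first | omega | contradiction

theorem cB_val (h5 : 5 ≤ N) (x : Fin N) :
    ((finRotate N * (rhoB h5 * finRotate N * (rhoB h5)⁻¹)) x).val =
      if x.val = 1 then 1 else if x.val = 3 then 3 else if x.val = 0 then 4 else
        if x.val = 2 then (if N = 5 then 0 else 5) else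
        if x.val + 1 = N then 2 else if x.val + 2 = N then 0 else x.val + 2 := by
  simp only [Perm.mul_apply, finRotate_val', rhoB_val, rhoB_inv_val]
  have hx := x.2
  split_ifs <;> first | omega | contradiction

theorem cA_fix_iff (h5 : 5 ≤ N) (x : Fin N) :
    (finRotate N * (rhoA h5 * finRotate N * (rhoA h5)⁻¹)) x = x ↔ x.val = 1 ∨ x.val = 2 := by
  rw [Fin.ext_iff, cA_val]
  have hx := x.2
  split_ifs <;> omega

theorem cB_fix_iff (h5 : 5 ≤ N) (x : Fin N) :
    (finRotate N * (rhoB h5 * finRotate N * (rhoB h5)⁻¹)) x = x ↔ x.val = 1 ∨ x.val = 3 := by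
  rw [Fin.ext_iff, cB_val]
  have hx := x.2
  split_ifs <;> omega

theorem cA_card_fix (h5 : 5 ≤ N) :
    (Finset.univ.filter (fun x => (finRotate N * (rhoA h5 * finRotate N * (rhoA h5)⁻¹)) x = x)).card
      = 2 := by
  have : (Finset.univ.filter
      (fun x => (finRotate N * (rhoA h5 * finRotate N * (rhoA h5)⁻¹)) x = x)) =
      {(⟨1, by omega⟩ : Fin N), ⟨2, by omega⟩} := by
    ext x
    rw [Finset.mem_filter, cA_fix_iff]
    simp only [Finset.mem_univ, true_and, Finset.mem_insert, Finset.mem_singleton, Fin.ext_iff]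
  rw [this, Finset.card_pair]
  intro h
  simp [Fin.ext_iff] at h

theorem cB_card_fix (h5 : 5 ≤ N) :
    (Finset.univ.filter (fun x => (finRotate N * (rhoB h5 * finRotate N * (rhoB h5)⁻¹)) x = x)).card
      = 2 := by
  have : (Finset.univ.filter
      (fun x => (finRotate N * (rhoB h5 * finRotate N * (rhoB h5)⁻¹)) x = x)) =
      {(⟨1, by omega⟩ : Fin N), ⟨3, by omega⟩} := by
    ext x
    rw [Finset.mem_filter, cB_fix_iff]
    simp only [Finset.mem_univ, true_and, Finset.mem_insert, Finset.mem_singleton, Fin.ext_iff]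
  rw [this, Finset.card_pair]
  intro h
  simp [Fin.ext_iff] at h

/-- Primitivity of `⟨u, L⟩` in the cycle case, from the values of `c = u * L` at `1` and at a
generic point. -/
theorem isPreprimitive_cycle_case {p k : ℕ} (hp : p.Prime) (hp3 : 3 ≤ p) (hk : 1 ≤ k)
    (hN : N = p ^ k) (h5 : 5 ≤ N) (L : Perm (Fin N))
    (h1 : ∀ x : Fin N, x.val = 1 → ((finRotate N * L) x).val = 1)
    (hgen : ∀ x : Fin N, 4 ≤ x.val → x.val + 2 < N → ((finRotate N * L) x).val = x.val + 2) :
    IsPreprimitive (Subgroup.closure ({finRotate N, L} : Set (Perm (Fin N)))) (Fin N) := by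
  have huG : finRotate N ∈ Subgroup.closure ({finRotate N, L} : Set (Perm (Fin N))) :=
    Subgroup.subset_closure (by simp)
  have hcG : finRotate N * L ∈ Subgroup.closure ({finRotate N, L} : Set (Perm (Fin N))) :=
    Subgroup.mul_mem _ huG (Subgroup.subset_closure (by simp))
  rcases Nat.lt_or_ge k 2 with hk2 | hk2
  · -- prime degree
    have hk1 : k = 1 := by omega
    rw [hk1, pow_one] at hN
    have := isPretransitive_of_finRotate_mem _ huG
    apply IsPreprimitive.of_prime_card
    rw [Nat.card_eq_fintype_card, Fintype.card_fin, hN]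
    exact hp
  · set P := p ^ (k - 1) with hP
    have hNP : N = p * P := by rw [hN, hP, ← pow_succ']; congr 1; omega
    have hpP : p ∣ P := by rw [hP]; exact dvd_pow_self p (by omega)
    have hP3 : 3 ≤ P := by
      have : p ^ 1 ≤ p ^ (k - 1) := Nat.pow_le_pow_right hp.pos (by omega)
      rw [pow_one] at this; omega
    have hN3P : 3 * P ≤ N := by rw [hNP]; exact Nat.mul_le_mul_right P hp3
    refine isPreprimitive_of_witness hp hk hN _ huG _ hcG ⟨1, by omega⟩ ⟨1 + P, by omega⟩ ?_ ?_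
    · simp only
      rw [Nat.add_mod_right]
    · rw [h1 _ rfl, hgen _ (by simp only; omega) (by simp only; omega)]
      simp only
      intro h
      have h2 := Nat.sub_mod_eq_zero_of_mod_eq h.symm
      have h3 : p ∣ 1 + P + 2 - 1 := Nat.dvd_of_mod_eq_zero h2
      have h4 : 1 + P + 2 - 1 = P + 2 := by omega
      rw [h4] at h3
      have h5' : p ∣ 2 := (Nat.dvd_add_right hpP).1 h3
      have := Nat.le_of_dvd (by norm_num) h5'
      omega

theorem good_rhoA {p k : ℕ} (hp : p.Prime) (hp3 : 3 ≤ p) (hk : 1 ≤ k) (hN : N = p ^ k)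
    (h5 : 5 ≤ N) : Good p (finRotate N) (rhoA h5 * finRotate N * (rhoA h5)⁻¹) := by
  apply good_of_fix_of_primitive hp hN hk
  · rw [cA_card_fix h5]
    intro h
    have := Nat.le_of_dvd (by norm_num) h
    omega
  · rw [cA_card_fix h5]; norm_num
  · apply isPreprimitive_cycle_case hp hp3 hk hN h5
    · intro x hx
      rw [cA_val, if_pos hx]
    · intro x hx1 hx2
      rw [cA_val]
      split_ifs <;> omega

theorem good_rhoB {p k : ℕ} (hp : p.Prime) (hp3 : 3 ≤ p) (hk : 1 ≤ k) (hN : N = p ^ k)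
    (h5 : 5 ≤ N) : Good p (finRotate N) (rhoB h5 * finRotate N * (rhoB h5)⁻¹) := by
  apply good_of_fix_of_primitive hp hN hk
  · rw [cB_card_fix h5]
    intro h
    have := Nat.le_of_dvd (by norm_num) h
    omega
  · rw [cB_card_fix h5]; norm_num
  · apply isPreprimitive_cycle_case hp hp3 hk hN h5
    · intro x hx
      rw [cB_val, if_pos hx]
    · intro x hx1 hx2
      rw [cB_val]
      split_ifs <;> omega

/-- **Base lemma, cycle case**. -/
theorem base_cycle {p k : ℕ} (hp : p.Prime) (hp3 : 3 ≤ p) (hk : 1 ≤ k) (hN : N = p ^ k)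
    (h5 : 5 ≤ N) (τ : Perm (Fin N)) (hτ : τ.cycleType = {N}) (ε : ℤˣ) :
    ∃ h : Perm (Fin N), Perm.sign h = ε ∧ Good p (finRotate N) (h * τ * h⁻¹) := by
  have hconj : IsConj τ (finRotate N) := by
    rw [Perm.isConj_iff_cycleType_eq, hτ, cycleType_finRotate_of_le (by omega)]
  obtain ⟨π, hπ⟩ := isConj_iff.1 hconj
  by_cases hs : Perm.sign π = ε
  · refine ⟨rhoB h5 * π, ?_, ?_⟩
    · rw [Perm.sign_mul, sign_rhoB, one_mul, hs]
    · have : rhoB h5 * π * τ * (rhoB h5 * π)⁻¹ = rhoB h5 * (π * τ * π⁻¹) * (rhoB h5)⁻¹ := by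
        group
      rw [this, hπ]
      exact good_rhoB hp hp3 hk hN h5
  · refine ⟨rhoA h5 * π, ?_, ?_⟩
    · rw [Perm.sign_mul, sign_rhoA]
      rcases Int.units_eq_one_or (Perm.sign π) with h1 | h1 <;>
        rcases Int.units_eq_one_or ε with h2 | h2
      · exact absurd (h1.trans h2.symm) hs
      · rw [h1, h2]; simp
      · rw [h1, h2]; simp
      · exact absurd (h1.trans h2.symm) hs
    · have : rhoA h5 * π * τ * (rhoA h5 * π)⁻¹ = rhoA h5 * (π * τ * π⁻¹) * (rhoA h5)⁻¹ := by
        group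
      rw [this, hπ]
      exact good_rhoA hp hp3 hk hN h5


end Cfsg.Agent.Helper4.AnP
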