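import Mathlib
import Cfsg.Agent.Helper4.AnP3

set_option autoImplicit false

/-!
# Interval layouts: permutations of `Fin N` whose cycles are consecutive intervals,
each a forward run (`x ↦ x + 1`) or a backward run (`x ↦ x - 1`).
-/

namespace Cfsg.Agent.Helper4.AnP

open Equiv

section

variable (N : ℕ) [NeZero N]

/-- The forward cycle on the interval `[off, off + m - 1]`. -/
def J (off m : ℕ) : Perm (Fin N) :=
  Fin.cycleIcc (Fin.ofNat N off) (Fin.ofNat N (off + m - 1))

/-- Forward (`d = true`) or backward run. -/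
def K (off m : ℕ) (d : Bool) : Perm (Fin N) := if d then J N off m else (J N off m)⁻¹

/-- The layout: consecutive runs starting at offset `off`. -/
def lay : ℕ → List (ℕ × Bool) → Perm (Fin N)
  | _, [] => 1
  | off, (m, d) :: L => K N off m d * lay (off + m) L

end

/-- Total length of a layout. -/
def tot (L : List (ℕ × Bool)) : ℕ := (L.map Prod.fst).sum

/-- Sum of `m - 1` over the backward runs. -/
def bsum : List (ℕ × Bool) → ℕ
  | [] => 0
  | (m, d) :: L => (if d then 0 else m - 1) + bsum L

@[simp] theorem tot_nil : tot [] = 0 := rfl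
@[simp] theorem tot_cons (m : ℕ) (d : Bool) (L : List (ℕ × Bool)) :
    tot ((m, d) :: L) = m + tot L := by simp [tot]

variable {N : ℕ} [NeZero N]

theorem val_ofNat_of_lt {a : ℕ} (h : a < N) : (Fin.ofNat N a).val = a := by
  rw [Fin.val_ofNat, Nat.mod_eq_of_lt h]

theorem J_of_lt {off m : ℕ} (h : off + m ≤ N) (hm : 1 ≤ m) {x : Fin N} (hx : x.val < off) :
    J N off m x = x := by
  apply Fin.cycleIcc_of_lt
  rw [Fin.lt_def, val_ofNat_of_lt (by omega)]
  exact hx

theorem J_of_ge {off m : ℕ} (h : off + m ≤ N) (hm : 1 ≤ m) {x : Fin N} (hx : off + m ≤ x.val) :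
    J N off m x = x := by
  apply Fin.cycleIcc_of_gt
  rw [Fin.lt_def, val_ofNat_of_lt (by omega)]
  omega

theorem J_mid {off m : ℕ} (h : off + m ≤ N) {x : Fin N} (hx1 : off ≤ x.val)
    (hx2 : x.val + 1 < off + m) : (J N off m x).val = x.val + 1 := by
  have h1 : Fin.ofNat N off ≤ x := by
    rw [Fin.le_def, val_ofNat_of_lt (by omega)]; exact hx1
  have h2 : x < Fin.ofNat N (off + m - 1) := by
    rw [Fin.lt_def, val_ofNat_of_lt (by omega)]; omega
  unfold J
  rw [Fin.cycleIcc_of_ge_of_lt h1 h2, Fin.val_add_one_of_lt' (by omega)]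

theorem J_last {off m : ℕ} (h : off + m ≤ N) (hm : 1 ≤ m) {x : Fin N}
    (hx : x.val + 1 = off + m) : (J N off m x).val = off := by
  have hx' : x = Fin.ofNat N (off + m - 1) := by
    apply Fin.ext
    rw [val_ofNat_of_lt (by omega)]; omega
  have h1 : Fin.ofNat N off ≤ Fin.ofNat N (off + m - 1) := by
    rw [Fin.le_def, val_ofNat_of_lt (by omega), val_ofNat_of_lt (by omega)]; omega
  unfold J
  rw [hx', Fin.cycleIcc_of_last h1, val_ofNat_of_lt (by omega)]

theorem Jinv_mid {off m : ℕ} (h : off + m ≤ N) {x : Fin N} (hx1 : off < x.val)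
    (hx2 : x.val < off + m) : ((J N off m)⁻¹ x).val = x.val - 1 := by
  have hx := x.2
  set y : Fin N := ⟨x.val - 1, by omega⟩ with hy
  have hJy : J N off m y = x := by
    apply Fin.ext
    rw [J_mid h (by simp [hy]; omega) (by simp [hy]; omega)]
    simp [hy]; omega
  rw [Perm.inv_eq_iff_eq.2 hJy.symm]

theorem Jinv_first {off m : ℕ} (h : off + m ≤ N) (hm : 1 ≤ m) {x : Fin N}
    (hx : x.val = off) : ((J N off m)⁻¹ x).val = off + m - 1 := by
  set y : Fin N := ⟨off + m - 1, by omega⟩ with hy
  have hJy : J N off m y = x := by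
    apply Fin.ext
    rw [J_last h hm (by simp [hy]; omega), hx]
  rw [Perm.inv_eq_iff_eq.2 hJy.symm]

theorem K_of_lt {off m : ℕ} (d : Bool) (h : off + m ≤ N) (hm : 1 ≤ m) {x : Fin N}
    (hx : x.val < off) : K N off m d x = x := by
  unfold K
  split_ifs
  · exact J_of_lt h hm hx
  · rw [Perm.inv_eq_iff_eq]; exact (J_of_lt h hm hx).symm

theorem K_of_ge {off m : ℕ} (d : Bool) (h : off + m ≤ N) (hm : 1 ≤ m) {x : Fin N}
    (hx : off + m ≤ x.val) : K N off m d x = x := by
  unfold K
  split_ifs
  · exact J_of_ge h hm hx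
  · rw [Perm.inv_eq_iff_eq]; exact (J_of_ge h hm hx).symm

theorem cycleType_J {off m : ℕ} (h : off + m ≤ N) (hm : 2 ≤ m) :
    (J N off m).cycleType = {m} := by
  unfold J
  rw [Fin.cycleType_cycleIcc_of_lt]
  · rw [val_ofNat_of_lt (by omega), val_ofNat_of_lt (by omega)]
    congr 1; omega
  · rw [Fin.lt_def, val_ofNat_of_lt (by omega), val_ofNat_of_lt (by omega)]; omega

theorem cycleType_K {off m : ℕ} (d : Bool) (h : off + m ≤ N) (hm : 2 ≤ m) :
    (K N off m d).cycleType = {m} := by
  unfold K
  split_ifs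
  · exact cycleType_J h hm
  · rw [Perm.cycleType_inv]; exact cycleType_J h hm

/-! ### Basic properties of `lay` -/

theorem lay_nil (off : ℕ) : lay N off [] = 1 := rfl

theorem lay_cons (off m : ℕ) (d : Bool) (L : List (ℕ × Bool)) :
    lay N off ((m, d) :: L) = K N off m d * lay N (off + m) L := rfl

theorem lay_of_lt : ∀ (L : List (ℕ × Bool)) (off : ℕ), (∀ e ∈ L, 1 ≤ e.1) → off + tot L ≤ N →
    ∀ x : Fin N, x.val < off → lay N off L x = x := by
  intro L
  induction L with
  | nil => intro off _ _ x _; rfl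
  | cons e L ih =>
    obtain ⟨m, d⟩ := e
    intro off hL h x hx
    rw [tot_cons] at h
    have hm : 1 ≤ m := hL (m, d) (List.mem_cons_self)
    rw [lay_cons, Perm.mul_apply,
      ih (off + m) (fun e he => hL e (List.mem_cons_of_mem _ he)) (by omega) x (by omega)]
    exact K_of_lt d (by omega) hm hx

theorem lay_of_ge : ∀ (L : List (ℕ × Bool)) (off : ℕ), (∀ e ∈ L, 1 ≤ e.1) → off + tot L ≤ N →
    ∀ x : Fin N, off + tot L ≤ x.val → lay N off L x = x := by
  intro L
  induction L with
  | nil => intro off _ _ x _; rfl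
  | cons e L ih =>
    obtain ⟨m, d⟩ := e
    intro off hL h x hx
    rw [tot_cons] at h hx
    have hm : 1 ≤ m := hL (m, d) (List.mem_cons_self)
    rw [lay_cons, Perm.mul_apply,
      ih (off + m) (fun e he => hL e (List.mem_cons_of_mem _ he)) (by omega) x (by omega)]
    exact K_of_ge d (by omega) hm (by omega)

theorem lay_val_ge (L : List (ℕ × Bool)) (off : ℕ) (hL : ∀ e ∈ L, 1 ≤ e.1)
    (h : off + tot L ≤ N) (x : Fin N) (hx : off ≤ x.val) : off ≤ (lay N off L x).val := by
  by_contra hlt
  push Not at hlt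
  have h1 := lay_of_lt L off hL h (lay N off L x) hlt
  have h2 : lay N off L x = x := (lay N off L).injective h1
  rw [h2] at hlt
  omega

theorem lay_first (L : List (ℕ × Bool)) (off m : ℕ) (d : Bool) (_hm : 1 ≤ m)
    (hL : ∀ e ∈ L, 1 ≤ e.1) (h : off + m + tot L ≤ N) (x : Fin N) (hx : x.val < off + m) :
    lay N off ((m, d) :: L) x = K N off m d x := by
  rw [lay_cons, Perm.mul_apply, lay_of_lt L (off + m) hL h x hx]

theorem lay_rest (L : List (ℕ × Bool)) (off m : ℕ) (d : Bool) (hm : 1 ≤ m)
    (hL : ∀ e ∈ L, 1 ≤ e.1) (h : off + m + tot L ≤ N) (x : Fin N) (hx : off + m ≤ x.val) :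
    lay N off ((m, d) :: L) x = lay N (off + m) L x := by
  rw [lay_cons, Perm.mul_apply]
  exact K_of_ge d (by omega) hm (lay_val_ge L (off + m) hL h x hx)

theorem cycleType_lay : ∀ (L : List (ℕ × Bool)) (off : ℕ), (∀ e ∈ L, 2 ≤ e.1) →
    off + tot L ≤ N → (lay N off L).cycleType = ((L.map Prod.fst : List ℕ) : Multiset ℕ) := by
  intro L
  induction L with
  | nil => intro off _ _; simp [lay_nil]
  | cons e L ih =>
    obtain ⟨m, d⟩ := e
    intro off hL h
    rw [tot_cons] at h
    have hm : 2 ≤ m := hL (m, d) (List.mem_cons_self)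
    have hL' : ∀ e ∈ L, 2 ≤ e.1 := fun e he => hL e (List.mem_cons_of_mem _ he)
    have hL1 : ∀ e ∈ L, 1 ≤ e.1 := fun e he => le_trans (by norm_num) (hL' e he)
    have hdisj : (K N off m d).Disjoint (lay N (off + m) L) := by
      intro x
      rcases Nat.lt_or_ge x.val (off + m) with hx | hx
      · right; exact lay_of_lt L (off + m) hL1 (by omega) x hx
      · left; exact K_of_ge d (by omega) (by omega) hx
    rw [lay_cons, hdisj.cycleType_mul, cycleType_K d (by omega) hm, ih (off + m) hL' (by omega)]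
    simp


/-! ### Counting the fixed points of `finRotate * lay` -/

omit [NeZero N] in
theorem card_filter_Ioo (a b : ℕ) (hb : b ≤ N) :
    (Finset.univ.filter (fun x : Fin N => a < x.val ∧ x.val < b)).card = b - a - 1 := by
  rw [← Nat.card_Ioo a b, ← Finset.card_map Fin.valEmbedding]
  congr 1
  ext v
  simp only [Finset.mem_map, Finset.mem_filter, Finset.mem_univ, true_and, Fin.valEmbedding_apply,
    Finset.mem_Ioo]
  constructor
  · rintro ⟨x, hx, rfl⟩; exact hx
  · intro hv; exact ⟨⟨v, by omega⟩, hv, rfl⟩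

variable (N) in
/-- Points `x ≥ off` fixed by `finRotate * lay`. -/
def fixF (off : ℕ) (L : List (ℕ × Bool)) : Finset (Fin N) :=
  Finset.univ.filter (fun x => off ≤ x.val ∧ finRotate N (lay N off L x) = x)

theorem finRotate_ne_self (hN : 2 ≤ N) (x : Fin N) : finRotate N x ≠ x := by
  intro h
  have h1 := congrArg Fin.val h
  rw [finRotate_val] at h1
  have hx := x.2
  rcases Nat.lt_or_ge (x.val + 1) N with h2 | h2
  · rw [Nat.mod_eq_of_lt h2] at h1; omega
  · have : x.val + 1 = N := by omega
    rw [this, Nat.mod_self] at h1; omega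

theorem card_first_backward {off m : ℕ} (h : off + m ≤ N) (hm : 1 ≤ m) (hmN : m < N) :
    (Finset.univ.filter (fun x : Fin N => off ≤ x.val ∧ x.val < off + m ∧
      finRotate N (K N off m false x) = x)).card = m - 1 := by
  have : (Finset.univ.filter (fun x : Fin N => off ≤ x.val ∧ x.val < off + m ∧
      finRotate N (K N off m false x) = x)) =
      Finset.univ.filter (fun x : Fin N => off < x.val ∧ x.val < off + m) := by
    ext x
    simp only [Finset.mem_filter, Finset.mem_univ, true_and]
    have hx := x.2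
    constructor
    · rintro ⟨h1, h2, h3⟩
      refine ⟨?_, h2⟩
      rcases Nat.lt_or_ge off x.val with h4 | h4
      · exact h4
      · exfalso
        have hxo : x.val = off := by omega
        have h5 := congrArg Fin.val h3
        rw [finRotate_val] at h5
        have h6 : (K N off m false x).val = off + m - 1 := by
          simp only [K]
          exact Jinv_first h hm hxo
        rw [h6] at h5
        rcases Nat.lt_or_ge (off + m - 1 + 1) N with h7 | h7
        · rw [Nat.mod_eq_of_lt h7] at h5; omega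
        · have : off + m - 1 + 1 = N := by omega
          rw [this, Nat.mod_self] at h5; omega
    · rintro ⟨h1, h2⟩
      refine ⟨by omega, h2, ?_⟩
      apply Fin.ext
      rw [finRotate_val]
      have h6 : (K N off m false x).val = x.val - 1 := by
        simp only [K]
        exact Jinv_mid h h1 h2
      rw [h6, Nat.mod_eq_of_lt (by omega)]
      omega
  rw [this, card_filter_Ioo off (off + m) h]
  omega

theorem card_first_forward {off m : ℕ} (hN : 3 ≤ N) (h : off + m ≤ N) (hm : 1 ≤ m)
    (hm2 : m ≠ 2) :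
    (Finset.univ.filter (fun x : Fin N => off ≤ x.val ∧ x.val < off + m ∧
      finRotate N (K N off m true x) = x)).card = 0 := by
  rw [Finset.card_eq_zero, Finset.filter_eq_empty_iff]
  rintro x - ⟨h1, h2, h3⟩
  have hx := x.2
  have h5 := congrArg Fin.val h3
  rw [finRotate_val] at h5
  rcases Nat.lt_or_ge (x.val + 1) (off + m) with h4 | h4
  · have h6 : (K N off m true x).val = x.val + 1 := by
      simp only [K]
      exact J_mid h h1 h4
    rw [h6] at h5
    rcases Nat.lt_or_ge (x.val + 1 + 1) N with h7 | h7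
    · rw [Nat.mod_eq_of_lt h7] at h5; omega
    · have : x.val + 1 + 1 = N := by omega
      rw [this, Nat.mod_self] at h5; omega
  · have h6 : (K N off m true x).val = off := by
      simp only [K]
      exact J_last h hm (by omega)
    rw [h6] at h5
    rcases Nat.lt_or_ge (off + 1) N with h7 | h7
    · rw [Nat.mod_eq_of_lt h7] at h5; omega
    · have : off + 1 = N := by omega
      rw [this, Nat.mod_self] at h5; omega

theorem card_fixF (hN : 3 ≤ N) : ∀ (L : List (ℕ × Bool)) (off : ℕ),
    (∀ e ∈ L, 1 ≤ e.1 ∧ e.1 < N ∧ (e.2 = true → e.1 ≠ 2)) → off + tot L ≤ N →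
    (fixF N off L).card = bsum L := by
  intro L
  induction L with
  | nil =>
    intro off _ _
    rw [show bsum [] = 0 from rfl, Finset.card_eq_zero]
    unfold fixF
    rw [Finset.filter_eq_empty_iff]
    rintro x - ⟨_, h⟩
    rw [lay_nil, Perm.one_apply] at h
    exact finRotate_ne_self (by omega) x h
  | cons e L ih =>
    obtain ⟨m, d⟩ := e
    intro off hL h
    rw [tot_cons] at h
    obtain ⟨hm, hmN, hm2⟩ := hL (m, d) (List.mem_cons_self)
    have hL' : ∀ e ∈ L, 1 ≤ e.1 ∧ e.1 < N ∧ (e.2 = true → e.1 ≠ 2) :=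
      fun e he => hL e (List.mem_cons_of_mem _ he)
    have hL1 : ∀ e ∈ L, 1 ≤ e.1 := fun e he => (hL' e he).1
    have hsplit : fixF N off ((m, d) :: L) =
        (Finset.univ.filter (fun x : Fin N => off ≤ x.val ∧ x.val < off + m ∧
          finRotate N (K N off m d x) = x)) ∪ fixF N (off + m) L := by
      ext x
      simp only [fixF, Finset.mem_union, Finset.mem_filter, Finset.mem_univ, true_and]
      rcases Nat.lt_or_ge x.val (off + m) with hx | hx
      · rw [lay_first L off m d hm hL1 (by omega) x hx]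
        constructor
        · rintro ⟨h1, h2⟩; left; exact ⟨h1, hx, h2⟩
        · rintro (⟨h1, _, h2⟩ | ⟨h1, _⟩)
          · exact ⟨h1, h2⟩
          · omega
      · rw [lay_rest L off m d hm hL1 (by omega) x hx]
        constructor
        · rintro ⟨_, h2⟩; right; exact ⟨hx, h2⟩
        · rintro (⟨_, h1, _⟩ | ⟨_, h2⟩)
          · omega
          · exact ⟨by omega, h2⟩
    have hdisj : Disjoint (Finset.univ.filter (fun x : Fin N => off ≤ x.val ∧ x.val < off + m ∧
          finRotate N (K N off m d x) = x)) (fixF N (off + m) L) := by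
      rw [Finset.disjoint_left]
      intro x hx1 hx2
      simp only [fixF, Finset.mem_filter, Finset.mem_univ, true_and] at hx1 hx2
      omega
    rw [hsplit, Finset.card_union_of_disjoint hdisj, ih (off + m) hL' (by omega)]
    simp only [bsum]
    congr 1
    cases d with
    | true => exact card_first_forward hN (by omega) hm (hm2 rfl)
    | false => exact card_first_backward (by omega) hm hmN

/-- The number of fixed points of `finRotate * lay`. -/
theorem card_fix_lay (hN : 3 ≤ N) (L : List (ℕ × Bool))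
    (hL : ∀ e ∈ L, 1 ≤ e.1 ∧ e.1 < N ∧ (e.2 = true → e.1 ≠ 2)) (h : tot L ≤ N) :
    (Finset.univ.filter (fun x : Fin N => (finRotate N * lay N 0 L) x = x)).card = bsum L := by
  rw [← card_fixF hN L 0 hL (by omega)]
  congr 1
  ext x
  simp [fixF, Perm.mul_apply]


/-! ### Residues mod `p` of `finRotate * lay` on backward runs -/

theorem lay_back_mod {p : ℕ} (hpN : p ∣ N) : ∀ (L : List (ℕ × Bool)) (off : ℕ),
    (∀ e ∈ L, e.2 = false ∧ 1 ≤ e.1 ∧ p ∣ e.1) → off + tot L ≤ N →
    ∀ x : Fin N, off ≤ x.val →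
      (finRotate N (lay N off L x)).val % p = x.val % p ∨
      (finRotate N (lay N off L x)).val % p = (x.val + 1) % p := by
  intro L
  induction L with
  | nil =>
    intro off _ _ x _
    right
    rw [lay_nil, Perm.one_apply, finRotate_val, Nat.mod_mod_of_dvd _ hpN]
  | cons e L ih =>
    obtain ⟨m, d⟩ := e
    intro off hL h x hx
    rw [tot_cons] at h
    obtain ⟨hd, hm, hpm⟩ := hL (m, d) (List.mem_cons_self)
    simp only at hd hm hpm
    subst hd
    have hL' : ∀ e ∈ L, e.2 = false ∧ 1 ≤ e.1 ∧ p ∣ e.1 :=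
      fun e he => hL e (List.mem_cons_of_mem _ he)
    have hL1 : ∀ e ∈ L, 1 ≤ e.1 := fun e he => (hL' e he).2.1
    have hxN := x.2
    rcases Nat.lt_or_ge x.val (off + m) with hx2 | hx2
    · left
      rw [lay_first L off m false hm hL1 (by omega) x hx2, finRotate_val,
        Nat.mod_mod_of_dvd _ hpN]
      rcases Nat.lt_or_ge off x.val with hx3 | hx3
      · have h6 : (K N off m false x).val = x.val - 1 := by
          simp only [K]
          exact Jinv_mid (by omega) hx3 hx2
        rw [h6]
        congr 1; omega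
      · have hxo : x.val = off := by omega
        have h6 : (K N off m false x).val = off + m - 1 := by
          simp only [K]
          exact Jinv_first (by omega) hm hxo
        rw [h6, hxo]
        have : off + m - 1 + 1 = off + m := by omega
        rw [this, Nat.add_mod, Nat.mod_eq_zero_of_dvd hpm, add_zero, Nat.mod_mod]
    · rw [lay_rest L off m false hm hL1 (by omega) x hx2]
      exact ih (off + m) hL' (by omega) x hx2

/-- Value of `finRotate * lay` at `0` when the first run is a forward run of length `≥ 2`. -/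
theorem c_apply_zero_fwd (hN : 3 ≤ N) (L : List (ℕ × Bool)) (m : ℕ) (hm : 2 ≤ m)
    (hL : ∀ e ∈ L, 1 ≤ e.1) (h : m + tot L ≤ N) (x : Fin N) (hx : x.val = 0) :
    ((finRotate N * lay N 0 ((m, true) :: L)) x).val = 2 := by
  rw [Perm.mul_apply, lay_first L 0 m true (by omega) hL (by omega) x (by omega), finRotate_val]
  have h6 : (K N 0 m true x).val = x.val + 1 := by
    simp only [K]
    exact J_mid (by omega) (by omega) (by omega)
  rw [h6, hx, Nat.mod_eq_of_lt (by omega)]

/-- Residue of `finRotate * lay` beyond the first two runs, the rest being backward runs of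
lengths divisible by `p`. -/
theorem c_mod_tail {p : ℕ} (hpN : p ∣ N) (L : List (ℕ × Bool)) (m₁ m₂ : ℕ) (d₁ d₂ : Bool)
    (hm₁ : 1 ≤ m₁) (hm₂ : 1 ≤ m₂) (hL : ∀ e ∈ L, e.2 = false ∧ 1 ≤ e.1 ∧ p ∣ e.1)
    (h : m₁ + m₂ + tot L ≤ N) (y : Fin N) (hy : m₁ + m₂ ≤ y.val) :
    ((finRotate N * lay N 0 ((m₁, d₁) :: (m₂, d₂) :: L)) y).val % p = y.val % p ∨
    ((finRotate N * lay N 0 ((m₁, d₁) :: (m₂, d₂) :: L)) y).val % p = (y.val + 1) % p := by
  have hL1 : ∀ e ∈ L, 1 ≤ e.1 := fun e he => (hL e he).2.1
  have hL1' : ∀ e ∈ (m₂, d₂) :: L, 1 ≤ e.1 := by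
    intro e he
    rcases List.mem_cons.1 he with rfl | he
    · exact hm₂
    · exact hL1 e he
  rw [Perm.mul_apply, lay_rest _ 0 m₁ d₁ hm₁ hL1' (by rw [tot_cons]; omega) y (by omega),
    lay_rest L (0 + m₁) m₂ d₂ hm₂ hL1 (by omega) y (by omega)]
  exact lay_back_mod hpN L (0 + m₁ + m₂) hL (by omega) y (by omega)


end Cfsg.Agent.Helper4.AnP
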