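import Mathlib
import Cfsg.Agent.Helper4.AnP4

set_option autoImplicit false

/-!
# Arithmetic of multisets of `p`-powers, and of the list-parametrized layouts
-/

namespace Cfsg.Agent.Helper4.AnP

theorem dvd_of_pow_ge_two {p a : ℕ} (h : ∃ j : ℕ, a = p ^ j) (h2 : 2 ≤ a) : p ∣ a := by
  obtain ⟨j, rfl⟩ := h
  rcases Nat.eq_zero_or_pos j with rfl | hj
  · simp at h2
  · exact dvd_pow_self p hj.ne'

theorem le_pow_pred_of_lt {p k a : ℕ} (hp : 2 ≤ p) (h : ∃ j : ℕ, a = p ^ j) (hlt : a < p ^ k) :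
    a ≤ p ^ (k - 1) := by
  obtain ⟨j, rfl⟩ := h
  have hjk : j < k := (Nat.pow_lt_pow_iff_right hp).1 hlt
  exact Nat.pow_le_pow_right (by omega) (by omega)

/-- A multiset of distinct powers of `p`, all less than `p ^ k`, has sum less than `p ^ k`. -/
theorem sum_lt_of_nodup_pow {p k : ℕ} (hp2 : 2 ≤ p) (m : Multiset ℕ) (hnd : m.Nodup)
    (hm : ∀ a ∈ m, ∃ j, j < k ∧ a = p ^ j) : m.sum < p ^ k := by
  classical
  set s : Finset ℕ := (Finset.range k).filter (fun j => p ^ j ∈ m) with hs
  have hinj : Function.Injective (fun j : ℕ => p ^ j) := Nat.pow_right_injective hp2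
  have hmeq : m = s.val.map (fun j => p ^ j) := by
    rw [Multiset.Nodup.ext hnd (Multiset.Nodup.map hinj s.nodup)]
    intro a
    rw [Multiset.mem_map]
    constructor
    · intro ha
      obtain ⟨j, hj, rfl⟩ := hm a ha
      refine ⟨j, ?_, rfl⟩
      rw [Finset.mem_val, hs, Finset.mem_filter, Finset.mem_range]
      exact ⟨hj, ha⟩
    · rintro ⟨j, hj, rfl⟩
      rw [Finset.mem_val, hs, Finset.mem_filter] at hj
      exact hj.2
  rw [hmeq]
  change ∑ j ∈ s, p ^ j < p ^ k
  apply Nat.geomSum_lt hp2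
  intro j hj
  rw [hs, Finset.mem_filter, Finset.mem_range] at hj
  exact hj.1

/-- A multiset of at least two powers of `p` (each `≥ 2`) with sum `p ^ k` has a repeated entry. -/
theorem not_nodup_of_sum_eq_pow {p k : ℕ} (hp2 : 2 ≤ p) (m : Multiset ℕ)
    (hm : ∀ a ∈ m, ∃ j, a = p ^ j) (hlt : ∀ a ∈ m, a < p ^ k) (hsum : m.sum = p ^ k) :
    ¬ m.Nodup := by
  intro hnd
  have := sum_lt_of_nodup_pow hp2 m hnd (fun a ha => by
    obtain ⟨j, rfl⟩ := hm a ha
    exact ⟨j, (Nat.pow_lt_pow_iff_right hp2).1 (hlt _ ha), rfl⟩)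
  omega

/-! ### Lists with all runs backward -/

theorem tot_map_false (l : List ℕ) : tot (l.map (fun a => (a, false))) = l.sum := by
  induction l with
  | nil => rfl
  | cons a l ih => rw [List.map_cons, tot_cons, ih, List.sum_cons]

theorem bsum_map_false (l : List ℕ) (hl : ∀ a ∈ l, 1 ≤ a) :
    bsum (l.map (fun a => (a, false))) + l.length = l.sum := by
  induction l with
  | nil => rfl
  | cons a l ih =>
    have ha : 1 ≤ a := hl a List.mem_cons_self
    have ih' := ih (fun b hb => hl b (List.mem_cons_of_mem _ hb))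
    rw [List.map_cons, bsum, List.sum_cons, List.length_cons]
    simp only [Bool.false_eq_true, if_false]
    omega

theorem map_fst_map_false (l : List ℕ) : (l.map (fun a => (a, false))).map Prod.fst = l := by
  rw [List.map_map]
  exact List.map_id l

end Cfsg.Agent.Helper4.AnP
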