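import Mathlib
import Cfsg.Agent.Helper4.AnP6
import Cfsg.Agent.Helper4.AnP7

set_option autoImplicit false

/-!
# The base lemma on `Fin (p ^ k)`: the non-cycle cases and the assembly
-/

namespace Cfsg.Agent.Helper4.AnP

open Equiv MulAction

variable {N : ℕ} [NeZero N]

theorem closure_pair_mem (u L : Perm (Fin N)) :
    u ∈ Subgroup.closure ({u, L} : Set (Perm (Fin N))) ∧
      u * L ∈ Subgroup.closure ({u, L} : Set (Perm (Fin N))) := by
  have hu : u ∈ Subgroup.closure ({u, L} : Set (Perm (Fin N))) :=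
    Subgroup.subset_closure (by simp)
  exact ⟨hu, Subgroup.mul_mem _ hu (Subgroup.subset_closure (by simp))⟩

/-- Case II: a single nontrivial cycle and fixed points. -/
theorem good_single {p k : ℕ} (hp : p.Prime) (hp3 : 3 ≤ p) (hk : 2 ≤ k) (hN : N = p ^ k)
    (m₁ : ℕ) (hm3 : 3 ≤ m₁) (hpm : p ∣ m₁) (hmP : m₁ ≤ p ^ (k - 1)) :
    Good p (finRotate N) (lay N 0 [(m₁, false)]) := by
  set P := p ^ (k - 1) with hP
  have hNP : N = p * P := by rw [hN, hP, ← pow_succ']; congr 1; omega
  have hpP : p ∣ P := by rw [hP]; exact dvd_pow_self p (by omega)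
  have hP3 : 3 ≤ P := by
    have : p ^ 1 ≤ p ^ (k - 1) := Nat.pow_le_pow_right hp.pos (by omega)
    rw [pow_one] at this; omega
  have hN3P : 3 * P ≤ N := by rw [hNP]; exact Nat.mul_le_mul_right P hp3
  have hL : ∀ e ∈ [(m₁, false)], 1 ≤ e.1 ∧ e.1 < N ∧ (e.2 = true → e.1 ≠ 2) := by
    intro e he
    rw [List.mem_singleton] at he
    subst he
    exact ⟨by omega, by simp only; omega, by simp⟩
  have hL1 : ∀ e ∈ [(m₁, false)], 1 ≤ e.1 := fun e he => (hL e he).1
  have htot : tot [(m₁, false)] = m₁ := by simp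
  have hcard := card_fix_lay (N := N) (by omega) [(m₁, false)] hL (by rw [htot]; omega)
  have hb : bsum [(m₁, false)] = m₁ - 1 := by simp [bsum]
  rw [hb] at hcard
  apply good_of_fix_of_primitive hp hN (by omega)
  · rw [hcard]
    intro h
    have h1 : p ∣ m₁ - (m₁ - 1) := Nat.dvd_sub hpm h
    have h2 : m₁ - (m₁ - 1) = 1 := by omega
    rw [h2] at h1
    have := Nat.le_of_dvd (by norm_num) h1
    omega
  · rw [hcard]; omega
  · obtain ⟨huG, hcG⟩ := closure_pair_mem (finRotate N) (lay N 0 [(m₁, false)])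
    refine isPreprimitive_of_witness hp (by omega) hN _ huG _ hcG ⟨1, by omega⟩
      ⟨1 + P, by omega⟩ ?_ ?_
    · simp only
      rw [Nat.add_mod_right]
    · have hv1 : ((finRotate N * lay N 0 [(m₁, false)]) (⟨1, by omega⟩ : Fin N)).val = 1 := by
        rw [Perm.mul_apply, lay_first [] 0 m₁ false (by omega) (by simp) (by simp; omega) _
          (by simp only; omega), finRotate_val]
        have h6 : (K N 0 m₁ false (⟨1, by omega⟩ : Fin N)).val = 1 - 1 := by
          simp only [K]
          exact Jinv_mid (by omega) (by simp only; omega) (by simp only; omega)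
        rw [h6, Nat.mod_eq_of_lt (by omega)]
      have hv2 : ((finRotate N * lay N 0 [(m₁, false)]) (⟨1 + P, by omega⟩ : Fin N)).val
          = P + 2 := by
        rw [Perm.mul_apply, lay_of_ge [(m₁, false)] 0 hL1 (by rw [htot]; omega) _
          (by rw [htot]; simp only; omega), finRotate_val]
        simp only
        rw [Nat.mod_eq_of_lt (by omega)]
        omega
      rw [hv1, hv2]
      intro h
      have h2 := Nat.sub_mod_eq_zero_of_mod_eq h.symm
      have h3 : p ∣ P + 2 - 1 := Nat.dvd_of_mod_eq_zero h2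
      have h4 : P + 2 - 1 = P + 1 := by omega
      rw [h4] at h3
      have h5' : p ∣ 1 := (Nat.dvd_add_right hpP).1 h3
      have := Nat.le_of_dvd (by norm_num) h5'
      omega

/-- Cases III/IV, given the arithmetic of the fixed-point count. -/
theorem good_multi_aux {p k : ℕ} (hp : p.Prime) (hp3 : 3 ≤ p) (hk : 2 ≤ k) (hN : N = p ^ k)
    (m₁ m₂ : ℕ) (l : List ℕ) (t₂ : Bool)
    (hl : ∀ a ∈ m₁ :: m₂ :: l, 3 ≤ a ∧ p ∣ a ∧ a ≤ p ^ (k - 1))
    (hsum : m₁ + m₂ + l.sum ≤ N)
    (h1 : ¬ p ∣ bsum ((m₁, true) :: (m₂, t₂) :: l.map (fun a => (a, false))))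
    (h2 : bsum ((m₁, true) :: (m₂, t₂) :: l.map (fun a => (a, false))) ≠ 1) :
    Good p (finRotate N) (lay N 0 ((m₁, true) :: (m₂, t₂) :: l.map (fun a => (a, false)))) := by
  set P := p ^ (k - 1) with hP
  have hNP : N = p * P := by rw [hN, hP, ← pow_succ']; congr 1; omega
  have hpP : p ∣ P := by rw [hP]; exact dvd_pow_self p (by omega)
  have hpN : p ∣ N := by rw [hNP]; exact dvd_mul_right p P
  have hP3 : 3 ≤ P := by
    have : p ^ 1 ≤ p ^ (k - 1) := Nat.pow_le_pow_right hp.pos (by omega)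
    rw [pow_one] at this; omega
  have hN3P : 3 * P ≤ N := by rw [hNP]; exact Nat.mul_le_mul_right P hp3
  obtain ⟨hm₁3, hpm₁, hm₁P⟩ := hl m₁ List.mem_cons_self
  obtain ⟨hm₂3, hpm₂, hm₂P⟩ := hl m₂ (List.mem_cons_of_mem _ List.mem_cons_self)
  have hl' : ∀ a ∈ l, 3 ≤ a ∧ p ∣ a ∧ a ≤ P := fun a ha =>
    hl a (List.mem_cons_of_mem _ (List.mem_cons_of_mem _ ha))
  set T := l.map (fun a => (a, false)) with hT
  have hTmem : ∀ e ∈ T, e.2 = false ∧ 3 ≤ e.1 ∧ p ∣ e.1 ∧ e.1 ≤ P := by
    intro e he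
    rw [hT, List.mem_map] at he
    obtain ⟨a, ha, rfl⟩ := he
    exact ⟨rfl, hl' a ha⟩
  have htotT : tot T = l.sum := tot_map_false l
  have hL : ∀ e ∈ (m₁, true) :: (m₂, t₂) :: T, 1 ≤ e.1 ∧ e.1 < N ∧ (e.2 = true → e.1 ≠ 2) := by
    intro e he
    rcases List.mem_cons.1 he with rfl | he
    · exact ⟨by omega, by simp only; omega, fun _ => by simp only; omega⟩
    rcases List.mem_cons.1 he with rfl | he
    · exact ⟨by omega, by simp only; omega, fun _ => by simp only; omega⟩
    · obtain ⟨_, h3, _, hP'⟩ := hTmem e he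
      exact ⟨by omega, by omega, fun _ => by omega⟩
  have htot : tot ((m₁, true) :: (m₂, t₂) :: T) = m₁ + m₂ + l.sum := by
    rw [tot_cons, tot_cons, htotT]; omega
  have hcard := card_fix_lay (N := N) (by omega) _ hL (by rw [htot]; exact hsum)
  apply good_of_fix_of_primitive hp hN (by omega)
  · rw [hcard]; exact h1
  · rw [hcard]; exact h2
  · obtain ⟨huG, hcG⟩ := closure_pair_mem (finRotate N) (lay N 0 ((m₁, true) :: (m₂, t₂) :: T))
    refine isPreprimitive_of_witness hp (by omega) hN _ huG _ hcG ⟨0, by omega⟩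
      ⟨N - P, by omega⟩ ?_ ?_
    · simp only
      have : N - P = (p - 1) * P := by
        rw [hNP, Nat.sub_mul, one_mul]
      rw [this, Nat.zero_mod, Nat.mul_mod_left]
    · have hL1 : ∀ e ∈ (m₂, t₂) :: T, 1 ≤ e.1 := fun e he =>
        (hL e (List.mem_cons_of_mem _ he)).1
      have hv1 := c_apply_zero_fwd (N := N) (by omega) ((m₂, t₂) :: T) m₁ (by omega) hL1
        (by rw [tot_cons, htotT]; omega) ⟨0, by omega⟩ rfl
      have hT' : ∀ e ∈ T, e.2 = false ∧ 1 ≤ e.1 ∧ p ∣ e.1 := fun e he => by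
        obtain ⟨h1, h3, h4, _⟩ := hTmem e he
        exact ⟨h1, by omega, h4⟩
      have hv2 := c_mod_tail (N := N) hpN T m₁ m₂ true t₂ (by omega) (by omega) hT'
        (by rw [htotT]; exact hsum) ⟨N - P, by omega⟩ (by simp only; omega)
      rw [hv1]
      simp only at hv2
      have hdvd : p ∣ N - P := Nat.dvd_sub hpN hpP
      have e0 : (N - P) % p = 0 := Nat.mod_eq_zero_of_dvd hdvd
      have e1 : (N - P + 1) % p = 1 := by
        rw [Nat.add_mod, e0, zero_add, Nat.mod_mod, Nat.mod_eq_of_lt (by omega)]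
      have e2 : 2 % p = 2 := Nat.mod_eq_of_lt (by omega)
      rw [e2]
      rcases hv2 with h | h
      · rw [h, e0]; omega
      · rw [h, e1]; omega

/-- Cases III/IV. -/
theorem good_multi {p k : ℕ} (hp : p.Prime) (hp3 : 3 ≤ p) (hk : 2 ≤ k) (hN : N = p ^ k)
    (m₁ m₂ : ℕ) (l : List ℕ)
    (hl : ∀ a ∈ m₁ :: m₂ :: l, 3 ≤ a ∧ p ∣ a ∧ a ≤ p ^ (k - 1))
    (hsum : m₁ + m₂ + l.sum ≤ N) :
    ∃ t₂ : Bool,
      Good p (finRotate N) (lay N 0 ((m₁, true) :: (m₂, t₂) :: l.map (fun a => (a, false)))) := by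
  obtain ⟨hm₂3, hpm₂, -⟩ := hl m₂ (List.mem_cons_of_mem _ List.mem_cons_self)
  have hl' : ∀ a ∈ l, 3 ≤ a ∧ p ∣ a := fun a ha =>
    ⟨(hl a (List.mem_cons_of_mem _ (List.mem_cons_of_mem _ ha))).1,
      (hl a (List.mem_cons_of_mem _ (List.mem_cons_of_mem _ ha))).2.1⟩
  have hB := bsum_map_false l (fun a ha => by have := (hl' a ha).1; omega)
  have hpl : p ∣ l.sum := List.dvd_sum (fun a ha => (hl' a ha).2)
  by_cases hq : (l.length + 2) % p = 1
  · -- two forward runs
    refine ⟨true, good_multi_aux hp hp3 hk hN m₁ m₂ l true hl hsum ?_ ?_⟩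
    · simp only [bsum, if_true, zero_add]
      intro h
      -- p ∣ l.length
      have h3 : p ∣ l.length := by
        have : p ∣ bsum (l.map (fun a => (a, false))) + l.length := by rw [hB]; exact hpl
        exact (Nat.dvd_add_right h).1 this
      have h4 : (l.length + 2) % p = 2 % p := by
        rw [Nat.add_mod, Nat.mod_eq_zero_of_dvd h3, zero_add, Nat.mod_mod]
      rw [h4, Nat.mod_eq_of_lt (by omega)] at hq
      omega
    · simp only [bsum, if_true, zero_add]
      -- l has at least two elements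
      have hlen : 2 ≤ l.length := by
        by_contra hlt
        push Not at hlt
        have h5 : l.length + 2 < p + 1 := by omega
        rcases Nat.lt_or_ge (l.length + 2) p with h6 | h6
        · rw [Nat.mod_eq_of_lt h6] at hq; omega
        · have h7 : l.length + 2 = p := by omega
          rw [h7, Nat.mod_self] at hq; omega
      match l, hl', hlen with
      | a :: l', hl', _ =>
        have ha := (hl' a List.mem_cons_self).1
        simp only [List.map_cons, bsum, Bool.false_eq_true, if_false]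
        omega
  · -- one forward run
    refine ⟨false, good_multi_aux hp hp3 hk hN m₁ m₂ l false hl hsum ?_ ?_⟩
    · simp only [bsum, if_true, zero_add, Bool.false_eq_true, if_false]
      intro h
      have h3 : p ∣ (m₂ - 1 + bsum (l.map (fun a => (a, false)))) + (l.length + 1) := by
        have : (m₂ - 1 + bsum (l.map (fun a => (a, false)))) + (l.length + 1)
            = m₂ + (bsum (l.map (fun a => (a, false))) + l.length) := by omega
        rw [this, hB]
        exact Nat.dvd_add hpm₂ hpl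
      have h4 : p ∣ l.length + 1 := (Nat.dvd_add_right h).1 h3
      apply hq
      have : l.length + 2 = (l.length + 1) + 1 := by omega
      rw [this, Nat.add_mod, Nat.mod_eq_zero_of_dvd h4, zero_add, Nat.mod_mod,
        Nat.mod_eq_of_lt (by omega)]
    · simp only [bsum, if_true, zero_add, Bool.false_eq_true, if_false]
      omega

end Cfsg.Agent.Helper4.AnP
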