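import Mathlib
import Cfsg.Agent.Helper4.AnP8

set_option autoImplicit false

/-!
# The base lemma on `Fin (p ^ k)` and on an arbitrary type of cardinality `p ^ k`
-/

namespace Cfsg.Agent.Helper4.AnP

open Equiv MulAction

/-- **Base lemma** on `Fin N`, `N = p ^ k ≥ 5`, for the standard `N`-cycle `finRotate N`. -/
theorem base_fin {N : ℕ} [NeZero N] {p k : ℕ} (hp : p.Prime) (hp3 : 3 ≤ p) (hN : N = p ^ k)
    (h5 : 5 ≤ N) (τ : Perm (Fin N)) (hτ1 : τ ≠ 1) (hτ : ∀ a ∈ τ.cycleType, ∃ j : ℕ, a = p ^ j)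
    (ε : ℤˣ) :
    ∃ h : Perm (Fin N), Perm.sign h = ε ∧ Good p (finRotate N) (h * τ * h⁻¹) := by
  have hk1 : 1 ≤ k := by
    rcases Nat.eq_zero_or_pos k with rfl | h
    · rw [pow_zero] at hN; omega
    · exact h
  have hp2 : 2 ≤ p := by omega
  set m := τ.cycleType with hm
  have hsumle : m.sum ≤ N := by
    rw [hm, Perm.sum_cycleType]
    exact (Finset.card_le_univ _).trans (by simp)
  have h2le : ∀ a ∈ m, 2 ≤ a := fun a ha => Perm.two_le_of_mem_cycleType ha
  have hpdvd : ∀ a ∈ m, p ∣ a := fun a ha => dvd_of_pow_ge_two (hτ a ha) (h2le a ha)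
  have h3le : ∀ a ∈ m, 3 ≤ a := fun a ha => by
    have := Nat.le_of_dvd (by have := h2le a ha; omega) (hpdvd a ha)
    omega
  have hne : m ≠ 0 := by
    rw [hm, Ne, Perm.cycleType_eq_zero]; exact hτ1
  have hlesum : ∀ a ∈ m, a ≤ m.sum := fun a ha => Multiset.single_le_sum (fun _ _ => Nat.zero_le _) a ha
  by_cases hNm : N ∈ m
  · -- the cycle case
    have hmN : m = {N} := by
      obtain ⟨m', hm'⟩ := Multiset.exists_cons_of_mem hNm
      have hs : m.sum = N + m'.sum := by rw [hm', Multiset.sum_cons]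
      have hm'0 : m' = 0 := by
        by_contra hne'
        obtain ⟨a, ha⟩ := Multiset.exists_mem_of_ne_zero hne'
        have h1 : a ≤ m'.sum := Multiset.single_le_sum (fun _ _ => Nat.zero_le _) a ha
        have h2 : 2 ≤ a := h2le a (by rw [hm']; exact Multiset.mem_cons_of_mem ha)
        omega
      rw [hm', hm'0]; rfl
    exact base_cycle hp hp3 hk1 hN h5 τ hmN ε
  · have hltN : ∀ a ∈ m, a < N := fun a ha => by
      have h1 := hlesum a ha
      have h2 : a ≠ N := fun h => hNm (h ▸ ha)
      omega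
    obtain ⟨a₀, ha₀⟩ := Multiset.exists_mem_of_ne_zero hne
    have hk2 : 2 ≤ k := by
      by_contra hlt
      have hk : k = 1 := by omega
      rw [hk, pow_one] at hN
      have h1 := hltN a₀ ha₀
      have h2 := Nat.le_of_dvd (by have := h2le a₀ ha₀; omega) (hpdvd a₀ ha₀)
      omega
    have hleP : ∀ a ∈ m, a ≤ p ^ (k - 1) := fun a ha =>
      le_pow_pred_of_lt hp2 (hτ a ha) (by rw [← hN]; exact hltN a ha)
    have hpN : p ∣ N := by rw [hN]; exact dvd_pow_self p (by omega)
    -- an odd element centralizing `τ`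
    have hz : ∃ z : Perm (Fin N), Perm.sign z = -1 ∧ z * τ = τ * z := by
      apply exists_odd_centralizer
      intro hle
      rw [Perm.centralizer_le_alternating_iff] at hle
      obtain ⟨-, hB, hC⟩ := hle
      rw [Fintype.card_fin] at hB
      have hpsum : p ∣ m.sum := Multiset.dvd_sum hpdvd
      have hsumN : m.sum = N := by
        by_contra hne'
        have h1 : N - m.sum = 1 := by
          have : τ.cycleType.sum = m.sum := rfl
          omega
        have h2 : p ∣ N - m.sum := Nat.dvd_sub hpN hpsum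
        rw [h1] at h2
        have := Nat.le_of_dvd (by norm_num) h2
        omega
      have hnd : m.Nodup := Multiset.nodup_iff_count_le_one.2 hC
      exact not_nodup_of_sum_eq_pow hp2 m hτ (fun a ha => by rw [← hN]; exact hltN a ha)
        (by rw [hsumN, hN]) hnd
    obtain ⟨l, hl⟩ : ∃ l : List ℕ, m = (l : Multiset ℕ) := ⟨m.toList, (Multiset.coe_toList m).symm⟩
    have hmem : ∀ a ∈ l, a ∈ m := fun a ha => by rw [hl]; exact Multiset.mem_coe.2 ha
    have hsuml : l.sum = m.sum := by rw [hl, Multiset.sum_coe]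
    match l, hl, hmem, hsuml with
    | [], hl, _, _ => exact absurd hl hne
    | [m₁], hl, hmem, hsuml =>
      have hm₁ := hmem m₁ List.mem_cons_self
      have hgood := good_single (N := N) hp hp3 hk2 hN m₁ (h3le m₁ hm₁) (hpdvd m₁ hm₁)
        (hleP m₁ hm₁)
      have hct : (lay N 0 [(m₁, false)]).cycleType = τ.cycleType := by
        rw [cycleType_lay [(m₁, false)] 0 (by
          intro e he
          rw [List.mem_singleton] at he
          subst he
          exact h2le m₁ hm₁) (by simp; exact (hltN m₁ hm₁).le)]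
        rw [← hm, hl]
        rfl
      exact exists_sign_of_good_of_odd_centralizer _ τ _ hct hgood hz ε
    | m₁ :: m₂ :: l', hl, hmem, hsuml =>
      have hall : ∀ a ∈ m₁ :: m₂ :: l', 3 ≤ a ∧ p ∣ a ∧ a ≤ p ^ (k - 1) := fun a ha =>
        ⟨h3le a (hmem a ha), hpdvd a (hmem a ha), hleP a (hmem a ha)⟩
      have hsum' : m₁ + m₂ + l'.sum ≤ N := by
        have : (m₁ :: m₂ :: l').sum = m₁ + m₂ + l'.sum := by simp [add_assoc]
        omega
      obtain ⟨t₂, hgood⟩ := good_multi (N := N) hp hp3 hk2 hN m₁ m₂ l' hall hsum'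
      have hct : (lay N 0 ((m₁, true) :: (m₂, t₂) :: l'.map (fun a => (a, false)))).cycleType
          = τ.cycleType := by
        rw [cycleType_lay _ 0 (by
          intro e he
          rcases List.mem_cons.1 he with rfl | he
          · exact h2le m₁ (hmem m₁ List.mem_cons_self)
          rcases List.mem_cons.1 he with rfl | he
          · exact h2le m₂ (hmem m₂ (List.mem_cons_of_mem _ List.mem_cons_self))
          · rw [List.mem_map] at he
            obtain ⟨a, ha, rfl⟩ := he
            exact h2le a (hmem a (List.mem_cons_of_mem _ (List.mem_cons_of_mem _ ha)))) (by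
          rw [tot_cons, tot_cons, tot_map_false]; omega)]
        rw [← hm, hl, List.map_cons, List.map_cons, map_fst_map_false]
      exact exists_sign_of_good_of_odd_centralizer _ τ _ hct hgood hz ε

theorem cycleType_permCongr {α β : Type*} [Fintype α] [DecidableEq α] [Fintype β]
    [DecidableEq β] (e : α ≃ β) (g : Perm α) : (e.permCongr g).cycleType = g.cycleType := by
  have : e.permCongr g = g.extendDomain
      (e.trans (Equiv.subtypeUnivEquiv (p := fun _ : β => True) (fun _ => trivial)).symm) := by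
    ext b
    rw [Perm.extendDomain_apply_subtype _ _ trivial]
    simp
  rw [this, Perm.cycleType_extendDomain]

/-- **Base lemma**: `a` a `p ^ k`-cycle on a set of `p ^ k ≥ 5` points, `τ` a nontrivial
`p`-element: conjugates of `τ` by permutations of either sign are good against `a`. -/
theorem base {β : Type*} [Fintype β] [DecidableEq β] {p k : ℕ} (hp : p.Prime) (hp3 : 3 ≤ p)
    (hcard : Fintype.card β = p ^ k) (h5 : 5 ≤ p ^ k) (a τ : Perm β)
    (ha : a.cycleType = {p ^ k}) (hτ1 : τ ≠ 1) (hτ : ∀ m ∈ τ.cycleType, ∃ j : ℕ, m = p ^ j)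
    (ε : ℤˣ) : ∃ h : Perm β, Perm.sign h = ε ∧ Good p a (h * τ * h⁻¹) := by
  haveI : NeZero (p ^ k) := ⟨by omega⟩
  set e₀ : β ≃ Fin (p ^ k) := Fintype.equivFinOfCardEq hcard with he₀
  have hconj : IsConj (e₀.permCongr a) (finRotate (p ^ k)) := by
    rw [Perm.isConj_iff_cycleType_eq, cycleType_permCongr, ha,
      cycleType_finRotate_of_le (by omega)]
  obtain ⟨x, hx⟩ := isConj_iff.1 hconj
  set Ψ : Perm β ≃* Perm (Fin (p ^ k)) := e₀.permCongrHom.trans (MulAut.conj x) with hΨ
  have hΨapp : ∀ g : Perm β, Ψ g = x * e₀.permCongr g * x⁻¹ := fun g => rfl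
  have hΨa : Ψ a = finRotate (p ^ k) := by rw [hΨapp, hx]
  have hΨsign : ∀ g : Perm β, Perm.sign (Ψ g) = Perm.sign g := fun g => by
    rw [hΨapp, Perm.sign_mul, Perm.sign_mul, Perm.sign_inv, Perm.sign_permCongr, mul_comm,
      ← mul_assoc]
    simp
  have hΨct : ∀ g : Perm β, (Ψ g).cycleType = g.cycleType := fun g => by
    rw [hΨapp, Perm.cycleType_conj, cycleType_permCongr]
  obtain ⟨h', hs', hg'⟩ := base_fin hp hp3 rfl h5 (Ψ τ)
    (fun h => hτ1 (by
      have := congrArg Ψ.symm h
      rwa [MulEquiv.symm_apply_apply, map_one] at this))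
    (fun m hm => hτ m (by rwa [hΨct] at hm)) ε
  refine ⟨Ψ.symm h', ?_, ?_⟩
  · rw [← hΨsign, MulEquiv.apply_symm_apply, hs']
  · rw [← good_mulEquiv_iff hp Ψ, hΨa, map_mul, map_mul, map_inv, MulEquiv.apply_symm_apply]
    exact hg'


end Cfsg.Agent.Helper4.AnP
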