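import Mathlib
import Cfsg.Agent.Helper4.AnP9
import Cfsg.Agent.Helper4.AnP10
import Cfsg.Agent.Helper4.AnP11
import Cfsg.Agent.Helper4.AnP12

set_option autoImplicit false

/-!
# Nontrivial `p`-elements of `A_n` (`p` odd, `n ≥ 5`): a conjugate pair with non-`p` product
generating a nonsolvable group
-/

namespace Cfsg.Agent.Helper4.AnP

open Equiv

/-- Conjugates of `w` by permutations of either sign are good against `u`. -/
def Star (p : ℕ) {α : Type*} [Fintype α] [DecidableEq α] (u w : Perm α) : Prop :=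
  ∀ ε : ℤˣ, ∃ g : Perm α, Perm.sign g = ε ∧ Good p u (g * w * g⁻¹)

theorem star_swap {p : ℕ} (hp : p.Prime) {α : Type*} [Fintype α] [DecidableEq α] {u w : Perm α}
    (h : Star p w u) : Star p u w := by
  intro ε
  obtain ⟨g, hs, hg⟩ := h ε
  exact ⟨g⁻¹, by rw [Perm.sign_inv, hs], good_swap hp hg⟩

theorem star_transport {γ β : Type*} [Fintype γ] [DecidableEq γ] [Fintype β] [DecidableEq β]
    {p : ℕ} (hp : p.Prime) (e : γ ≃ β) {u₀ w₀ : Perm γ} (h : Star p u₀ w₀) :
    Star p (e.permCongr u₀) (e.permCongr w₀) := by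
  intro ε
  obtain ⟨g, hs, hg⟩ := h ε
  refine ⟨e.permCongr g, by rw [Perm.sign_permCongr, hs], ?_⟩
  have h1 := (good_mulEquiv_iff hp e.permCongrHom (a := u₀) (b := g * w₀ * g⁻¹)).2 hg
  rw [map_mul, map_mul, map_inv] at h1
  exact h1

theorem card_lt_subtype {n M : ℕ} (hM : M ≤ n) :
    Fintype.card {i : Fin n // i.val < M} = M := by
  rw [Fintype.card_subtype, Fin.card_filter_val_lt, min_eq_right hM]

theorem card_not_lt_subtype {n M : ℕ} (hM : M ≤ n) :
    Fintype.card {i : Fin n // ¬ i.val < M} = n - M := by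
  rw [Fintype.card_subtype_compl, card_lt_subtype hM, Fintype.card_fin]

theorem sum_sub_of_le {m' m : Multiset ℕ} (h : m' ≤ m) : (m - m').sum = m.sum - m'.sum := by
  have := congrArg Multiset.sum (add_tsub_cancel_of_le h)
  rw [Multiset.sum_add] at this
  omega

/-- Reduction to a configuration on `Fin n₀`, `n₀ ≤ n`. -/
theorem star_of_small {n n₀ : ℕ} {p : ℕ} (hp : p.Prime) (u w : Perm (Fin n))
    (u' w' : Perm (Fin n₀)) (hn₀ : n₀ ≤ n)
    (hu : u'.cycleType ≤ u.cycleType)
    (hu2 : u.cycleType.sum - u'.cycleType.sum ≤ n - n₀)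
    (hw : w'.cycleType ≤ w.cycleType)
    (hw2 : w.cycleType.sum - w'.cycleType.sum ≤ n - n₀)
    (hstar : Star p u' w') : Star p u w := by
  set e : Fin n₀ ≃ {i : Fin n // i.val < n₀} :=
    (Fintype.equivFinOfCardEq (card_lt_subtype hn₀)).symm with he
  have h1 : (e.permCongr u').cycleType = u'.cycleType := cycleType_permCongr e u'
  have h2 : (e.permCongr w').cycleType = w'.cycleType := cycleType_permCongr e w'
  intro ε
  refine reduction (fun i : Fin n => i.val < n₀) hp u w (e.permCongr u') (e.permCongr w')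
    (by rw [h1]; exact hu) ?_ (by rw [h2]; exact hw) ?_ (star_transport hp e hstar) ε
  · rw [h1, sum_sub_of_le hu, card_not_lt_subtype hn₀]; exact hu2
  · rw [h2, sum_sub_of_le hw, card_not_lt_subtype hn₀]; exact hw2

/-- The case of a longest cycle of length `p ^ k ≥ 5`, occurring in `u`. -/
theorem star_big {n : ℕ} {p k : ℕ} (hp : p.Prime) (hp3 : 3 ≤ p) (u w : Perm (Fin n))
    (hw1 : w ≠ 1) (hw : ∀ a ∈ w.cycleType, ∃ j : ℕ, a = p ^ j) (h5 : 5 ≤ p ^ k)
    (hMu : p ^ k ∈ u.cycleType) (hwle : ∀ a ∈ w.cycleType, a ≤ p ^ k) : Star p u w := by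
  haveI : NeZero (p ^ k) := ⟨by omega⟩
  have hp2 : 2 ≤ p := by omega
  have hMn : p ^ k ≤ n := by
    have h1 : p ^ k ≤ u.cycleType.sum :=
      Multiset.single_le_sum (fun _ _ => Nat.zero_le _) _ hMu
    have h2 := Perm.sum_cycleType_le u
    rw [Fintype.card_fin] at h2
    omega
  have hwne : w.cycleType ≠ 0 := by rw [Ne, Perm.cycleType_eq_zero]; exact hw1
  obtain ⟨m', hm'le, hm'ne, hm'sum, hm'alt⟩ := exists_submultiset hp2 w.cycleType
    (fun a ha => ⟨hw a ha, hwle a ha⟩) hwne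
  obtain ⟨w', hw'⟩ := (Perm.exists_with_cycleType_iff (α := Fin (p ^ k)) (m := m')).2
    ⟨by rw [Fintype.card_fin]; exact hm'sum, fun a ha =>
      Perm.two_le_of_mem_cycleType (Multiset.mem_of_le hm'le ha)⟩
  have hw'1 : w' ≠ 1 := by
    intro h
    apply hm'ne
    rw [← hw', h, Perm.cycleType_one]
  have hstar : Star p (finRotate (p ^ k)) w' := fun ε =>
    base_fin hp hp3 rfl h5 w' hw'1 (fun a ha => hw a (by
      rw [hw'] at ha; exact Multiset.mem_of_le hm'le ha)) ε
  have hct : (finRotate (p ^ k)).cycleType = {p ^ k} := cycleType_finRotate_of_le (by omega)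
  refine star_of_small hp u w (finRotate (p ^ k)) w' hMn ?_ ?_ ?_ ?_ hstar
  · rw [hct]; exact Multiset.singleton_le.2 hMu
  · rw [hct, Multiset.sum_singleton]
    have h2 := Perm.sum_cycleType_le u
    rw [Fintype.card_fin] at h2
    omega
  · rw [hw']; exact hm'le
  · rw [hw']
    have h2 := Perm.sum_cycleType_le w
    rw [Fintype.card_fin] at h2
    rcases hm'alt with h | h
    · omega
    · rw [h]; omega

end Cfsg.Agent.Helper4.AnP
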