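import Mathlib
import Cfsg.Agent.Helper4.AnP13

set_option autoImplicit false

/-!
# Assembly: the statement for all nontrivial `p`-elements of `Perm (Fin n)`, `n ≥ 5`, `p` odd
-/

namespace Cfsg.Agent.Helper4.AnP

open Equiv

theorem star_three_cfg {n n₀ a b a₀ b₀ : ℕ} (u w : Perm (Fin n)) (u' w' : Perm (Fin n₀))
    (hua : u.cycleType = Multiset.replicate a 3) (hwb : w.cycleType = Multiset.replicate b 3)
    (hu' : u'.cycleType = Multiset.replicate a₀ 3) (hw' : w'.cycleType = Multiset.replicate b₀ 3)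
    (ha : a₀ ≤ a) (hb : b₀ ≤ b) (hn₀ : n₀ ≤ n) (h1 : 3 * a - 3 * a₀ ≤ n - n₀)
    (h2 : 3 * b - 3 * b₀ ≤ n - n₀) (hstar : Star 3 u' w') : Star 3 u w := by
  refine star_of_small Nat.prime_three u w u' w' hn₀ ?_ ?_ ?_ ?_ hstar
  · rw [hua, hu']; exact (Multiset.replicate_le_replicate 3).2 ha
  · rw [hua, hu', Multiset.sum_replicate, Multiset.sum_replicate, smul_eq_mul, smul_eq_mul]
    omega
  · rw [hwb, hw']; exact (Multiset.replicate_le_replicate 3).2 hb
  · rw [hwb, hw', Multiset.sum_replicate, Multiset.sum_replicate, smul_eq_mul, smul_eq_mul]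
    omega

/-- The case `p = 3` with all cycles of length `3`. -/
theorem star_three {n : ℕ} (hn : 5 ≤ n) (u w : Perm (Fin n)) (a b : ℕ) (ha : 1 ≤ a)
    (hb : 1 ≤ b) (hua : u.cycleType = Multiset.replicate a 3)
    (hwb : w.cycleType = Multiset.replicate b 3) : Star 3 u w := by
  have hsa : a * 3 ≤ n := by
    have h2 := Perm.sum_cycleType_le u
    rw [Fintype.card_fin, hua, Multiset.sum_replicate, smul_eq_mul] at h2
    exact h2
  have hsb : b * 3 ≤ n := by
    have h2 := Perm.sum_cycleType_le w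
    rw [Fintype.card_fin, hwb, Multiset.sum_replicate, smul_eq_mul] at h2
    exact h2
  by_cases h1 : 3 * a + 2 ≤ n ∧ 3 * b + 2 ≤ n
  · exact star_three_cfg u w u5 w5 hua hwb cycleType_u5 cycleType_w5 ha hb hn (by omega)
      (by omega) base_cfg1
  · by_cases h2 : 2 ≤ a ∧ 2 ≤ b
    · exact star_three_cfg u w u6 w6b hua hwb cycleType_u6 cycleType_w6b h2.1 h2.2 (by omega)
        (by omega) (by omega) base_cfg3
    · by_cases h3 : 2 ≤ a
      · -- then `b = 1`
        exact star_three_cfg u w u6 w6a hua hwb cycleType_u6 cycleType_w6a h3 hb (by omega)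
          (by omega) (by omega) base_cfg2
      · -- `a = 1`, `b ≥ 2`
        apply star_swap Nat.prime_three
        exact star_three_cfg w u u6 w6a hwb hua cycleType_u6 cycleType_w6a (by omega) ha
          (by omega) (by omega) (by omega) base_cfg2

/-- The main statement with the longest cycle occurring in `u`. -/
theorem star_aux {n : ℕ} (hn : 5 ≤ n) {p : ℕ} (hp : p.Prime) (hp3 : 3 ≤ p)
    (u w : Perm (Fin n)) (hu1 : u ≠ 1) (hw1 : w ≠ 1)
    (hu : ∀ a ∈ u.cycleType, ∃ j : ℕ, a = p ^ j) (hw : ∀ a ∈ w.cycleType, ∃ j : ℕ, a = p ^ j)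
    (M : ℕ) (hMu : M ∈ u.cycleType) (hule : ∀ a ∈ u.cycleType, a ≤ M)
    (hwle : ∀ a ∈ w.cycleType, a ≤ M) : Star p u w := by
  obtain ⟨k, hk⟩ := hu M hMu
  by_cases h5 : 5 ≤ M
  · subst hk
    exact star_big hp hp3 u w hw1 hw h5 hMu hwle
  · -- `p = 3` and all cycles have length `3`
    push Not at h5
    have hM2 : 2 ≤ M := Perm.two_le_of_mem_cycleType hMu
    have hpM : p ∣ M := dvd_of_pow_ge_two ⟨k, hk⟩ hM2
    have hple : p ≤ M := Nat.le_of_dvd (by omega) hpM
    have hp3' : p = 3 := by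
      have : p ≤ 4 := by omega
      interval_cases p
      · rfl
      · exact absurd hp (by norm_num)
    subst hp3'
    have hall : ∀ (σ : Perm (Fin n)), (∀ a ∈ σ.cycleType, ∃ j : ℕ, a = 3 ^ j) →
        (∀ a ∈ σ.cycleType, a ≤ M) → ∀ a ∈ σ.cycleType, a = 3 := by
      intro σ h1 h2 a ha
      have h3 : 3 ∣ a := dvd_of_pow_ge_two (h1 a ha) (Perm.two_le_of_mem_cycleType ha)
      have h4 := h2 a ha
      have h5' := Perm.two_le_of_mem_cycleType ha
      omega
    have hua : u.cycleType = Multiset.replicate (Multiset.card u.cycleType) 3 :=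
      Multiset.eq_replicate.2 ⟨rfl, hall u hu hule⟩
    have hwb : w.cycleType = Multiset.replicate (Multiset.card w.cycleType) 3 :=
      Multiset.eq_replicate.2 ⟨rfl, hall w hw hwle⟩
    have ha : 1 ≤ Multiset.card u.cycleType := by
      rw [Nat.one_le_iff_ne_zero, Ne, Multiset.card_eq_zero, Perm.cycleType_eq_zero]
      exact hu1
    have hb : 1 ≤ Multiset.card w.cycleType := by
      rw [Nat.one_le_iff_ne_zero, Ne, Multiset.card_eq_zero, Perm.cycleType_eq_zero]
      exact hw1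
    exact star_three hn u w _ _ ha hb hua hwb

/-- **Main statement** for `Perm (Fin n)`. -/
theorem star {n : ℕ} (hn : 5 ≤ n) {p : ℕ} (hp : p.Prime) (hp3 : 3 ≤ p)
    (u w : Perm (Fin n)) (hu1 : u ≠ 1) (hw1 : w ≠ 1)
    (hu : ∀ a ∈ u.cycleType, ∃ j : ℕ, a = p ^ j) (hw : ∀ a ∈ w.cycleType, ∃ j : ℕ, a = p ^ j) :
    Star p u w := by
  have hune : u.cycleType ≠ 0 := by rw [Ne, Perm.cycleType_eq_zero]; exact hu1
  set S := (u.cycleType + w.cycleType).toFinset with hS
  have hSne : S.Nonempty := by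
    obtain ⟨a, ha⟩ := Multiset.exists_mem_of_ne_zero hune
    exact ⟨a, by rw [hS, Multiset.mem_toFinset, Multiset.mem_add]; exact Or.inl ha⟩
  set M := S.max' hSne with hM
  have hMmem : M ∈ S := Finset.max'_mem S hSne
  have hle : ∀ a ∈ S, a ≤ M := fun a ha => Finset.le_max' S a ha
  have hule : ∀ a ∈ u.cycleType, a ≤ M := fun a ha =>
    hle a (by rw [hS, Multiset.mem_toFinset, Multiset.mem_add]; exact Or.inl ha)
  have hwle : ∀ a ∈ w.cycleType, a ≤ M := fun a ha =>
    hle a (by rw [hS, Multiset.mem_toFinset, Multiset.mem_add]; exact Or.inr ha)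
  rw [hS, Multiset.mem_toFinset, Multiset.mem_add] at hMmem
  rcases hMmem with h | h
  · exact star_aux hn hp hp3 u w hu1 hw1 hu hw M h hule hwle
  · exact star_swap hp (star_aux hn hp hp3 w u hw1 hu1 hw hu M h hwle hule)

end Cfsg.Agent.Helper4.AnP
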