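import Mathlib
import Cfsg.Agent.Helper2.PComp3
import Cfsg.Agent.Helper2.ExtLayer1
import Cfsg.Agent.Helper1.CritChiefA
import Cfsg.Agent.Helper1.Card

set_option autoImplicit false

/-!
S1301 (unconditional `L_{2'}`-balance), piece (II.b) of `notes/helper2_S1301_stubs.lean.txt`:
`GLP+`.  The two inputs `glp` (Glauberman's theorem on perfect groups centralizing a Sylow
2-subgroup) and `step` are taken as hypotheses (`GlpHyp`, `StepHyp`); `TwoPerf` is a local copy of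
helper2's definition (definitionally the same conjunction).
-/

namespace Cfsg.Agent.Helper4.GLP

open scoped commutatorElement
open Cfsg.Agent.Helper2 (IsPElt opp coreOf)

universe u

/-- The class `𝒞`: perfect and generated by its 2-elements (copy of helper2's `TwoPerf`). -/
def TwoPerf {Γ : Type*} [Group Γ] (Y : Subgroup Γ) : Prop :=
  ⁅Y, Y⁆ = Y ∧ Cfsg.Agent.Helper2.opp 2 Y = Y

/-- The statement of piece (I) `glp` for the group `Γ`. -/
def GlpHyp (Γ : Type u) [Group Γ] : Prop :=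
  ∀ (K : Subgroup Γ), K.Normal → ∀ (S Y : Subgroup Γ), S ≤ K → IsPGroup 2 ↥S →
    ¬ 2 ∣ S.relIndex K → TwoPerf Y → Y ≤ Subgroup.centralizer (S : Set Γ) →
    ⁅K, Y⁆ ≤ Cfsg.pPrimeCore 2 Γ

/-- The statement of piece (II.a) `step` for the group `Γ`. -/
def StepHyp (Γ : Type u) [Group Γ] : Prop :=
  ∀ (O₁ R Y : Subgroup Γ), (Nat.card ↥O₁).Coprime 2 → IsPGroup 2 ↥R → TwoPerf Y →
    R ≤ Subgroup.normalizer (O₁ : Set Γ) → Y ≤ Subgroup.normalizer (O₁ : Set Γ) → ⁅R, Y⁆ ≤ O₁ →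
    ∃ Y₁ : Subgroup Γ, TwoPerf Y₁ ∧ Y₁ ≤ O₁ ⊔ Y ∧ Y₁ ≤ Subgroup.centralizer (R : Set Γ) ∧
      O₁ ⊔ Y₁ = O₁ ⊔ Y

section basics

variable {Γ : Type*} [Group Γ]

theorem comm_mul_left (a b y : Γ) : ⁅a * b, y⁆ = a * ⁅b, y⁆ * a⁻¹ * ⁅a, y⁆ := by
  simp only [commutatorElement_def]; group

theorem comm_inv_left (a y : Γ) : ⁅a⁻¹, y⁆ = a⁻¹ * ⁅a, y⁆⁻¹ * a⁻¹⁻¹ := by
  simp only [commutatorElement_def]; group

/-- The elements of `N(L)` that commute with `Y` modulo `L`. -/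
def commInto (L Y : Subgroup Γ) : Subgroup Γ where
  carrier := {g | g ∈ Subgroup.normalizer (L : Set Γ) ∧ ∀ y ∈ Y, ⁅g, y⁆ ∈ L}
  one_mem' := ⟨Subgroup.one_mem _, fun y _ => by
    rw [commutatorElement_one_left]; exact L.one_mem⟩
  mul_mem' := by
    rintro a b ⟨ha, ha'⟩ ⟨hb, hb'⟩
    refine ⟨Subgroup.mul_mem _ ha hb, fun y hy => ?_⟩
    rw [comm_mul_left]
    exact L.mul_mem ((Subgroup.mem_normalizer_iff.1 ha _).1 (hb' y hy)) (ha' y hy)
  inv_mem' := by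
    rintro a ⟨ha, ha'⟩
    have ha1 : a⁻¹ ∈ Subgroup.normalizer (L : Set Γ) := Subgroup.inv_mem _ ha
    refine ⟨ha1, fun y hy => ?_⟩
    rw [comm_inv_left]
    exact (Subgroup.mem_normalizer_iff.1 ha1 _).1 (L.inv_mem (ha' y hy))

theorem le_commInto {L Y A : Subgroup Γ} (hA : A ≤ Subgroup.normalizer (L : Set Γ))
    (hAY : ⁅A, Y⁆ ≤ L) : A ≤ commInto L Y := fun a ha =>
  ⟨hA ha, fun y hy => hAY (Subgroup.commutator_mem_commutator ha hy)⟩

theorem comm_le_of_le_commInto {L Y A : Subgroup Γ} (hA : A ≤ commInto L Y) : ⁅A, Y⁆ ≤ L := by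
  rw [Subgroup.commutator_le]
  intro a ha y hy
  exact (hA ha).2 y hy

/-- `⁅A ⊔ B, Y⁆ ≤ L` from `⁅A, Y⁆ ≤ L`, `⁅B, Y⁆ ≤ L` when `A`, `B` normalize `L`. -/
theorem sup_comm_le {L Y A B : Subgroup Γ} (hA : A ≤ Subgroup.normalizer (L : Set Γ))
    (hB : B ≤ Subgroup.normalizer (L : Set Γ)) (hAY : ⁅A, Y⁆ ≤ L) (hBY : ⁅B, Y⁆ ≤ L) :
    ⁅A ⊔ B, Y⁆ ≤ L :=
  comm_le_of_le_commInto (sup_le (le_commInto hA hAY) (le_commInto hB hBY))

/-- `⁅D, Y⁆ ≤ L` when `D ≤ L` and `Y` normalizes `L`. -/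
theorem comm_le_of_le_of_normalizes {L D Y : Subgroup Γ} (hD : D ≤ L)
    (hY : Y ≤ Subgroup.normalizer (L : Set Γ)) : ⁅D, Y⁆ ≤ L := by
  rw [Subgroup.commutator_le]
  intro d hd y hy
  have h1 : ⁅d, y⁆ = d * (y * d⁻¹ * y⁻¹) := by simp only [commutatorElement_def]; group
  rw [h1]
  exact L.mul_mem (hD hd) ((Subgroup.mem_normalizer_iff.1 (hY hy) _).1 (L.inv_mem (hD hd)))

/-- Lemma A: for perfect `Y`, `⁅⁅D, Y⁆, Y⁆ ≤ L` implies `⁅D, Y⁆ ≤ L`. -/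
theorem comm_le_of_perfect (L D Y : Subgroup Γ) (hY : ⁅Y, Y⁆ = Y)
    (hD : D ≤ Subgroup.normalizer (L : Set Γ)) (hYL : Y ≤ Subgroup.normalizer (L : Set Γ))
    (h : ⁅⁅D, Y⁆, Y⁆ ≤ L) : ⁅D, Y⁆ ≤ L := by
  have h1 : ⁅⁅Y, D⁆, Y⁆ ≤ L := by rw [Subgroup.commutator_comm Y D]; exact h
  have h3 := Cfsg.Agent.Helper1.CritChief.three_subgroups_mod L Y Y D hYL hYL hD h1 h
  rw [hY, Subgroup.commutator_comm] at h3
  exact h3

theorem centralizer_le_normalizer' (R : Subgroup Γ) :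
    Subgroup.centralizer (R : Set Γ) ≤ Subgroup.normalizer (R : Set Γ) := by
  intro g hg
  rw [Subgroup.mem_normalizer_iff]
  intro r
  rw [Subgroup.mem_centralizer_iff] at hg
  constructor
  · intro hr
    have : g * r * g⁻¹ = r := by rw [← hg r hr]; group
    rw [this]; exact hr
  · intro hr
    have h1 := hg _ hr
    -- g r g⁻¹ commutes with g, so r = g r g⁻¹
    have : r = g * r * g⁻¹ := by
      have h2 : g * r * g⁻¹ * g = g * (g * r * g⁻¹) := h1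
      have h3 : g * r = g * (g * r * g⁻¹) := by rw [← h2]; group
      exact mul_left_cancel h3
    rw [this]; exact hr

/-- `N(R) ≤ N(C(R))`. -/
theorem normalizer_le_normalizer_centralizer' (R : Subgroup Γ) :
    Subgroup.normalizer (R : Set Γ) ≤
      Subgroup.normalizer ((Subgroup.centralizer (R : Set Γ) : Subgroup Γ) : Set Γ) := by
  have key : ∀ g ∈ Subgroup.normalizer (R : Set Γ), ∀ c ∈ Subgroup.centralizer (R : Set Γ),
      g * c * g⁻¹ ∈ Subgroup.centralizer (R : Set Γ) := by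
    intro g hg c hc
    rw [Subgroup.mem_centralizer_iff] at hc ⊢
    intro r hr
    have hr' : g⁻¹ * r * g⁻¹⁻¹ ∈ R :=
      (Subgroup.mem_normalizer_iff.1 (Subgroup.inv_mem _ hg) r).1 hr
    have h1 := hc _ hr'
    calc r * (g * c * g⁻¹) = g * ((g⁻¹ * r * g⁻¹⁻¹) * c) * g⁻¹ := by group
      _ = g * (c * (g⁻¹ * r * g⁻¹⁻¹)) * g⁻¹ := by rw [h1]
      _ = g * c * g⁻¹ * r := by group
  intro g hg
  rw [Subgroup.mem_normalizer_iff]
  intro c
  constructor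
  · exact key g hg c
  · intro hc
    have := key g⁻¹ (Subgroup.inv_mem _ hg) _ hc
    have e : g⁻¹ * (g * c * g⁻¹) * g⁻¹⁻¹ = c := by group
    rwa [e] at this

theorem normalizer_inf_le (A B : Subgroup Γ) :
    Subgroup.normalizer (A : Set Γ) ⊓ Subgroup.normalizer (B : Set Γ) ≤
      Subgroup.normalizer ((A ⊓ B : Subgroup Γ) : Set Γ) := by
  rintro g ⟨hA, hB⟩
  rw [Subgroup.mem_normalizer_iff]
  intro x
  rw [Subgroup.mem_inf, Subgroup.mem_inf, ← Subgroup.mem_normalizer_iff.1 hA x,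
    ← Subgroup.mem_normalizer_iff.1 hB x]

theorem normalizer_sup_le (A B : Subgroup Γ) :
    Subgroup.normalizer (A : Set Γ) ⊓ Subgroup.normalizer (B : Set Γ) ≤
      Subgroup.normalizer ((A ⊔ B : Subgroup Γ) : Set Γ) := by
  have key : ∀ g, g ∈ Subgroup.normalizer (A : Set Γ) → g ∈ Subgroup.normalizer (B : Set Γ) →
      A ⊔ B ≤ (A ⊔ B).comap (MulAut.conj g).toMonoidHom := by
    intro g hA hB
    refine sup_le ?_ ?_
    · intro a ha
      rw [Subgroup.mem_comap]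
      exact Subgroup.mem_sup_left ((Subgroup.mem_normalizer_iff.1 hA a).1 ha)
    · intro b hb
      rw [Subgroup.mem_comap]
      exact Subgroup.mem_sup_right ((Subgroup.mem_normalizer_iff.1 hB b).1 hb)
  rintro g ⟨hA, hB⟩
  rw [Subgroup.mem_normalizer_iff]
  intro x
  constructor
  · intro hx
    exact key g hA hB hx
  · intro hx
    have := key g⁻¹ (Subgroup.inv_mem _ hA) (Subgroup.inv_mem _ hB) hx
    rw [Subgroup.mem_comap] at this
    have e : (MulAut.conj g⁻¹).toMonoidHom (g * x * g⁻¹) = x := by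
      show g⁻¹ * (g * x * g⁻¹) * g⁻¹⁻¹ = x
      group
    rwa [e] at this

/-- `⁅N, Y⁆ ≤ C(R)` when `N` normalizes `R` and `Y` centralizes `R`. -/
theorem comm_le_centralizer {N Y R : Subgroup Γ} (hN : N ≤ Subgroup.normalizer (R : Set Γ))
    (hY : Y ≤ Subgroup.centralizer (R : Set Γ)) : ⁅N, Y⁆ ≤ Subgroup.centralizer (R : Set Γ) := by
  rw [Subgroup.commutator_le]
  intro n hn y hy
  have hy' := hY hy
  have hyinv : y⁻¹ ∈ Subgroup.centralizer (R : Set Γ) := Subgroup.inv_mem _ hy'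
  have h1 : n * y * n⁻¹ ∈ Subgroup.centralizer (R : Set Γ) :=
    (Subgroup.mem_normalizer_iff.1 (normalizer_le_normalizer_centralizer' R (hN hn)) y).1 hy'
  have : ⁅n, y⁆ = n * y * n⁻¹ * y⁻¹ := commutatorElement_def n y
  rw [this]
  exact Subgroup.mul_mem _ h1 hyinv

theorem isPGroup_zpowers {x : Γ} (hx : IsPElt 2 x) : IsPGroup 2 ↥(Subgroup.zpowers x) := by
  obtain ⟨k, hk⟩ := hx
  rintro ⟨g, hg⟩
  obtain ⟨m, rfl⟩ := Subgroup.mem_zpowers_iff.1 hg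
  refine ⟨k, Subtype.ext ?_⟩
  rw [Subgroup.coe_pow, Subgroup.coe_one]
  show (x ^ m) ^ 2 ^ k = 1
  rw [← zpow_natCast, ← zpow_mul, mul_comm, zpow_mul, zpow_natCast, hk, one_zpow]

theorem isPElt_of_mem {T : Subgroup Γ} (hT : IsPGroup 2 ↥T) {t : Γ} (ht : t ∈ T) : IsPElt 2 t := by
  obtain ⟨k, hk⟩ := hT ⟨t, ht⟩
  refine ⟨k, ?_⟩
  have := congrArg Subtype.val hk
  rwa [Subgroup.coe_pow, Subgroup.coe_one] at this

end basics

section finite

variable {Γ : Type u} [Group Γ] [Finite Γ]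

/-- A Sylow `2`-subgroup (in the relative index sense) of `H` containing the 2-subgroup `Q`. -/
theorem exists_sylow_in (H Q : Subgroup Γ) (hQ : IsPGroup 2 ↥Q) (hQH : Q ≤ H) :
    ∃ T : Subgroup Γ, Q ≤ T ∧ T ≤ H ∧ IsPGroup 2 ↥T ∧ ¬ 2 ∣ T.relIndex H := by
  haveI : Fact (Nat.Prime 2) := ⟨Nat.prime_two⟩
  have hQ' : IsPGroup 2 ↥(Q.subgroupOf H) := hQ.comap_subtype
  obtain ⟨S, hS⟩ := hQ'.exists_le_sylow
  refine ⟨(S : Subgroup ↥H).map H.subtype, ?_, Subgroup.map_subtype_le _, S.isPGroup'.map _, ?_⟩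
  · intro q hq
    exact ⟨⟨q, hQH hq⟩, hS (Subgroup.mem_subgroupOf.2 hq), rfl⟩
  · have h1 : ((S : Subgroup ↥H).map H.subtype).subgroupOf H = (S : Subgroup ↥H) :=
      Subgroup.comap_map_eq_self_of_injective H.subtype_injective _
    rw [Subgroup.relIndex, h1]
    exact S.not_dvd_index

/-- Sylow maximality in the relative index form. -/
theorem le_of_isPGroup_of_sylow {H T T' : Subgroup Γ} (hTT' : T ≤ T') (hT'H : T' ≤ H)
    (hT' : IsPGroup 2 ↥T') (hsyl : ¬ 2 ∣ T.relIndex H) : T' ≤ T := by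
  haveI : Fact (Nat.Prime 2) := ⟨Nat.prime_two⟩
  have h1 := Subgroup.relIndex_mul_relIndex T T' H hTT' hT'H
  obtain ⟨n, hn⟩ := hT'.index (T.subgroupOf T')
  rcases n with _ | n
  · rw [pow_zero] at hn
    exact Subgroup.relIndex_eq_one.1 hn
  · exfalso
    apply hsyl
    rw [← h1]
    apply Dvd.dvd.mul_right
    show 2 ∣ (T.subgroupOf T').index
    rw [hn, pow_succ]
    exact Dvd.intro_left _ rfl

/-- A 2-element of `H` normalizing the Sylow 2-subgroup `T` of `H` lies in `T`. -/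
theorem mem_of_isPElt_of_sylow {H T : Subgroup Γ} (hTH : T ≤ H) (hT : IsPGroup 2 ↥T)
    (hsyl : ¬ 2 ∣ T.relIndex H) {x : Γ} (hxH : x ∈ H) (hx : IsPElt 2 x)
    (hxT : x ∈ Subgroup.normalizer (T : Set Γ)) : x ∈ T := by
  have h1 : IsPGroup 2 ↥(T ⊔ Subgroup.zpowers x) :=
    hT.to_sup_of_normal_left' (isPGroup_zpowers hx) (by
      rw [Subgroup.zpowers_le]; exact hxT)
  have h2 : T ⊔ Subgroup.zpowers x ≤ H := sup_le hTH (by rw [Subgroup.zpowers_le]; exact hxH)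
  have h3 := le_of_isPGroup_of_sylow le_sup_left h2 h1 hsyl
  exact h3 (Subgroup.mem_sup_right (Subgroup.mem_zpowers x))

/-- Odd-order subgroups of `K ⊔ P` (`K` normal, `P` a 2-group) lie in `K`. -/
theorem le_of_coprime_of_le_sup (K P O : Subgroup Γ) [K.Normal] (hP : IsPGroup 2 ↥P)
    (hO : (Nat.card ↥O).Coprime 2) (hOK : O ≤ K ⊔ P) : O ≤ K := by
  intro o ho
  have h1 : (QuotientGroup.mk' K) o ∈ (K ⊔ P).map (QuotientGroup.mk' K) := ⟨o, hOK ho, rfl⟩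
  rw [Subgroup.map_sup, QuotientGroup.map_mk'_self, bot_sup_eq] at h1
  obtain ⟨p, hp, hpo⟩ := h1
  have h2 : IsPElt 2 ((QuotientGroup.mk' K) o) := by
    rw [← hpo]
    exact (isPElt_of_mem hP hp).map _
  have h3 : ((QuotientGroup.mk' K) o) ^ (Nat.card ↥O) = 1 := by
    rw [← map_pow]
    have h4 : (⟨o, ho⟩ : ↥O) ^ (Nat.card ↥O) = 1 := pow_card_eq_one'
    have h5 := congrArg Subtype.val h4
    rw [Subgroup.coe_pow, Subgroup.coe_one] at h5
    rw [h5, map_one]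
  have h6 := h2.eq_one_of_coprime h3 hO
  rwa [QuotientGroup.mk'_apply, QuotientGroup.eq_one_iff] at h6

theorem card_coreOf_coprime (C : Subgroup Γ) : (Nat.card ↥(coreOf 2 C)).Coprime 2 := by
  unfold Cfsg.Agent.Helper2.coreOf
  rw [Subgroup.card_map_of_injective C.subtype_injective]
  exact Cfsg.Agent.Helper1.card_pPrimeCore_coprime 2

theorem normalizer_le_normalizer_coreOf (C : Subgroup Γ) :
    Subgroup.normalizer (C : Set Γ) ≤ Subgroup.normalizer ((coreOf 2 C : Subgroup Γ) : Set Γ) := by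
  intro g hg
  rw [Cfsg.Agent.Helper2.mem_normalizer_iff_cj] at hg ⊢
  rw [← Cfsg.Agent.Helper2.coreOf_cj, hg]

/-- Burnside: if all 2-elements of `C` lie in a subgroup `R` centralized by `C`, then
`C = O(C) · (C ⊓ R)`. -/
theorem exists_mul_of_central_sylow (C R : Subgroup Γ)
    (hcent : ∀ x ∈ C, IsPElt 2 x → x ∈ R) (hCR : C ≤ Subgroup.centralizer (R : Set Γ)) :
    ∀ c ∈ C, ∃ h ∈ coreOf 2 C, ∃ q ∈ R, c = h * q := by
  haveI : Fact (Nat.Prime 2) := ⟨Nat.prime_two⟩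
  let Q : Sylow 2 ↥C := default
  have hQR : ∀ q : ↥C, q ∈ Q → (q : Γ) ∈ R := by
    intro q hq
    apply hcent _ q.2
    obtain ⟨k, hk⟩ := Q.isPGroup' ⟨q, hq⟩
    refine ⟨k, ?_⟩
    have h1 := congrArg Subtype.val hk
    have h2 := congrArg Subtype.val h1
    simpa using h2
  have hP : Subgroup.normalizer (Q : Set ↥C) ≤ Subgroup.centralizer (Q : Set ↥C) := by
    intro g _
    rw [Subgroup.mem_centralizer_iff]
    intro q hq
    have h1 := (Subgroup.mem_centralizer_iff.1 (hCR g.2)) _ (hQR q hq)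
    exact Subtype.ext h1
  have hcompl := MonoidHom.ker_transferSylow_isComplement' Q hP
  have hodd := MonoidHom.not_dvd_card_ker_transferSylow Q hP
  have hker : (MonoidHom.transferSylow Q hP).ker ≤ Cfsg.pPrimeCore 2 ↥C := by
    apply Cfsg.Agent.Helper1.le_pPrimeCore (MonoidHom.normal_ker _)
    exact ((Nat.Prime.coprime_iff_not_dvd Nat.prime_two).2 hodd).symm
  intro c hc
  obtain ⟨⟨h, q⟩, hhq⟩ := hcompl.2 ⟨c, hc⟩
  refine ⟨(h : ↥C), ⟨(h : ↥C), hker h.2, rfl⟩, (q : ↥C), hQR _ q.2, ?_⟩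
  have := congrArg Subtype.val hhq
  simpa using this.symm

/-- `⁅C, Y⁆ ≤ O(C)` in the situation of `exists_mul_of_central_sylow`, for `Y` centralizing `R`
and normalizing `C`. -/
theorem comm_le_coreOf (C R Y : Subgroup Γ)
    (hcent : ∀ x ∈ C, IsPElt 2 x → x ∈ R) (hCR : C ≤ Subgroup.centralizer (R : Set Γ))
    (hYR : Y ≤ Subgroup.centralizer (R : Set Γ)) (hYC : Y ≤ Subgroup.normalizer (C : Set Γ)) :
    ⁅C, Y⁆ ≤ coreOf 2 C := by
  rw [Subgroup.commutator_le]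
  intro c hc y hy
  obtain ⟨h, hh, q, hq, rfl⟩ := exists_mul_of_central_sylow C R hcent hCR c hc
  have hyq : ⁅q, y⁆ = 1 := by
    rw [commutatorElement_eq_one_iff_mul_comm]
    exact (Subgroup.mem_centralizer_iff.1 (hYR hy) q hq)
  rw [comm_mul_left, hyq, mul_one, mul_inv_cancel, one_mul]
  have hyn := normalizer_le_normalizer_coreOf C (hYC hy)
  have h1 : ⁅h, y⁆ = h * (y * h⁻¹ * y⁻¹) := by simp only [commutatorElement_def]; group
  rw [h1]
  exact Subgroup.mul_mem _ hh ((Subgroup.mem_normalizer_iff.1 hyn _).1 (Subgroup.inv_mem _ hh))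

/-- The normalizer condition in a `2`-group, in subgroup form. -/
theorem exists_normalizing_of_lt' {R T : Subgroup Γ} (hT : IsPGroup 2 ↥T) (hlt : R < T) :
    ∃ x ∈ T, x ∉ R ∧ x ∈ Subgroup.normalizer (R : Set Γ) := by
  haveI : Fact (Nat.Prime 2) := ⟨Nat.prime_two⟩
  haveI : Group.IsNilpotent ↥T := hT.isNilpotent
  have hnc := Group.normalizerCondition_of_isNilpotent (G := ↥T)
  have hlt' : R.subgroupOf T < ⊤ := by
    rw [lt_top_iff_ne_top]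
    intro htop
    rw [Subgroup.subgroupOf_eq_top] at htop
    exact (not_le_of_gt hlt) htop
  have h1 := hnc (R.subgroupOf T) hlt'
  obtain ⟨x, hxn, hxP⟩ := SetLike.exists_of_lt h1
  refine ⟨(x : Γ), x.2, ?_, ?_⟩
  · intro hx
    apply hxP
    rw [Subgroup.mem_subgroupOf]; exact hx
  · rw [Subgroup.mem_normalizer_iff] at hxn
    apply Subgroup.mem_normalizer_fintype
    intro n hn
    have hnS : n ∈ T := hlt.le hn
    have := (hxn ⟨n, hnS⟩).mp (by rw [Subgroup.mem_subgroupOf]; exact hn)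
    rw [Subgroup.mem_subgroupOf] at this
    simpa using this

/-- Lemma B: one step of the loop. -/
theorem loop_step (hstep : StepHyp Γ) (K : Subgroup Γ) [K.Normal] (P : Subgroup Γ)
    (hP : IsPGroup 2 ↥P) (R Y' : Subgroup Γ) (hRK₁ : R ≤ K ⊔ P)
    (hcent : ∀ x ∈ (K ⊔ P) ⊓ Subgroup.centralizer (R : Set Γ), IsPElt 2 x → x ∈ R)
    (hY' : TwoPerf Y') (hY'R : Y' ≤ Subgroup.centralizer (R : Set Γ))
    (hY'K₁ : Y' ≤ Subgroup.normalizer ((K ⊔ P : Subgroup Γ) : Set Γ))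
    (x : Γ) (hxK₁ : x ∈ K ⊔ P) (hxR : x ∈ Subgroup.normalizer (R : Set Γ))
    (hx2 : IsPGroup 2 ↥(R ⊔ Subgroup.zpowers x)) :
    ∃ Y'' : Subgroup Γ, TwoPerf Y'' ∧
      Y'' ≤ Subgroup.centralizer ((R ⊔ Subgroup.zpowers x : Subgroup Γ) : Set Γ) ∧
      K ⊔ Y'' = K ⊔ Y' := by
  obtain ⟨K₁, hK₁⟩ : ∃ K₁ : Subgroup Γ, K₁ = K ⊔ P := ⟨_, rfl⟩
  rw [← hK₁] at hRK₁ hcent hY'K₁ hxK₁
  obtain ⟨C, hC⟩ : ∃ C : Subgroup Γ, C = K₁ ⊓ Subgroup.centralizer (R : Set Γ) := ⟨_, rfl⟩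
  obtain ⟨N, hN⟩ : ∃ N : Subgroup Γ, N = K₁ ⊓ Subgroup.normalizer (R : Set Γ) := ⟨_, rfl⟩
  rw [← hC] at hcent
  have hCK₁ : C ≤ K₁ := hC ▸ inf_le_left
  have hCR : C ≤ Subgroup.centralizer (R : Set Γ) := hC ▸ inf_le_right
  have hNK₁ : N ≤ K₁ := hN ▸ inf_le_left
  have hNR : N ≤ Subgroup.normalizer (R : Set Γ) := hN ▸ inf_le_right
  -- normalizers of `C`
  have hnormC : Subgroup.normalizer (K₁ : Set Γ) ⊓ Subgroup.normalizer (R : Set Γ) ≤
      Subgroup.normalizer (C : Set Γ) := by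
    rw [hC]
    refine le_trans ?_ (normalizer_inf_le _ _)
    exact inf_le_inf le_rfl (normalizer_le_normalizer_centralizer' R)
  have hN_C : N ≤ Subgroup.normalizer (C : Set Γ) :=
    le_trans (le_inf (hNK₁.trans Subgroup.le_normalizer) hNR) hnormC
  have hY'_C : Y' ≤ Subgroup.normalizer (C : Set Γ) :=
    le_trans (le_inf hY'K₁ (hY'R.trans (centralizer_le_normalizer' R))) hnormC
  have hN_O : N ≤ Subgroup.normalizer ((coreOf 2 C : Subgroup Γ) : Set Γ) :=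
    hN_C.trans (normalizer_le_normalizer_coreOf C)
  have hY'_O : Y' ≤ Subgroup.normalizer ((coreOf 2 C : Subgroup Γ) : Set Γ) :=
    hY'_C.trans (normalizer_le_normalizer_coreOf C)
  have hOodd := card_coreOf_coprime C
  have hO_K : coreOf 2 C ≤ K := by
    apply le_of_coprime_of_le_sup K P _ hP hOodd
    rw [← hK₁]
    exact (Cfsg.Agent.Helper2.coreOf_le 2 C).trans hCK₁
  -- commutators
  have hCY : ⁅C, Y'⁆ ≤ coreOf 2 C := comm_le_coreOf C R Y' hcent hCR hY'R hY'_C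
  have hNY_C : ⁅N, Y'⁆ ≤ C := by
    rw [hC]
    exact le_inf (comm_le_of_le_of_normalizes hNK₁ hY'K₁) (comm_le_centralizer hNR hY'R)
  have hNY_O : ⁅N, Y'⁆ ≤ coreOf 2 C :=
    comm_le_of_perfect _ N Y' hY'.1 hN_O hY'_O
      ((Subgroup.commutator_mono hNY_C le_rfl).trans hCY)
  have hR₁N : R ⊔ Subgroup.zpowers x ≤ N := by
    rw [hN]
    refine sup_le (le_inf hRK₁ Subgroup.le_normalizer) ?_
    rw [Subgroup.zpowers_le]
    exact ⟨hxK₁, hxR⟩
  obtain ⟨Y'', hY''1, hY''2, hY''3, hY''4⟩ := hstep (coreOf 2 C) (R ⊔ Subgroup.zpowers x) Y' hOodd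
    hx2 hY' (hR₁N.trans hN_O) hY'_O ((Subgroup.commutator_mono hR₁N le_rfl).trans hNY_O)
  refine ⟨Y'', hY''1, hY''3, ?_⟩
  have hKO : K ⊔ coreOf 2 C = K := sup_eq_left.2 hO_K
  calc K ⊔ Y'' = (K ⊔ coreOf 2 C) ⊔ Y'' := by rw [hKO]
    _ = K ⊔ (coreOf 2 C ⊔ Y'') := sup_assoc _ _ _
    _ = K ⊔ (coreOf 2 C ⊔ Y') := by rw [hY''4]
    _ = (K ⊔ coreOf 2 C) ⊔ Y' := (sup_assoc _ _ _).symm
    _ = K ⊔ Y' := by rw [hKO]

/-- `T ⊓ K` is a Sylow 2-subgroup of the normal subgroup `K` when `T` is one of `K₁ ≥ K`. -/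
theorem not_dvd_relIndex_inf (K K₁ T : Subgroup Γ) [K.Normal] (hKK₁ : K ≤ K₁) (hTK₁ : T ≤ K₁)
    (hsyl : ¬ 2 ∣ T.relIndex K₁) : ¬ 2 ∣ (T ⊓ K).relIndex K := by
  rw [Subgroup.inf_relIndex_right]
  have hTn : T ≤ Subgroup.normalizer (K : Set Γ) := by
    rw [Subgroup.normalizer_eq_top]; exact le_top
  rw [← Cfsg.Agent.Helper1.relIndex_sup_of_le_normalizer' hTn]
  intro hd
  apply hsyl
  rw [← Subgroup.relIndex_mul_relIndex T (K ⊔ T) K₁ le_sup_right (sup_le hKK₁ hTK₁)]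
  exact Dvd.dvd.mul_right hd _

/-- The loop. -/
theorem loop (hglp : GlpHyp Γ) (hstep : StepHyp Γ) (K : Subgroup Γ) [hKn : K.Normal]
    (P Y T : Subgroup Γ) (hP : IsPGroup 2 ↥P)
    (hYK₁ : Y ≤ Subgroup.normalizer ((K ⊔ P : Subgroup Γ) : Set Γ))
    (hTK₁ : T ≤ K ⊔ P) (hT : IsPGroup 2 ↥T) (hsyl : ¬ 2 ∣ T.relIndex (K ⊔ P)) :
    ∀ R : Subgroup Γ, R ≤ T →
      (∀ x ∈ (K ⊔ P) ⊓ Subgroup.centralizer (R : Set Γ), IsPElt 2 x → x ∈ R) →
      ∀ Y' : Subgroup Γ, TwoPerf Y' → Y' ≤ Subgroup.centralizer (R : Set Γ) → K ⊔ Y' = K ⊔ Y →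
      ∃ Yf : Subgroup Γ, ⁅K, Yf⁆ ≤ Cfsg.pPrimeCore 2 Γ ∧ Y ≤ K ⊔ Yf := by
  intro R
  induction R using WellFoundedGT.induction with
  | ind R ih =>
    intro hRT hcent Y' hY' hY'R hKY'
    by_cases hRT' : R = T
    · -- `R = T`: apply `glp` with `S = T ⊓ K`
      refine ⟨Y', ?_, ?_⟩
      · refine hglp K hKn (T ⊓ K) Y' inf_le_right (hT.to_le inf_le_left)
          (not_dvd_relIndex_inf K (K ⊔ P) T le_sup_left hTK₁ hsyl) hY' ?_
        refine hY'R.trans (Subgroup.centralizer_le ?_)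
        rw [hRT']
        exact inf_le_left
      · rw [hKY']; exact le_sup_right
    · have hlt : R < T := lt_of_le_of_ne hRT hRT'
      obtain ⟨x, hxT, hxR, hxN⟩ := exists_normalizing_of_lt' hT hlt
      have hR₁T : R ⊔ Subgroup.zpowers x ≤ T :=
        sup_le hRT (by rw [Subgroup.zpowers_le]; exact hxT)
      have hY'K₁ : Y' ≤ Subgroup.normalizer ((K ⊔ P : Subgroup Γ) : Set Γ) := by
        have h1 : Y' ≤ K ⊔ Y := hKY' ▸ le_sup_right
        refine h1.trans (sup_le ?_ hYK₁)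
        exact le_sup_left.trans Subgroup.le_normalizer
      obtain ⟨Y'', hY''1, hY''2, hY''3⟩ := loop_step hstep K P hP R Y' (hRT.trans hTK₁) hcent hY'
        hY'R hY'K₁ x (hTK₁ hxT) hxN (hT.to_le hR₁T)
      have hlt' : R < R ⊔ Subgroup.zpowers x := by
        refine lt_of_le_of_ne le_sup_left ?_
        intro h
        apply hxR
        rw [h]
        exact Subgroup.mem_sup_right (Subgroup.mem_zpowers x)
      refine ih _ hlt' hR₁T ?_ Y'' hY''1 hY''2 (hY''3.trans hKY')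
      intro z hz hz2
      refine Subgroup.mem_sup_left (hcent z ⟨hz.1, ?_⟩ hz2)
      exact Subgroup.centralizer_le (by
        show (R : Set Γ) ⊆ ((R ⊔ Subgroup.zpowers x : Subgroup Γ) : Set Γ)
        exact (le_sup_left : R ≤ R ⊔ Subgroup.zpowers x)) hz.2

/-- PIECE (II.b): GLP+, modulo the inputs `glp` and `step`. -/
theorem glp_plus_of (hglp : GlpHyp Γ) (hstep : StepHyp Γ) (K : Subgroup Γ) [K.Normal]
    (P Y O₁ : Subgroup Γ)
    (hP : IsPGroup 2 ↥P) (hY : TwoPerf Y) (hYP : Y ≤ Subgroup.centralizer (P : Set Γ))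
    (hO₁ : (Nat.card ↥O₁).Coprime 2) (hO₁K : O₁ ≤ K)
    (hnorm : P ⊔ Y ⊔ ((K ⊔ P) ⊓ Subgroup.centralizer (P : Set Γ)) ≤
      Subgroup.normalizer (O₁ : Set Γ))
    (hKY : ⁅K ⊓ Subgroup.centralizer (P : Set Γ), Y⁆ ≤ O₁) :
    ∃ Yf : Subgroup Γ, ⁅K, Yf⁆ ≤ Cfsg.pPrimeCore 2 Γ ∧ Y ≤ K ⊔ Yf := by
  have hPn : P ≤ Subgroup.normalizer (O₁ : Set Γ) := (le_sup_left.trans le_sup_left).trans hnorm
  have hYn : Y ≤ Subgroup.normalizer (O₁ : Set Γ) := (le_sup_right.trans le_sup_left).trans hnorm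
  have hDn : (K ⊔ P) ⊓ Subgroup.centralizer (P : Set Γ) ≤ Subgroup.normalizer (O₁ : Set Γ) :=
    le_sup_right.trans hnorm
  obtain ⟨D, hD⟩ : ∃ D : Subgroup Γ, D = (K ⊔ P) ⊓ Subgroup.centralizer (P : Set Γ) := ⟨_, rfl⟩
  rw [← hD] at hDn
  have hDK₁ : D ≤ K ⊔ P := hD ▸ inf_le_left
  have hDP : D ≤ Subgroup.centralizer (P : Set Γ) := hD ▸ inf_le_right
  have hKtop : Subgroup.normalizer (K : Set Γ) = ⊤ := Subgroup.normalizer_eq_top K
  -- `Y` normalizes `K₁`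
  have hYK₁ : Y ≤ Subgroup.normalizer ((K ⊔ P : Subgroup Γ) : Set Γ) := by
    refine le_trans (le_inf ?_ (hYP.trans (centralizer_le_normalizer' P))) (normalizer_sup_le K P)
    rw [hKtop]; exact le_top
  -- `⁅P, Y⁆ = ⊥`
  have hPY : ⁅P, Y⁆ = ⊥ := by
    rw [Subgroup.commutator_comm, Subgroup.commutator_eq_bot_iff_le_centralizer]
    exact hYP
  -- Claim 1
  have h1 : ⁅D, Y⁆ ≤ K ⊓ Subgroup.centralizer (P : Set Γ) := by
    refine le_inf ?_ ?_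
    · refine (Subgroup.commutator_mono hDK₁ le_rfl).trans ?_
      refine sup_comm_le (by rw [hKtop]; exact le_top) (by rw [hKtop]; exact le_top)
        (Subgroup.commutator_le_left K Y) ?_
      rw [hPY]; exact bot_le
    · rw [Subgroup.commutator_le]
      intro d hd y hy
      have := commutatorElement_def d y
      rw [this]
      exact Subgroup.mul_mem _ (Subgroup.mul_mem _ (Subgroup.mul_mem _ (hDP hd) (hYP hy))
        (Subgroup.inv_mem _ (hDP hd))) (Subgroup.inv_mem _ (hYP hy))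
  have h2 : ⁅D, Y⁆ ≤ O₁ :=
    comm_le_of_perfect O₁ D Y hY.1 hDn hYn ((Subgroup.commutator_mono h1 le_rfl).trans hKY)
  have h3 : ⁅P ⊔ D, Y⁆ ≤ O₁ := sup_comm_le hPn hDn (by rw [hPY]; exact bot_le) h2
  -- `R₀`
  have hH₀K₁ : P ⊔ D ≤ K ⊔ P := sup_le le_sup_right hDK₁
  obtain ⟨R₀, hPR₀, hR₀H, hR₀, hR₀syl⟩ := exists_sylow_in (P ⊔ D) P hP le_sup_left
  have hR₀cent : ∀ x ∈ (K ⊔ P) ⊓ Subgroup.centralizer (R₀ : Set Γ), IsPElt 2 x → x ∈ R₀ := by
    intro x hx hx2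
    have hxD : x ∈ D := by
      rw [hD]
      exact ⟨hx.1, Subgroup.centralizer_le (by
        show (P : Set Γ) ⊆ (R₀ : Set Γ)
        exact hPR₀) hx.2⟩
    exact mem_of_isPElt_of_sylow hR₀H hR₀ hR₀syl (Subgroup.mem_sup_right hxD) hx2
      (centralizer_le_normalizer' R₀ hx.2)
  obtain ⟨Y₀, hY₀1, hY₀2, hY₀3, hY₀4⟩ := hstep O₁ R₀ Y hO₁ hR₀ hY
    (hR₀H.trans (sup_le hPn hDn)) hYn ((Subgroup.commutator_mono hR₀H le_rfl).trans h3)
  have hKO : K ⊔ O₁ = K := sup_eq_left.2 hO₁K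
  have hKY₀ : K ⊔ Y₀ = K ⊔ Y := by
    calc K ⊔ Y₀ = (K ⊔ O₁) ⊔ Y₀ := by rw [hKO]
      _ = K ⊔ (O₁ ⊔ Y₀) := sup_assoc _ _ _
      _ = K ⊔ (O₁ ⊔ Y) := by rw [hY₀4]
      _ = (K ⊔ O₁) ⊔ Y := (sup_assoc _ _ _).symm
      _ = K ⊔ Y := by rw [hKO]
  -- `T`
  obtain ⟨T, hR₀T, hTK₁, hT, hTsyl⟩ := exists_sylow_in (K ⊔ P) R₀ hR₀ (hR₀H.trans hH₀K₁)
  exact loop hglp hstep K P Y T hP hYK₁ hTK₁ hT hTsyl R₀ hR₀T hR₀cent Y₀ hY₀1 hY₀3 hKY₀

end finite

end Cfsg.Agent.Helper4.GLP
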