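import Mathlib
import Cfsg.Agent.Helper4.GLPPlus
import Cfsg.Agent.Helper2.Component
import Cfsg.Agent.Helper2.CompCent
import Cfsg.Agent.Helper2.PComp6
import Cfsg.Agent.Helper6.GlaubTwoA

set_option autoImplicit false

/-!
S1305 (Aschbacher's maximal component lemma), part A: general lemmas on commuting products,
components and 2-components.
-/

namespace Cfsg.Agent.Helper4.Asch

open scoped commutatorElement
open Cfsg.Agent.Helper2 (cj IsPElt opp)

universe u

section products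

variable {Y : Type*} [Group Y]

/-- The product homomorphism of two commuting subgroups. -/
def mulHom (J N : Subgroup Y) (h : N ≤ Subgroup.centralizer (J : Set Y)) : ↥J × ↥N →* Y :=
  MonoidHom.noncommCoprod J.subtype N.subtype (fun j c =>
    show Commute (J.subtype j) (N.subtype c) from
      (Subgroup.mem_centralizer_iff.1 (h c.2)) j j.2)

theorem mulHom_apply (J N : Subgroup Y) (h : N ≤ Subgroup.centralizer (J : Set Y))
    (x : ↥J × ↥N) : mulHom J N h x = (x.1 : Y) * (x.2 : Y) := rfl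

theorem exists_mul_of_mem_sup {J N : Subgroup Y} (h : N ≤ Subgroup.centralizer (J : Set Y))
    {k : Y} (hk : k ∈ J ⊔ N) : ∃ j ∈ J, ∃ c ∈ N, k = j * c := by
  have h1 : (mulHom J N h).range = J ⊔ N := by
    unfold mulHom
    rw [MonoidHom.noncommCoprod_range, Subgroup.range_subtype, Subgroup.range_subtype]
  rw [← h1] at hk
  obtain ⟨x, rfl⟩ := hk
  exact ⟨x.1, x.1.2, x.2, x.2.2, rfl⟩

theorem comm_mul_mul {J N : Subgroup Y} (h : N ≤ Subgroup.centralizer (J : Set Y))
    {j₁ j₂ c₁ c₂ : Y} (hj₁ : j₁ ∈ J) (hj₂ : j₂ ∈ J) (hc₁ : c₁ ∈ N) (hc₂ : c₂ ∈ N) :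
    ⁅j₁ * c₁, j₂ * c₂⁆ = ⁅j₁, j₂⁆ * ⁅c₁, c₂⁆ := by
  have h1 := map_commutatorElement (mulHom J N h)
    ((⟨j₁, hj₁⟩, ⟨c₁, hc₁⟩) : ↥J × ↥N) ((⟨j₂, hj₂⟩, ⟨c₂, hc₂⟩) : ↥J × ↥N)
  rw [mulHom_apply, mulHom_apply, mulHom_apply] at h1
  exact h1.symm

/-- If conjugation by `g` moves every element of the perfect subgroup `J` by a central element
of `J`, then `g` centralizes `J`. -/
theorem mem_centralizer_of_perfect {J : Subgroup Y} (hJ : ⁅J, J⁆ = J) {g : Y}
    (hg : ∀ x ∈ J, ∃ z ∈ J, z ∈ Subgroup.centralizer (J : Set Y) ∧ g * x * g⁻¹ = x * z) :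
    g ∈ Subgroup.centralizer (J : Set Y) := by
  have key : ⁅J, J⁆ ≤ Subgroup.centralizer ({g} : Set Y) := by
    rw [Subgroup.commutator_le]
    intro x hx y hy
    obtain ⟨z, hzJ, hz, hxz⟩ := hg x hx
    obtain ⟨w, hwJ, hw, hyw⟩ := hg y hy
    rw [Subgroup.mem_centralizer_singleton_iff]
    have h1 : g * ⁅x, y⁆ * g⁻¹ = ⁅g * x * g⁻¹, g * y * g⁻¹⁆ := by
      simp only [commutatorElement_def]; group
    have h2 : ⁅x * z, y * w⁆ = ⁅x, y⁆ * ⁅z, w⁆ :=
      comm_mul_mul (le_refl _) hx hy hz hw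
    have h3 : ⁅z, w⁆ = 1 := by
      rw [commutatorElement_eq_one_iff_mul_comm]
      exact (Subgroup.mem_centralizer_iff.1 hw z hzJ)
    rw [hxz, hyw, h2, h3, mul_one] at h1
    calc ⁅x, y⁆ * g = (g * ⁅x, y⁆ * g⁻¹) * g := by rw [h1]
      _ = g * ⁅x, y⁆ := by group
  rw [hJ] at key
  rw [Subgroup.mem_centralizer_iff]
  intro x hx
  exact (Subgroup.mem_centralizer_singleton_iff.1 (key hx))

end products

section pcomp

variable {X : Type u} [Group X] [Finite X]

/-- A component of even order is generated by its 2-elements. -/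
theorem opp_eq_of_isComponent_of_even {K : Subgroup X} (hK : Cfsg.IsComponent K)
    (heven : 2 ∣ Nat.card ↥K) : opp 2 K = K := by
  haveI : Fact (Nat.Prime 2) := ⟨Nat.prime_two⟩
  apply le_antisymm (Cfsg.Agent.Helper2.opp_le 2 K)
  have hn := Cfsg.Agent.Helper2.opp_normal_subgroupOf 2 K
  rcases Cfsg.Agent.Helper2.isSubnormal_quasisimple hK.2 _ hn.isSubnormal with h | h
  · exact Subgroup.subgroupOf_eq_top.1 h
  · exfalso
    have hperf : commutator ↥K = ⊤ := hK.2.1.commutator_eq_top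
    have hcent : ∀ x : ↥K, IsPElt 2 x → x ∈ Subgroup.center ↥K := by
      intro x hx
      apply h
      rw [Subgroup.mem_subgroupOf]
      apply Cfsg.Agent.Helper2.mem_opp x.2
      obtain ⟨k, hk⟩ := hx
      refine ⟨k, ?_⟩
      have := congrArg Subtype.val hk
      simpa using this
    have h1 := Cfsg.Agent.Helper6.Glaub.pElt_eq_one_of_perfect_of_central hperf hcent
    obtain ⟨x, hx⟩ := exists_prime_orderOf_dvd_card' (G := ↥K) 2 heven
    have hx1 : x = 1 := h1 x ⟨1, by rw [pow_one, ← hx]; exact pow_orderOf_eq_one x⟩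
    rw [hx1, orderOf_one] at hx
    norm_num at hx

/-- A component of even order is a 2-component. -/
theorem isPComponent_two_of_isComponent {K : Subgroup X} (hK : Cfsg.IsComponent K)
    (heven : 2 ∣ Nat.card ↥K) : Cfsg.IsPComponent 2 K := by
  haveI : Fact (Nat.Prime 2) := ⟨Nat.prime_two⟩
  rw [Cfsg.Agent.Helper2.isPComponent_iff]
  constructor
  · rcases Cfsg.Agent.Helper2.map_component_eq_bot_or (QuotientGroup.mk' (Cfsg.pPrimeCore 2 X))
      (QuotientGroup.mk'_surjective _) hK with h | h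
    · exfalso
      have h1 : K ≤ Cfsg.pPrimeCore 2 X := by
        have := (Subgroup.map_eq_bot_iff _).1 h
        rwa [QuotientGroup.ker_mk'] at this
      have h2 : Nat.card ↥K ∣ Nat.card ↥(Cfsg.pPrimeCore 2 X) := Subgroup.card_dvd_of_le h1
      have h3 := Cfsg.Agent.Helper1.card_pPrimeCore_coprime (G := X) 2
      have h4 : 2 ∣ Nat.gcd (Nat.card ↥(Cfsg.pPrimeCore 2 X)) 2 :=
        Nat.dvd_gcd (heven.trans h2) dvd_rfl
      rw [Nat.Coprime] at h3
      rw [h3] at h4
      norm_num at h4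
    · exact h
  · rw [Cfsg.Agent.Helper2.comap_map_mk'_eq_sup,
      Cfsg.Agent.Helper2.opp_sup_eq _ (Cfsg.Agent.Helper1.card_pPrimeCore_coprime 2) K hK.1]
    exact opp_eq_of_isComponent_of_even hK heven

/-- If the 2-layer centralizes the core, it lies in the layer. -/
theorem pLayer_le_layer_of_commutator_eq_bot
    (h : ⁅Cfsg.pLayer 2 X, Cfsg.pPrimeCore 2 X⁆ = ⊥) : Cfsg.pLayer 2 X ≤ Cfsg.layer X := by
  haveI : Fact (Nat.Prime 2) := ⟨Nat.prime_two⟩
  unfold Cfsg.pLayer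
  apply sSup_le
  intro L hL
  apply Cfsg.Agent.Helper2.component_le_layer
  refine ⟨hL.1, ?_⟩
  apply Cfsg.Agent.Helper2.pComponent_quasisimple_of_commutator_core_eq_bot hL
  rw [eq_bot_iff, ← h]
  exact Subgroup.commutator_mono (Cfsg.Agent.Helper2.pComponent_le_pLayer hL)
    (Cfsg.Agent.Helper2.pPrimeCore_subnormal_le 2 L hL.1)

end pcomp

end Cfsg.Agent.Helper4.Asch
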