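import Mathlib
import Cfsg.Agent.Helper4.AschA
import Cfsg.Agent.Helper2.Standard1

set_option autoImplicit false

/-!
S1305, part B: the pumping-up dichotomy.  `a` an involution of the finite group `Y`, `K` a
component of `C_Y(a)` contained in `E(Y)` and of maximal order among components of `Y`: then `K`
is a component of `Y`, or `K` is the diagonal of `J · J^a` for a component `J ≠ J^a` of `Y`.
-/

namespace Cfsg.Agent.Helper4.Asch

open scoped commutatorElement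
open Cfsg.Agent.Helper2 (cj IsPElt opp)
open Cfsg.Agent.Helper4.GLP

universe u

section rel

variable {Y : Type*} [Group Y]

/-- perfectness of a relative component, in the ambient group -/
theorem rel_component_perfect {K C : Subgroup Y} (hKC : K ≤ C)
    (hK : Cfsg.IsComponent (K.subgroupOf C)) : ⁅K, K⁆ = K := by
  have h1 := Cfsg.Agent.Helper2.component_perfect hK
  have h2 := congrArg (Subgroup.map C.subtype) h1
  rwa [Subgroup.map_commutator, Subgroup.map_subgroupOf_eq_of_le hKC] at h2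

theorem rel_component_ne_bot {K C : Subgroup Y} (hK : Cfsg.IsComponent (K.subgroupOf C)) :
    K ≠ ⊥ := by
  intro h
  apply Cfsg.Agent.Helper2.component_ne_bot hK
  rw [h]
  exact Subgroup.bot_subgroupOf C

/-- a perfect nontrivial subgroup is not contained in its own centralizer -/
theorem not_le_centralizer_self {K : Subgroup Y} (hperf : ⁅K, K⁆ = K) (hne : K ≠ ⊥) :
    ¬ K ≤ Subgroup.centralizer (K : Set Y) := by
  intro h
  apply hne
  rw [← hperf, Subgroup.commutator_eq_bot_iff_le_centralizer]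
  exact h

theorem cj_cj_self {a : Y} (ha : a * a = 1) (J : Subgroup Y) : cj a (cj a J) = J := by
  rw [Cfsg.Agent.Helper2.cj_cj, ha, Cfsg.Agent.Helper2.cj_one]

theorem conj_mem_cj' {a x : Y} {J : Subgroup Y} (hx : x ∈ J) : a * x * a⁻¹ ∈ cj a J :=
  Cfsg.Agent.Helper2.conj_mem_cj J a x hx

theorem inv_eq_self_of_mul_self {a : Y} (ha : a * a = 1) : a⁻¹ = a :=
  inv_eq_of_mul_eq_one_left ha

/-- Lemma Q: an element normalizing `J` and `J^a` and centralizing the diagonal centralizes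
`J`. -/
theorem mem_centralizer_of_commute_diag {a : Y} {J : Subgroup Y} (hperf : ⁅J, J⁆ = J)
    (hcomm : cj a J ≤ Subgroup.centralizer (J : Set Y)) {g : Y}
    (hgJ : g ∈ Subgroup.normalizer (J : Set Y))
    (hgJ₂ : g ∈ Subgroup.normalizer ((cj a J : Subgroup Y) : Set Y))
    (hg : ∀ x ∈ J, g * (x * (a * x * a⁻¹)) = (x * (a * x * a⁻¹)) * g) :
    g ∈ Subgroup.centralizer (J : Set Y) := by
  apply mem_centralizer_of_perfect hperf
  intro x hx
  have hx' : a * x * a⁻¹ ∈ cj a J := conj_mem_cj' hx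
  have h1 : g * (x * (a * x * a⁻¹)) * g⁻¹ = x * (a * x * a⁻¹) := by rw [hg x hx]; group
  have h2 : x⁻¹ * (g * x * g⁻¹) = (a * x * a⁻¹) * (g * (a * x * a⁻¹) * g⁻¹)⁻¹ := by
    calc x⁻¹ * (g * x * g⁻¹)
        = x⁻¹ * (g * (x * (a * x * a⁻¹)) * g⁻¹) * (g * (a * x * a⁻¹) * g⁻¹)⁻¹ := by group
      _ = x⁻¹ * (x * (a * x * a⁻¹)) * (g * (a * x * a⁻¹) * g⁻¹)⁻¹ := by rw [h1]
      _ = (a * x * a⁻¹) * (g * (a * x * a⁻¹) * g⁻¹)⁻¹ := by group
  refine ⟨x⁻¹ * (g * x * g⁻¹), ?_, ?_, by group⟩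
  · exact J.mul_mem (J.inv_mem hx) ((Subgroup.mem_normalizer_iff.1 hgJ x).1 hx)
  · apply hcomm
    rw [h2]
    exact Subgroup.mul_mem _ hx'
      (Subgroup.inv_mem _ ((Subgroup.mem_normalizer_iff.1 hgJ₂ _).1 hx'))

/-- The diagonal map `x ↦ x · x^a` of a subgroup commuting with its `a`-conjugate. -/
def diagHom (a : Y) (J : Subgroup Y) (hcomm : cj a J ≤ Subgroup.centralizer (J : Set Y)) :
    ↥J →* Y where
  toFun x := (x : Y) * (a * (x : Y) * a⁻¹)
  map_one' := by simp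
  map_mul' x y := by
    have h1 : (y : Y) * (a * (x : Y) * a⁻¹) = (a * (x : Y) * a⁻¹) * (y : Y) :=
      Subgroup.mem_centralizer_iff.1 (hcomm (conj_mem_cj' x.2)) y y.2
    calc ((x * y : ↥J) : Y) * (a * ((x * y : ↥J) : Y) * a⁻¹)
        = (x : Y) * ((y : Y) * (a * (x : Y) * a⁻¹)) * (a * (y : Y) * a⁻¹) := by
          rw [Subgroup.coe_mul]; group
      _ = (x : Y) * ((a * (x : Y) * a⁻¹) * (y : Y)) * (a * (y : Y) * a⁻¹) := by rw [h1]
      _ = (x : Y) * (a * (x : Y) * a⁻¹) * ((y : Y) * (a * (y : Y) * a⁻¹)) := by group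

theorem diagHom_apply (a : Y) (J : Subgroup Y)
    (hcomm : cj a J ≤ Subgroup.centralizer (J : Set Y)) (x : ↥J) :
    diagHom a J hcomm x = (x : Y) * (a * (x : Y) * a⁻¹) := rfl

theorem exists_component_not_centralized (K : Subgroup Y) (hperf : ⁅K, K⁆ = K) (hne : K ≠ ⊥)
    (hKE : K ≤ Cfsg.layer Y) :
    ∃ J : Subgroup Y, Cfsg.IsComponent J ∧ ¬ K ≤ Subgroup.centralizer (J : Set Y) := by
  by_contra h
  push Not at h
  apply not_le_centralizer_self hperf hne
  have h1 : Cfsg.layer Y ≤ Subgroup.centralizer (K : Set Y) := by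
    unfold Cfsg.layer
    apply sSup_le
    intro J hJ
    exact Subgroup.le_centralizer_iff.1 (h J hJ)
  exact hKE.trans h1

theorem layer_le_sup_centralizer {J : Subgroup Y} (hJ : Cfsg.IsComponent J) :
    Cfsg.layer Y ≤ J ⊔ Subgroup.centralizer (J : Set Y) := by
  unfold Cfsg.layer
  apply sSup_le
  intro M hM
  by_cases h : M = J
  · rw [h]; exact le_sup_left
  · have h1 := Cfsg.Agent.Helper2.components_commute hM hJ h
    rw [Subgroup.commutator_eq_bot_iff_le_centralizer] at h1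
    exact h1.trans le_sup_right

end rel

section fin

variable {Y : Type u} [Group Y] [Finite Y]

/-- Case A of the exclusion: `a` normalizes `J` and `K` centralizes `C_J(a)`. -/
theorem le_centralizer_caseA (a : Y) (K J : Subgroup Y) (hJ : Cfsg.IsComponent J)
    (hperf : ⁅K, K⁆ = K) (hKE : K ≤ Cfsg.layer Y)
    (hfix : ∀ k ∈ K, a * k * a⁻¹ = k)
    (haJ : a ∈ Subgroup.normalizer (J : Set Y))
    (hstar : ∀ k ∈ K, ∀ m ∈ J, a * m * a⁻¹ = m → k * m = m * k) :
    K ≤ Subgroup.centralizer (J : Set Y) := by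
  obtain ⟨N, hN⟩ : ∃ N : Subgroup Y, N = Subgroup.centralizer (J : Set Y) := ⟨_, rfl⟩
  rw [← hN]
  have hNJ : N ≤ Subgroup.centralizer (J : Set Y) := hN.le
  have haN : a ∈ Subgroup.normalizer (N : Set Y) := by
    rw [hN]; exact normalizer_le_normalizer_centralizer' J haJ
  have hKnJ : K ≤ Subgroup.normalizer (J : Set Y) :=
    hKE.trans (Cfsg.Agent.Helper2.layer_le_normalizer_component hJ)
  have hKnN : K ≤ Subgroup.normalizer (N : Set Y) := by
    rw [hN]; exact hKnJ.trans (normalizer_le_normalizer_centralizer' J)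
  have hKP : K ≤ J ⊔ N := by rw [hN]; exact hKE.trans (layer_le_sup_centralizer hJ)
  -- decomposition lemma
  have hD2 : ∀ j ∈ J, ∀ c ∈ N, j * c ∈ K → ∃ z ∈ J, z ∈ N ∧ a * j * a⁻¹ = j * z := by
    intro j hj c hc hk
    have h1 := hfix _ hk
    have h2 : j⁻¹ * (a * j * a⁻¹) = c * (a * c * a⁻¹)⁻¹ := by
      calc j⁻¹ * (a * j * a⁻¹) = j⁻¹ * (a * (j * c) * a⁻¹) * (a * c * a⁻¹)⁻¹ := by group
        _ = j⁻¹ * (j * c) * (a * c * a⁻¹)⁻¹ := by rw [h1]
        _ = c * (a * c * a⁻¹)⁻¹ := by group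
    refine ⟨j⁻¹ * (a * j * a⁻¹), ?_, ?_, by group⟩
    · exact J.mul_mem (J.inv_mem hj) ((Subgroup.mem_normalizer_iff.1 haJ j).1 hj)
    · rw [h2]
      exact N.mul_mem hc (N.inv_mem ((Subgroup.mem_normalizer_iff.1 haN c).1 hc))
  have key : ∀ k₁ ∈ K, ∀ k₂ ∈ K, ⁅k₁, k₂⁆ ∈ commInto N K := by
    intro k₁ hk₁ k₂ hk₂
    have hn12 : ⁅k₁, k₂⁆ ∈ Subgroup.normalizer (N : Set Y) := by
      rw [commutatorElement_def]
      exact Subgroup.mul_mem _ (Subgroup.mul_mem _ (Subgroup.mul_mem _ (hKnN hk₁) (hKnN hk₂))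
        (Subgroup.inv_mem _ (hKnN hk₁))) (Subgroup.inv_mem _ (hKnN hk₂))
    refine ⟨hn12, fun k' hk' => ?_⟩
    obtain ⟨j₁, hj₁, c₁, hc₁, rfl⟩ := exists_mul_of_mem_sup hNJ (hKP hk₁)
    obtain ⟨j₂, hj₂, c₂, hc₂, rfl⟩ := exists_mul_of_mem_sup hNJ (hKP hk₂)
    obtain ⟨j', hj', c', hc', rfl⟩ := exists_mul_of_mem_sup hNJ (hKP hk')
    obtain ⟨z₁, hz₁J, hz₁N, hz₁⟩ := hD2 j₁ hj₁ c₁ hc₁ hk₁
    obtain ⟨z₂, hz₂J, hz₂N, hz₂⟩ := hD2 j₂ hj₂ c₂ hc₂ hk₂
    have huJ : ⁅j₁, j₂⁆ ∈ J := by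
      rw [commutatorElement_def]
      exact J.mul_mem (J.mul_mem (J.mul_mem hj₁ hj₂) (J.inv_mem hj₁)) (J.inv_mem hj₂)
    have hvN : ⁅c₁, c₂⁆ ∈ N := by
      rw [commutatorElement_def]
      exact N.mul_mem (N.mul_mem (N.mul_mem hc₁ hc₂) (N.inv_mem hc₁)) (N.inv_mem hc₂)
    -- `u` is fixed by `a`
    have hufix : a * ⁅j₁, j₂⁆ * a⁻¹ = ⁅j₁, j₂⁆ := by
      have h1 : a * ⁅j₁, j₂⁆ * a⁻¹ = ⁅a * j₁ * a⁻¹, a * j₂ * a⁻¹⁆ := by
        simp only [commutatorElement_def]; group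
      have h2 : ⁅z₁, z₂⁆ = 1 := by
        rw [commutatorElement_eq_one_iff_mul_comm]
        exact Subgroup.mem_centralizer_iff.1 (hNJ hz₂N) z₁ hz₁J
      rw [h1, hz₁, hz₂, comm_mul_mul hNJ hj₁ hj₂ hz₁N hz₂N, h2, mul_one]
    -- `j'` commutes with `u`
    have h3 := hstar _ hk' _ huJ hufix
    have h4 : ⁅j₁, j₂⁆ * c' = c' * ⁅j₁, j₂⁆ := Subgroup.mem_centralizer_iff.1 (hNJ hc') _ huJ
    have h5 : ⁅⁅j₁, j₂⁆, j'⁆ = 1 := by
      rw [commutatorElement_eq_one_iff_mul_comm]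
      have h6 : j' * ⁅j₁, j₂⁆ * c' = ⁅j₁, j₂⁆ * j' * c' := by
        calc j' * ⁅j₁, j₂⁆ * c' = j' * (⁅j₁, j₂⁆ * c') := by group
          _ = j' * (c' * ⁅j₁, j₂⁆) := by rw [h4]
          _ = j' * c' * ⁅j₁, j₂⁆ := by group
          _ = ⁅j₁, j₂⁆ * (j' * c') := h3
          _ = ⁅j₁, j₂⁆ * j' * c' := by group
      exact (mul_right_cancel h6).symm
    rw [comm_mul_mul hNJ hj₁ hj₂ hc₁ hc₂, comm_mul_mul hNJ huJ hj' hvN hc', h5, one_mul]
    rw [commutatorElement_def]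
    exact N.mul_mem (N.mul_mem (N.mul_mem hvN hc') (N.inv_mem hvN)) (N.inv_mem hc')
  have h7 : ⁅K, K⁆ ≤ commInto N K := (Subgroup.commutator_le).2 key
  rw [hperf] at h7
  have h8 := comm_le_of_le_commInto h7
  rwa [hperf] at h8

/-- The pumping-up dichotomy. -/
theorem pumpup (a : Y) (ha : a * a = 1) (K : Subgroup Y)
    (hKa : K ≤ Subgroup.centralizer ({a} : Set Y))
    (hK : Cfsg.IsComponent (K.subgroupOf (Subgroup.centralizer ({a} : Set Y))))
    (hKE : K ≤ Cfsg.layer Y)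
    (hmax : ∀ J : Subgroup Y, Cfsg.IsComponent J → Nat.card ↥J ≤ Nat.card ↥K) :
    Cfsg.IsComponent K ∨
      ∃ J : Subgroup Y, Cfsg.IsComponent J ∧ cj a J ≠ J ∧ Nat.card ↥J = Nat.card ↥K ∧
        (∀ x ∈ J, x * (a * x * a⁻¹) ∈ K) ∧ (∀ k ∈ K, ∃ x ∈ J, k = x * (a * x * a⁻¹)) ∧
        (∀ x ∈ J, x * (a * x * a⁻¹) = 1 → x = 1) := by
  obtain ⟨C, hC⟩ : ∃ C : Subgroup Y, C = Subgroup.centralizer ({a} : Set Y) := ⟨_, rfl⟩
  rw [← hC] at hKa hK
  have hainv : a⁻¹ = a := inv_eq_self_of_mul_self ha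
  have hperf := rel_component_perfect hKa hK
  have hne := rel_component_ne_bot hK
  obtain ⟨J, hJ, hKJ⟩ := exists_component_not_centralized K hperf hne hKE
  have hJ₂ := Cfsg.Agent.Helper2.isComponent_cj hJ a
  have hJperf := Cfsg.Agent.Helper2.component_perfect hJ
  have hKnJ : K ≤ Subgroup.normalizer (J : Set Y) :=
    hKE.trans (Cfsg.Agent.Helper2.layer_le_normalizer_component hJ)
  have hKnJ₂ : K ≤ Subgroup.normalizer ((cj a J : Subgroup Y) : Set Y) :=
    hKE.trans (Cfsg.Agent.Helper2.layer_le_normalizer_component hJ₂)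
  have hfix : ∀ k ∈ K, a * k * a⁻¹ = k := by
    intro k hk
    have h1 := hKa hk
    rw [hC, Subgroup.mem_centralizer_singleton_iff] at h1
    calc a * k * a⁻¹ = (k * a) * a⁻¹ := by rw [h1]
      _ = k := by group
  have hmemC : ∀ m : Y, a * m * a⁻¹ = m → m ∈ C := by
    intro m hm
    rw [hC, Subgroup.mem_centralizer_singleton_iff]
    calc m * a = (a * m * a⁻¹) * a := by rw [hm]
      _ = a * m := by group
  have hEsub : (J ⊔ cj a J).IsSubnormal := by
    have hle : J ⊔ cj a J ≤ Cfsg.layer Y :=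
      sup_le (Cfsg.Agent.Helper2.component_le_layer hJ) (Cfsg.Agent.Helper2.component_le_layer hJ₂)
    have hn : ((J ⊔ cj a J).subgroupOf (Cfsg.layer Y)).Normal := by
      rw [Subgroup.normal_subgroupOf_iff_le_normalizer hle]
      exact le_trans (le_inf (Cfsg.Agent.Helper2.layer_le_normalizer_component hJ)
        (Cfsg.Agent.Helper2.layer_le_normalizer_component hJ₂)) (normalizer_sup_le _ _)
    exact Subgroup.IsSubnormal.trans hle hn.isSubnormal
      (Cfsg.Agent.Helper2.layer_normal (G := Y)).isSubnormal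
  rcases Cfsg.Agent.Helper2.component_le_or_commutator_eq_bot_of_isSubnormal _ _ hK
    (hEsub.subgroupOf (K := C)) with h | h
  · -- `K ≤ J ⊔ J^a`
    have hKle : K ≤ J ⊔ cj a J := fun k hk => by
      have := h (show (⟨k, hKa hk⟩ : ↥C) ∈ K.subgroupOf C from Subgroup.mem_subgroupOf.2 hk)
      exact Subgroup.mem_subgroupOf.1 this
    by_cases hJJ : cj a J = J
    · left
      rw [hJJ, sup_idem] at hKle
      have : K = J := Subgroup.eq_of_le_of_card_ge hKle (hmax J hJ)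
      rw [this]; exact hJ
    · right
      have hcomm : cj a J ≤ Subgroup.centralizer (J : Set Y) := by
        have := Cfsg.Agent.Helper2.components_commute hJ₂ hJ hJJ
        rwa [Subgroup.commutator_eq_bot_iff_le_centralizer] at this
      -- decomposition of the elements of `K`
      have hdec : ∀ k ∈ K, ∃ x ∈ J, ∃ z ∈ J, z ∈ cj a J ∧ k = (x * (a * x * a⁻¹)) * z := by
        intro k hk
        obtain ⟨j, hj, j₂, hj₂, rfl⟩ := exists_mul_of_mem_sup hcomm (hKle hk)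
        have h1 := hfix _ hk
        have hj' : a * j * a⁻¹ ∈ cj a J := conj_mem_cj' hj
        have hj₂' : a * j₂ * a⁻¹ ∈ J := by
          have := conj_mem_cj' (a := a) hj₂
          rwa [cj_cj_self ha] at this
        have hc1 : (a * j₂ * a⁻¹) * (a * j * a⁻¹) = (a * j * a⁻¹) * (a * j₂ * a⁻¹) :=
          Subgroup.mem_centralizer_iff.1 (hcomm hj') _ hj₂'
        have h2 : j⁻¹ * (a * j₂ * a⁻¹) = j₂ * (a * j * a⁻¹)⁻¹ := by
          calc j⁻¹ * (a * j₂ * a⁻¹)
              = j⁻¹ * ((a * j₂ * a⁻¹) * (a * j * a⁻¹)) * (a * j * a⁻¹)⁻¹ := by group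
            _ = j⁻¹ * ((a * j * a⁻¹) * (a * j₂ * a⁻¹)) * (a * j * a⁻¹)⁻¹ := by rw [hc1]
            _ = j⁻¹ * (a * (j * j₂) * a⁻¹) * (a * j * a⁻¹)⁻¹ := by group
            _ = j⁻¹ * (j * j₂) * (a * j * a⁻¹)⁻¹ := by rw [h1]
            _ = j₂ * (a * j * a⁻¹)⁻¹ := by group
        have hzJ : j⁻¹ * (a * j₂ * a⁻¹) ∈ J := J.mul_mem (J.inv_mem hj) hj₂'
        have hzJ₂ : j⁻¹ * (a * j₂ * a⁻¹) ∈ cj a J := by
          rw [h2]
          exact Subgroup.mul_mem _ hj₂ (Subgroup.inv_mem _ hj')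
        refine ⟨j, hj, j⁻¹ * (a * j₂ * a⁻¹), hzJ, hzJ₂, ?_⟩
        have hc2 : (j⁻¹ * (a * j₂ * a⁻¹)) * (a * j * a⁻¹) =
            (a * j * a⁻¹) * (j⁻¹ * (a * j₂ * a⁻¹)) :=
          Subgroup.mem_centralizer_iff.1 (hcomm hj') _ hzJ
        calc j * j₂ = j * ((j₂ * (a * j * a⁻¹)⁻¹) * (a * j * a⁻¹)) := by group
          _ = j * ((j⁻¹ * (a * j₂ * a⁻¹)) * (a * j * a⁻¹)) := by rw [h2]
          _ = j * ((a * j * a⁻¹) * (j⁻¹ * (a * j₂ * a⁻¹))) := by rw [hc2]
          _ = j * (a * j * a⁻¹) * (j⁻¹ * (a * j₂ * a⁻¹)) := by group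
      -- `K ≤ range δ`
      have hKrange : K ≤ (diagHom a J hcomm).range := by
        rw [← hperf, Subgroup.commutator_le]
        intro k₁ hk₁ k₂ hk₂
        obtain ⟨x₁, hx₁, z₁, hz₁J, hz₁J₂, rfl⟩ := hdec k₁ hk₁
        obtain ⟨x₂, hx₂, z₂, hz₂J, hz₂J₂, rfl⟩ := hdec k₂ hk₂
        have hzc : ∀ z ∈ J, z ∈ cj a J →
            z ∈ Subgroup.centralizer (((diagHom a J hcomm).range : Subgroup Y) : Set Y) := by
          intro z hzJ hzJ₂
          rw [Subgroup.mem_centralizer_iff]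
          rintro _ ⟨x, rfl⟩
          rw [diagHom_apply]
          have e1 : (x : Y) * z = z * (x : Y) :=
            Subgroup.mem_centralizer_iff.1 (hcomm hzJ₂) _ x.2
          have e2 : z * (a * (x : Y) * a⁻¹) = (a * (x : Y) * a⁻¹) * z :=
            Subgroup.mem_centralizer_iff.1 (hcomm (conj_mem_cj' x.2)) _ hzJ
          calc (x : Y) * (a * (x : Y) * a⁻¹) * z = (x : Y) * ((a * (x : Y) * a⁻¹) * z) := by group
            _ = (x : Y) * (z * (a * (x : Y) * a⁻¹)) := by rw [e2]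
            _ = ((x : Y) * z) * (a * (x : Y) * a⁻¹) := by group
            _ = (z * (x : Y)) * (a * (x : Y) * a⁻¹) := by rw [e1]
            _ = z * ((x : Y) * (a * (x : Y) * a⁻¹)) := by group
        have hm₁ : x₁ * (a * x₁ * a⁻¹) ∈ (diagHom a J hcomm).range := ⟨⟨x₁, hx₁⟩, rfl⟩
        have hm₂ : x₂ * (a * x₂ * a⁻¹) ∈ (diagHom a J hcomm).range := ⟨⟨x₂, hx₂⟩, rfl⟩
        have hzz : ⁅z₁, z₂⁆ = 1 := by
          rw [commutatorElement_eq_one_iff_mul_comm]
          exact Subgroup.mem_centralizer_iff.1 (hcomm hz₂J₂) _ hz₁J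
        rw [comm_mul_mul (le_refl _) hm₁ hm₂ (hzc z₁ hz₁J hz₁J₂) (hzc z₂ hz₂J hz₂J₂), hzz, mul_one]
        have h9 : ⁅x₁ * (a * x₁ * a⁻¹), x₂ * (a * x₂ * a⁻¹)⁆ =
            diagHom a J hcomm ⁅(⟨x₁, hx₁⟩ : ↥J), ⟨x₂, hx₂⟩⁆ :=
          (map_commutatorElement (diagHom a J hcomm) ⟨x₁, hx₁⟩ ⟨x₂, hx₂⟩).symm
        rw [h9]
        exact ⟨_, rfl⟩
      -- cardinalities
      have hc1 : Nat.card ↥K ≤ Nat.card ↥(diagHom a J hcomm).range :=
        Subgroup.card_le_of_le hKrange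
      have hc2 : Nat.card ↥(diagHom a J hcomm).range ≤ Nat.card ↥J :=
        Nat.card_le_card_of_surjective _ (diagHom a J hcomm).rangeRestrict_surjective
      have hc3 := hmax J hJ
      have hKeq : K = (diagHom a J hcomm).range :=
        Subgroup.eq_of_le_of_card_ge hKrange (hc2.trans hc3)
      have hcard : Nat.card ↥J = Nat.card ↥(diagHom a J hcomm).range :=
        le_antisymm (hc3.trans hc1) hc2
      have hinj : Function.Injective (diagHom a J hcomm).rangeRestrict :=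
        ((Nat.bijective_iff_surjective_and_card _).2
          ⟨(diagHom a J hcomm).rangeRestrict_surjective, hcard⟩).1
      refine ⟨J, hJ, hJJ, le_antisymm hc3 (hc1.trans hc2), ?_, ?_, ?_⟩
      · intro x hx
        rw [hKeq]
        exact ⟨⟨x, hx⟩, rfl⟩
      · intro k hk
        rw [hKeq] at hk
        obtain ⟨x, rfl⟩ := hk
        exact ⟨x, x.2, rfl⟩
      · intro x hx h1
        have h2 : (diagHom a J hcomm).rangeRestrict ⟨x, hx⟩ = (diagHom a J hcomm).rangeRestrict 1 := by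
          apply Subtype.ext
          rw [map_one]
          exact h1
        have := hinj h2
        exact congrArg Subtype.val this
  · -- exclusion of the second alternative
    exfalso
    apply hKJ
    have hstar : ∀ k ∈ K, ∀ m ∈ J ⊔ cj a J, a * m * a⁻¹ = m → k * m = m * k := by
      intro k hk m hm hma
      rw [Subgroup.commutator_eq_bot_iff_le_centralizer] at h
      have h1 := h (show (⟨k, hKa hk⟩ : ↥C) ∈ K.subgroupOf C from Subgroup.mem_subgroupOf.2 hk)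
      rw [Subgroup.mem_centralizer_iff] at h1
      have h2 := h1 ⟨m, hmemC m hma⟩ (Subgroup.mem_subgroupOf.2 hm)
      exact (congrArg Subtype.val h2).symm
    by_cases hJJ : cj a J = J
    · have haJ : a ∈ Subgroup.normalizer (J : Set Y) :=
        (Cfsg.Agent.Helper2.mem_normalizer_iff_cj J a).2 hJJ
      exact le_centralizer_caseA a K J hJ hperf hKE hfix haJ
        (fun k hk m hm hma => hstar k hk m (Subgroup.mem_sup_left hm) hma)
    · have hcomm : cj a J ≤ Subgroup.centralizer (J : Set Y) := by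
        have := Cfsg.Agent.Helper2.components_commute hJ₂ hJ hJJ
        rwa [Subgroup.commutator_eq_bot_iff_le_centralizer] at this
      intro k hk
      apply mem_centralizer_of_commute_diag hJperf hcomm (hKnJ hk) (hKnJ₂ hk)
      intro x hx
      have hx' : a * x * a⁻¹ ∈ cj a J := conj_mem_cj' hx
      apply hstar k hk _ (Subgroup.mul_mem _ (Subgroup.mem_sup_left hx) (Subgroup.mem_sup_right hx'))
      have e1 : x * (a * x * a⁻¹) = (a * x * a⁻¹) * x :=
        Subgroup.mem_centralizer_iff.1 (hcomm hx') x hx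
      calc a * (x * (a * x * a⁻¹)) * a⁻¹ = (a * x * a⁻¹) * ((a * a) * x * (a * a)⁻¹) := by group
        _ = (a * x * a⁻¹) * x := by rw [ha]; group
        _ = x * (a * x * a⁻¹) := e1.symm

end fin

end Cfsg.Agent.Helper4.Asch
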