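import Mathlib
import Cfsg.Agent.Helper4.AschB
import Cfsg.Prelude.Def_Transfer

set_option autoImplicit false

/-!
S1305, part C: in the diagonal case the centralizer of the component `J^a` contains an
elementary abelian 2-subgroup of order larger than `|B|`.
-/

namespace Cfsg.Agent.Helper4.Asch

open scoped commutatorElement
open Cfsg.Agent.Helper2 (cj IsPElt opp)
open Cfsg.Agent.Helper4.GLP

universe u

section fin

variable {Y : Type u} [Group Y] [Finite Y]

theorem elemAb_comm {B : Subgroup Y} (hB : Cfsg.IsElementaryAbelian 2 B) {x y : Y} (hx : x ∈ B)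
    (hy : y ∈ B) : x * y = y * x := by
  haveI := hB.1
  have := mul_comm' (⟨x, hx⟩ : ↥B) ⟨y, hy⟩
  exact congrArg Subtype.val this

theorem isElementaryAbelian_of {W : Subgroup Y} (h1 : ∀ x ∈ W, ∀ y ∈ W, x * y = y * x)
    (h2 : ∀ x ∈ W, x ^ 2 = 1) : Cfsg.IsElementaryAbelian 2 W :=
  ⟨isMulCommutative_iff.2 (fun x y => Subtype.ext (h1 x x.2 y y.2)), h2⟩

/-- Part (i): an element of `B` maps `J` to `J` or to `J^a`. -/
theorem cj_eq_or_eq (a : Y) (ha : a * a = 1) (J K : Subgroup Y) (hJ : Cfsg.IsComponent J)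
    (hne : cj a J ≠ J)
    (hK1 : ∀ x ∈ J, x * (a * x * a⁻¹) ∈ K)
    {β : Y} (hβa : β * a = a * β) (hβK : β ∈ Subgroup.centralizer (K : Set Y)) :
    cj β J = J ∨ cj β J = cj a J := by
  by_contra hcon
  push Not at hcon
  obtain ⟨h1, h2⟩ := hcon
  have hJ₂ := Cfsg.Agent.Helper2.isComponent_cj hJ a
  have hM := Cfsg.Agent.Helper2.isComponent_cj hJ β
  have hM₂ := Cfsg.Agent.Helper2.isComponent_cj hJ₂ β
  have hJperf := Cfsg.Agent.Helper2.component_perfect hJ
  have hJne := Cfsg.Agent.Helper2.component_ne_bot hJ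
  have hM₂eq : cj β (cj a J) = cj a (cj β J) := by
    rw [Cfsg.Agent.Helper2.cj_cj, Cfsg.Agent.Helper2.cj_cj, hβa]
  have hM₂1 : cj β (cj a J) ≠ J := by
    intro h
    apply h2
    rw [hM₂eq] at h
    have := congrArg (cj a) h
    rwa [cj_cj_self ha] at this
  have c1 : cj β J ≤ Subgroup.centralizer (J : Set Y) := by
    have := Cfsg.Agent.Helper2.components_commute hM hJ h1
    rwa [Subgroup.commutator_eq_bot_iff_le_centralizer] at this
  have c2 : cj β (cj a J) ≤ Subgroup.centralizer (J : Set Y) := by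
    have := Cfsg.Agent.Helper2.components_commute hM₂ hJ hM₂1
    rwa [Subgroup.commutator_eq_bot_iff_le_centralizer] at this
  have c3 : cj a J ≤ Subgroup.centralizer (J : Set Y) := by
    have := Cfsg.Agent.Helper2.components_commute hJ₂ hJ hne
    rwa [Subgroup.commutator_eq_bot_iff_le_centralizer] at this
  apply not_le_centralizer_self hJperf hJne
  intro x hx
  have hδ : x * (a * x * a⁻¹) ∈ Subgroup.centralizer (J : Set Y) := by
    have h3 : β * (x * (a * x * a⁻¹)) * β⁻¹ = x * (a * x * a⁻¹) := by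
      have := Subgroup.mem_centralizer_iff.1 hβK _ (hK1 x hx)
      rw [← this]; group
    rw [← h3]
    have h4 : β * (x * (a * x * a⁻¹)) * β⁻¹ = (β * x * β⁻¹) * (β * (a * x * a⁻¹) * β⁻¹) := by group
    rw [h4]
    exact Subgroup.mul_mem _ (c1 (conj_mem_cj' hx)) (c2 (conj_mem_cj' (conj_mem_cj' hx)))
  have h5 : x = (x * (a * x * a⁻¹)) * (a * x * a⁻¹)⁻¹ := by group
  rw [h5]
  exact Subgroup.mul_mem _ hδ (Subgroup.inv_mem _ (c3 (conj_mem_cj' hx)))

/-- Index at most two, in cardinality form. -/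
theorem card_le_two_mul_of_coset {B B₁ : Subgroup Y} {β₀ : Y}
    (h : ∀ β ∈ B, β ∈ B₁ ∨ β₀⁻¹ * β ∈ B₁) : Nat.card ↥B ≤ 2 * Nat.card ↥B₁ := by
  have h1 : (B : Set Y) ⊆ (B₁ : Set Y) ∪ (fun x => β₀ * x) '' (B₁ : Set Y) := by
    intro β hβ
    rcases h β hβ with h2 | h2
    · exact Or.inl h2
    · exact Or.inr ⟨β₀⁻¹ * β, h2, by group⟩
  have e1 : Nat.card ↥B = Set.ncard (B : Set Y) := rfl
  have e2 : Nat.card ↥B₁ = Set.ncard (B₁ : Set Y) := rfl
  rw [e1, e2]
  calc Set.ncard (B : Set Y) ≤ Set.ncard ((B₁ : Set Y) ∪ (fun x => β₀ * x) '' (B₁ : Set Y)) :=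
        Set.ncard_le_ncard h1 (Set.toFinite _)
    _ ≤ Set.ncard (B₁ : Set Y) + Set.ncard ((fun x => β₀ * x) '' (B₁ : Set Y)) :=
        Set.ncard_union_le _ _
    _ ≤ Set.ncard (B₁ : Set Y) + Set.ncard (B₁ : Set Y) :=
        Nat.add_le_add_left (Set.ncard_image_le (Set.toFinite _)) _
    _ = 2 * Set.ncard (B₁ : Set Y) := by ring

/-- The diagonal case: a large elementary abelian 2-subgroup of `C(J^a)`. -/
theorem diag_rank (a : Y) (ha : a * a = 1) (J K : Subgroup Y) (hJ : Cfsg.IsComponent J)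
    (hne : cj a J ≠ J)
    (hK1 : ∀ x ∈ J, x * (a * x * a⁻¹) ∈ K) (hK2 : ∀ k ∈ K, ∃ x ∈ J, k = x * (a * x * a⁻¹))
    (hinj : ∀ x ∈ J, x * (a * x * a⁻¹) = 1 → x = 1)
    (B : Subgroup Y) (hBel : Cfsg.IsElementaryAbelian 2 B)
    (hBa : B ≤ Subgroup.centralizer ({a} : Set Y)) (hBK : B ≤ Subgroup.centralizer (K : Set Y))
    (A : Subgroup Y) (hA : A ≤ K) (hAel : Cfsg.IsElementaryAbelian 2 A)
    (hAcard : 2 < Nat.card ↥A) :
    ∃ W : Subgroup Y, Cfsg.IsElementaryAbelian 2 W ∧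
      W ≤ Subgroup.centralizer ((cj a J : Subgroup Y) : Set Y) ∧ Nat.card ↥B < Nat.card ↥W := by
  have hJ₂ := Cfsg.Agent.Helper2.isComponent_cj hJ a
  have hJperf := Cfsg.Agent.Helper2.component_perfect hJ
  have hcomm : cj a J ≤ Subgroup.centralizer (J : Set Y) := by
    have := Cfsg.Agent.Helper2.components_commute hJ₂ hJ hne
    rwa [Subgroup.commutator_eq_bot_iff_le_centralizer] at this
  have hcomm' : J ≤ Subgroup.centralizer ((cj a J : Subgroup Y) : Set Y) :=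
    Subgroup.le_centralizer_iff.1 hcomm
  have hBcomm : ∀ β ∈ B, β * a = a * β := fun β hβ =>
    Subgroup.mem_centralizer_singleton_iff.1 (hBa hβ)
  have hBfix : ∀ β ∈ B, a * β * a⁻¹ = β := fun β hβ => by
    rw [← hBcomm β hβ]; group
  -- the diagonal map
  obtain ⟨δ, hδ⟩ : ∃ δ : ↥J →* Y, δ = diagHom a J hcomm := ⟨_, rfl⟩
  have hδa : ∀ x : ↥J, δ x = (x : Y) * (a * (x : Y) * a⁻¹) := fun x => by rw [hδ]; rfl
  have hδinj : Function.Injective δ := by
    rw [injective_iff_map_eq_one]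
    intro x hx
    rw [hδa] at hx
    exact Subtype.ext (hinj x x.2 hx)
  have hrange : A ≤ δ.range := by
    intro k hk
    obtain ⟨x, hx, rfl⟩ := hK2 k (hA hk)
    exact ⟨⟨x, hx⟩, hδa _⟩
  -- `B₁`
  obtain ⟨B₁, hB₁⟩ : ∃ B₁ : Subgroup Y, B₁ = B ⊓ Subgroup.normalizer (J : Set Y) := ⟨_, rfl⟩
  have hB₁B : B₁ ≤ B := hB₁ ▸ inf_le_left
  have hB₁N : B₁ ≤ Subgroup.normalizer (J : Set Y) := hB₁ ▸ inf_le_right
  have hdich : ∀ β ∈ B, cj β J = J ∨ cj β J = cj a J := fun β hβ =>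
    cj_eq_or_eq a ha J K hJ hne hK1 (hBcomm β hβ) (hBK hβ)
  have hBcard : Nat.card ↥B ≤ 2 * Nat.card ↥B₁ := by
    by_cases hall : B ≤ Subgroup.normalizer (J : Set Y)
    · have : B₁ = B := by rw [hB₁]; exact inf_eq_left.2 hall
      rw [this]; omega
    · obtain ⟨β₀, hβ₀B, hβ₀N⟩ := SetLike.not_le_iff_exists.1 hall
      have h0 : cj β₀ J = cj a J := by
        rcases hdich β₀ hβ₀B with h | h
        · exact absurd ((Cfsg.Agent.Helper2.mem_normalizer_iff_cj J β₀).2 h) hβ₀N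
        · exact h
      apply card_le_two_mul_of_coset (β₀ := β₀)
      intro β hβ
      rcases hdich β hβ with h | h
      · left
        rw [hB₁]
        exact Subgroup.mem_inf.2 ⟨hβ, (Cfsg.Agent.Helper2.mem_normalizer_iff_cj J β).2 h⟩
      · right
        rw [hB₁]
        refine Subgroup.mem_inf.2 ⟨B.mul_mem (B.inv_mem hβ₀B) hβ, ?_⟩
        rw [Cfsg.Agent.Helper2.mem_normalizer_iff_cj, ← Cfsg.Agent.Helper2.cj_cj, h, ← h0,
          Cfsg.Agent.Helper2.cj_cj, inv_mul_cancel, Cfsg.Agent.Helper2.cj_one]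
  -- `B₁` centralizes `J` and `J^a`
  have hB₁J : B₁ ≤ Subgroup.centralizer (J : Set Y) := by
    intro β hβ
    have hβB := hB₁B hβ
    have hβJ₂ : β ∈ Subgroup.normalizer ((cj a J : Subgroup Y) : Set Y) := by
      rw [Cfsg.Agent.Helper2.mem_normalizer_iff_cj, Cfsg.Agent.Helper2.cj_cj, hBcomm β hβB,
        ← Cfsg.Agent.Helper2.cj_cj, (Cfsg.Agent.Helper2.mem_normalizer_iff_cj J β).1 (hB₁N hβ)]
    apply mem_centralizer_of_commute_diag hJperf hcomm (hB₁N hβ) hβJ₂
    intro x hx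
    exact (Subgroup.mem_centralizer_iff.1 (hBK hβB) _ (hK1 x hx)).symm
  have hB₁J₂ : B₁ ≤ Subgroup.centralizer ((cj a J : Subgroup Y) : Set Y) := by
    intro β hβ
    rw [Subgroup.mem_centralizer_iff]
    intro y hy
    have hy' := (Cfsg.Agent.Helper2.mem_cj_iff J a y).1 hy
    have h1 := Subgroup.mem_centralizer_iff.1 (hB₁J hβ) _ hy'
    have h2 := hBcomm β (hB₁B hβ)
    have h3 : β * a⁻¹ = a⁻¹ * β := by
      calc β * a⁻¹ = a⁻¹ * (a * β) * a⁻¹ := by group
        _ = a⁻¹ * (β * a) * a⁻¹ := by rw [h2]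
        _ = a⁻¹ * β := by group
    calc y * β = a * (a⁻¹ * y * a) * a⁻¹ * β := by group
      _ = a * (a⁻¹ * y * a) * (a⁻¹ * β) := by group
      _ = a * (a⁻¹ * y * a) * (β * a⁻¹) := by rw [h3]
      _ = a * ((a⁻¹ * y * a) * β) * a⁻¹ := by group
      _ = a * (β * (a⁻¹ * y * a)) * a⁻¹ := by rw [h1]
      _ = (a * β) * (a⁻¹ * y * a) * a⁻¹ := by group
      _ = (β * a) * (a⁻¹ * y * a) * a⁻¹ := by rw [h2]
      _ = β * y := by group
  -- `B₁ ⊓ J = ⊥`
  have hB₁Jbot : ∀ β ∈ B₁, β ∈ J → β = 1 := by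
    intro β hβ hβJ
    apply hinj β hβJ
    rw [hBfix β (hB₁B hβ), ← pow_two]
    exact hBel.2 β (hB₁B hβ)
  -- `V'`
  obtain ⟨V, hV⟩ : ∃ V : Subgroup Y, V = (A.comap δ).map J.subtype := ⟨_, rfl⟩
  have hVJ : V ≤ J := by rw [hV]; exact Subgroup.map_subtype_le _
  have hVmem : ∀ v ∈ V, ∃ x : ↥J, (x : Y) = v ∧ δ x ∈ A := by
    intro v hv
    rw [hV] at hv
    obtain ⟨x, hx, rfl⟩ := hv
    exact ⟨x, rfl, hx⟩
  have hVcard : Nat.card ↥V = Nat.card ↥A := by
    rw [hV, Subgroup.card_map_of_injective J.subtype_injective]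
    have h1 : (A.comap δ).map δ = A := Subgroup.map_comap_eq_self hrange
    conv_rhs => rw [← h1]
    rw [Subgroup.card_map_of_injective hδinj]
  have hV2 : ∀ v ∈ V, v ^ 2 = 1 := by
    intro v hv
    obtain ⟨x, rfl, hx⟩ := hVmem v hv
    have h1 : δ (x ^ 2) = 1 := by rw [map_pow]; exact hAel.2 _ hx
    have h2 : x ^ 2 = 1 := hδinj (by rw [h1, map_one])
    have := congrArg Subtype.val h2
    simpa using this
  have hVcomm : ∀ v ∈ V, ∀ v' ∈ V, v * v' = v' * v := by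
    intro v hv v' hv'
    obtain ⟨x, rfl, hx⟩ := hVmem v hv
    obtain ⟨x', rfl, hx'⟩ := hVmem v' hv'
    have h1 : δ (x * x') = δ (x' * x) := by
      rw [map_mul, map_mul]; exact elemAb_comm hAel hx hx'
    have := congrArg Subtype.val (hδinj h1)
    simpa using this
  have hBV : ∀ β ∈ B₁, ∀ v ∈ V, v * β = β * v := fun β hβ v hv =>
    Subgroup.mem_centralizer_iff.1 (hB₁J hβ) v (hVJ hv)
  have hVcent : V ≤ Subgroup.centralizer (B₁ : Set Y) := by
    intro v hv
    rw [Subgroup.mem_centralizer_iff]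
    intro β hβ
    exact (hBV β hβ v hv).symm
  -- `W`
  refine ⟨B₁ ⊔ V, ?_, sup_le hB₁J₂ (hVJ.trans hcomm'), ?_⟩
  · apply isElementaryAbelian_of
    · intro w hw w' hw'
      obtain ⟨β, hβ, v, hv, rfl⟩ := exists_mul_of_mem_sup hVcent hw
      obtain ⟨β', hβ', v', hv', rfl⟩ := exists_mul_of_mem_sup hVcent hw'
      have e1 := hBV β' hβ' v hv
      have e2 := hBV β hβ v' hv'
      have e3 := elemAb_comm hBel (hB₁B hβ) (hB₁B hβ')
      have e4 := hVcomm v hv v' hv'
      calc β * v * (β' * v') = β * (v * β') * v' := by group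
        _ = β * (β' * v) * v' := by rw [e1]
        _ = (β * β') * (v * v') := by group
        _ = (β' * β) * (v' * v) := by rw [e3, e4]
        _ = β' * (β * v') * v := by group
        _ = β' * (v' * β) * v := by rw [e2]
        _ = β' * v' * (β * v) := by group
    · intro w hw
      obtain ⟨β, hβ, v, hv, rfl⟩ := exists_mul_of_mem_sup hVcent hw
      have e1 := hBV β hβ v hv
      have e2 : β ^ 2 = 1 := hBel.2 β (hB₁B hβ)
      have e3 := hV2 v hv
      calc (β * v) ^ 2 = β * (v * β) * v := by rw [pow_two]; group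
        _ = β * (β * v) * v := by rw [e1]
        _ = β ^ 2 * v ^ 2 := by rw [pow_two, pow_two]; group
        _ = 1 := by rw [e2, e3, one_mul]
  · -- cardinality
    have hinjμ : Function.Injective (mulHom B₁ V hVcent) := by
      unfold mulHom
      rw [MonoidHom.noncommCoprod_injective]
      refine ⟨B₁.subtype_injective, V.subtype_injective, ?_⟩
      rw [Subgroup.range_subtype, Subgroup.range_subtype, disjoint_iff, eq_bot_iff]
      rintro β ⟨hβ, hβV⟩
      rw [Subgroup.mem_bot]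
      exact hB₁Jbot β hβ (hVJ hβV)
    have hrangeμ : (mulHom B₁ V hVcent).range = B₁ ⊔ V := by
      unfold mulHom
      rw [MonoidHom.noncommCoprod_range, Subgroup.range_subtype, Subgroup.range_subtype]
    have hcardW : Nat.card ↥(B₁ ⊔ V) = Nat.card ↥B₁ * Nat.card ↥V := by
      rw [← hrangeμ, ← Nat.card_prod]
      exact (Nat.card_congr (MonoidHom.ofInjective hinjμ).toEquiv).symm
    rw [hcardW, hVcard]
    have hpos : 0 < Nat.card ↥B₁ := Nat.card_pos
    calc Nat.card ↥B ≤ 2 * Nat.card ↥B₁ := hBcard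
      _ < Nat.card ↥B₁ * Nat.card ↥A := by nlinarith

end fin

end Cfsg.Agent.Helper4.Asch
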