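import Mathlib
import Cfsg.Prelude.Def_GeometricClasses
import Cfsg.Agent.Lead.AschBase
import Cfsg.Agent.Helper9.AschCompK
import Cfsg.Agent.Helper4.AschPPC

/-!
# ASCH-COMP: the `n = 12` glue (helper4)

* `not_perfect_power_12`, `not_prime_power_12`;
* `perfect_case_12` : the perfect case in dimension 12 (field `perfect` of helper6's `Pieces 12 F`);
* `final12_of_generic` : from the conclusion of helper6's generic `asch_comp` at `n = 12` to the disjunction of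
  statement S5862.
-/

set_option autoImplicit false
set_option linter.style.haveILetI false
set_option linter.unusedVariables false

namespace Cfsg.Agent.Helper4.AschP

open Cfsg Cfsg.Geo Cfsg.Agent.Lead.Asch
open scoped MatrixGroups Matrix Kronecker

theorem not_perfect_power_12 : ¬ ∃ d k : ℕ, 2 ≤ d ∧ 2 ≤ k ∧ 12 = d ^ k := by
  rintro ⟨d, k, hd, hk, h⟩
  have hk4 : k < 4 := by
    by_contra hcon
    push Not at hcon
    have : 2 ^ 4 ≤ d ^ k := le_trans (Nat.pow_le_pow_left hd 4) (Nat.pow_le_pow_right (by omega) hcon)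
    omega
  have hd4 : d < 4 := by
    by_contra hcon
    push Not at hcon
    have : 4 ^ 2 ≤ d ^ k := le_trans (Nat.pow_le_pow_left hcon 2) (Nat.pow_le_pow_right (by omega) hk)
    omega
  interval_cases d <;> interval_cases k <;> omega

theorem not_prime_power_12 : ¬ ∃ r k : ℕ, r.Prime ∧ 12 = r ^ k := by
  rintro ⟨r, k, hr, h12⟩
  have h2 : (2 : ℕ) ∣ r ^ k := by rw [← h12]; norm_num
  have h3 : (3 : ℕ) ∣ r ^ k := by rw [← h12]; norm_num
  have h2' := (Nat.prime_dvd_prime_iff_eq Nat.prime_two hr).1 (Nat.Prime.dvd_of_dvd_pow Nat.prime_two h2)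
  have h3' := (Nat.prime_dvd_prime_iff_eq Nat.prime_three hr).1 (Nat.Prime.dvd_of_dvd_pow Nat.prime_three h3)
  omega

/-- the perfect case in dimension 12 -/
theorem perfect_case_12 {F : Type*} [Field F] [Fintype F] {H N : Subgroup (GL (Fin 12) F)}
    (hNH : N ≤ H) (hnz : Nzes H N) (hns : ¬ N ≤ scalars (Fin 12) F)
    (hall : ∀ M : Subgroup (GL (Fin 12) F), M ≤ H → Nzes H M →
      M ≤ scalars (Fin 12) F ∨ ActsAbsolutelyIrreducibly (matrixSet M))
    (hmin : ∀ M : Subgroup (GL (Fin 12) F), M ≤ N → Nzes H M → ¬ M ≤ scalars (Fin 12) F → M = N)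
    (hperf : ⁅N, N⁆ = N) :
    IsSimpleGroup (N ⧸ (scalars (Fin 12) F).subgroupOf N) ∧
    ¬ IsMulCommutative (N ⧸ (scalars (Fin 12) F).subgroupOf N) ∧
    (∀ h ∈ H, (∀ x ∈ N, h * x * h⁻¹ * x⁻¹ ∈ scalars (Fin 12) F) → h ∈ scalars (Fin 12) F) :=
  perfect_case_pp (by norm_num) not_perfect_power_12 hNH hnz hns hall hmin hperf

/-- from the generic conclusion of `asch_comp` (helper6) at `n = 12` to the list of S5862 -/
theorem final12_of_generic {F : Type*} [Field F] [Fintype F] (H : Subgroup (Matrix.GeneralLinearGroup (Fin 12) F))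
    (h : (∃ W : Submodule F (Fin 12 → F), W ≠ ⊥ ∧ W ≠ ⊤ ∧
        H = subspaceStabilizer W ⊓ specialLinear (Fin 12) F) ∨
    (∃ (t m : ℕ) (D : Fin t → Submodule F (Fin 12 → F)), IsMDecomposition m D ∧ t * m = 12 ∧
      ¬ (m = 1 ∧ Fintype.card F ≤ 4) ∧ ¬ (m = 2 ∧ Fintype.card F = 2) ∧
      H = decompositionStabilizer D ⊓ specialLinear (Fin 12) F) ∨
    (∃ (r : ℕ) (K : Subalgebra F (Matrix (Fin 12) (Fin 12) F)), r.Prime ∧ r ∣ 12 ∧ IsFieldSubalgebra r K ∧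
      H = subalgebraNormalizer K ⊓ specialLinear (Fin 12) F) ∨
    (∃ (n₁ n₂ : ℕ) (e : Fin 12 ≃ Fin n₁ × Fin n₂) (P : GL (Fin 12) F), 2 ≤ n₁ ∧ 2 ≤ n₂ ∧
      ¬ ((n₁ = 2 ∨ n₂ = 2) ∧ Fintype.card F = 2) ∧
      H = tensorProductSubgroup n₁ n₂ e P ⊓ specialLinear (Fin 12) F) ∨
    (∃ (F₀ : Subfield F) (r : ℕ) (P : GL (Fin 12) F), r.Prime ∧ Fintype.card F = Nat.card F₀ ^ r ∧
      H = subfieldSubgroup F₀ P ⊓ specialLinear (Fin 12) F) ∨
    (Odd (Fintype.card F) ∧ ∃ Q : (Fin 12 → F) → F, IsNondegenerateQuadraticForm Q ∧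
      H = quadSimilarityGroup Q ⊓ specialLinear (Fin 12) F) ∨
    (∃ f : (Fin 12 → F) → (Fin 12 → F) → F, IsSymplecticForm f ∧
      H = similarityGroup f ⊓ specialLinear (Fin 12) F) ∨
    (∃ (σ : F ≃+* F) (f : (Fin 12 → F) → (Fin 12 → F) → F), IsUnitaryForm σ f ∧
      H = similarityGroup f ⊓ specialLinear (Fin 12) F) ∨
    InLinearResidualClass H) :
    (∃ W : Submodule F (Fin 12 → F), W ≠ ⊥ ∧ W ≠ ⊤ ∧ H = Cfsg.Geo.subspaceStabilizer W ⊓ Cfsg.Geo.specialLinear (Fin 12) F) ∨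
    (5 ≤ Fintype.card F ∧ ∃ D : Fin 12 → Submodule F (Fin 12 → F), Cfsg.Geo.IsMDecomposition 1 D ∧ H = Cfsg.Geo.decompositionStabilizer D ⊓ Cfsg.Geo.specialLinear (Fin 12) F) ∨
    (3 ≤ Fintype.card F ∧ ∃ D : Fin 6 → Submodule F (Fin 12 → F), Cfsg.Geo.IsMDecomposition 2 D ∧ H = Cfsg.Geo.decompositionStabilizer D ⊓ Cfsg.Geo.specialLinear (Fin 12) F) ∨
    (∃ D : Fin 4 → Submodule F (Fin 12 → F), Cfsg.Geo.IsMDecomposition 3 D ∧ H = Cfsg.Geo.decompositionStabilizer D ⊓ Cfsg.Geo.specialLinear (Fin 12) F) ∨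
    (∃ D : Fin 3 → Submodule F (Fin 12 → F), Cfsg.Geo.IsMDecomposition 4 D ∧ H = Cfsg.Geo.decompositionStabilizer D ⊓ Cfsg.Geo.specialLinear (Fin 12) F) ∨
    (∃ D : Fin 2 → Submodule F (Fin 12 → F), Cfsg.Geo.IsMDecomposition 6 D ∧ H = Cfsg.Geo.decompositionStabilizer D ⊓ Cfsg.Geo.specialLinear (Fin 12) F) ∨
    (∃ K : Subalgebra F (Matrix (Fin 12) (Fin 12) F), Cfsg.Geo.IsFieldSubalgebra 2 K ∧ H = Cfsg.Geo.subalgebraNormalizer K ⊓ Cfsg.Geo.specialLinear (Fin 12) F) ∨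
    (∃ K : Subalgebra F (Matrix (Fin 12) (Fin 12) F), Cfsg.Geo.IsFieldSubalgebra 3 K ∧ H = Cfsg.Geo.subalgebraNormalizer K ⊓ Cfsg.Geo.specialLinear (Fin 12) F) ∨
    (3 ≤ Fintype.card F ∧ ∃ (e : Fin 12 ≃ Fin 2 × Fin 6) (P : Matrix.GeneralLinearGroup (Fin 12) F), H = Cfsg.Geo.tensorProductSubgroup 2 6 e P ⊓ Cfsg.Geo.specialLinear (Fin 12) F) ∨
    (∃ (e : Fin 12 ≃ Fin 3 × Fin 4) (P : Matrix.GeneralLinearGroup (Fin 12) F), H = Cfsg.Geo.tensorProductSubgroup 3 4 e P ⊓ Cfsg.Geo.specialLinear (Fin 12) F) ∨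
    (∃ (F₀ : Subfield F) (r : ℕ) (P : Matrix.GeneralLinearGroup (Fin 12) F), r.Prime ∧ Fintype.card F = Nat.card F₀ ^ r ∧ H = Cfsg.Geo.subfieldSubgroup F₀ P ⊓ Cfsg.Geo.specialLinear (Fin 12) F) ∨
    (Odd (Fintype.card F) ∧ ∃ Q : (Fin 12 → F) → F, Cfsg.Geo.IsNondegenerateQuadraticForm Q ∧ H = Cfsg.Geo.quadSimilarityGroup Q ⊓ Cfsg.Geo.specialLinear (Fin 12) F) ∨
    (∃ f : (Fin 12 → F) → (Fin 12 → F) → F, Cfsg.Geo.IsSymplecticForm f ∧ H = Cfsg.Geo.similarityGroup f ⊓ Cfsg.Geo.specialLinear (Fin 12) F) ∨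
    (∃ (σ : F ≃+* F) (f : (Fin 12 → F) → (Fin 12 → F) → F), Cfsg.Geo.IsUnitaryForm σ f ∧ H = Cfsg.Geo.similarityGroup f ⊓ Cfsg.Geo.specialLinear (Fin 12) F) ∨
    Cfsg.Geo.InLinearResidualClass H := by
  have hq2 : 2 ≤ Fintype.card F := Fintype.one_lt_card
  rcases h with h | h | h | h | h | h | h | h | h
  · exact Or.inl h
  · obtain ⟨t, m, D, hD, htm, h1, h2, hHD⟩ := h
    have ht2 := hD.two_le
    have hm := hD.pos
    have ht12 : t ≤ 12 := by nlinarith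
    interval_cases t
    · -- t = 2
      have hm6 : m = 6 := by omega
      subst hm6
      exact Or.inr (Or.inr (Or.inr (Or.inr (Or.inr (Or.inl ⟨D, hD, hHD⟩)))))
    · -- t = 3
      have hm4 : m = 4 := by omega
      subst hm4
      exact Or.inr (Or.inr (Or.inr (Or.inr (Or.inl ⟨D, hD, hHD⟩))))
    · -- t = 4
      have hm3 : m = 3 := by omega
      subst hm3
      exact Or.inr (Or.inr (Or.inr (Or.inl ⟨D, hD, hHD⟩)))
    · exfalso; omega
    · -- t = 6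
      have hm2 : m = 2 := by omega
      subst hm2
      refine Or.inr (Or.inr (Or.inl ⟨?_, D, hD, hHD⟩))
      by_contra hlt
      exact h2 ⟨rfl, by omega⟩
    · exfalso; omega
    · exfalso; omega
    · exfalso; omega
    · exfalso; omega
    · exfalso; omega
    · -- t = 12
      have hm1 : m = 1 := by omega
      subst hm1
      refine Or.inr (Or.inl ⟨?_, D, hD, hHD⟩)
      by_contra hlt
      exact h1 ⟨rfl, by omega⟩
  · obtain ⟨r, K, hr, hrn, hK, hHK⟩ := h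
    have hr12 : r ≤ 12 := Nat.le_of_dvd (by norm_num) hrn
    have hr2 := hr.two_le
    interval_cases r
    · exact Or.inr (Or.inr (Or.inr (Or.inr (Or.inr (Or.inr (Or.inl ⟨K, hK, hHK⟩))))))
    · exact Or.inr (Or.inr (Or.inr (Or.inr (Or.inr (Or.inr (Or.inr (Or.inl ⟨K, hK, hHK⟩)))))))
    · exact absurd hr (by norm_num)
    · exact absurd hrn (by norm_num)
    · exact absurd hr (by norm_num)
    · exact absurd hrn (by norm_num)
    · exact absurd hr (by norm_num)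
    · exact absurd hr (by norm_num)
    · exact absurd hr (by norm_num)
    · exact absurd hrn (by norm_num)
    · exact absurd hr (by norm_num)
  · obtain ⟨n₁, n₂, e, P, h1, h2, hq, hHT⟩ := h
    have hcard : 12 = n₁ * n₂ := by
      have := Fintype.card_congr e
      simpa using this
    have hn1 : n₁ ≤ 6 := by nlinarith
    interval_cases n₁
    · -- 2 ⊗ 6
      have : n₂ = 6 := by omega
      subst this
      refine Or.inr (Or.inr (Or.inr (Or.inr (Or.inr (Or.inr (Or.inr (Or.inr (Or.inl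
        ⟨?_, e, P, hHT⟩))))))))
      by_contra hlt
      exact hq ⟨Or.inl rfl, by omega⟩
    · -- 3 ⊗ 4
      have : n₂ = 4 := by omega
      subst this
      exact Or.inr (Or.inr (Or.inr (Or.inr (Or.inr (Or.inr (Or.inr (Or.inr (Or.inr (Or.inl
        ⟨e, P, hHT⟩)))))))))
    · -- 4 ⊗ 3
      have : n₂ = 3 := by omega
      subst this
      rw [Cfsg.Agent.Helper9.AschCompK.tensorProductSubgroup_swap] at hHT
      exact Or.inr (Or.inr (Or.inr (Or.inr (Or.inr (Or.inr (Or.inr (Or.inr (Or.inr (Or.inl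
        ⟨_, P, hHT⟩)))))))))
    · exfalso; omega
    · -- 6 ⊗ 2
      have : n₂ = 2 := by omega
      subst this
      rw [Cfsg.Agent.Helper9.AschCompK.tensorProductSubgroup_swap] at hHT
      refine Or.inr (Or.inr (Or.inr (Or.inr (Or.inr (Or.inr (Or.inr (Or.inr (Or.inl
        ⟨?_, _, P, hHT⟩))))))))
      by_contra hlt
      exact hq ⟨Or.inr rfl, by omega⟩
  · exact Or.inr (Or.inr (Or.inr (Or.inr (Or.inr (Or.inr (Or.inr (Or.inr (Or.inr (Or.inr (Or.inl h))))))))))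
  · exact Or.inr (Or.inr (Or.inr (Or.inr (Or.inr (Or.inr (Or.inr (Or.inr (Or.inr (Or.inr (Or.inr
      (Or.inl h)))))))))))
  · exact Or.inr (Or.inr (Or.inr (Or.inr (Or.inr (Or.inr (Or.inr (Or.inr (Or.inr (Or.inr (Or.inr
      (Or.inr (Or.inl h))))))))))))
  · exact Or.inr (Or.inr (Or.inr (Or.inr (Or.inr (Or.inr (Or.inr (Or.inr (Or.inr (Or.inr (Or.inr
      (Or.inr (Or.inr (Or.inl h)))))))))))))
  · exact Or.inr (Or.inr (Or.inr (Or.inr (Or.inr (Or.inr (Or.inr (Or.inr (Or.inr (Or.inr (Or.inr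
      (Or.inr (Or.inr (Or.inr h)))))))))))))

end Cfsg.Agent.Helper4.AschP
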