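import Mathlib
import Cfsg.Agent.Helper4.GLPPlus
import Cfsg.Agent.Helper1.GLPStep
import Cfsg.Agent.Helper1.GLPofG

set_option autoImplicit false

/-!
S1301, B-side, piece (II.b) `glp_plus` with helper1's `step` and `glp_of` plugged in: the only
remaining hypothesis is Theorem G (`glauberman_perfect` of helper3's stubs).  `TwoPerf` is written
unfolded, as in helper1's files and in helper2's stub of piece (III).
-/

namespace Cfsg.Agent.Helper4.GLP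

open scoped commutatorElement
open Cfsg.Agent.Helper3.Glaub

universe u

/-- PIECE (II.b): GLP+, in the `hplus` shape of piece (III), modulo Theorem G. -/
theorem glp_plus_of_G
    (hG : ∀ {G : Type u} [Group G] [Finite G] (K L S : Subgroup G), Hyp K L S → Concl K L)
    {Γ : Type u} [Group Γ] [Finite Γ] (K : Subgroup Γ) [K.Normal] (P Y O₁ : Subgroup Γ)
    (hP : IsPGroup 2 ↥P) (hY : ⁅Y, Y⁆ = Y ∧ Cfsg.Agent.Helper2.opp 2 Y = Y)
    (hYP : Y ≤ Subgroup.centralizer (P : Set Γ))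
    (hO₁ : (Nat.card ↥O₁).Coprime 2) (hO₁K : O₁ ≤ K)
    (hnorm : P ⊔ Y ⊔ ((K ⊔ P) ⊓ Subgroup.centralizer (P : Set Γ)) ≤
      Subgroup.normalizer (O₁ : Set Γ))
    (hKY : ⁅K ⊓ Subgroup.centralizer (P : Set Γ), Y⁆ ≤ O₁) :
    ∃ Yf : Subgroup Γ, ⁅K, Yf⁆ ≤ Cfsg.pPrimeCore 2 Γ ∧ Y ≤ K ⊔ Yf :=
  glp_plus_of
    (fun K hK S Y hSK hS hSyl hY hYS =>
      @Cfsg.Agent.Helper1.GLP.glp_of hG Γ _ _ K hK S Y hSK hS hSyl hY hYS)
    (fun O₁ R Y hO₁ hR hY hRO hYO hRY =>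
      Cfsg.Agent.Helper1.GLP.step O₁ R Y hO₁ hR hY hRO hYO hRY)
    K P Y O₁ hP hY hYP hO₁ hO₁K hnorm hKY

end Cfsg.Agent.Helper4.GLP
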