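import Mathlib
import Cfsg.Agent.Helper4.AschC
import Cfsg.Agent.S1301

set_option autoImplicit false

/-!
S1305, part D: the statement inside `Y = C_G(b)`, and the transport lemmas between `G` and `Y`.
-/

namespace Cfsg.Agent.Helper4.Asch

open scoped commutatorElement
open Cfsg.Agent.Helper2 (cj IsPElt opp)
open Cfsg.Agent.Helper4.GLP

universe u

section flat

variable {G : Type u} [Group G]

theorem card_subgroupOf_of_le {H K : Subgroup G} (h : H ≤ K) :
    Nat.card ↥(H.subgroupOf K) = Nat.card ↥H :=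
  Nat.card_congr (Subgroup.subgroupOfEquivOfLe h).toEquiv

theorem isComponent_subgroupOf_congr {K K' H H' : Subgroup G} (hK : K = K') (hH : H = H') :
    Cfsg.IsComponent (K.subgroupOf H) ↔ Cfsg.IsComponent (K'.subgroupOf H') := by
  subst hK; subst hH; rfl

/-- Flattening of relative components. -/
theorem isComponent_subgroupOf_flatten (H₁ : Subgroup G) (H₂ K₂ : Subgroup ↥H₁) :
    Cfsg.IsComponent (K₂.subgroupOf H₂) ↔
      Cfsg.IsComponent ((K₂.map H₁.subtype).subgroupOf (H₂.map H₁.subtype)) := by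
  let e : ↥H₂ ≃* ↥(H₂.map H₁.subtype) :=
    H₂.equivMapOfInjective H₁.subtype H₁.subtype_injective
  have he : ∀ x : ↥H₂, ((e x : ↥(H₂.map H₁.subtype)) : G) = ((x : ↥H₁) : G) := fun x =>
    Subgroup.coe_equivMapOfInjective_apply H₂ H₁.subtype H₁.subtype_injective x
  have h : (K₂.subgroupOf H₂).map e.toMonoidHom =
      (K₂.map H₁.subtype).subgroupOf (H₂.map H₁.subtype) := by
    ext y
    rw [Subgroup.mem_subgroupOf]
    constructor
    · rintro ⟨x, hx, hxy⟩
      have h1 : ((x : ↥H₁) : G) = (y : G) := by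
        rw [← he x]
        exact congrArg Subtype.val hxy
      rw [SetLike.mem_coe, Subgroup.mem_subgroupOf] at hx
      exact ⟨(x : ↥H₁), hx, h1⟩
    · rintro ⟨x, hx, hxy⟩
      obtain ⟨x', hx', hx'y⟩ := y.2
      have hxx : x' = x := Subtype.ext (hx'y.trans hxy.symm)
      subst hxx
      refine ⟨⟨x', hx'⟩, ?_, ?_⟩
      · rw [SetLike.mem_coe, Subgroup.mem_subgroupOf]; exact hx
      · apply Subtype.ext
        exact (he ⟨x', hx'⟩).trans hxy
  constructor
  · intro hc
    rw [← h]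
    exact Cfsg.Agent.Helper2.isComponent_map_equiv e hc
  · intro hc
    rw [← h] at hc
    have h2 := Cfsg.Agent.Helper2.isComponent_map_equiv e.symm hc
    have h3 : ((K₂.subgroupOf H₂).map e.toMonoidHom).map e.symm.toMonoidHom = K₂.subgroupOf H₂ := by
      rw [Subgroup.map_map]
      have : e.symm.toMonoidHom.comp e.toMonoidHom = MonoidHom.id _ := by
        ext x; simp
      rw [this, Subgroup.map_id]
    rwa [h3] at h2

/-- A component of `C` lying in `D` is a component of `C ⊓ D`. -/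
theorem isComponent_subgroupOf_inf {C D K : Subgroup G} (hKC : K ≤ C) (hKD : K ≤ D)
    (hK : Cfsg.IsComponent (K.subgroupOf C)) : Cfsg.IsComponent (K.subgroupOf (C ⊓ D)) := by
  have h1 : K.subgroupOf C ≤ (C ⊓ D).subgroupOf C := by
    intro x hx
    rw [Subgroup.mem_subgroupOf] at hx ⊢
    exact ⟨hKC hx, hKD hx⟩
  have h2 := Cfsg.Agent.Helper2.isComponent_subgroupOf hK h1
  rw [isComponent_subgroupOf_flatten] at h2
  exact (isComponent_subgroupOf_congr (Subgroup.map_subgroupOf_eq_of_le hKC)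
    (Subgroup.map_subgroupOf_eq_of_le inf_le_left)).1 h2

end flat

section lbal

variable {Y : Type u} [Group Y] [Finite Y]

theorem centralizer_zpowers_eq (a : Y) :
    Subgroup.centralizer ((Subgroup.zpowers a : Subgroup Y) : Set Y) =
      Subgroup.centralizer ({a} : Set Y) := by
  ext g
  rw [Subgroup.mem_centralizer_singleton_iff, Subgroup.mem_centralizer_iff]
  constructor
  · intro h
    exact (h a (Subgroup.mem_zpowers a)).symm
  · rintro h x ⟨n, rfl⟩
    have hc : Commute a g := h.symm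
    exact (hc.zpow_left n).eq

theorem pLayer_centralizer_le_of_eq (T : Subgroup Y) (hT : IsPGroup 2 ↥T) (Z : Subgroup Y)
    (hZ : Z = Subgroup.centralizer (T : Set Y)) :
    (Cfsg.pLayer 2 ↥Z).map Z.subtype ≤ Cfsg.pLayer 2 Y := by
  subst hZ
  exact Cfsg.Agent.S1301.result T hT

theorem pLayer_centralizer_singleton_le (a : Y) (ha : a * a = 1) :
    (Cfsg.pLayer 2 ↥(Subgroup.centralizer ({a} : Set Y))).map
      (Subgroup.centralizer ({a} : Set Y)).subtype ≤ Cfsg.pLayer 2 Y := by
  have hT : IsPGroup 2 ↥(Subgroup.zpowers a) := by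
    have hd : orderOf a ∣ 2 := orderOf_dvd_of_pow_eq_one (by rw [pow_two]; exact ha)
    rcases (Nat.dvd_prime Nat.prime_two).1 hd with h | h
    · exact IsPGroup.of_card (n := 0) (by rw [Nat.card_zpowers, h, pow_zero])
    · exact IsPGroup.of_card (n := 1) (by rw [Nat.card_zpowers, h, pow_one])
  exact pLayer_centralizer_le_of_eq (Subgroup.zpowers a) hT _ (centralizer_zpowers_eq a).symm

/-- The statement inside `Y = C_G(b)`. -/
theorem main_in_Y (hL : ⁅Cfsg.pLayer 2 Y, Cfsg.pPrimeCore 2 Y⁆ = ⊥)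
    (a : Y) (ha : a * a = 1) (K : Subgroup Y)
    (hKa : K ≤ Subgroup.centralizer ({a} : Set Y))
    (hK : Cfsg.IsComponent (K.subgroupOf (Subgroup.centralizer ({a} : Set Y))))
    (heven : 2 ∣ Nat.card ↥K)
    (hmax : ∀ J : Subgroup Y, Cfsg.IsComponent J → Nat.card ↥J ≤ Nat.card ↥K)
    (B : Subgroup Y) (hBel : Cfsg.IsElementaryAbelian 2 B)
    (hBa : B ≤ Subgroup.centralizer ({a} : Set Y)) (hBK : B ≤ Subgroup.centralizer (K : Set Y))
    (A : Subgroup Y) (hA : A ≤ K) (hAel : Cfsg.IsElementaryAbelian 2 A)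
    (hAcard : 2 < Nat.card ↥A) :
    Cfsg.IsComponent K ∨ ∃ J W : Subgroup Y, Cfsg.IsComponent J ∧ Nat.card ↥J = Nat.card ↥K ∧
      Cfsg.IsElementaryAbelian 2 W ∧ W ≤ Subgroup.centralizer (J : Set Y) ∧
      Nat.card ↥B < Nat.card ↥W := by
  have hKE : K ≤ Cfsg.layer Y := by
    have h1 : Cfsg.IsPComponent 2 (K.subgroupOf (Subgroup.centralizer ({a} : Set Y))) :=
      isPComponent_two_of_isComponent hK (by rw [card_subgroupOf_of_le hKa]; exact heven)
    have h2 : K.subgroupOf (Subgroup.centralizer ({a} : Set Y)) ≤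
        Cfsg.pLayer 2 ↥(Subgroup.centralizer ({a} : Set Y)) := le_sSup h1
    have h3 := (Subgroup.map_mono h2).trans (pLayer_centralizer_singleton_le a ha)
    rw [Subgroup.map_subgroupOf_eq_of_le hKa] at h3
    exact h3.trans (pLayer_le_layer_of_commutator_eq_bot hL)
  rcases pumpup a ha K hKa hK hKE hmax with h | ⟨J, hJ, hne, hcard, hK1, hK2, hinj⟩
  · exact Or.inl h
  · right
    obtain ⟨W, hWel, hWc, hWcard⟩ :=
      diag_rank a ha J K hJ hne hK1 hK2 hinj B hBel hBa hBK A hA hAel hAcard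
    refine ⟨cj a J, W, Cfsg.Agent.Helper2.isComponent_cj hJ a, ?_, hWel, hWc, hWcard⟩
    rw [← hcard]
    exact Subgroup.card_map_of_injective (MulAut.conj a).injective

end lbal

section elemab

variable {X X' : Type u} [Group X] [Group X']

theorem isElementaryAbelian_map (f : X →* X') {A : Subgroup X}
    (hA : Cfsg.IsElementaryAbelian 2 A) : Cfsg.IsElementaryAbelian 2 (A.map f) := by
  haveI := hA.1
  refine ⟨isMulCommutative_iff.2 ?_, ?_⟩
  · rintro ⟨x, u, hu, rfl⟩ ⟨y, v, hv, rfl⟩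
    apply Subtype.ext
    show f u * f v = f v * f u
    have := congrArg Subtype.val (mul_comm' (⟨u, hu⟩ : ↥A) ⟨v, hv⟩)
    have h2 : u * v = v * u := this
    rw [← map_mul, ← map_mul, h2]
  · rintro x ⟨u, hu, rfl⟩
    rw [← map_pow, hA.2 u hu, map_one]

theorem isElementaryAbelian_comap (f : X →* X') (hf : Function.Injective f) {A : Subgroup X'}
    (hA : Cfsg.IsElementaryAbelian 2 A) : Cfsg.IsElementaryAbelian 2 (A.comap f) := by
  haveI := hA.1
  refine ⟨isMulCommutative_iff.2 ?_, ?_⟩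
  · rintro ⟨x, hx⟩ ⟨y, hy⟩
    apply Subtype.ext
    show x * y = y * x
    apply hf
    have := congrArg Subtype.val (mul_comm' (⟨f x, hx⟩ : ↥A) ⟨f y, hy⟩)
    have h2 : f x * f y = f y * f x := this
    rw [map_mul, map_mul, h2]
  · intro x hx
    apply hf
    rw [map_pow, hA.2 (f x) hx, map_one]

end elemab

end Cfsg.Agent.Helper4.Asch
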