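import Mathlib
import Cfsg.Agent.Helper4.AschD
import Cfsg.Prelude.Def_Balance
import Cfsg.Prelude.Def_CaseTheorems

set_option autoImplicit false

/-!
S1305, part E: the final assembly (transport between `G` and `Y = C_G(b)`).
-/

namespace Cfsg.Agent.Helper4.Asch

open scoped commutatorElement
open Cfsg.Agent.Helper2 (cj IsPElt opp)
open Cfsg.Agent.Helper4.GLP

universe u

variable {G : Type u} [Group G] [Finite G]

theorem maximal_component_main (hO : Cfsg.oddCore G = ⊥) (hB : Cfsg.HasBProperty G)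
    (a : G) (ha : orderOf a = 2) (K : Subgroup G)
    (hKa : K ≤ Subgroup.centralizer ({a} : Set G))
    (hK : Cfsg.IsComponent (K.subgroupOf (Subgroup.centralizer ({a} : Set G))))
    (hmax : ∀ y : G, orderOf y = 2 → ∀ K' : Subgroup G,
      K' ≤ Subgroup.centralizer ({y} : Set G) →
      Cfsg.IsComponent (K'.subgroupOf (Subgroup.centralizer ({y} : Set G))) →
      Nat.card ↥K' ≤ Nat.card ↥K ∧ (Nat.card ↥K' = Nat.card ↥K → ∀ k : ℕ,
        Cfsg.PRankLE 2 k
          ↥(Subgroup.centralizer ({a} : Set G) ⊓ Subgroup.centralizer (K : Set G)) →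
        Cfsg.PRankLE 2 k
          ↥(Subgroup.centralizer ({y} : Set G) ⊓ Subgroup.centralizer (K' : Set G))))
    (hrk : ¬ Cfsg.PRankLE 2 1 ↥K) (B : Subgroup G)
    (hBle : B ≤ Subgroup.centralizer ({a} : Set G) ⊓ Subgroup.centralizer (K : Set G))
    (hBel : Cfsg.IsElementaryAbelian 2 B)
    (hBmax : ∀ B' : Subgroup G,
      B' ≤ Subgroup.centralizer ({a} : Set G) ⊓ Subgroup.centralizer (K : Set G) →
      Cfsg.IsElementaryAbelian 2 B' → Nat.card ↥B' ≤ Nat.card ↥B)
    (b : G) (hb : b ∈ B) (hb1 : b ≠ 1) :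
    K ≤ Subgroup.centralizer ({b} : Set G) ∧
      Cfsg.IsComponent (K.subgroupOf (Subgroup.centralizer ({b} : Set G))) := by
  haveI : Fact (Nat.Prime 2) := ⟨Nat.prime_two⟩
  have hb2 : orderOf b = 2 := orderOf_eq_prime (hBel.2 b hb) hb1
  have hbK : b ∈ Subgroup.centralizer (K : Set G) := (hBle hb).2
  have hKb : K ≤ Subgroup.centralizer ({b} : Set G) := by
    intro k hk
    rw [Subgroup.mem_centralizer_singleton_iff]
    exact Subgroup.mem_centralizer_iff.1 hbK k hk
  refine ⟨hKb, ?_⟩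
  have hba : b * a = a * b := Subgroup.mem_centralizer_singleton_iff.1 (hBle hb).1
  have haa : a * a = 1 := by
    have := pow_orderOf_eq_one a
    rwa [ha, pow_two] at this
  have hBb : B ≤ Subgroup.centralizer ({b} : Set G) := by
    intro β hβ
    rw [Subgroup.mem_centralizer_singleton_iff]
    exact elemAb_comm hBel hβ hb
  -- the group `Y`
  obtain ⟨Cb, hCb⟩ : ∃ Cb : Subgroup G, Cb = Subgroup.centralizer ({b} : Set G) := ⟨_, rfl⟩
  rw [← hCb] at hKb hBb ⊢
  have haCb : a ∈ Cb := by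
    rw [hCb, Subgroup.mem_centralizer_singleton_iff]; exact hba.symm
  -- step 1
  have hL : ⁅Cfsg.pLayer 2 ↥Cb, Cfsg.pPrimeCore 2 ↥Cb⁆ = ⊥ := by
    have h1 := hB b hb2
    rw [hO, ← hCb, le_bot_iff] at h1
    exact (Subgroup.map_eq_bot_iff_of_injective _ Cb.subtype_injective).1 h1
  -- the data in `Y`
  have ha' : (⟨a, haCb⟩ : ↥Cb) * ⟨a, haCb⟩ = 1 := Subtype.ext haa
  have hZ : (Subgroup.centralizer ({(⟨a, haCb⟩ : ↥Cb)} : Set ↥Cb)).map Cb.subtype =
      Subgroup.centralizer ({a} : Set G) ⊓ Cb := by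
    ext x
    constructor
    · rintro ⟨y, hy, rfl⟩
      have hy' := Subgroup.mem_centralizer_singleton_iff.1 hy
      refine Subgroup.mem_inf.2 ⟨?_, y.2⟩
      rw [Subgroup.mem_centralizer_singleton_iff]
      exact congrArg Subtype.val hy'
    · intro hx
      obtain ⟨hx1, hx2⟩ := Subgroup.mem_inf.1 hx
      refine ⟨⟨x, hx2⟩, ?_, rfl⟩
      rw [SetLike.mem_coe, Subgroup.mem_centralizer_singleton_iff]
      exact Subtype.ext (Subgroup.mem_centralizer_singleton_iff.1 hx1)
  have hK'a : K.subgroupOf Cb ≤ Subgroup.centralizer ({(⟨a, haCb⟩ : ↥Cb)} : Set ↥Cb) := by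
    intro k hk
    rw [Subgroup.mem_subgroupOf] at hk
    rw [Subgroup.mem_centralizer_singleton_iff]
    exact Subtype.ext (Subgroup.mem_centralizer_singleton_iff.1 (hKa hk))
  have hK'comp : Cfsg.IsComponent ((K.subgroupOf Cb).subgroupOf
      (Subgroup.centralizer ({(⟨a, haCb⟩ : ↥Cb)} : Set ↥Cb))) := by
    rw [isComponent_subgroupOf_flatten]
    exact (isComponent_subgroupOf_congr (Subgroup.map_subgroupOf_eq_of_le hKb) hZ).2
      (isComponent_subgroupOf_inf hKa hKb hK)
  have hcardK' : Nat.card ↥(K.subgroupOf Cb) = Nat.card ↥K := card_subgroupOf_of_le hKb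
  -- `A`
  obtain ⟨A₀, hA₀c, hA₀e, hA₀card⟩ : ∃ A₀ : Subgroup ↥K, IsMulCommutative ↥A₀ ∧
      (∀ x ∈ A₀, x ^ 2 = 1) ∧ 2 < Nat.card ↥A₀ := by
    unfold Cfsg.PRankLE at hrk
    push Not at hrk
    obtain ⟨A₀, h1, h2, h3⟩ := hrk
    exact ⟨A₀, h1, h2, by simpa using h3⟩
  have hA₀el : Cfsg.IsElementaryAbelian 2 A₀ := ⟨hA₀c, hA₀e⟩
  have hA₁el : Cfsg.IsElementaryAbelian 2 (A₀.map K.subtype) :=
    isElementaryAbelian_map K.subtype hA₀el
  have hA₁K : A₀.map K.subtype ≤ K := Subgroup.map_subtype_le _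
  have hA₁card : Nat.card ↥(A₀.map K.subtype) = Nat.card ↥A₀ :=
    Subgroup.card_map_of_injective K.subtype_injective
  have hAel : Cfsg.IsElementaryAbelian 2 ((A₀.map K.subtype).subgroupOf Cb) :=
    isElementaryAbelian_comap Cb.subtype Cb.subtype_injective hA₁el
  have hAcard : 2 < Nat.card ↥((A₀.map K.subtype).subgroupOf Cb) := by
    rw [card_subgroupOf_of_le (hA₁K.trans hKb), hA₁card]; exact hA₀card
  have hAK' : (A₀.map K.subtype).subgroupOf Cb ≤ K.subgroupOf Cb := by
    intro x hx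
    rw [Subgroup.mem_subgroupOf] at hx ⊢
    exact hA₁K hx
  -- `K` has even order
  have heven : 2 ∣ Nat.card ↥(K.subgroupOf Cb) := by
    rw [hcardK']
    have h1 : Nat.card ↥A₀ ∣ Nat.card ↥K := Subgroup.card_subgroup_dvd_card A₀
    have h2 : IsPGroup 2 ↥A₀ := by
      intro x
      refine ⟨1, ?_⟩
      rw [pow_one]
      exact Subtype.ext (by simpa using hA₀e x x.2)
    obtain ⟨n, hn⟩ := IsPGroup.iff_card.1 h2
    have hn0 : n ≠ 0 := by
      rintro rfl
      rw [hn] at hA₀card
      norm_num at hA₀card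
    exact (dvd_pow_self 2 hn0).trans (hn ▸ h1)
  -- maximality in `Y`
  have hmaxY : ∀ J : Subgroup ↥Cb, Cfsg.IsComponent J →
      Nat.card ↥J ≤ Nat.card ↥(K.subgroupOf Cb) := by
    intro J hJ
    rw [hcardK', ← Subgroup.card_map_of_injective Cb.subtype_injective]
    have hle : J.map Cb.subtype ≤ Subgroup.centralizer ({b} : Set G) :=
      hCb ▸ Subgroup.map_subtype_le J
    refine (hmax b hb2 (J.map Cb.subtype) hle ?_).1
    have : (J.map Cb.subtype).subgroupOf Cb = J :=
      Subgroup.comap_map_eq_self_of_injective Cb.subtype_injective J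
    rw [← hCb, this]
    exact hJ
  -- `B`
  have hB'el : Cfsg.IsElementaryAbelian 2 (B.subgroupOf Cb) :=
    isElementaryAbelian_comap Cb.subtype Cb.subtype_injective hBel
  have hB'a : B.subgroupOf Cb ≤ Subgroup.centralizer ({(⟨a, haCb⟩ : ↥Cb)} : Set ↥Cb) := by
    intro β hβ
    rw [Subgroup.mem_subgroupOf] at hβ
    rw [Subgroup.mem_centralizer_singleton_iff]
    exact Subtype.ext (Subgroup.mem_centralizer_singleton_iff.1 (hBle hβ).1)
  have hB'K : B.subgroupOf Cb ≤ Subgroup.centralizer ((K.subgroupOf Cb : Subgroup ↥Cb) : Set ↥Cb) := by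
    intro β hβ
    rw [Subgroup.mem_subgroupOf] at hβ
    rw [Subgroup.mem_centralizer_iff]
    intro k hk
    have hk' : (k : G) ∈ K := Subgroup.mem_subgroupOf.1 hk
    exact Subtype.ext (Subgroup.mem_centralizer_iff.1 (hBle hβ).2 _ hk')
  have hcardB' : Nat.card ↥(B.subgroupOf Cb) = Nat.card ↥B := card_subgroupOf_of_le hBb
  rcases main_in_Y hL ⟨a, haCb⟩ ha' (K.subgroupOf Cb) hK'a hK'comp heven hmaxY (B.subgroupOf Cb)
    hB'el hB'a hB'K _ hAK' hAel hAcard with h | ⟨J, W, hJ, hJcard, hWel, hWJ, hWcard⟩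
  · exact h
  · exfalso
    have hle : J.map Cb.subtype ≤ Subgroup.centralizer ({b} : Set G) :=
      hCb ▸ Subgroup.map_subtype_le J
    have hJc : Cfsg.IsComponent ((J.map Cb.subtype).subgroupOf
        (Subgroup.centralizer ({b} : Set G))) := by
      have : (J.map Cb.subtype).subgroupOf Cb = J :=
        Subgroup.comap_map_eq_self_of_injective Cb.subtype_injective J
      rw [← hCb, this]
      exact hJ
    obtain ⟨-, h2⟩ := hmax b hb2 (J.map Cb.subtype) hle hJc
    have hcardJG : Nat.card ↥(J.map Cb.subtype) = Nat.card ↥K := by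
      rw [Subgroup.card_map_of_injective Cb.subtype_injective, hJcard, hcardK']
    -- `|B| = 2 ^ m`
    have hB2 : IsPGroup 2 ↥B := by
      intro x
      refine ⟨1, ?_⟩
      rw [pow_one]
      exact Subtype.ext (by simpa using hBel.2 x x.2)
    obtain ⟨m, hm⟩ := IsPGroup.iff_card.1 hB2
    have hPa : Cfsg.PRankLE 2 m
        ↥(Subgroup.centralizer ({a} : Set G) ⊓ Subgroup.centralizer (K : Set G)) := by
      intro A hAc hAe
      have hAel' : Cfsg.IsElementaryAbelian 2 A := ⟨hAc, hAe⟩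
      have h3 := hBmax (A.map (Subgroup.subtype _)) (Subgroup.map_subtype_le A)
        (isElementaryAbelian_map (Subgroup.subtype _) hAel')
      rw [Subgroup.card_map_of_injective (Subgroup.subtype_injective _), hm] at h3
      exact h3
    have hPb := h2 hcardJG m hPa
    -- `W` in `G`
    have hWG : W.map Cb.subtype ≤ Subgroup.centralizer ({b} : Set G) ⊓
        Subgroup.centralizer ((J.map Cb.subtype : Subgroup G) : Set G) := by
      rintro x ⟨w, hw, rfl⟩
      refine Subgroup.mem_inf.2 ⟨hCb ▸ w.2, ?_⟩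
      rw [Subgroup.mem_centralizer_iff]
      rintro y ⟨j, hj, rfl⟩
      exact congrArg Subtype.val (Subgroup.mem_centralizer_iff.1 (hWJ hw) j hj)
    have hWGel : Cfsg.IsElementaryAbelian 2 (W.map Cb.subtype) :=
      isElementaryAbelian_map Cb.subtype hWel
    have hW'el := isElementaryAbelian_comap (Subgroup.subtype (Subgroup.centralizer ({b} : Set G) ⊓
        Subgroup.centralizer ((J.map Cb.subtype : Subgroup G) : Set G)))
        (Subgroup.subtype_injective _) hWGel
    have h4 := hPb _ hW'el.1 hW'el.2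
    have h5 : Nat.card ↥((W.map Cb.subtype).comap (Subgroup.subtype
        (Subgroup.centralizer ({b} : Set G) ⊓
        Subgroup.centralizer ((J.map Cb.subtype : Subgroup G) : Set G)))) = Nat.card ↥W := by
      have := card_subgroupOf_of_le hWG
      rw [Subgroup.card_map_of_injective Cb.subtype_injective] at this
      exact this
    rw [h5, ← hm, ← hcardB'] at h4
    omega

end Cfsg.Agent.Helper4.Asch
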