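import Mathlib
import Cfsg.Prelude.Def_GeometricClasses
import Cfsg.Agent.Helper6.AschGSpBase
import Cfsg.Agent.Helper4.AschFC7J

/-!
# FORM-C7, the symplectic slot of helper6's ASCH-GEN-Sp

`spPerfectCase : SpPerfectCase n F` — the two `Sp` shapes (`perfect_case_symp_odd`, `perfect_case_symp_even`)
as ONE theorem, in the form of helper6's slot.
-/

set_option autoImplicit false

namespace Cfsg.Agent.Helper4.AschTI

open Cfsg Cfsg.Geo Cfsg.Agent.Lead.Asch Cfsg.Agent.Helper1.AschSp Cfsg.Agent.Helper6.AschGSp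
open scoped MatrixGroups Matrix

variable {n : ℕ} {F : Type*} [Field F]

/-- In dimension at most 1 every invertible matrix is scalar. -/
theorem le_scalars_of_dim_le_one (hn : n ≤ 1) (N : Subgroup (GL (Fin n) F)) : N ≤ scalars (Fin n) F := by
  intro g _
  rw [mem_scalars_iff]
  rcases Nat.lt_or_ge n 1 with h0 | h1
  · have hn0 : n = 0 := by omega
    subst hn0
    exact ⟨1, by ext i; exact i.elim0⟩
  · have hn1 : n = 1 := by omega
    subst hn1
    have hg : (g : Matrix (Fin 1) (Fin 1) F) 0 0 ≠ 0 := by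
      intro h0
      have hdet : (g : Matrix (Fin 1) (Fin 1) F).det = 0 := by
        rw [Matrix.det_fin_one, h0]
      have hu : IsUnit (g : Matrix (Fin 1) (Fin 1) F).det :=
        (Matrix.isUnit_iff_isUnit_det _).1 g.isUnit
      rw [hdet] at hu
      exact not_isUnit_zero hu
    refine ⟨Units.mk0 _ hg, ?_⟩
    ext i j
    rw [Subsingleton.elim i 0, Subsingleton.elim j 0, Matrix.smul_apply, Matrix.one_apply_eq, smul_eq_mul,
      mul_one, Units.val_mk0]

/-- **FORM-C7, `Sp` slot**: helper6's `SpPerfectCase n F`. -/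
theorem spPerfectCase [Fintype F] : SpPerfectCase n F := by
  intro f hf H N hfixH hNH hnz hns hall hmin hperf
  have hn : 2 ≤ n := by
    by_contra hlt
    exact hns (le_scalars_of_dim_le_one (by omega) N)
  have hfix : FixesForm (matrixSet N) f := by
    rintro _ ⟨x, hx, rfl⟩ u v
    exact hfixH _ ⟨x, hNH hx, rfl⟩ u v
  by_cases hodd : Odd (Fintype.card F)
  · rcases perfect_case_symp_odd hn hodd hf hNH hnz hns hall hmin hperf hfix with
      ⟨d, k, e, Pm, f₁, hd, hk, hkodd, hne, hf₁, hstr, hle⟩ | h3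
    · exact Or.inl ⟨hodd, d, k, e, Pm, f₁, hkodd, hk, hne, hf₁, hstr, hle⟩
    · exact Or.inr (Or.inr h3)
  · rcases perfect_case_symp_even hn hodd hf hNH hnz hns hall hmin hperf hfix with hQ | h3
    · exact Or.inr (Or.inl ⟨hodd, hQ⟩)
    · exact Or.inr (Or.inr h3)

end Cfsg.Agent.Helper4.AschTI
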