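import Mathlib

/-!
# ASCH-OM part 3, D5-C1 (helper4): perfect groups of 2×2 matrices preserving a non-zero quadratic form are trivial
-/

set_option autoImplicit false

namespace Cfsg.Agent.Helper4.AschOm4

open Matrix
open scoped MatrixGroups

variable {E : Type*} [Field E]

/-- the standard alternating matrix -/
def Jm : Matrix (Fin 2) (Fin 2) E := !![0, 1; -1, 0]

theorem Jm_conj (a : Matrix (Fin 2) (Fin 2) E) : aᵀ * Jm * a = a.det • (Jm : Matrix (Fin 2) (Fin 2) E) := by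
  ext i j
  fin_cases i <;> fin_cases j <;>
    simp [Jm, Matrix.mul_apply, Fin.sum_univ_two, Matrix.det_fin_two] <;> ring

theorem Jm_conj' (a : Matrix (Fin 2) (Fin 2) E) : a * Jm * aᵀ = a.det • (Jm : Matrix (Fin 2) (Fin 2) E) := by
  have := Jm_conj aᵀ
  rwa [Matrix.transpose_transpose, Matrix.det_transpose] at this

theorem quad_apply (M : Matrix (Fin 2) (Fin 2) E) (v : Fin 2 → E) :
    v ⬝ᵥ (M *ᵥ v) = M 0 0 * v 0 * v 0 + (M 0 1 + M 1 0) * v 0 * v 1 + M 1 1 * v 1 * v 1 := by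
  simp only [dotProduct, Matrix.mulVec, Fin.sum_univ_two]
  ring

/-- a matrix whose quadratic form vanishes is a multiple of `J` -/
theorem eq_smul_Jm_of_quad_zero (M : Matrix (Fin 2) (Fin 2) E) (h : ∀ v : Fin 2 → E, v ⬝ᵥ (M *ᵥ v) = 0) :
    M = M 0 1 • (Jm : Matrix (Fin 2) (Fin 2) E) := by
  have h0 := h ![1, 0]
  have h1 := h ![0, 1]
  have h2 := h ![1, 1]
  rw [quad_apply] at h0 h1 h2
  simp at h0 h1 h2
  rw [h0, h1] at h2
  simp at h2
  ext i j
  fin_cases i <;> fin_cases j <;> simp [Jm, h0, h1]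
  linear_combination h2

theorem quad_conj (g A : Matrix (Fin 2) (Fin 2) E) (v : Fin 2 → E) :
    (g *ᵥ v) ⬝ᵥ (A *ᵥ (g *ᵥ v)) = v ⬝ᵥ ((gᵀ * A * g) *ᵥ v) := by
  have h0 : ∀ x w : Fin 2 → E, (g *ᵥ x) ⬝ᵥ w = x ⬝ᵥ (gᵀ *ᵥ w) := by
    intro x w
    rw [Matrix.dotProduct_mulVec, Matrix.vecMul_transpose]
  rw [h0, Matrix.mulVec_mulVec, Matrix.mulVec_mulVec, Matrix.mul_assoc]

/-- two matrices commuting with a non-scalar 2×2 matrix commute -/
theorem commute_of_commute_nonscalar {M X Y : Matrix (Fin 2) (Fin 2) E}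
    (hM : M 0 1 ≠ 0 ∨ M 1 0 ≠ 0 ∨ M 0 0 - M 1 1 ≠ 0) (hX : X * M = M * X) (hY : Y * M = M * Y) :
    X * Y = Y * X := by
  -- the relations
  have hx := fun i j => congrFun (congrFun hX i) j
  have hy := fun i j => congrFun (congrFun hY i) j
  have x00 := hx 0 0
  have x01 := hx 0 1
  have x10 := hx 1 0
  have y00 := hy 0 0
  have y01 := hy 0 1
  have y10 := hy 1 0
  simp only [Matrix.mul_apply, Fin.sum_univ_two] at x00 x01 x10 y00 y01 y10
  have key : X 0 1 * Y 1 0 - X 1 0 * Y 0 1 = 0 ∧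
      X 0 1 * (Y 0 0 - Y 1 1) - (X 0 0 - X 1 1) * Y 0 1 = 0 ∧
      X 1 0 * (Y 0 0 - Y 1 1) - (X 0 0 - X 1 1) * Y 1 0 = 0 := by
    rcases hM with hm | hm | hm
    · refine ⟨?_, ?_, ?_⟩
      · refine (mul_eq_zero.1 ?_).resolve_left hm
        linear_combination (-(X 0 1)) * y00 + (Y 0 1) * x00
      · refine (mul_eq_zero.1 ?_).resolve_left hm
        linear_combination (X 0 1) * y01 - (Y 0 1) * x01
      · refine (mul_eq_zero.1 ?_).resolve_left hm
        linear_combination (X 1 0) * y01 + (X 0 0 - X 1 1) * y00 + (Y 0 1) * x10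
    · refine ⟨?_, ?_, ?_⟩
      · refine (mul_eq_zero.1 ?_).resolve_left hm
        linear_combination (Y 1 0) * x00 - (X 1 0) * y00
      · refine (mul_eq_zero.1 ?_).resolve_left hm
        linear_combination (-(Y 1 0)) * x01 - (X 0 1) * y10 - (X 0 0 - X 1 1) * y00
      · refine (mul_eq_zero.1 ?_).resolve_left hm
        linear_combination (Y 1 0) * x10 - (X 1 0) * y10
    · refine ⟨?_, ?_, ?_⟩
      · refine (mul_eq_zero.1 ?_).resolve_left hm
        linear_combination (X 0 1) * y10 + (X 1 0) * y01 + (Y 0 0 - Y 1 1) * x00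
      · refine (mul_eq_zero.1 ?_).resolve_left hm
        linear_combination (X 0 0 - X 1 1) * y01 - (Y 0 0 - Y 1 1) * x01
      · refine (mul_eq_zero.1 ?_).resolve_left hm
        linear_combination (Y 0 0 - Y 1 1) * x10 - (X 0 0 - X 1 1) * y10
  obtain ⟨k1, k2, k3⟩ := key
  ext i j
  fin_cases i <;> fin_cases j <;> simp only [Matrix.mul_apply, Fin.sum_univ_two, Fin.zero_eta, Fin.mk_one]
  · linear_combination k1
  · linear_combination -k2
  · linear_combination k3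
  · linear_combination -k1

/-- `x` has determinant one and `xᵀ A x = A + l J` -/
def Pres (A : Matrix (Fin 2) (Fin 2) E) (x : GL (Fin 2) E) (l : E) : Prop :=
  (x : Matrix (Fin 2) (Fin 2) E).det = 1 ∧
    (x : Matrix (Fin 2) (Fin 2) E)ᵀ * A * (x : Matrix (Fin 2) (Fin 2) E) = A + l • Jm

theorem Pres.mul {A : Matrix (Fin 2) (Fin 2) E} {x y : GL (Fin 2) E} {l m : E} (hx : Pres A x l)
    (hy : Pres A y m) : Pres A (x * y) (l + m) := by
  refine ⟨by rw [Units.val_mul, Matrix.det_mul, hx.1, hy.1, one_mul], ?_⟩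
  rw [Units.val_mul, Matrix.transpose_mul]
  have h1 : (y : Matrix (Fin 2) (Fin 2) E)ᵀ * (x : Matrix (Fin 2) (Fin 2) E)ᵀ * A *
      ((x : Matrix (Fin 2) (Fin 2) E) * (y : Matrix (Fin 2) (Fin 2) E)) =
      (y : Matrix (Fin 2) (Fin 2) E)ᵀ * ((x : Matrix (Fin 2) (Fin 2) E)ᵀ * A * (x : Matrix (Fin 2) (Fin 2) E)) *
        (y : Matrix (Fin 2) (Fin 2) E) := by
    simp only [Matrix.mul_assoc]
  rw [h1, hx.2, Matrix.mul_add, Matrix.add_mul, hy.2, Matrix.mul_smul, Matrix.smul_mul, Jm_conj, hy.1, one_smul,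
    add_smul]
  abel

theorem Pres.inv {A : Matrix (Fin 2) (Fin 2) E} {x : GL (Fin 2) E} {l : E} (hx : Pres A x l) :
    Pres A x⁻¹ (-l) := by
  have hdet : ((x⁻¹ : GL (Fin 2) E) : Matrix (Fin 2) (Fin 2) E).det = 1 := by
    have h1 : ((x * x⁻¹ : GL (Fin 2) E) : Matrix (Fin 2) (Fin 2) E).det = 1 := by
      rw [mul_inv_cancel, Units.val_one, Matrix.det_one]
    rw [Units.val_mul, Matrix.det_mul, hx.1, one_mul] at h1
    exact h1
  refine ⟨hdet, ?_⟩
  set y := ((x⁻¹ : GL (Fin 2) E) : Matrix (Fin 2) (Fin 2) E) with hy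
  have hxy : (x : Matrix (Fin 2) (Fin 2) E) * y = 1 := by
    rw [hy, ← Units.val_mul, mul_inv_cancel, Units.val_one]
  have h1 : yᵀ * ((x : Matrix (Fin 2) (Fin 2) E)ᵀ * A * (x : Matrix (Fin 2) (Fin 2) E)) * y = A := by
    have : yᵀ * ((x : Matrix (Fin 2) (Fin 2) E)ᵀ * A * (x : Matrix (Fin 2) (Fin 2) E)) * y =
        ((x : Matrix (Fin 2) (Fin 2) E) * y)ᵀ * A * ((x : Matrix (Fin 2) (Fin 2) E) * y) := by
      rw [Matrix.transpose_mul]
      simp only [Matrix.mul_assoc]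
    rw [this, hxy, Matrix.transpose_one, Matrix.one_mul, Matrix.mul_one]
  rw [hx.2, Matrix.mul_add, Matrix.add_mul, Matrix.mul_smul, Matrix.smul_mul, Jm_conj, hdet, one_smul] at h1
  rw [neg_smul]
  exact eq_add_neg_of_add_eq h1

/-- **D5-C1**: a perfect group of `2 × 2` matrices over any field preserving a non-zero quadratic form is trivial. -/
theorem eq_bot_of_perfect_of_quad_two {E : Type*} [Field E] (A : Matrix (Fin 2) (Fin 2) E)
    (hA : ∃ v : Fin 2 → E, v ⬝ᵥ (A *ᵥ v) ≠ 0) (G : Subgroup (GL (Fin 2) E))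
    (hG : ∀ g ∈ G, ∀ v : Fin 2 → E,
      ((g : Matrix (Fin 2) (Fin 2) E) *ᵥ v) ⬝ᵥ (A *ᵥ ((g : Matrix (Fin 2) (Fin 2) E) *ᵥ v)) = v ⬝ᵥ (A *ᵥ v))
    (hperf : ⁅G, G⁆ = G) : G = ⊥ := by
  classical
  -- determinant one
  have hdet : ∀ g ∈ G, (g : Matrix (Fin 2) (Fin 2) E).det = 1 := by
    have hle : ⁅G, G⁆ ≤ (Matrix.GeneralLinearGroup.det : GL (Fin 2) E →* Eˣ).ker := by
      rw [Subgroup.commutator_le]
      intro g₁ _ g₂ _
      rw [MonoidHom.mem_ker, map_commutatorElement]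
      exact commutatorElement_eq_one_iff_commute.2 (Commute.all _ _)
    intro g hg
    rw [← hperf] at hg
    have h1 := hle hg
    rw [MonoidHom.mem_ker] at h1
    have h2 := congrArg Units.val h1
    rw [Matrix.GeneralLinearGroup.val_det_apply, Units.val_one] at h2
    exact h2
  -- `gᵀ A g = A + l J`
  have hpres : ∀ g ∈ G, ∃ l : E, Pres A g l := by
    intro g hg
    have h1 : ∀ v : Fin 2 → E, v ⬝ᵥ (((g : Matrix (Fin 2) (Fin 2) E)ᵀ * A * (g : Matrix (Fin 2) (Fin 2) E) - A) *ᵥ v)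
        = 0 := by
      intro v
      rw [Matrix.sub_mulVec, dotProduct_sub, ← quad_conj, hG g hg v, sub_self]
    have h2 := eq_smul_Jm_of_quad_zero _ h1
    refine ⟨((g : Matrix (Fin 2) (Fin 2) E)ᵀ * A * (g : Matrix (Fin 2) (Fin 2) E) - A) 0 1, hdet g hg, ?_⟩
    rw [← h2]
    abel
  -- the subgroup of honest isometries of determinant one
  let K₂ : Subgroup (GL (Fin 2) E) :=
    { carrier := {x | Pres A x 0}
      mul_mem' := fun {x y} hx hy => by
        have := Pres.mul hx hy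
        rwa [add_zero] at this
      one_mem' := by
        refine ⟨by rw [Units.val_one, Matrix.det_one], ?_⟩
        rw [Units.val_one, Matrix.transpose_one, Matrix.one_mul, Matrix.mul_one, zero_smul, add_zero]
      inv_mem' := fun {x} hx => by
        have := Pres.inv hx
        rwa [neg_zero] at this }
  have hGK : G ≤ K₂ := by
    rw [← hperf, Subgroup.commutator_le]
    intro g hg h hh
    obtain ⟨l, hl⟩ := hpres g hg
    obtain ⟨m, hm⟩ := hpres h hh
    have h1 := ((hl.mul hm).mul hl.inv).mul hm.inv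
    have h2 : l + m + -l + -m = 0 := by ring
    rw [h2] at h1
    have h3 : g * h * g⁻¹ * h⁻¹ ∈ K₂ := h1
    rw [commutatorElement_def]
    exact h3
  -- transposes commute with `A J`
  have hcomm : ∀ g ∈ G, (g : Matrix (Fin 2) (Fin 2) E)ᵀ * (A * Jm) = (A * Jm) * (g : Matrix (Fin 2) (Fin 2) E)ᵀ := by
    intro g hg
    obtain ⟨hd, hp⟩ := hGK hg
    rw [zero_smul, add_zero] at hp
    set y := ((g⁻¹ : GL (Fin 2) E) : Matrix (Fin 2) (Fin 2) E) with hy
    have hgy : (g : Matrix (Fin 2) (Fin 2) E) * y = 1 := by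
      rw [hy, ← Units.val_mul, mul_inv_cancel, Units.val_one]
    have hyg : y * (g : Matrix (Fin 2) (Fin 2) E) = 1 := by
      rw [hy, ← Units.val_mul, inv_mul_cancel, Units.val_one]
    have h1 : (g : Matrix (Fin 2) (Fin 2) E)ᵀ * A = A * y := by
      calc (g : Matrix (Fin 2) (Fin 2) E)ᵀ * A
          = (g : Matrix (Fin 2) (Fin 2) E)ᵀ * A * ((g : Matrix (Fin 2) (Fin 2) E) * y) := by
            rw [hgy, Matrix.mul_one]
        _ = ((g : Matrix (Fin 2) (Fin 2) E)ᵀ * A * (g : Matrix (Fin 2) (Fin 2) E)) * y := by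
            simp only [Matrix.mul_assoc]
        _ = A * y := by rw [hp]
    have h2 : Jm * (g : Matrix (Fin 2) (Fin 2) E)ᵀ = y * Jm := by
      have h3 := Jm_conj' (g : Matrix (Fin 2) (Fin 2) E)
      rw [hd, one_smul] at h3
      calc Jm * (g : Matrix (Fin 2) (Fin 2) E)ᵀ
          = (y * (g : Matrix (Fin 2) (Fin 2) E)) * (Jm * (g : Matrix (Fin 2) (Fin 2) E)ᵀ) := by
            rw [hyg, Matrix.one_mul]
        _ = y * ((g : Matrix (Fin 2) (Fin 2) E) * Jm * (g : Matrix (Fin 2) (Fin 2) E)ᵀ) := by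
            simp only [Matrix.mul_assoc]
        _ = y * Jm := by rw [h3]
    rw [← Matrix.mul_assoc, h1, Matrix.mul_assoc, ← h2, Matrix.mul_assoc]
  -- `A J` is not scalar
  have hns : (A * (Jm : Matrix (Fin 2) (Fin 2) E)) 0 1 ≠ 0 ∨ (A * (Jm : Matrix (Fin 2) (Fin 2) E)) 1 0 ≠ 0 ∨
      (A * (Jm : Matrix (Fin 2) (Fin 2) E)) 0 0 - (A * (Jm : Matrix (Fin 2) (Fin 2) E)) 1 1 ≠ 0 := by
    by_contra hcon
    push Not at hcon
    obtain ⟨h01, h10, h00⟩ := hcon
    simp only [Matrix.mul_apply, Fin.sum_univ_two, Jm, Matrix.of_apply, Matrix.cons_val', Matrix.cons_val_zero,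
      Matrix.cons_val_one, Matrix.cons_val_fin_one] at h01 h10 h00
    simp at h01 h10 h00
    obtain ⟨v, hv⟩ := hA
    apply hv
    rw [quad_apply, h01, h10]
    have h5 : A 0 1 + A 1 0 = 0 := by linear_combination -h00
    rw [h5]
    ring
  -- conclusion
  rw [← hperf, Subgroup.commutator_eq_bot_iff_le_centralizer]
  intro g hg
  rw [Subgroup.mem_centralizer_iff]
  intro h hh
  have h1 := commute_of_commute_nonscalar hns (hcomm g hg) (hcomm h hh)
  rw [← Matrix.transpose_mul, ← Matrix.transpose_mul] at h1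
  have h2 := Matrix.transpose_injective h1
  apply Units.ext
  rw [Units.val_mul, Units.val_mul]
  exact h2

end Cfsg.Agent.Helper4.AschOm4
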