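import Mathlib
import Cfsg.Prelude.Def_GeometricClasses
import Cfsg.Agent.Helper7.Hermitian
import Cfsg.Agent.Helper7.TensNMJ
import Cfsg.Agent.Helper3.AschUSubA
import Cfsg.Agent.Helper6.AschSub
import Cfsg.Agent.Helper8.HermRegC
import Cfsg.Agent.Helper8.GUOrder
import Cfsg.Agent.Helper5.AschGramForm
import Cfsg.Agent.Helper4.AschTIT4A

/-!
# ASCH-PP-U, UD2 (helper4), part A: hyperbolic basis of a unitary plane; twisted matrices are rational up to scalars
-/

set_option autoImplicit false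
set_option linter.style.haveILetI false
set_option linter.unusedVariables false
set_option linter.unusedSectionVars false

namespace Cfsg.Agent.Helper4.AschPPU

open Cfsg Cfsg.Geo Cfsg.Agent.Helper3.AschU Cfsg.Agent.Helper7.Herm Cfsg.Agent.Helper4.AschTI
open Cfsg.Agent.Helper5.GramForm
open scoped MatrixGroups Matrix

variable {F : Type*} [Field F]

/-- a matrix whose entries are multiplied by one scalar under `σ` is a scalar times a matrix over `F₁ ⊇ Fix σ` -/
theorem mem_sup_of_twisted {n : ℕ} (hn : 1 ≤ n) (σ : F →+* F) (F₁ : Subfield F)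
    (hmem : ∀ x, σ x = x → x ∈ F₁) (h' : GL (Fin n) F) (c : F)
    (hΦh : ∀ i j, σ ((h' : Matrix (Fin n) (Fin n) F) i j) = c * (h' : Matrix (Fin n) (Fin n) F) i j) :
    h' ∈ (Matrix.GeneralLinearGroup.map (F₁.subtype : F₁ →+* F)).range ⊔ scalars (Fin n) F := by
  classical
  obtain ⟨k, i, ha⟩ : ∃ k i, (h' : Matrix (Fin n) (Fin n) F) k i ≠ 0 := by
    by_contra hcon
    push Not at hcon
    have : (h' : Matrix (Fin n) (Fin n) F) = 0 := by
      ext k i
      exact hcon k i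
    have h1 : IsUnit (h' : Matrix (Fin n) (Fin n) F) := Units.isUnit _
    rw [this] at h1
    haveI : Nonempty (Fin n) := ⟨⟨0, by omega⟩⟩
    exact not_isUnit_zero h1
  set a := (h' : Matrix (Fin n) (Fin n) F) k i with hadef
  have hc0 : c ≠ 0 := by
    intro hc
    have h1 := hΦh k i
    rw [hc, zero_mul] at h1
    exact ha ((map_eq_zero σ).1 h1)
  let au : Fˣ := Units.mk0 a ha
  let z : GL (Fin n) F := Units.map (Matrix.scalar (Fin n) : F →+* Matrix (Fin n) (Fin n) F).toMonoidHom au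
  have hz : (z : Matrix (Fin n) (Fin n) F) = a • (1 : Matrix (Fin n) (Fin n) F) := by
    simp [z, au, Matrix.smul_one_eq_diagonal]
  have hzs : z ∈ scalars (Fin n) F := Cfsg.Agent.Helper6.Asch.smul_one_mem_scalars au z hz
  set g := h' * z⁻¹ with hg
  have hzinv : ((z⁻¹ : GL (Fin n) F) : Matrix (Fin n) (Fin n) F) =
      a⁻¹ • (1 : Matrix (Fin n) (Fin n) F) := by
    have h1 : (z : Matrix (Fin n) (Fin n) F) * (a⁻¹ • (1 : Matrix (Fin n) (Fin n) F)) = 1 := by
      rw [hz, Matrix.smul_mul, Matrix.one_mul, smul_smul, mul_inv_cancel₀ ha, one_smul]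
    have h2 : ((z⁻¹ : GL (Fin n) F) : Matrix (Fin n) (Fin n) F) =
        ((z⁻¹ : GL (Fin n) F) : Matrix (Fin n) (Fin n) F) *
          ((z : Matrix (Fin n) (Fin n) F) * (a⁻¹ • (1 : Matrix (Fin n) (Fin n) F))) := by
      rw [h1, Matrix.mul_one]
    rw [h2, ← Matrix.mul_assoc, ← Units.val_mul, inv_mul_cancel, Units.val_one, Matrix.one_mul]
  have hgent : ∀ k' i', (g : Matrix (Fin n) (Fin n) F) k' i' =
      (h' : Matrix (Fin n) (Fin n) F) k' i' * a⁻¹ := by
    intro k' i'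
    rw [hg, Units.val_mul, hzinv, Matrix.mul_smul, Matrix.mul_one, Matrix.smul_apply, smul_eq_mul,
      mul_comm]
  have hgfix : ∀ k' i', (g : Matrix (Fin n) (Fin n) F) k' i' ∈ F₁ := by
    intro k' i'
    apply hmem
    rw [hgent, map_mul, map_inv₀, hΦh k' i', hΦh k i, ← hadef]
    field_simp
  have hgr : g ∈ (Matrix.GeneralLinearGroup.map (F₁.subtype : F₁ →+* F)).range :=
    Cfsg.Agent.Helper6.Asch.mem_range_map_of_entries F₁ g hgfix
  have e : h' = g * z := by rw [hg]; group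
  rw [e]
  exact Subgroup.mul_mem_sup hgr hzs

variable [Fintype F] {q : ℕ}

theorem neg_one_pow_q (hF : Fintype.card F = q ^ 2) : ((-1 : F)) ^ q = -1 := by
  have := map_neg (sigq hF) (1 : F)
  simp only [sigq_apply, one_pow] at this
  exact this

/-- the Gram matrix of a unitary form is Hermitian -/
theorem gram_herm {κ : Type} [Fintype κ] [DecidableEq κ] {f : (κ → F) → (κ → F) → F}
    (hf : IsUnitaryFormPow q f) (i j : κ) : gramMatrix f j i = (gramMatrix f i j) ^ q :=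
  hf.herm _ _

/-- the Gram matrix of a unitary form is invertible -/
theorem gram_det_ne_zero (hF : Fintype.card F = q ^ 2) {κ : Type} [Fintype κ] [DecidableEq κ]
    {f : (κ → F) → (κ → F) → F} (hf : IsUnitaryFormPow q f) : (gramMatrix f).det ≠ 0 := by
  intro h0
  obtain ⟨w, hw, hw0⟩ := Matrix.exists_mulVec_eq_zero_iff.mpr h0
  have hv : (fun j => (w j) ^ q) ≠ (0 : κ → F) := by
    intro hv
    apply hw
    funext j
    have h1 := congrFun hv j
    have h2 : ((w j) ^ q) ^ q = w j := pow_q_pow_q hF (w j)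
    rw [h1] at h2
    simp only [Pi.zero_apply] at h2 ⊢
    rw [← h2, zero_pow]
    have := two_le_q hF
    omega
  obtain ⟨⟨x, hx⟩, -⟩ := hf.nondegenerate _ hv
  apply hx
  rw [Cfsg.Agent.Helper7.TensNM.unitary_eq_gram hF hf, formOfGram_eq_dot]
  have h1 : (fun b => (Cfsg.Agent.Helper7.TensNM.frobQ hF) ((fun j => (w j) ^ q) b)) = w := by
    funext j
    show ((w j) ^ q) ^ q = w j
    exact pow_q_pow_q hF (w j)
  rw [h1, hw0, dotProduct_zero]

/-- **a unitary plane is hyperbolic**: in a suitable basis the Gram matrix is `ζ₀ • J`, `ζ₀ ^ q = -ζ₀`. -/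
theorem exists_hyp_basis (hF : Fintype.card F = q ^ 2) {f₁ : (Fin 2 → F) → (Fin 2 → F) → F}
    (h₁ : IsUnitaryFormPow q f₁) :
    ∃ (A : GL (Fin 2) F) (ζ₀ : F), ζ₀ ≠ 0 ∧ ζ₀ ^ q = -ζ₀ ∧
      (A : Matrix (Fin 2) (Fin 2) F)ᵀ * gramMatrix f₁ *
        (A : Matrix (Fin 2) (Fin 2) F).map (sigq hF : F →+* F) = ζ₀ • (omega2 : Matrix (Fin 2) (Fin 2) F) := by
  classical
  haveI : Fact (Fintype.card F = q ^ 2) := ⟨hF⟩
  set G := gramMatrix f₁ with hG
  have hdet : G.det ≠ 0 := gram_det_ne_zero hF h₁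
  obtain ⟨P₀, hP₀⟩ := Cfsg.Agent.Helper8.HermReg.exists_herm_factor_gen (q := q) G
    (fun i j => gram_herm h₁ i j) hdet
  have hmapeq : ∀ M : Matrix (Fin 2) (Fin 2) F, M.map (· ^ q) = M.map (sigq hF : F →+* F) := fun M => rfl
  rw [hmapeq] at hP₀
  have hP₀det : IsUnit P₀.det := by
    rw [isUnit_iff_ne_zero]
    intro h0
    apply hdet
    rw [← hP₀, Matrix.det_mul, Matrix.det_transpose, h0, zero_mul]
  obtain ⟨a, ha⟩ := Cfsg.Agent.Helper8.GUOrder.exists_norm hF (c := (-1 : F)) (neg_ne_zero.2 one_ne_zero)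
    (neg_one_pow_q hF)
  obtain ⟨x, hx⟩ := exists_pow_q_ne hF
  have ha0 : a ≠ 0 := by
    rintro rfl
    rw [zero_mul] at ha
    exact (neg_ne_zero.2 one_ne_zero) ha.symm
  have hζ0 : x - x ^ q ≠ 0 := sub_ne_zero.2 (Ne.symm hx)
  set A₀ : Matrix (Fin 2) (Fin 2) F := !![1, x ^ q; a, x * a] with hA₀
  have hA₀det : A₀.det = a * (x - x ^ q) := by
    rw [hA₀, Matrix.det_fin_two]
    simp
    ring
  have hA₀form : A₀ᵀ * A₀.map (sigq hF : F →+* F) = (x - x ^ q) • (omega2 : Matrix (Fin 2) (Fin 2) F) := by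
    have hxx : (x ^ q) ^ q = x := pow_q_pow_q hF x
    ext i j
    fin_cases i <;> fin_cases j <;>
      simp [hA₀, omega2, Matrix.mul_apply, Fin.sum_univ_two, mul_pow, hxx]
    · linear_combination ha
    · linear_combination (x ^ q) * ha
    · linear_combination x * ha
    · linear_combination (x * x ^ q) * ha
  have hAdet : (P₀⁻¹ * A₀).det ≠ 0 := by
    rw [Matrix.det_mul, hA₀det, Matrix.det_nonsing_inv, Ring.inverse_eq_inv']
    exact mul_ne_zero (inv_ne_zero (isUnit_iff_ne_zero.1 hP₀det)) (mul_ne_zero ha0 hζ0)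
  refine ⟨Matrix.GeneralLinearGroup.mkOfDetNeZero (P₀⁻¹ * A₀) hAdet, x - x ^ q, hζ0, ?_, ?_⟩
  · have := map_sub (sigq hF) x (x ^ q)
    simp only [sigq_apply] at this
    rw [this, pow_q_pow_q hF]
    ring
  · show (P₀⁻¹ * A₀)ᵀ * G * (P₀⁻¹ * A₀).map (sigq hF : F →+* F) = _
    rw [← hP₀, ← hA₀form]
    have e1 : ∀ B : Matrix (Fin 2) (Fin 2) F,
        Bᵀ * (P₀ᵀ * P₀.map (sigq hF : F →+* F)) * B.map (sigq hF : F →+* F) =
        (P₀ * B)ᵀ * (P₀ * B).map (sigq hF : F →+* F) := by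
      intro B
      rw [Matrix.transpose_mul, Matrix.map_mul]
      simp only [Matrix.mul_assoc]
    rw [e1, Matrix.mul_nonsing_inv_cancel_left _ _ hP₀det]

end Cfsg.Agent.Helper4.AschPPU
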