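import Mathlib
import Cfsg.Prelude.Def_GeometricClasses
import Cfsg.Prelude.Def_LieClassical
import Cfsg.Agent.Helper8.UnitaryLines
import Cfsg.Agent.Helper4.AschFC7D
import Cfsg.Agent.Helper4.AschPPUD2A

/-!
# ASCH-PP-U, UD2 (helper4), part B: tensor powers of a 2-dimensional unitary form give a subfield group

`unitary_two_power_exit`: helper9's stub UD2, exact statement.
-/

set_option autoImplicit false
set_option linter.style.haveILetI false
set_option linter.unusedVariables false
set_option linter.unusedSectionVars false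

namespace Cfsg.Agent.Helper4.AschPPU

open Cfsg Cfsg.Geo Cfsg.Agent.Helper3.AschU Cfsg.Agent.Helper7.Herm Cfsg.Agent.Helper4.AschTI
open Cfsg.Agent.Helper5.GramForm Cfsg.Agent.Helper4.AschP
open scoped MatrixGroups Matrix

variable {F : Type*} [Field F] [Fintype F] {q : ℕ}

/-- the fixed field of `x ↦ x ^ q` -/
def fixq (hF : Fintype.card F = q ^ 2) : Subfield F where
  carrier := {x | x ^ q = x}
  mul_mem' := fun {a b} ha hb => by
    show (a * b) ^ q = a * b
    rw [mul_pow, ha, hb]
  one_mem' := one_pow q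
  add_mem' := fun {a b} ha hb => by
    show (a + b) ^ q = a + b
    rw [add_pow_q hF, ha, hb]
  zero_mem' := zero_pow (by have := two_le_q hF; omega)
  neg_mem' := fun {a} ha => by
    show (-a) ^ q = -a
    have := map_neg (sigq hF) a
    simp only [sigq_apply] at this
    rw [this, ha]
  inv_mem' := fun a ha => by
    show (a⁻¹) ^ q = a⁻¹
    rw [inv_pow, ha]

theorem mem_fixq (hF : Fintype.card F = q ^ 2) (x : F) : x ∈ fixq hF ↔ x ^ q = x := Iff.rfl

theorem card_fixq (hF : Fintype.card F = q ^ 2) : Nat.card (fixq hF) = q := by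
  have h := Cfsg.Agent.Helper8.UnitaryLines.card_fixed hF
  have h2 : Nat.card (fixq hF) = Nat.card {c : F // c ^ q = c} :=
    Nat.card_congr (Equiv.subtypeEquivRight fun x => Iff.rfl)
  rw [h2, h]

variable {n k : ℕ}

/-- `Ω_k` has entries fixed by every ring endomorphism -/
theorem Omega_map (σ : F →+* F) : (AschTI.Omega k : Matrix (Fin k → Fin 2) (Fin k → Fin 2) F).map σ = AschTI.Omega k := by
  unfold AschTI.Omega
  rw [ptens_map]
  congr 1
  funext i
  ext a b
  fin_cases a <;> fin_cases b <;> simp [omega2]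

theorem isUnit_det_Omega : IsUnit (AschTI.Omega k : Matrix (Fin k → Fin 2) (Fin k → Fin 2) F).det := by
  have h := congrArg Matrix.det (Omega_mul_self (F := F) k)
  rw [Matrix.det_mul, Matrix.det_smul, Matrix.det_one, mul_one] at h
  rw [isUnit_iff_ne_zero]
  intro h0
  rw [h0, mul_zero] at h
  exact (pow_ne_zero _ (pow_ne_zero _ (neg_ne_zero.2 one_ne_zero))) h.symm

theorem bform_ext {ι : Type} [Fintype ι] [DecidableEq ι] {M M' : Matrix ι ι F}
    (h : ∀ u v, bform M u v = bform M' u v) : M = M' := by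
  ext a b
  have := h (Pi.single a 1) (Pi.single b 1)
  unfold bform at this
  rwa [single_one_dotProduct, single_one_dotProduct, Matrix.mulVec_single_one, Matrix.mulVec_single_one] at this

/-- the form in the hyperbolic tensor basis -/
theorem form_in_hyp_basis (hF : Fintype.card F = q ^ 2) (e : Fin n ≃ (Fin k → Fin 2)) (Pm : GL (Fin n) F)
    {f₁ : (Fin 2 → F) → (Fin 2 → F) → F} {c : F}
    (hform : ∀ x y : (Fin k → Fin 2) → F,
      hermForm n F q ((Pm : Matrix (Fin n) (Fin n) F) *ᵥ (x ∘ e)) ((Pm : Matrix (Fin n) (Fin n) F) *ᵥ (y ∘ e)) =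
        c * ∑ a, ∑ b, x a * (∏ i, gramMatrix f₁ (a i) (b i)) * (fun x : F => x ^ q) (y b))
    (A : GL (Fin 2) F) {ζ₀ : F}
    (hA : (A : Matrix (Fin 2) (Fin 2) F)ᵀ * gramMatrix f₁ *
        (A : Matrix (Fin 2) (Fin 2) F).map (sigq hF : F →+* F) = ζ₀ • (omega2 : Matrix (Fin 2) (Fin 2) F))
    (x y : (Fin k → Fin 2) → F) :
    hermForm n F q (((Pm * glReindex e.symm (ptensGL (fun _ : Fin k => A)) : GL (Fin n) F) :
        Matrix (Fin n) (Fin n) F) *ᵥ (x ∘ e))
      (((Pm * glReindex e.symm (ptensGL (fun _ : Fin k => A)) : GL (Fin n) F) :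
        Matrix (Fin n) (Fin n) F) *ᵥ (y ∘ e)) =
      (c * ζ₀ ^ k) * formOfGram (sigq hF : F →+* F) (AschTI.Omega k) x y := by
  have h1 := fpull_mul_ptens e Pm (fun _ : Fin k => A) (hermForm n F q) x y
  unfold fpull at h1
  rw [h1, hform]
  have h2 : ∀ u v : (Fin k → Fin 2) → F,
      (∑ a, ∑ b, u a * (∏ i, gramMatrix f₁ (a i) (b i)) * (fun x : F => x ^ q) (v b)) =
        formOfGram (sigq hF : F →+* F) (ptens (fun _ : Fin k => gramMatrix f₁)) u v := fun u v => rfl
  rw [h2, formOfGram_mulVec, ptens_transpose, ptens_map, ptens_mul, ptens_mul]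
  have h3 : (fun i : Fin k => (A : Matrix (Fin 2) (Fin 2) F)ᵀ * gramMatrix f₁ *
      (A : Matrix (Fin 2) (Fin 2) F).map (sigq hF : F →+* F)) =
      fun i : Fin k => ζ₀ • (omega2 : Matrix (Fin 2) (Fin 2) F) := by
    funext i
    exact hA
  rw [h3, ptens_smul (fun _ => ζ₀), Finset.prod_const, Finset.card_univ, Fintype.card_fin, formOfGram_smul,
    mul_assoc]
  rfl

/-- an element of the standard tensor wreath group preserving the `σ`-Hermitian form `Ω_k` is twisted-rational -/
theorem twisted_of_mem (σ : F →+* F) {w : GL (Fin k → Fin 2) F} (hw : w ∈ tensorWreathStandard 2 k F)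
    (hiso : (w : Matrix (Fin k → Fin 2) (Fin k → Fin 2) F)ᵀ * AschTI.Omega k *
      (w : Matrix (Fin k → Fin 2) (Fin k → Fin 2) F).map σ = AschTI.Omega k) :
    ∃ δ : F, ∀ a b, σ ((w : Matrix (Fin k → Fin 2) (Fin k → Fin 2) F) a b) =
      δ * (w : Matrix (Fin k → Fin 2) (Fin k → Fin 2) F) a b := by
  obtain ⟨δ, hδ⟩ := tensorWreathStandard_two_le k hw
  set W := (w : Matrix (Fin k → Fin 2) (Fin k → Fin 2) F) with hW
  have h1 : Wᵀ * AschTI.Omega k * W = (δ : F) • AschTI.Omega k := by
    apply bform_ext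
    intro u v
    rw [← bform_mulVec, bform_smul]
    exact hδ u v
  have hWu : IsUnit W.det := by
    rw [← Matrix.isUnit_iff_isUnit_det]
    exact w.isUnit
  have hU : IsUnit (Wᵀ * AschTI.Omega k) := by
    rw [Matrix.isUnit_iff_isUnit_det, Matrix.det_mul, Matrix.det_transpose]
    exact hWu.mul isUnit_det_Omega
  have h2 : Wᵀ * AschTI.Omega k * W = Wᵀ * AschTI.Omega k * ((δ : F) • W.map σ) := by
    rw [h1, Matrix.mul_smul, hiso]
  have h3 : W = (δ : F) • W.map σ := hU.mul_left_cancel h2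
  refine ⟨(δ : F)⁻¹, fun a b => ?_⟩
  have h4 := congrFun (congrFun h3 a) b
  rw [Matrix.smul_apply, Matrix.map_apply, smul_eq_mul] at h4
  have h5 : (δ : F)⁻¹ * W a b = σ (W a b) := by
    conv_lhs => rw [h4]
    rw [← mul_assoc, inv_mul_cancel₀ (Units.ne_zero δ), one_mul]
  exact h5.symm

end Cfsg.Agent.Helper4.AschPPU
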