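import Mathlib
import Cfsg.Prelude.Def_GeometricClasses
import Cfsg.Prelude.Def_LieClassical
import Cfsg.Agent.Helper4.AschPPUD2B

/-!
# ASCH-PP-U, UD2 (helper4), part C: `unitary_two_power_exit` (helper9's stub, exact statement)
-/

set_option autoImplicit false
set_option linter.style.haveILetI false
set_option linter.unusedVariables false
set_option linter.unusedSectionVars false

namespace Cfsg.Agent.Helper4.AschPPU

open Cfsg Cfsg.Geo Cfsg.Agent.Helper3.AschU Cfsg.Agent.Helper7.Herm Cfsg.Agent.Helper4.AschTI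
open Cfsg.Agent.Helper5.GramForm Cfsg.Agent.Helper4.AschP
open scoped MatrixGroups Matrix

variable {F : Type*} [Field F]

/-- **UD2**: tensor powers of a 2-dimensional unitary form: the tensor wreath group meets `GU` in a subfield group. -/
theorem unitary_two_power_exit [Fintype F] {n : ℕ} (q : ℕ) (hF : Fintype.card F = q ^ 2) (k : ℕ) (hk : 1 ≤ k)
    (e : Fin n ≃ (Fin k → Fin 2)) (Pm : GL (Fin n) F) (f₁ : (Fin 2 → F) → (Fin 2 → F) → F)
    (h₁ : IsUnitaryFormPow q f₁)
    (hT : IsTensorPowerFormStructure (fun x : F => x ^ q) (hermForm n F q) f₁ e Pm) :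
    (∃ (F₁ : Subfield F) (P : GL (Fin n) F) (ζ : F), Fintype.card F = Nat.card F₁ ^ 2 ∧ ζ ≠ 0 ∧ ζ + ζ ^ q = 0 ∧
      IsFormRationalStructure (hermForm n F q) F₁ ζ P ∧
      (∀ u : Fin n → F, (∀ i, u i ∈ F₁) → hermForm n F q ((P : Matrix (Fin n) (Fin n) F) *ᵥ u)
        ((P : Matrix (Fin n) (Fin n) F) *ᵥ u) = 0) ∧
      tensorWreathSubgroup 2 k e Pm ⊓ GU n F q ≤ subfieldSubgroup F₁ P) ∨
    (Odd q ∧ Even k ∧ ∃ (F₁ : Subfield F) (P : GL (Fin n) F), Fintype.card F = Nat.card F₁ ^ 2 ∧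
      IsFormRationalStructure (hermForm n F q) F₁ 1 P ∧
      tensorWreathSubgroup 2 k e Pm ⊓ GU n F q ≤ subfieldSubgroup F₁ P) := by
  classical
  obtain ⟨c, hc, hform⟩ := hT
  obtain ⟨A, ζ₀, hζ0, hζq, hA⟩ := exists_hyp_basis hF h₁
  set σ : F →+* F := (sigq hF : F →+* F) with hσ
  have hσa : ∀ x : F, σ x = x ^ q := fun x => rfl
  set P : GL (Fin n) F := Pm * glReindex e.symm (ptensGL (fun _ : Fin k => A)) with hP
  set F₁ := fixq hF with hF₁
  set κ := c * ζ₀ ^ k with hκ
  have hκ0 : κ ≠ 0 := mul_ne_zero hc (pow_ne_zero _ hζ0)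
  have hformP : ∀ x y : (Fin k → Fin 2) → F,
      hermForm n F q ((P : Matrix (Fin n) (Fin n) F) *ᵥ (x ∘ e)) ((P : Matrix (Fin n) (Fin n) F) *ᵥ (y ∘ e)) =
        κ * formOfGram σ (AschTI.Omega k) x y :=
    fun x y => form_in_hyp_basis hF e Pm hform A hA x y
  have hcard : Fintype.card F = Nat.card F₁ ^ 2 := by rw [card_fixq hF, hF]
  have hn1 : 1 ≤ n := by
    have h1 : Fintype.card (Fin n) = Fintype.card (Fin k → Fin 2) := Fintype.card_congr e
    rw [Fintype.card_fin, Fintype.card_fun, Fintype.card_fin, Fintype.card_fin] at h1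
    rw [h1]
    exact Nat.one_le_two_pow
  have hsq : ((-1 : F)) ^ k * (-1) ^ k = 1 := by
    rw [← mul_pow, neg_mul_neg, one_mul, one_pow]
  -- `κ ^ q = (-1)^k κ`
  have hκq : κ ^ q = (-1) ^ k * κ := by
    have h1 := hformP (Pi.single (fun _ => 0) 1) (Pi.single (fun _ => 1) 1)
    have h2 := hformP (Pi.single (fun _ => 1) 1) (Pi.single (fun _ => 0) 1)
    rw [formOfGram_single] at h1 h2
    have e1 : (AschTI.Omega k : Matrix (Fin k → Fin 2) (Fin k → Fin 2) F) (fun _ => 0) (fun _ => 1) = 1 := by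
      unfold AschTI.Omega
      rw [ptens_apply]
      simp [omega2]
    have e2 : (AschTI.Omega k : Matrix (Fin k → Fin 2) (Fin k → Fin 2) F) (fun _ => 1) (fun _ => 0) = (-1) ^ k := by
      unfold AschTI.Omega
      rw [ptens_apply]
      simp [omega2]
    rw [e1, mul_one] at h1
    rw [e2] at h2
    rw [hermForm_swap hF, h2, mul_pow, ← pow_mul, mul_comm k q, pow_mul, neg_one_pow_q hF] at h1
    -- h1 : κ ^ q * (-1)^k = κ
    calc κ ^ q = κ ^ q * ((-1) ^ k * (-1) ^ k) := by rw [hsq, mul_one]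
      _ = (-1) ^ k * (κ ^ q * (-1) ^ k) := by ring
      _ = (-1) ^ k * κ := by rw [h1]
  -- rational values
  have hΩq : ∀ a b, ((AschTI.Omega k : Matrix (Fin k → Fin 2) (Fin k → Fin 2) F) a b) ∈ F₁ := by
    intro a b
    have h1 := congrFun (congrFun (Omega_map (k := k) σ) a) b
    rw [Matrix.map_apply] at h1
    exact h1
  have hrat : ∀ x y : (Fin k → Fin 2) → F, (∀ a, x a ∈ F₁) → (∀ a, y a ∈ F₁) →
      formOfGram σ (AschTI.Omega k) x y ∈ F₁ := by
    intro x y hx hy
    unfold formOfGram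
    refine Subfield.sum_mem _ (fun a _ => Subfield.sum_mem _ (fun b _ => ?_))
    refine F₁.mul_mem (F₁.mul_mem (hx a) (hΩq a b)) ?_
    rw [hσa]
    exact F₁.pow_mem (hy b) q
  have hcomp : ∀ u : Fin n → F, (u ∘ e.symm) ∘ e = u := by
    intro u
    rw [Function.comp_assoc, Equiv.symm_comp_self, Function.comp_id]
  -- the group
  have hgrp : tensorWreathSubgroup 2 k e Pm ⊓ GU n F q ≤ subfieldSubgroup F₁ P := by
    rintro h ⟨hhW, hhU⟩
    obtain ⟨g', ⟨w, hw, rfl⟩, rfl⟩ := hhW
    have h𝔸 : ptensGL (fun _ : Fin k => A) ∈ tensorWreathStandard 2 k F :=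
      Subgroup.subset_closure (Or.inl (ptensGL_isPureTensor _))
    set w' := (ptensGL (fun _ : Fin k => A))⁻¹ * w * ptensGL (fun _ : Fin k => A) with hw'def
    have hw' : w' ∈ tensorWreathStandard 2 k F :=
      Subgroup.mul_mem _ (Subgroup.mul_mem _ (Subgroup.inv_mem _ h𝔸) hw) h𝔸
    have hconj : (MulAut.conj Pm).toMonoidHom ((glReindex e.symm).toMonoidHom w) =
        MulAut.conj P (glReindex e.symm w') := by
      show Pm * glReindex e.symm w * Pm⁻¹ = P * glReindex e.symm w' * P⁻¹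
      rw [hP, hw'def, map_mul, map_mul, map_inv]
      group
    rw [hconj] at hhU ⊢
    -- the action in coordinates
    have hact : ∀ x : (Fin k → Fin 2) → F,
        ((MulAut.conj P (glReindex e.symm w') : GL (Fin n) F) : Matrix (Fin n) (Fin n) F) *ᵥ
          ((P : Matrix (Fin n) (Fin n) F) *ᵥ (x ∘ e)) =
        (P : Matrix (Fin n) (Fin n) F) *ᵥ
          (((w' : Matrix (Fin k → Fin 2) (Fin k → Fin 2) F) *ᵥ x) ∘ e) := by
      intro x
      have h1 := tcoord_conj e P w' ((tcoord e P).symm x)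
      rw [LinearEquiv.apply_symm_apply] at h1
      have h2 := congrArg (tcoord e P).symm h1
      rw [LinearEquiv.symm_apply_apply] at h2
      exact h2
    have hiso : (w' : Matrix (Fin k → Fin 2) (Fin k → Fin 2) F)ᵀ * AschTI.Omega k *
        (w' : Matrix (Fin k → Fin 2) (Fin k → Fin 2) F).map σ = AschTI.Omega k := by
      apply gram_eq_of_formOfGram_eq σ
      intro x y
      rw [← formOfGram_mulVec]
      have h1 := hhU ((P : Matrix (Fin n) (Fin n) F) *ᵥ (x ∘ e)) ((P : Matrix (Fin n) (Fin n) F) *ᵥ (y ∘ e))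
      have h2 : hermForm n F q
          (((MulAut.conj P (glReindex e.symm w') : GL (Fin n) F) : Matrix (Fin n) (Fin n) F) *ᵥ
            ((P : Matrix (Fin n) (Fin n) F) *ᵥ (x ∘ e)))
          (((MulAut.conj P (glReindex e.symm w') : GL (Fin n) F) : Matrix (Fin n) (Fin n) F) *ᵥ
            ((P : Matrix (Fin n) (Fin n) F) *ᵥ (y ∘ e))) =
          hermForm n F q ((P : Matrix (Fin n) (Fin n) F) *ᵥ (x ∘ e))
            ((P : Matrix (Fin n) (Fin n) F) *ᵥ (y ∘ e)) := h1
      rw [hact, hact, hformP, hformP] at h2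
      exact mul_left_cancel₀ hκ0 h2
    obtain ⟨δ, hδ⟩ := twisted_of_mem σ hw' hiso
    have hmem : ∀ x, σ x = x → x ∈ F₁ := fun x hx => hx
    have hre : glReindex e.symm w' ∈
        (Matrix.GeneralLinearGroup.map (F₁.subtype : F₁ →+* F)).range ⊔ scalars (Fin n) F := by
      apply mem_sup_of_twisted hn1 σ F₁ hmem _ δ
      intro i j
      have h1 : ((glReindex e.symm w' : GL (Fin n) F) : Matrix (Fin n) (Fin n) F) =
          (w' : Matrix (Fin k → Fin 2) (Fin k → Fin 2) F).submatrix e e := rfl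
      rw [h1, Matrix.submatrix_apply]
      exact hδ (e i) (e j)
    unfold subfieldSubgroup
    rw [Subgroup.mem_map]
    exact ⟨glReindex e.symm w', hre, rfl⟩
  have hformu : ∀ u v : Fin n → F,
      hermForm n F q ((P : Matrix (Fin n) (Fin n) F) *ᵥ u) ((P : Matrix (Fin n) (Fin n) F) *ᵥ v) =
        κ * formOfGram σ (AschTI.Omega k) (u ∘ e.symm) (v ∘ e.symm) := by
    intro u v
    have := hformP (u ∘ e.symm) (v ∘ e.symm)
    rw [hcomp, hcomp] at this
    exact this
  by_cases hcase : ((-1 : F)) ^ k = -1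
  · left
    have hκq' : κ ^ q = -κ := by rw [hκq, hcase, neg_one_mul]
    refine ⟨F₁, P, κ⁻¹, hcard, inv_ne_zero hκ0, ?_, ?_, ?_, hgrp⟩
    · rw [inv_pow, hκq', inv_neg, add_neg_cancel]
    · intro u v hu hv
      rw [hformu, ← mul_assoc, inv_mul_cancel₀ hκ0, one_mul]
      exact hrat _ _ (fun a => hu _) (fun a => hv _)
    · intro u hu
      rw [hformu, formOfGram_eq_dot]
      have h1 : (fun b => σ ((u ∘ e.symm) b)) = u ∘ e.symm := by
        funext b
        exact hu (e.symm b)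
      rw [h1]
      have h2 := bform_self_eq_zero (AschTI.Omega k : Matrix (Fin k → Fin 2) (Fin k → Fin 2) F)
        (by rw [Omega_transpose, hcase, neg_one_smul]) (Omega_diag (by omega)) (u ∘ e.symm)
      unfold bform at h2
      rw [h2, mul_zero]
  · right
    have hone : ((-1 : F)) ^ k = 1 := (neg_one_pow_eq_or F k).resolve_right hcase
    have hne : (1 : F) ≠ -1 := by
      intro h
      apply hcase
      rw [hone]
      exact h
    have hoddq : Odd q := by
      by_contra hq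
      rw [Nat.not_odd_iff_even] at hq
      have h1 := neg_one_pow_q hF
      rw [hq.neg_one_pow] at h1
      exact hne h1
    have hevenk : Even k := by
      by_contra hk'
      rw [Nat.not_even_iff_odd] at hk'
      exact hcase hk'.neg_one_pow
    have hκq' : κ ^ q = κ := by rw [hκq, hone, one_mul]
    refine ⟨hoddq, hevenk, F₁, P, hcard, ?_, hgrp⟩
    intro u v hu hv
    rw [hformu, one_mul]
    exact F₁.mul_mem hκq' (hrat _ _ (fun a => hu _) (fun a => hv _))

end Cfsg.Agent.Helper4.AschPPU
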