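import Mathlib

/-!
# The similarities of the quadratic form `det` on `M₂(F)` (structure of `GO₄⁺`)

`det_similarity_structure`: a linear map `φ` of `M₂(F)` with `det (φ X) = μ · det X` (`μ ≠ 0`), `F` any field, is
`X ↦ A X C` or `X ↦ A Xᵀ C` with `A`, `C` invertible.
-/

set_option autoImplicit false

namespace Cfsg.Agent.Helper4.GO4

open Matrix

variable {F : Type*} [Field F]

local notation "M2" => Matrix (Fin 2) (Fin 2) F

/-- the polar form of `det` on 2×2 matrices -/
def pol (X Y : Matrix (Fin 2) (Fin 2) F) : F := X.trace * Y.trace - (X * Y).trace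

theorem det_add_two (X Y : Matrix (Fin 2) (Fin 2) F) : (X + Y).det = X.det + Y.det + pol X Y := by
  unfold pol
  simp only [Matrix.det_fin_two, Matrix.trace_fin_two, Matrix.mul_apply, Fin.sum_univ_two, Matrix.add_apply]
  ring

theorem pol_apply (X Y : Matrix (Fin 2) (Fin 2) F) :
    pol X Y = X 0 0 * Y 1 1 + X 1 1 * Y 0 0 - X 0 1 * Y 1 0 - X 1 0 * Y 0 1 := by
  unfold pol
  simp only [Matrix.trace_fin_two, Matrix.mul_apply, Fin.sum_univ_two]
  ring

theorem pol_map (φ : Matrix (Fin 2) (Fin 2) F →ₗ[F] Matrix (Fin 2) (Fin 2) F)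
    (hdet : ∀ X, (φ X).det = X.det) (X Y : Matrix (Fin 2) (Fin 2) F) : pol (φ X) (φ Y) = pol X Y := by
  have h1 := det_add_two (φ X) (φ Y)
  rw [← map_add, hdet, hdet, hdet, det_add_two X Y] at h1
  linear_combination -h1

theorem eq_sum_units (X : Matrix (Fin 2) (Fin 2) F) :
    X = X 0 0 • !![1, 0; 0, 0] + X 0 1 • !![0, 1; 0, 0] + X 1 0 • !![0, 0; 1, 0] + X 1 1 • !![0, 0; 0, 1] := by
  ext i j
  fin_cases i <;> fin_cases j <;> simp

/-- the normalised case: `φ 1 = 1`, `φ e₀₀ = e₀₀`, `det ∘ φ = det` -/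
theorem normalized (φ : Matrix (Fin 2) (Fin 2) F →ₗ[F] Matrix (Fin 2) (Fin 2) F)
    (hdet : ∀ X, (φ X).det = X.det) (h1 : φ 1 = 1) (hE : φ !![1, 0; 0, 0] = !![1, 0; 0, 0]) :
    ∃ A C : Matrix (Fin 2) (Fin 2) F, IsUnit A.det ∧ IsUnit C.det ∧
      ((∀ X, φ X = A * X * C) ∨ (∀ X, φ X = A * Xᵀ * C)) := by
  have hE' : φ !![0, 0; 0, 1] = !![0, 0; 0, 1] := by
    have h2 : (!![0, 0; 0, 1] : Matrix (Fin 2) (Fin 2) F) = 1 - !![1, 0; 0, 0] := by
      ext i j
      fin_cases i <;> fin_cases j <;> simp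
    rw [h2, map_sub, h1, hE]
  set P := φ !![0, 1; 0, 0] with hPdef
  set R := φ !![0, 0; 1, 0] with hRdef
  -- entries
  have hP00 : P 0 0 = 0 := by
    have := pol_map φ hdet !![0, 0; 0, 1] !![0, 1; 0, 0]
    rw [hE', ← hPdef, pol_apply, pol_apply] at this
    simpa using this
  have hP11 : P 1 1 = 0 := by
    have := pol_map φ hdet !![1, 0; 0, 0] !![0, 1; 0, 0]
    rw [hE, ← hPdef, pol_apply, pol_apply] at this
    simpa using this
  have hR00 : R 0 0 = 0 := by
    have := pol_map φ hdet !![0, 0; 0, 1] !![0, 0; 1, 0]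
    rw [hE', ← hRdef, pol_apply, pol_apply] at this
    simpa using this
  have hR11 : R 1 1 = 0 := by
    have := pol_map φ hdet !![1, 0; 0, 0] !![0, 0; 1, 0]
    rw [hE, ← hRdef, pol_apply, pol_apply] at this
    simpa using this
  have hPdet : P 0 1 * P 1 0 = 0 := by
    have := hdet !![0, 1; 0, 0]
    rw [← hPdef, Matrix.det_fin_two, Matrix.det_fin_two, hP00, hP11] at this
    simp at this
    rcases this with h | h
    · rw [h, zero_mul]
    · rw [h, mul_zero]
  have hRdet : R 0 1 * R 1 0 = 0 := by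
    have := hdet !![0, 0; 1, 0]
    rw [← hRdef, Matrix.det_fin_two, Matrix.det_fin_two, hR00, hR11] at this
    simp at this
    rcases this with h | h
    · rw [h, zero_mul]
    · rw [h, mul_zero]
  have hPR : P 0 1 * R 1 0 + P 1 0 * R 0 1 = 1 := by
    have := pol_map φ hdet !![0, 1; 0, 0] !![0, 0; 1, 0]
    rw [← hPdef, ← hRdef, pol_apply, pol_apply, hP00, hP11, hR00, hR11] at this
    simp at this
    linear_combination -this
  have hφ : ∀ X : Matrix (Fin 2) (Fin 2) F,
      φ X = X 0 0 • !![1, 0; 0, 0] + X 0 1 • P + X 1 0 • R + X 1 1 • !![0, 0; 0, 1] := by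
    intro X
    conv_lhs => rw [eq_sum_units X]
    rw [map_add, map_add, map_add, map_smul, map_smul, map_smul, map_smul, hE, hE']
  have hent : ∀ (a c : F) (Y : Matrix (Fin 2) (Fin 2) F) (i j : Fin 2),
      (Matrix.diagonal ![a, 1] * Y * Matrix.diagonal ![c, 1]) i j = ![a, 1] i * Y i j * ![c, 1] j := by
    intro a c Y i j
    rw [Matrix.mul_diagonal, Matrix.diagonal_mul]
  have hdetd : ∀ a : F, a ≠ 0 → IsUnit (Matrix.diagonal ![a, 1]).det := by
    intro a ha
    rw [Matrix.det_diagonal, Fin.prod_univ_two]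
    simpa using ha
  rcases mul_eq_zero.1 hPdet with hP01 | hP10
  · -- transpose case
    rw [hP01, zero_mul, zero_add] at hPR
    have hR10 : R 1 0 = 0 := by
      rcases mul_eq_zero.1 hRdet with h | h
      · rw [h, mul_zero] at hPR
        exact absurd hPR zero_ne_one
      · exact h
    have hR01 : R 0 1 ≠ 0 := by
      intro h
      rw [h, mul_zero] at hPR
      exact zero_ne_one hPR
    have hP10 : P 1 0 ≠ 0 := by
      intro h
      rw [h, zero_mul] at hPR
      exact zero_ne_one hPR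
    refine ⟨Matrix.diagonal ![R 0 1, 1], Matrix.diagonal ![P 1 0, 1], hdetd _ hR01, hdetd _ hP10, Or.inr ?_⟩
    intro X
    rw [hφ X]
    ext i j
    rw [hent]
    fin_cases i <;> fin_cases j <;>
      simp [hP00, hP11, hR00, hR11, hP01, hR10]
    · linear_combination (-(X 0 0)) * hPR
    · ring
  · rw [hP10, zero_mul, add_zero] at hPR
    have hR01 : R 0 1 = 0 := by
      rcases mul_eq_zero.1 hRdet with h | h
      · exact h
      · rw [h, mul_zero] at hPR
        exact absurd hPR zero_ne_one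
    have hP01 : P 0 1 ≠ 0 := by
      intro h
      rw [h, zero_mul] at hPR
      exact zero_ne_one hPR
    have hR10 : R 1 0 ≠ 0 := by
      intro h
      rw [h, mul_zero] at hPR
      exact zero_ne_one hPR
    refine ⟨Matrix.diagonal ![P 0 1, 1], Matrix.diagonal ![R 1 0, 1], hdetd _ hP01, hdetd _ hR10, Or.inl ?_⟩
    intro X
    rw [hφ X]
    ext i j
    rw [hent]
    fin_cases i <;> fin_cases j <;>
      simp [hP00, hP11, hR00, hR11, hP10, hR01]
    · linear_combination (-(X 0 0)) * hPR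
    · ring

theorem pol_one (X : Matrix (Fin 2) (Fin 2) F) : pol X 1 = X.trace := by
  rw [pol_apply, Matrix.trace_fin_two]
  simp

/-- a matrix of trace 1 and determinant 0 is conjugate to `e₀₀` -/
theorem exists_conj_idem (E : Matrix (Fin 2) (Fin 2) F) (htr : E.trace = 1) (hdet : E.det = 0) :
    ∃ T : Matrix (Fin 2) (Fin 2) F, IsUnit T.det ∧ E * T = T * !![1, 0; 0, 0] := by
  rw [Matrix.trace_fin_two] at htr
  rw [Matrix.det_fin_two] at hdet
  by_cases ha : E 0 0 = 0
  · have hd : E 1 1 = 1 := by rw [ha, zero_add] at htr; exact htr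
    have hbc : E 0 1 * E 1 0 = 0 := by rw [ha, zero_mul, zero_sub, neg_eq_zero] at hdet; exact hdet
    by_cases hc : E 1 0 = 0
    · refine ⟨!![E 0 1, 1; 1, 0], ?_, ?_⟩
      · rw [Matrix.det_fin_two]
        simp
      · ext i j
        fin_cases i <;> fin_cases j <;> simp [Matrix.mul_apply, Fin.sum_univ_two, ha, hd, hc]
    · have hb : E 0 1 = 0 := by
        rcases mul_eq_zero.1 hbc with h | h
        · exact h
        · exact absurd h hc
      refine ⟨!![0, 1; E 1 0, -E 1 0], ?_, ?_⟩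
      · rw [Matrix.det_fin_two]
        simpa using hc
      · ext i j
        fin_cases i <;> fin_cases j <;> simp [Matrix.mul_apply, Fin.sum_univ_two, ha, hd, hb]
  · refine ⟨!![E 0 0, -E 0 1; E 1 0, E 0 0], ?_, ?_⟩
    · rw [Matrix.det_fin_two]
      have h1 : E 0 0 * E 0 0 - (-E 0 1) * E 1 0 = E 0 0 := by
        linear_combination (E 0 0) * htr - hdet
      simp only [Matrix.of_apply, Matrix.cons_val', Matrix.cons_val_zero, Matrix.cons_val_one,
        Matrix.cons_val_fin_one]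
      rw [h1]
      exact isUnit_iff_ne_zero.2 ha
    · ext i j
      fin_cases i <;> fin_cases j <;> simp [Matrix.mul_apply, Fin.sum_univ_two]
      · linear_combination (E 0 0) * htr - hdet
      · ring
      · linear_combination (E 1 0) * htr
      · linear_combination hdet

/-- **Structure of `GO₄⁺`**: the linear similarities of `det` on `M₂(F)`. -/
theorem det_similarity_structure (φ : Matrix (Fin 2) (Fin 2) F →ₗ[F] Matrix (Fin 2) (Fin 2) F) {μ : F}
    (hμ : μ ≠ 0) (hφ : ∀ X, (φ X).det = μ * X.det) :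
    ∃ A C : Matrix (Fin 2) (Fin 2) F, IsUnit A.det ∧ IsUnit C.det ∧
      ((∀ X, φ X = A * X * C) ∨ (∀ X, φ X = A * Xᵀ * C)) := by
  -- normalise `φ 1 = 1`
  set U := φ 1 with hU
  have hUdet : U.det = μ := by rw [hU, hφ, Matrix.det_one, mul_one]
  have hUu : IsUnit U.det := by rw [hUdet]; exact isUnit_iff_ne_zero.2 hμ
  set ψ : Matrix (Fin 2) (Fin 2) F →ₗ[F] Matrix (Fin 2) (Fin 2) F := (LinearMap.mulLeft F U⁻¹).comp φ with hψ
  have hψa : ∀ X, ψ X = U⁻¹ * φ X := fun X => rfl
  have hψdet : ∀ X, (ψ X).det = X.det := by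
    intro X
    rw [hψa, Matrix.det_mul, hφ, Matrix.det_nonsing_inv, hUdet, ← mul_assoc, Ring.inverse_eq_inv',
      inv_mul_cancel₀ hμ, one_mul]
  have hψ1 : ψ 1 = 1 := by rw [hψa, ← hU, Matrix.nonsing_inv_mul _ hUu]
  -- normalise `ψ e₀₀ = e₀₀`
  set E := ψ !![1, 0; 0, 0] with hE
  have hEtr : E.trace = 1 := by
    have h1 := pol_map ψ hψdet !![1, 0; 0, 0] 1
    rw [hψ1, pol_one, pol_one, ← hE] at h1
    rw [h1, Matrix.trace_fin_two]
    simp
  have hEdet : E.det = 0 := by
    rw [hE, hψdet, Matrix.det_fin_two]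
    simp
  obtain ⟨T, hTu, hT⟩ := exists_conj_idem E hEtr hEdet
  set χ : Matrix (Fin 2) (Fin 2) F →ₗ[F] Matrix (Fin 2) (Fin 2) F :=
    (LinearMap.mulLeft F T⁻¹).comp ((LinearMap.mulRight F T).comp ψ) with hχ
  have hχa : ∀ X, χ X = T⁻¹ * (ψ X * T) := fun X => rfl
  have hχdet : ∀ X, (χ X).det = X.det := by
    intro X
    rw [hχa, Matrix.det_mul, Matrix.det_mul, hψdet, Matrix.det_nonsing_inv, Ring.inverse_eq_inv']
    have hT0 : T.det ≠ 0 := isUnit_iff_ne_zero.1 hTu
    field_simp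
  have hχ1 : χ 1 = 1 := by rw [hχa, hψ1, one_mul, Matrix.nonsing_inv_mul _ hTu]
  have hχE : χ !![1, 0; 0, 0] = !![1, 0; 0, 0] := by
    rw [hχa, ← hE, hT, ← Matrix.mul_assoc, Matrix.nonsing_inv_mul _ hTu, one_mul]
  obtain ⟨A, C, hA, hC, hAC⟩ := normalized χ hχdet hχ1 hχE
  have hback : ∀ X, φ X = U * (T * χ X * T⁻¹) := by
    intro X
    rw [hχa, hψa]
    have e1 : T * (T⁻¹ * (U⁻¹ * φ X * T)) * T⁻¹ = U⁻¹ * φ X := by
      rw [← Matrix.mul_assoc T, Matrix.mul_nonsing_inv _ hTu, one_mul, Matrix.mul_assoc,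
        Matrix.mul_nonsing_inv _ hTu, mul_one]
    rw [e1, ← Matrix.mul_assoc, Matrix.mul_nonsing_inv _ hUu, one_mul]
  have hTinv : IsUnit (T⁻¹).det := by
    rw [Matrix.det_nonsing_inv, Ring.inverse_eq_inv']
    exact isUnit_iff_ne_zero.2 (inv_ne_zero (isUnit_iff_ne_zero.1 hTu))
  refine ⟨U * T * A, C * T⁻¹, ?_, ?_, ?_⟩
  · rw [Matrix.det_mul, Matrix.det_mul]
    exact (hUu.mul hTu).mul hA
  · rw [Matrix.det_mul]
    exact hC.mul hTinv
  · rcases hAC with h | h
    · left
      intro X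
      rw [hback, h]
      simp only [Matrix.mul_assoc]
    · right
      intro X
      rw [hback, h]
      simp only [Matrix.mul_assoc]

end Cfsg.Agent.Helper4.GO4
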