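import Mathlib
import Cfsg.Agent.Helper4.GO4A

/-!
# `GO₄⁺` in Kronecker form

`go4_kron`: a matrix `B` on `F² ⊗ F²` with `Bᵀ (J ⊗ J) B = μ (J ⊗ J)` (`2 ≠ 0`, `μ ≠ 0`) is `A ⊗ C` or `(A ⊗ C) · swap`.
-/

set_option autoImplicit false

namespace Cfsg.Agent.Helper4.GO4

open Matrix
open scoped Kronecker

variable {F : Type*} [Field F]

/-- the standard alternating Gram matrix on `F²` -/
def J2 : Matrix (Fin 2) (Fin 2) F := !![0, 1; -1, 0]

/-- the swap of the two tensor factors of `F² ⊗ F²` -/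
def swapK : Matrix (Fin 2 × Fin 2) (Fin 2 × Fin 2) F := fun p r => if r = p.swap then 1 else 0

theorem swapK_mulVec (x : Fin 2 × Fin 2 → F) (p : Fin 2 × Fin 2) : (swapK *ᵥ x) p = x p.swap := by
  unfold swapK Matrix.mulVec dotProduct
  rw [Finset.sum_eq_single p.swap]
  · simp
  · intro b _ hb
    simp [hb]
  · intro h
    exact absurd (Finset.mem_univ _) h

theorem swapK_mul_swapK : (swapK : Matrix (Fin 2 × Fin 2) (Fin 2 × Fin 2) F) * swapK = 1 := by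
  apply Matrix.toLin'.injective
  apply LinearMap.ext
  intro x
  rw [Matrix.toLin'_apply, Matrix.toLin'_apply, ← Matrix.mulVec_mulVec, Matrix.one_mulVec]
  funext p
  rw [swapK_mulVec, swapK_mulVec, Prod.swap_swap]

/-- vectors on `Fin 2 × Fin 2` as 2×2 matrices -/
def vecM : (Fin 2 × Fin 2 → F) ≃ₗ[F] Matrix (Fin 2) (Fin 2) F where
  toFun x := Matrix.of fun i j => x (i, j)
  map_add' x y := by ext i j; rfl
  map_smul' c x := by ext i j; rfl
  invFun X := fun p => X p.1 p.2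
  left_inv x := by funext p; rfl
  right_inv X := by ext i j; rfl

theorem vecM_apply (x : Fin 2 × Fin 2 → F) (i j : Fin 2) : vecM x i j = x (i, j) := rfl

theorem vecM_symm_apply (X : Matrix (Fin 2) (Fin 2) F) (p : Fin 2 × Fin 2) : vecM.symm X p = X p.1 p.2 := rfl

/-- `xᵀ (J ⊗ J) x = 2 det X` -/
theorem quad_JJ (x : Fin 2 × Fin 2 → F) :
    x ⬝ᵥ ((J2 ⊗ₖ J2 : Matrix (Fin 2 × Fin 2) (Fin 2 × Fin 2) F) *ᵥ x) = 2 * (vecM x).det := by
  rw [Matrix.det_fin_two]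
  simp only [dotProduct, Matrix.mulVec, Fintype.sum_prod_type, Fin.sum_univ_two, Matrix.kroneckerMap_apply,
    J2, vecM_apply]
  simp
  ring

/-- the action of `A ⊗ Cᵀ` is `X ↦ A X C` -/
theorem kron_mulVec (A C : Matrix (Fin 2) (Fin 2) F) (x : Fin 2 × Fin 2 → F) :
    (A ⊗ₖ Cᵀ : Matrix (Fin 2 × Fin 2) (Fin 2 × Fin 2) F) *ᵥ x = vecM.symm (A * vecM x * C) := by
  funext p
  obtain ⟨i, j⟩ := p
  rw [vecM_symm_apply]
  simp only [Matrix.mulVec, dotProduct, Fintype.sum_prod_type, Fin.sum_univ_two, Matrix.kroneckerMap_apply,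
    Matrix.mul_apply, Matrix.transpose_apply, vecM_apply]
  ring

theorem vecM_swap (x : Fin 2 × Fin 2 → F) : vecM (swapK *ᵥ x) = (vecM x)ᵀ := by
  ext i j
  rw [vecM_apply, swapK_mulVec, Matrix.transpose_apply, vecM_apply]
  rfl

/-- **`GO₄⁺` in Kronecker form** -/
theorem go4_kron (h2 : (2 : F) ≠ 0) (B : Matrix (Fin 2 × Fin 2) (Fin 2 × Fin 2) F) {μ : F} (hμ : μ ≠ 0)
    (hB : Bᵀ * (J2 ⊗ₖ J2) * B = μ • (J2 ⊗ₖ J2 : Matrix (Fin 2 × Fin 2) (Fin 2 × Fin 2) F)) :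
    ∃ A C : Matrix (Fin 2) (Fin 2) F, IsUnit A.det ∧ IsUnit C.det ∧
      (B = A ⊗ₖ C ∨ B = (A ⊗ₖ C) * swapK) := by
  -- the induced map on 2×2 matrices
  set φ : Matrix (Fin 2) (Fin 2) F →ₗ[F] Matrix (Fin 2) (Fin 2) F :=
    (vecM : (Fin 2 × Fin 2 → F) ≃ₗ[F] Matrix (Fin 2) (Fin 2) F).toLinearMap.comp
      ((Matrix.toLin' B).comp (vecM : (Fin 2 × Fin 2 → F) ≃ₗ[F] Matrix (Fin 2) (Fin 2) F).symm.toLinearMap)
    with hφ
  have hφa : ∀ X, φ X = vecM (B *ᵥ vecM.symm X) := fun X => rfl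
  have hdet : ∀ X, (φ X).det = μ * X.det := by
    intro X
    have h1 := quad_JJ (B *ᵥ vecM.symm X)
    have h3 : (B *ᵥ vecM.symm X) ⬝ᵥ ((J2 ⊗ₖ J2 : Matrix (Fin 2 × Fin 2) (Fin 2 × Fin 2) F) *ᵥ
        (B *ᵥ vecM.symm X)) = μ * (vecM.symm X ⬝ᵥ ((J2 ⊗ₖ J2 : Matrix (Fin 2 × Fin 2) (Fin 2 × Fin 2) F) *ᵥ
          vecM.symm X)) := by
      have h0 : ∀ x w : Fin 2 × Fin 2 → F, (B *ᵥ x) ⬝ᵥ w = x ⬝ᵥ (Bᵀ *ᵥ w) := by
        intro x w
        rw [Matrix.dotProduct_mulVec, Matrix.vecMul_transpose]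
      rw [h0, Matrix.mulVec_mulVec, Matrix.mulVec_mulVec, hB, Matrix.smul_mulVec,
        dotProduct_smul, smul_eq_mul]
    rw [h3, quad_JJ, LinearEquiv.apply_symm_apply] at h1
    rw [hφa]
    have h4 : (2 : F) * (vecM (B *ᵥ vecM.symm X)).det = 2 * (μ * X.det) := by
      rw [← h1]; ring
    exact mul_left_cancel₀ h2 h4
  obtain ⟨A, C, hA, hC, hAC⟩ := det_similarity_structure φ hμ hdet
  have hCt : IsUnit Cᵀ.det := by rw [Matrix.det_transpose]; exact hC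
  refine ⟨A, Cᵀ, hA, hCt, ?_⟩
  rcases hAC with h | h
  · left
    apply Matrix.toLin'.injective
    apply LinearMap.ext
    intro x
    rw [Matrix.toLin'_apply, Matrix.toLin'_apply, kron_mulVec]
    have h5 := h (vecM x)
    rw [hφa, LinearEquiv.symm_apply_apply] at h5
    rw [← h5, LinearEquiv.symm_apply_apply]
  · right
    apply Matrix.toLin'.injective
    apply LinearMap.ext
    intro x
    rw [Matrix.toLin'_apply, Matrix.toLin'_apply, ← Matrix.mulVec_mulVec, kron_mulVec, vecM_swap]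
    have h5 := h (vecM x)
    rw [hφa, LinearEquiv.symm_apply_apply] at h5
    rw [← h5, LinearEquiv.symm_apply_apply]

end Cfsg.Agent.Helper4.GO4
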