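import Mathlib
import Cfsg.Prelude.Def_GeometricClasses
import Cfsg.Agent.Helper4.GO4B
import Cfsg.Agent.Helper4.AschTIE
import Cfsg.Agent.Helper5.AschGramForm
import Cfsg.Agent.Helper5.AschCUT3
import Cfsg.Agent.Helper5.AschOm3X4B
import Cfsg.Agent.Helper7.TnSpB

/-!
# ASCH-PP-Sp, `Sp_8(q)` (S5823), piece F1 (helper4): `Sp_2 ⊗ O_4^+` refines to a tensor cube

A tensor structure `2 ⊗ 4` of a symplectic form whose second factor is a symmetric form of plus type (`q` odd) refines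
to a tensor-cube structure `2 ⊗ 2 ⊗ 2`: the four-dimensional factor is `F^2 ⊗ F^2` with the form `½ (J ⊗ J)` (helper5's
`exists_hyp_frame`), its similarities are Kronecker products up to the swap of the two factors (`go4_kron`), so an
isometry `a ⊗ b` is a pure tensor `a ⊗ A ⊗ C` or that times the factor permutation `(1 2)`.
-/

set_option autoImplicit false
set_option linter.style.haveILetI false
set_option linter.unusedSectionVars false
set_option linter.unusedVariables false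
set_option linter.unnecessarySeqFocus false

namespace Cfsg.Agent.Helper4.AschSp8

open Cfsg Cfsg.Geo Cfsg.Agent.Helper5.GramForm Cfsg.Agent.Helper5.AschCU
  Cfsg.Agent.Helper9.AschComp
open scoped MatrixGroups Matrix Kronecker

variable {F : Type*} [Field F]

/-- the index bijection `Fin 2 × Fin 4 ≃ (Fin 3 → Fin 2)` through `s : Fin 4 ≃ Fin 2 × Fin 2` -/
def cube (s : Fin 4 ≃ Fin 2 × Fin 2) : Fin 2 × Fin 4 ≃ (Fin 3 → Fin 2) where
  toFun p := ![p.1, (s p.2).1, (s p.2).2]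
  invFun x := (x 0, s.symm (x 1, x 2))
  left_inv p := by simp
  right_inv x := by
    funext i
    fin_cases i <;> simp

theorem cube_apply (s : Fin 4 ≃ Fin 2 × Fin 2) (p : Fin 2 × Fin 4) :
    cube s p = ![p.1, (s p.2).1, (s p.2).2] := rfl

theorem mul_swapK_apply (M : Matrix (Fin 2 × Fin 2) (Fin 2 × Fin 2) F) (p q : Fin 2 × Fin 2) :
    (M * (Cfsg.Agent.Helper4.GO4.swapK : Matrix (Fin 2 × Fin 2) (Fin 2 × Fin 2) F)) p q = M p q.swap := by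
  rw [Matrix.mul_apply, Finset.sum_eq_single q.swap]
  · unfold Cfsg.Agent.Helper4.GO4.swapK
    rw [if_pos (by rw [Prod.swap_swap]), mul_one]
  · intro r _ hr
    unfold Cfsg.Agent.Helper4.GO4.swapK
    rw [if_neg, mul_zero]
    intro h
    apply hr
    rw [h, Prod.swap_swap]
  · intro h
    exact absurd (Finset.mem_univ _) h

/-- the Gram matrix of a symplectic form on `F^2` is a non-zero multiple of `J` -/
theorem gram_symp_two {f₁ : (Fin 2 → F) → (Fin 2 → F) → F} (h₁ : IsSymplecticForm f₁) :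
    ∃ γ : F, γ ≠ 0 ∧ gramMatrix f₁ = γ • (Cfsg.Agent.Helper4.GO4.J2 : Matrix (Fin 2) (Fin 2) F) := by
  have hne : gramMatrix f₁ ≠ 0 := Cfsg.Agent.Helper7.TnSp.gram_ne_zero f₁ h₁.bilinear h₁.nondegenerate
  have h00 : gramMatrix f₁ 0 0 = 0 := h₁.alternating _
  have h11 : gramMatrix f₁ 1 1 = 0 := h₁.alternating _
  have h10 : gramMatrix f₁ 1 0 = - gramMatrix f₁ 0 1 := h₁.skew _ _
  refine ⟨gramMatrix f₁ 0 1, ?_, ?_⟩
  · intro h0
    apply hne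
    ext i j
    fin_cases i <;> fin_cases j
    · exact h00
    · exact h0
    · show gramMatrix f₁ 1 0 = 0
      rw [h10, h0, neg_zero]
    · exact h11
  · ext i j
    fin_cases i <;> fin_cases j
    · show gramMatrix f₁ 0 0 = _
      rw [h00]
      simp [Cfsg.Agent.Helper4.GO4.J2]
    · show gramMatrix f₁ 0 1 = _
      simp [Cfsg.Agent.Helper4.GO4.J2]
    · show gramMatrix f₁ 1 0 = _
      rw [h10]
      simp [Cfsg.Agent.Helper4.GO4.J2]
    · show gramMatrix f₁ 1 1 = _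
      rw [h11]
      simp [Cfsg.Agent.Helper4.GO4.J2]

/-- **F1** of ASCH-PP-Sp (`Sp_8`), exact stub of `notes/helper6_aschPPSp8_stubs.lean.txt` -/
theorem tensor_Sp2_O4plus {ι : Type} [Fintype ι] [DecidableEq ι] {F : Type*} [Field F] [Fintype F]
    (hodd : Odd (Fintype.card F)) (f : (ι → F) → (ι → F) → F) (hf : IsSymplecticForm f)
    (e : ι ≃ Fin 2 × Fin 4) (P : GL ι F)
    (f₁ : (Fin 2 → F) → (Fin 2 → F) → F) (f₂ : (Fin 4 → F) → (Fin 4 → F) → F)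
    (h₁ : IsSymplecticForm f₁) (h₂ : IsSymmetricForm f₂)
    (hplus : IsPlusTypeOn (fun v : Fin 4 → F => f₂ v v) ⊤)
    (hT : IsTensorFormStructure id f f₁ f₂ e P) :
    ∃ (e' : ι ≃ (Fin 3 → Fin 2)) (P' : GL ι F) (g : (Fin 2 → F) → (Fin 2 → F) → F),
      IsSymplecticForm g ∧ IsTensorPowerFormStructure id f g e' P' ∧
      ∀ H : Subgroup (GL ι F), FixesForm (matrixSet H) f → H ≤ tensorProductSubgroup 2 4 e P →
        H ≤ tensorWreathSubgroup 2 3 e' P' := by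
  classical
  have h2 : (2 : F) ≠ 0 := two_ne_zero_of_odd_card hodd
  obtain ⟨c, hc, hform⟩ := hT
  obtain ⟨s⟩ : Nonempty (Fin 4 ≃ Fin 2 × Fin 2) := ⟨(finProdFinEquiv (m := 2) (n := 2)).symm⟩
  obtain ⟨V, hVdet, hVgram⟩ := Cfsg.Agent.Helper5.GO4.exists_hyp_frame h2 f₂ h₂ hplus s
  obtain ⟨γ, hγ, hG₁γ⟩ := gram_symp_two h₁
  obtain ⟨G₁, hG₁⟩ : ∃ G₁, G₁ = gramMatrix f₁ := ⟨_, rfl⟩
  obtain ⟨G₂, hG₂⟩ : ∃ G₂, G₂ = gramMatrix f₂ := ⟨_, rfl⟩
  obtain ⟨J, hJ⟩ : ∃ J : Matrix (Fin 2) (Fin 2) F, J = Cfsg.Agent.Helper4.GO4.J2 := ⟨_, rfl⟩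
  have hJalt : Cfsg.Agent.Helper5.GO4.Jalt F = J := by rw [hJ]; rfl
  obtain ⟨JJs, hJJs⟩ : ∃ JJs, JJs = (J ⊗ₖ J).submatrix s s := ⟨_, rfl⟩
  rw [← hG₁, ← hG₂] at hform
  rw [← hG₁, ← hJ] at hG₁γ
  rw [← hG₂, hJalt, ← hJJs] at hVgram
  have hJT : Jᵀ = -J := by rw [← hJalt]; exact Cfsg.Agent.Helper5.GO4.Jalt_transpose
  have hJdet : J.det = 1 := by rw [← hJalt]; exact Cfsg.Agent.Helper5.GO4.Jalt_det
  have hG₁ne : G₁ ≠ 0 := by
    rw [hG₁]
    exact Cfsg.Agent.Helper7.TnSp.gram_ne_zero f₁ h₁.bilinear h₁.nondegenerate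
  have hG₂ne : G₂ ≠ 0 := by
    rw [hG₂]
    exact Cfsg.Agent.Helper7.TnSp.gram_ne_zero f₂ h₂.bilinear h₂.nondegenerate
  have hm : ∀ {κ : Type} [Fintype κ] (M : Matrix κ κ F), M.map (RingHom.id F) = M := by
    intro κ _ M
    ext i j
    rfl
  -- the inverse of `V`
  obtain ⟨V', hV'⟩ : ∃ V' : Matrix (Fin 4) (Fin 4) F, V' = V⁻¹ := ⟨_, rfl⟩
  have hVV' : V * V' = 1 := by
    rw [hV']
    exact Matrix.mul_nonsing_inv V (isUnit_iff_ne_zero.mpr hVdet)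
  have hV'V : V' * V = 1 := by
    rw [hV']
    exact Matrix.nonsing_inv_mul V (isUnit_iff_ne_zero.mpr hVdet)
  obtain ⟨VG, hVG, hVGi⟩ : ∃ VG : GL (Fin 4) F, (VG : Matrix (Fin 4) (Fin 4) F) = V ∧
      ((VG⁻¹ : GL (Fin 4) F) : Matrix (Fin 4) (Fin 4) F) = V' := ⟨⟨V, V', hVV', hV'V⟩, rfl, rfl⟩
  obtain ⟨K₀, hK₀⟩ : ∃ K₀ : GL (Fin 2 × Fin 4) F, K₀ = kronGL 1 VG := ⟨_, rfl⟩
  have hK₀v : (K₀ : Matrix (Fin 2 × Fin 4) (Fin 2 × Fin 4) F) = (1 : Matrix (Fin 2) (Fin 2) F) ⊗ₖ V := by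
    rw [hK₀, kronGL_val, Units.val_one, hVG]
  have hK₀i : ((K₀⁻¹ : GL (Fin 2 × Fin 4) F) : Matrix (Fin 2 × Fin 4) (Fin 2 × Fin 4) F) =
      (1 : Matrix (Fin 2) (Fin 2) F) ⊗ₖ V' := by
    rw [hK₀]
    show (((1 : GL (Fin 2) F)⁻¹ : GL (Fin 2) F) : Matrix (Fin 2) (Fin 2) F) ⊗ₖ
      ((VG⁻¹ : GL (Fin 4) F) : Matrix (Fin 4) (Fin 4) F) = _
    rw [inv_one, Units.val_one, hVGi]
  obtain ⟨ρ, hρ⟩ : ∃ ρ : Fin 2 × Fin 4 ≃ (Fin 3 → Fin 2), ρ = cube s := ⟨_, rfl⟩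
  have hρa : ∀ p, ρ p = ![p.1, (s p.2).1, (s p.2).2] := by
    intro p
    rw [hρ]
    rfl
  obtain ⟨P', hP'⟩ : ∃ P' : GL ι F, P' = P * glReindex e.symm K₀ := ⟨_, rfl⟩
  -- the standard alternating form
  have hJu : IsUnit J.det := by rw [hJdet]; exact isUnit_one
  have hg : IsSymplecticForm (formOfGram id J) := isSymplecticForm_formOfGram h2 hJu hJT
  have hgr : gramMatrix (formOfGram id J) = J := by
    ext a b
    exact formOfGram_single (RingHom.id F) J a b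
  -- the action of `P'`
  have hx : ∀ x : (Fin 3 → Fin 2) → F, (P' : Matrix ι ι F) *ᵥ (x ∘ (e.trans ρ)) =
      (P : Matrix ι ι F) *ᵥ
        (((K₀ : Matrix (Fin 2 × Fin 4) (Fin 2 × Fin 4) F) *ᵥ (x ∘ ρ)) ∘ e) := by
    intro x
    rw [hP', Units.val_mul, ← Matrix.mulVec_mulVec]
    congr 1
    exact glReindex_mulVec e K₀ (x ∘ ρ)
  have hconj : ((1 : Matrix (Fin 2) (Fin 2) F) ⊗ₖ V)ᵀ * (G₁ ⊗ₖ G₂) * ((1 : Matrix (Fin 2) (Fin 2) F) ⊗ₖ V) =
      G₁ ⊗ₖ ((2⁻¹ : F) • JJs) := by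
    have h3 := kron_gram_conj (RingHom.id F) (1 : Matrix (Fin 2) (Fin 2) F) G₁ V G₂
    rw [hm, hm, hm, Matrix.transpose_one, Matrix.one_mul, Matrix.mul_one, hVgram] at h3
    exact h3
  -- the form in the new structure
  have hform' : ∀ x y : (Fin 3 → Fin 2) → F,
      f ((P' : Matrix ι ι F) *ᵥ (x ∘ (e.trans ρ))) ((P' : Matrix ι ι F) *ᵥ (y ∘ (e.trans ρ))) =
        c * (γ * 2⁻¹) * ∑ a, ∑ b, x a * (∏ i, J (a i) (b i)) * id (y b) := by
    intro x y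
    rw [hx, hx, hform, mul_assoc]
    congr 1
    have h3 := formOfGram_mulVec (RingHom.id F) (G₁ ⊗ₖ G₂)
      (K₀ : Matrix (Fin 2 × Fin 4) (Fin 2 × Fin 4) F) (x ∘ ρ) (y ∘ ρ)
    rw [hm, hK₀v, hconj] at h3
    rw [hK₀v]
    refine Eq.trans h3 ?_
    show formOfGram id (G₁ ⊗ₖ ((2⁻¹ : F) • JJs)) (x ∘ ρ) (y ∘ ρ) = _
    unfold formOfGram
    rw [Finset.mul_sum, ← Equiv.sum_comp ρ]
    apply Finset.sum_congr rfl
    intro p _
    rw [Finset.mul_sum, ← Equiv.sum_comp ρ]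
    apply Finset.sum_congr rfl
    intro p' _
    have e1 : (G₁ ⊗ₖ ((2⁻¹ : F) • JJs)) p p' = (γ * 2⁻¹) * ∏ i, J (ρ p i) (ρ p' i) := by
      rw [Fin.prod_univ_three, hρa, hρa, hJJs, hG₁γ]
      simp only [Matrix.kroneckerMap_apply, Matrix.smul_apply, Matrix.submatrix_apply, smul_eq_mul,
        Matrix.cons_val_zero, Matrix.cons_val_one, Matrix.cons_val_two, Matrix.head_cons, Matrix.tail_cons]
      ring
    simp only [Function.comp_apply, id]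
    rw [e1]
    ring
  refine ⟨e.trans ρ, P', formOfGram id J, hg,
    ⟨c * (γ * 2⁻¹), mul_ne_zero hc (mul_ne_zero hγ (inv_ne_zero h2)), fun x y => by rw [hgr]; exact hform' x y⟩, ?_⟩
  -- the group
  intro H hHf hle h hh
  have hfix : ∀ u v, f ((h : Matrix ι ι F) *ᵥ u) ((h : Matrix ι ι F) *ᵥ v) = f u v :=
    fun u v => hHf _ ⟨h, hh, rfl⟩ u v
  have hmem := hle hh
  unfold tensorProductSubgroup at hmem
  rw [Subgroup.mem_map] at hmem
  obtain ⟨g', hg', hg'h⟩ := hmem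
  rw [Subgroup.mem_map] at hg'
  obtain ⟨k, ⟨a, b, hk⟩, hkg'⟩ := hg'
  have hh' : h = P * glReindex e.symm k * P⁻¹ := by
    rw [← hg'h, ← hkg']
    rfl
  have hact : ∀ x : Fin 2 × Fin 4 → F, (h : Matrix ι ι F) *ᵥ
      ((P : Matrix ι ι F) *ᵥ (x ∘ e)) =
      (P : Matrix ι ι F) *ᵥ
        (((k : Matrix (Fin 2 × Fin 4) (Fin 2 × Fin 4) F) *ᵥ x) ∘ e) := by
    intro x
    rw [hh', Matrix.mulVec_mulVec, ← Units.val_mul, inv_mul_cancel_right, Units.val_mul, ← Matrix.mulVec_mulVec]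
    congr 1
    exact glReindex_mulVec e k x
  have hpres : ((a : Matrix (Fin 2) (Fin 2) F) ⊗ₖ (b : Matrix (Fin 4) (Fin 4) F))ᵀ * (G₁ ⊗ₖ G₂) *
      ((a : Matrix (Fin 2) (Fin 2) F) ⊗ₖ (b : Matrix (Fin 4) (Fin 4) F)) = G₁ ⊗ₖ G₂ := by
    rw [← hk]
    apply Cfsg.Agent.Helper7.TnSp.matrix_eq_of_forall_dot
    intro u v
    rw [Cfsg.Agent.Helper7.TnSp.dot_transpose_mul_mul, ← Cfsg.Agent.Helper7.TnSp.formOfGram_id,
      ← Cfsg.Agent.Helper7.TnSp.formOfGram_id]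
    apply mul_left_cancel₀ hc
    rw [← hform, ← hform, ← hact, ← hact, hfix]
  have h2' : ((a : Matrix (Fin 2) (Fin 2) F)ᵀ * G₁ * (a : Matrix (Fin 2) (Fin 2) F)) ⊗ₖ
      ((b : Matrix (Fin 4) (Fin 4) F)ᵀ * G₂ * (b : Matrix (Fin 4) (Fin 4) F)) = G₁ ⊗ₖ G₂ := by
    rw [← hpres, Matrix.mul_kronecker_mul, Matrix.mul_kronecker_mul, Matrix.kroneckerMap_transpose]
  obtain ⟨ν, hν, hA, hB⟩ := Cfsg.Agent.Helper7.TnSp.kron_factor _ _ _ _ h2' hG₁ne hG₂ne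
  -- the second factor in the hyperbolic frame
  obtain ⟨b', hb'⟩ : ∃ b' : Matrix (Fin 4) (Fin 4) F, b' = V' * (b : Matrix (Fin 4) (Fin 4) F) * V := ⟨_, rfl⟩
  have hb'sim : b'ᵀ * JJs * b' = ν⁻¹ • JJs := by
    have h3 : b'ᵀ * (Vᵀ * G₂ * V) * b' = ν⁻¹ • (Vᵀ * G₂ * V) := by
      rw [hb']
      calc (V' * (b : Matrix (Fin 4) (Fin 4) F) * V)ᵀ * (Vᵀ * G₂ * V) * (V' * (b : Matrix (Fin 4) (Fin 4) F) * V)
          = Vᵀ * ((b : Matrix (Fin 4) (Fin 4) F)ᵀ * ((V * V')ᵀ * G₂ * (V * V')) *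
              (b : Matrix (Fin 4) (Fin 4) F)) * V := by
            simp only [Matrix.transpose_mul, Matrix.mul_assoc]
        _ = Vᵀ * ((b : Matrix (Fin 4) (Fin 4) F)ᵀ * G₂ * (b : Matrix (Fin 4) (Fin 4) F)) * V := by
            rw [hVV', Matrix.transpose_one, Matrix.one_mul, Matrix.mul_one]
        _ = ν⁻¹ • (Vᵀ * G₂ * V) := by
            rw [hB, Matrix.mul_smul, Matrix.smul_mul]
    rw [hVgram, Matrix.mul_smul, Matrix.smul_mul, smul_comm] at h3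
    exact smul_right_injective _ (inv_ne_zero h2) h3
  obtain ⟨b'', hb''⟩ : ∃ b'' : Matrix (Fin 2 × Fin 2) (Fin 2 × Fin 2) F, b'' = b'.submatrix s.symm s.symm :=
    ⟨_, rfl⟩
  have hb'eq : b' = b''.submatrix s s := by
    rw [hb'']
    ext i j
    simp
  have hb''sim : b''ᵀ * (J ⊗ₖ J) * b'' = ν⁻¹ • (J ⊗ₖ J) := by
    have h3 : (b''ᵀ * (J ⊗ₖ J) * b'').submatrix s s = (ν⁻¹ • (J ⊗ₖ J)).submatrix s s := by
      rw [← Matrix.submatrix_mul_equiv _ _ _ s, ← Matrix.submatrix_mul_equiv _ _ _ s,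
        ← Matrix.transpose_submatrix, ← hb'eq, ← hJJs, hb'sim, hJJs, Matrix.submatrix_smul]
      rfl
    have h4 := congrArg (fun M => M.submatrix s.symm s.symm) h3
    simpa using h4
  rw [hJ] at hb''sim
  obtain ⟨A, C, hA', hC', hAC⟩ := Cfsg.Agent.Helper4.GO4.go4_kron h2 b'' (inv_ne_zero hν) hb''sim
  obtain ⟨AG, hAG⟩ : ∃ AG : GL (Fin 2) F, (AG : Matrix (Fin 2) (Fin 2) F) = A :=
    ⟨Matrix.GeneralLinearGroup.mkOfDetNeZero A hA'.ne_zero, rfl⟩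
  obtain ⟨CG, hCG⟩ : ∃ CG : GL (Fin 2) F, (CG : Matrix (Fin 2) (Fin 2) F) = C :=
    ⟨Matrix.GeneralLinearGroup.mkOfDetNeZero C hC'.ne_zero, rfl⟩
  obtain ⟨w₀, hw₀⟩ : ∃ w₀ : GL (Fin 3 → Fin 2) F, w₀ = Cfsg.Agent.Helper4.AschTI.ptensGL ![a, AG, CG] := ⟨_, rfl⟩
  have hw₀m : w₀ ∈ tensorWreathStandard 2 3 F := by
    rw [hw₀]
    exact Subgroup.subset_closure (Or.inl (Cfsg.Agent.Helper4.AschTI.ptensGL_isPureTensor _))
  have hw₀a : ∀ x y : Fin 3 → Fin 2, (w₀ : Matrix (Fin 3 → Fin 2) (Fin 3 → Fin 2) F) x y =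
      (a : Matrix (Fin 2) (Fin 2) F) (x 0) (y 0) * A (x 1) (y 1) * C (x 2) (y 2) := by
    intro x y
    rw [hw₀, Cfsg.Agent.Helper4.AschTI.ptensGL_val, Cfsg.Agent.Helper4.AschTI.ptens_apply, Fin.prod_univ_three,
      ← hAG, ← hCG]
    rfl
  -- it suffices to find the element of the standard wreath group
  have hsuff : ∀ w : GL (Fin 3 → Fin 2) F, w ∈ tensorWreathStandard 2 3 F →
      glReindex ρ.symm w = K₀⁻¹ * k * K₀ → h ∈ tensorWreathSubgroup 2 3 (e.trans ρ) P' := by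
    intro w hw hkey
    unfold tensorWreathSubgroup
    rw [Subgroup.mem_map]
    refine ⟨glReindex (e.trans ρ).symm w, ?_, ?_⟩
    · rw [Subgroup.mem_map]
      exact ⟨w, hw, rfl⟩
    · show P' * glReindex (e.trans ρ).symm w * P'⁻¹ = h
      have h3 : glReindex (e.trans ρ).symm w = glReindex e.symm (glReindex ρ.symm w) := by
        apply Units.ext
        ext i j
        rw [glReindex_apply, glReindex_apply, glReindex_apply]
        simp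
      rw [h3, hkey, hP', hh', map_mul, map_mul, map_inv]
      group
  have hkk : ((K₀⁻¹ * k * K₀ : GL (Fin 2 × Fin 4) F) : Matrix (Fin 2 × Fin 4) (Fin 2 × Fin 4) F) =
      (a : Matrix (Fin 2) (Fin 2) F) ⊗ₖ b' := by
    rw [Units.val_mul, Units.val_mul, hK₀i, hK₀v, hk, ← Matrix.mul_kronecker_mul, ← Matrix.mul_kronecker_mul,
      Matrix.one_mul, Matrix.mul_one, ← hb']
  have hb'a : ∀ i j, b' i j = b'' (s i) (s j) := by
    intro i j
    rw [hb'eq]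
    rfl
  rcases hAC with hAC | hAC
  · -- a pure tensor
    apply hsuff w₀ hw₀m
    apply Units.ext
    rw [hkk]
    ext p p'
    rw [glReindex_apply, Equiv.symm_symm, hw₀a, hρa, hρa, Matrix.kroneckerMap_apply, hb'a, hAC,
      Matrix.kroneckerMap_apply]
    simp only [Matrix.cons_val_zero, Matrix.cons_val_one, Matrix.cons_val_two, Matrix.head_cons, Matrix.tail_cons]
    ring
  · -- a pure tensor times the factor permutation `(1 2)`
    obtain ⟨σ, hσ⟩ : ∃ σ : Equiv.Perm (Fin 3), σ = Equiv.swap 1 2 := ⟨_, rfl⟩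
    apply hsuff (w₀ * Cfsg.Agent.Helper4.AschTI.fpermGL σ)
      ((tensorWreathStandard 2 3 F).mul_mem hw₀m
        (Subgroup.subset_closure (Or.inr (Cfsg.Agent.Helper4.AschTI.fpermGL_isFactorPermutation σ))))
    apply Units.ext
    rw [hkk]
    ext p p'
    rw [glReindex_apply, Equiv.symm_symm, Units.val_mul]
    show ((w₀ : Matrix (Fin 3 → Fin 2) (Fin 3 → Fin 2) F) *
      (Cfsg.Agent.Helper4.AschTI.fperm σ : Matrix (Fin 3 → Fin 2) (Fin 3 → Fin 2) F)) (ρ p) (ρ p') = _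
    rw [Cfsg.Agent.Helper4.AschTI.mul_fperm_apply, hw₀a, Matrix.kroneckerMap_apply, hb'a, hAC, mul_swapK_apply,
      Matrix.kroneckerMap_apply, hρa, hρa]
    have hs0 : σ.symm 0 = 0 := by rw [hσ]; decide
    have hs1 : σ.symm 1 = 2 := by rw [hσ]; decide
    have hs2 : σ.symm 2 = 1 := by rw [hσ]; decide
    simp only [Function.comp_apply, hs0, hs1, hs2, Matrix.cons_val_zero, Matrix.cons_val_one, Matrix.cons_val_two,
      Matrix.head_cons, Matrix.tail_cons, Prod.fst_swap, Prod.snd_swap]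
    ring

end Cfsg.Agent.Helper4.AschSp8
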