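import Cfsg.Agent.Helper4.IndexND

/-!
# Automorphism groups of alternating groups, part A

* `p`-subgroups of the symmetric group of degree `n < p ^ 2` are commutative;
* the alternating group of degree `n ≥ q ^ 2` has an element of order `p q` for primes `p < q`.
-/

set_option autoImplicit false

namespace Cfsg.Agent.Helper4.AutAlt

open Equiv MulAction
open Cfsg.Agent.Helper4.IndexN

section

variable {Ω : Type*} [Fintype Ω] [DecidableEq Ω]

theorem prime_sq_not_dvd_factorial (q : ℕ) (hq : q.Prime) : ¬ (q ^ 2 ∣ q.factorial) := by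
  intro h
  have h1 : q.factorial = q * (q - 1).factorial := (factorial_pred_mul q hq.one_le).symm
  rw [h1, pow_two] at h
  have h2 : q ∣ (q - 1).factorial := Nat.dvd_of_mul_dvd_mul_left hq.pos h
  rw [hq.dvd_factorial] at h2
  have := hq.one_le
  omega

/-- A `q`-group of permutations of fewer than `q ^ 2` points is commutative. -/
theorem comm_of_pGroup_small (q : ℕ) [hq : Fact q.Prime] (Q : Subgroup (Perm Ω))
    (hQ : IsPGroup q Q) (hn : Fintype.card Ω < q ^ 2) :
    ∀ g ∈ Q, ∀ h ∈ Q, g * h = h * g := by
  classical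
  intro g hg h hh
  ext x
  set φ : Q →* Perm (orbit Q x) := MulAction.toPermHom Q (orbit Q x) with hφ
  obtain ⟨k, hk⟩ := hQ.exists_card_eq
  have hOcard : Nat.card (orbit Q x) = 1 ∨ Nat.card (orbit Q x) = q := by
    have hdvd : Nat.card (orbit Q x) ∣ q ^ k := by
      rw [← hk, Nat.card_coe_set_eq]
      exact ncard_orbit_dvd Q x
    obtain ⟨j, hj, hOj⟩ := (Nat.dvd_prime_pow hq.out).1 hdvd
    have hle : Nat.card (orbit Q x) ≤ Fintype.card Ω := by
      rw [Nat.card_coe_set_eq, ← Nat.card_eq_fintype_card, ← Set.ncard_univ]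
      exact Set.ncard_le_ncard (Set.subset_univ _) (Set.toFinite _)
    have hj2 : j < 2 := by
      by_contra hj2
      push Not at hj2
      have : q ^ 2 ≤ q ^ j := Nat.pow_le_pow_right hq.out.pos hj2
      omega
    interval_cases j
    · left; rw [hOj, pow_zero]
    · right; rw [hOj, pow_one]
  have hrangeP : IsPGroup q φ.range :=
    IsPGroup.of_surjective hQ φ.rangeRestrict φ.rangeRestrict_surjective
  obtain ⟨k', hk'⟩ := hrangeP.exists_card_eq
  have hrange : Nat.card φ.range = 1 ∨ Nat.card φ.range = q := by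
    have hdvd : Nat.card φ.range ∣ (Nat.card (orbit Q x)).factorial := by
      rw [← Nat.card_perm]
      exact Subgroup.card_subgroup_dvd_card _
    rcases hOcard with h1 | h1
    · left
      rw [h1] at hdvd
      exact Nat.dvd_one.1 hdvd
    · rw [h1, hk'] at hdvd
      have hk2 : k' < 2 := by
        by_contra hk2
        push Not at hk2
        exact prime_sq_not_dvd_factorial q hq.out
          (dvd_trans (pow_dvd_pow q hk2) hdvd)
      rw [hk']
      interval_cases k'
      · left; rw [pow_zero]
      · right; rw [pow_one]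
  have hcomm : φ ⟨g, hg⟩ * φ ⟨h, hh⟩ = φ ⟨h, hh⟩ * φ ⟨g, hg⟩ := by
    rcases hrange with h1 | h1
    · have hbot : φ.range = ⊥ := Subgroup.eq_bot_of_card_eq _ h1
      have h2 : ∀ z : Q, φ z = 1 := by
        intro z
        have : φ z ∈ φ.range := ⟨z, rfl⟩
        rw [hbot] at this
        exact Subgroup.mem_bot.1 this
      rw [h2, h2]
    · haveI : IsCyclic φ.range := isCyclic_of_prime_card h1
      have h2 := IsCyclic.commutative (α := φ.range)
      have h3 := h2.is_comm.comm ⟨φ ⟨g, hg⟩, ⟨_, rfl⟩⟩ ⟨φ ⟨h, hh⟩, ⟨_, rfl⟩⟩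
      exact congrArg Subtype.val h3
  have h4 := congrArg (fun σ : Perm (orbit Q x) => ((σ ⟨x, mem_orbit_self x⟩ : orbit Q x) : Ω)) hcomm
  exact h4

/-- For primes `p < q` and `n ≥ q ^ 2`, the alternating group of degree `n` has an element of
order `p q`. -/
theorem exists_orderOf_mul (p q : ℕ) (hp : p.Prime) (hq : q.Prime) (hpq : p < q)
    (hn : q ^ 2 ≤ Fintype.card Ω) : ∃ a : alternatingGroup Ω, orderOf a = p * q := by
  have hq3 : 3 ≤ q := by have := hp.two_le; omega
  have hcop : Nat.Coprime p q := (Nat.coprime_primes hp hq).2 (by omega)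
  by_cases hp2 : p = 2
  · subst hp2
    have hqodd : Odd q := hq.odd_of_ne_two (by omega)
    obtain ⟨g, hg⟩ := (Equiv.Perm.exists_with_cycleType_iff (α := Ω)
      (m := ({2, 2, q} : Multiset ℕ))).2 ⟨by
        simp only [Multiset.insert_eq_cons, Multiset.sum_cons, Multiset.sum_singleton]
        nlinarith, by
        intro a ha
        simp only [Multiset.insert_eq_cons, Multiset.mem_cons, Multiset.mem_singleton] at ha
        rcases ha with rfl | rfl | rfl <;> omega⟩
    have hord : orderOf g = 2 * q := by
      rw [← Equiv.Perm.lcm_cycleType, hg]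
      simp only [Multiset.insert_eq_cons, Multiset.lcm_cons, Multiset.lcm_singleton,
        normalize_eq]
      rw [lcm_eq_nat_lcm, lcm_eq_nat_lcm, hcop.lcm_eq_mul]
      exact Nat.lcm_eq_right (Dvd.intro _ rfl)
    have hsign : Perm.sign g = 1 := by
      rw [Equiv.Perm.sign_of_cycleType, hg]
      simp only [Multiset.insert_eq_cons, Multiset.sum_cons, Multiset.sum_singleton,
        Multiset.card_cons, Multiset.card_singleton]
      obtain ⟨r, hr⟩ := hqodd
      have : 2 + (2 + q) + (1 + 1 + 1) = 2 * (r + 4) := by omega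
      rw [this, pow_mul]
      simp
    refine ⟨⟨g, Perm.mem_alternatingGroup.2 hsign⟩, ?_⟩
    rw [← hord]
    exact Subgroup.orderOf_mk _ _
  · have hpodd : Odd p := hp.odd_of_ne_two hp2
    have hqodd : Odd q := hq.odd_of_ne_two (by have := hp.two_le; omega)
    obtain ⟨g, hg⟩ := (Equiv.Perm.exists_with_cycleType_iff (α := Ω)
      (m := ({p, q} : Multiset ℕ))).2 ⟨by
        simp only [Multiset.insert_eq_cons, Multiset.sum_cons, Multiset.sum_singleton]
        nlinarith, by
        intro a ha
        simp only [Multiset.insert_eq_cons, Multiset.mem_cons, Multiset.mem_singleton] at ha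
        have := hp.two_le
        rcases ha with rfl | rfl <;> omega⟩
    have hord : orderOf g = p * q := by
      rw [← Equiv.Perm.lcm_cycleType, hg]
      simp only [Multiset.insert_eq_cons, Multiset.lcm_cons, Multiset.lcm_singleton,
        normalize_eq]
      rw [lcm_eq_nat_lcm, hcop.lcm_eq_mul]
    have hsign : Perm.sign g = 1 := by
      rw [Equiv.Perm.sign_of_cycleType, hg]
      simp only [Multiset.insert_eq_cons, Multiset.sum_cons, Multiset.sum_singleton,
        Multiset.card_cons, Multiset.card_singleton]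
      obtain ⟨r, hr⟩ := hpodd
      obtain ⟨s, hs⟩ := hqodd
      have : p + q + (1 + 1) = 2 * (r + s + 2) := by omega
      rw [this, pow_mul]
      simp
    refine ⟨⟨g, Perm.mem_alternatingGroup.2 hsign⟩, ?_⟩
    rw [← hord]
    exact Subgroup.orderOf_mk _ _

end

end Cfsg.Agent.Helper4.AutAlt
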