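import Cfsg.Agent.Helper4.AutAltA

/-!
# Automorphism groups of alternating groups, part B

An automorphism of the alternating group of degree `n ≥ 6` that maps three-cycles to
three-cycles is induced by a permutation; an automorphism of odd order of the alternating
group of degree `n ≥ 5` is induced by a permutation.
-/

set_option autoImplicit false

namespace Cfsg.Agent.Helper4.AutAlt

open Equiv MulAction
open Cfsg.Agent.Helper4.IndexN

section

variable {Ω : Type*} [Fintype Ω] [DecidableEq Ω]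

theorem injective_conjNormal (hn : 4 ≤ Fintype.card Ω) :
    Function.Injective (MulAut.conjNormal : Perm Ω →* MulAut ↥(alternatingGroup Ω)) := by
  rw [injective_iff_map_eq_one]
  intro σ hσ
  ext x
  by_contra hne
  have hne' : σ x ≠ x := hne
  obtain ⟨c, hc, hcy⟩ := exists_stab_alt_moves x (σ x) hne' hn
  have hc' := Subgroup.mem_inf.1 hc
  have hcx : c x = x := hc'.1
  have h1 : ((MulAut.conjNormal σ (⟨c, hc'.2⟩ : alternatingGroup Ω) : alternatingGroup Ω) :
      Perm Ω) = c := by
    rw [hσ]; rfl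
  rw [MulAut.conjNormal_apply] at h1
  apply hcy
  have h2 : σ * c * σ⁻¹ * σ = c * σ := by rw [h1]
  have h3 : σ * c = c * σ := by
    rw [← h2]; group
  calc c (σ x) = (c * σ) x := rfl
    _ = (σ * c) x := by rw [h3]
    _ = σ (c x) := rfl
    _ = σ x := by rw [hcx]

/-- An automorphism that permutes the point stabilisers is induced by a permutation. -/
theorem mem_range_conjNormal_of_point_map (hn : 4 ≤ Fintype.card Ω)
    (α : MulAut (alternatingGroup Ω))
    (hpm : ∀ x : Ω, ∃ y : Ω, ∀ a : alternatingGroup Ω,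
      (a : Perm Ω) x = x ↔ ((α a : alternatingGroup Ω) : Perm Ω) y = y) :
    α ∈ (MulAut.conjNormal : Perm Ω →* MulAut ↥(alternatingGroup Ω)).range := by
  classical
  choose f hf using hpm
  have hinter : ∀ (b : alternatingGroup Ω) (x : Ω),
      ((α b : alternatingGroup Ω) : Perm Ω) (f x) = f ((b : Perm Ω) x) := by
    intro b x
    symm
    apply eq_of_stab_alt_iff hn
    intro a'
    obtain ⟨a, rfl⟩ := α.surjective a'
    rw [← hf ((b : Perm Ω) x) a]
    have h1 : (a : Perm Ω) ((b : Perm Ω) x) = (b : Perm Ω) x ↔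
        ((b⁻¹ * a * b : alternatingGroup Ω) : Perm Ω) x = x := by
      show _ ↔ ((b : Perm Ω)⁻¹ * (a : Perm Ω) * (b : Perm Ω)) x = x
      rw [Perm.mul_apply, Perm.mul_apply, Perm.inv_eq_iff_eq]
    rw [h1, hf x (b⁻¹ * a * b), map_mul, map_mul, map_inv]
    show ((α b : alternatingGroup Ω) : Perm Ω)⁻¹
      (((α a : alternatingGroup Ω) : Perm Ω) (((α b : alternatingGroup Ω) : Perm Ω) (f x))) = f x ↔ _
    rw [Perm.inv_eq_iff_eq]
  have hfinj : Function.Injective f := by
    intro x y hxy
    apply eq_of_stab_alt_iff hn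
    intro a
    rw [hf x a, hf y a, hxy]
  have hfbij : Function.Bijective f := (Fintype.bijective_iff_injective_and_card f).2 ⟨hfinj, rfl⟩
  set σ : Perm Ω := Equiv.ofBijective f hfbij with hσ
  refine ⟨σ, ?_⟩
  ext b x
  rw [MulAut.conjNormal_apply]
  show σ ((b : Perm Ω) (σ⁻¹ x)) = _
  obtain ⟨z, rfl⟩ := hfbij.2 x
  have hz : σ⁻¹ (f z) = z := by
    rw [Perm.inv_eq_iff_eq]; rfl
  rw [hz]
  show f ((b : Perm Ω) z) = _
  rw [← hinter]

/-- A subgroup of order `(n - 1)! / 2` of the alternating group of degree `n ≥ 6` that contains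
a three-cycle is a point stabiliser. -/
theorem eq_stab_alt_of_threeCycle (K : Subgroup (Perm Ω)) (hle : K ≤ alternatingGroup Ω)
    (hn : 6 ≤ Fintype.card Ω) (hK : 2 * Nat.card K = (Fintype.card Ω - 1).factorial)
    (c : Perm Ω) (hc : c.IsThreeCycle) (hcK : c ∈ K) :
    ∃ x : Ω, K = stabilizer (Perm Ω) x ⊓ alternatingGroup Ω := by
  haveI := isSimpleGroup_of_card K hle hn hK
  have hfix : ∃ x : Ω, ∀ g ∈ K, g x = x := by
    by_contra hfix
    push Not at hfix
    haveI := isPretransitive_of_no_fixed K (by omega) hK hfix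
    have hprim : IsPreprimitive K Ω := isPreprimitive_of_isPretransitive K (by omega) hK
    have hA := Equiv.Perm.alternatingGroup_le_of_isPreprimitive_of_isThreeCycle_mem hprim hc hcK
    have h1 := Subgroup.card_le_of_le hA
    haveI : Nontrivial Ω := Fintype.one_lt_card_iff_nontrivial.1 (by omega)
    have h3 : 2 * Nat.card (alternatingGroup Ω) = (Fintype.card Ω).factorial := by
      rw [two_mul_nat_card_alternatingGroup, Nat.card_perm, Nat.card_eq_fintype_card]
    have hfac := factorial_pred_mul (Fintype.card Ω) (by omega)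
    have hpos : 0 < (Fintype.card Ω - 1).factorial := Nat.factorial_pos _
    nlinarith
  obtain ⟨x, hx⟩ := hfix
  refine ⟨x, ?_⟩
  apply Subgroup.eq_of_le_of_card_ge
  · intro g hg
    exact Subgroup.mem_inf.2 ⟨mem_stabilizer_iff.2 (hx g hg), hle hg⟩
  · have := card_stab_alt x (by omega : 3 ≤ Fintype.card Ω)
    omega

/-- There is a three-cycle fixing a given point. -/
theorem exists_threeCycle_stab (x : Ω) (hn : 4 ≤ Fintype.card Ω) :
    ∃ c : Perm Ω, c.IsThreeCycle ∧ c x = x := by
  obtain ⟨y, hy⟩ := exists_notMem_finset ({x} : Finset Ω) (by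
    rw [Finset.card_singleton]; omega)
  obtain ⟨z, hz⟩ := exists_notMem_finset ({x, y} : Finset Ω) (by
    have := Finset.card_le_two (a := x) (b := y); omega)
  obtain ⟨w, hw⟩ := exists_notMem_finset ({x, y, z} : Finset Ω) (by
    have := Finset.card_le_three (a := x) (b := y) (c := z); omega)
  simp only [Finset.mem_insert, Finset.mem_singleton, not_or] at hy hz hw
  obtain ⟨hzx, hzy⟩ := hz
  obtain ⟨hwx, hwy, hwz⟩ := hw
  refine ⟨swap y z * swap y w, Perm.isThreeCycle_swap_mul_swap_same (Ne.symm hzy) (Ne.symm hwy)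
    (Ne.symm hwz), ?_⟩
  rw [Perm.mul_apply, swap_apply_of_ne_of_ne (Ne.symm hy) (Ne.symm hwx),
    swap_apply_of_ne_of_ne (Ne.symm hy) (Ne.symm hzx)]

/-- An automorphism of the alternating group of degree `n ≥ 6` preserving three-cycles is
induced by a permutation. -/
theorem mem_range_conjNormal_of_threeCycle (hn : 6 ≤ Fintype.card Ω)
    (α : MulAut (alternatingGroup Ω))
    (hα : ∀ c : alternatingGroup Ω, (c : Perm Ω).IsThreeCycle →
      ((α c : alternatingGroup Ω) : Perm Ω).IsThreeCycle) :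
    α ∈ (MulAut.conjNormal : Perm Ω →* MulAut ↥(alternatingGroup Ω)).range := by
  classical
  apply mem_range_conjNormal_of_point_map (by omega)
  intro x
  set Ax : Subgroup (Perm Ω) := stabilizer (Perm Ω) x ⊓ alternatingGroup Ω with hAx
  set φ : alternatingGroup Ω →* Perm Ω := (alternatingGroup Ω).subtype.comp α.toMonoidHom with hφ
  have hφinj : Function.Injective φ := by
    intro a b hab
    apply α.injective
    exact Subtype.ext hab
  set K : Subgroup (Perm Ω) := (Ax.subgroupOf (alternatingGroup Ω)).map φ with hKdef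
  have hKle : K ≤ alternatingGroup Ω := by
    rintro _ ⟨a, _, rfl⟩
    exact (α a).2
  have hKcard : 2 * Nat.card K = (Fintype.card Ω - 1).factorial := by
    rw [hKdef, Subgroup.card_map_of_injective hφinj,
      Nat.card_congr (Subgroup.subgroupOfEquivOfLe
        (inf_le_right : Ax ≤ alternatingGroup Ω)).toEquiv]
    exact card_stab_alt x (by omega)
  obtain ⟨c, hc3, hcx⟩ := exists_threeCycle_stab x (by omega : 4 ≤ Fintype.card Ω)
  have hcA : c ∈ alternatingGroup Ω := hc3.mem_alternatingGroup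
  have hcK : φ ⟨c, hcA⟩ ∈ K := by
    refine ⟨⟨c, hcA⟩, ?_, rfl⟩
    rw [SetLike.mem_coe, Subgroup.mem_subgroupOf, hAx, Subgroup.mem_inf]
    exact ⟨mem_stabilizer_iff.2 hcx, hcA⟩
  obtain ⟨y, hy⟩ := eq_stab_alt_of_threeCycle K hKle hn hKcard (φ ⟨c, hcA⟩)
    (hα ⟨c, hcA⟩ hc3) hcK
  refine ⟨y, ?_⟩
  intro a
  constructor
  · intro hax
    have h1 : φ a ∈ K := by
      refine ⟨a, ?_, rfl⟩
      rw [SetLike.mem_coe, Subgroup.mem_subgroupOf, hAx, Subgroup.mem_inf]
      exact ⟨mem_stabilizer_iff.2 hax, a.2⟩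
    rw [hy] at h1
    exact mem_stabilizer_iff.1 (Subgroup.mem_inf.1 h1).1
  · intro hay
    have h1 : φ a ∈ K := by
      rw [hy, Subgroup.mem_inf]
      exact ⟨mem_stabilizer_iff.2 (show φ a • y = y from hay), (α a).2⟩
    obtain ⟨a', ha', haa'⟩ := h1
    have : a' = a := hφinj haa'
    rw [this, SetLike.mem_coe, Subgroup.mem_subgroupOf, hAx, Subgroup.mem_inf] at ha'
    exact ha'.1

end

end Cfsg.Agent.Helper4.AutAlt
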