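import Cfsg.Agent.Helper4.AutAltB

/-!
# Automorphism groups of alternating groups, part C

The square of an automorphism of the alternating group of degree six maps three-cycles to
three-cycles. Automorphisms of odd order of alternating groups of degree at least five are
induced by permutations.
-/

set_option autoImplicit false

namespace Cfsg.Agent.Helper4.AutAlt

open Equiv MulAction
open Cfsg.Agent.Helper4.IndexN

/-- Order three with a fixed point, in degree six. -/
def IsP1 (σ : Perm (Fin 6)) : Prop := σ ^ 3 = 1 ∧ σ ≠ 1 ∧ ∃ x, σ x = x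

/-- Order three without fixed points, in degree six. -/
def IsP2 (σ : Perm (Fin 6)) : Prop := σ ^ 3 = 1 ∧ σ ≠ 1 ∧ ∀ x, σ x ≠ x

instance decidablePredIsP1 : DecidablePred IsP1 := fun σ => by
  unfold IsP1; infer_instance

instance decidablePredIsP2 : DecidablePred IsP2 := fun σ => by
  unfold IsP2; infer_instance

theorem card_P1 : (Finset.univ.filter IsP1).card = 40 := by decide +kernel

theorem card_P2 : (Finset.univ.filter IsP2).card = 40 := by decide +kernel

theorem support_card_of_P1 : ∀ σ : Perm (Fin 6), IsP1 σ → σ.support.card = 3 := by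
  decide +kernel

theorem isThreeCycle_iff_P1 (σ : Perm (Fin 6)) : σ.IsThreeCycle ↔ IsP1 σ := by
  constructor
  · intro h
    refine ⟨?_, h.ne_one, ?_⟩
    · rw [← h.orderOf]; exact pow_orderOf_eq_one σ
    · obtain ⟨x, hx⟩ := exists_notMem_finset σ.support (by
        rw [h.card_support, Fintype.card_fin]; norm_num)
      exact ⟨x, Equiv.Perm.notMem_support.1 hx⟩
  · intro h
    exact card_support_eq_three_iff.1 (support_card_of_P1 σ h)

theorem mem_alt_of_pow_three {σ : Perm (Fin 6)} (h : σ ^ 3 = 1) :
    σ ∈ alternatingGroup (Fin 6) := by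
  rw [Equiv.Perm.mem_alternatingGroup]
  have h1 : (Equiv.Perm.sign σ) ^ 3 = 1 := by rw [← map_pow, h, map_one]
  rcases Int.units_eq_one_or (Equiv.Perm.sign σ) with h2 | h2
  · exact h2
  · rw [h2] at h1; exact absurd h1 (by decide)

theorem P1_or_P2 {σ : Perm (Fin 6)} (h3 : σ ^ 3 = 1) (h1 : σ ≠ 1) : IsP1 σ ∨ IsP2 σ := by
  by_cases hx : ∃ x, σ x = x
  · exact Or.inl ⟨h3, h1, hx⟩
  · push Not at hx
    exact Or.inr ⟨h3, h1, hx⟩

theorem not_P1_of_P2 {σ : Perm (Fin 6)} (h : IsP2 σ) : ¬ IsP1 σ := by
  rintro ⟨_, _, x, hx⟩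
  exact h.2.2 x hx

theorem sq_threeCycle (α : MulAut (alternatingGroup (Fin 6))) :
    ∀ c : alternatingGroup (Fin 6), (c : Perm (Fin 6)).IsThreeCycle →
      ((α (α c) : alternatingGroup (Fin 6)) : Perm (Fin 6)).IsThreeCycle := by
  classical
  -- order three is preserved
  have h3 : ∀ a : alternatingGroup (Fin 6),
      ((a : Perm (Fin 6)) ^ 3 = 1 ∧ (a : Perm (Fin 6)) ≠ 1) →
      (((α a : alternatingGroup (Fin 6)) : Perm (Fin 6)) ^ 3 = 1 ∧
        ((α a : alternatingGroup (Fin 6)) : Perm (Fin 6)) ≠ 1) := by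
    rintro a ⟨ha3, ha1⟩
    have ha3' : a ^ 3 = 1 := Subtype.ext (by simpa using ha3)
    have ha1' : a ≠ 1 := fun h => ha1 (by rw [h]; rfl)
    constructor
    · have : (α a) ^ 3 = 1 := by rw [← map_pow, ha3', map_one]
      have h' := congrArg (Subtype.val) this
      simpa using h'
    · intro h
      apply ha1'
      have : α a = 1 := Subtype.ext (by simpa using h)
      exact (map_eq_one_iff α α.injective).1 this
  by_cases hall : ∀ c : alternatingGroup (Fin 6), (c : Perm (Fin 6)).IsThreeCycle →
      ((α c : alternatingGroup (Fin 6)) : Perm (Fin 6)).IsThreeCycle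
  · intro c hc
    exact hall _ (hall c hc)
  · push Not at hall
    obtain ⟨c₀, hc₀, hαc₀⟩ := hall
    -- no three-cycle is mapped to a three-cycle
    have hnone : ∀ c : alternatingGroup (Fin 6), (c : Perm (Fin 6)).IsThreeCycle →
        IsP2 ((α c : alternatingGroup (Fin 6)) : Perm (Fin 6)) := by
      intro c hc
      have hconj := alternatingGroup.isThreeCycle_isConj
        (by rw [Nat.card_eq_fintype_card, Fintype.card_fin]; norm_num) hc hc₀
      obtain ⟨g, hg⟩ := isConj_iff.1 hconj
      have h1 : α c₀ = α g * α c * (α g)⁻¹ := by rw [← hg]; simp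
      have hP := h3 c ⟨((isThreeCycle_iff_P1 _).1 hc).1, ((isThreeCycle_iff_P1 _).1 hc).2.1⟩
      rcases P1_or_P2 hP.1 hP.2 with h | h
      · exfalso
        apply hαc₀
        have h2 : ((α c₀ : alternatingGroup (Fin 6)) : Perm (Fin 6)) =
            ((α g : alternatingGroup (Fin 6)) : Perm (Fin 6)) *
              ((α c : alternatingGroup (Fin 6)) : Perm (Fin 6)) *
              ((α g : alternatingGroup (Fin 6)) : Perm (Fin 6))⁻¹ := by
          rw [h1]; rfl
        have h4 := (isThreeCycle_iff_P1 _).2 h
        unfold Equiv.Perm.IsThreeCycle at h4 ⊢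
        rw [h2, Equiv.Perm.cycleType_conj]
        exact h4
      · exact h
    -- the two finsets
    set F1 : Finset (alternatingGroup (Fin 6)) :=
      (Finset.univ.filter IsP1).subtype (· ∈ alternatingGroup (Fin 6)) with hF1
    set F2 : Finset (alternatingGroup (Fin 6)) :=
      (Finset.univ.filter IsP2).subtype (· ∈ alternatingGroup (Fin 6)) with hF2
    have hc1 : F1.card = 40 := by
      rw [hF1, Finset.card_subtype, Finset.filter_true_of_mem, card_P1]
      intro σ hσ
      exact mem_alt_of_pow_three (Finset.mem_filter.1 hσ).2.1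
    have hc2 : F2.card = 40 := by
      rw [hF2, Finset.card_subtype, Finset.filter_true_of_mem, card_P2]
      intro σ hσ
      exact mem_alt_of_pow_three (Finset.mem_filter.1 hσ).2.1
    have hm1 : ∀ a : alternatingGroup (Fin 6), a ∈ F1 ↔ IsP1 (a : Perm (Fin 6)) := by
      intro a
      rw [hF1, Finset.mem_subtype, Finset.mem_filter]
      simp
    have hm2 : ∀ a : alternatingGroup (Fin 6), a ∈ F2 ↔ IsP2 (a : Perm (Fin 6)) := by
      intro a
      rw [hF2, Finset.mem_subtype, Finset.mem_filter]
      simp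
    have himg : F1.image α = F2 := by
      apply Finset.eq_of_subset_of_card_le
      · intro b hb
        obtain ⟨a, ha, rfl⟩ := Finset.mem_image.1 hb
        rw [hm2]
        exact hnone a ((isThreeCycle_iff_P1 _).2 ((hm1 a).1 ha))
      · rw [Finset.card_image_of_injective _ α.injective, hc1, hc2]
    intro c hc
    have hP2 := hnone c hc
    have hP := h3 (α c) ⟨hP2.1, hP2.2.1⟩
    rcases P1_or_P2 hP.1 hP.2 with h | h
    · exact (isThreeCycle_iff_P1 _).2 h
    · exfalso
      have hmem : α (α c) ∈ F1.image α := by rw [himg, hm2]; exact h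
      obtain ⟨a, ha, hae⟩ := Finset.mem_image.1 hmem
      have hac : a = α c := α.injective hae
      rw [hm1, hac] at ha
      exact not_P1_of_P2 hP2 ha

end Cfsg.Agent.Helper4.AutAlt
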