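import Cfsg.Agent.Helper4.AutAltC

/-!
# Automorphism groups of alternating groups, part D

Automorphisms of odd order of alternating groups of degree at least five are induced by
permutations; Sylow subgroups of almost simple groups with alternating socle without elements
of order `p * q`.
-/

set_option autoImplicit false

namespace Cfsg.Agent.Helper4.AutAlt

open Equiv MulAction
open Cfsg.Agent.Helper4.IndexN

theorem mem_range_conjNormal_of_odd (n : ℕ) (hn : 5 ≤ n)
    (α : MulAut (alternatingGroup (Fin n))) (hodd : Odd (orderOf α)) :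
    α ∈ (MulAut.conjNormal : Perm (Fin n) →* MulAut ↥(alternatingGroup (Fin n))).range := by
  by_cases h6 : n = 6
  · subst h6
    have h2 : α * α ∈
        (MulAut.conjNormal : Perm (Fin 6) →* MulAut ↥(alternatingGroup (Fin 6))).range :=
      mem_range_conjNormal_of_threeCycle (by simp) (α * α) (fun c hc => sq_threeCycle α c hc)
    obtain ⟨k, hk⟩ := hodd
    have h3 : α = (α * α) ^ (k + 1) := by
      rw [← pow_two, ← pow_mul]
      have : 2 * (k + 1) = orderOf α + 1 := by omega
      rw [this, pow_succ, pow_orderOf_eq_one, one_mul]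
    rw [h3]
    exact Subgroup.pow_mem _ h2 _
  · obtain ⟨σ, hσ⟩ := (bijective_conjNormal (Ω := Fin n) (by rw [Fintype.card_fin]; omega)
      (by rw [Fintype.card_fin]; exact h6)).2 α
    exact ⟨σ, hσ⟩

theorem injective_conj_alt (n : ℕ) (hn : 4 ≤ n) :
    Function.Injective
      (MulAut.conj : alternatingGroup (Fin n) →* MulAut (alternatingGroup (Fin n))) := by
  intro a b hab
  have h1 : (MulAut.conjNormal : Perm (Fin n) →* MulAut ↥(alternatingGroup (Fin n)))
      (a : Perm (Fin n)) = MulAut.conjNormal (b : Perm (Fin n)) := by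
    rw [MulAut.conjNormal_val, MulAut.conjNormal_val]; exact hab
  exact Subtype.ext (injective_conjNormal (Ω := Fin n) (by rw [Fintype.card_fin]; exact hn) h1)

theorem sylow_comm_of_lt (n : ℕ) (hn : 5 ≤ n)
    (G : Subgroup (MulAut (alternatingGroup (Fin n))))
    (hG : (MulAut.conj :
      alternatingGroup (Fin n) →* MulAut (alternatingGroup (Fin n))).range ≤ G)
    (p q : ℕ) [hp : Fact p.Prime] [hq : Fact q.Prime] (hpq : p < q)
    (h : ∀ g : G, orderOf g ≠ p * q) :
    ∀ Q : Sylow q G, IsMulCommutative (Q : Subgroup G) := by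
  classical
  -- the degree is small
  have hnq : Fintype.card (Fin n) < q ^ 2 := by
    by_contra hcon
    push Not at hcon
    obtain ⟨a, ha⟩ := exists_orderOf_mul (Ω := Fin n) p q hp.out hq.out hpq hcon
    have hmem : MulAut.conj a ∈ G := hG ⟨a, rfl⟩
    apply h ⟨MulAut.conj a, hmem⟩
    rw [Subgroup.orderOf_mk, orderOf_injective _ (injective_conj_alt n (by omega)) a, ha]
  have hqodd : Odd q := hq.out.odd_of_ne_two (by have := hp.out.two_le; omega)
  intro Q
  -- elements of `Q` are induced by permutations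
  set cN : Perm (Fin n) →* MulAut ↥(alternatingGroup (Fin n)) := MulAut.conjNormal with hcN
  have hcNinj : Function.Injective cN :=
    injective_conjNormal (Ω := Fin n) (by rw [Fintype.card_fin]; omega)
  set Q' : Subgroup (Perm (Fin n)) := ((Q : Subgroup G).map G.subtype).comap cN with hQ'
  have hQ'p : IsPGroup q Q' := (Q.isPGroup'.map G.subtype).comap_of_injective cN hcNinj
  have hcomm := comm_of_pGroup_small q Q' hQ'p hnq
  have hlift : ∀ g : G, g ∈ (Q : Subgroup G) → ∃ σ ∈ Q', cN σ = (g : MulAut _) := by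
    intro g hg
    obtain ⟨k, hk⟩ := (IsPGroup.iff_orderOf.1 Q.isPGroup') ⟨g, hg⟩
    have hord : orderOf (g : MulAut (alternatingGroup (Fin n))) = q ^ k := by
      rw [← hk, Subgroup.orderOf_mk, Subgroup.orderOf_coe]
    have hodd : Odd (orderOf (g : MulAut (alternatingGroup (Fin n)))) := by
      rw [hord]; exact hqodd.pow
    obtain ⟨σ, hσ⟩ := mem_range_conjNormal_of_odd n hn _ hodd
    refine ⟨σ, ?_, hσ⟩
    rw [hQ', Subgroup.mem_comap, Subgroup.mem_map]
    exact ⟨g, hg, hσ.symm⟩
  refine ⟨⟨fun a b => ?_⟩⟩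
  obtain ⟨σ, hσ, hσa⟩ := hlift a.1 a.2
  obtain ⟨τ, hτ, hτb⟩ := hlift b.1 b.2
  apply Subtype.ext
  apply Subtype.ext
  show ((a : G) : MulAut (alternatingGroup (Fin n))) * ((b : G) : MulAut (alternatingGroup (Fin n)))
    = ((b : G) : MulAut (alternatingGroup (Fin n))) * ((a : G) : MulAut (alternatingGroup (Fin n)))
  rw [← hσa, ← hτb, ← map_mul, ← map_mul, hcomm σ hσ τ hτ]

end Cfsg.Agent.Helper4.AutAlt
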