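import Mathlib

set_option autoImplicit false

namespace Cfsg.Agent.Helper4

theorem unipotent_sq_of_finrank_two (p : ℕ) [hp : Fact p.Prime] (W : Type*) [AddCommGroup W]
    [Module (ZMod p) W] [Finite W]
    (hcard : Nat.card W = p ^ 2) (f : Module.End (ZMod p) W)
    (hfp : f ^ p = 1) : (f - 1) ^ 2 = 0 := by
  have hfin : Module.Finite (ZMod p) W := Module.Finite.of_finite
  have hrank : Module.finrank (ZMod p) W = 2 := by
    have h1 := Module.natCard_eq_pow_finrank (K := ZMod p) (V := W)
    rw [hcard, Nat.card_zmod] at h1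
    exact (Nat.pow_right_injective hp.out.two_le h1).symm
  have hnt : Nontrivial W := by
    rw [← Finite.one_lt_card_iff_nontrivial, hcard]
    exact Nat.one_lt_pow (by norm_num) hp.out.one_lt
  have hchar : CharP (Module.End (ZMod p) W) p := by
    rw [CharP.charP_iff_prime_eq_zero hp.out]
    ext v
    rw [Module.End.natCast_apply, LinearMap.zero_apply]
    exact ZModModule.char_nsmul_eq_zero p v
  have hnil : IsNilpotent (f - 1) := by
    refine ⟨p, ?_⟩
    rw [sub_pow_char_of_commute p (Commute.one_right f), hfp, one_pow, sub_self]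
  have hcp := hnil.charpoly_eq_X_pow_finrank
  have hch := LinearMap.aeval_self_charpoly (f - 1)
  rw [hcp, hrank, map_pow, Polynomial.aeval_X] at hch
  exact hch

theorem unipotent_sq_of_card_sq_aux (p : ℕ) [hp : Fact p.Prime] (W : Type*) [AddCommGroup W]
    [Module (ZMod p) W] [Finite W]
    (hcard : Nat.card W = p ^ 2) (ψ : W →+ W)
    (hψ : ∀ w : W, (⇑ψ)^[p] w = w) (w : W) : ψ (ψ w - w) - (ψ w - w) = 0 := by
  obtain ⟨f, hf⟩ : ∃ f : W →ₗ[ZMod p] W, f = ψ.toZModLinearMap p := ⟨_, rfl⟩
  have hfapp : ∀ v : W, f v = ψ v := by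
    intro v; rw [hf]; rfl
  have hfp : f ^ p = 1 := by
    ext v
    rw [Module.End.pow_apply, Module.End.one_apply]
    have : ∀ n : ℕ, ∀ u : W, (⇑f)^[n] u = (⇑ψ)^[n] u := by
      intro n
      induction n with
      | zero => intro u; rfl
      | succ n ih =>
        intro u
        rw [Function.iterate_succ_apply, Function.iterate_succ_apply, hfapp, ih]
    rw [this, hψ]
  have h2 := unipotent_sq_of_finrank_two p W hcard f hfp
  have := congrArg (fun g : W →ₗ[ZMod p] W => g w) h2
  simp only [pow_two, Module.End.mul_apply, LinearMap.sub_apply, Module.End.one_apply,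
    LinearMap.zero_apply, hfapp] at this
  rw [← this, map_sub]

/-- an additive automorphism of order dividing `p` of an elementary abelian group of order `p^2`
satisfies `(ψ - 1)^2 = 0` -/
theorem unipotent_sq_of_card_sq (p : ℕ) [hp : Fact p.Prime] (W : Type*) [AddCommGroup W] [Finite W]
    (hcard : Nat.card W = p ^ 2) (hW : ∀ w : W, p • w = 0) (ψ : W →+ W)
    (hψ : ∀ w : W, (⇑ψ)^[p] w = w) (w : W) : ψ (ψ w - w) - (ψ w - w) = 0 :=
  @unipotent_sq_of_card_sq_aux p hp W _ (AddCommGroup.zmodModule hW) _ hcard ψ hψ w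

end Cfsg.Agent.Helper4
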