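import Mathlib
import Cfsg.Agent.Helper4.AutCpSqA

set_option autoImplicit false

namespace Cfsg.Agent.Helper4

theorem fixes_omega_of_order_p (p : ℕ) [hp : Fact p.Prime] (hp3 : 3 < p) (M : Type*)
    [AddCommGroup M] [Finite M]
    (h1 : ∀ v : M, p • (p • v) = 0) (h2 : ∀ v : M, p • v = 0 → ∃ w, v = p • w)
    (hcard : Nat.card M = p ^ 4)
    (φ : AddMonoid.End M) (hφ : φ ^ p = 1) (v : M) (hv : p • v = 0) : φ v = v := by
  -- the subgroup W
  obtain ⟨W, hWdef⟩ : ∃ W : AddSubgroup M, W = (nsmulAddMonoidHom p : M →+ M).ker := ⟨_, rfl⟩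
  have hWmem : ∀ u : M, u ∈ W ↔ p • u = 0 := by
    intro u; rw [hWdef, AddMonoidHom.mem_ker]; rfl
  have hrange : (nsmulAddMonoidHom p : M →+ M).range = W := by
    ext u
    rw [hWmem, AddMonoidHom.mem_range]
    constructor
    · rintro ⟨w, rfl⟩
      exact h1 w
    · intro hu
      obtain ⟨w, rfl⟩ := h2 u hu
      exact ⟨w, rfl⟩
  have hcardW : Nat.card W = p ^ 2 := by
    have e := QuotientAddGroup.quotientKerEquivRange (nsmulAddMonoidHom p : M →+ M)
    have h3 := AddSubgroup.card_eq_card_quotient_mul_card_addSubgroup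
      (nsmulAddMonoidHom p : M →+ M).ker
    rw [Nat.card_congr e.toEquiv, hrange, ← hWdef, hcard] at h3
    have h4 : (p ^ 2) ^ 2 = (Nat.card W) ^ 2 := by rw [← pow_mul, pow_two (Nat.card W)]; exact h3
    exact (Nat.pow_left_injective (by norm_num : 2 ≠ 0) h4).symm
  -- N
  obtain ⟨N, hNdef⟩ : ∃ N : AddMonoid.End M, N = φ - 1 := ⟨_, rfl⟩
  have hN : ∀ u, N u = φ u - u := by
    intro u; rw [hNdef]; rfl
  have hNp : ∀ u, N (p • u) = p • N u := fun u => map_nsmul N p u
  have hφW : ∀ u ∈ W, φ u ∈ W := by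
    intro u hu
    rw [hWmem] at hu ⊢
    rw [← map_nsmul φ p u, hu, map_zero]
  have hiter : ∀ u, (⇑φ)^[p] u = u := by
    intro u
    rw [← AddMonoid.End.coe_pow, hφ]; rfl
  -- restriction
  obtain ⟨ψ, hψdef⟩ : ∃ ψ : W →+ W, ∀ w : W, ((ψ w : W) : M) = φ (w : M) :=
    ⟨((φ : M →+ M).comp W.subtype).codRestrict W (fun w => hφW w w.2), fun w => rfl⟩
  have hψiter : ∀ n : ℕ, ∀ w : W, (((⇑ψ)^[n] w : W) : M) = (⇑φ)^[n] (w : M) := by
    intro n
    induction n with
    | zero => intro w; rfl
    | succ n ih =>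
      intro w
      rw [Function.iterate_succ_apply, Function.iterate_succ_apply, ih, hψdef]
  have hψ : ∀ w : W, (⇑ψ)^[p] w = w := by
    intro w
    apply Subtype.ext
    rw [hψiter, hiter]
  have hsq : ∀ u ∈ W, N (N u) = 0 := by
    intro u hu
    have := unipotent_sq_of_card_sq p W hcardW
      (fun w => Subtype.ext (by
        have := (hWmem (w : M)).1 w.2
        simpa using this)) ψ hψ ⟨u, hu⟩
    have h3 := congrArg Subtype.val this
    simp only [AddSubgroup.coe_sub, hψdef, AddSubgroup.coe_zero] at h3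
    rw [hN, hN, map_sub]
    rw [map_sub] at h3
    exact h3
  have hNN : ∀ u, ∃ u', N (N u) = p • u' := by
    intro u
    apply h2
    rw [← hNp, ← hNp]
    exact hsq _ ((hWmem _).2 (h1 u))
  have hN4 : ∀ u, N (N (N (N u))) = 0 := by
    intro u
    obtain ⟨u', hu'⟩ := hNN u
    obtain ⟨u'', hu''⟩ := hNN u'
    rw [hu', hNp, hNp, hu'']
    exact h1 u''
  -- the binomial expansion
  have hbin : ∀ u : M, p • N u = 0 := by
    intro u
    have hφN : φ = N + 1 := by rw [hNdef]; abel
    have hexp := (Commute.one_right N).add_pow p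
    rw [← hφN, hφ] at hexp
    have happ := congrArg (fun g : AddMonoid.End M => g u) hexp
    simp only [one_pow, mul_one] at happ
    have hterm : ∀ m : ℕ, (N ^ m * ((p.choose m : ℕ) : AddMonoid.End M)) u =
        (p.choose m) • (N ^ m) u := by
      intro m
      show (N ^ m) (((p.choose m : ℕ) : AddMonoid.End M) u) = _
      rw [AddMonoid.End.natCast_apply, map_nsmul]
    have hsum : (∑ m ∈ Finset.range (p + 1), N ^ m * ((p.choose m : ℕ) : AddMonoid.End M)) u =
        ∑ m ∈ Finset.range (p + 1), (p.choose m) • (N ^ m) u := by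
      rw [← Finset.sum_congr rfl (fun m _ => hterm m)]
      exact AddMonoidHom.finsetSum_apply _ _ _
    rw [hsum] at happ
    have hone : (1 : AddMonoid.End M) u = u := rfl
    rw [hone, ← Finset.sum_range_add_sum_Ico _ (show 4 ≤ p + 1 by omega)] at happ
    have hpow4 : ∀ w : M, (N ^ 4) w = 0 := fun w => hN4 w
    have hIco : ∑ m ∈ Finset.Ico 4 (p + 1), (p.choose m) • (N ^ m) u = 0 := by
      apply Finset.sum_eq_zero
      intro m hm
      rw [Finset.mem_Ico] at hm
      have : N ^ m = N ^ (m - 4) * N ^ 4 := by rw [← pow_add]; congr 1; omega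
      rw [this]
      show (p.choose m) • (N ^ (m - 4)) ((N ^ 4) u) = 0
      rw [hpow4, map_zero, smul_zero]
    rw [hIco, add_zero] at happ
    simp only [Finset.sum_range_succ, Finset.sum_range_zero, zero_add, Nat.choose_zero_right,
      one_smul, pow_zero, Nat.choose_one_right, pow_one] at happ
    rw [hone] at happ
    obtain ⟨c2, hc2⟩ := Nat.Prime.dvd_choose_self hp.out (show (2 : ℕ) ≠ 0 by norm_num)
      (show 2 < p by omega)
    obtain ⟨c3, hc3⟩ := Nat.Prime.dvd_choose_self hp.out (show (3 : ℕ) ≠ 0 by norm_num) hp3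
    obtain ⟨u', hu'⟩ := hNN u
    have h2' : (N ^ 2) u = p • u' := hu'
    have h3' : (N ^ 3) u = p • N u' := by
      show N (N (N u)) = _
      rw [hu', hNp]
    have hz : ∀ (c : ℕ) (x : M), (p * c) • (p • x) = 0 := by
      intro c x
      rw [mul_nsmul, h1, smul_zero]
    rw [h2', h3', hc2, hc3, hz, hz, add_zero, add_zero] at happ
    have h5 : u + 0 = u + p • N u := by rw [add_zero]; exact happ
    exact (add_left_cancel h5).symm
  obtain ⟨w, rfl⟩ := h2 v hv
  have := hbin w
  rw [← hNp, hN, sub_eq_zero] at this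
  exact this

/-- the additive endomorphism attached to an automorphism of `Multiplicative M` -/
theorem exists_addEnd_of_mulAut (M : Type*) [AddCommGroup M] (a : MulAut (Multiplicative M)) (n : ℕ)
    (han : a ^ n = 1) :
    ∃ φ : AddMonoid.End M, (∀ v, φ v = Multiplicative.toAdd (a (Multiplicative.ofAdd v))) ∧
      φ ^ n = 1 := by
  obtain ⟨φ, hφdef⟩ : ∃ φ : AddMonoid.End M,
      ∀ v, φ v = Multiplicative.toAdd (a (Multiplicative.ofAdd v)) :=
    ⟨{ toFun := fun v => Multiplicative.toAdd (a (Multiplicative.ofAdd v))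
       map_zero' := by
         show Multiplicative.toAdd (a 1) = 0
         rw [map_one]; rfl
       map_add' := by
         intro v w
         show Multiplicative.toAdd (a (Multiplicative.ofAdd v * Multiplicative.ofAdd w)) = _
         rw [map_mul]; rfl }, fun v => rfl⟩
  refine ⟨φ, hφdef, ?_⟩
  have hiter : ∀ m : ℕ, ∀ v, (⇑φ)^[m] v =
      Multiplicative.toAdd ((a ^ m) (Multiplicative.ofAdd v)) := by
    intro m
    induction m with
    | zero => intro v; rfl
    | succ m ih =>
      intro v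
      calc (⇑φ)^[m + 1] v = φ ((⇑φ)^[m] v) := Function.iterate_succ_apply' _ _ _
        _ = φ (Multiplicative.toAdd ((a ^ m) (Multiplicative.ofAdd v))) := by rw [ih]
        _ = Multiplicative.toAdd (a ((a ^ m) (Multiplicative.ofAdd v))) := hφdef _
        _ = Multiplicative.toAdd ((a ^ (m + 1)) (Multiplicative.ofAdd v)) := by
          rw [pow_succ']; rfl
  ext v : 1
  rw [AddMonoid.End.coe_pow, hiter, han]
  rfl

end Cfsg.Agent.Helper4
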