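import Mathlib

/-!
# Automorphism orbits: generic counting lemmas and class-two identities
-/

set_option autoImplicit false

namespace Cfsg.Agent.Helper4.AutOrb

universe u

open scoped commutatorElement

/-- Weighted orbit counting: if every orbit carries total weight at least `W` (witnessed by a
finite subset of the orbit), then `W * #orbits ≤ total weight`. -/
theorem weighted_orbit_count {Γ α : Type*} [Group Γ] [MulAction Γ α] [Fintype α]
    (wt : α → ℕ) (W : ℕ)
    (h : ∀ a : α, ∃ s : Finset α, (∀ b ∈ s, b ∈ MulAction.orbit Γ a) ∧ W ≤ ∑ b ∈ s, wt b) :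
    W * Nat.card (MulAction.orbitRel.Quotient Γ α) ≤ ∑ a, wt a := by
  classical
  haveI : Fintype (MulAction.orbitRel.Quotient Γ α) := Fintype.ofFinite _
  rw [Nat.card_eq_fintype_card]
  have h1 : ∑ a, wt a = ∑ q : MulAction.orbitRel.Quotient Γ α,
      ∑ a ∈ Finset.univ.filter (fun a => (Quotient.mk'' a : MulAction.orbitRel.Quotient Γ α) = q),
        wt a := by
    rw [Finset.sum_fiberwise]
  rw [h1]
  calc W * Fintype.card (MulAction.orbitRel.Quotient Γ α)
      = ∑ _q : MulAction.orbitRel.Quotient Γ α, W := by simp [mul_comm]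
    _ ≤ _ := by
      apply Finset.sum_le_sum
      intro q _
      induction q using Quotient.inductionOn' with
      | _ a =>
      obtain ⟨s, hs1, hs2⟩ := h a
      refine hs2.trans (Finset.sum_le_sum_of_subset ?_)
      intro b hb
      simp only [Finset.mem_filter, Finset.mem_univ, true_and]
      exact Quotient.sound' (hs1 b hb)

variable {G : Type u} [Group G]

/-- Conjugates lie in the automorphism orbit. -/
theorem conj_mem_orbit (g h : G) : h * g * h⁻¹ ∈ MulAction.orbit (MulAut G) g :=
  ⟨MulAut.conj h, by simp [MulAut.smul_def]⟩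

theorem apply_mem_orbit (σ : MulAut G) (g : G) : σ g ∈ MulAction.orbit (MulAut G) g :=
  ⟨σ, rfl⟩

/-- The number of automorphism orbits is at most the number of conjugacy classes. -/
theorem card_autOrbits_le_card_conjClasses [Finite G] :
    Nat.card (MulAction.orbitRel.Quotient (MulAut G) G) ≤ Nat.card (ConjClasses G) := by
  apply Nat.card_le_card_of_surjective
    (fun c : ConjClasses G => Quotient.liftOn' c
      (fun g => (Quotient.mk'' g : MulAction.orbitRel.Quotient (MulAut G) G)) ?_)
  · intro q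
    induction q using Quotient.inductionOn' with
    | _ a => exact ⟨ConjClasses.mk a, rfl⟩
  · intro a b hab
    obtain ⟨c, hc⟩ := isConj_iff.1 hab
    apply Quotient.sound'
    show a ∈ MulAction.orbit (MulAut G) b
    have : a = c⁻¹ * b * c⁻¹⁻¹ := by rw [← hc]; group
    rw [this]
    exact conj_mem_orbit b c⁻¹

/-- The conjugates of `g`, as a finset. -/
noncomputable def conjFinset [Fintype G] [DecidableEq G] (g : G) : Finset G :=
  Finset.univ.image (fun h : G => h * g * h⁻¹)

theorem mem_conjFinset [Fintype G] [DecidableEq G] {g y : G} :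
    y ∈ conjFinset g ↔ ∃ h : G, h * g * h⁻¹ = y := by
  simp [conjFinset]

/-- A noncentral element has at least `p` conjugates, when every nontrivial divisor of `|G|` is
at least `p`. -/
theorem le_card_conjFinset [Fintype G] [DecidableEq G] (p : ℕ)
    (hp : ∀ d : ℕ, d ∣ Nat.card G → d ≠ 1 → p ≤ d) (g : G) (hg : g ∉ Subgroup.center G) :
    p ≤ (conjFinset g).card := by
  have h1 : (conjFinset g).card = (MulAction.orbit (ConjAct G) g).ncard := by
    rw [← Set.ncard_coe_finset]
    congr 1
    ext y
    simp only [Finset.mem_coe, mem_conjFinset, MulAction.mem_orbit_iff]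
    constructor
    · rintro ⟨h, rfl⟩
      exact ⟨ConjAct.toConjAct h, by simp [ConjAct.smul_def]⟩
    · rintro ⟨h, rfl⟩
      exact ⟨ConjAct.ofConjAct h, by simp [ConjAct.smul_def]⟩
  rw [h1, ← MulAction.index_stabilizer]
  apply hp
  · have := Subgroup.index_dvd_card (MulAction.stabilizer (ConjAct G) g)
    rwa [show Nat.card (ConjAct G) = Nat.card G from rfl] at this
  · intro h1
    apply hg
    rw [Subgroup.index_eq_one] at h1
    rw [Subgroup.mem_center_iff]
    intro k
    have : ConjAct.toConjAct k ∈ MulAction.stabilizer (ConjAct G) g := by rw [h1]; trivial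
    rw [MulAction.mem_stabilizer_iff, ConjAct.smul_def] at this
    simp only [ConjAct.ofConjAct_toConjAct] at this
    calc k * g = k * g * k⁻¹ * k := by group
      _ = g * k := by rw [this]

/-! ### Class-two identities -/

section ClassTwo

variable (hcen : commutator G ≤ Subgroup.center G)
include hcen

theorem comm_mem_center (a b : G) : ⁅a, b⁆ ∈ Subgroup.center G :=
  hcen (Subgroup.commutator_mem_commutator (Subgroup.mem_top a) (Subgroup.mem_top b))

theorem comm_comm (a b z : G) : ⁅a, b⁆ * z = z * ⁅a, b⁆ :=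
  ((Subgroup.mem_center_iff.1 (comm_mem_center hcen a b)) z).symm

/-- `g ↦ ⁅x, g⁆` is a homomorphism. -/
theorem comm_mul_right (x g h : G) : ⁅x, g * h⁆ = ⁅x, g⁆ * ⁅x, h⁆ := by
  have h1 : ⁅x, g * h⁆ = x * g * x⁻¹ * ⁅x, h⁆ * g⁻¹ := by
    simp only [commutatorElement_def]; group
  rw [h1]
  have h2 := comm_comm hcen x h g⁻¹
  calc x * g * x⁻¹ * ⁅x, h⁆ * g⁻¹ = x * g * x⁻¹ * (⁅x, h⁆ * g⁻¹) := by group
    _ = x * g * x⁻¹ * (g⁻¹ * ⁅x, h⁆) := by rw [h2]
    _ = ⁅x, g⁆ * ⁅x, h⁆ := by simp only [commutatorElement_def]; group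

/-- The commutator homomorphism `g ↦ ⁅x, g⁆`. -/
def commHom (x : G) : G →* G where
  toFun g := ⁅x, g⁆
  map_one' := by simp
  map_mul' g h := comm_mul_right hcen x g h

@[simp] theorem commHom_apply (x g : G) : commHom hcen x g = ⁅x, g⁆ := rfl

theorem comm_pow_right (x g : G) (k : ℕ) : ⁅x, g ^ k⁆ = ⁅x, g⁆ ^ k := by
  have := map_pow (commHom hcen x) g k
  simpa using this

theorem comm_pow_left (x g : G) (k : ℕ) : ⁅x ^ k, g⁆ = ⁅x, g⁆ ^ k := by
  rw [← commutatorElement_inv g (x ^ k), comm_pow_right hcen, ← commutatorElement_inv g x, inv_pow]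

/-- `b ^ n * a = ⁅b, a⁆ ^ n * a * b ^ n`. -/
theorem pow_mul_comm' (a b : G) (n : ℕ) : b ^ n * a = ⁅b, a⁆ ^ n * (a * b ^ n) := by
  rw [← comm_pow_left hcen]
  simp only [commutatorElement_def]; group

/-- The power formula in class two. -/
theorem mul_pow_classTwo (a b : G) (n : ℕ) :
    (a * b) ^ n = a ^ n * b ^ n * ⁅b, a⁆ ^ (∑ i ∈ Finset.range n, i) := by
  induction n with
  | zero => simp
  | succ n ih =>
    rw [pow_succ, ih, Finset.sum_range_succ]
    set z := ⁅b, a⁆ with hz
    set T := ∑ i ∈ Finset.range n, i with hT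
    have hzc : ∀ y : G, z * y = y * z := fun y => comm_comm hcen b a y
    have hzpc : ∀ (k : ℕ) (y : G), z ^ k * y = y * z ^ k := by
      intro k y
      induction k with
      | zero => simp
      | succ k ihk => rw [pow_succ, mul_assoc, hzc, ← mul_assoc, ihk, mul_assoc]
    have h1 := pow_mul_comm' hcen a b n
    rw [← hz] at h1
    have key : ∀ (x y w z1 z2 : G), (∀ u, z1 * u = u * z1) →
        x * (z1 * y) * w * z2 = x * y * w * (z2 * z1) := by
      intro x y w z1 z2 h
      calc x * (z1 * y) * w * z2 = x * (y * z1) * w * z2 := by rw [h y]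
        _ = x * y * (z1 * w) * z2 := by group
        _ = x * y * (w * z1) * z2 := by rw [h w]
        _ = x * y * w * (z1 * z2) := by group
        _ = x * y * w * (z2 * z1) := by rw [h z2]
    calc a ^ n * b ^ n * z ^ T * (a * b)
        = a ^ n * b ^ n * (z ^ T * (a * b)) := by group
      _ = a ^ n * b ^ n * ((a * b) * z ^ T) := by rw [hzpc]
      _ = a ^ n * (b ^ n * a) * b * z ^ T := by group
      _ = a ^ n * (z ^ n * (a * b ^ n)) * b * z ^ T := by rw [h1]
      _ = a ^ n * (a * b ^ n) * b * (z ^ T * z ^ n) := key _ _ _ _ _ (hzpc n)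
      _ = a ^ (n + 1) * b ^ (n + 1) * z ^ (T + n) := by
          rw [pow_add z T n, pow_succ, pow_succ]; group

end ClassTwo

end Cfsg.Agent.Helper4.AutOrb
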