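import Mathlib
import Cfsg.Agent.Helper6.Codegree
import Cfsg.Agent.Helper6.DefectZeroBlock
import Cfsg.Agent.Helper6.Linear
import Cfsg.Agent.Helper6.IrrCount
import Cfsg.Agent.Helper6.BlockPart
import Cfsg.Agent.Helper6.CharBasic
import Cfsg.Agent.Helper6.IrrBasis

/-!
# Many conjugacy classes force a small commutator subgroup

If `p` is a lower bound for the nontrivial divisors of `|G|` and `|G| < p * k(G)`, then
`|G'| ≤ p` (degree equation).
-/

set_option autoImplicit false

namespace Cfsg.Agent.Helper4.AutOrb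

open Cfsg.Agent.Helper6

universe u

variable {G : Type u} [Group G]

theorem charDegree_eq_one_iff {χ : G → ℂ} (hχ : Cfsg.IsIrrCharacter G χ) :
    Cfsg.charDegree χ = 1 ↔ χ 1 = 1 := by
  have h := charDegree_cast_of_isCharacter (IsIrrCharacter.isCharacter hχ)
  constructor
  · intro h1
    rw [← h, h1, Nat.cast_one]
  · intro h1
    rw [h1] at h
    exact_mod_cast h

/-- The degree equation bound. -/
theorem degree_bound [Finite G] (p : ℕ) (hp : ∀ d : ℕ, d ∣ Nat.card G → d ≠ 1 → p ≤ d) :
    ∃ k' : ℕ, Nat.card (ConjClasses G) = (commutator G).index + k' ∧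
      (commutator G).index + p ^ 2 * k' ≤ Nat.card G := by
  classical
  haveI := Fintype.ofFinite G
  haveI : Finite (Cfsg.IrrCharacter G) := irr_finite
  haveI : Fintype (Cfsg.IrrCharacter G) := Fintype.ofFinite _
  have hsum := sum_sq_charDegree (G := G)
  have hk := card_irr_eq_card_conjClasses (G := G)
  have hL := card_linear_irr (G := G)
  set S1 : Finset (Cfsg.IrrCharacter G) :=
    Finset.univ.filter (fun χ => Cfsg.charDegree (χ : G → ℂ) = 1) with hS1
  set S2 : Finset (Cfsg.IrrCharacter G) :=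
    Finset.univ.filter (fun χ => ¬ Cfsg.charDegree (χ : G → ℂ) = 1) with hS2
  have hcardL : S1.card = (commutator G).index := by
    rw [← hL, Nat.card_eq_fintype_card, Fintype.card_subtype]
    congr 1
    ext χ
    simp only [hS1, Finset.mem_filter, Finset.mem_univ, true_and]
    exact charDegree_eq_one_iff χ.2
  have hsplit : S1.card + S2.card = Fintype.card (Cfsg.IrrCharacter G) := by
    rw [hS1, hS2, Finset.card_filter_add_card_filter_not]
    exact Finset.card_univ
  refine ⟨S2.card, ?_, ?_⟩
  · rw [← hk, Nat.card_eq_fintype_card, ← hsplit, hcardL]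
  · rw [← hsum, ← hcardL]
    have h1 : ∑ χ : Cfsg.IrrCharacter G, Cfsg.charDegree (χ : G → ℂ) ^ 2 =
        ∑ χ ∈ S1, Cfsg.charDegree (χ : G → ℂ) ^ 2 + ∑ χ ∈ S2, Cfsg.charDegree (χ : G → ℂ) ^ 2 := by
      rw [hS1, hS2, Finset.sum_filter_add_sum_filter_not]
    rw [h1]
    apply Nat.add_le_add
    · calc S1.card = ∑ _χ ∈ S1, 1 := by simp
        _ ≤ ∑ χ ∈ S1, Cfsg.charDegree (χ : G → ℂ) ^ 2 := by
          apply Finset.sum_le_sum
          intro χ hχ
          simp only [hS1, Finset.mem_filter] at hχ
          rw [hχ.2]; simp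
    · calc p ^ 2 * S2.card = ∑ _χ ∈ S2, p ^ 2 := by simp [mul_comm]
        _ ≤ ∑ χ ∈ S2, Cfsg.charDegree (χ : G → ℂ) ^ 2 := by
          apply Finset.sum_le_sum
          intro χ hχ
          simp only [hS2, Finset.mem_filter] at hχ
          have hd := charDegree_dvd_card χ.2
          have := hp _ hd hχ.2
          exact Nat.pow_le_pow_left this 2

/-- If `|G| < p * k(G)` where every nontrivial divisor of `|G|` is at least `p ≥ 1`, then
`|G'| ≤ p`. -/
theorem card_commutator_le [Finite G] (p : ℕ) (hp0 : 0 < p)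
    (hp : ∀ d : ℕ, d ∣ Nat.card G → d ≠ 1 → p ≤ d)
    (hk : Nat.card G < p * Nat.card (ConjClasses G)) :
    Nat.card (commutator G) ≤ p := by
  obtain ⟨k', hk1, hk2⟩ := degree_bound (G := G) p hp
  by_contra hcon
  push Not at hcon
  have hidx := Subgroup.card_mul_index (commutator G)
  set L := (commutator G).index with hLdef
  set c := Nat.card (commutator G) with hc
  set n := Nat.card G with hn
  rw [hk1] at hk
  -- n = c * L ≥ (p+1) L
  have h3 : (p + 1) * L ≤ n := by
    rw [← hidx]
    exact Nat.mul_le_mul_right L hcon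
  have h4 : p * (p * (L + k')) ≤ p * n := by nlinarith
  have h5 : p * (L + k') ≤ n := Nat.le_of_mul_le_mul_left h4 hp0
  omega

end Cfsg.Agent.Helper4.AutOrb
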