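import Mathlib
import Cfsg.Agent.Helper4.AutOrbA

/-!
# A transvection-like automorphism

Given a homomorphism `lam : G → ZMod p`, an element `t` with `lam t = 1` and an element `c` of the
kernel commuting with the kernel such that `(t c)^p = t^p`, there is an automorphism of `G` fixing
the kernel pointwise and sending `t` to `t c`.
-/

set_option autoImplicit false

namespace Cfsg.Agent.Helper4.AutOrb

universe u

variable {G : Type u} [Group G] {p : ℕ}

/-- `E t c i = t⁻ⁱ (t c)ⁱ`. -/
def E (t c : G) (i : ℕ) : G := (t⁻¹) ^ i * (t * c) ^ i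

/-- The index of `g`: the representative in `[0, p)` of `lam g`. -/
def idx (lam : G →* Multiplicative (ZMod p)) (g : G) : ℕ := (Multiplicative.toAdd (lam g)).val

/-- The data for the automorphism. -/
structure TData (p : ℕ) (lam : G →* Multiplicative (ZMod p)) (t c : G) : Prop where
  ht : lam t = Multiplicative.ofAdd 1
  hc : lam c = 1
  hcomm : ∀ m : G, lam m = 1 → m * c = c * m
  hpow : (t * c) ^ p = t ^ p

@[simp] theorem E_zero (t c : G) : E t c 0 = 1 := by simp [E]

theorem E_succ (t c : G) (i : ℕ) : E t c (i + 1) = t⁻¹ * E t c i * t * c := by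
  unfold E
  rw [pow_succ' t⁻¹, pow_succ (t * c)]
  group

theorem E_add (t c : G) (i j : ℕ) :
    (t⁻¹) ^ j * E t c i * t ^ j * E t c j = E t c (i + j) := by
  unfold E
  have h1 : t ^ j * (t⁻¹) ^ j = 1 := by rw [inv_pow, mul_inv_cancel]
  calc (t⁻¹) ^ j * ((t⁻¹) ^ i * (t * c) ^ i) * t ^ j * ((t⁻¹) ^ j * (t * c) ^ j)
      = (t⁻¹) ^ j * (t⁻¹) ^ i * (t * c) ^ i * (t ^ j * (t⁻¹) ^ j) * (t * c) ^ j := by group
    _ = (t⁻¹) ^ (i + j) * (t * c) ^ (i + j) := by
      rw [h1, mul_one, ← pow_add, add_comm j i, mul_assoc, ← pow_add]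

variable {lam : G →* Multiplicative (ZMod p)} {t c : G}

namespace TData

variable (D : TData p lam t c)
include D

theorem lam_E (i : ℕ) : lam (E t c i) = 1 := by
  unfold E
  rw [map_mul, map_pow, map_pow, map_inv, map_mul, D.hc, mul_one, inv_pow, inv_mul_cancel]

theorem E_comm (i : ℕ) : ∀ m : G, lam m = 1 → E t c i * m = m * E t c i := by
  have hmem : E t c i ∈ Subgroup.centralizer (lam.ker : Set G) := by
    induction i with
    | zero => simp
    | succ i ih =>
      rw [E_succ]
      have hn : (Subgroup.centralizer (lam.ker : Set G)).Normal := inferInstance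
      have h1 : t⁻¹ * E t c i * t ∈ Subgroup.centralizer (lam.ker : Set G) := by
        have := hn.conj_mem _ ih t⁻¹
        rwa [inv_inv] at this
      have h2 : c ∈ Subgroup.centralizer (lam.ker : Set G) := by
        rw [Subgroup.mem_centralizer_iff]
        intro m hm
        exact D.hcomm m (MonoidHom.mem_ker.1 hm)
      exact Subgroup.mul_mem _ h1 h2
  intro m hm
  rw [Subgroup.mem_centralizer_iff] at hmem
  exact (hmem m (MonoidHom.mem_ker.2 hm)).symm

theorem E_period (i : ℕ) : E t c (i + p) = E t c i := by
  unfold E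
  rw [pow_add, pow_add, inv_pow t p, ← D.hpow]
  group

theorem E_add_mul (r k : ℕ) : E t c (r + p * k) = E t c r := by
  induction k with
  | zero => simp
  | succ k ih => rw [Nat.mul_succ, ← add_assoc, D.E_period, ih]

theorem E_mod (i : ℕ) : E t c (i % p) = E t c i := by
  conv_rhs => rw [← Nat.mod_add_div i p]
  rw [D.E_add_mul]

end TData

/-- The underlying function of the automorphism. -/
def thetaFun (lam : G →* Multiplicative (ZMod p)) (t c : G) (g : G) : G :=
  g * E t c (idx lam g)

namespace TData

variable (D : TData p lam t c)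
include D

theorem lam_thetaFun (g : G) : lam (thetaFun lam t c g) = lam g := by
  unfold thetaFun
  rw [map_mul, D.lam_E, mul_one]

theorem idx_thetaFun (g : G) : idx lam (thetaFun lam t c g) = idx lam g := by
  unfold idx
  rw [D.lam_thetaFun]

variable [NeZero p]

theorem lam_eq (y : G) : lam y = lam (t ^ idx lam y) := by
  rw [map_pow, D.ht, ← ofAdd_nsmul, nsmul_one]
  unfold idx
  rw [ZMod.natCast_zmod_val]
  rfl

theorem idx_mul (x y : G) : idx lam (x * y) = (idx lam x + idx lam y) % p := by
  unfold idx
  rw [map_mul, toAdd_mul, ZMod.val_add]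

theorem thetaFun_mul (x y : G) :
    thetaFun lam t c (x * y) = thetaFun lam t c x * thetaFun lam t c y := by
  unfold thetaFun
  rw [D.idx_mul, D.E_mod]
  set i := idx lam x with hi
  set j := idx lam y with hj
  -- y = t^j * m with m in the kernel
  set m := (t⁻¹) ^ j * y with hm
  have hy : y = t ^ j * m := by rw [hm, inv_pow]; group
  have hlm : lam m = 1 := by
    rw [hm, map_mul, map_pow, map_inv, D.lam_eq y, ← hj, map_pow, inv_pow, inv_mul_cancel]
  -- conjugate of E i
  have hconj : lam ((t⁻¹) ^ j * E t c i * t ^ j) = 1 := by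
    rw [map_mul, map_mul, D.lam_E, mul_one, map_pow, map_pow, map_inv, inv_pow, inv_mul_cancel]
  have hcomm : (t⁻¹) ^ j * E t c i * t ^ j * m = m * ((t⁻¹) ^ j * E t c i * t ^ j) := by
    -- the conjugate lies in the centralizer of the kernel, as the latter is normal
    have hmem : E t c i ∈ Subgroup.centralizer (lam.ker : Set G) := by
      rw [Subgroup.mem_centralizer_iff]
      intro k hk
      exact (D.E_comm i k (MonoidHom.mem_ker.1 hk)).symm
    have hn : (Subgroup.centralizer (lam.ker : Set G)).Normal := inferInstance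
    have h1 := hn.conj_mem _ hmem ((t⁻¹) ^ j)
    rw [inv_pow, inv_inv] at h1
    rw [Subgroup.mem_centralizer_iff] at h1
    rw [inv_pow]
    exact (h1 m (MonoidHom.mem_ker.2 hlm)).symm
  have h2 : E t c i * y = y * ((t⁻¹) ^ j * E t c i * t ^ j) := by
    calc E t c i * y = E t c i * (t ^ j * m) := by rw [← hy]
      _ = t ^ j * (((t⁻¹) ^ j * E t c i * t ^ j) * m) := by rw [inv_pow]; group
      _ = t ^ j * (m * ((t⁻¹) ^ j * E t c i * t ^ j)) := by rw [hcomm]
      _ = y * ((t⁻¹) ^ j * E t c i * t ^ j) := by rw [hy]; group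
  calc x * y * E t c (i + j) = x * y * ((t⁻¹) ^ j * E t c i * t ^ j * E t c j) := by rw [E_add]
    _ = x * (y * ((t⁻¹) ^ j * E t c i * t ^ j)) * E t c j := by group
    _ = x * (E t c i * y) * E t c j := by rw [h2]
    _ = x * E t c i * (y * E t c j) := by group

theorem thetaFun_injective : Function.Injective (thetaFun lam t c) := by
  intro x y hxy
  have h1 : idx lam x = idx lam y := by
    rw [← D.idx_thetaFun x, ← D.idx_thetaFun y, hxy]
  unfold thetaFun at hxy
  rw [h1] at hxy
  exact mul_right_cancel hxy

/-- The automorphism. -/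
noncomputable def theta [Finite G] : MulAut G :=
  MulEquiv.ofBijective
    (MonoidHom.mk' (thetaFun lam t c) D.thetaFun_mul)
    (Finite.injective_iff_bijective.1 D.thetaFun_injective)

@[simp] theorem theta_apply [Finite G] (g : G) : D.theta g = g * E t c (idx lam g) := rfl

theorem lam_theta [Finite G] (g : G) : lam (D.theta g) = lam g := D.lam_thetaFun g

theorem idx_theta [Finite G] (g : G) : idx lam (D.theta g) = idx lam g := D.idx_thetaFun g

/-- The effect on the abelianization. -/
theorem of_theta [Finite G] (g : G) :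
    Abelianization.of (D.theta g) =
      Abelianization.of g * (Abelianization.of c) ^ (idx lam g) := by
  rw [theta_apply, map_mul]
  congr 1
  unfold E
  rw [map_mul, map_pow, map_pow, map_inv, map_mul, mul_pow, inv_pow, inv_mul_cancel_left]

/-- Iterates: there is an automorphism preserving `lam` and multiplying the image in the
abelianization by `(of c)^(idx g * j)`. -/
theorem exists_iterate [Finite G] (j : ℕ) : ∃ σ : MulAut G, ∀ g : G, lam (σ g) = lam g ∧
    Abelianization.of (σ g) =
      Abelianization.of g * (Abelianization.of c) ^ (idx lam g * j) := by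
  induction j with
  | zero => exact ⟨1, fun g => ⟨rfl, by simp⟩⟩
  | succ j ih =>
    obtain ⟨σ, hσ⟩ := ih
    refine ⟨D.theta * σ, fun g => ?_⟩
    have h1 := hσ g
    refine ⟨?_, ?_⟩
    · rw [MulAut.mul_apply, D.lam_theta, h1.1]
    · rw [MulAut.mul_apply, D.of_theta, h1.2]
      have : idx lam (σ g) = idx lam g := by unfold idx; rw [h1.1]
      rw [this, mul_assoc, ← pow_add, Nat.mul_succ]

end TData

end Cfsg.Agent.Helper4.AutOrb
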