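import Mathlib
import Cfsg.Agent.Helper4.AutOrbA
import Cfsg.Agent.Helper4.AutOrbC

/-!
# Groups with central commutator subgroup of prime order: basic facts and the map `lam`
-/

set_option autoImplicit false

namespace Cfsg.Agent.Helper4.AutOrb

universe u

open scoped commutatorElement

variable {G : Type u} [Group G] [Finite G] {p : ℕ} [hpF : Fact p.Prime]

theorem card_mulZMod (p : ℕ) : Nat.card (Multiplicative (ZMod p)) = p := by
  rw [Nat.card_congr Multiplicative.toAdd, Nat.card_zmod]

section Basic

variable (hcard : Nat.card (commutator G) = p)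
include hcard

omit [Finite G] hpF in
theorem pow_p_eq_one_of_mem_commutator {z : G} (hz : z ∈ commutator G) : z ^ p = 1 := by
  have h : (⟨z, hz⟩ : commutator G) ^ Nat.card (commutator G) = 1 := pow_card_eq_one'
  rw [hcard] at h
  have := congrArg Subtype.val h
  simpa using this

omit [Finite G] hpF in
theorem comm_pow_p (a b : G) : ⁅a, b⁆ ^ p = 1 :=
  pow_p_eq_one_of_mem_commutator hcard
    (Subgroup.commutator_mem_commutator (Subgroup.mem_top a) (Subgroup.mem_top b))

omit [Finite G] in
theorem not_comm_of_card : ¬ ∀ a b : G, a * b = b * a := by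
  intro h
  have h1 : commutator G = ⊥ := by
    rw [commutator_def, eq_bot_iff, Subgroup.commutator_le]
    intro a _ b _
    rw [Subgroup.mem_bot, commutatorElement_eq_one_iff_commute]
    exact h a b
  rw [h1, Subgroup.card_bot] at hcard
  exact hpF.out.one_lt.ne hcard

omit [Finite G] in
theorem exists_not_mem_center : ∃ x : G, x ∉ Subgroup.center G := by
  by_contra h
  push Not at h
  apply not_comm_of_card hcard
  intro a b
  exact ((Subgroup.mem_center_iff.1 (h b)) a)

theorem sq_mul_card_center_le (hmin : ∀ d : ℕ, d ∣ Nat.card G → d ≠ 1 → p ≤ d) :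
    p ^ 2 * Nat.card (Subgroup.center G) ≤ Nat.card G := by
  set m := (Subgroup.center G).index with hm
  have h1 : Nat.card (Subgroup.center G) * m = Nat.card G := Subgroup.card_mul_index _
  have hmdvd : m ∣ Nat.card G := Subgroup.index_dvd_card _
  have hmpos : 0 < m := Nat.pos_of_ne_zero Subgroup.index_ne_zero_of_finite
  have hm1 : m ≠ 1 := by
    intro h
    rw [hm, Subgroup.index_eq_one] at h
    obtain ⟨x, hx⟩ := exists_not_mem_center hcard
    apply hx
    rw [h]
    trivial
  have hp2 : p ^ 2 ≤ m := by
    by_cases hmp : m.Prime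
    · exfalso
      have : Fact m.Prime := ⟨hmp⟩
      have hc : Nat.card (G ⧸ Subgroup.center G) = m := (Subgroup.index_eq_card _).symm
      have : IsCyclic (G ⧸ Subgroup.center G) := isCyclic_of_prime_card hc
      apply not_comm_of_card hcard
      have := MonoidHom.isMulCommutative_of_isCyclic_of_ker_le_center
        (QuotientGroup.mk' (Subgroup.center G)) (by rw [QuotientGroup.ker_mk'])
      intro a b
      exact this.is_comm.comm a b
    · have h2 := Nat.minFac_sq_le_self hmpos hmp
      have h3 : p ≤ m.minFac :=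
        hmin _ (dvd_trans (Nat.minFac_dvd m) hmdvd) (Nat.minFac_prime hm1).ne_one
      calc p ^ 2 ≤ m.minFac ^ 2 := Nat.pow_le_pow_left h3 2
        _ ≤ m := h2
  calc p ^ 2 * Nat.card (Subgroup.center G) ≤ m * Nat.card (Subgroup.center G) :=
        Nat.mul_le_mul_right _ hp2
    _ = Nat.card G := by rw [mul_comm, h1]

variable (hcen : commutator G ≤ Subgroup.center G)
include hcen

theorem pow_p_mem_center (g : G) : g ^ p ∈ Subgroup.center G := by
  rw [Subgroup.mem_center_iff]
  intro h
  have h1 : ⁅g ^ p, h⁆ = 1 := by rw [comm_pow_left hcen, comm_pow_p hcard]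
  exact ((commutatorElement_eq_one_iff_commute.1 h1).eq).symm

/-- The homomorphism `g ↦ ⁅x, g⁆`, with values identified with `ZMod p`. -/
noncomputable def lamHom (x : G) : G →* Multiplicative (ZMod p) :=
  (mulEquivOfPrimeCardEq (p := p) hcard (card_mulZMod p)).toMonoidHom.comp
    ((commHom hcen x).codRestrict (commutator G)
      (fun g => Subgroup.commutator_mem_commutator (Subgroup.mem_top x) (Subgroup.mem_top g)))

theorem lamHom_eq_one_iff (x g : G) : lamHom hcard hcen x g = 1 ↔ ⁅x, g⁆ = 1 := by
  unfold lamHom
  rw [MonoidHom.comp_apply, MulEquiv.coe_toMonoidHom, EmbeddingLike.map_eq_one_iff]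
  constructor
  · intro h
    exact congrArg Subtype.val h
  · intro h
    exact Subtype.ext h

theorem lamHom_surjective {x : G} (hx : x ∉ Subgroup.center G) :
    Function.Surjective (lamHom hcard hcen x) := by
  obtain ⟨g, hg⟩ : ∃ g : G, ⁅x, g⁆ ≠ 1 := by
    by_contra h
    push Not at h
    apply hx
    rw [Subgroup.mem_center_iff]
    intro g
    exact ((commutatorElement_eq_one_iff_commute.1 (h g)).eq).symm
  have hne : lamHom hcard hcen x g ≠ 1 := fun h => hg ((lamHom_eq_one_iff hcard hcen x g).1 h)
  intro y
  obtain ⟨k, hk⟩ := mem_powers_of_prime_card (card_mulZMod p) hne (g' := y)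
  exact ⟨g ^ k, by rw [map_pow]; exact hk⟩

theorem center_le_ker_lamHom (x : G) : Subgroup.center G ≤ (lamHom hcard hcen x).ker := by
  intro z hz
  rw [MonoidHom.mem_ker, lamHom_eq_one_iff, commutatorElement_eq_one_iff_commute]
  exact (Subgroup.mem_center_iff.1 hz x)

end Basic

end Cfsg.Agent.Helper4.AutOrb
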