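import Mathlib
import Cfsg.Agent.Helper4.AutOrbA
import Cfsg.Agent.Helper4.AutOrbC
import Cfsg.Agent.Helper4.AutOrbD

/-!
# Existence of the transvection data
-/

set_option autoImplicit false
set_option linter.unusedSectionVars false

namespace Cfsg.Agent.Helper4.AutOrb

universe u

open scoped commutatorElement

variable {G : Type u} [Group G] [Finite G] {p : ℕ} [hpF : Fact p.Prime]

/-- Odd case: a noncentral element of order `p`. -/
theorem exists_c_odd (hp2 : p ≠ 2) (hcard : Nat.card (commutator G) = p)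
    (hcen : commutator G ≤ Subgroup.center G)
    (hbound : p ^ 2 * Nat.card (Subgroup.center G) ≤ Nat.card G)
    (hC2 : ∀ z ∈ Subgroup.center G, z ^ p = 1 → z ∈ commutator G) :
    ∃ c : G, c ∉ Subgroup.center G ∧ c ^ p ∈ commutator G ∧
      ∀ t : G, ⁅c, t⁆ ≠ 1 → (t * c) ^ p = t ^ p := by
  have hp := hpF.out
  -- p divides the triangular number
  have hdvd : p ∣ ∑ i ∈ Finset.range p, i := by
    have h1 := Finset.sum_range_id_mul_two p
    have h2 : p ∣ (∑ i ∈ Finset.range p, i) * 2 := by rw [h1]; exact dvd_mul_right _ _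
    rcases hp.dvd_mul.1 h2 with h | h
    · exact h
    · exfalso
      exact hp2 ((Nat.prime_dvd_prime_iff_eq hp Nat.prime_two).1 h)
  have hpow : ∀ a b : G, (a * b) ^ p = a ^ p * b ^ p := by
    intro a b
    rw [mul_pow_classTwo hcen]
    obtain ⟨k, hk⟩ := hdvd
    rw [hk, pow_mul, comm_pow_p hcard, one_pow, mul_one]
  -- the p-th power homomorphism
  let π : G →* G := MonoidHom.mk' (fun g => g ^ p) hpow
  have hπ : ∀ g, π g = g ^ p := fun g => rfl
  obtain ⟨c, hc1, hc2⟩ : ∃ c : G, c ∉ Subgroup.center G ∧ c ^ p = 1 := by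
    by_contra hcon
    push Not at hcon
    have hker : π.ker ≤ commutator G := by
      intro g hg
      rw [MonoidHom.mem_ker, hπ] at hg
      exact hC2 g (by by_contra h; exact (hcon g h) hg) hg
    have hrange : π.range ≤ Subgroup.center G := by
      rintro _ ⟨g, rfl⟩
      rw [hπ]
      exact pow_p_mem_center hcard hcen g
    have h1 := Subgroup.card_mul_index π.ker
    rw [Subgroup.index_ker] at h1
    have h2 : Nat.card π.ker ≤ p := hcard ▸ Subgroup.card_le_of_le hker
    have h3 : Nat.card π.range ≤ Nat.card (Subgroup.center G) := Subgroup.card_le_of_le hrange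
    have hZpos : 0 < Nat.card (Subgroup.center G) := Nat.card_pos
    have h4 : Nat.card G ≤ p * Nat.card (Subgroup.center G) := by
      rw [← h1]; exact Nat.mul_le_mul h2 h3
    have h5 : p ^ 2 * Nat.card (Subgroup.center G) ≤ p * Nat.card (Subgroup.center G) :=
      hbound.trans h4
    have h6 : p ^ 2 ≤ p := Nat.le_of_mul_le_mul_right h5 hZpos
    have h7 := hp.one_lt
    nlinarith
  refine ⟨c, hc1, ?_, ?_⟩
  · rw [hc2]; exact Subgroup.one_mem _
  · intro t _
    rw [hpow, hc2, mul_one]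

/-- Even case: a noncentral element whose square is the nontrivial commutator. -/
theorem exists_c_two (hcard : Nat.card (commutator G) = 2)
    (hcen : commutator G ≤ Subgroup.center G)
    (hC2 : ∀ z ∈ Subgroup.center G, z ^ 2 = 1 → z ∈ commutator G) :
    ∃ c : G, c ∉ Subgroup.center G ∧ c ^ 2 ∈ commutator G ∧
      ∀ t : G, ⁅c, t⁆ ≠ 1 → (t * c) ^ 2 = t ^ 2 := by
  have : Fact (Nat.Prime 2) := ⟨Nat.prime_two⟩
  -- the nontrivial commutator
  obtain ⟨w, hw1, hw2⟩ := (Nat.card_eq_two_iff' (1 : commutator G)).1 hcard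
  have hw1' : (w : G) ≠ 1 := fun h => hw1 (Subtype.ext h)
  have hwG : ∀ z ∈ commutator G, z ≠ 1 → z = (w : G) := by
    intro z hz hz1
    have := hw2 ⟨z, hz⟩ (fun h => hz1 (congrArg Subtype.val h))
    exact congrArg Subtype.val this
  have hww : (w : G) * (w : G) = 1 := by
    have := pow_p_eq_one_of_mem_commutator hcard w.2
    rwa [pow_two] at this
  have hcomm_w : ∀ a b : G, ⁅a, b⁆ ≠ 1 → ⁅a, b⁆ = (w : G) := fun a b h =>
    hwG _ (Subgroup.commutator_mem_commutator (Subgroup.mem_top a) (Subgroup.mem_top b)) h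
  -- reduction: it suffices to find a noncentral c with c^2 = w
  suffices hsuff : ∃ c : G, c ∉ Subgroup.center G ∧ c ^ 2 = (w : G) by
    obtain ⟨c, hc1, hc2⟩ := hsuff
    refine ⟨c, hc1, by rw [hc2]; exact w.2, ?_⟩
    intro t ht
    rw [mul_pow_classTwo hcen, hcomm_w c t ht, hc2]
    have : ∑ i ∈ Finset.range 2, i = 1 := by decide
    rw [this, pow_one, mul_assoc, hww, mul_one]
  -- squares of central elements have index two in the center
  let φ : ↥(Subgroup.center G) →* ↥(Subgroup.center G) :=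
    MonoidHom.mk' (fun z => z ^ 2) (fun a b => by
      have hab : Commute a b := Subtype.ext (Subgroup.mem_center_iff.1 b.2 a.1)
      exact hab.mul_pow 2)
  have hφ : ∀ z, φ z = z ^ 2 := fun z => rfl
  have hker : Nat.card φ.ker = 2 := by
    rw [← hcard]
    apply Nat.card_congr
    exact
      { toFun := fun z => ⟨z.1.1, hC2 z.1.1 z.1.2 (by
          have h := z.2
          rw [MonoidHom.mem_ker, hφ] at h
          have := congrArg Subtype.val h
          simpa using this)⟩
        invFun := fun g => ⟨⟨g.1, hcen g.2⟩, by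
          rw [MonoidHom.mem_ker, hφ]
          apply Subtype.ext
          simpa using pow_p_eq_one_of_mem_commutator hcard g.2⟩
        left_inv := fun z => Subtype.ext (Subtype.ext rfl)
        right_inv := fun g => Subtype.ext rfl }
  have hidx : φ.range.index = 2 := by
    have h1 := Subgroup.card_mul_index φ.ker
    have h2 := Subgroup.card_mul_index φ.range
    rw [Subgroup.index_ker, hker] at h1
    have hpos : 0 < Nat.card φ.range := Nat.card_pos
    have h3 : Nat.card φ.range * φ.range.index = Nat.card φ.range * 2 := by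
      rw [h2, ← h1, mul_comm]
    exact Nat.eq_of_mul_eq_mul_left hpos h3
  have hmem : ∀ y : ↥(Subgroup.center G),
      y ∈ φ.range ↔ ∃ z ∈ Subgroup.center G, z ^ 2 = (y : G) := by
    intro y
    rw [MonoidHom.mem_range]
    constructor
    · rintro ⟨z, hz⟩
      refine ⟨z.1, z.2, ?_⟩
      have := congrArg Subtype.val hz
      rw [hφ] at this
      simpa using this
    · rintro ⟨z, hz, hzy⟩
      refine ⟨⟨z, hz⟩, ?_⟩
      rw [hφ]
      apply Subtype.ext
      simpa using hzy
  have hsq : ∀ u v : G, u ∈ Subgroup.center G → v ∈ Subgroup.center G →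
      (¬ ∃ z ∈ Subgroup.center G, z ^ 2 = u) → (¬ ∃ z ∈ Subgroup.center G, z ^ 2 = v) →
      ∃ z ∈ Subgroup.center G, z ^ 2 = u * v := by
    intro u v hu hv hnu hnv
    have h1 : (⟨u, hu⟩ : ↥(Subgroup.center G)) * ⟨v, hv⟩ ∈ φ.range := by
      rw [Subgroup.mul_mem_iff_of_index_two hidx, hmem, hmem]
      exact ⟨fun h => absurd h hnu, fun h => absurd h hnv⟩
    exact (hmem _).1 h1
  have hsqmul : ∀ u v : G, (∃ z ∈ Subgroup.center G, z ^ 2 = u) →
      (∃ z ∈ Subgroup.center G, z ^ 2 = v) → ∃ z ∈ Subgroup.center G, z ^ 2 = u * v := by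
    rintro u v ⟨z1, hz1, rfl⟩ ⟨z2, hz2, rfl⟩
    refine ⟨z1 * z2, Subgroup.mul_mem _ hz1 hz2, ?_⟩
    have : Commute z1 z2 := (Subgroup.mem_center_iff.1 hz2 z1)
    exact this.mul_pow 2
  -- two non-commuting elements
  obtain ⟨g1, g2, hg⟩ : ∃ g1 g2 : G, ⁅g2, g1⁆ ≠ 1 := by
    by_contra hcon
    push Not at hcon
    apply not_comm_of_card hcard
    intro a b
    exact (commutatorElement_eq_one_iff_commute.1 (hcon b a)).eq
  have hgw : ⁅g2, g1⁆ = (w : G) := hcomm_w g2 g1 hg
  have hwZ : (w : G) ∈ Subgroup.center G := hcen w.2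
  have haZ : g1 ^ 2 ∈ Subgroup.center G := pow_p_mem_center hcard hcen g1
  have hbZ : g2 ^ 2 ∈ Subgroup.center G := pow_p_mem_center hcard hcen g2
  have hg1 : g1 ∉ Subgroup.center G := by
    intro h
    apply hg
    rw [commutatorElement_eq_one_iff_commute]
    exact (Subgroup.mem_center_iff.1 h g2)
  have hg2 : g2 ∉ Subgroup.center G := by
    intro h
    apply hg
    rw [commutatorElement_eq_one_iff_commute]
    exact ((Subgroup.mem_center_iff.1 h g1)).symm
  have hg12 : g1 * g2 ∉ Subgroup.center G := by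
    intro h
    apply hg
    rw [commutatorElement_eq_one_iff_commute]
    have h1 := (Subgroup.mem_center_iff.1 h g1)
    -- g1 * (g1 * g2) = (g1 * g2) * g1
    have h2 : g1 * g2 = g2 * g1 := by
      apply mul_left_cancel (a := g1)
      rw [h1]; group
    exact h2.symm
  -- adjusting by a central element
  have hadj : ∀ (g z u : G), g ∉ Subgroup.center G → z ∈ Subgroup.center G →
      g ^ 2 = u → z ^ 2 = u * (w : G) →
      ∃ c : G, c ∉ Subgroup.center G ∧ c ^ 2 = (w : G) := by
    intro g z u hgn hz hgu hzu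
    refine ⟨g * z⁻¹, ?_, ?_⟩
    · intro h
      apply hgn
      have := Subgroup.mul_mem _ h hz
      simpa using this
    · have hc : Commute g z⁻¹ := (Subgroup.mem_center_iff.1 (Subgroup.inv_mem _ hz) g)
      have hwinv : ((w : G))⁻¹ = (w : G) := inv_eq_of_mul_eq_one_left hww
      rw [hc.mul_pow, hgu, inv_pow, hzu, mul_inv_rev, hwinv,
        ← (Subgroup.mem_center_iff.1 hwZ u⁻¹), mul_inv_cancel_left]
  -- the three candidates
  have hthree : (∃ z ∈ Subgroup.center G, z ^ 2 = g1 ^ 2 * (w : G)) ∨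
      (∃ z ∈ Subgroup.center G, z ^ 2 = g2 ^ 2 * (w : G)) ∨
      (∃ z ∈ Subgroup.center G, z ^ 2 = g1 ^ 2 * g2 ^ 2) := by
    by_cases hab : ∃ z ∈ Subgroup.center G, z ^ 2 = g1 ^ 2 * g2 ^ 2
    · exact Or.inr (Or.inr hab)
    by_cases ha : ∃ z ∈ Subgroup.center G, z ^ 2 = g1 ^ 2
    · by_cases hb : ∃ z ∈ Subgroup.center G, z ^ 2 = g2 ^ 2
      · exact absurd (hsqmul _ _ ha hb) hab
      · by_cases hw : ∃ z ∈ Subgroup.center G, z ^ 2 = (w : G)
        · exact Or.inl (hsqmul _ _ ha hw)
        · exact Or.inr (Or.inl (hsq _ _ hbZ hwZ hb hw))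
    · by_cases hb : ∃ z ∈ Subgroup.center G, z ^ 2 = g2 ^ 2
      · by_cases hw : ∃ z ∈ Subgroup.center G, z ^ 2 = (w : G)
        · exact Or.inr (Or.inl (hsqmul _ _ hb hw))
        · exact Or.inl (hsq _ _ haZ hwZ ha hw)
      · exact absurd (hsq _ _ haZ hbZ ha hb) hab
  rcases hthree with ⟨z, hz, hzu⟩ | ⟨z, hz, hzu⟩ | ⟨z, hz, hzu⟩
  · exact hadj g1 z (g1 ^ 2) hg1 hz rfl hzu
  · exact hadj g2 z (g2 ^ 2) hg2 hz rfl hzu
  · -- c = g1 g2 z⁻¹
    refine hadj (g1 * g2) z (g1 ^ 2 * g2 ^ 2 * (w : G)) hg12 hz ?_ ?_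
    · rw [mul_pow_classTwo hcen, hgw]
      have : ∑ i ∈ Finset.range 2, i = 1 := by decide
      rw [this, pow_one]
    · rw [mul_assoc, hww, mul_one, hzu]

/-- The existence of the data for the transvection. -/
theorem exists_data (hmin : ∀ d : ℕ, d ∣ Nat.card G → d ≠ 1 → p ≤ d)
    (hcard : Nat.card (commutator G) = p) (hcen : commutator G ≤ Subgroup.center G) :
    ∃ (lam : G →* Multiplicative (ZMod p)) (t c : G), TData p lam t c ∧
      Function.Surjective lam ∧ Subgroup.center G ≤ lam.ker ∧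
      c ∉ commutator G ∧ c ^ p ∈ commutator G := by
  have hp := hpF.out
  by_cases hcase : ∃ c ∈ Subgroup.center G, c ^ p = 1 ∧ c ∉ commutator G
  · -- Case 1: a central element of order p outside G'
    obtain ⟨c, hcZ, hcp, hcG⟩ := hcase
    obtain ⟨x, hx⟩ := exists_not_mem_center hcard (G := G)
    obtain ⟨t, ht⟩ := lamHom_surjective hcard hcen hx (Multiplicative.ofAdd 1)
    refine ⟨lamHom hcard hcen x, t, c, ⟨ht, ?_, ?_, ?_⟩, lamHom_surjective hcard hcen hx,
      center_le_ker_lamHom hcard hcen x, hcG, by rw [hcp]; exact Subgroup.one_mem _⟩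
    · exact MonoidHom.mem_ker.1 (center_le_ker_lamHom hcard hcen x hcZ)
    · intro m _
      exact (Subgroup.mem_center_iff.1 hcZ m)
    · have : Commute t c := (Subgroup.mem_center_iff.1 hcZ t)
      rw [this.mul_pow, hcp, mul_one]
  · -- Case 2
    have hC2 : ∀ z ∈ Subgroup.center G, z ^ p = 1 → z ∈ commutator G := by
      intro z hz hzp
      by_contra h
      exact hcase ⟨z, hz, hzp, h⟩
    obtain ⟨c, hc1, hc2, hc3⟩ : ∃ c : G, c ∉ Subgroup.center G ∧ c ^ p ∈ commutator G ∧
        ∀ t : G, ⁅c, t⁆ ≠ 1 → (t * c) ^ p = t ^ p := by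
      by_cases hp2 : p = 2
      · subst hp2
        exact exists_c_two hcard hcen hC2
      · exact exists_c_odd hp2 hcard hcen (sq_mul_card_center_le hcard hmin) hC2
    obtain ⟨t, ht⟩ := lamHom_surjective hcard hcen hc1 (Multiplicative.ofAdd 1)
    refine ⟨lamHom hcard hcen c, t, c, ⟨ht, ?_, ?_, ?_⟩, lamHom_surjective hcard hcen hc1,
      center_le_ker_lamHom hcard hcen c, fun h => hc1 (hcen h), hc2⟩
    · rw [lamHom_eq_one_iff]
      simp
    · intro m hm
      rw [lamHom_eq_one_iff, commutatorElement_eq_one_iff_commute] at hm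
      exact hm.eq.symm
    · apply hc3
      intro h
      rw [← lamHom_eq_one_iff hcard hcen, ht] at h
      -- ofAdd 1 ≠ 1
      have h1 : (1 : ZMod p) = 0 := by
        have := congrArg Multiplicative.toAdd h
        simp at this
      have : Fact (1 < p) := ⟨hp.one_lt⟩
      exact one_ne_zero h1

end Cfsg.Agent.Helper4.AutOrb
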