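import Mathlib
import Cfsg.Agent.Helper4.AutOrbA
import Cfsg.Agent.Helper4.AutOrbC
import Cfsg.Agent.Helper4.AutOrbD
import Cfsg.Agent.Helper4.AutOrbE

/-!
# Orbit bounds and the final count
-/

set_option autoImplicit false
set_option linter.unusedSectionVars false

namespace Cfsg.Agent.Helper4.AutOrb

universe u

open scoped commutatorElement

variable {G : Type u} [Group G] [Finite G] {p : ℕ} [hpF : Fact p.Prime]

theorem sum_indicator_subgroup [Fintype G] (H : Subgroup G) [DecidablePred (· ∈ H)] (q : ℕ) :
    ∑ g : G, (if g ∈ H then q else 0) = Nat.card H * q := by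
  rw [← Finset.sum_filter, Finset.sum_const, smul_eq_mul]
  congr 1
  exact (Nat.subtype_card (Finset.univ.filter (· ∈ H)) (by simp)).symm

theorem lam_conj {lam : G →* Multiplicative (ZMod p)} (h y : G) :
    lam (h * y * h⁻¹) = lam y := by
  rw [map_mul, map_mul, map_inv, mul_comm (lam h) (lam y), mul_inv_cancel_right]

theorem of_conj (h y : G) :
    Abelianization.of (h * y * h⁻¹) = Abelianization.of y := by
  rw [map_mul, map_mul, map_inv, mul_comm (Abelianization.of h) (Abelianization.of y),
    mul_inv_cancel_right]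

theorem idx_pos_lt {lam : G →* Multiplicative (ZMod p)} {a : G} (ha : lam a ≠ 1) :
    0 < idx lam a ∧ idx lam a < p := by
  have : NeZero p := ⟨hpF.out.ne_zero⟩
  refine ⟨Nat.pos_of_ne_zero ?_, ZMod.val_lt _⟩
  intro h
  unfold idx at h
  rw [ZMod.val_eq_zero] at h
  apply ha
  have : lam a = Multiplicative.ofAdd (Multiplicative.toAdd (lam a)) := rfl
  rw [this, h]
  rfl

/-- Elements outside the kernel have at least `p^2` automorphic images. -/
theorem exists_orbit_subset_outside [Fintype G] [DecidableEq G]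
    {lam : G →* Multiplicative (ZMod p)} {t c : G} (D : TData p lam t c)
    (hmin : ∀ d : ℕ, d ∣ Nat.card G → d ≠ 1 → p ≤ d)
    (hZ : Subgroup.center G ≤ lam.ker) (hc1 : c ∉ commutator G) (hc2 : c ^ p ∈ commutator G)
    (a : G) (ha : lam a ≠ 1) :
    ∃ s : Finset G, (∀ b ∈ s, b ∈ MulAction.orbit (MulAut G) a ∧ lam b ≠ 1) ∧
      p * p ≤ s.card := by
  have : NeZero p := ⟨hpF.out.ne_zero⟩
  have hp := hpF.out
  choose σ hσ using D.exists_iterate
  obtain ⟨hi0, hip⟩ := idx_pos_lt ha
  set i := idx lam a with hi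
  -- the order of `of c`
  have hord : orderOf (Abelianization.of c) = p := by
    apply orderOf_eq_prime
    · rw [← map_pow]
      have : c ^ p ∈ (Abelianization.of (G := G)).ker := by rw [Abelianization.ker_of]; exact hc2
      exact MonoidHom.mem_ker.1 this
    · intro h
      apply hc1
      rw [← Abelianization.ker_of]
      exact MonoidHom.mem_ker.2 h
  have hcop : Nat.gcd p i = 1 := by
    have : Nat.Coprime p i := (Nat.Prime.coprime_iff_not_dvd hp).2 (Nat.not_dvd_of_pos_of_lt hi0 hip)
    exact this
  refine ⟨(Finset.range p).biUnion (fun j => conjFinset (σ j a)), ?_, ?_⟩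
  · intro b hb
    rw [Finset.mem_biUnion] at hb
    obtain ⟨j, _, hbj⟩ := hb
    rw [mem_conjFinset] at hbj
    obtain ⟨h, rfl⟩ := hbj
    refine ⟨⟨MulAut.conj h * σ j, by simp [MulAut.smul_def]⟩, ?_⟩
    rw [lam_conj, (hσ j a).1]
    exact ha
  · rw [Finset.card_biUnion]
    · calc p * p = ∑ _j ∈ Finset.range p, p := by simp
        _ ≤ _ := by
          apply Finset.sum_le_sum
          intro j _
          apply le_card_conjFinset p hmin
          intro hcen
          apply ha
          rw [← (hσ j a).1]
          exact MonoidHom.mem_ker.1 (hZ hcen)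
    · intro j hj j' hj' hne
      rw [Function.onFun, Finset.disjoint_left]
      intro b hb hb'
      apply hne
      rw [mem_conjFinset] at hb hb'
      obtain ⟨h, rfl⟩ := hb
      obtain ⟨h', hh'⟩ := hb'
      have h1 := congrArg Abelianization.of hh'
      rw [of_conj, of_conj, (hσ j a).2, (hσ j' a).2] at h1
      have h2 := mul_left_cancel h1
      rw [pow_eq_pow_iff_modEq, hord] at h2
      have h3 : j ≡ j' [MOD p] := Nat.ModEq.cancel_left_of_coprime hcop h2.symm
      exact Nat.ModEq.eq_of_lt_of_lt h3 (Finset.mem_range.1 hj) (Finset.mem_range.1 hj')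

/-- The final count. -/
theorem orbit_bound_of_data
    {lam : G →* Multiplicative (ZMod p)} {t c : G} (D : TData p lam t c)
    (hmin : ∀ d : ℕ, d ∣ Nat.card G → d ≠ 1 → p ≤ d)
    (hsurj : Function.Surjective lam)
    (hZ : Subgroup.center G ≤ lam.ker) (hc1 : c ∉ commutator G) (hc2 : c ^ p ∈ commutator G)
    (hbound : p ^ 2 * Nat.card (Subgroup.center G) ≤ Nat.card G) :
    p * Nat.card (MulAction.orbitRel.Quotient (MulAut G) G) ≤ Nat.card G := by
  classical
  have : Fintype G := Fintype.ofFinite G
  have hp := hpF.out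
  obtain ⟨q, hq⟩ : ∃ q, p = q + 1 := ⟨p - 1, (Nat.succ_pred_eq_of_pos hp.pos).symm⟩
  -- index of the kernel
  have hM : p * Nat.card lam.ker = Nat.card G := by
    have h1 := Subgroup.card_mul_index lam.ker
    rw [Subgroup.index_ker, MonoidHom.range_eq_top.2 hsurj, Subgroup.card_top, card_mulZMod] at h1
    rw [mul_comm]; exact h1
  set wt : G → ℕ := fun g =>
    1 + (if g ∈ lam.ker then q else 0) + (if g ∈ Subgroup.center G then p * q else 0) with hwt
  have hwt1 : ∀ g, 1 ≤ wt g := fun g => by rw [hwt]; simp only; omega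
  have hwtM : ∀ g, g ∈ lam.ker → p ≤ wt g := fun g hg => by
    rw [hwt]; simp only [if_pos hg]; omega
  have hwtZ : ∀ g, g ∈ Subgroup.center G → p ^ 2 ≤ wt g := fun g hg => by
    rw [hwt]; simp only [if_pos hg, if_pos (hZ hg)]
    rw [hq]; ring_nf; omega
  have key := weighted_orbit_count (Γ := MulAut G) (α := G) wt (p ^ 2) (by
    intro a
    by_cases haZ : a ∈ Subgroup.center G
    · refine ⟨{a}, ?_, ?_⟩
      · intro b hb
        rw [Finset.mem_singleton.1 hb]
        exact MulAction.mem_orbit_self a
      · rw [Finset.sum_singleton]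
        exact hwtZ a haZ
    by_cases haM : a ∈ lam.ker
    · refine ⟨conjFinset a, ?_, ?_⟩
      · intro b hb
        obtain ⟨h, rfl⟩ := mem_conjFinset.1 hb
        exact conj_mem_orbit a h
      · calc p ^ 2 = p * p := pow_two p
          _ ≤ (conjFinset a).card * p :=
            Nat.mul_le_mul_right _ (le_card_conjFinset p hmin a haZ)
          _ = (conjFinset a).card • p := (smul_eq_mul _ _).symm
          _ ≤ _ := by
            apply Finset.card_nsmul_le_sum
            intro b hb
            obtain ⟨h, rfl⟩ := mem_conjFinset.1 hb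
            apply hwtM
            rw [MonoidHom.mem_ker, lam_conj]
            exact MonoidHom.mem_ker.1 haM
    · obtain ⟨s, hs1, hs2⟩ := exists_orbit_subset_outside D hmin hZ hc1 hc2 a
        (fun h => haM (MonoidHom.mem_ker.2 h))
      refine ⟨s, fun b hb => (hs1 b hb).1, ?_⟩
      calc p ^ 2 = p * p := pow_two p
        _ ≤ s.card := hs2
        _ = s.card • 1 := by simp
        _ ≤ _ := Finset.card_nsmul_le_sum _ _ _ (fun b _ => hwt1 b))
  -- total weight
  have hsum : ∑ a, wt a = Nat.card G + Nat.card lam.ker * q +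
      Nat.card (Subgroup.center G) * (p * q) := by
    rw [hwt]
    simp only [Finset.sum_add_distrib]
    rw [sum_indicator_subgroup, sum_indicator_subgroup]
    simp [Nat.card_eq_fintype_card]
  rw [hsum] at key
  set n := Nat.card G with hn
  set m := Nat.card lam.ker with hm
  set z := Nat.card (Subgroup.center G) with hz
  set ω := Nat.card (MulAction.orbitRel.Quotient (MulAut G) G) with hω
  -- arithmetic: p^2 ω ≤ n + m q + z p q, p m = n, p^2 z ≤ n, p = q + 1
  have hppos : 0 < p := hp.pos
  have h1 : p * (p ^ 2 * ω) ≤ p * (n + m * q + z * (p * q)) := Nat.mul_le_mul_left _ key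
  have h2 : p * (n + m * q + z * (p * q)) = p * n + n * q + (p ^ 2 * z) * q := by
    rw [← hM]; ring
  have h3 : p * n + n * q + (p ^ 2 * z) * q ≤ p * n + n * q + n * q :=
    Nat.add_le_add_left (Nat.mul_le_mul_right _ hbound) _
  have h4 : p * n + n * q + n * q ≤ p ^ 2 * n := by
    rw [hq]
    have : q ≤ q * q := Nat.le_mul_self q
    nlinarith
  have h5 : p ^ 2 * (p * ω) ≤ p ^ 2 * n := by
    calc p ^ 2 * (p * ω) = p * (p ^ 2 * ω) := by ring
      _ ≤ _ := h1.trans (h2.le.trans (h3.trans h4))
  exact Nat.le_of_mul_le_mul_left h5 (pow_pos hppos 2)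

/-- The main bound in the central, prime-order commutator case. -/
theorem orbit_bound_classTwo (hmin : ∀ d : ℕ, d ∣ Nat.card G → d ≠ 1 → p ≤ d)
    (hcard : Nat.card (commutator G) = p) (hcen : commutator G ≤ Subgroup.center G) :
    p * Nat.card (MulAction.orbitRel.Quotient (MulAut G) G) ≤ Nat.card G := by
  obtain ⟨lam, t, c, D, hsurj, hZ, hc1, hc2⟩ := exists_data hmin hcard hcen
  exact orbit_bound_of_data D hmin hsurj hZ hc1 hc2 (sq_mul_card_center_le hcard hmin)

end Cfsg.Agent.Helper4.AutOrb
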