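import Mathlib
import Cfsg.Agent.Helper4.AutOrbA
import Cfsg.Agent.Helper4.AutOrbB
import Cfsg.Agent.Helper4.AutOrbF

/-!
# Automorphism orbits of a finite nonabelian group: at most `|G| / p` where `p` is the least prime
divisor of `|G|`.
-/

set_option autoImplicit false

namespace Cfsg.Agent.Helper4.AutOrb

universe u

open scoped commutatorElement

variable {G : Type u} [Group G] [Finite G]

/-- A commutator subgroup of order `p`, the least nontrivial divisor of `|G|`, is central. -/
theorem commutator_le_center_of_card {p : ℕ}
    (hmin : ∀ d : ℕ, d ∣ Nat.card G → d ≠ 1 → p ≤ d)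
    (hcard : Nat.card (commutator G) = p) (hp0 : 0 < p) :
    commutator G ≤ Subgroup.center G := by
  classical
  have : Fintype G := Fintype.ofFinite G
  intro g hg
  by_contra hgZ
  have h1 := le_card_conjFinset p hmin g hgZ
  have hsub : conjFinset g ⊆ (Finset.univ.filter (· ∈ commutator G)).erase 1 := by
    intro y hy
    obtain ⟨h, rfl⟩ := mem_conjFinset.1 hy
    rw [Finset.mem_erase, Finset.mem_filter]
    refine ⟨?_, Finset.mem_univ _, ?_⟩
    · intro h1
      apply hgZ
      have : g = 1 := by
        have h2 : g = h⁻¹ * (h * g * h⁻¹) * h := by group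
        rw [h2, h1]; group
      rw [this]
      exact Subgroup.one_mem _
    · have hn : (commutator G).Normal := inferInstance
      exact hn.conj_mem g hg h
  have h2 := Finset.card_le_card hsub
  rw [Finset.card_erase_of_mem (by simp)] at h2
  have h3 : (Finset.univ.filter (· ∈ commutator G)).card = p := by
    rw [← hcard]
    exact (Nat.subtype_card (p := fun x => x ∈ commutator G)
      (Finset.univ.filter (· ∈ commutator G)) (by simp)).symm
  rw [h3] at h2
  omega

/-- The main theorem. -/
theorem card_autOrbits_le (hna : ¬ ∀ a b : G, a * b = b * a) :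
    Nat.card (MulAction.orbitRel.Quotient (MulAut G) G) ≤
      Nat.card G / (Nat.card G).minFac := by
  set n := Nat.card G with hn
  have hnpos : 0 < n := Nat.card_pos
  have hn1 : n ≠ 1 := by
    intro h
    apply hna
    have : Subsingleton G := (Nat.card_eq_one_iff_unique.1 h).1
    intro a b
    exact Subsingleton.elim _ _
  set p := n.minFac with hp
  have hpp : p.Prime := Nat.minFac_prime hn1
  have : Fact p.Prime := ⟨hpp⟩
  have hmin : ∀ d : ℕ, d ∣ Nat.card G → d ≠ 1 → p ≤ d := by
    intro d hd hd1
    have hd0 : d ≠ 0 := by
      rintro rfl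
      rw [zero_dvd_iff] at hd
      omega
    exact Nat.minFac_le_of_dvd (by omega) hd
  have h1 := card_autOrbits_le_card_conjClasses (G := G)
  rw [Nat.le_div_iff_mul_le hpp.pos, mul_comm]
  by_cases hk : p * Nat.card (ConjClasses G) ≤ n
  · exact (Nat.mul_le_mul_left p h1).trans hk
  · push Not at hk
    have h2 := card_commutator_le p hpp.pos hmin hk
    have h3 : Nat.card (commutator G) ≠ 1 := by
      intro h
      apply hna
      have hbot : commutator G = ⊥ := Subgroup.card_eq_one.1 h
      intro a b
      have : ⁅a, b⁆ ∈ commutator G :=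
        Subgroup.commutator_mem_commutator (Subgroup.mem_top a) (Subgroup.mem_top b)
      rw [hbot, Subgroup.mem_bot, commutatorElement_eq_one_iff_commute] at this
      exact this.eq
    have h4 : p ≤ Nat.card (commutator G) := hmin _ (Subgroup.card_subgroup_dvd_card _) h3
    have hcard : Nat.card (commutator G) = p := le_antisymm h2 h4
    have hcen := commutator_le_center_of_card hmin hcard hpp.pos
    exact orbit_bound_classTwo hmin hcard hcen

end Cfsg.Agent.Helper4.AutOrb
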