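import Mathlib

namespace Cfsg.Agent.Helper4

/-- A group `K` of automorphisms of `G` stabilizing the subgroup `M` acts on the coset space `G ⧸ M`. -/
@[reducible] def autQuotAction {G : Type*} [Group G] (M : Subgroup G) (K : Subgroup (MulAut G))
    (hK : ∀ φ ∈ K, ∀ m ∈ M, φ m ∈ M) : MulAction K (G ⧸ M) where
  smul φ q := Quotient.map' (fun g : G => (φ : MulAut G) g) (fun a b hab => by
      rw [QuotientGroup.leftRel_apply] at hab ⊢
      rw [← map_inv, ← map_mul]
      exact hK φ φ.2 _ hab) q
  one_smul q := by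
    induction q using QuotientGroup.induction_on
    rfl
  mul_smul φ ψ q := by
    induction q using QuotientGroup.induction_on
    rfl

theorem autQuotAction_smul_mk {G : Type*} [Group G] (M : Subgroup G) (K : Subgroup (MulAut G))
    (hK : ∀ φ ∈ K, ∀ m ∈ M, φ m ∈ M) (φ : K) (g : G) :
    (autQuotAction M K hK).smul φ (QuotientGroup.mk g : G ⧸ M) =
      (QuotientGroup.mk ((φ : MulAut G) g) : G ⧸ M) := rfl

end Cfsg.Agent.Helper4
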