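import Mathlib
import Cfsg.Prelude
import Cfsg.Agent.Helper2.BG1412i
import Cfsg.Agent.Helper4.BG12d
import Cfsg.Agent.Helper4.BG15O
import Cfsg.Agent.Helper5.HyperplaneGen
import Cfsg.Agent.Helper1.BG15P2b
import Cfsg.Agent.Helper1.NilpCoprime
import Cfsg.Agent.Lead.BG127b

set_option autoImplicit false
set_option maxHeartbeats 1600000
set_option linter.unusedSectionVars false
set_option linter.style.haveILetI false

/-!
Toward BG Theorem 15.8 / S1376 clause 2 (regularity part): general lemmas.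
-/

namespace Cfsg.Agent.Helper4.BG158

open Cfsg Cfsg.Agent.Helper1 Cfsg.Agent.Helper4.BG12 Cfsg.Agent.Helper4.BG15
open scoped Pointwise

universe u

variable {G : Type u} [Group G] [Finite G]

/-- conjugates of elementary abelian subgroups -/
theorem isElementaryAbelian_conj_smul {ℓ : ℕ} {A : Subgroup G} (hA : Cfsg.IsElementaryAbelian ℓ A)
    (m : G) : Cfsg.IsElementaryAbelian ℓ (MulAut.conj m • A) := by
  have hc : ∀ a ∈ A, ∀ b ∈ A, a * b = b * a := by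
    intro a ha b hb
    have := hA.1.is_comm.comm ⟨a, ha⟩ ⟨b, hb⟩
    exact congrArg Subtype.val this
  refine ⟨⟨⟨?_⟩⟩, ?_⟩
  · rintro ⟨x, hx⟩ ⟨y, hy⟩
    apply Subtype.ext
    rw [mem_conj_smul] at hx hy
    have h := hc _ hx _ hy
    change x * y = y * x
    calc x * y = m * ((m⁻¹ * x * m) * (m⁻¹ * y * m)) * m⁻¹ := by group
      _ = m * ((m⁻¹ * y * m) * (m⁻¹ * x * m)) * m⁻¹ := by rw [h]
      _ = y * x := by group
  · intro x hx
    rw [mem_conj_smul] at hx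
    have h := hA.2 _ hx
    have h2 : x = m * (m⁻¹ * x * m) * m⁻¹ := by group
    rw [h2, conj_pow, h]; group

/-- For `ℓ ∈ τ₂(H)` every complement of `H_σ` contains an elementary abelian subgroup of order
`ℓ²`. -/
theorem exists_ea2_le_compl (hG : Cfsg.IsMinSimpleOddOrder G) {H E : Subgroup G} (hH : IsCoatom H)
    (hE : Cfsg.IsComplIn E (Cfsg.sigmaCore H) H) {ℓ : ℕ} [hℓ : Fact ℓ.Prime]
    (hτ : ℓ ∈ Cfsg.tau2 H) :
    ∃ A : Subgroup G, A ≤ E ∧ Cfsg.IsElementaryAbelian ℓ A ∧ Nat.card A = ℓ ^ 2 := by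
  obtain ⟨A₁, hA₁H, hA₁e, hA₁card⟩ := exists_ea2_of_not_pRankLE_one hG hτ.2.2.2
  obtain ⟨E0, hE0, hA₁E0⟩ := Cfsg.Agent.Lead.BG12.exists_compl_sigmaCore_ge hG hH hA₁H (by
    intro t ht hd
    rw [hA₁card] at hd
    rw [(Nat.prime_dvd_prime_iff_eq ht hℓ.out).1 (ht.dvd_of_dvd_pow hd)]
    exact hτ.2.1)
  obtain ⟨m, -, hm⟩ := Cfsg.Agent.Lead.BG127.exists_conj_compl hG hH hE hE0
  refine ⟨MulAut.conj m • A₁, ?_, isElementaryAbelian_conj_smul hA₁e m, ?_⟩
  · rw [← hm]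
    exact conj_smul_mono hA₁E0 m
  · rw [card_conj_smul, hA₁card]

/-- A noncyclic elementary abelian group of order `ℓ²` acting coprimely on a nontrivial group has a
subgroup of order `ℓ` with nontrivial fixed points. -/
theorem exists_singular {ℓ : ℕ} [hℓ : Fact ℓ.Prime] {A R : Subgroup G}
    (hAe : Cfsg.IsElementaryAbelian ℓ A) (hAcard : Nat.card A = ℓ ^ 2)
    (hAR : A ≤ Subgroup.normalizer (R : Set G)) (hcop : (Nat.card A).Coprime (Nat.card R))
    (hR : R ≠ ⊥) :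
    ∃ X : Subgroup G, X ≤ A ∧ Nat.card X = ℓ ∧ R ⊓ Subgroup.centralizer (X : Set G) ≠ ⊥ := by
  by_contra hcon
  push Not at hcon
  apply hR
  have hℓ2 : 2 ≤ ℓ := hℓ.out.two_le
  have hAne : (⊥ : Subgroup G) < A := by
    rw [bot_lt_iff_ne_bot]
    intro h
    rw [h, Subgroup.card_bot] at hAcard
    nlinarith
  -- maximal subgroups of `A` have order `ℓ`
  have hmaxcard : ∀ U₀ : Subgroup G, Cfsg.Agent.Helper5.IsMaxIn U₀ A → Nat.card U₀ = ℓ := by
    intro U₀ hU₀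
    obtain ⟨hlt, hmax⟩ := hU₀
    have hd : Nat.card U₀ ∣ ℓ ^ 2 := hAcard ▸ Subgroup.card_dvd_of_le hlt.le
    obtain ⟨j, hj, hj'⟩ := (Nat.dvd_prime_pow hℓ.out).1 hd
    have hj2 : j ≠ 2 := by
      intro h
      rw [h] at hj'
      exact hlt.ne (Subgroup.eq_of_le_of_card_ge hlt.le (by rw [hj', hAcard]))
    have hj0 : j ≠ 0 := by
      intro h
      rw [h, pow_zero] at hj'
      have hU₀bot : U₀ = ⊥ := Subgroup.card_eq_one.1 hj'
      -- pick `a ∈ A`, `a ≠ 1`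
      obtain ⟨a, haA, ha1⟩ : ∃ a ∈ A, a ≠ 1 := by
        by_contra hc
        push Not at hc
        have : A = ⊥ := by
          rw [eq_bot_iff]; intro a ha; rw [Subgroup.mem_bot]; exact hc a ha
        exact hAne.ne this.symm
      have h1 : U₀ < Subgroup.zpowers a := by
        rw [hU₀bot, bot_lt_iff_ne_bot]
        intro h2
        apply ha1
        have := Subgroup.mem_zpowers a
        rw [h2, Subgroup.mem_bot] at this
        exact this
      have h2 := hmax _ h1 (Subgroup.zpowers_le.2 haA)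
      have h3 : Nat.card (Subgroup.zpowers a) = ℓ := by
        rw [Nat.card_zpowers]
        exact orderOf_eq_prime (hAe.2 a haA) ha1
      rw [h2, hAcard] at h3
      nlinarith
    have : j = 1 := by omega
    rw [hj', this, pow_one]
  refine Cfsg.Agent.Helper5.eq_bot_of_hyperplanes A hAe (Nat.card A - Nat.card (⊥ : Subgroup G))
    ⊥ R rfl hAne ?_ ?_ hAR hcop ?_
  · intro h
    have := hmaxcard ⊥ h
    rw [Subgroup.card_bot] at this
    omega
  · intro x hx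
    rw [Subgroup.mem_bot] at hx
    rw [hx]; exact Subgroup.one_mem _
  · intro U₀ _ hU₀
    exact hcon U₀ hU₀.1.le (hmaxcard U₀ hU₀)

/-- If some Sylow `ℓ`-subgroup of `G` is abelian, every `ℓ`-subgroup of `G` is abelian. -/
theorem commute_of_isPGroup_of_sylow {ℓ : ℕ} [hℓ : Fact ℓ.Prime]
    (h : ∃ S : Sylow ℓ G, IsMulCommutative (S : Subgroup G)) {P : Subgroup G}
    (hP : IsPGroup ℓ ↥P) : ∀ a ∈ P, ∀ b ∈ P, a * b = b * a := by
  obtain ⟨S, hS⟩ := h
  obtain ⟨g, hg⟩ := Cfsg.Agent.Lead.exists_conj_le_sylow S P hP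
  intro a ha b hb
  have ha' : g * a * g⁻¹ ∈ (S : Subgroup G) := hg ⟨a, ha, rfl⟩
  have hb' : g * b * g⁻¹ ∈ (S : Subgroup G) := hg ⟨b, hb, rfl⟩
  have h1 := hS.is_comm.comm ⟨_, ha'⟩ ⟨_, hb'⟩
  have h2 : g * a * g⁻¹ * (g * b * g⁻¹) = g * b * g⁻¹ * (g * a * g⁻¹) := congrArg Subtype.val h1
  calc a * b = g⁻¹ * (g * a * g⁻¹ * (g * b * g⁻¹)) * g := by group
    _ = g⁻¹ * (g * b * g⁻¹ * (g * a * g⁻¹)) * g := by rw [h2]
    _ = b * a := by group

/-- In a nilpotent subgroup `N`, if all `ℓ`-subgroups of `G` are abelian, then `N` centralizes each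
of its `ℓ`-subgroups. -/
theorem le_centralizer_of_nilpotent {ℓ : ℕ} [hℓ : Fact ℓ.Prime]
    (hab : ∀ P : Subgroup G, IsPGroup ℓ ↥P → ∀ a ∈ P, ∀ b ∈ P, a * b = b * a)
    {N A : Subgroup G} (hN : Group.IsNilpotent ↥N) (hAN : A ≤ N) (hA : IsPGroup ℓ ↥A) :
    N ≤ Subgroup.centralizer (A : Set G) := by
  haveI := hN
  obtain ⟨P⟩ : Nonempty (Sylow ℓ ↥N) := inferInstance
  have hPG : IsPGroup ℓ ↥((P : Subgroup ↥N).map N.subtype) := P.2.map _
  intro y hy
  rw [Subgroup.mem_centralizer_iff]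
  intro a ha
  -- `a' ∈ P`
  obtain ⟨k, hk⟩ := hA ⟨a, ha⟩
  have hak : a ^ ℓ ^ k = 1 := by
    have := congrArg Subtype.val hk
    simpa using this
  have ha'ord : ∃ j, orderOf (⟨a, hAN ha⟩ : ↥N) = ℓ ^ j := by
    have h1 : orderOf (⟨a, hAN ha⟩ : ↥N) ∣ ℓ ^ k := by
      apply orderOf_dvd_of_pow_eq_one
      apply Subtype.ext
      simpa using hak
    obtain ⟨j, -, hj⟩ := (Nat.dvd_prime_pow hℓ.out).1 h1
    exact ⟨j, hj⟩
  obtain ⟨j, hj⟩ := ha'ord
  have haP : (⟨a, hAN ha⟩ : ↥N) ∈ (P : Subgroup ↥N) := mem_sylow_of_isNilpotent P _ j hj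
  have key : (⟨y, hy⟩ : ↥N) ∈ Subgroup.centralizer ({(⟨a, hAN ha⟩ : ↥N)} : Set ↥N) := by
    apply mem_of_forall_primePow_mem
    intro z hz hzp
    rw [isPrimePow_nat_iff] at hzp
    obtain ⟨q, n, hq, hn, hqn⟩ := hzp
    rw [Subgroup.mem_centralizer_singleton_iff]
    by_cases hqℓ : q = ℓ
    · subst hqℓ
      have hzP : z ∈ (P : Subgroup ↥N) := mem_sylow_of_isNilpotent P _ n hqn.symm
      have := hab _ hPG (z : G) ⟨z, hzP, rfl⟩ a ⟨_, haP, rfl⟩
      apply Subtype.ext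
      exact this
    · haveI := Fact.mk hq
      have hcop : (orderOf (⟨a, hAN ha⟩ : ↥N)).Coprime q := by
        rw [hj]
        exact Nat.Coprime.pow_left _ ((Nat.coprime_primes hℓ.out hq).2 (Ne.symm hqℓ))
      exact commute_of_pElement_of_coprime z _ n hqn.symm hcop
  rw [Subgroup.mem_centralizer_singleton_iff] at key
  have := congrArg Subtype.val key
  simpa using this.symm

/-- A Sylow `p`-subgroup of `Ms` with `p ∈ α(Ms)` cannot lie in a maximal subgroup `H` with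
`p ∉ σ(H)`. -/
theorem false_of_sylow_le (hG : Cfsg.IsMinSimpleOddOrder G) {H Ms Q : Subgroup G} (hH : IsCoatom H)
    {p : ℕ} [hp : Fact p.Prime] (hpσ : p ∉ Cfsg.sigma H) (hpα : p ∈ Cfsg.alpha Ms) (hQMs : Q ≤ Ms)
    (hQcard : Nat.card Q = p ^ (Nat.card Ms).factorization p) (hQH : Q ≤ H) : False := by
  apply hpα.2
  have h1 : Cfsg.PRankLE p 2 ↥H := Cfsg.Agent.Lead.BG12.pRankLE_of_not_mem_sigma hG hH hp.out hpσ
  have h2 : Cfsg.PRankLE p 2 ↥Q :=
    Cfsg.Agent.Helper2.pRankLE_of_injective p 2 (Subgroup.inclusion hQH)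
      (Subgroup.inclusion_injective hQH) h1
  have hcard' : Nat.card ↥(Q.subgroupOf Ms) = p ^ (Nat.card ↥Ms).factorization p := by
    rw [Cfsg.Agent.Lead.card_subgroupOf_of_le hQMs]; exact hQcard
  apply Cfsg.Agent.Helper1.BGU.pRankLE_of_sylow (Sylow.ofCard (Q.subgroupOf Ms) hcard')
  rw [Sylow.coe_ofCard]
  exact Cfsg.Agent.Helper2.pRankLE_of_injective p 2
    (Subgroup.subgroupOfEquivOfLe hQMs).toMonoidHom (Subgroup.subgroupOfEquivOfLe hQMs).injective h2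

/-- When `U = 1` in the decomposition, `K` is a complement of `M_σ` in `M`. -/
theorem isComplIn_of_U_eq_bot {M K U : Subgroup G} (hKU : Cfsg.IsSigmaDecomposition M K U)
    (hU : U = ⊥) : Cfsg.IsComplIn K (Cfsg.sigmaCore M) M := by
  refine ⟨hKU.hall.1, Cfsg.Agent.Lead.BG12.sigmaCore_le, decomp_K_inf_sigmaCore hKU, ?_⟩
  intro m hm
  have h1 := decomp_eq_of_U_eq_bot hKU hU
  rw [h1, sup_comm] at hm
  obtain ⟨a, ha, b, hb, rfl⟩ := mem_sup_of_le_normalizer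
    (hKU.hall.1.trans (Cfsg.Agent.Lead.BG12.le_normalizer_sigmaCore M)) hm
  -- `a ∈ M_σ`, `b ∈ K`: rewrite as `b * (b⁻¹ a b)`
  refine ⟨b, hb, b⁻¹ * a * b, ?_, by group⟩
  have hbM : b⁻¹ ∈ M := M.inv_mem (hKU.hall.1 hb)
  have := (Subgroup.mem_normalizer_iff.1
    (Cfsg.Agent.Lead.BG12.le_normalizer_sigmaCore M hbM) a).1 ha
  rwa [inv_inv] at this

end Cfsg.Agent.Helper4.BG158
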