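import Mathlib
import Cfsg.Prelude
import Cfsg.Agent.Lead.BG144i
import Cfsg.Agent.Helper2.BG1412b
import Cfsg.Agent.Helper2.BG147K2
import Cfsg.Agent.Helper4.BG158a
import Cfsg.Agent.Helper4.BG147H
import Cfsg.Agent.Helper4.BG10d
import Cfsg.Agent.Helper1.BG15P2b
import Cfsg.Agent.Helper1.BG147b
import Cfsg.Agent.S1417
import Cfsg.Agent.S1418
import Cfsg.Agent.S1432
import Cfsg.Agent.S1378

set_option autoImplicit false
set_option maxHeartbeats 1600000
set_option linter.unusedSectionVars false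
set_option linter.unusedVariables false
set_option linter.style.haveILetI false

/-!
Toward S1436(a): for a bad `x ∈ M_σ` (`C_G(x) ⊄ M`), `N ⊇ C_G(x)` maximal, and a prime
`q ∈ σ(N)` dividing `|M|`, we get `κ(M) = ∅` and `τ₂(M) = ∅`.  The case `κ(N) ≠ ∅` of the second
claim is taken as a hypothesis (`hP2`); it is BG Theorem 15.8.
-/

namespace Cfsg.Agent.Helper4.BG1436

open Cfsg

universe u

variable {G : Type u} [Group G] [Finite G]

omit [Finite G] in
/-- a non-identity element of a cyclic group of prime order `q` has order `q` -/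
theorem orderOf_eq_of_mem_zpowers {q : ℕ} (hq : q.Prime) {z k : G} (hz : orderOf z = q)
    (hk : k ∈ Subgroup.zpowers z) (hk1 : k ≠ 1) : orderOf k = q := by
  have h1 : orderOf k ∣ q := by
    rw [← hz]
    exact orderOf_dvd_of_mem_zpowers hk
  rcases (Nat.dvd_prime hq).1 h1 with h | h
  · exact absurd (orderOf_eq_one_iff.1 h) hk1
  · exact h

omit [Finite G] in
/-- a non-identity element of an elementary abelian `s`-group has order `s` -/
theorem orderOf_eq_of_mem_ea {s : ℕ} (hs : s.Prime) {A : Subgroup G}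
    (hA : Cfsg.IsElementaryAbelian s A) {a : G} (ha : a ∈ A) (ha1 : a ≠ 1) : orderOf a = s := by
  have h1 : orderOf a ∣ s := orderOf_dvd_of_pow_eq_one (hA.2 a ha)
  rcases (Nat.dvd_prime hs).1 h1 with h | h
  · exact absurd (orderOf_eq_one_iff.1 h) ha1
  · exact h

/-- no prime of `σ(N)` lies in `σ(M)` (bad `x ∈ M_σ`, `N ⊇ C_G(x)`). -/
theorem not_mem_sigma_of_bad (hG : Cfsg.IsMinSimpleOddOrder G) {M : Subgroup G} (hM : IsCoatom M)
    {x : G} (hx : x ∈ Cfsg.sigmaCore M) (hx1 : x ≠ 1)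
    (hbad : ¬ Subgroup.centralizer ({x} : Set G) ≤ M) {N : Subgroup G} (hN : IsCoatom N)
    (hxN : Subgroup.centralizer ({x} : Set G) ≤ N) {q : ℕ} (hq : q ∈ Cfsg.sigma N) :
    q ∉ Cfsg.sigma M := by
  intro h
  obtain ⟨N0, d0⟩ := Cfsg.Agent.Helper2.BG144.exists_badData hG hM hx hx1 hbad
  have hNN0 : N = N0 := Cfsg.Agent.Helper2.BG144.unique_of_badData hG hM hx hx1 hbad d0 N hN hxN
  subst hNN0
  obtain ⟨g, hg⟩ := (Cfsg.Agent.S1378.result hG).2 M N hM hN ⟨q, h, hq⟩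
  exact d0.not_conj g hg

/-- **S1436(a), first claim**: `κ(M) = ∅`. -/
theorem kappa_eq_empty_of_bad_dvd (hG : Cfsg.IsMinSimpleOddOrder G) {M : Subgroup G}
    (hM : IsCoatom M) {x : G} (hx : x ∈ Cfsg.sigmaCore M) (hx1 : x ≠ 1)
    (hbad : ¬ Subgroup.centralizer ({x} : Set G) ≤ M) {N : Subgroup G} (hN : IsCoatom N)
    (hxN : Subgroup.centralizer ({x} : Set G) ≤ N) {q : ℕ} (hq : q ∈ Cfsg.sigma N)
    (hqM : q ∣ Nat.card M) : Cfsg.kappa M = ∅ := by
  classical
  by_contra hne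
  obtain ⟨p, hpκ⟩ := Set.nonempty_iff_ne_empty.2 hne
  have hqp : q.Prime := hq.1
  have hpp : p.Prime := hpκ.1
  obtain ⟨K, U, hKU⟩ := Cfsg.Agent.Helper4.BG15.exists_sigmaDecomposition hG hM
  have hqσM : q ∉ Cfsg.sigma M := not_mem_sigma_of_bad hG hM hx hx1 hbad hN hxN hq
  have hqκ : q ∉ Cfsg.kappa M :=
    Cfsg.Agent.Lead.BG144h.not_mem_kappa_of_bad hG hM hx hx1 hbad hN hxN hq
  have hK1 : K ≠ ⊥ := by
    intro hK
    have h1 := Cfsg.Agent.Helper1.relIndex_mul_card_of_le hKU.hall.1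
    have h2 : p ∣ Nat.card M := hpκ.2.1
    rw [← h1, hK, Subgroup.card_bot, mul_one] at h2
    rw [hK] at hKU
    exact hKU.hall.2.2 p hpp hpκ h2
  by_cases hU : U = ⊥
  · have hc := Cfsg.Agent.Helper4.BG158.isComplIn_of_U_eq_bot hKU hU
    have hcard := Cfsg.Agent.Helper1.IsComplIn_card_mul hc
    rw [← hcard] at hqM
    rcases (Nat.Prime.dvd_mul hqp).1 hqM with h | h
    · exact hqκ (hKU.hall.2.1 q hqp h)
    · exact hqσM (Cfsg.Agent.Lead.BG12.mem_sigma_of_dvd_card_sigmaCore hqp h)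
  · obtain ⟨c, hc, hcM⟩ := SetLike.not_le_iff_exists.1 hbad
    have h1 := Cfsg.Agent.Helper1.BG15P2.sigmaCore_inf_conj_eq_bot hG
      (Cfsg.Agent.Helper4.BG147H.hyp142 hG) hM hKU hK1 hU hcM
    have hxc : c * x * c⁻¹ = x := by
      rw [Subgroup.mem_centralizer_singleton_iff] at hc
      calc c * x * c⁻¹ = x * c * c⁻¹ := by rw [hc]
        _ = x := by group
    have h2 : x ∈ Cfsg.sigmaCore M ⊓ M.map (MulAut.conj c).toMonoidHom := by
      refine ⟨hx, ⟨x, Cfsg.Agent.Lead.BG12.sigmaCore_le hx, ?_⟩⟩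
      simp only [MulEquiv.coe_toMonoidHom, MulAut.conj_apply]
      exact hxc
    rw [h1, Subgroup.mem_bot] at h2
    exact hx1 h2

/-- **S1436(a), second claim**: `τ₂(M) = ∅`, modulo the case `κ(N) ≠ ∅` (BG Theorem 15.8). -/
theorem tau2_eq_empty_of_bad_dvd (hG : Cfsg.IsMinSimpleOddOrder G) {M : Subgroup G}
    (hM : IsCoatom M) {x : G} (hx : x ∈ Cfsg.sigmaCore M) (hx1 : x ≠ 1)
    (hbad : ¬ Subgroup.centralizer ({x} : Set G) ≤ M) {N : Subgroup G} (hN : IsCoatom N)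
    (hxN : Subgroup.centralizer ({x} : Set G) ≤ N) {q : ℕ} (hq : q ∈ Cfsg.sigma N)
    (hqM : q ∣ Nat.card M) (hP2 : (Cfsg.kappa N).Nonempty → Cfsg.tau2 M = ∅) :
    Cfsg.tau2 M = ∅ := by
  classical
  by_contra hne
  obtain ⟨s, hsτ⟩ := Set.nonempty_iff_ne_empty.2 hne
  have hsp : s.Prime := hsτ.1
  haveI hsF : Fact s.Prime := ⟨hsp⟩
  have hqp : q.Prime := hq.1
  haveI hqF : Fact q.Prime := ⟨hqp⟩
  have hqσM : q ∉ Cfsg.sigma M := not_mem_sigma_of_bad hG hM hx hx1 hbad hN hxN hq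
  have hqκ : q ∉ Cfsg.kappa M :=
    Cfsg.Agent.Lead.BG144h.not_mem_kappa_of_bad hG hM hx hx1 hbad hN hxN hq
  have hqτ : q ∉ Cfsg.tau2 M :=
    Cfsg.Agent.Lead.BG144h.not_mem_tau2_of_bad hG hM hx hx1 hbad hN hxN hq
  have hqβ : q ∈ Cfsg.beta N :=
    Cfsg.Agent.Lead.BG144h.mem_beta_of_bad hG hM hx hx1 hbad hN hxN hq hqM
  have hqI : Cfsg.IsIdealPrime q G := hqβ.2
  obtain ⟨N0, d0⟩ := Cfsg.Agent.Helper2.BG144.exists_badData hG hM hx hx1 hbad
  have hNN0 : N = N0 := Cfsg.Agent.Helper2.BG144.unique_of_badData hG hM hx hx1 hbad d0 N hN hxN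
  subst hNN0
  have d := d0
  -- a prime `s₀ ∈ σ(M) ∩ τ₂(N)`
  have hord : orderOf x ≠ 1 := by rwa [Ne, orderOf_eq_one_iff]
  obtain ⟨s₀, hs₀p, hs₀x⟩ := Nat.exists_prime_and_dvd hord
  have hs₀τ : s₀ ∈ Cfsg.tau2 N :=
    Cfsg.Agent.Helper2.BG144.mem_tau2_of_dvd_orderOf hG hM hx hbad d hs₀p hs₀x
  have hs₀σ : s₀ ∈ Cfsg.sigma M := by
    apply Cfsg.Agent.Lead.BG12.mem_sigma_of_dvd_card_sigmaCore hs₀p
    exact dvd_trans hs₀x (Subgroup.orderOf_dvd_natCard _ hx)
  have hsσN : s ∉ Cfsg.sigma N := fun h =>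
    Cfsg.Agent.Lead.BG144h.not_mutual hG hM hN hs₀σ hs₀τ h hsτ
  -- the complement `E` and `A`
  obtain ⟨E, hE, -⟩ := Cfsg.Agent.Helper4.BG10.exists_compl_sigmaCore_ge hG hM (U := ⊥) bot_le (by
    intro t ht hd
    rw [Subgroup.card_bot] at hd
    exact absurd (Nat.dvd_one.mp hd) ht.one_lt.ne')
  obtain ⟨A, hAE, hAe, hAcard⟩ := Cfsg.Agent.Helper4.BG158.exists_ea2_le_compl hG hM hE hsτ
  have hEM : E ≤ M := hE.1
  have hAM : A ≤ M := hAE.trans hEM
  have h18 := Cfsg.Agent.S1418.result hG M hM E hE s hsτ A ⟨hAE, hAe, hAcard⟩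
  have h17 := Cfsg.Agent.S1417.result hG M hM s hsτ A ⟨hAM, hAe, hAcard⟩
  have hEA : E ≤ Subgroup.normalizer (A : Set G) := h18.1.1
  have hσA : Cfsg.sigmaCore M ⊓ Subgroup.centralizer (A : Set G) = ⊥ := h17.2.2.2.1
  have hAcomm : ∀ a ∈ A, ∀ b ∈ A, a * b = b * a := by
    intro a ha b hb
    have := hAe.1.is_comm.comm ⟨a, ha⟩ ⟨b, hb⟩
    exact congrArg Subtype.val this
  -- an element `z ∈ E` of order `q`
  have hcardM := Cfsg.Agent.Helper1.IsComplIn_card_mul hE
  have hqE : q ∣ Nat.card E := by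
    rw [← hcardM] at hqM
    rcases (Nat.Prime.dvd_mul hqp).1 hqM with h | h
    · exact h
    · exact absurd (Cfsg.Agent.Lead.BG12.mem_sigma_of_dvd_card_sigmaCore hqp h) hqσM
  obtain ⟨⟨z, hzE⟩, hzo⟩ := exists_prime_orderOf_dvd_card' (G := ↥E) q hqE
  have hzo' : orderOf z = q := by
    have := Subgroup.orderOf_coe (⟨z, hzE⟩ : ↥E)
    rw [← this] at hzo
    exact hzo
  have hz1 : z ≠ 1 := by
    intro h
    rw [h, orderOf_one] at hzo'
    exact hqp.one_lt.ne hzo'
  have hZE : Subgroup.zpowers z ≤ E := by rw [Subgroup.zpowers_le]; exact hzE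
  -- (i) some `k ∈ ⟨z⟩^#` centralizes some `a ∈ A^#`
  have hstep1 : ∃ k ∈ Subgroup.zpowers z, k ≠ 1 ∧ ∃ a ∈ A, a ≠ 1 ∧ a * k = k * a := by
    by_contra hcon
    push Not at hcon
    have hle : Cfsg.sigmaCore M ≤ Subgroup.centralizer (A : Set G) := by
      refine Cfsg.Agent.Helper2.BG1412.sigmaCore_le_centralizer_of_fpf hG (H := M)
        (K := Subgroup.zpowers z) (B := A) hM ?_ (hZE.trans hEM) hAM (hZE.trans hEA) ?_ ?_ ?_
      · intro h
        have : z ∈ (⊥ : Subgroup G) := h ▸ Subgroup.mem_zpowers z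
        exact hz1 (Subgroup.mem_bot.1 this)
      · rw [hAcard]
        apply Nat.Coprime.pow_left
        rw [Nat.Prime.coprime_iff_not_dvd hsp]
        intro h
        exact hsτ.2.1 (Cfsg.Agent.Lead.BG12.mem_sigma_of_dvd_card_sigmaCore hsp h)
      · intro k hk hk1
        by_contra hne'
        obtain ⟨⟨y, hy⟩, hy1⟩ := (Subgroup.ne_bot_iff_exists_ne_one).1 hne'
        have hy1' : y ≠ 1 := fun h => hy1 (Subtype.ext h)
        have hko : orderOf k = q := orderOf_eq_of_mem_zpowers hqp hzo' hk hk1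
        have hyk : y * k = k * y := by
          have : y ∈ Subgroup.centralizer ({k} : Set G) := hy.2
          rwa [Subgroup.mem_centralizer_singleton_iff] at this
        have hkM : k ∈ M := hEM (hZE hk)
        have hkc : k ∈ M ⊓ Subgroup.centralizer ({y} : Set G) := by
          refine ⟨hkM, ?_⟩
          show k ∈ Subgroup.centralizer ({y} : Set G)
          rw [Subgroup.mem_centralizer_singleton_iff]
          exact hyk.symm
        rcases Cfsg.Agent.S1432.result hG M hM y hy.1 hy1' k hkc hk1 (by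
          intro p hp hpd
          rw [hko] at hpd
          rw [(Nat.prime_dvd_prime_iff_eq hp hqp).1 hpd]
          exact hqσM) with h | h
        · exact hqκ (h.1 q hqp (by rw [hko]))
        · exact hqτ (h.1 q hqp (by rw [hko]))
      · intro k hk hk1
        rw [eq_bot_iff]
        intro a ha
        rw [Subgroup.mem_bot]
        by_contra ha1
        have hak : a * k = k * a := by
          have : a ∈ Subgroup.centralizer ({k} : Set G) := ha.2
          rwa [Subgroup.mem_centralizer_singleton_iff] at this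
        exact hcon k hk hk1 a ha.1 ha1 hak
    have hxA : x ∈ Cfsg.sigmaCore M ⊓ Subgroup.centralizer (A : Set G) := ⟨hx, hle hx⟩
    rw [hσA, Subgroup.mem_bot] at hxA
    exact hx1 hxA
  obtain ⟨k, hkZ, hk1, a, haA, ha1, hak⟩ := hstep1
  have hko : orderOf k = q := orderOf_eq_of_mem_zpowers hqp hzo' hkZ hk1
  have hao : orderOf a = s := orderOf_eq_of_mem_ea hsp hAe haA ha1
  have hkM : k ∈ M := hEM (hZE hkZ)
  -- (ii) conjugate `k` into `N`
  obtain ⟨P, -, hPN, -⟩ := Cfsg.Agent.Helper4.BG10.exists_sylow_ge_of_mem_sigma hG hN hq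
    (Y := ⊥) bot_le (IsPGroup.of_bot)
  have hkp : IsPGroup q ↥(Subgroup.zpowers k) := by
    apply IsPGroup.of_card (n := 1)
    rw [Nat.card_zpowers, hko, pow_one]
  obtain ⟨g, hg⟩ := Cfsg.Agent.Lead.exists_conj_le_sylow P (Subgroup.zpowers k) hkp
  set k' : G := g * k * g⁻¹ with hk'
  set a' : G := g * a * g⁻¹ with ha'
  set A' : Subgroup G := A.map (MulAut.conj g).toMonoidHom with hA'
  set M' : Subgroup G := M.map (MulAut.conj g).toMonoidHom with hM'
  have hM'co : IsCoatom M' := Cfsg.Agent.Helper2.BG144.isCoatom_map_conj hM g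
  have hk'N : k' ∈ N := hPN (hg ⟨k, Subgroup.mem_zpowers k, rfl⟩)
  have hk'M' : k' ∈ M' := ⟨k, hkM, rfl⟩
  have hk'o : orderOf k' = q := by
    rw [← hko]
    exact orderOf_injective (MulAut.conj g).toMonoidHom (MulAut.conj g).injective k
  have ha'o : orderOf a' = s := by
    rw [← hao]
    exact orderOf_injective (MulAut.conj g).toMonoidHom (MulAut.conj g).injective a
  have hk'1 : k' ≠ 1 := by
    intro h
    rw [h, orderOf_one] at hk'o
    exact hqp.one_lt.ne hk'o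
  have ha'1 : a' ≠ 1 := by
    intro h
    rw [h, orderOf_one] at ha'o
    exact hsp.one_lt.ne ha'o
  have hk'σ : k' ∈ Cfsg.sigmaCore N := by
    apply Cfsg.Agent.Helper2.BG147K.mem_sigmaCore_of_primes hG hN hk'N
    intro p hp hpd
    rw [hk'o] at hpd
    rw [(Nat.prime_dvd_prime_iff_eq hp hqp).1 hpd]
    exact hq
  have ha'k' : a' * k' = k' * a' := by
    calc a' * k' = g * (a * k) * g⁻¹ := by rw [ha', hk']; group
      _ = g * (k * a) * g⁻¹ := by rw [hak]
      _ = k' * a' := by rw [ha', hk']; group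
  have hCk' : Subgroup.centralizer ({k'} : Set G) ≤ N := by
    rw [← Cfsg.Agent.Helper1.BG147.centralizer_zpowers_eq k']
    apply Cfsg.Agent.Helper4.BG10.centralizer_le_of_ideal hG hN hq hqI
    · rw [Subgroup.zpowers_le]; exact hk'N
    · apply IsPGroup.of_card (n := 1)
      rw [Nat.card_zpowers, hk'o, pow_one]
    · intro h
      have : k' ∈ (⊥ : Subgroup G) := h ▸ Subgroup.mem_zpowers k'
      exact hk'1 (Subgroup.mem_bot.1 this)
  have ha'c : a' ∈ Subgroup.centralizer ({k'} : Set G) := by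
    rw [Subgroup.mem_centralizer_singleton_iff]
    exact ha'k'
  have ha'N : a' ∈ N := hCk' ha'c
  have hA'e : Cfsg.IsElementaryAbelian s A' :=
    Cfsg.Agent.Lead.BG144h.isElementaryAbelian_map_conj hAe g
  have hA'card : Nat.card A' = s ^ 2 := by
    rw [hA', Subgroup.card_map_of_injective (MulAut.conj g).injective, hAcard]
  have ha'A' : a' ∈ A' := ⟨a, haA, rfl⟩
  have hA'M' : A' ≤ M' := Subgroup.map_mono hAM
  rcases Cfsg.Agent.S1432.result hG N hN k' hk'σ hk'1 a' ⟨ha'N, ha'c⟩ ha'1 (by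
    intro p hp hpd
    rw [ha'o] at hpd
    rw [(Nat.prime_dvd_prime_iff_eq hp hsp).1 hpd]
    exact hsσN) with h | h
  · have hsκ : s ∈ Cfsg.kappa N := h.1 s hsp (by rw [ha'o])
    exact hne (hP2 ⟨s, hsκ⟩)
  · have hsτN : s ∈ Cfsg.tau2 N := h.1 s hsp (by rw [ha'o])
    have hCa' : Subgroup.centralizer ({a'} : Set G) ≤ N := h.2.2.1
    have hA'N : A' ≤ N := by
      intro b hb
      apply hCa'
      rw [Subgroup.mem_centralizer_singleton_iff]
      have hc : ∀ u ∈ A', ∀ v ∈ A', u * v = v * u := by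
        intro u hu v hv
        have := hA'e.1.is_comm.comm ⟨u, hu⟩ ⟨v, hv⟩
        exact congrArg Subtype.val this
      exact hc b hb a' ha'A'
    have h17N := Cfsg.Agent.S1417.result hG N hN s hsτN A' ⟨hA'N, hA'e, hA'card⟩
    have hbot := h17N.2.2.2.2.1 M' hM'co (fun h => d.not_conj g h.symm) hA'M'
    have : k' ∈ Cfsg.sigmaCore N ⊓ M' := ⟨hk'σ, hk'M'⟩
    rw [hbot, Subgroup.mem_bot] at this
    exact hk'1 this

end Cfsg.Agent.Helper4.BG1436
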