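import Mathlib
import Cfsg.Prelude
import Cfsg.Agent.Helper1.Coprime
import Cfsg.Agent.Helper7.TwoOrbits

set_option autoImplicit false
set_option linter.unusedSectionVars false
set_option linter.unusedVariables false

/-!
Toward Bender–Glauberman Theorem 15.7(e): a cyclic `p'`-group `K` of odd order acting on a
`p`-group `P` such that all `k ≠ 1` have the same cyclic fixed-point subgroup.
Part a: invariant subgroups of order `p` and `p²`.
-/

namespace Cfsg.Agent.Helper4.BG157

open Cfsg Cfsg.Agent.Helper1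
open scoped Pointwise

universe u

variable {G : Type u} [Group G] [Finite G]

/-- The standing hypotheses. -/
structure KAct (p : ℕ) (P K : Subgroup G) : Prop where
  norm : K ≤ Subgroup.normalizer (P : Set G)
  cop : (Nat.card K).Coprime p
  fix : ∀ k ∈ K, k ≠ 1 →
    P ⊓ Subgroup.centralizer ({k} : Set G) = P ⊓ Subgroup.centralizer (K : Set G)
  cyc : IsCyclic ↥(P ⊓ Subgroup.centralizer (K : Set G))

variable {p : ℕ} [hp : Fact p.Prime] {P K : Subgroup G}

theorem conj_mem_of_le_normalizer {Y K : Subgroup G} (hKY : K ≤ Subgroup.normalizer (Y : Set G))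
    {k y : G} (hk : k ∈ K) (hy : y ∈ Y) : k * y * k⁻¹ ∈ Y :=
  (Subgroup.mem_normalizer_iff.mp (hKY hk) y).mp hy

theorem mem_inf_centralizer_singleton {P : Subgroup G} {x k : G} (hx : x ∈ P)
    (hkx : k * x * k⁻¹ = x) : x ∈ P ⊓ Subgroup.centralizer ({k} : Set G) := by
  refine ⟨hx, ?_⟩
  show x ∈ Subgroup.centralizer ({k} : Set G)
  rw [Subgroup.mem_centralizer_singleton_iff]
  symm
  calc k * x = k * x * k⁻¹ * k := by group
    _ = x * k := by rw [hkx]

/-- a subgroup of prime order is generated by any nonidentity element -/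
theorem le_of_card_prime_of_mem {Y H : Subgroup G} (hY : Nat.card Y = p) {y : G} (hy : y ∈ Y)
    (hy1 : y ≠ 1) (hyH : y ∈ H) : Y ≤ H := by
  have h1 : Subgroup.zpowers y ≤ Y := Subgroup.zpowers_le.mpr hy
  have h2 : Nat.card (Subgroup.zpowers y) ∣ p := hY ▸ Subgroup.card_dvd_of_le h1
  have h3 : Nat.card (Subgroup.zpowers y) ≠ 1 := by
    intro h
    rw [Subgroup.card_eq_one, Subgroup.zpowers_eq_bot] at h
    exact hy1 h
  have h4 : Nat.card (Subgroup.zpowers y) = p :=
    ((Nat.dvd_prime hp.out).mp h2).resolve_left h3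
  have h5 : Subgroup.zpowers y = Y := Subgroup.eq_of_le_of_card_ge h1 (by rw [h4, hY])
  rw [← h5]
  exact Subgroup.zpowers_le.mpr hyH

/-- **Remark R1**: a `K`-invariant subgroup of order `p` is centralized by `K`, or
`|K| ∣ p - 1`. -/
theorem centralizes_or_dvd_pred (h : KAct p P K) {Y : Subgroup G} (hYP : Y ≤ P)
    (hY : Nat.card Y = p) (hKY : K ≤ Subgroup.normalizer (Y : Set G)) :
    Y ≤ Subgroup.centralizer (K : Set G) ∨ Nat.card K ∣ p - 1 := by
  by_cases hex : ∃ k ∈ K, k ≠ 1 ∧ ∃ y ∈ Y, y ≠ 1 ∧ k * y * k⁻¹ = y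
  · left
    obtain ⟨k, hk, hk1, y, hy, hy1, hky⟩ := hex
    have h1 : y ∈ P ⊓ Subgroup.centralizer ({k} : Set G) :=
      mem_inf_centralizer_singleton (hYP hy) hky
    rw [h.fix k hk hk1] at h1
    exact le_of_card_prime_of_mem hY hy hy1 h1.2
  · right
    push Not at hex
    have hdvd := Cfsg.Agent.Helper7.TwoOrb.card_dvd_of_free_conj K ((Y : Set G) \ {1})
      (fun k hk x hx => ⟨conj_mem_of_le_normalizer hKY hk hx.1, fun h1 => hx.2 (by
        rw [Set.mem_singleton_iff] at h1 ⊢
        have : x = k⁻¹ * (k * x * k⁻¹) * k := by group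
        rw [this, h1]; group)⟩)
      (fun k hk x hx hkx => by
        by_contra hk1
        exact hex k hk hk1 x hx.1 (fun h1 => hx.2 (Set.mem_singleton_iff.mpr h1)) hkx)
    have hcard : ((Y : Set G) \ {1}).ncard = p - 1 := by
      rw [Set.ncard_sdiff_singleton_of_mem (Y.one_mem), ← hY]
      rfl
    rwa [hcard] at hdvd

/-- **Remark R2**: a `K`-invariant subgroup `W` of order `p²` and exponent `p` with a
`K`-invariant subgroup of order `p` forces `|K| ∣ p - 1`. -/
theorem dvd_pred_of_invariant_flag (h : KAct p P K) {W Y : Subgroup G} (hWP : W ≤ P)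
    (hW : Nat.card W = p ^ 2) (hWe : ∀ w ∈ W, w ^ p = 1)
    (hKW : K ≤ Subgroup.normalizer (W : Set G)) (hYW : Y ≤ W) (hY : Nat.card Y = p)
    (hKY : K ≤ Subgroup.normalizer (Y : Set G)) : Nat.card K ∣ p - 1 := by
  rcases centralizes_or_dvd_pred h (hYW.trans hWP) hY hKY with hYC | hd
  swap
  · exact hd
  have hpp := hp.out
  -- free action on `W \ Y`
  have hfree : ∀ k ∈ K, ∀ x ∈ (W : Set G) \ (Y : Set G), k * x * k⁻¹ = x → k = 1 := by
    intro k hk x hx hkx
    by_contra hk1
    have h1 : x ∈ P ⊓ Subgroup.centralizer ({k} : Set G) :=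
      mem_inf_centralizer_singleton (hWP hx.1) hkx
    rw [h.fix k hk hk1] at h1
    -- `Y ⊔ ⟨x⟩ = W ≤ C`
    set C := P ⊓ Subgroup.centralizer (K : Set G) with hC
    have hYC' : Y ≤ C := le_inf (hYW.trans hWP) hYC
    have hle : Y ⊔ Subgroup.zpowers x ≤ W := sup_le hYW (Subgroup.zpowers_le.mpr hx.1)
    have hlt : Y < Y ⊔ Subgroup.zpowers x := by
      refine lt_of_le_of_ne le_sup_left ?_
      intro heq
      apply hx.2
      have : x ∈ Y ⊔ Subgroup.zpowers x := Subgroup.mem_sup_right (Subgroup.mem_zpowers x)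
      rw [← heq] at this
      exact this
    have hcardlt : Nat.card Y < Nat.card ↥(Y ⊔ Subgroup.zpowers x) := by
      by_contra hnot
      push Not at hnot
      exact hlt.ne (Subgroup.eq_of_le_of_card_ge le_sup_left hnot)
    have hdvd : Nat.card ↥(Y ⊔ Subgroup.zpowers x) ∣ p ^ 2 := hW ▸ Subgroup.card_dvd_of_le hle
    obtain ⟨j, hj, hjeq⟩ := (Nat.dvd_prime_pow hpp).mp hdvd
    have hj2 : j = 2 := by
      rw [hjeq, hY] at hcardlt
      have : j ≠ 0 := by
        rintro rfl
        rw [pow_zero] at hcardlt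
        exact absurd hcardlt (by have := hpp.one_lt; omega)
      have : j ≠ 1 := by
        rintro rfl
        rw [pow_one] at hcardlt
        exact lt_irrefl _ hcardlt
      omega
    have hWeq : Y ⊔ Subgroup.zpowers x = W :=
      Subgroup.eq_of_le_of_card_ge hle (by rw [hjeq, hj2, hW])
    have hWC : W ≤ C := by
      rw [← hWeq]
      exact sup_le hYC' (Subgroup.zpowers_le.mpr h1)
    -- `W` is cyclic of order `p²` but has exponent `p`
    haveI := h.cyc
    have hWcyc : IsCyclic ↥(W.subgroupOf C) := Subgroup.isCyclic _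
    obtain ⟨g, hg⟩ := hWcyc.exists_generator
    have hord : orderOf g = Nat.card ↥(W.subgroupOf C) := orderOf_eq_card_of_forall_mem_zpowers hg
    rw [card_subgroupOf_of_le hWC, hW] at hord
    have hgp : g ^ p = 1 := by
      apply Subtype.ext
      apply Subtype.ext
      have := hWe ((g : ↥C) : G) (Subgroup.mem_subgroupOf.mp g.2)
      simpa using this
    have := orderOf_dvd_of_pow_eq_one hgp
    rw [hord] at this
    have h2 : p ^ 2 ≤ p := Nat.le_of_dvd hpp.pos this
    have h3 : p < p ^ 2 := by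
      have := hpp.one_lt
      nlinarith
    omega
  have hinv : ∀ k ∈ K, ∀ x ∈ (W : Set G) \ (Y : Set G), k * x * k⁻¹ ∈ (W : Set G) \ (Y : Set G) := by
    intro k hk x hx
    refine ⟨conj_mem_of_le_normalizer hKW hk hx.1, fun h1 => hx.2 ?_⟩
    have : x = k⁻¹ * (k * x * k⁻¹) * k⁻¹⁻¹ := by group
    rw [this]
    exact conj_mem_of_le_normalizer hKY (K.inv_mem hk) h1
  have hdvd := Cfsg.Agent.Helper7.TwoOrb.card_dvd_of_free_conj K _ hinv hfree
  have hcard : ((W : Set G) \ (Y : Set G)).ncard = p * (p - 1) := by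
    rw [Set.ncard_sdiff (fun y hy => hYW hy)]
    have h1 : (W : Set G).ncard = p ^ 2 := by rw [← hW]; rfl
    have h2 : (Y : Set G).ncard = p := by rw [← hY]; rfl
    rw [h1, h2, pow_two, Nat.mul_sub, mul_one]
  rw [hcard] at hdvd
  exact (Nat.Coprime.dvd_mul_left h.cop).mp hdvd

end Cfsg.Agent.Helper4.BG157
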