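import Mathlib
import Cfsg.Prelude
import Cfsg.Agent.Helper4.BG157a

set_option autoImplicit false
set_option linter.unusedSectionVars false
set_option linter.unusedVariables false

/-!
Toward Bender–Glauberman Theorem 15.7(e), part b: an odd-order abelian `p'`-group acting on an
extraspecial group of order `p³` and exponent `p`, centralizing the centre, with all fixed points
in the centre and normalizing no "line": then `|K| ∣ p + 1`.
-/

namespace Cfsg.Agent.Helper4.BG157

open Cfsg Cfsg.Agent.Helper1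
open scoped Pointwise

universe u

variable {G : Type u} [Group G] [Finite G]

/-- `R` is nonabelian of order `p³` and exponent `p`, with centre and derived group `Z`. -/
structure ES (p : ℕ) (R Z : Subgroup G) : Prop where
  card : Nat.card R = p ^ 3
  exp : ∀ x ∈ R, x ^ p = 1
  Zle : Z ≤ R
  Zcard : Nat.card Z = p
  Zcent : ∀ z ∈ Z, ∀ x ∈ R, z * x = x * z
  comm : ∀ x ∈ R, ∀ y ∈ R, x * y * x⁻¹ * y⁻¹ ∈ Z
  center : ∀ x ∈ R, (∀ y ∈ R, x * y = y * x) → x ∈ Z

variable {p : ℕ} [hp : Fact p.Prime] {R Z K : Subgroup G}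

/-! ### class two identities -/

theorem mul_pow_comm_of_central {a b c : G} (hab : a * b = c * b * a) (hca : c * a = a * c)
    (hcb : c * b = b * c) (j : ℕ) : a * b ^ j = c ^ j * b ^ j * a := by
  induction j with
  | zero => simp
  | succ j ih =>
    have hcbj : ∀ n : ℕ, c * b ^ n = b ^ n * c := fun n => (Commute.pow_right hcb n).eq
    calc a * b ^ (j + 1) = (a * b ^ j) * b := by rw [pow_succ]; group
      _ = c ^ j * b ^ j * a * b := by rw [ih]
      _ = c ^ j * b ^ j * (a * b) := by group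
      _ = c ^ j * b ^ j * (c * b * a) := by rw [hab]
      _ = c ^ j * (b ^ j * c) * b * a := by group
      _ = c ^ j * (c * b ^ j) * b * a := by rw [hcbj j]
      _ = c ^ (j + 1) * b ^ (j + 1) * a := by rw [pow_succ, pow_succ]; group

theorem pow_mul_pow_comm_of_central {a b c : G} (hab : a * b = c * b * a) (hca : c * a = a * c)
    (hcb : c * b = b * c) (i j : ℕ) : a ^ i * b ^ j = c ^ (i * j) * b ^ j * a ^ i := by
  induction i with
  | zero => simp
  | succ i ih =>
    have h1 := mul_pow_comm_of_central hab hca hcb j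
    have hcai : ∀ n : ℕ, a * c ^ n = c ^ n * a := fun n => ((Commute.pow_left hca n).eq).symm
    calc a ^ (i + 1) * b ^ j = a * (a ^ i * b ^ j) := by rw [pow_succ']; group
      _ = a * (c ^ (i * j) * b ^ j * a ^ i) := by rw [ih]
      _ = (a * c ^ (i * j)) * b ^ j * a ^ i := by group
      _ = (c ^ (i * j) * a) * b ^ j * a ^ i := by rw [hcai]
      _ = c ^ (i * j) * (a * b ^ j) * a ^ i := by group
      _ = c ^ (i * j) * (c ^ j * b ^ j * a) * a ^ i := by rw [h1]
      _ = c ^ ((i + 1) * j) * b ^ j * a ^ (i + 1) := by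
        rw [pow_succ' a i, Nat.succ_mul, pow_add]; group

/-! ### lines -/

theorem ES.zpowers_le_normalizer (h : ES p R Z) {a : G} (ha : a ∈ R) :
    Subgroup.zpowers a ≤ Subgroup.normalizer (Z : Set G) := by
  rw [Subgroup.zpowers_le]
  rw [Subgroup.mem_normalizer_iff]
  intro z
  constructor
  · intro hz
    have := h.Zcent z hz a ha
    have h2 : a * z * a⁻¹ = z := by rw [← this]; group
    rwa [h2]
  · intro hz
    have := h.Zcent _ hz a ha
    have h2 : z = a * z * a⁻¹ := by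
      calc z = a⁻¹ * (a * z * a⁻¹ * a) := by group
        _ = a⁻¹ * (a * (a * z * a⁻¹)) := by rw [this]
        _ = a * z * a⁻¹ := by group
    rw [h2]; exact hz

/-- elements of the line through `a` -/
theorem ES.exists_of_mem_line (h : ES p R Z) {a x : G} (ha : a ∈ R)
    (hx : x ∈ Z ⊔ Subgroup.zpowers a) : ∃ i : ℕ, ∃ z ∈ Z, x = a ^ i * z := by
  obtain ⟨z, hz, y, hy, rfl⟩ := mem_sup_of_le_normalizer (h.zpowers_le_normalizer ha) hx
  rw [← (isOfFinOrder_of_finite a).mem_powers_iff_mem_zpowers, Submonoid.mem_powers_iff] at hy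
  obtain ⟨i, rfl⟩ := hy
  refine ⟨i, z, hz, ?_⟩
  exact (Commute.pow_right (h.Zcent z hz a ha) i).eq

theorem ES.orderOf_eq (h : ES p R Z) {a : G} (ha : a ∈ R) (ha1 : a ≠ 1) : orderOf a = p :=
  orderOf_eq_prime (h.exp a ha) ha1

theorem ES.inf_zpowers (h : ES p R Z) {a : G} (ha : a ∈ R) (haZ : a ∉ Z) :
    Subgroup.zpowers a ⊓ Z = ⊥ := by
  by_contra hne
  have ha1 : a ≠ 1 := fun h1 => haZ (h1 ▸ Z.one_mem)
  have hcard : Nat.card (Subgroup.zpowers a) = p := by
    rw [Nat.card_zpowers]; exact h.orderOf_eq ha ha1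
  have h1 : Nat.card ↥(Subgroup.zpowers a ⊓ Z) ∣ p := hcard ▸ Subgroup.card_dvd_of_le inf_le_left
  have h2 : Nat.card ↥(Subgroup.zpowers a ⊓ Z) ≠ 1 := fun h3 => hne (Subgroup.card_eq_one.mp h3)
  have h3 : Nat.card ↥(Subgroup.zpowers a ⊓ Z) = p := ((Nat.dvd_prime hp.out).mp h1).resolve_left h2
  have h4 : Subgroup.zpowers a ⊓ Z = Subgroup.zpowers a :=
    Subgroup.eq_of_le_of_card_ge inf_le_left (by rw [h3, hcard])
  apply haZ
  have : a ∈ Subgroup.zpowers a ⊓ Z := by rw [h4]; exact Subgroup.mem_zpowers a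
  exact this.2

theorem ES.card_line (h : ES p R Z) {a : G} (ha : a ∈ R) (haZ : a ∉ Z) :
    Nat.card ↥(Z ⊔ Subgroup.zpowers a) = p ^ 2 := by
  have ha1 : a ≠ 1 := fun h1 => haZ (h1 ▸ Z.one_mem)
  rw [card_sup_of_le_normalizer (h.zpowers_le_normalizer ha) (h.inf_zpowers ha haZ),
    Nat.card_zpowers, h.orderOf_eq ha ha1, h.Zcard, pow_two]

theorem ES.line_le (h : ES p R Z) {a : G} (ha : a ∈ R) : Z ⊔ Subgroup.zpowers a ≤ R :=
  sup_le h.Zle (Subgroup.zpowers_le.mpr ha)

/-- a line is generated by `Z` and any of its elements outside `Z` -/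
theorem ES.line_eq (h : ES p R Z) {L : Subgroup G} (hZL : Z ≤ L) (hLR : L ≤ R)
    (hL : Nat.card L = p ^ 2) {a : G} (ha : a ∈ L) (haZ : a ∉ Z) :
    Z ⊔ Subgroup.zpowers a = L :=
  Subgroup.eq_of_le_of_card_ge (sup_le hZL (Subgroup.zpowers_le.mpr ha))
    (by rw [h.card_line (hLR ha) haZ, hL])

theorem ES.exists_not_mem (h : ES p R Z) {L : Subgroup G} (hZL : Z ≤ L)
    (hL : Nat.card L = p ^ 2) : ∃ a ∈ L, a ∉ Z := by
  by_contra hcon
  push Not at hcon
  have hle : L ≤ Z := hcon
  have := Subgroup.card_le_of_le hle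
  rw [hL, h.Zcard] at this
  have := hp.out.one_lt
  nlinarith

/-- two distinct lines generate `R` -/
theorem ES.sup_lines (h : ES p R Z) {a b : G} (ha : a ∈ R) (haZ : a ∉ Z) (hb : b ∈ R)
    (hbL : b ∉ Z ⊔ Subgroup.zpowers a) :
    (Z ⊔ Subgroup.zpowers a) ⊔ Subgroup.zpowers b = R := by
  have hle : (Z ⊔ Subgroup.zpowers a) ⊔ Subgroup.zpowers b ≤ R :=
    sup_le (h.line_le ha) (Subgroup.zpowers_le.mpr hb)
  have hlt : Z ⊔ Subgroup.zpowers a < (Z ⊔ Subgroup.zpowers a) ⊔ Subgroup.zpowers b := by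
    refine lt_of_le_of_ne le_sup_left ?_
    intro heq
    apply hbL
    rw [heq]
    exact Subgroup.mem_sup_right (Subgroup.mem_zpowers b)
  have hcardlt : p ^ 2 < Nat.card ↥((Z ⊔ Subgroup.zpowers a) ⊔ Subgroup.zpowers b) := by
    rw [← h.card_line ha haZ]
    by_contra hnot
    push Not at hnot
    exact hlt.ne (Subgroup.eq_of_le_of_card_ge le_sup_left hnot)
  have hdvd : Nat.card ↥((Z ⊔ Subgroup.zpowers a) ⊔ Subgroup.zpowers b) ∣ p ^ 3 :=
    h.card ▸ Subgroup.card_dvd_of_le hle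
  obtain ⟨j, hj, hjeq⟩ := (Nat.dvd_prime_pow hp.out).mp hdvd
  have hj3 : j = 3 := by
    rw [hjeq] at hcardlt
    have := (Nat.pow_lt_pow_iff_right hp.out.one_lt).mp hcardlt
    omega
  exact Subgroup.eq_of_le_of_card_ge hle (by rw [hjeq, hj3, h.card])

/-- if `a ∉ Z` and `b` is outside the line of `a`, then `a` and `b` do not commute -/
theorem ES.not_commute (h : ES p R Z) {a b : G} (ha : a ∈ R) (haZ : a ∉ Z) (hb : b ∈ R)
    (hbL : b ∉ Z ⊔ Subgroup.zpowers a) : a * b ≠ b * a := by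
  intro hab
  apply haZ
  apply h.center a ha
  intro y hy
  have hy' : y ∈ (Z ⊔ Subgroup.zpowers a) ⊔ Subgroup.zpowers b := by
    rw [h.sup_lines ha haZ hb hbL]; exact hy
  -- the centralizer of `a` contains `Z`, `a`, `b`
  have hle : (Z ⊔ Subgroup.zpowers a) ⊔ Subgroup.zpowers b ≤
      Subgroup.centralizer ({a} : Set G) := by
    refine sup_le (sup_le ?_ ?_) ?_
    · intro z hz
      show z ∈ Subgroup.centralizer ({a} : Set G)
      rw [Subgroup.mem_centralizer_singleton_iff]
      exact h.Zcent z hz a ha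
    · rw [Subgroup.zpowers_le]
      show a ∈ Subgroup.centralizer ({a} : Set G)
      rw [Subgroup.mem_centralizer_singleton_iff]
    · rw [Subgroup.zpowers_le]
      show b ∈ Subgroup.centralizer ({a} : Set G)
      rw [Subgroup.mem_centralizer_singleton_iff]
      exact hab.symm
  have := hle hy'
  rw [Subgroup.mem_centralizer_singleton_iff] at this
  exact this.symm

end Cfsg.Agent.Helper4.BG157
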