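import Mathlib
import Cfsg.Prelude
import Cfsg.Agent.Helper4.BG157b

set_option autoImplicit false
set_option linter.unusedSectionVars false
set_option linter.unusedVariables false

/-!
Toward Bender–Glauberman Theorem 15.7(e), part c: the two-lines lemma.
-/

namespace Cfsg.Agent.Helper4.BG157

open Cfsg Cfsg.Agent.Helper1
open scoped Pointwise

universe u

variable {G : Type u} [Group G] [Finite G]

variable {p : ℕ} [hp : Fact p.Prime] {R Z K : Subgroup G}

theorem conj_pow_eq {k a z : G} (hkz : k * z * k⁻¹ = z) (hka : k * a * k⁻¹ = a * z)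
    (haz : a * z = z * a) (n : ℕ) : k ^ n * a * (k ^ n)⁻¹ = a * z ^ n := by
  induction n with
  | zero => simp
  | succ n ih =>
    have hkzn : k * z ^ n * k⁻¹ = z ^ n := by
      have : k * z ^ n * k⁻¹ = (k * z * k⁻¹) ^ n := by
        rw [conj_pow]
      rw [this, hkz]
    calc k ^ (n + 1) * a * (k ^ (n + 1))⁻¹ = k * (k ^ n * a * (k ^ n)⁻¹) * k⁻¹ := by
          rw [pow_succ']; group
      _ = k * (a * z ^ n) * k⁻¹ := by rw [ih]
      _ = (k * a * k⁻¹) * (k * z ^ n * k⁻¹) := by group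
      _ = a * z * z ^ n := by rw [hka, hkzn]
      _ = a * z ^ (n + 1) := by rw [pow_succ']; group

/-- **The two-lines lemma.**  An element `k` of odd order prime to `p`, centralizing `Z`, whose
nontrivial powers have all their fixed points on `R` in `Z`, cannot normalize the line of `a`
when some `h` commuting with `k` (and centralizing `Z`) moves this line. -/
theorem ES.two_lines (hES : ES p R Z) {k h a : G}
    (hkR : k ∈ Subgroup.normalizer (R : Set G)) (hhR : h ∈ Subgroup.normalizer (R : Set G))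
    (hkZ : ∀ z ∈ Z, k * z * k⁻¹ = z) (hhZ : ∀ z ∈ Z, h * z * h⁻¹ = z) (hkh : k * h = h * k)
    (hfix : ∀ n : ℕ, k ^ n ≠ 1 → ∀ x ∈ R, k ^ n * x * (k ^ n)⁻¹ = x → x ∈ Z)
    (hk1 : k ≠ 1) (hodd : Odd (orderOf k)) (hcopk : (orderOf k).Coprime p)
    (ha : a ∈ R) (haZ : a ∉ Z) (hka : k * a * k⁻¹ ∈ Z ⊔ Subgroup.zpowers a)
    (hne : h * a * h⁻¹ ∉ Z ⊔ Subgroup.zpowers a) : False := by
  have hpp := hp.out
  set b := h * a * h⁻¹ with hb
  have hbR : b ∈ R := (Subgroup.mem_normalizer_iff.mp hhR a).mp ha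
  obtain ⟨i, z, hz, hiz⟩ := hES.exists_of_mem_line ha hka
  have hzR : z ∈ R := hES.Zle hz
  -- `k b k⁻¹ = b ^ i * z`
  have hkb : k * b * k⁻¹ = b ^ i * z := by
    have h1 : k * b * k⁻¹ = h * (k * a * k⁻¹) * h⁻¹ := by
      rw [hb]
      have h2 : k * (h * a * h⁻¹) * k⁻¹ = (k * h) * a * (k * h)⁻¹ := by group
      rw [h2, hkh]; group
    rw [h1, hiz]
    have h3 : h * (a ^ i * z) * h⁻¹ = (h * a * h⁻¹) ^ i * (h * z * h⁻¹) := by
      rw [conj_pow]; group
    rw [h3, hhZ z hz]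
  -- the commutator
  set c := a * b * a⁻¹ * b⁻¹ with hc
  have hcZ : c ∈ Z := hES.comm a ha b hbR
  have hab : a * b = c * b * a := by rw [hc]; group
  have hca : c * a = a * c := hES.Zcent c hcZ a ha
  have hcb : c * b = b * c := hES.Zcent c hcZ b hbR
  have hc1 : c ≠ 1 := by
    intro h1
    apply hES.not_commute ha haZ hbR hne
    rw [hab, h1, one_mul]
  have hcord : orderOf c = p := hES.orderOf_eq (hES.Zle hcZ) hc1
  -- `k c k⁻¹ = c ^ (i * i)`
  have hkc : k * c * k⁻¹ = c ^ (i * i) := by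
    have h1 : k * c * k⁻¹ = (k * a * k⁻¹) * (k * b * k⁻¹) * (k * a * k⁻¹)⁻¹ * (k * b * k⁻¹)⁻¹ := by
      rw [hc]; group
    rw [h1, hiz, hkb]
    have hza : z * a ^ i = a ^ i * z := (Commute.pow_right (hES.Zcent z hz a ha) i).eq
    have hzb : z * b ^ i = b ^ i * z := (Commute.pow_right (hES.Zcent z hz b hbR) i).eq
    have h2 : a ^ i * z * (b ^ i * z) * (a ^ i * z)⁻¹ * (b ^ i * z)⁻¹ =
        a ^ i * b ^ i * (a ^ i)⁻¹ * (b ^ i)⁻¹ := by
      have e1 : a ^ i * z * (b ^ i * z) = a ^ i * b ^ i * (z * z) := by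
        calc a ^ i * z * (b ^ i * z) = a ^ i * (z * b ^ i) * z := by group
          _ = a ^ i * (b ^ i * z) * z := by rw [hzb]
          _ = a ^ i * b ^ i * (z * z) := by group
      have e2 : (a ^ i * z)⁻¹ = z⁻¹ * (a ^ i)⁻¹ := by group
      have e3 : (b ^ i * z)⁻¹ = z⁻¹ * (b ^ i)⁻¹ := by group
      have hza' : z⁻¹ * (a ^ i)⁻¹ = (a ^ i)⁻¹ * z⁻¹ := by
        have := congrArg (fun t => t⁻¹) hza
        simp only [mul_inv_rev] at this
        exact this.symm
      rw [e1, e2, e3]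
      calc a ^ i * b ^ i * (z * z) * (z⁻¹ * (a ^ i)⁻¹) * (z⁻¹ * (b ^ i)⁻¹)
          = a ^ i * b ^ i * z * (a ^ i)⁻¹ * z⁻¹ * (b ^ i)⁻¹ := by group
        _ = a ^ i * b ^ i * (z * (a ^ i)⁻¹) * z⁻¹ * (b ^ i)⁻¹ := by group
        _ = a ^ i * b ^ i * ((a ^ i)⁻¹ * z) * z⁻¹ * (b ^ i)⁻¹ := by
            have : z * (a ^ i)⁻¹ = (a ^ i)⁻¹ * z := by
              calc z * (a ^ i)⁻¹ = (a ^ i)⁻¹ * (a ^ i * z) * (a ^ i)⁻¹ := by group
                _ = (a ^ i)⁻¹ * (z * a ^ i) * (a ^ i)⁻¹ := by rw [hza]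
                _ = (a ^ i)⁻¹ * z := by group
            rw [this]
        _ = a ^ i * b ^ i * (a ^ i)⁻¹ * (b ^ i)⁻¹ := by group
    rw [h2, pow_mul_pow_comm_of_central hab hca hcb i i]
    group
  have hkc' : c ^ (i * i) = c ^ 1 := by
    rw [← hkc, hkZ c hcZ, pow_one]
  have hmod : i * i ≡ 1 [MOD p] := by
    rw [← hcord]; exact pow_eq_pow_iff_modEq.mp hkc'
  have hipos : 1 ≤ i * i := by
    rcases Nat.eq_zero_or_pos (i * i) with h0 | h0
    · rw [h0] at hmod
      have := (Nat.modEq_iff_dvd' (Nat.zero_le 1)).mp hmod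
      simp at this
      exact absurd this hpp.one_lt.ne'
    · exact h0
  have hdvd : p ∣ i * i - 1 := (Nat.modEq_iff_dvd' hipos).mp hmod.symm
  have hi1 : 1 ≤ i := by
    rcases Nat.eq_zero_or_pos i with h0 | h0
    · rw [h0] at hipos; simp at hipos
    · exact h0
  have hfac : i * i - 1 = (i - 1) * (i + 1) := by
    obtain ⟨j, rfl⟩ : ∃ j, i = j + 1 := ⟨i - 1, by omega⟩
    simp only [Nat.add_sub_cancel]
    have : (j + 1) * (j + 1) = j * (j + 1 + 1) + 1 := by ring
    rw [this, Nat.add_sub_cancel]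
  rw [hfac] at hdvd
  have ha1 : a ≠ 1 := fun h1 => haZ (h1 ▸ Z.one_mem)
  have hap : a ^ p = 1 := hES.exp a ha
  have haz : a * z = z * a := (hES.Zcent z hz a ha).symm
  rcases (Nat.Prime.dvd_mul hpp).mp hdvd with hd | hd
  · -- `i ≡ 1`: `k a k⁻¹ = a z`
    have hai : a ^ i = a := by
      obtain ⟨t, ht⟩ := hd
      have : i = p * t + 1 := by omega
      rw [this, pow_succ, pow_mul, hap, one_pow, one_mul]
    rw [hai] at hiz
    have h1 := conj_pow_eq (hkZ z hz) hiz haz (orderOf k)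
    rw [pow_orderOf_eq_one] at h1
    have h2 : z ^ orderOf k = 1 := by
      have : a = a * z ^ orderOf k := by simpa using h1
      have h3 := mul_left_cancel (a := a) (b := 1) (c := z ^ orderOf k) (by rw [mul_one]; exact this)
      exact h3.symm
    have hz1 : z = 1 := by
      have h3 : orderOf z ∣ orderOf k := orderOf_dvd_of_pow_eq_one h2
      have h4 : orderOf z ∣ p := by
        apply orderOf_dvd_of_pow_eq_one
        exact hES.exp z hzR
      have := Nat.eq_one_of_dvd_coprimes hcopk h3 h4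
      exact orderOf_eq_one_iff.mp this
    rw [hz1, mul_one] at hiz
    apply haZ
    apply hfix 1 (by rwa [pow_one]) a ha
    rw [pow_one]; exact hiz
  · -- `i ≡ -1`: `k a k⁻¹ = a⁻¹ z`, so `k²` centralizes `a`
    have hai : a ^ i = a⁻¹ := by
      obtain ⟨t, ht⟩ := hd
      have h1 : a ^ (i + 1) = 1 := by rw [ht, pow_mul, hap, one_pow]
      rw [pow_succ] at h1
      exact eq_inv_of_mul_eq_one_left h1
    rw [hai] at hiz
    have hk2 : k ^ 2 * a * (k ^ 2)⁻¹ = a := by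
      have hzinv : z * a⁻¹ = a⁻¹ * z := by
        calc z * a⁻¹ = a⁻¹ * (a * z) * a⁻¹ := by group
          _ = a⁻¹ * (z * a) * a⁻¹ := by rw [haz]
          _ = a⁻¹ * z := by group
      calc k ^ 2 * a * (k ^ 2)⁻¹ = k * (k * a * k⁻¹) * k⁻¹ := by rw [pow_two]; group
        _ = k * (a⁻¹ * z) * k⁻¹ := by rw [hiz]
        _ = (k * a * k⁻¹)⁻¹ * (k * z * k⁻¹) := by group
        _ = (a⁻¹ * z)⁻¹ * z := by rw [hiz, hkZ z hz]
        _ = z⁻¹ * a * z := by group
        _ = z⁻¹ * (z * a) := by rw [mul_assoc, haz]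
        _ = a := by group
    have hk2ne : k ^ 2 ≠ 1 := by
      intro h1
      have h2 : orderOf k ∣ 2 := orderOf_dvd_of_pow_eq_one h1
      have h3 : orderOf k = 1 := by
        rcases (Nat.dvd_prime Nat.prime_two).mp h2 with h4 | h4
        · exact h4
        · rw [h4] at hodd; exact absurd hodd (by decide)
      exact hk1 (orderOf_eq_one_iff.mp h3)
    exact haZ (hfix 2 hk2ne a ha hk2)

end Cfsg.Agent.Helper4.BG157
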