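import Mathlib
import Cfsg.Prelude
import Cfsg.Agent.Helper4.BG157c

set_option autoImplicit false
set_option linter.unusedSectionVars false
set_option linter.unusedVariables false

/-!
Toward Bender–Glauberman Theorem 15.7(e), part d: counting lines; `|K| ∣ p + 1`.
-/

namespace Cfsg.Agent.Helper4.BG157

open Cfsg Cfsg.Agent.Helper1
open scoped Pointwise

universe u

variable {G : Type u} [Group G] [Finite G]

variable {p : ℕ} [hp : Fact p.Prime] {R Z K : Subgroup G}

/-- A free conjugation action on a set of subgroups. -/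
theorem card_dvd_of_free_conj_subgroups (K : Subgroup G) (T : Set (Subgroup G))
    (hinv : ∀ k ∈ K, ∀ L ∈ T, MulAut.conj k • L ∈ T)
    (hfree : ∀ k ∈ K, ∀ L ∈ T, MulAut.conj k • L = L → k = 1) : Nat.card K ∣ T.ncard := by
  let _ : MulAction K T :=
    { smul := fun k L => ⟨MulAut.conj (k : G) • (L : Subgroup G), hinv k k.2 L L.2⟩
      one_smul := by
        intro L
        apply Subtype.ext
        show MulAut.conj ((1 : K) : G) • (L : Subgroup G) = L
        rw [Subgroup.coe_one, map_one, one_smul]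
      mul_smul := by
        intro g k L
        apply Subtype.ext
        show MulAut.conj ((g * k : K) : G) • (L : Subgroup G) =
          MulAut.conj (g : G) • (MulAut.conj (k : G) • (L : Subgroup G))
        rw [Subgroup.coe_mul, map_mul, mul_smul] }
  have hstab : ∀ L : T, MulAction.stabilizer K L = ⊥ := by
    intro L
    rw [eq_bot_iff]
    intro k hk
    rw [MulAction.mem_stabilizer_iff] at hk
    have : MulAut.conj (k : G) • (L : Subgroup G) = L := congrArg Subtype.val hk
    rw [Subgroup.mem_bot]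
    exact Subtype.ext (hfree k k.2 L L.2 this)
  have e := MulAction.selfEquivOrbitsQuotientProd hstab
  have := Nat.card_congr e
  rw [Nat.card_prod, Nat.card_coe_set_eq] at this
  rw [this]
  exact dvd_mul_left _ _

/-- the set of lines -/
def lines (p : ℕ) (R Z : Subgroup G) : Set (Subgroup G) :=
  {L | Z ≤ L ∧ L ≤ R ∧ Nat.card L = p ^ 2}

theorem ES.ncard_lines (h : ES p R Z) : (lines p R Z).ncard = p + 1 := by
  classical
  have hpp := hp.out
  have hfin : (lines p R Z).Finite := Set.toFinite _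
  set T := hfin.toFinset with hT
  have hTmem : ∀ L, L ∈ T ↔ L ∈ lines p R Z := fun L => hfin.mem_toFinset
  have hSfin : ((R : Set G) \ (Z : Set G)).Finite := Set.toFinite _
  set S := hSfin.toFinset with hS
  have hSmem : ∀ x, x ∈ S ↔ x ∈ R ∧ x ∉ Z := fun x => by
    rw [hS, Set.Finite.mem_toFinset]; rfl
  let f : G → Subgroup G := fun x => Z ⊔ Subgroup.zpowers x
  have hmaps : Set.MapsTo f ↑S ↑T := by
    intro x hx
    have hx' := (hSmem x).mp hx
    show f x ∈ T
    rw [hTmem]
    exact ⟨le_sup_left, h.line_le hx'.1, h.card_line hx'.1 hx'.2⟩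
  have hcount := Finset.card_eq_sum_card_fiberwise hmaps
  have hfiber : ∀ L ∈ T, (S.filter (fun a => f a = L)).card = p ^ 2 - p := by
    intro L hL
    rw [hTmem] at hL
    obtain ⟨hZL, hLR, hLc⟩ := hL
    have heq : S.filter (fun a => f a = L) =
        (Set.toFinite ((L : Set G) \ (Z : Set G))).toFinset := by
      ext x
      rw [Finset.mem_filter, hSmem, Set.Finite.mem_toFinset]
      constructor
      · rintro ⟨⟨hxR, hxZ⟩, hfx⟩
        refine ⟨?_, hxZ⟩
        have : x ∈ f x := Subgroup.mem_sup_right (Subgroup.mem_zpowers x)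
        rw [hfx] at this
        exact this
      · rintro ⟨hxL, hxZ⟩
        exact ⟨⟨hLR hxL, hxZ⟩, h.line_eq hZL hLR hLc hxL hxZ⟩
    rw [heq, ← Set.ncard_eq_toFinset_card _ _, Set.ncard_sdiff (fun z hz => hZL hz)]
    have h1 : (L : Set G).ncard = p ^ 2 := by rw [← hLc]; rfl
    have h2 : (Z : Set G).ncard = p := by rw [← h.Zcard]; rfl
    rw [h1, h2]
  rw [Finset.sum_const_nat hfiber] at hcount
  have hScard : S.card = p ^ 3 - p := by
    rw [hS, ← Set.ncard_eq_toFinset_card _ _, Set.ncard_sdiff (fun z hz => h.Zle hz)]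
    have h1 : (R : Set G).ncard = p ^ 3 := by rw [← h.card]; rfl
    have h2 : (Z : Set G).ncard = p := by rw [← h.Zcard]; rfl
    rw [h1, h2]
  rw [hScard] at hcount
  have hTcard : T.card = (lines p R Z).ncard := by
    rw [hT, ← Set.ncard_eq_toFinset_card _ _]
  rw [← hTcard]
  -- `p³ - p = T.card * (p² - p)`
  have h2p : 2 ≤ p := hpp.two_le
  have hpos : 0 < p ^ 2 - p := by
    have : p < p ^ 2 := by nlinarith
    omega
  have hfac : p ^ 3 - p = (p + 1) * (p ^ 2 - p) := by
    have h1 : p ≤ p ^ 2 := by nlinarith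
    have h2 : p ≤ p ^ 3 := by
      calc p = p * 1 := (mul_one p).symm
        _ ≤ p * p ^ 2 := Nat.mul_le_mul_left p (by nlinarith)
        _ = p ^ 3 := by ring
    zify [h1, h2]
    ring
  rw [hfac] at hcount
  exact (Nat.eq_of_mul_eq_mul_right hpos hcount).symm

/-- **Free action on lines.**  `K` abelian of odd order prime to `p` normalizes `R`, centralizes
`Z`, every `k ≠ 1` has `C_R(k) ≤ Z`, and `K` normalizes no line.  Then `|K| ∣ p + 1`. -/
theorem ES.card_dvd_succ (hES : ES p R Z) (hKR : K ≤ Subgroup.normalizer (R : Set G))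
    (hKcomm : ∀ a ∈ K, ∀ b ∈ K, a * b = b * a) (hKodd : Odd (Nat.card K))
    (hcop : (Nat.card K).Coprime p)
    (hKZ : ∀ k ∈ K, ∀ z ∈ Z, k * z * k⁻¹ = z)
    (hfix : ∀ k ∈ K, k ≠ 1 → ∀ x ∈ R, k * x * k⁻¹ = x → x ∈ Z)
    (hnoline : ∀ L ∈ lines p R Z, ¬ K ≤ Subgroup.normalizer (L : Set G)) :
    Nat.card K ∣ p + 1 := by
  rw [← hES.ncard_lines]
  have hKZn : K ≤ Subgroup.normalizer (Z : Set G) := by
    intro k hk
    rw [Subgroup.mem_normalizer_iff]
    intro z
    constructor
    · intro hz; rw [hKZ k hk z hz]; exact hz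
    · intro hz
      have h1 := hKZ k⁻¹ (K.inv_mem hk) _ hz
      have h2 : k⁻¹ * (k * z * k⁻¹) * k⁻¹⁻¹ = z := by group
      rw [h2] at h1
      rw [h1]; exact hz
  apply card_dvd_of_free_conj_subgroups
  · intro k hk L hL
    obtain ⟨hZL, hLR, hLc⟩ := hL
    refine ⟨?_, ?_, ?_⟩
    · rw [← conj_smul_eq_of_mem_normalizer (hKZn hk)]
      exact Subgroup.pointwise_smul_le_pointwise_smul_iff.mpr hZL
    · rw [← conj_smul_eq_of_mem_normalizer (hKR hk)]
      exact Subgroup.pointwise_smul_le_pointwise_smul_iff.mpr hLR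
    · rw [card_conj_smul]; exact hLc
  · intro k hk L hL hkL
    by_contra hk1
    obtain ⟨hZL, hLR, hLc⟩ := hL
    apply hnoline L ⟨hZL, hLR, hLc⟩
    obtain ⟨a, haL, haZ⟩ := hES.exists_not_mem hZL hLc
    have haR : a ∈ R := hLR haL
    have hline := hES.line_eq hZL hLR hLc haL haZ
    have hkn : k ∈ Subgroup.normalizer (L : Set G) := mem_normalizer_of_conj_smul_eq hkL
    have hka : k * a * k⁻¹ ∈ Z ⊔ Subgroup.zpowers a := by
      rw [hline]; exact (Subgroup.mem_normalizer_iff.mp hkn a).mp haL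
    have hordk : orderOf k ∣ Nat.card K := by
      have := orderOf_dvd_natCard (⟨k, hk⟩ : ↥K)
      rwa [Subgroup.orderOf_mk] at this
    have hoddk : Odd (orderOf k) := by
      obtain ⟨t, ht⟩ := hordk
      rw [ht] at hKodd
      exact (Nat.odd_mul.mp hKodd).1
    have hcopk : (orderOf k).Coprime p := Nat.Coprime.coprime_dvd_left hordk hcop
    -- every `h ∈ K` keeps `a` in `L`
    have hall : ∀ h ∈ K, h * a * h⁻¹ ∈ L := by
      intro h hh
      by_contra hne
      rw [← hline] at hne
      exact hES.two_lines (hKR hk) (hKR hh) (hKZ k hk) (hKZ h hh) (hKcomm k hk h hh)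
        (fun n hn x hx hfx => hfix (k ^ n) (K.pow_mem hk n) hn x hx hfx)
        hk1 hoddk hcopk haR haZ hka hne
    intro h hh
    apply mem_normalizer_of_conj_smul_eq
    apply Subgroup.eq_of_le_of_card_ge
    · rw [← hline]
      intro x hx
      rw [mem_conj_smul] at hx
      -- `x = h y h⁻¹` with `y ∈ Z ⊔ ⟨a⟩`
      obtain ⟨i, z, hz, hy⟩ := hES.exists_of_mem_line haR hx
      have hxeq : x = (h * a * h⁻¹) ^ i * (h * z * h⁻¹) := by
        have : x = h * (h⁻¹ * x * h) * h⁻¹ := by group
        rw [this, hy, conj_pow]; group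
      rw [hxeq, hKZ h hh z hz, hline]
      exact L.mul_mem (L.pow_mem (hall h hh) i) (hZL hz)
    · rw [card_conj_smul]

end Cfsg.Agent.Helper4.BG157
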