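import Mathlib
import Cfsg.Prelude
import Cfsg.Agent.Helper4.BG157d
import Cfsg.Agent.Helper1.PQLemma
import Cfsg.Agent.Helper1.AbelianAct
import Cfsg.Agent.Helper1.FrattiniAct
import Cfsg.Agent.Helper1.TypeP

set_option autoImplicit false
set_option linter.unusedSectionVars false
set_option linter.unusedVariables false

/-!
Toward Bender–Glauberman Theorem 15.7(e), part e: nonabelian groups of order `p³`; the
`Ω₁`-subgroups of characteristic subgroups.
-/

namespace Cfsg.Agent.Helper4.BG157

open Cfsg Cfsg.Agent.Helper1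
open scoped Pointwise commutatorElement

universe u

section typeLevel

variable {T : Type u} [Group T] [Finite T] {p : ℕ} [hp : Fact p.Prime]

/-- In a nonabelian group of order `p³` the centre has order `p` and equals the derived group. -/
theorem center_of_card_cube (hc : Nat.card T = p ^ 3) (hna : ¬ IsMulCommutative T) :
    Nat.card (Subgroup.center T) = p ∧ commutator T = Subgroup.center T := by
  have hpp := hp.out
  obtain ⟨k, hk0, hk⟩ := IsPGroup.card_center_eq_prime_pow hc (by norm_num)
  have hmul := Subgroup.card_eq_card_quotient_mul_card_subgroup (Subgroup.center T)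
  rw [hc, hk] at hmul
  have hk3 : k ≤ 3 := by
    have h1 : p ^ k ∣ p ^ 3 := ⟨_, by rw [hmul, mul_comm]⟩
    exact (Nat.pow_dvd_pow_iff_le_right hpp.one_lt).mp h1
  have hq : Nat.card (T ⧸ Subgroup.center T) = p ^ (3 - k) := by
    have h1 : p ^ 3 = p ^ (3 - k) * p ^ k := by rw [← pow_add]; congr 1; omega
    rw [h1] at hmul
    exact (Nat.eq_of_mul_eq_mul_right (pow_pos hpp.pos k) hmul).symm
  have hk1 : k = 1 := by
    rcases (by omega : k = 1 ∨ k = 2 ∨ k = 3) with h | h | h
    · exact h
    · exfalso
      rw [h] at hq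
      haveI : IsCyclic (T ⧸ Subgroup.center T) := isCyclic_of_prime_card (p := p) (by simpa using hq)
      apply hna
      exact MonoidHom.isMulCommutative_of_isCyclic_of_ker_le_center
        (QuotientGroup.mk' (Subgroup.center T)) (by rw [QuotientGroup.ker_mk'])
    · exfalso
      rw [h] at hk
      apply hna
      apply Subgroup.center_eq_top_iff.mp
      exact Subgroup.eq_top_of_card_eq _ (by rw [hk, hc])
  rw [hk1, pow_one] at hk
  refine ⟨hk, ?_⟩
  rw [hk1] at hq
  have hqc : IsMulCommutative (T ⧸ Subgroup.center T) :=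
    IsPGroup.isMulCommutative_of_card_eq_prime_sq (p := p) (by simpa using hq)
  have hle : commutator T ≤ Subgroup.center T :=
    Subgroup.Normal.quotient_commutative_iff_commutator_le.mp hqc
  have hne : commutator T ≠ ⊥ := by
    intro h
    apply hna
    exact Subgroup.center_eq_top_iff.mp ((commutator_eq_bot_iff_center_eq_top T).mp h)
  apply Subgroup.eq_of_le_of_card_ge hle
  rw [hk]
  have h1 : Nat.card (commutator T) ∣ p := hk ▸ Subgroup.card_dvd_of_le hle
  have h2 : Nat.card (commutator T) ≠ 1 := fun h => hne (Subgroup.card_eq_one.mp h)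
  exact (((Nat.dvd_prime hpp).mp h1).resolve_left h2).ge

/-- `Ω₁` of a characteristic subgroup is characteristic -/
theorem omega_characteristic (C : Subgroup T) [hC : C.Characteristic] (n : ℕ) :
    (Subgroup.closure {x : T | x ∈ C ∧ x ^ n = 1}).Characteristic := by
  rw [Subgroup.characteristic_iff_map_le]
  intro φ
  rw [MonoidHom.map_closure]
  apply Subgroup.closure_mono
  rintro _ ⟨x, ⟨hxC, hxn⟩, rfl⟩
  refine ⟨?_, ?_⟩
  · have h1 := Subgroup.characteristic_iff_map_le.mp hC φ
    exact h1 ⟨x, hxC, rfl⟩
  · show (φ x) ^ n = 1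
    rw [← map_pow, hxn, map_one]

end typeLevel

variable {G : Type u} [Group G] [Finite G]

variable {p : ℕ} [hp : Fact p.Prime]

/-- a nonabelian subgroup of order `p³` and exponent `p` is extraspecial -/
theorem es_of_card_cube {R : Subgroup G} (hc : Nat.card R = p ^ 3) (hna : ¬ IsMulCommutative R)
    (hexp : Monoid.exponent R = p) : ES p R ⁅R, R⁆ := by
  obtain ⟨hcen, hcomm⟩ := center_of_card_cube hc hna
  have hmap : ⁅R, R⁆ = (commutator ↥R).map R.subtype := (Subgroup.map_subtype_commutator R).symm
  have hmem : ∀ z : G, z ∈ ⁅R, R⁆ ↔ ∃ hz : z ∈ R, (⟨z, hz⟩ : ↥R) ∈ Subgroup.center ↥R := by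
    intro z
    rw [hmap, hcomm]
    constructor
    · rintro ⟨z', hz', rfl⟩
      exact ⟨z'.2, hz'⟩
    · rintro ⟨hz, hz'⟩
      exact ⟨⟨z, hz⟩, hz', rfl⟩
  refine ⟨hc, ?_, commutator_self_le R, ?_, ?_, ?_, ?_⟩
  · intro x hx
    have h1 := Monoid.pow_exponent_eq_one (⟨x, hx⟩ : ↥R)
    rw [hexp] at h1
    have := congrArg Subtype.val h1
    simpa using this
  · rw [hmap, Subgroup.card_map_of_injective R.subtype_injective, hcomm, hcen]
  · intro z hz x hx
    obtain ⟨hzR, hz'⟩ := (hmem z).mp hz
    have := Subgroup.mem_center_iff.mp hz' ⟨x, hx⟩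
    have := congrArg Subtype.val this
    simpa using this.symm
  · intro x hx y hy
    rw [← commutatorElement_def]
    exact Subgroup.commutator_mem_commutator hx hy
  · intro x hx hcentral
    rw [hmem]
    refine ⟨hx, ?_⟩
    rw [Subgroup.mem_center_iff]
    intro g
    apply Subtype.ext
    simpa using (hcentral g g.2).symm

end Cfsg.Agent.Helper4.BG157
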