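import Mathlib
import Cfsg.Prelude
import Cfsg.Agent.Helper4.BG157e
import Cfsg.Agent.Helper4.BG15N
import Cfsg.Agent.S1448
import Cfsg.Agent.S1453

set_option autoImplicit false
set_option linter.unusedSectionVars false
set_option linter.unusedVariables false

/-!
Toward Bender–Glauberman Theorem 15.7(e), part f: **Lemma C**.
-/

namespace Cfsg.Agent.Helper4.BG157

open Cfsg Cfsg.Agent.Helper1
open scoped Pointwise commutatorElement

universe u

variable {G : Type u} [Group G] [Finite G]

variable {p : ℕ} [hp : Fact p.Prime] {P K : Subgroup G}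

/-- a subgroup of order `p²` and exponent `p` does not lie in a cyclic group -/
theorem not_le_of_isCyclic {W C : Subgroup G} (hW : Nat.card W = p ^ 2) (hWe : ∀ w ∈ W, w ^ p = 1)
    (hC : IsCyclic ↥C) : ¬ W ≤ C := by
  intro hWC
  have hpp := hp.out
  have hWcyc : IsCyclic ↥(W.subgroupOf C) := Subgroup.isCyclic _
  obtain ⟨g, hg⟩ := hWcyc.exists_generator
  have hord : orderOf g = Nat.card ↥(W.subgroupOf C) := orderOf_eq_card_of_forall_mem_zpowers hg
  rw [card_subgroupOf_of_le hWC, hW] at hord
  have hgp : g ^ p = 1 := by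
    apply Subtype.ext
    apply Subtype.ext
    have := hWe ((g : ↥C) : G) (Subgroup.mem_subgroupOf.mp g.2)
    simpa using this
  have := orderOf_dvd_of_pow_eq_one hgp
  rw [hord] at this
  have h2 : p ^ 2 ≤ p := Nat.le_of_dvd hpp.pos this
  have h3 : p < p ^ 2 := by
    have := hpp.one_lt
    nlinarith
  omega

/-- **Lemma C, rank at least three.** -/
theorem lemmaC_rank3 (hp2 : p ≠ 2) (h : KAct p P K) (hP : IsPGroup p ↥P)
    (hr : ¬ Cfsg.PRankLE p 2 ↥P) {A : Subgroup G} (hAP : A ≤ P)
    (hAe : Cfsg.IsElementaryAbelian p A) (hA2 : Nat.card A = p ^ 2)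
    (hAmax : ∀ B : Subgroup G, B ≤ P → Cfsg.IsElementaryAbelian p B → A ≤ B → B = A) :
    Nat.card K ∣ p - 1 := by
  -- transfer `A` to `↥P`
  set E : Subgroup ↥P := A.subgroupOf P with hE
  have hEe : Cfsg.IsElementaryAbelian p E := by
    obtain ⟨hc, he⟩ := hAe
    refine ⟨⟨⟨fun a b => ?_⟩⟩, fun a ha => ?_⟩
    · have := hc.is_comm.comm ⟨(a : ↥P), Subgroup.mem_subgroupOf.mp a.2⟩
        ⟨(b : ↥P), Subgroup.mem_subgroupOf.mp b.2⟩
      apply Subtype.ext
      apply Subtype.ext
      have := congrArg Subtype.val this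
      simpa using this
    · apply Subtype.ext
      have := he (a : G) (Subgroup.mem_subgroupOf.mp ha)
      simpa using this
  have hE2 : Nat.card E = p ^ 2 := by rw [hE, card_subgroupOf_of_le hAP]; exact hA2
  have hEmax : ∀ B : Subgroup ↥P, Cfsg.IsElementaryAbelian p B → E ≤ B → B = E := by
    intro B hB hEB
    have hB' : Cfsg.IsElementaryAbelian p (B.map P.subtype) := by
      obtain ⟨hc, he⟩ := hB
      refine ⟨⟨⟨?_⟩⟩, ?_⟩
      · rintro ⟨_, a, ha, rfl⟩ ⟨_, b, hb, rfl⟩
        apply Subtype.ext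
        have := hc.is_comm.comm ⟨a, ha⟩ ⟨b, hb⟩
        have := congrArg (fun t : ↥B => (((t : ↥P)) : G)) this
        simpa using this
      · rintro _ ⟨a, ha, rfl⟩
        have := he a ha
        have := congrArg Subtype.val this
        simpa using this
    have hAB : A ≤ B.map P.subtype := by
      intro a ha
      exact ⟨⟨a, hAP ha⟩, hEB (Subgroup.mem_subgroupOf.mpr ha), rfl⟩
    have := hAmax _ (Subgroup.map_subtype_le _) hB' hAB
    ext x
    constructor
    · intro hx
      rw [hE, Subgroup.mem_subgroupOf, ← this]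
      exact ⟨x, hx, rfl⟩
    · intro hx
      exact hEB hx
  obtain ⟨-, hZcard, ⟨hWe, hWcard⟩, -, -⟩ := Cfsg.Agent.S1453.result p hp2 hP hr E hEe hE2 hEmax
  set Z' : Subgroup ↥P := Subgroup.closure {x : ↥P | x ∈ Subgroup.center ↥P ∧ x ^ p = 1} with hZ'
  set W' : Subgroup ↥P :=
    Subgroup.closure {x : ↥P | x ∈ Subgroup.upperCentralSeries ↥P 2 ∧ x ^ p = 1} with hW'
  haveI : Z'.Characteristic := omega_characteristic (Subgroup.center ↥P) p
  haveI : W'.Characteristic := omega_characteristic (Subgroup.upperCentralSeries ↥P 2) p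
  have hZW : Z' ≤ W' := by
    apply Subgroup.closure_mono
    rintro x ⟨hx, hxp⟩
    refine ⟨?_, hxp⟩
    have := Subgroup.upperCentralSeries_mono ↥P (show 1 ≤ 2 by norm_num)
    rw [Subgroup.upperCentralSeries_one] at this
    exact this hx
  have hKW : K ≤ Subgroup.normalizer ((W'.map P.subtype : Subgroup G) : Set G) :=
    h.norm.trans (le_normalizer_map_of_characteristic P W')
  have hKZ : K ≤ Subgroup.normalizer ((Z'.map P.subtype : Subgroup G) : Set G) :=
    h.norm.trans (le_normalizer_map_of_characteristic P Z')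
  apply dvd_pred_of_invariant_flag h (W := W'.map P.subtype) (Y := Z'.map P.subtype)
    (Subgroup.map_subtype_le _)
  · rw [Subgroup.card_map_of_injective P.subtype_injective]; exact hWcard
  · rintro _ ⟨w, hw, rfl⟩
    have := hWe.2 w hw
    have := congrArg Subtype.val this
    simpa using this
  · exact hKW
  · exact Subgroup.map_mono hZW
  · rw [Subgroup.card_map_of_injective P.subtype_injective]; exact hZcard
  · exact hKZ

end Cfsg.Agent.Helper4.BG157
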