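import Mathlib
import Cfsg.Prelude
import Cfsg.Agent.Helper4.BG157f

set_option autoImplicit false
set_option linter.unusedSectionVars false
set_option linter.unusedVariables false

/-!
Toward Bender–Glauberman Theorem 15.7(e), part g: **Lemma C**, rank at most two, and the final
statement.
-/

namespace Cfsg.Agent.Helper4.BG157

open Cfsg Cfsg.Agent.Helper1
open scoped Pointwise commutatorElement

universe u

variable {G : Type u} [Group G] [Finite G]

variable {p : ℕ} [hp : Fact p.Prime] {P K : Subgroup G}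

/-- `P = R₁ R₂` with `R₂` cyclic central, `Ω₁(R₂) ≤ Z ≤ C(K)`, and `[P, K] = P`: then
`P = R₁`. -/
theorem eq_left_of_central_cyclic {R₁ R₂ Z : Subgroup G} (hP : IsPGroup p ↥P)
    (hKP : K ≤ Subgroup.normalizer (P : Set G)) (hcop : (Nat.card K).Coprime p)
    (hsup : R₁ ⊔ R₂ = P) (hcomm : ∀ a ∈ R₁, ∀ b ∈ R₂, a * b = b * a) (hR₂c : IsCyclic ↥R₂)
    (hΩmem : ∀ b ∈ R₂, b ^ p = 1 → b ∈ Z) (hZR₂ : Z ≤ R₂)
    (hZC : Z ≤ Subgroup.centralizer (K : Set G))
    (hKR₁ : K ≤ Subgroup.normalizer (R₁ : Set G))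
    (hcenter : ∀ x ∈ R₁, (∀ y ∈ R₁, x * y = y * x) → x ∈ Z) (hPK : ⁅P, K⁆ = P) : P = R₁ := by
  have hpp := hp.out
  have hR₁P : R₁ ≤ P := hsup ▸ le_sup_left
  have hR₂P : R₂ ≤ P := hsup ▸ le_sup_right
  have hR₂N : R₂ ≤ Subgroup.normalizer (R₁ : Set G) := by
    intro b hb
    rw [Subgroup.mem_normalizer_iff]
    intro a
    constructor
    · intro ha
      have := hcomm a ha b hb
      have h2 : b * a * b⁻¹ = a := by rw [← this]; group
      rwa [h2]
    · intro ha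
      have := hcomm _ ha b hb
      have h2 : a = b * a * b⁻¹ := by
        calc a = b⁻¹ * (b * a * b⁻¹ * b) := by group
          _ = b⁻¹ * (b * (b * a * b⁻¹)) := by rw [this]
          _ = b * a * b⁻¹ := by group
      rw [h2]; exact ha
  have hdecomp : ∀ x ∈ P, ∃ a ∈ R₁, ∃ b ∈ R₂, x = a * b := by
    intro x hx
    rw [← hsup] at hx
    exact mem_sup_of_le_normalizer hR₂N hx
  -- `P = R₁`
  set ZP := P ⊓ Subgroup.centralizer (P : Set G) with hZPdef
  have hKZP : K ≤ Subgroup.normalizer (ZP : Set G) :=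
    Cfsg.Agent.Helper4.BG15.le_normalizer_inf hKP
      (hKP.trans (Cfsg.Agent.Helper4.BG15.normalizer_le_normalizer_centralizer P))
  have hR₂comm : ∀ a ∈ R₂, ∀ b ∈ R₂, a * b = b * a := by
    intro a ha b hb
    haveI := hR₂c
    have := (IsCyclic.isMulCommutative (α := ↥R₂)).is_comm.comm ⟨a, ha⟩ ⟨b, hb⟩
    exact congrArg Subtype.val this
  have hR₂ZP : R₂ ≤ ZP := by
    intro b hb
    refine ⟨hR₂P hb, ?_⟩
    show b ∈ Subgroup.centralizer (P : Set G)
    rw [Subgroup.mem_centralizer_iff]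
    intro x hx
    obtain ⟨a, ha, b', hb', rfl⟩ := hdecomp x hx
    have h1 := hcomm a ha b hb
    have h2 := hR₂comm b' hb' b hb
    calc a * b' * b = a * (b' * b) := by group
      _ = a * (b * b') := by rw [h2]
      _ = (a * b) * b' := by group
      _ = (b * a) * b' := by rw [h1]
      _ = b * (a * b') := by group
  have hZPR₂ : ZP ≤ R₂ := by
    intro x hx
    obtain ⟨a, ha, b, hb, rfl⟩ := hdecomp x hx.1
    have hcen := Subgroup.mem_centralizer_iff.mp hx.2
    have haZ : a ∈ Z := by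
      apply hcenter a ha
      intro y hy
      have h1 := hcen y (hR₁P hy)
      have h2 := hcomm y hy b hb
      -- `y * (a b) = (a b) * y`, `y b = b y`
      have h3 : y * a * b = a * y * b := by
        calc y * a * b = y * (a * b) := by group
          _ = a * b * y := h1
          _ = a * (b * y) := by group
          _ = a * (y * b) := by rw [h2]
          _ = a * y * b := by group
      exact (mul_right_cancel h3).symm
    exact R₂.mul_mem (hZR₂ haZ) hb
  haveI hZPc : IsMulCommutative ↥ZP := by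
    refine ⟨⟨fun a b => ?_⟩⟩
    apply Subtype.ext
    have := Subgroup.mem_centralizer_iff.mp b.2.2 (a : G) a.2.1
    simpa using this
  have hcopZP : (Nat.card K).Coprime (Nat.card ZP) := by
    obtain ⟨j, hj⟩ := (hP.to_le (inf_le_left : ZP ≤ P)).exists_card_eq
    rw [hj]
    exact Nat.Coprime.pow_right j hcop
  obtain ⟨hdisj, hjoin⟩ := abelian_coprime_decomp K ZP hKZP hcopZP
  have hcomm_bot : ⁅ZP, K⁆ = ⊥ := by
    by_contra hne
    have hle : ⁅ZP, K⁆ ≤ ZP := le_sup_right.trans hjoin.le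
    have hpg : IsPGroup p ↥⁅ZP, K⁆ := hP.to_le (hle.trans inf_le_left)
    obtain ⟨j, hj⟩ := hpg.exists_card_eq
    have hj0 : j ≠ 0 := by
      rintro rfl
      rw [pow_zero] at hj
      exact hne (Subgroup.card_eq_one.mp hj)
    have hpdvd : p ∣ Nat.card ↥⁅ZP, K⁆ := by rw [hj]; exact dvd_pow_self p hj0
    obtain ⟨y, hy⟩ := exists_prime_orderOf_dvd_card' p hpdvd
    have hyp : (y : G) ^ p = 1 := by
      have : y ^ p = 1 := by rw [← hy]; exact pow_orderOf_eq_one y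
      have := congrArg Subtype.val this
      simpa using this
    have hyZ : (y : G) ∈ Z := hΩmem _ (hZPR₂ (hle y.2)) hyp
    have hy' : (y : G) ∈ (ZP ⊓ Subgroup.centralizer (K : Set G)) ⊓ ⁅ZP, K⁆ :=
      ⟨⟨hR₂ZP (hZR₂ hyZ), hZC hyZ⟩, y.2⟩
    rw [hdisj, Subgroup.mem_bot] at hy'
    have hy1 : y = 1 := Subtype.ext hy'
    rw [hy1, orderOf_one] at hy
    exact hpp.one_lt.ne hy
  have hZPC : ZP ≤ Subgroup.centralizer (K : Set G) := by
    rw [hcomm_bot, sup_bot_eq] at hjoin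
    exact fun x hx => (hjoin.ge hx).2
  have hcommle : ⁅P, K⁆ ≤ R₁ := by
    rw [Subgroup.commutator_le]
    intro x hx k hk
    obtain ⟨a, ha, b, hb, rfl⟩ := hdecomp x hx
    have hbk : k * b = b * k := Subgroup.mem_centralizer_iff.mp (hZPC (hR₂ZP hb)) k hk
    have h1 : ⁅a * b, k⁆ = a * (k * a⁻¹ * k⁻¹) := by
      rw [commutatorElement_def]
      calc a * b * k * (a * b)⁻¹ * k⁻¹ = a * (b * k) * b⁻¹ * a⁻¹ * k⁻¹ := by group
        _ = a * (k * b) * b⁻¹ * a⁻¹ * k⁻¹ := by rw [hbk]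
        _ = a * (k * a⁻¹ * k⁻¹) := by group
    rw [h1]
    exact R₁.mul_mem ha
      ((Subgroup.mem_normalizer_iff.mp (hKR₁ hk) _).mp (R₁.inv_mem ha))
  exact le_antisymm (hPK ▸ hcommle) hR₁P

/-- **Lemma C, rank at most two.** -/
theorem lemmaC_rank2 (hp2 : p ≠ 2) (h : KAct p P K) (hP : IsPGroup p ↥P)
    (hPna : ¬ IsMulCommutative ↥P) (hr : Cfsg.PRankLE p 2 ↥P) (hKc : IsCyclic ↥K)
    (hKodd : Odd (Nat.card K)) (hPK : ⁅P, K⁆ = P) :
    Nat.card K ∣ p - 1 ∨ (Nat.card P = p ^ 3 ∧ Nat.card K ∣ p + 1) := by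
  have hpp := hp.out
  have hP1 : P ≠ ⊥ := by
    rintro rfl
    apply hPna
    exact ⟨⟨fun a b => Subsingleton.elim _ _⟩⟩
  obtain ⟨-, hcases⟩ := Cfsg.Agent.S1448.result p hp2 P K hP hP1 hr h.norm h.cop hKodd hPK
  rcases hcases with hab | ⟨R₁, R₂, hsup, hcomm, hR₁na, hR₁c, hR₁e, hR₂c, hΩ⟩
  · exact absurd hab hPna
  have hES := es_of_card_cube hR₁c hR₁na hR₁e
  set Z := ⁅R₁, R₁⁆ with hZ
  have hR₁P : R₁ ≤ P := hsup ▸ le_sup_left
  have hR₂P : R₂ ≤ P := hsup ▸ le_sup_right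
  have hZR₂ : Z ≤ R₂ := by
    rw [← hΩ, Subgroup.closure_le]
    intro x hx
    exact hx.1
  have hΩmem : ∀ b ∈ R₂, b ^ p = 1 → b ∈ Z := by
    intro b hb hbp
    rw [← hΩ]
    exact Subgroup.subset_closure ⟨hb, hbp⟩
  have hR₂N : R₂ ≤ Subgroup.normalizer (R₁ : Set G) := by
    intro b hb
    rw [Subgroup.mem_normalizer_iff]
    intro a
    constructor
    · intro ha
      have := hcomm a ha b hb
      have h2 : b * a * b⁻¹ = a := by rw [← this]; group
      rwa [h2]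
    · intro ha
      have := hcomm _ ha b hb
      have h2 : a = b * a * b⁻¹ := by
        calc a = b⁻¹ * (b * a * b⁻¹ * b) := by group
          _ = b⁻¹ * (b * (b * a * b⁻¹)) := by rw [this]
          _ = b * a * b⁻¹ := by group
      rw [h2]; exact ha
  have hdecomp : ∀ x ∈ P, ∃ a ∈ R₁, ∃ b ∈ R₂, x = a * b := by
    intro x hx
    rw [← hsup] at hx
    exact mem_sup_of_le_normalizer hR₂N hx
  have hmemR₁ : ∀ x ∈ P, x ^ p = 1 → x ∈ R₁ := by
    intro x hx hxp
    obtain ⟨a, ha, b, hb, rfl⟩ := hdecomp x hx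
    have hab : Commute a b := hcomm a ha b hb
    rw [hab.mul_pow, hES.exp a ha, one_mul] at hxp
    exact R₁.mul_mem ha (hES.Zle (hΩmem b hb hxp))
  have hKR₁ : K ≤ Subgroup.normalizer (R₁ : Set G) := by
    intro k hk
    apply mem_normalizer_of_conj_smul_eq
    apply Subgroup.eq_of_le_of_card_ge
    · intro x hx
      rw [mem_conj_smul] at hx
      have hxeq : x = k * (k⁻¹ * x * k) * k⁻¹ := by group
      have hxP : x ∈ P := by
        rw [hxeq]
        exact (Subgroup.mem_normalizer_iff.mp (h.norm hk) _).mp (hR₁P hx)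
      apply hmemR₁ x hxP
      rw [hxeq, conj_pow, hES.exp _ hx]; group
    · rw [card_conj_smul]
  have hKZ : K ≤ Subgroup.normalizer (Z : Set G) := le_normalizer_commutator hKR₁ hKR₁
  have hZP : Z ≤ P := hES.Zle.trans hR₁P
  rcases centralizes_or_dvd_pred h hZP hES.Zcard hKZ with hZC | hd
  swap
  · exact Or.inl hd
  by_cases hline : ∃ L ∈ lines p R₁ Z, K ≤ Subgroup.normalizer (L : Set G)
  · obtain ⟨L, ⟨hZL, hLR, hLc⟩, hKL⟩ := hline
    left
    exact dvd_pred_of_invariant_flag h (hLR.trans hR₁P) hLc (fun w hw => hES.exp w (hLR hw)) hKL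
      hZL hES.Zcard hKZ
  push Not at hline
  right
  have hKZc : ∀ k ∈ K, ∀ z ∈ Z, k * z * k⁻¹ = z := by
    intro k hk z hz
    have := Subgroup.mem_centralizer_iff.mp (hZC hz) k hk
    rw [this]; group
  have hKcomm : ∀ a ∈ K, ∀ b ∈ K, a * b = b * a := by
    intro a ha b hb
    have := (IsCyclic.isMulCommutative (α := ↥K)).is_comm.comm ⟨a, ha⟩ ⟨b, hb⟩
    exact congrArg Subtype.val this
  have hfix : ∀ k ∈ K, k ≠ 1 → ∀ x ∈ R₁, k * x * k⁻¹ = x → x ∈ Z := by
    intro k hk hk1 x hx hkx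
    by_contra hxZ
    have h1 : x ∈ P ⊓ Subgroup.centralizer ({k} : Set G) :=
      mem_inf_centralizer_singleton (hR₁P hx) hkx
    rw [h.fix k hk hk1] at h1
    have hle : Z ⊔ Subgroup.zpowers x ≤ P ⊓ Subgroup.centralizer (K : Set G) :=
      sup_le (le_inf hZP hZC) (Subgroup.zpowers_le.mpr h1)
    exact not_le_of_isCyclic (hES.card_line hx hxZ)
      (fun w hw => hES.exp w (hES.line_le hx hw)) h.cyc hle
  refine ⟨?_, hES.card_dvd_succ hKR₁ hKcomm hKodd h.cop hKZc hfix hline⟩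
  have hPR₁ : P = R₁ := eq_left_of_central_cyclic hP h.norm h.cop hsup hcomm hR₂c hΩmem hZR₂ hZC hKR₁
    hES.center hPK
  rw [hPR₁]; exact hR₁c

/-- **Lemma C.**  Let `p` be an odd prime, `P` a nonabelian `p`-subgroup and `K` a cyclic
subgroup of odd order prime to `p` normalizing `P`, with `[P, K] = P`, such that all `k ≠ 1` in `K`
have the same cyclic group of fixed points on `P`.  If `P` has a maximal elementary abelian
subgroup of order `p²`, then `|K| ∣ p - 1`, or `|P| = p³` and `|K| ∣ p + 1`. -/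
theorem lemmaC (hp2 : p ≠ 2) (hP : IsPGroup p ↥P) (hPna : ¬ IsMulCommutative ↥P)
    (hKP : K ≤ Subgroup.normalizer (P : Set G)) (hKc : IsCyclic ↥K) (hKodd : Odd (Nat.card K))
    (hcop : (Nat.card K).Coprime p)
    (hfix : ∀ k ∈ K, k ≠ 1 →
      P ⊓ Subgroup.centralizer ({k} : Set G) = P ⊓ Subgroup.centralizer (K : Set G))
    (hCc : IsCyclic ↥(P ⊓ Subgroup.centralizer (K : Set G))) (hPK : ⁅P, K⁆ = P)
    {A : Subgroup G} (hAP : A ≤ P) (hAe : Cfsg.IsElementaryAbelian p A)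
    (hA2 : Nat.card A = p ^ 2)
    (hAmax : ∀ B : Subgroup G, B ≤ P → Cfsg.IsElementaryAbelian p B → A ≤ B → B = A) :
    Nat.card K ∣ p - 1 ∨ (Nat.card P = p ^ 3 ∧ Nat.card K ∣ p + 1) := by
  have h : KAct p P K := ⟨hKP, hcop, hfix, hCc⟩
  by_cases hr : Cfsg.PRankLE p 2 ↥P
  · exact lemmaC_rank2 hp2 h hP hPna hr hKc hKodd hPK
  · exact Or.inl (lemmaC_rank3 hp2 h hP hr hAP hAe hA2 hAmax)

end Cfsg.Agent.Helper4.BG157
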