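import Mathlib
import Cfsg.Prelude
import Cfsg.Agent.Helper4.BG157g
import Cfsg.Agent.Helper1.BG16f

set_option autoImplicit false
set_option linter.unusedSectionVars false
set_option linter.unusedVariables false

/-!
`Lemma C` in the shape required by `Cfsg.Agent.Helper1.BG16.typeV_of`.
-/

namespace Cfsg.Agent.Helper4.BG157

open Cfsg Cfsg.Agent.Helper1

universe u

variable {G : Type u} [Group G] [Finite G]

theorem lemmaC' : Cfsg.Agent.Helper1.BG16.LemmaC G := by
  intro r P K hr hr2 hP hPna hKP hKc hKodd hcop hfix hCc hPK ⟨A, hAP, hAe, hA2, hAmax⟩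
  haveI : Fact r.Prime := ⟨hr⟩
  have hP1 : P ≠ ⊥ := by
    rintro rfl
    apply hPna
    exact ⟨⟨fun a b => Subsingleton.elim _ _⟩⟩
  have hcop' : (Nat.card K).Coprime r := by
    obtain ⟨j, hj⟩ := hP.exists_card_eq
    have hj0 : j ≠ 0 := by
      rintro rfl
      rw [pow_zero] at hj
      exact hP1 (Subgroup.card_eq_one.mp hj)
    rw [hj] at hcop
    exact Nat.Coprime.coprime_dvd_right (dvd_pow_self r hj0) hcop
  exact lemmaC hr2 hP hPna hKP hKc hKodd hcop' hfix hCc hPK hAP hAe hA2
    (fun B hBP hBe hAB => hAmax B hAB hBP hBe)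

end Cfsg.Agent.Helper4.BG157
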