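import Mathlib
import Cfsg.Prelude
import Cfsg.Agent.Helper4.BG15O

set_option autoImplicit false
set_option maxHeartbeats 1600000
set_option linter.unusedSectionVars false
set_option linter.unusedVariables false
set_option linter.style.haveILetI false

/-!
`S1437` (BG Theorem 15.2 for `M_F ≠ M_σ`) re-proved with one more conclusion exported:
`C_{M_σ}(K) ∩ C_Q(D) = 1`.
-/

namespace Cfsg.Agent.Helper4.BG158

open Cfsg Cfsg.Agent.Helper1 Cfsg.Agent.Helper2 Cfsg.Agent.Helper1.BGT Cfsg.Agent.Helper1.BGU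
  Cfsg.Agent.Helper1.BGV Cfsg.Agent.Helper1.BGW Cfsg.Agent.Helper1.BGX Cfsg.Agent.Lead.BG12
  Cfsg.Agent.Lead.BG108 Cfsg.Agent.Helper4.BG10 Cfsg.Agent.Helper4.BG12 Cfsg.Agent.Helper4.BG15
open scoped commutatorElement Pointwise

universe u

variable {G : Type u} [Group G] [Finite G]

variable {M K U : Subgroup G}

/-- `S1437` with the additional conclusion `C_{M_σ}(K) ∩ C_Q(D) = 1`. -/
theorem thm1437x (hG : Cfsg.IsMinSimpleOddOrder G) (hM : IsCoatom M)
    (hKU : Cfsg.IsSigmaDecomposition M K U) (hne : Cfsg.fittingHallOf M ≠ Cfsg.sigmaCore M) :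
    U = ⊥ ∧ Cfsg.sigmaCore M = ⁅M, M⁆ ∧ (Nat.card K).Prime ∧
      (Nat.card ↥(Cfsg.sigmaCore M ⊓ Subgroup.centralizer (K : Set G))).Prime ∧
      Nat.card ↥(Cfsg.sigmaCore M ⊓ Subgroup.centralizer (K : Set G)) ∣
        Nat.card (Cfsg.fittingHallOf M) ∧
      Nat.card ↥(Cfsg.sigmaCore M ⊓ Subgroup.centralizer (K : Set G)) ∈ Cfsg.beta M ∧
      ∃ Q : Subgroup G, Q ≤ Cfsg.fittingHallOf M ∧ M ≤ Subgroup.normalizer (Q : Set G) ∧
        IsPGroup (Nat.card ↥(Cfsg.sigmaCore M ⊓ Subgroup.centralizer (K : Set G))) Q ∧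
        ¬ Nat.card ↥(Cfsg.sigmaCore M ⊓ Subgroup.centralizer (K : Set G)) ∣
          Q.relIndex (Cfsg.sigmaCore M) ∧
        ∀ D : Subgroup G, Cfsg.IsComplIn Q D (Cfsg.sigmaCore M) →
          Group.IsNilpotent D ∧
          M ≤ Subgroup.normalizer ((Q ⊓ Subgroup.centralizer (D : Set G) : Subgroup G) : Set G) ∧
          Q ⊓ Subgroup.centralizer (D : Set G) < Q ∧
          Nat.card Q = Nat.card ↥(Q ⊓ Subgroup.centralizer (D : Set G)) *
            Nat.card ↥(Cfsg.sigmaCore M ⊓ Subgroup.centralizer (K : Set G)) ^ Nat.card K ∧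
          (∀ a ∈ Q, ∀ b ∈ Q,
            a ^ Nat.card ↥(Cfsg.sigmaCore M ⊓ Subgroup.centralizer (K : Set G)) ∈
              Q ⊓ Subgroup.centralizer (D : Set G) ∧
            a * b * a⁻¹ * b⁻¹ ∈ Q ⊓ Subgroup.centralizer (D : Set G)) ∧
          (Cfsg.sigmaCore M ⊓ Subgroup.centralizer (K : Set G)) ⊓
            (Q ⊓ Subgroup.centralizer (D : Set G)) = ⊥ ∧
          ∀ N : Subgroup G, Q ⊓ Subgroup.centralizer (D : Set G) < N → N < Q →
            ¬ M ≤ Subgroup.normalizer (N : Set G) := by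
  obtain ⟨hU, -, hKprime⟩ := thm152c' hG hM hKU hne
  have hK := hKU.hall
  have hK1 := decomp_K_ne_bot hG hM hKU hU
  have hP1 := not_notP1_of_U_eq_bot hG hM hKU hU
  have hqprime := kstar_card_prime_of_not_notP1 hG hM hK hK1 hP1
  have h1365 := Cfsg.Agent.S1365.result hG M hM K U hKU hK1
  have hM' : Cfsg.sigmaCore M = ⁅M, M⁆ := by rw [h1365.1, hU, bot_sup_eq]
  have hKsF := kstar_le_fittingHallOf hG hM hKU hK1
  obtain ⟨Q, hQS, hMQ, hQq, hQq', hKQ, hQF⟩ := exists_normal_sylow_kstar hG hM hKU hU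
  obtain ⟨D₂, hD₂S, hKD₂, hQD₂0, hQD₂S, hqD₂, hD₂nil, hD₂K0, hQD₂⟩ :=
    p1_invariant hG hM hKU hU hne hqprime hQS hMQ hQq hQq' hKQ hQF
  set S := Cfsg.sigmaCore M with hS
  set Ks := S ⊓ Subgroup.centralizer (K : Set G) with hKs
  set q := Nat.card Ks with hq
  set p := Nat.card K with hp
  haveI : Fact q.Prime := ⟨hqprime⟩
  have hSM : S ≤ M := sigmaCore_le
  have hKM : K ≤ M := hK.1
  have hsolvM : Group.IsSolvable ↥M := hG.2.2.2 M hM.1
  have hsolvS : Group.IsSolvable ↥S := isSolvable_of_le hSM hsolvM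
  have hqS : q ∣ Nat.card S := Subgroup.card_dvd_of_le inf_le_left
  have hqM : q ∣ Nat.card M := hqS.trans (Subgroup.card_dvd_of_le hSM)
  have hqβ : q ∈ Cfsg.beta M :=
    mem_beta_of_not_centralizes hG hM hqprime hQS hMQ hQq hD₂S hqD₂ hQD₂ hqM
  have hqp : q ≠ p := by
    intro h
    have h1 : q ∣ Nat.card K := by rw [← hp, ← h]
    exact (hK.2.1 q hqprime h1).2.2.1
      (Cfsg.Agent.Lead.BG12.mem_sigma_of_dvd_card_sigmaCore hqprime hqS)
  have hQK : Q ⊓ Subgroup.centralizer (K : Set G) = Ks :=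
    le_antisymm (inf_le_inf_right _ hQS) (le_inf hKQ inf_le_right)
  have hKQn : K ≤ Subgroup.normalizer (Q : Set G) := hKM.trans hMQ
  have hD₂Qn : D₂ ≤ Subgroup.normalizer (Q : Set G) := (hD₂S.trans hSM).trans hMQ
  obtain ⟨hcard, hpc, hQQ₀, hKsQ₀, hirr⟩ := frobQ hKprime hqprime Q D₂ K hQq hKQn hD₂Qn hKD₂ rfl
    hD₂nil hqD₂ hqp hD₂K0 (by rw [hQK]) hQD₂
  set Q₀ := Q ⊓ Subgroup.centralizer (D₂ : Set G) with hQ₀
  have hMeq : M = K ⊔ S := decomp_eq_of_U_eq_bot hKU hU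
  have hMQ₀ : M ≤ Subgroup.normalizer (Q₀ : Set G) := by
    have h1 : K ≤ Subgroup.normalizer (Q₀ : Set G) :=
      Cfsg.Agent.Helper4.BG15.le_normalizer_inf hKQn (hKD₂.trans (Cfsg.Agent.Helper4.BG15.normalizer_le_normalizer_centralizer D₂))
    have h2 : D₂ ≤ Subgroup.normalizer (Q₀ : Set G) :=
      Cfsg.Agent.Helper4.BG15.le_normalizer_inf hD₂Qn
        (Subgroup.le_normalizer.trans (Cfsg.Agent.Helper4.BG15.normalizer_le_normalizer_centralizer D₂))
    rw [hMeq, ← hQD₂S]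
    exact sup_le h1 (sup_le hQQ₀ h2)
  have hQ₀lt : Q₀ < Q := by
    refine lt_of_le_of_ne inf_le_left ?_
    intro h
    apply hQD₂
    rw [← h]
    exact inf_le_right
  refine ⟨hU, hM', hKprime, hqprime, Subgroup.card_dvd_of_le hKsF, hqβ, Q, hQF, hMQ, hQq, hQq',
    ?_⟩
  intro D hD
  obtain ⟨-, hDS, hQD0, hmul⟩ := hD
  have hcardS1 : Nat.card Q * Nat.card D = Nat.card S :=
    IsComplIn_card_mul ⟨hQS, hDS, hQD0, hmul⟩
  have hcardS2 : Nat.card S = Nat.card D₂ * Nat.card Q := by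
    rw [← hQD₂S]
    exact card_sup_of_le_normalizer hD₂Qn (by rw [inf_comm]; exact hQD₂0)
  have hcardD : Nat.card D₂ = Nat.card D := by
    have h1 : Nat.card Q * Nat.card D = Nat.card Q * Nat.card D₂ := by
      rw [hcardS1, hcardS2, mul_comm]
    exact (Nat.eq_of_mul_eq_mul_left Nat.card_pos h1).symm
  have hrel : D₂.relIndex S = Nat.card Q := by
    have h1 := relIndex_mul_card_of_le hD₂S
    rw [hcardS2, mul_comm] at h1
    exact Nat.eq_of_mul_eq_mul_left Nat.card_pos h1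
  obtain ⟨n, hn⟩ := hQq.exists_card_eq
  have hd : Cfsg.Agent.Helper3.PiDecomp {t | t ∣ Nat.card D₂} (Nat.card S) (Nat.card D₂)
      (D₂.relIndex S) := by
    refine ⟨?_, fun t ht h => h, ?_⟩
    · rw [hrel]; exact hcardS2
    · intro t ht h1 h2
      rw [hrel, hn] at h1
      have h3 : t = q := (Nat.prime_dvd_prime_iff_eq ht hqprime).mp (ht.dvd_of_dvd_pow h1)
      exact hqD₂ (h3 ▸ h2)
  obtain ⟨hC, -⟩ := Cfsg.Agent.Helper3.hall_internal S hsolvS hd
  obtain ⟨g, hg, hgD⟩ := hC D₂ D hD₂S hDS rfl hcardD.symm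
  have hgM : g ∈ M := hSM hg
  have hcentEq : Q ⊓ Subgroup.centralizer (D : Set G) = Q₀ := by
    ext x
    have hgQ := Subgroup.mem_normalizer_iff.mp (hMQ (M.inv_mem hgM))
    have hgQ₀ := Subgroup.mem_normalizer_iff.mp (hMQ₀ (M.inv_mem hgM))
    have key : x ∈ Subgroup.centralizer (D : Set G) ↔
        g⁻¹ * x * g ∈ Subgroup.centralizer (D₂ : Set G) := by
      rw [Subgroup.mem_centralizer_iff, Subgroup.mem_centralizer_iff]
      constructor
      · intro h d hd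
        have hd' : g * d * g⁻¹ ∈ D := by
          rw [← hgD, mem_conj_smul]
          have : g⁻¹ * (g * d * g⁻¹) * g = d := by group
          rw [this]; exact hd
        have h1 := h _ hd'
        calc d * (g⁻¹ * x * g) = g⁻¹ * ((g * d * g⁻¹) * x) * g := by group
          _ = g⁻¹ * (x * (g * d * g⁻¹)) * g := by rw [h1]
          _ = g⁻¹ * x * g * d := by group
      · intro h d hd
        have hd' : g⁻¹ * d * g ∈ D₂ := by
          have hd2 : d ∈ MulAut.conj g • D₂ := by rw [hgD]; exact hd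
          rw [mem_conj_smul] at hd2
          exact hd2
        have h1 := h _ hd'
        calc d * x = g * ((g⁻¹ * d * g) * (g⁻¹ * x * g)) * g⁻¹ := by group
          _ = g * ((g⁻¹ * x * g) * (g⁻¹ * d * g)) * g⁻¹ := by rw [h1]
          _ = x * d := by group
    rw [Subgroup.mem_inf, key]
    have h2 := hgQ x
    have h3 := hgQ₀ (x)
    rw [inv_inv] at h2 h3
    rw [h3, hQ₀, Subgroup.mem_inf, ← h2]
  rw [hcentEq]
  refine ⟨?_, hMQ₀, hQ₀lt, hcard, hpc, by rw [← hQK]; exact hKsQ₀, ?_⟩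
  · rw [← hgD]
    haveI := hD₂nil
    exact Group.nilpotent_of_mulEquiv (Subgroup.equivSMul (MulAut.conj g) D₂)
  · intro N hN1 hN2 hMN
    rcases hirr N hN1.le hN2.le (hKM.trans hMN) ((hD₂S.trans hSM).trans hMN) with h | h
    · exact hN1.ne' h
    · exact hN2.ne h

end Cfsg.Agent.Helper4.BG158
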