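import Mathlib
import Cfsg.Prelude
import Cfsg.Agent.Helper4.BG158a
import Cfsg.Agent.Helper4.BG158b
import Cfsg.Agent.Helper1.BG147b
import Cfsg.Agent.Helper1.GWp
import Cfsg.Agent.Helper2.BG148d
import Cfsg.Agent.S1416
import Cfsg.Agent.S1417
import Cfsg.Agent.S1418
import Cfsg.Agent.S1419
import Cfsg.Agent.S1420
import Cfsg.Agent.S1426
import Cfsg.Agent.S1432

set_option autoImplicit false
set_option maxHeartbeats 1600000
set_option linter.unusedSectionVars false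
set_option linter.unusedVariables false
set_option linter.style.haveILetI false

/-!
Toward BG Theorem 15.8 / S1376 clause 2: in the situation of BG Lemma 14.12 (`Helper2.BG1412.Setup`)
with `r ∈ τ₂(M)`, we have `τ₂(H) = ∅`.
-/

namespace Cfsg.Agent.Helper4.BG158

open Cfsg Cfsg.Agent.Helper1 Cfsg.Agent.Helper4.BG12 Cfsg.Agent.Helper4.BG15
  Cfsg.Agent.Helper2.BG1412 Cfsg.Agent.Helper1.BG147
open scoped Pointwise

universe u

variable {G : Type u} [Group G] [Finite G]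

variable {M K U Ms H : Subgroup G} {r : ℕ} {Rg : Subgroup G}

/-- FACT 1: `C_H(U) ≤ U` (uses `r ∈ τ₂(M)`). -/
theorem centralizer_U_le (hG : Cfsg.IsMinSimpleOddOrder G) (s : Setup M K U Ms H r Rg)
    (hr2 : r ∈ Cfsg.tau2 M) {a : G} (haH : a ∈ H) (haU : a ∈ Subgroup.centralizer (U : Set G)) :
    a ∈ U := by
  haveI := Fact.mk s.hr
  have hsolvM : Group.IsSolvable ↥M := hG.2.2.2 M s.hM.1
  obtain ⟨B₀, hB₀M, hB₀e, hB₀card⟩ := exists_ea2_of_not_pRankLE_one hG hr2.2.2.2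
  have hrU := Cfsg.Agent.Helper4.BG15.decomp_U_primes hG s.hM s.hKU s.hr s.r_dvd
  obtain ⟨m, hm, hB₀U⟩ := exists_conj_ge_of_hall hsolvM (s.U_hall hG) hB₀M (by
    intro t ht hd
    rw [hB₀card] at hd
    rw [(Nat.prime_dvd_prime_iff_eq ht s.hr).1 (ht.dvd_of_dvd_pow hd)]
    exact ⟨s.hr, hrU.2, hrU.1⟩)
  -- `B := B₀^{m⁻¹} ≤ U`
  set B := B₀.map (MulAut.conj m⁻¹).toMonoidHom with hB
  have hBU : B ≤ U := by
    rintro _ ⟨b, hb, rfl⟩
    obtain ⟨u, hu, hub⟩ := hB₀U hb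
    simp only [MulEquiv.coe_toMonoidHom, MulAut.conj_apply] at hub ⊢
    rw [← hub]
    have : m⁻¹ * (m * u * m⁻¹) * m⁻¹⁻¹ = u := by group
    rw [this]; exact hu
  have hBe : Cfsg.IsElementaryAbelian r B := by
    have := isElementaryAbelian_conj_smul hB₀e m⁻¹
    have h2 : MulAut.conj m⁻¹ • B₀ = B := by
      ext x
      rw [mem_conj_smul, hB]
      constructor
      · intro hx
        refine ⟨_, hx, ?_⟩
        simp only [MulEquiv.coe_toMonoidHom, MulAut.conj_apply]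
        group
      · rintro ⟨b, hb, rfl⟩
        simp only [MulEquiv.coe_toMonoidHom, MulAut.conj_apply]
        have : m⁻¹⁻¹ * (m⁻¹ * b * m⁻¹⁻¹) * m⁻¹ = b := by group
        rw [this]; exact hb
    rwa [h2] at this
  have hBcard : Nat.card B = r ^ 2 := by
    rw [hB, Subgroup.card_map_of_injective (MulAut.conj m⁻¹).injective, hB₀card]
  have hBM : B ≤ M := hBU.trans s.hKU.compl.1
  obtain ⟨hCB, -⟩ := Cfsg.Agent.S1416.result hG M s.hM r B ⟨hBM, hBe, hBcard⟩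
  have haM : a ∈ M := hCB (Subgroup.centralizer_le (by exact_mod_cast hBU) haU)
  have haUK : a ∈ U ⊔ K := by
    rw [← (s.main hG).2.2.1]; exact ⟨haM, haH⟩
  obtain ⟨u, hu, k, hk, rfl⟩ := mem_sup_of_le_normalizer s.hKU.normal haUK
  by_cases hk1 : k = 1
  · rw [hk1, mul_one]; exact hu
  · exfalso
    apply s.hU1
    rw [eq_bot_iff, ← s.U_inf_centralizer hG k hk hk1]
    intro v hv
    refine ⟨hv, ?_⟩
    change v ∈ Subgroup.centralizer ({k} : Set G)
    rw [Subgroup.mem_centralizer_singleton_iff]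
    have h1 := Subgroup.mem_centralizer_iff.1 haU v hv
    have h2 := s.U_comm hG u hu v hv
    -- `v * (u k) = (u k) * v` and `u v = v u` give `v k = k v`
    have h3 : u * (v * k) = u * (k * v) := by
      calc u * (v * k) = (u * v) * k := by group
        _ = (v * u) * k := by rw [h2]
        _ = v * (u * k) := by group
        _ = (u * k) * v := h1
        _ = u * (k * v) := by group
    exact mul_left_cancel h3

/-- The local configuration: `ℓ ∈ τ₂(H)`, `A ≤ E = H ∩ M*` elementary abelian of order `ℓ²`, and a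
singular subgroup `X` of order `ℓ`. -/
structure Cfg (M K U Ms H : Subgroup G) (r : ℕ) (Rg : Subgroup G) (ℓ : ℕ) (A X : Subgroup G) :
    Prop where
  s : Setup M K U Ms H r Rg
  hr2 : r ∈ Cfsg.tau2 M
  hℓ : ℓ.Prime
  hτ : ℓ ∈ Cfsg.tau2 H
  hAE : A ≤ H ⊓ Ms
  hAe : Cfsg.IsElementaryAbelian ℓ A
  hAcard : Nat.card A = ℓ ^ 2
  hEA : H ⊓ Ms ≤ Subgroup.normalizer (A : Set G)
  hCA : Subgroup.centralizer (A : Set G) ≤ H
  hNA : ¬ Subgroup.normalizer (A : Set G) ≤ H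
  hXA : X ≤ A
  hXcard : Nat.card X = ℓ
  hXH : Subgroup.centralizer (X : Set G) ≤ H
  hXuniq : ∀ L : Subgroup G, IsCoatom L → Subgroup.centralizer (X : Set G) ≤ L → L = H

variable {ℓ : ℕ} {A X : Subgroup G}

theorem Cfg.isPGroup (c : Cfg M K U Ms H r Rg ℓ A X) : IsPGroup ℓ ↥A :=
  haveI := Fact.mk c.hℓ
  IsPGroup.of_card c.hAcard

/-- `K` centralizes `A`. -/
theorem Cfg.K_comm_A (hG : Cfsg.IsMinSimpleOddOrder G) (c : Cfg M K U Ms H r Rg ℓ A X) :
    ∀ k ∈ K, ∀ a ∈ A, k * a = a * k := by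
  apply (c.s.ctx hG).commute_of_invariant hG c.hℓ c.hτ.2.1 (c.hAE.trans inf_le_left) c.isPGroup
  exact (le_inf (c.s.K_le_H hG) c.s.K_le_Ms).trans c.hEA

/-- a generator of `X` -/
theorem Cfg.exists_gen (c : Cfg M K U Ms H r Rg ℓ A X) :
    ∃ t : G, t ∈ X ∧ t ≠ 1 ∧ orderOf t = ℓ ∧ Subgroup.zpowers t = X ∧
      Subgroup.centralizer ({t} : Set G) = Subgroup.centralizer (X : Set G) := by
  haveI := Fact.mk c.hℓ
  have hX1 : X ≠ ⊥ := by
    intro h
    have := c.hXcard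
    rw [h, Subgroup.card_bot] at this
    exact c.hℓ.one_lt.ne this
  obtain ⟨t, ht1⟩ := (Subgroup.ne_bot_iff_exists_ne_one).1 hX1
  have ht1' : (t : G) ≠ 1 := fun h => ht1 (Subtype.ext h)
  have hord : orderOf (t : G) = ℓ := by
    have h1 : orderOf (t : G) ∣ ℓ := c.hXcard ▸ Subgroup.orderOf_dvd_natCard _ t.2
    rcases (Nat.dvd_prime c.hℓ).1 h1 with h | h
    · exact absurd (orderOf_eq_one_iff.1 h) ht1'
    · exact h
  have hz : Subgroup.zpowers (t : G) = X := by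
    apply Subgroup.eq_of_le_of_card_ge (Subgroup.zpowers_le.2 t.2)
    rw [Nat.card_zpowers, hord, c.hXcard]
  obtain ⟨t₀, ht₀⟩ : ∃ t₀ : G, t₀ = (t : G) := ⟨_, rfl⟩
  have ht₀X : t₀ ∈ X := ht₀ ▸ t.2
  rw [← ht₀] at ht1' hord hz
  refine ⟨t₀, ht₀X, ht1', hord, hz, ?_⟩
  have h1 := Cfsg.Agent.Helper1.BGX.centralizer_zpowers_eq t₀
  rw [hz] at h1
  exact h1.symm

/-- `X` is bad for `M*`: `C_G(X) ≰ M*`. -/
theorem Cfg.bad (hG : Cfsg.IsMinSimpleOddOrder G) (c : Cfg M K U Ms H r Rg ℓ A X) :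
    ¬ Subgroup.centralizer (X : Set G) ≤ Ms := fun h =>
  c.s.H_ne_Ms hG (c.hXuniq Ms c.s.hMs h).symm

/-- `ℓ ∈ σ(M*)`. -/
theorem Cfg.mem_sigma (hG : Cfsg.IsMinSimpleOddOrder G) (c : Cfg M K U Ms H r Rg ℓ A X) :
    ℓ ∈ Cfsg.sigma Ms := by
  haveI := Fact.mk c.hℓ
  by_contra hσ
  obtain ⟨k, hk, hk1⟩ := c.s.exists_ne_one
  obtain ⟨t, htX, ht1, hord, hz, hcent⟩ := c.exists_gen
  have htA : t ∈ A := c.hXA htX
  have htMs : t ∈ Ms := (c.hAE.trans inf_le_right) htA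
  have hkt : k * t = t * k := c.K_comm_A hG k hk t htA
  have hq : ∀ q : ℕ, q.Prime → q ∣ orderOf t → q = ℓ := by
    intro q hq hd
    rw [hord] at hd
    exact (Nat.prime_dvd_prime_iff_eq hq c.hℓ).1 hd
  rcases Cfsg.Agent.S1432.result hG Ms c.s.hMs k (c.s.K_le_sigmaCore hk) hk1 t
    ⟨htMs, Subgroup.mem_centralizer_singleton_iff.2 hkt.symm⟩ ht1
    (fun q hq' hd => (hq q hq' hd) ▸ hσ) with ⟨hκ, -⟩ | ⟨-, -, hle, -⟩
  · -- `ℓ ∈ κ(M*)`: `X` is conjugate into `K*`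
    have hℓκ : ℓ ∈ Cfsg.kappa Ms := hκ ℓ c.hℓ (hord ▸ dvd_rfl)
    have hsolvMs : Group.IsSolvable ↥Ms := hG.2.2.2 Ms c.s.hMs.1
    have hXMs : X ≤ Ms := c.hXA.trans (c.hAE.trans inf_le_right)
    obtain ⟨m, hm, hXm⟩ := exists_conj_ge_of_hall hsolvMs c.s.hKstH hXMs (by
      intro q hq hd
      rw [c.hXcard] at hd
      rw [(Nat.prime_dvd_prime_iff_eq hq c.hℓ).1 hd]; exact hℓκ)
    set X' := X.map (MulAut.conj m⁻¹).toMonoidHom with hX'
    have hX'le : X' ≤ Cfsg.sigmaCore M ⊓ Subgroup.centralizer (K : Set G) := by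
      rintro _ ⟨x, hx, rfl⟩
      obtain ⟨y, hy, hyx⟩ := hXm hx
      simp only [MulEquiv.coe_toMonoidHom, MulAut.conj_apply] at hyx ⊢
      rw [← hyx]
      have : m⁻¹ * (m * y * m⁻¹) * m⁻¹⁻¹ = y := by group
      rw [this]; exact hy
    have hX'card : (Nat.card X').Prime := by
      rw [hX', Subgroup.card_map_of_injective (MulAut.conj m⁻¹).injective, c.hXcard]
      exact c.hℓ
    obtain ⟨hCX', -⟩ := (c.s.P hG).uniq X' hX'le hX'card
    have h1 := Cfsg.Agent.Helper2.BG148.centralizer_map_conj_le m hCX'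
    rw [hX', Cfsg.Agent.Helper1.GW.map_conj_inv_map] at h1
    have h2 := c.hXuniq _ (Cfsg.Agent.Helper2.BG144.isCoatom_map_conj c.s.hM m) h1
    exact c.s.not_conj hG m h2.symm
  · apply c.bad hG
    rw [← hcent]; exact hle

/-- `A ≤ M*_σ`. -/
theorem Cfg.A_le_sigmaCore (hG : Cfsg.IsMinSimpleOddOrder G) (c : Cfg M K U Ms H r Rg ℓ A X) :
    A ≤ Cfsg.sigmaCore Ms := by
  apply le_sigmaCore_of_isPi hG c.s.hMs (c.hAE.trans inf_le_right)
  intro t ht hd
  rw [c.hAcard] at hd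
  rw [(Nat.prime_dvd_prime_iff_eq ht c.hℓ).1 (ht.dvd_of_dvd_pow hd)]
  exact c.mem_sigma hG

/-- `M*` is of type `P₁`: `U* = 1`. -/
theorem Cfg.Us_eq_bot (hG : Cfsg.IsMinSimpleOddOrder G) (c : Cfg M K U Ms H r Rg ℓ A X)
    {Us : Subgroup G}
    (hKUs : Cfsg.IsSigmaDecomposition Ms (Cfsg.sigmaCore M ⊓ Subgroup.centralizer (K : Set G)) Us) :
    Us = ⊥ := by
  by_contra hUs
  apply c.bad hG
  obtain ⟨t, htX, ht1, hord, hz, hcent⟩ := c.exists_gen
  rw [← hcent]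
  intro g hg
  by_contra hgMs
  have h1 := Cfsg.Agent.Helper1.BG15P2.sigmaCore_inf_conj_eq_bot hG
    (Cfsg.Agent.Helper4.BG147H.hyp142 hG) c.s.hMs hKUs (c.s.P hG).kstar_ne hUs hgMs
  apply ht1
  rw [← Subgroup.mem_bot, ← h1]
  refine ⟨c.A_le_sigmaCore hG (c.hXA htX), t, (c.hAE.trans inf_le_right) (c.hXA htX), ?_⟩
  simp only [MulEquiv.coe_toMonoidHom, MulAut.conj_apply]
  have := Subgroup.mem_centralizer_singleton_iff.1 hg
  calc g * t * g⁻¹ = (g * t) * g⁻¹ := by group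
    _ = (t * g) * g⁻¹ := by rw [this]
    _ = t := by group

/-- the decomposition of `M*` -/
theorem Cfg.exists_decomp (hG : Cfsg.IsMinSimpleOddOrder G) (c : Cfg M K U Ms H r Rg ℓ A X) :
    Cfsg.IsSigmaDecomposition Ms (Cfsg.sigmaCore M ⊓ Subgroup.centralizer (K : Set G)) ⊥ := by
  obtain ⟨-, hcyc⟩ := Cfsg.Agent.S1351.result hG Ms c.s.hMs
  obtain ⟨⟨Us, hKUs⟩, -⟩ := Cfsg.Agent.S1352.result hG Ms c.s.hMs _ (hcyc _ c.s.hKstH) c.s.hKstH
  have := c.Us_eq_bot hG hKUs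
  rwa [this] at hKUs

/-- Some (hence every) Sylow `ℓ`-subgroup of `G` is abelian. -/
theorem Cfg.sylow_comm (hG : Cfsg.IsMinSimpleOddOrder G) (c : Cfg M K U Ms H r Rg ℓ A X) :
    haveI := Fact.mk c.hℓ
    ∃ S : Sylow ℓ G, IsMulCommutative (S : Subgroup G) := by
  haveI := Fact.mk c.hℓ
  by_contra hcon
  push Not at hcon
  have hE := (c.s.main hG).2.2.2.2.2
  obtain ⟨-, ⟨hcardA0, -⟩, -⟩ := Cfsg.Agent.S1419.result hG H c.s.hH _ hE ℓ c.hτ hcon A
    ⟨c.hAE, c.hAe, c.hAcard⟩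
  have hne : A ⊓ Subgroup.centralizer (Cfsg.sigmaCore H : Set G) ≠ ⊥ := by
    intro h
    rw [h, Subgroup.card_bot] at hcardA0
    exact c.hℓ.one_lt.ne hcardA0
  obtain ⟨a, ha1⟩ := (Subgroup.ne_bot_iff_exists_ne_one).1 hne
  have haA : (a : G) ∈ A := a.2.1
  have haC : (a : G) ∈ Subgroup.centralizer (Cfsg.sigmaCore H : Set G) := a.2.2
  have hUσ : U ≤ Cfsg.sigmaCore H := (c.s.main hG).2.1
  have haU : (a : G) ∈ U := centralizer_U_le hG c.s c.hr2 ((c.hAE.trans inf_le_left) haA)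
    (Subgroup.centralizer_le (by exact_mod_cast hUσ) haC)
  apply ha1
  apply Subtype.ext
  change (a : G) = 1
  rw [← Subgroup.mem_bot, ← hE.2.2.1]
  exact ⟨c.hAE haA, hUσ haU⟩

/-- all `ℓ`-subgroups of `G` are abelian -/
theorem Cfg.hab (hG : Cfsg.IsMinSimpleOddOrder G) (c : Cfg M K U Ms H r Rg ℓ A X) :
    ∀ P : Subgroup G, IsPGroup ℓ ↥P → ∀ a ∈ P, ∀ b ∈ P, a * b = b * a := by
  haveI := Fact.mk c.hℓ
  intro P hP
  exact commute_of_isPGroup_of_sylow (c.sylow_comm hG) hP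

/-- `K* ` is a complement of `M*_σ` in `M*`. -/
theorem Cfg.compl_Ms (hG : Cfsg.IsMinSimpleOddOrder G) (c : Cfg M K U Ms H r Rg ℓ A X) :
    Cfsg.IsComplIn (Cfsg.sigmaCore M ⊓ Subgroup.centralizer (K : Set G)) (Cfsg.sigmaCore Ms) Ms :=
  isComplIn_of_U_eq_bot (c.exists_decomp hG) rfl

/-- The case `M*_σ` nilpotent is impossible. -/
theorem Cfg.false_of_nilpotent (hG : Cfsg.IsMinSimpleOddOrder G)
    (c : Cfg M K U Ms H r Rg ℓ A X) (hnil : Group.IsNilpotent ↥(Cfsg.sigmaCore Ms)) : False := by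
  haveI := Fact.mk c.hℓ
  have hE := (c.s.main hG).2.2.2.2.2
  have h1 : Cfsg.sigmaCore Ms ≤ Subgroup.centralizer (A : Set G) :=
    le_centralizer_of_nilpotent (c.hab hG) hnil (c.A_le_sigmaCore hG) c.isPGroup
  have h2 : Cfsg.sigmaCore Ms ≤ H := h1.trans c.hCA
  have h2E : Cfsg.sigmaCore Ms ≤ H ⊓ Ms := le_inf h2 Cfsg.Agent.Lead.BG12.sigmaCore_le
  have h3 : IsMulCommutative ↥(Cfsg.sigmaCore Ms) := by
    apply isMulCommutative_of_nilpotent_of_not_mem_sigma hG c.s.hH h2 hnil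
    intro q hq hd
    exact not_mem_sigma_of_dvd_card_compl hG c.s.hH hE hq (hd.trans (Subgroup.card_dvd_of_le h2E))
  obtain ⟨h26, -, -⟩ := Cfsg.Agent.S1426.result hG Ms c.s.hMs _ (c.compl_Ms hG)
  have hcomm : ⁅Cfsg.sigmaCore Ms, Cfsg.sigmaCore Ms⁆ = ⊥ := by
    rw [Subgroup.commutator_eq_bot_iff_le_centralizer]
    intro x hx
    rw [Subgroup.mem_centralizer_iff]
    intro y hy
    have := h3.is_comm.comm ⟨y, hy⟩ ⟨x, hx⟩
    exact congrArg Subtype.val this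
  rw [hcomm, ← c.s.hKst] at h26
  exact c.s.hK1 (le_bot_iff.1 h26)

/-- The case `M*_σ` not nilpotent is impossible. -/
theorem Cfg.false_of_not_nilpotent (hG : Cfsg.IsMinSimpleOddOrder G)
    (c : Cfg M K U Ms H r Rg ℓ A X) (hne : Cfsg.fittingHallOf Ms ≠ Cfsg.sigmaCore Ms) : False := by
  classical
  haveI := Fact.mk c.hℓ
  have hpprime := c.s.card_prime hG
  haveI hpF := Fact.mk hpprime
  have hdec := c.exists_decomp hG
  have hKeq : Cfsg.sigmaCore Ms ⊓ Subgroup.centralizer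
      ((Cfsg.sigmaCore M ⊓ Subgroup.centralizer (K : Set G) : Subgroup G) : Set G) = K :=
    c.s.hKst.symm
  obtain ⟨-, -, hKsprime, -, -, hβ, Q, hQF, hMsQ, hQp, hQrel, hD⟩ :=
    thm1437x hG c.s.hMs hdec hne
  rw [hKeq] at hβ hQp hQrel hD
  set Ks := Cfsg.sigmaCore M ⊓ Subgroup.centralizer (K : Set G) with hKs
  set S := Cfsg.sigmaCore Ms with hS
  set p := Nat.card K with hp
  have hSMs : S ≤ Ms := Cfsg.Agent.Lead.BG12.sigmaCore_le
  have hQS : Q ≤ S := hQF.trans (fittingHallOf_le_sigmaCore hG c.s.hMs)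
  have hSNQ : S ≤ Subgroup.normalizer (Q : Set G) := hSMs.trans hMsQ
  have hKS : K ≤ S := c.s.K_le_sigmaCore
  have hAS : A ≤ S := c.A_le_sigmaCore hG
  have hAMs : A ≤ Ms := c.hAE.trans inf_le_right
  obtain ⟨n, hn⟩ := hQp.exists_card_eq
  have hmul : Q.relIndex S * Nat.card Q = Nat.card S := relIndex_mul_card_of_le hQS
  have hcopQ : (Nat.card Q).Coprime (Q.relIndex S) := by
    rw [hn]
    exact Nat.Coprime.pow_left _ ((Nat.Prime.coprime_iff_not_dvd hpprime).2 hQrel)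
  have hpQ : p ∣ Nat.card Q := by
    have h1 : p ∣ Q.relIndex S * Nat.card Q := by
      rw [hmul]; exact Subgroup.card_dvd_of_le hKS
    rcases (Nat.Prime.dvd_mul hpprime).1 h1 with h | h
    · exact absurd h hQrel
    · exact h
  have hKQ : K ≤ Q := le_of_normal_hall_rel hQS hSNQ hKS hcopQ hpQ
  -- `|Q|` is the full `p`-part of `|M*|`
  have hpσ : p ∈ Cfsg.sigma Ms := c.s.p_mem_sigma hG
  have hQcard : Nat.card Q = p ^ (Nat.card Ms).factorization p := by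
    have h1 : ¬ p ∣ S.relIndex Ms :=
      (Cfsg.Agent.Lead.BG12.sigmaCore_hall hG Ms c.s.hMs).1.2.2 p hpprime hpσ
    have h2 : S.relIndex Ms * Nat.card S = Nat.card Ms := relIndex_mul_card_of_le hSMs
    have h3 : Nat.card Ms = (S.relIndex Ms * Q.relIndex S) * p ^ n := by
      rw [← h2, ← hmul, hn]; ring
    have hpos1 : S.relIndex Ms * Q.relIndex S ≠ 0 := by
      intro h0
      rw [h0, zero_mul] at h3
      exact Nat.card_pos.ne' h3
    have h4 : ¬ p ∣ S.relIndex Ms * Q.relIndex S := by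
      intro h
      rcases (Nat.Prime.dvd_mul hpprime).1 h with h | h
      · exact h1 h
      · exact hQrel h
    rw [hn, h3, Nat.factorization_mul hpos1 (pow_ne_zero _ hpprime.pos.ne'), Finsupp.add_apply,
      Nat.factorization_eq_zero_of_not_dvd h4, Nat.Prime.factorization_pow hpprime, zero_add]
    simp
  have finish : Q ≤ H → False := fun hQH =>
    false_of_sylow_le hG c.s.hH (c.s.p_not_mem hG) hβ.1 (hQS.trans hSMs) hQcard hQH
  have hAp := c.isPGroup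
  by_cases hℓp : ℓ = p
  · -- `A ≤ Q`, `Q` abelian
    have hAQ : A ≤ Q := by
      apply le_of_normal_hall_rel hQS hSNQ hAS hcopQ
      have h1 : Nat.card A ∣ Q.relIndex S * Nat.card Q := by
        rw [hmul]; exact Subgroup.card_dvd_of_le hAS
      have h2 : (Nat.card A).Coprime (Q.relIndex S) := by
        rw [c.hAcard, hℓp]
        exact Nat.Coprime.pow_left _ ((Nat.Prime.coprime_iff_not_dvd hpprime).2 hQrel)
      exact h2.dvd_of_dvd_mul_left h1
    apply finish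
    refine le_trans ?_ c.hCA
    intro x hx
    rw [Subgroup.mem_centralizer_iff]
    intro a ha
    exact c.hab hG Q (hℓp ▸ hQp) a (hAQ ha) x hx
  · -- `ℓ ≠ p`
    have hsolvS : Group.IsSolvable ↥S :=
      isSolvable_of_le hSMs (hG.2.2.2 Ms c.s.hMs.1)
    have hd : Cfsg.Agent.Helper3.PiDecomp {t | t ≠ p} (Nat.card S) (Q.relIndex S)
        (Nat.card Q) := by
      refine ⟨hmul.symm, ?_, ?_⟩
      · intro t ht hd (h : t = p)
        exact hQrel (h ▸ hd)
      · intro t ht hd h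
        rw [hn] at hd
        exact h ((Nat.prime_dvd_prime_iff_eq ht hpprime).1 (ht.dvd_of_dvd_pow hd))
    obtain ⟨-, hex⟩ := Cfsg.Agent.Helper3.hall_internal S hsolvS hd
    have hcopA : (Nat.card A).Coprime (Nat.card Q) := by
      rw [c.hAcard, hn]
      exact Nat.Coprime.pow _ _ ((Nat.coprime_primes c.hℓ hpprime).2 hℓp)
    obtain ⟨D₁, hD₁S, hD₁card, hAD₁⟩ := hex A hAS hcopA
    have hD₁NQ : D₁ ≤ Subgroup.normalizer (Q : Set G) := hD₁S.trans hSNQ
    have hQD₁ : Q ⊓ D₁ = ⊥ := inf_eq_bot_of_coprime_card (by rw [hD₁card]; exact hcopQ)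
    have hsup : Q ⊔ D₁ = S := by
      apply Subgroup.eq_of_le_of_card_ge (sup_le hQS hD₁S)
      rw [card_sup_of_le_normalizer hD₁NQ (by rw [inf_comm]; exact hQD₁), hD₁card, hmul]
    have hcompl : Cfsg.IsComplIn Q D₁ S := by
      refine ⟨hQS, hD₁S, hQD₁, ?_⟩
      intro x hx
      rw [← hsup] at hx
      exact mem_sup_of_le_normalizer hD₁NQ hx
    obtain ⟨hD₁nil, hMsQ₀, -, -, hpc, hdisj, hirr⟩ := hD D₁ hcompl
    have hD₁CA : D₁ ≤ Subgroup.centralizer (A : Set G) :=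
      le_centralizer_of_nilpotent (c.hab hG) hD₁nil hAD₁ hAp
    set W := Q ⊓ Subgroup.centralizer (A : Set G) with hW
    set Q₀ := Q ⊓ Subgroup.centralizer (D₁ : Set G) with hQ₀
    have hQ₀W : Q₀ ≤ W :=
      inf_le_inf_left _ (Subgroup.centralizer_le (by exact_mod_cast hAD₁))
    have hKCA : K ≤ Subgroup.centralizer (A : Set G) := by
      intro k hk
      rw [Subgroup.mem_centralizer_iff]
      intro a ha
      exact (c.K_comm_A hG k hk a ha).symm
    have hKW : K ≤ W := le_inf hKQ hKCA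
    -- `M* ≤ N(W)`
    have hQNW : Q ≤ Subgroup.normalizer (W : Set G) := by
      have key : ∀ q ∈ Q, ∀ w ∈ W, q * w * q⁻¹ ∈ W := by
        intro q hq w hw
        have h1 : q * w * q⁻¹ * w⁻¹ ∈ Q₀ := (hpc q hq w hw.1).2
        have h2 : q * w * q⁻¹ = (q * w * q⁻¹ * w⁻¹) * w := by group
        rw [h2]
        exact W.mul_mem (hQ₀W h1) hw
      intro q hq
      apply Cfsg.Agent.Helper2.BG1412.mem_normalizer_of_conj_mem
      · exact key q hq
      · intro w hw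
        have := key q⁻¹ (Q.inv_mem hq) w hw
        rwa [inv_inv] at this
    have hD₁NW : D₁ ≤ Subgroup.normalizer (W : Set G) :=
      Cfsg.Agent.Helper4.BG15.le_normalizer_inf hD₁NQ (hD₁CA.trans Subgroup.le_normalizer)
    obtain ⟨-, -, h1420, -⟩ := Cfsg.Agent.S1420.result hG Ms c.s.hMs _ (c.compl_Ms hG)
    have hNAMs : Subgroup.normalizer (A : Set G) ≤ Ms :=
      h1420 ℓ A (c.mem_sigma hG) hAp hAMs (not_isCyclic_of_ea2 c.hAe.2 c.hAcard)
    have hNANW : Subgroup.normalizer (A : Set G) ≤ Subgroup.normalizer (W : Set G) :=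
      Cfsg.Agent.Helper4.BG15.le_normalizer_inf (hNAMs.trans hMsQ)
        (Cfsg.Agent.Helper4.BG15.normalizer_le_normalizer_centralizer A)
    have hAQbot : A ⊓ Q = ⊥ := inf_eq_bot_of_coprime_card hcopA
    have hMsW : Ms ≤ Subgroup.normalizer (W : Set G) := by
      set X₀ := Subgroup.normalizer (W : Set G) ⊓ Ms with hX₀
      have hSX₀ : S ≤ X₀ := by
        refine le_inf ?_ hSMs
        rw [← hsup]; exact sup_le hQNW hD₁NW
      have hX₀Ms : X₀ ≤ Ms := inf_le_right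
      have hrel : S.relIndex Ms = Nat.card Ks := by
        have := decomp_relIndex_sigmaCore hdec
        rwa [Subgroup.card_bot, one_mul] at this
      have hmulrel : S.relIndex X₀ * X₀.relIndex Ms = S.relIndex Ms :=
        Subgroup.relIndex_mul_relIndex S X₀ Ms hSX₀ hX₀Ms
      have hdvd : S.relIndex X₀ ∣ Nat.card Ks := by
        rw [← hrel, ← hmulrel]; exact dvd_mul_right _ _
      rcases (Nat.dvd_prime hKsprime).1 hdvd with h1 | h1
      · -- `X₀ ≤ S`: impossible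
        exfalso
        have hX₀S : X₀ ≤ S := Subgroup.relIndex_eq_one.1 h1
        apply c.hNA
        intro y hy
        have hyS : y ∈ S := hX₀S ⟨hNANW hy, hNAMs hy⟩
        rw [← hsup] at hyS
        obtain ⟨u, hu, d, hd', rfl⟩ := mem_sup_of_le_normalizer hD₁NQ hyS
        have hdC : d ∈ Subgroup.centralizer (A : Set G) := hD₁CA hd'
        have huN : u ∈ Subgroup.normalizer (A : Set G) := by
          have h2 : u = (u * d) * d⁻¹ := by group
          rw [h2]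
          exact Subgroup.mul_mem _ hy
            (Subgroup.inv_mem _ (Subgroup.centralizer_le_normalizer _ hdC))
        have huC : u ∈ Subgroup.centralizer (A : Set G) := by
          rw [Subgroup.mem_centralizer_iff]
          intro a ha
          have h3 : u * a * u⁻¹ ∈ A := (Subgroup.mem_normalizer_iff.1 huN a).1 ha
          have h4 : u * a * u⁻¹ * a⁻¹ ∈ A ⊓ Q := by
            refine ⟨A.mul_mem h3 (A.inv_mem ha), ?_⟩
            have h5 : a * u⁻¹ * a⁻¹ ∈ Q :=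
              (Subgroup.mem_normalizer_iff.1 (hMsQ (hAMs ha)) u⁻¹).1 (Q.inv_mem hu)
            have h6 : u * a * u⁻¹ * a⁻¹ = u * (a * u⁻¹ * a⁻¹) := by group
            rw [h6]; exact Q.mul_mem hu h5
          rw [hAQbot, Subgroup.mem_bot] at h4
          calc a * u = (u * a * u⁻¹ * a⁻¹)⁻¹ * (u * a) := by group
            _ = u * a := by rw [h4, inv_one, one_mul]
        exact c.hCA (Subgroup.mul_mem _ huC hdC)
      · have h2 : X₀.relIndex Ms = 1 := by
          have h3 : Nat.card Ks * X₀.relIndex Ms = Nat.card Ks * 1 := by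
            rw [mul_one, ← h1, hmulrel, hrel, h1]
          exact Nat.eq_of_mul_eq_mul_left hKsprime.pos h3
        exact (Subgroup.relIndex_eq_one.1 h2).trans inf_le_left
    by_cases h1 : W = Q₀
    · apply c.s.hK1
      rw [eq_bot_iff, ← hdisj]
      exact le_inf le_rfl (h1 ▸ hKW)
    · by_cases h2 : W = Q
      · apply finish
        rw [← h2]
        exact inf_le_right.trans c.hCA
      · exact hirr W (lt_of_le_of_ne hQ₀W (Ne.symm h1)) (lt_of_le_of_ne inf_le_left h2) hMsW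

/-- **Regularity (toward BG Theorem 15.8).**  In the situation of BG Lemma 14.12 with `r ∈ τ₂(M)`,
the maximal subgroup `H ⊇ N_G(R)` has `τ₂(H) = ∅`. -/
theorem tau2_eq_empty (hG : Cfsg.IsMinSimpleOddOrder G) (s : Setup M K U Ms H r Rg)
    (hr2 : r ∈ Cfsg.tau2 M) : Cfsg.tau2 H = ∅ := by
  classical
  by_contra hne
  obtain ⟨ℓ, hℓτ⟩ := Set.nonempty_iff_ne_empty.2 hne
  haveI hℓ : Fact ℓ.Prime := ⟨hℓτ.1⟩
  obtain ⟨-, hUσ, -, -, -, hE⟩ := s.main hG
  obtain ⟨A, hAE, hAe, hAcard⟩ := exists_ea2_le_compl hG s.hH hE hℓτ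
  have hAH : A ≤ H := hAE.trans inf_le_left
  obtain ⟨⟨hEA, -⟩, ⟨hCAle, -, hNAH⟩, hsing⟩ :=
    Cfsg.Agent.S1418.result hG H s.hH _ hE ℓ hℓτ A ⟨hAE, hAe, hAcard⟩
  have hHσ1 : Cfsg.sigmaCore H ≠ ⊥ := by
    intro h
    apply s.hU1
    rw [eq_bot_iff, ← h]; exact hUσ
  have hcopA : (Nat.card A).Coprime (Nat.card (Cfsg.sigmaCore H)) := by
    rw [hAcard]
    apply Nat.Coprime.pow_left
    rw [Nat.Prime.coprime_iff_not_dvd hℓ.out]
    intro hd
    exact hℓτ.2.1 (Cfsg.Agent.Lead.BG12.mem_sigma_of_dvd_card_sigmaCore hℓ.out hd)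
  obtain ⟨X, hXA, hXcard, hXfix⟩ := exists_singular hAe hAcard
    (hAH.trans (Cfsg.Agent.Lead.BG12.le_normalizer_sigmaCore H)) hcopA hHσ1
  obtain ⟨hXH, hXuniq⟩ := hsing X hXA hXcard hXfix
  have c : Cfg M K U Ms H r Rg ℓ A X :=
    ⟨s, hr2, hℓ.out, hℓτ, hAE, hAe, hAcard, hEA, hCAle.trans inf_le_left, hNAH, hXA, hXcard, hXH,
      hXuniq⟩
  by_cases hnil : Cfsg.fittingHallOf Ms = Cfsg.sigmaCore Ms
  · exact c.false_of_nilpotent hG (isNilpotent_sigmaCore_of_eq hnil)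
  · exact c.false_of_not_nilpotent hG hnil

end Cfsg.Agent.Helper4.BG158
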