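import Mathlib
import Cfsg.Prelude.Def_Characters
import Cfsg.Prelude.Def_Blocks
import Cfsg.Agent.Helper6.KleinFourC

/-!
# Values of the principal 2-block characters of a group with Klein four Sylow 2-subgroups
-/

set_option autoImplicit false
set_option linter.style.haveILetI false

namespace Cfsg.Agent.Helper4.BSQ8

open Cfsg.Agent.Helper6
open scoped ComplexConjugate

universe u

variable {X : Type u} [Group X] {M : Ideal Cfsg.AlgInt}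

/-- the principal block for Klein four Sylow subgroups and one class of involutions, with the
values at all elements of even order -/
theorem klein_block_values [Finite X] (hM : Cfsg.IsPModular 2 M) (P : Sylow 2 X)
    (hP : IsKleinFour (P : Subgroup X))
    (hone : ∀ s t : X, orderOf s = 2 → orderOf t = 2 → IsConj s t) :
    ∃ ζ₂ ζ₃ ζ₄ : Cfsg.IrrCharacter X, ∃ ε : ℤ, (ε = 1 ∨ ε = -1) ∧
      (ζ₂ : X → ℂ) ≠ (fun _ => 1) ∧ (ζ₃ : X → ℂ) ≠ (fun _ => 1) ∧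
      (ζ₄ : X → ℂ) ≠ (fun _ => 1) ∧ ζ₂ ≠ ζ₃ ∧ ζ₂ ≠ ζ₄ ∧ ζ₃ ≠ ζ₄ ∧
      Cfsg.principalBlock M X = {χ : Cfsg.IrrCharacter X |
        (χ : X → ℂ) = (fun _ => 1) ∨ χ = ζ₂ ∨ χ = ζ₃ ∨ χ = ζ₄} ∧
      (∀ g : X, Even (orderOf g) → (ζ₂ : X → ℂ) g = 1 ∧ (ζ₃ : X → ℂ) g = (ε : ℂ) ∧
        (ζ₄ : X → ℂ) g = -1) ∧
      ∀ y : X, Odd (orderOf y) →
        1 + (ζ₂ : X → ℂ) y + (ε : ℂ) * (ζ₃ : X → ℂ) y - (ζ₄ : X → ℂ) y = 0 := by
  classical
  haveI : Fact (Nat.Prime 2) := ⟨Nat.prime_two⟩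
  obtain ⟨ζ₂, ζ₃, ζ₄, ε, hε, h2, h3, h23, h24, h34, hB, hval, -, -, -, hodd⟩ :=
    klein_principal_block hM P hP hone
  have hmem : ∀ ζ : Cfsg.IrrCharacter X, (ζ = ζ₂ ∨ ζ = ζ₃ ∨ ζ = ζ₄) →
      ζ ∈ Cfsg.principalBlock M X := by
    intro ζ h
    rw [hB]
    exact Or.inr h
  obtain ⟨z₀, -, hz₀⟩ := exists_involution_of_klein _ hP
  have h4 : (ζ₄ : X → ℂ) ≠ (fun _ => 1) := by
    intro h
    have := (hval z₀ hz₀).2.2
    rw [h] at this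
    norm_num at this
  refine ⟨ζ₂, ζ₃, ζ₄, ε, hε, h2, h3, h4, h23, h24, h34, hB, ?_, hodd⟩
  intro g hg
  obtain ⟨x, y, hxy, hcomm, hxord, hyord⟩ := exists_isPPart 2 g
  have hx1 : x ≠ 1 := by
    rintro rfl
    rw [one_mul] at hxy
    rw [hxy] at hyord
    exact hyord (even_iff_two_dvd.mp hg)
  have hx2 := orderOf_eq_two_of_klein P hP x hxord hx1
  have hC := exists_index_pPrimeCore_of_klein P hP x hx2
  have hyC : y ∈ Subgroup.centralizer ({x} : Set X) := by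
    rw [Subgroup.mem_centralizer_singleton_iff]
    exact hcomm.eq.symm
  have hconst : ∀ ζ : Cfsg.IrrCharacter X, ζ ∈ Cfsg.principalBlock M X →
      (ζ : X → ℂ) g = (ζ : X → ℂ) x := by
    intro ζ hζ
    rw [← hxy]
    exact principal_section_const hM x ⟨1, by rw [hx2, pow_one]⟩ hC.1 ζ hζ ⟨y, hyC⟩
      (by rwa [Subgroup.orderOf_mk])
  obtain ⟨v2, v3, v4⟩ := hval x hx2
  refine ⟨?_, ?_, ?_⟩
  · rw [hconst ζ₂ (hmem ζ₂ (Or.inl rfl)), v2]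
  · rw [hconst ζ₃ (hmem ζ₃ (Or.inr (Or.inl rfl))), v3]
  · rw [hconst ζ₄ (hmem ζ₄ (Or.inr (Or.inr rfl))), v4]

end Cfsg.Agent.Helper4.BSQ8
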