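import Mathlib
import Cfsg.Agent.Helper4.BSQ8Main
import Cfsg.Agent.Helper4.BSQ8KleinVals

/-!
# The central quotient of a group with quaternion Sylow 2-subgroups of order 8
-/

set_option autoImplicit false
set_option linter.style.haveILetI false

namespace Cfsg.Agent.Helper4.BSQ8

open Cfsg.Agent.Helper2 Cfsg.Agent.Helper6
open scoped Pointwise

universe u

variable {G : Type u} [Group G] [Finite G]

/-- by Brauer-Suzuki the involution of the Sylow subgroup is central -/
theorem invol_mem_center (S : Sylow 2 G) (e : (S : Subgroup G) ≃* QuaternionGroup 2)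
    (hO : ∀ N : Subgroup G, N.Normal → Odd (Nat.card N) → N = ⊥) (x : G)
    (huniq : ∀ t ∈ (S : Subgroup G), orderOf t = 2 → t = x) : x ∈ Subgroup.center G := by
  haveI : Fact (Nat.Prime 2) := ⟨Nat.prime_two⟩
  have hc := brauer_suzuki_q8 (Nat.card G) G rfl S e hO
  obtain ⟨c, hc2⟩ := exists_prime_orderOf_dvd_card' (G := Subgroup.center G) 2 (by rw [hc])
  have hc' : orderOf (c : G) = 2 := by rw [Subgroup.orderOf_coe]; exact hc2
  obtain ⟨g, hg⟩ := BSuzC.invol_conj S x huniq (c : G) hc'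
  have hcc := Subgroup.mem_center_iff.mp c.2
  have hx : x = (c : G) := by
    have h1 : x = g⁻¹ * (c : G) * g := by rw [hg]; group
    rw [h1, mul_assoc, ← hcc g, ← mul_assoc, inv_mul_cancel, one_mul]
  rw [hx]
  exact c.2

/-- every involution equals the central one -/
theorem invol_eq_of_central (S : Sylow 2 G) (x : G)
    (huniq : ∀ t ∈ (S : Subgroup G), orderOf t = 2 → t = x) (hxc : x ∈ Subgroup.center G)
    (t : G) (ht : orderOf t = 2) : t = x := by
  obtain ⟨g, hg⟩ := BSuzC.invol_conj S x huniq t ht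
  have hcc := Subgroup.mem_center_iff.mp hxc
  rw [hg, hcc g, mul_assoc, mul_inv_cancel, mul_one]

theorem zpowers_invol_normal (x : G) (hxc : x ∈ Subgroup.center G) :
    (Subgroup.zpowers x).Normal := by
  refine ⟨fun y hy g => ?_⟩
  obtain ⟨i, rfl⟩ := Subgroup.mem_zpowers_iff.mp hy
  have h1 : x ^ i ∈ Subgroup.center G := Subgroup.zpow_mem _ hxc i
  have h2 : g * x ^ i * g⁻¹ = x ^ i := by
    rw [(Subgroup.mem_center_iff.mp h1) g]; group
  rw [h2]; exact Subgroup.zpow_mem_zpowers _ _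

theorem mem_zpowers_invol (x : G) (hx2 : orderOf x = 2) (z : G) :
    z ∈ Subgroup.zpowers x ↔ z = 1 ∨ z = x := by
  have hxx : x ^ (2 : ℤ) = 1 := by
    have h := pow_orderOf_eq_one x
    rw [hx2] at h
    exact_mod_cast h
  constructor
  · intro hz
    obtain ⟨i, rfl⟩ := Subgroup.mem_zpowers_iff.mp hz
    rcases Int.emod_two_eq_zero_or_one i with h | h
    · left
      have : i = 2 * (i / 2) := by omega
      rw [this, zpow_mul, hxx, one_zpow]
    · right
      have : i = 2 * (i / 2) + 1 := by omega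
      rw [this, zpow_add, zpow_mul, hxx, one_zpow, one_mul, zpow_one]
  · rintro (rfl | rfl)
    · exact Subgroup.one_mem _
    · exact Subgroup.mem_zpowers _

/-- squares of elements of the Sylow subgroup lie in the centre -/
theorem sq_mem_zpowers (S : Sylow 2 G) (e : (S : Subgroup G) ≃* QuaternionGroup 2) (x : G)
    (hx2 : orderOf x = 2) (huniq : ∀ t ∈ (S : Subgroup G), orderOf t = 2 → t = x) (s : G)
    (hs : s ∈ (S : Subgroup G)) : s ^ 2 ∈ Subgroup.zpowers x := by
  rw [mem_zpowers_invol x hx2]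
  by_cases h1 : s ^ 2 = 1
  · left; exact h1
  · right
    apply huniq _ (Subgroup.pow_mem _ hs 2)
    have h4 := sylow_pow_four S e s hs
    have h2 : (s ^ 2) ^ 2 = 1 := by rw [← pow_mul]; exact h4
    exact orderOf_eq_prime h2 h1


/-- the Sylow 2-subgroups of the central quotient are Klein four groups -/
theorem quot_klein (S : Sylow 2 G) (e : (S : Subgroup G) ≃* QuaternionGroup 2) (x : G)
    (hx2 : orderOf x = 2) (huniq : ∀ t ∈ (S : Subgroup G), orderOf t = 2 → t = x)
    (Z : Subgroup G) [hZn : Z.Normal] (hZ : Z = Subgroup.zpowers x) (P : Sylow 2 (G ⧸ Z))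
    (hP : (P : Subgroup (G ⧸ Z)) = (S : Subgroup G).map (QuotientGroup.mk' Z)) :
    IsKleinFour (P : Subgroup (G ⧸ Z)) := by
  haveI : Fact (Nat.Prime 2) := ⟨Nat.prime_two⟩
  have hcardS : Nat.card (S : Subgroup G) = 8 := by
    rw [Nat.card_congr e.toEquiv, Nat.card_eq_fintype_card, QuaternionGroup.card]
  have hfacG : (Nat.card G).factorization 2 = 3 := by
    have h1 := Sylow.card_eq_multiplicity S
    rw [hcardS] at h1
    have h8 : (8 : ℕ) = 2 ^ 3 := by norm_num
    rw [h8] at h1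
    exact (Nat.pow_right_injective (le_refl 2) h1).symm
  have hcardZ : Nat.card Z = 2 := by rw [hZ, Nat.card_zpowers, hx2]
  have hmul : Nat.card G = Nat.card (G ⧸ Z) * Nat.card Z :=
    Subgroup.card_eq_card_quotient_mul_card_subgroup Z
  have hfacQ : (Nat.card (G ⧸ Z)).factorization 2 = 2 := by
    have h0 : Nat.card (G ⧸ Z) ≠ 0 := Nat.card_pos.ne'
    have h1 := congrArg (fun n : ℕ => n.factorization 2) hmul
    beta_reduce at h1
    rw [hcardZ, Nat.factorization_mul h0 (by norm_num), Finsupp.add_apply, hfacG,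
      Nat.Prime.factorization_self Nat.prime_two] at h1
    omega
  have hcardP : Nat.card (P : Subgroup (G ⧸ Z)) = 4 := by
    rw [Sylow.card_eq_multiplicity P, hfacQ]
    norm_num
  have hsq : ∀ q : (P : Subgroup (G ⧸ Z)), q ^ 2 = 1 := by
    intro q
    have hq : (q : G ⧸ Z) ∈ (S : Subgroup G).map (QuotientGroup.mk' Z) := by
      rw [← hP]; exact q.2
    obtain ⟨s, hs, hsq⟩ := hq
    apply Subtype.ext
    rw [Subgroup.coe_pow, Subgroup.coe_one, ← hsq]
    have h1 := sq_mem_zpowers S e x hx2 huniq s hs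
    rw [← hZ] at h1
    have h2 : ((QuotientGroup.mk' Z) s) ^ 2 = (QuotientGroup.mk' Z) (s ^ 2) := (map_pow _ s 2).symm
    rw [h2]
    exact (QuotientGroup.eq_one_iff _).mpr h1
  refine ⟨hcardP, ?_⟩
  have hdvd : Monoid.exponent (P : Subgroup (G ⧸ Z)) ∣ 2 :=
    Monoid.exponent_dvd_of_forall_pow_eq_one hsq
  rcases (Nat.dvd_prime Nat.prime_two).mp hdvd with h | h
  · exfalso
    rw [Monoid.exp_eq_one_iff] at h
    have : Nat.card (P : Subgroup (G ⧸ Z)) = 1 := Nat.card_eq_one_iff_unique.mpr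
      ⟨h, ⟨1⟩⟩
    omega
  · exact h

/-- the central quotient has one class of involutions -/
theorem quot_one_class (S : Sylow 2 G) (e : (S : Subgroup G) ≃* QuaternionGroup 2) (x : G)
    (hx2 : orderOf x = 2) (huniq : ∀ t ∈ (S : Subgroup G), orderOf t = 2 → t = x) (a : G)
    (hconj4 : ∀ s ∈ (S : Subgroup G), orderOf s = 4 → IsConj a s)
    (Z : Subgroup G) [hZn : Z.Normal] (hZ : Z = Subgroup.zpowers x) (P : Sylow 2 (G ⧸ Z))
    (hP : (P : Subgroup (G ⧸ Z)) = (S : Subgroup G).map (QuotientGroup.mk' Z)) :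
    ∀ s t : G ⧸ Z, orderOf s = 2 → orderOf t = 2 → IsConj s t := by
  haveI : Fact (Nat.Prime 2) := ⟨Nat.prime_two⟩
  have key : ∀ s : G ⧸ Z, orderOf s = 2 → IsConj ((QuotientGroup.mk' Z) a) s := by
    intro s hs
    have hp : IsPGroup 2 (Subgroup.zpowers s) := by
      apply IsPGroup.of_card (n := 1)
      rw [Nat.card_zpowers, hs, pow_one]
    obtain ⟨Q, hQ⟩ := hp.exists_le_sylow
    obtain ⟨g, hg⟩ := MulAction.exists_smul_eq (G ⧸ Z) P Q
    have hQP : (Q : Subgroup (G ⧸ Z)) = MulAut.conj g • (P : Subgroup (G ⧸ Z)) := by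
      rw [← hg]; exact Sylow.coe_subgroup_smul
    have h1 : s ∈ MulAut.conj g • (P : Subgroup (G ⧸ Z)) := by
      rw [← hQP]; exact hQ (Subgroup.mem_zpowers s)
    rw [BSuzC.mem_conj_smul_iff, hP] at h1
    obtain ⟨p, hpS, hpe⟩ := h1
    have hs1 : s ≠ 1 := by
      intro h; rw [h, orderOf_one] at hs; omega
    have hpZ : p ∉ Z := by
      intro h
      have h2 : (QuotientGroup.mk' Z) p = 1 := (QuotientGroup.eq_one_iff p).mpr h
      rw [hpe] at h2
      apply hs1
      have h3 : s = g * (g⁻¹ * s * g) * g⁻¹ := by group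
      rw [h3, h2]; group
    have hp1 : p ≠ 1 := fun h => hpZ (by rw [h]; exact Subgroup.one_mem _)
    have hpx : p ≠ x := fun h => hpZ (by rw [h, hZ]; exact Subgroup.mem_zpowers x)
    have hp4 := orderOf_eq_four S e x huniq p hpS hp1 hpx
    have hc := hconj4 p hpS hp4
    have hc' : IsConj ((QuotientGroup.mk' Z) a) ((QuotientGroup.mk' Z) p) :=
      MonoidHom.map_isConj (QuotientGroup.mk' Z) hc
    rw [hpe] at hc'
    refine hc'.trans ?_
    exact isConj_iff.mpr ⟨g, by group⟩
  intro s t hs ht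
  exact (key s hs).symm.trans (key t ht)

/-- the section sum at an element whose image in the central quotient has even order -/
theorem section_sq_of_even {M : Ideal Cfsg.AlgInt} (hM : Cfsg.IsPModular 2 M) (S : Sylow 2 G)
    (e : (S : Subgroup G) ≃* QuaternionGroup 2) (x : G)
    (huniq : ∀ t ∈ (S : Subgroup G), orderOf t = 2 → t = x) (hxc : x ∈ Subgroup.center G)
    (Z : Subgroup G) [hZn : Z.Normal] (hZ : Z = Subgroup.zpowers x) (g : G)
    (hg : Even (orderOf ((QuotientGroup.mk' Z) g))) :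
    ∑ᶠ ζ ∈ Cfsg.principalBlock M G, ‖(ζ : G → ℂ) g‖ ^ 2 = 4 := by
  haveI : Fact (Nat.Prime 2) := ⟨Nat.prime_two⟩
  obtain ⟨z, y, hzy, hcomm, ⟨k, hk⟩, hy⟩ := exists_isPPart 2 g
  have hodd_img : ∀ w : G, ¬ 2 ∣ orderOf w → ¬ Even (orderOf ((QuotientGroup.mk' Z) w)) := by
    intro w hw hev
    apply hw
    exact dvd_trans (even_iff_two_dvd.mp hev) (orderOf_map_dvd _ w)
  have hp : IsPGroup 2 (Subgroup.zpowers z) := by
    apply IsPGroup.of_card (n := k)
    rw [Nat.card_zpowers, hk]
  obtain ⟨P', hP'⟩ := hp.exists_le_sylow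
  obtain ⟨e'⟩ := sylow_equiv S P' e
  have hzP' : z ∈ (P' : Subgroup G) := hP' (Subgroup.mem_zpowers z)
  have huniq' : ∀ t ∈ (P' : Subgroup G), orderOf t = 2 → t = x :=
    fun t _ ht => invol_eq_of_central S x huniq hxc t ht
  have hz1 : z ≠ 1 := by
    rintro rfl
    rw [one_mul] at hzy
    rw [hzy] at hy
    exact hodd_img g hy hg
  have hzx : z ≠ x := by
    rintro rfl
    have h1 : (QuotientGroup.mk' Z) g = (QuotientGroup.mk' Z) y := by
      rw [← hzy, map_mul]
      have : (QuotientGroup.mk' Z) z = 1 :=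
        (QuotientGroup.eq_one_iff z).mpr (by rw [hZ]; exact Subgroup.mem_zpowers z)
      rw [this, one_mul]
    rw [h1] at hg
    exact hodd_img y hy hg
  have hz4 := orderOf_eq_four P' e' x huniq' z hzP' hz1 hzx
  obtain ⟨hidx, hfac⟩ := index_pPrimeCore_centralizer P' e' z hz4
  have hyC : y ∈ Subgroup.centralizer ({z} : Set G) := by
    rw [Subgroup.mem_centralizer_singleton_iff]
    exact hcomm.eq.symm
  have hsq := (principal_section_sq hM z ⟨2, by rw [hz4]; norm_num⟩
    (⟨y, hyC⟩ : Subgroup.centralizer ({z} : Set G)) (by rwa [Subgroup.orderOf_mk])).2 hidx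
  rw [hfac] at hsq
  simp only at hsq
  rw [hzy] at hsq
  rw [hsq]
  norm_num

end Cfsg.Agent.Helper4.BSQ8
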