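import Mathlib
import Cfsg.Agent.Helper4.BSQ8Quot
import Cfsg.Agent.S0941
import Cfsg.Agent.Helper6.CentralDefectA
import Cfsg.Agent.Helper6.Inflation
import Cfsg.Agent.Helper6.ClassInner

/-!
# The principal 2-block of a group with quaternion Sylow 2-subgroups of order 8 has seven members
(S0951)
-/

set_option autoImplicit false
set_option linter.style.haveILetI false

namespace Cfsg.Agent.Helper4.BSQ8

open Cfsg.Agent.Helper2 Cfsg.Agent.Helper6
open scoped ComplexConjugate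

universe u

variable {G : Type u} [Group G] {M : Ideal Cfsg.AlgInt}

/-- inflation of irreducible characters from a quotient -/
noncomputable def infl (Z : Subgroup G) [Z.Normal] (χ : Cfsg.IrrCharacter (G ⧸ Z)) :
    Cfsg.IrrCharacter G :=
  ⟨(χ : G ⧸ Z → ℂ) ∘ QuotientGroup.mk, isIrrCharacter_inflate Z χ⟩

theorem infl_apply (Z : Subgroup G) [Z.Normal] (χ : Cfsg.IrrCharacter (G ⧸ Z)) (g : G) :
    (infl Z χ : G → ℂ) g = (χ : G ⧸ Z → ℂ) (QuotientGroup.mk' Z g) := rfl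

theorem infl_injective (Z : Subgroup G) [Z.Normal] : Function.Injective (infl Z) := by
  intro χ ψ h
  apply Subtype.ext
  funext q
  induction q using QuotientGroup.induction_on with
  | H g =>
    have := congrArg (fun ζ : Cfsg.IrrCharacter G => (ζ : G → ℂ) g) h
    exact this

theorem infl_ne_one (Z : Subgroup G) [Z.Normal] (χ : Cfsg.IrrCharacter (G ⧸ Z))
    (h : (χ : G ⧸ Z → ℂ) ≠ (fun _ => 1)) : (infl Z χ : G → ℂ) ≠ (fun _ => 1) := by
  intro h1
  apply h
  funext q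
  induction q using QuotientGroup.induction_on with
  | H g =>
    exact congrFun h1 g

/-- inflation from the quotient by a central subgroup of order two respects principal blocks -/
theorem infl_mem_principalBlock [Finite G] (hM : Cfsg.IsPModular 2 M) (x : G)
    (hx2 : orderOf x = 2) (hxc : x ∈ Subgroup.center G) (Z : Subgroup G) [hZn : Z.Normal]
    (hZ : Z = Subgroup.zpowers x) (χ : Cfsg.IrrCharacter (G ⧸ Z)) :
    infl Z χ ∈ Cfsg.principalBlock M G ↔ χ ∈ Cfsg.principalBlock M (G ⧸ Z) := by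
  haveI : Fact (Nat.Prime 2) := ⟨Nat.prime_two⟩
  have hZp : IsPGroup 2 Z := by
    apply IsPGroup.of_card (n := 1)
    rw [hZ, Nat.card_zpowers, hx2, pow_one]
  have hZC : ∃ k : ℕ, (Subgroup.centralizer (Z : Set G)).index = 2 ^ k := by
    refine ⟨0, ?_⟩
    have : Subgroup.centralizer (Z : Set G) = ⊤ := by
      rw [eq_top_iff]
      intro g _
      rw [Subgroup.mem_centralizer_iff]
      intro z hz
      have hz' : z ∈ Subgroup.zpowers x := by rw [← hZ]; exact hz
      have hzc : z ∈ Subgroup.center G := by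
        obtain ⟨i, rfl⟩ := Subgroup.mem_zpowers_iff.mp hz'
        exact Subgroup.zpow_mem _ hxc i
      exact ((Subgroup.mem_center_iff.mp hzc) g).symm
    rw [this, Subgroup.index_top, pow_zero]
  have h := (Cfsg.Agent.S0941.result 2 M hM Z hZp hZC).1
    (⟨fun _ => 1, isIrrCharacter_one⟩ : Cfsg.IrrCharacter (G ⧸ Z)) χ
  exact h.symm


/-- **S0951** -/
theorem principal_block_seven [Finite G] (hM : Cfsg.IsPModular 2 M) (S : Sylow 2 G)
    (e : (S : Subgroup G) ≃* QuaternionGroup 2)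
    (hO : ∀ N : Subgroup G, N.Normal → Odd (Nat.card N) → N = ⊥)
    (hG : (S : Subgroup G) ≠ ⊤) : Nat.card (Cfsg.principalBlock M G) = 7 := by
  classical
  haveI : Fact (Nat.Prime 2) := ⟨Nat.prime_two⟩
  haveI := Fintype.ofFinite G
  haveI : Finite (Cfsg.IrrCharacter G) := irr_finite
  haveI : Fintype (Cfsg.IrrCharacter G) := Fintype.ofFinite _
  haveI : NeZero 2 := ⟨by norm_num⟩
  have hMm := hM.2.1
  obtain ⟨x, hxS, hx2, huniq⟩ := BSuzD.exists_unique_invol S 2 e
  have hxc := invol_mem_center S e hO x huniq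
  have hxx : x * x = 1 := by
    have := pow_orderOf_eq_one x
    rwa [hx2, pow_two] at this
  -- no normal complement
  have hnc : ∀ N : Subgroup G, N.Normal → ¬ Subgroup.IsComplement' N (S : Subgroup G) := by
    intro N hNn hNc
    have hNodd : Odd (Nat.card N) := by
      have h1 : (S : Subgroup G).index = Nat.card N := hNc.index_eq_card
      rw [← h1, ← Nat.not_even_iff_odd, even_iff_two_dvd]
      exact S.not_dvd_index
    have hNbot := hO N hNn hNodd
    rw [hNbot] at hNc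
    exact hG (Subgroup.isComplement'_bot_left.mp hNc)
  obtain ⟨a, haS, ha4⟩ : ∃ a ∈ (S : Subgroup G), orderOf a = 4 := by
    refine ⟨(e.symm (QuaternionGroup.a 1) : (S : Subgroup G)), (e.symm _).2, ?_⟩
    rw [Subgroup.orderOf_coe, MulEquiv.orderOf_eq, QuaternionGroup.orderOf_a_one]
  have hconj4 : ∀ s ∈ (S : Subgroup G), orderOf s = 4 → IsConj a s :=
    fun s hs h4 => isConj_of_order_four S e hnc a s haS hs ha4 h4
  obtain ⟨Z, hZ⟩ : ∃ Z : Subgroup G, Z = Subgroup.zpowers x := ⟨_, rfl⟩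
  haveI hZn : Z.Normal := by rw [hZ]; exact zpowers_invol_normal x hxc
  obtain ⟨P, hPdef⟩ : ∃ P : Sylow 2 (G ⧸ Z),
      P = S.mapSurjective (QuotientGroup.mk'_surjective Z) := ⟨_, rfl⟩
  have hP : (P : Subgroup (G ⧸ Z)) = (S : Subgroup G).map (QuotientGroup.mk' Z) := by
    rw [hPdef]; exact Sylow.coe_mapSurjective _ _
  have hK := quot_klein S e x hx2 huniq Z hZ P hP
  have hone := quot_one_class S e x hx2 huniq a hconj4 Z hZ P hP
  obtain ⟨ζ₂, ζ₃, ζ₄, ε, hε, h2, h3, h4, h23, h24, h34, hB, heven, hodd⟩ :=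
    klein_block_values hM P hK hone
  -- the four characters with `x` in the kernel
  obtain ⟨triv, htriv⟩ : ∃ t : Cfsg.IrrCharacter G, t = ⟨fun _ => 1, isIrrCharacter_one⟩ :=
    ⟨_, rfl⟩
  have htrivf : (triv : G → ℂ) = fun _ => 1 := by rw [htriv]
  have hBG : Cfsg.IsPBlock M (Cfsg.principalBlock M G) := ⟨triv, by rw [htrivf]; rfl⟩
  have htrivB : triv ∈ Cfsg.principalBlock M G := by
    have := mem_blockOf_self hMm triv
    rw [htrivf] at this
    exact this
  obtain ⟨I₂, hI₂⟩ : ∃ I : Cfsg.IrrCharacter G, I = infl Z ζ₂ := ⟨_, rfl⟩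
  obtain ⟨I₃, hI₃⟩ : ∃ I : Cfsg.IrrCharacter G, I = infl Z ζ₃ := ⟨_, rfl⟩
  obtain ⟨I₄, hI₄⟩ : ∃ I : Cfsg.IrrCharacter G, I = infl Z ζ₄ := ⟨_, rfl⟩
  have hmemQ : ∀ ζ : Cfsg.IrrCharacter (G ⧸ Z), (ζ = ζ₂ ∨ ζ = ζ₃ ∨ ζ = ζ₄) →
      ζ ∈ Cfsg.principalBlock M (G ⧸ Z) := by
    intro ζ h
    rw [hB]
    exact Or.inr h
  have hI₂B : I₂ ∈ Cfsg.principalBlock M G := by
    rw [hI₂]
    exact (infl_mem_principalBlock hM x hx2 hxc Z hZ ζ₂).mpr (hmemQ ζ₂ (Or.inl rfl))
  have hI₃B : I₃ ∈ Cfsg.principalBlock M G := by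
    rw [hI₃]
    exact (infl_mem_principalBlock hM x hx2 hxc Z hZ ζ₃).mpr (hmemQ ζ₃ (Or.inr (Or.inl rfl)))
  have hI₄B : I₄ ∈ Cfsg.principalBlock M G := by
    rw [hI₄]
    exact (infl_mem_principalBlock hM x hx2 hxc Z hZ ζ₄).mpr (hmemQ ζ₄ (Or.inr (Or.inr rfl)))
  have hne_triv : ∀ ζ : Cfsg.IrrCharacter (G ⧸ Z), (ζ : G ⧸ Z → ℂ) ≠ (fun _ => 1) →
      infl Z ζ ≠ triv := by
    intro ζ hζ h
    apply infl_ne_one Z ζ hζ
    rw [h, htrivf]
  have d12 : triv ≠ I₂ := by rw [hI₂]; exact (hne_triv ζ₂ h2).symm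
  have d13 : triv ≠ I₃ := by rw [hI₃]; exact (hne_triv ζ₃ h3).symm
  have d14 : triv ≠ I₄ := by rw [hI₄]; exact (hne_triv ζ₄ h4).symm
  have d23 : I₂ ≠ I₃ := by rw [hI₂, hI₃]; exact fun h => h23 (infl_injective Z h)
  have d24 : I₂ ≠ I₄ := by rw [hI₂, hI₄]; exact fun h => h24 (infl_injective Z h)
  have d34 : I₃ ≠ I₄ := by rw [hI₃, hI₄]; exact fun h => h34 (infl_injective Z h)
  -- characters of the principal block with `x` in the kernel
  have hdefl : ∀ ζ ∈ Cfsg.principalBlock M G, (ζ : G → ℂ) x = (ζ : G → ℂ) 1 →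
      ζ = triv ∨ ζ = I₂ ∨ ζ = I₃ ∨ ζ = I₄ := by
    intro ζ hζ hζx
    have hker : ∀ n ∈ Z, (ζ : G → ℂ) n = (ζ : G → ℂ) 1 := by
      intro n hn
      rw [hZ, mem_zpowers_invol x hx2] at hn
      rcases hn with rfl | rfl
      · rfl
      · exact hζx
    obtain ⟨ζ', hζ'⟩ := exists_deflate Z ζ hker
    have hζi : ζ = infl Z ζ' := Subtype.ext hζ'
    have hζ'B : ζ' ∈ Cfsg.principalBlock M (G ⧸ Z) := by
      rw [hζi] at hζ
      exact (infl_mem_principalBlock hM x hx2 hxc Z hZ ζ').mp hζ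
    rw [hB] at hζ'B
    rcases hζ'B with h | h | h | h
    · left
      apply Subtype.ext
      rw [htrivf, hζ', h]
      rfl
    · right; left; rw [hζi, h, hI₂]
    · right; right; left; rw [hζi, h, hI₃]
    · right; right; right; rw [hζi, h, hI₄]
  -- the action of the central involution
  have hω : ∀ ζ : Cfsg.IrrCharacter G, ∃ ω : ℂ, (ω = 1 ∨ ω = -1) ∧
      ∀ g : G, (ζ : G → ℂ) (x * g) = ω * (ζ : G → ℂ) g := by
    intro ζ
    obtain ⟨ω, -, hmul⟩ := irr_center_mul ζ x hxc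
    refine ⟨ω, ?_, hmul⟩
    have h1 := hmul (x * 1)
    rw [hmul 1, ← mul_assoc, hxx, one_mul] at h1
    have hζ1 : (ζ : G → ℂ) 1 ≠ 0 := IsIrrCharacter.apply_one_ne_zero ζ.2
    have h5 : (ω - 1) * (ω + 1) = 0 := by
      have h6 : ((ω - 1) * (ω + 1)) * (ζ : G → ℂ) 1 = 0 := by
        linear_combination -h1
      exact (mul_eq_zero.mp h6).resolve_right hζ1
    rcases mul_eq_zero.mp h5 with h | h
    · left; linear_combination h
    · right; linear_combination h
  choose ω hω1 hωmul using hω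
  have hω_one : ∀ ζ : Cfsg.IrrCharacter G, ω ζ = 1 ↔ (ζ : G → ℂ) x = (ζ : G → ℂ) 1 := by
    intro ζ
    have hζ1 : (ζ : G → ℂ) 1 ≠ 0 := IsIrrCharacter.apply_one_ne_zero ζ.2
    have h1 := hωmul ζ 1
    rw [mul_one] at h1
    constructor
    · intro h; rw [h1, h, one_mul]
    · intro h
      rw [h] at h1
      have : (1 : ℂ) * (ζ : G → ℂ) 1 = ω ζ * (ζ : G → ℂ) 1 := by rw [one_mul]; exact h1
      exact (mul_right_cancel₀ hζ1 this).symm
  have hωconj : ∀ ζ : Cfsg.IrrCharacter G, conj (ω ζ) = ω ζ := by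
    intro ζ
    rcases hω1 ζ with h | h <;> rw [h] <;> simp
  have hωsq : ∀ ζ : Cfsg.IrrCharacter G, ω ζ * ω ζ = 1 := by
    intro ζ
    rcases hω1 ζ with h | h <;> rw [h] <;> norm_num
  have hinfl_x : ∀ ζ : Cfsg.IrrCharacter (G ⧸ Z), (infl Z ζ : G → ℂ) x = (infl Z ζ : G → ℂ) 1 := by
    intro ζ
    rw [infl_apply, infl_apply]
    have : (QuotientGroup.mk' Z) x = (QuotientGroup.mk' Z) 1 := by
      rw [map_one]
      exact (QuotientGroup.eq_one_iff x).mpr (by rw [hZ]; exact Subgroup.mem_zpowers x)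
    rw [this]
  -- the finset of the principal block
  obtain ⟨SB, hSB⟩ : ∃ SB : Finset (Cfsg.IrrCharacter G),
      SB = Finset.univ.filter (fun ζ => ζ ∈ Cfsg.principalBlock M G) := ⟨_, rfl⟩
  have hmemS : ∀ ζ, ζ ∈ SB ↔ ζ ∈ Cfsg.principalBlock M G := by
    intro ζ
    rw [hSB, Finset.mem_filter]
    exact ⟨fun h => h.2, fun h => ⟨Finset.mem_univ _, h⟩⟩
  have hfinC : ∀ f : Cfsg.IrrCharacter G → ℂ,
      ∑ᶠ ζ ∈ Cfsg.principalBlock M G, f ζ = ∑ ζ ∈ SB, f ζ := by
    intro f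
    rw [hSB, Finset.sum_filter, finsum_mem_def, finsum_eq_sum_of_fintype]
    apply Finset.sum_congr rfl
    intro i _
    rw [Set.indicator_apply]
  have hfinR : ∀ f : Cfsg.IrrCharacter G → ℝ,
      ∑ᶠ ζ ∈ Cfsg.principalBlock M G, f ζ = ∑ ζ ∈ SB, f ζ := by
    intro f
    rw [hSB, Finset.sum_filter, finsum_mem_def, finsum_eq_sum_of_fintype]
    apply Finset.sum_congr rfl
    intro i _
    rw [Set.indicator_apply]
  obtain ⟨Fo, hFo⟩ : ∃ Fo : Finset (Cfsg.IrrCharacter G), Fo = {triv, I₂, I₃, I₄} := ⟨_, rfl⟩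
  have hFoS : Fo ⊆ SB := by
    intro ζ hζ
    rw [hFo] at hζ
    simp only [Finset.mem_insert, Finset.mem_singleton] at hζ
    rw [hmemS]
    rcases hζ with rfl | rfl | rfl | rfl
    · exact htrivB
    · exact hI₂B
    · exact hI₃B
    · exact hI₄B
  have hFocard : Fo.card = 4 := by
    rw [hFo, Finset.card_insert_of_notMem (by simp [d12, d13, d14]),
      Finset.card_insert_of_notMem (by simp [d23, d24]),
      Finset.card_insert_of_notMem (by simp [d34]), Finset.card_singleton]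
  have hFosum : ∀ f : Cfsg.IrrCharacter G → ℂ, ∑ ζ ∈ Fo, f ζ = f triv + f I₂ + f I₃ + f I₄ := by
    intro f
    rw [hFo, Finset.sum_insert (by simp [d12, d13, d14]), Finset.sum_insert (by simp [d23, d24]),
      Finset.sum_insert (by simp [d34]), Finset.sum_singleton]
    ring
  have hFoω : ∀ ζ ∈ Fo, ω ζ = 1 := by
    intro ζ hζ
    rw [hFo] at hζ
    simp only [Finset.mem_insert, Finset.mem_singleton] at hζ
    rw [hω_one]
    rcases hζ with rfl | rfl | rfl | rfl
    · rw [htrivf]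
    · rw [hI₂]; exact hinfl_x ζ₂
    · rw [hI₃]; exact hinfl_x ζ₃
    · rw [hI₄]; exact hinfl_x ζ₄
  have hrestω : ∀ ζ ∈ SB \ Fo, ω ζ = -1 := by
    intro ζ hζ
    rw [Finset.mem_sdiff] at hζ
    rcases hω1 ζ with h | h
    · exfalso
      apply hζ.2
      have := hdefl ζ ((hmemS ζ).mp hζ.1) ((hω_one ζ).mp h)
      rw [hFo]
      simp only [Finset.mem_insert, Finset.mem_singleton]
      exact this
    · exact h
  -- the weighted sum
  obtain ⟨Ψ, hΨ⟩ : ∃ Ψ : G → ℂ, ∀ g, Ψ g =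
      ∑ ζ ∈ SB, ω ζ * ((ζ : G → ℂ) g * conj ((ζ : G → ℂ) g)) := ⟨_, fun _ => rfl⟩
  have hΨx : ∀ g : G, Ψ (x * g) = Ψ g := by
    intro g
    rw [hΨ, hΨ]
    apply Finset.sum_congr rfl
    intro ζ _
    rw [hωmul ζ g, map_mul, hωconj ζ]
    have := hωsq ζ
    linear_combination (ω ζ * ((ζ : G → ℂ) g * conj ((ζ : G → ℂ) g))) * this
  have hΨreg : ∀ g : G, ¬ 2 ∣ orderOf g → Ψ g = 0 := by
    intro g hg
    have hsing : 2 ∣ orderOf (x * g) := by
      have hcomm : Commute x g := ((Subgroup.mem_center_iff.mp hxc) g).symm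
      have hcop : Nat.Coprime (orderOf x) (orderOf g) := by
        rw [hx2]
        exact (Nat.Prime.coprime_iff_not_dvd Nat.prime_two).mpr hg
      rw [hcomm.orderOf_mul_eq_mul_orderOf_of_coprime hcop, hx2]
      exact Dvd.intro _ rfl
    have h := weak_block_orthogonality hMm 2 hM.2.2 (Cfsg.principalBlock M G) hBG g (x * g)
      hg hsing
    rw [hfinC] at h
    rw [hΨ, ← h]
    apply Finset.sum_congr rfl
    intro ζ _
    rw [hωmul ζ g, map_mul, hωconj ζ]
    ring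
  have hΨodd : ∀ g : G, Odd (orderOf ((QuotientGroup.mk' Z) g)) → Ψ g = 0 := by
    intro g hg
    obtain ⟨m, hm⟩ : ∃ m, orderOf ((QuotientGroup.mk' Z) g) = m := ⟨_, rfl⟩
    rw [hm] at hg
    have hgm : g ^ m ∈ Z := by
      rw [← QuotientGroup.eq_one_iff]
      have h1 : ((QuotientGroup.mk' Z) g) ^ m = 1 := by rw [← hm]; exact pow_orderOf_eq_one _
      rw [← map_pow] at h1
      exact h1
    rw [hZ, mem_zpowers_invol x hx2] at hgm
    have hm2 : ¬ 2 ∣ m := by
      rw [← even_iff_two_dvd, Nat.not_even_iff_odd]; exact hg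
    rcases hgm with h | h
    · apply hΨreg
      intro h2
      exact hm2 (dvd_trans h2 (orderOf_dvd_of_pow_eq_one h))
    · rw [← hΨx g]
      apply hΨreg
      intro h2
      apply hm2
      apply dvd_trans h2
      apply orderOf_dvd_of_pow_eq_one
      have hcomm : Commute x g := ((Subgroup.mem_center_iff.mp hxc) g).symm
      rw [hcomm.mul_pow, h]
      obtain ⟨j, hj⟩ := hg
      rw [hj, pow_succ, pow_mul, pow_two, hxx, one_pow, one_mul, hxx]
  have hΨeven : ∀ g : G, Even (orderOf ((QuotientGroup.mk' Z) g)) → Ψ g = 4 := by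
    intro g hg
    have hF := section_sq_of_even hM S e x huniq hxc Z hZ g hg
    rw [hfinR] at hF
    obtain ⟨v2, v3, v4⟩ := heven _ hg
    have hn1 : ∀ ζ ∈ Fo, ‖(ζ : G → ℂ) g‖ ^ 2 = 1 := by
      intro ζ hζ
      rw [hFo] at hζ
      simp only [Finset.mem_insert, Finset.mem_singleton] at hζ
      rcases hζ with rfl | rfl | rfl | rfl
      · rw [htrivf]; simp
      · rw [hI₂, infl_apply, v2]; simp
      · rw [hI₃, infl_apply, v3]
        rcases hε with h | h <;> rw [h] <;> simp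
      · rw [hI₄, infl_apply, v4]; simp
    have hsplit := Finset.sum_sdiff (f := fun ζ : Cfsg.IrrCharacter G => ‖(ζ : G → ℂ) g‖ ^ 2) hFoS
    rw [hF, Finset.sum_congr rfl hn1, Finset.sum_const, hFocard] at hsplit
    have hrest0 : ∑ ζ ∈ SB \ Fo, ‖(ζ : G → ℂ) g‖ ^ 2 = 0 := by
      simp only [nsmul_eq_mul, Nat.cast_ofNat, mul_one] at hsplit
      linarith
    have hvan : ∀ ζ ∈ SB \ Fo, (ζ : G → ℂ) g = 0 := by
      intro ζ hζ
      have := (Finset.sum_eq_zero_iff_of_nonneg (fun i _ => by positivity)).mp hrest0 ζ hζ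
      simpa using this
    rw [hΨ, ← Finset.sum_sdiff hFoS]
    have e1 : ∑ ζ ∈ SB \ Fo, ω ζ * ((ζ : G → ℂ) g * conj ((ζ : G → ℂ) g)) = 0 := by
      apply Finset.sum_eq_zero
      intro ζ hζ
      rw [hvan ζ hζ]; simp
    have e2 : ∑ ζ ∈ Fo, ω ζ * ((ζ : G → ℂ) g * conj ((ζ : G → ℂ) g)) = 4 := by
      have : ∀ ζ ∈ Fo, ω ζ * ((ζ : G → ℂ) g * conj ((ζ : G → ℂ) g)) = 1 := by
        intro ζ hζ
        rw [hFoω ζ hζ, one_mul, Complex.mul_conj, Complex.normSq_eq_norm_sq]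
        have := hn1 ζ hζ
        exact_mod_cast this
      rw [Finset.sum_congr rfl this, Finset.sum_const, hFocard]
      norm_num
    rw [e1, e2, zero_add]
  -- comparison with the inflated characters
  have hΨval : ∀ g : G, Ψ g = 1 + (I₂ : G → ℂ) g + (ε : ℂ) * (I₃ : G → ℂ) g - (I₄ : G → ℂ) g := by
    intro g
    rcases Nat.even_or_odd (orderOf ((QuotientGroup.mk' Z) g)) with hg | hg
    · rw [hΨeven g hg]
      obtain ⟨v2, v3, v4⟩ := heven _ hg
      rw [hI₂, hI₃, hI₄, infl_apply, infl_apply, infl_apply, v2, v3, v4]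
      rcases hε with h | h <;> rw [h] <;> norm_num
    · rw [hΨodd g hg]
      have := hodd _ hg
      rw [hI₂, hI₃, hI₄, infl_apply, infl_apply, infl_apply]
      exact this.symm
  -- summing over the group
  have hG0 : (Nat.card G : ℂ) ≠ 0 := by
    have : 0 < Nat.card G := Nat.card_pos
    exact_mod_cast this.ne'
  have hrow : ∀ ζ : Cfsg.IrrCharacter G,
      ∑ g : G, (ζ : G → ℂ) g * conj ((ζ : G → ℂ) g) = (Nat.card G : ℂ) := by
    intro ζ
    have h1 := classInner_irr_self ζ.2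
    unfold Cfsg.classInner at h1
    have := congrArg (fun t => (Nat.card G : ℂ) * t) h1
    beta_reduce at this
    rwa [← mul_assoc, mul_inv_cancel₀ hG0, one_mul, mul_one] at this
  have hzero : ∀ ζ : Cfsg.IrrCharacter G, ζ ≠ triv → ∑ g : G, (ζ : G → ℂ) g = 0 := by
    intro ζ hζ
    have hne : (ζ : G → ℂ) ≠ (triv : G → ℂ) := fun h => hζ (Subtype.ext h)
    have h1 := classInner_irr_ne ζ.2 triv.2 hne
    unfold Cfsg.classInner at h1
    rw [htrivf] at h1
    simp only [map_one, mul_one] at h1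
    exact (mul_eq_zero.mp h1).resolve_left (inv_ne_zero hG0)
  have hsum1 : ∑ g : G, Ψ g = (Nat.card G : ℂ) * ∑ ζ ∈ SB, ω ζ := by
    simp_rw [hΨ]
    rw [Finset.sum_comm, Finset.mul_sum]
    apply Finset.sum_congr rfl
    intro ζ _
    rw [← Finset.mul_sum, hrow ζ]
    ring
  have hsum2 : ∑ g : G, Ψ g = (Nat.card G : ℂ) := by
    simp_rw [hΨval]
    rw [Finset.sum_sub_distrib, Finset.sum_add_distrib, Finset.sum_add_distrib,
      ← Finset.mul_sum, hzero I₂ d12.symm, hzero I₃ d13.symm, hzero I₄ d14.symm,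
      Finset.sum_const, Finset.card_univ, ← Nat.card_eq_fintype_card]
    simp
  have hsumω : ∑ ζ ∈ SB, ω ζ = 1 := by
    have h1 : (Nat.card G : ℂ) * ∑ ζ ∈ SB, ω ζ = (Nat.card G : ℂ) * 1 := by
      rw [← hsum1, hsum2, mul_one]
    exact mul_left_cancel₀ hG0 h1
  rw [← Finset.sum_sdiff hFoS, Finset.sum_congr rfl hrestω, Finset.sum_congr rfl hFoω,
    Finset.sum_const, Finset.sum_const, hFocard, Finset.card_sdiff_of_subset hFoS, hFocard] at hsumω
  have hle : 4 ≤ SB.card := by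
    rw [← hFocard]; exact Finset.card_le_card hFoS
  have hcard7 : SB.card = 7 := by
    have h1 : (((SB.card - 4 : ℕ) : ℂ)) = 3 := by
      simp only [nsmul_eq_mul, mul_neg, mul_one, Nat.cast_ofNat] at hsumω
      linear_combination -hsumω
    have h2 : SB.card - 4 = 3 := by exact_mod_cast h1
    omega
  rw [Nat.card_eq_fintype_card, Fintype.card_subtype, ← hcard7, hSB]

end Cfsg.Agent.Helper4.BSQ8
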