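import Mathlib
import Cfsg.Prelude.Def_Characters
import Cfsg.Agent.Helper6.CycTIB

/-!
# BF2, step 1: a non-trivial linear character of a group of odd prime order
-/

set_option autoImplicit false
set_option linter.style.haveILetI false

namespace Cfsg.Agent.Helper4.Bf2

open scoped ComplexConjugate

universe u

/-- a group of prime order is commutative -/
theorem h4_comm_of_prime_card {R : Type u} [Group R] {p : ℕ} (hp : p.Prime)
    (hR : Nat.card R = p) (a b : R) : a * b = b * a := by
  haveI : Fact p.Prime := ⟨hp⟩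
  haveI : IsCyclic R := isCyclic_of_prime_card hR
  letI : CommGroup R := IsCyclic.commGroup
  exact mul_comm a b

/-- in a group of prime order `p`, `a ^ p = 1` -/
theorem h4_pow_card {R : Type u} [Group R] [Finite R] {p : ℕ} (hR : Nat.card R = p) (a : R) :
    a ^ p = 1 := by
  rw [← hR]
  exact pow_card_eq_one'

/-- a non-trivial homomorphism to `ℂˣ` exists on a group of prime order -/
theorem h4_exists_hom_ne_one {R : Type u} [Group R] [Finite R] {p : ℕ} (hp : p.Prime)
    (hR : Nat.card R = p) : ∃ lam : R →* ℂˣ, lam ≠ 1 := by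
  have hcard : Nat.card (R →* ℂˣ) = p := by
    rw [Cfsg.Agent.Helper6.card_hom_units_of_comm (h4_comm_of_prime_card hp hR), hR]
  by_contra hcon
  push_neg at hcon
  have hsub : Subsingleton (R →* ℂˣ) := ⟨fun a b => by rw [hcon a, hcon b]⟩
  have hfin : Finite (R →* ℂˣ) := Nat.finite_of_card_ne_zero (by rw [hcard]; exact hp.ne_zero)
  have h1 : Nat.card (R →* ℂˣ) ≤ 1 := Finite.card_le_one_iff_subsingleton.mpr hsub
  rw [hcard] at h1
  exact absurd hp.one_lt (by omega)

/-- the sum of the values of a non-trivial homomorphism to `ℂˣ` vanishes -/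
theorem h4_sum_hom_eq_zero {R : Type u} [Group R] [Fintype R] (lam : R →* ℂˣ) (h : lam ≠ 1) :
    ∑ a : R, ((lam a : ℂˣ) : ℂ) = 0 := by
  classical
  have hne : (Units.coeHom ℂ).comp lam ≠ 1 := by
    intro hcon
    apply h
    ext a
    have := DFunLike.congr_fun hcon a
    simpa using this
  have := sum_hom_units_eq_zero ((Units.coeHom ℂ).comp lam) hne
  simpa using this

/-- the square of a non-trivial homomorphism on a group of odd prime order is non-trivial -/
theorem h4_sq_ne_one {R : Type u} [Group R] [Finite R] {p : ℕ} (hp : p.Prime) (hp2 : p ≠ 2)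
    (hR : Nat.card R = p) (lam : R →* ℂˣ) (h : lam ≠ 1) : lam ^ 2 ≠ 1 := by
  intro hcon
  apply h
  ext a
  have h2 : lam a ^ 2 = 1 := by
    have := DFunLike.congr_fun hcon a
    simpa using this
  have hpp : lam a ^ p = 1 := by
    rw [← map_pow, h4_pow_card hR a, map_one]
  have hodd : Odd p := hp.odd_of_ne_two hp2
  obtain ⟨k, hk⟩ := hodd
  have h3 : lam a = 1 := by
    have : lam a ^ p = lam a := by
      rw [hk, pow_succ, pow_mul, h2, one_pow, one_mul]
    rw [← this, hpp]
  rw [h3]
  simp

/-- the sum of the squares of the values of a non-trivial homomorphism vanishes (odd prime order) -/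
theorem h4_sum_hom_sq_eq_zero {R : Type u} [Group R] [Fintype R] {p : ℕ} (hp : p.Prime)
    (hp2 : p ≠ 2) (hR : Nat.card R = p) (lam : R →* ℂˣ) (h : lam ≠ 1) :
    ∑ a : R, ((lam a : ℂˣ) : ℂ) ^ 2 = 0 := by
  have := h4_sum_hom_eq_zero (lam ^ 2) (h4_sq_ne_one hp hp2 hR lam h)
  simpa using this

/-- the values of a homomorphism from a finite group to `ℂˣ` have norm one -/
theorem h4_norm_hom {R : Type u} [Group R] [Finite R] (lam : R →* ℂˣ) (a : R) :
    ‖((lam a : ℂˣ) : ℂ)‖ = 1 := by
  have h1 : ((lam a : ℂˣ) : ℂ) ^ Nat.card R = 1 := by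
    rw [← Units.val_pow_eq_pow_val, ← map_pow, pow_card_eq_one', map_one, Units.val_one]
  exact Complex.norm_eq_one_of_pow_eq_one h1 Nat.card_pos.ne'

/-- the value at an inverse is the conjugate -/
theorem h4_hom_inv {R : Type u} [Group R] [Finite R] (lam : R →* ℂˣ) (a : R) :
    ((lam a⁻¹ : ℂˣ) : ℂ) = conj ((lam a : ℂˣ) : ℂ) := by
  rw [map_inv, Units.val_inv_eq_inv_val]
  exact Complex.inv_eq_conj (h4_norm_hom lam a)

/-- `z * conj z = 1` for the values -/
theorem h4_hom_mul_conj {R : Type u} [Group R] [Finite R] (lam : R →* ℂˣ) (a : R) :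
    ((lam a : ℂˣ) : ℂ) * conj ((lam a : ℂˣ) : ℂ) = 1 := by
  rw [Complex.mul_conj, Complex.normSq_eq_norm_sq, h4_norm_hom]
  simp

end Cfsg.Agent.Helper4.Bf2
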