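import Mathlib
import Cfsg.Prelude.Def_Characters
import Cfsg.Agent.Helper4.Bf2_Lam

/-!
# BF2, step 2: the configuration (a subgroup `R` of odd prime order `p` inverted by an involution
`t`, with `N_G(R) = R ∪ tR`), elementary group theory
-/

set_option autoImplicit false
set_option linter.style.haveILetI false

namespace Cfsg.Agent.Helper4.Bf2

universe u

/-- The configuration: `R` of odd prime order `p`, inverted by `t` with `t * t = 1`, and every
element conjugating a non-identity element of `R` into `R` lies in `R ∪ t⁻¹R`; `lam` is a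
non-trivial linear character of `R`. -/
structure Cfg (G : Type u) [Group G] where
  /-- the subgroup of prime order -/
  R : Subgroup G
  /-- the prime -/
  p : ℕ
  hp : p.Prime
  hp2 : p ≠ 2
  hR : Nat.card R = p
  /-- the inverting involution -/
  t : G
  ht : t * t = 1
  hinv : ∀ y ∈ R, t * y * t⁻¹ = y⁻¹
  hN : ∀ x : G, ∀ y ∈ R, y ≠ 1 → x⁻¹ * y * x ∈ R → x ∈ R ∨ t * x ∈ R
  /-- a non-trivial linear character of `R` -/
  lam : R →* ℂˣ
  hlam : lam ≠ 1

namespace Cfg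

variable {G : Type u} [Group G] (D : Cfg G)

theorem t_inv : D.t⁻¹ = D.t := inv_eq_of_mul_eq_one_left D.ht

theorem finite_R : Finite D.R :=
  Nat.finite_of_card_ne_zero (by rw [D.hR]; exact D.hp.ne_zero)

theorem comm {a b : G} (ha : a ∈ D.R) (hb : b ∈ D.R) : a * b = b * a := by
  have := h4_comm_of_prime_card D.hp D.hR (⟨a, ha⟩ : D.R) ⟨b, hb⟩
  exact congrArg Subtype.val this

theorem pow_p {y : G} (hy : y ∈ D.R) : y ^ D.p = 1 := by
  haveI := D.finite_R
  have := h4_pow_card D.hR (⟨y, hy⟩ : D.R)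
  exact congrArg Subtype.val this

theorem eq_one_of_sq {y : G} (hy : y ∈ D.R) (h2 : y * y = 1) : y = 1 := by
  obtain ⟨k, hk⟩ := D.hp.odd_of_ne_two D.hp2
  have h := D.pow_p hy
  rw [hk, pow_succ, pow_mul, pow_two, h2, one_pow, one_mul] at h
  exact h

theorem exists_ne_one : ∃ y ∈ D.R, y ≠ 1 := by
  by_contra hcon
  push_neg at hcon
  have hbot : D.R = ⊥ := (Subgroup.eq_bot_iff_forall _).mpr hcon
  have h1 : Nat.card D.R = 1 := Subgroup.card_eq_one.mpr hbot
  rw [D.hR] at h1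
  exact D.hp.one_lt.ne' h1

theorem t_ne_one : D.t ≠ 1 := by
  intro h
  obtain ⟨y, hy, hy1⟩ := D.exists_ne_one
  apply hy1
  apply D.eq_one_of_sq hy
  have := D.hinv y hy
  rw [h, one_mul, inv_one, mul_one] at this
  calc y * y = y * y⁻¹ := by rw [← this]
    _ = 1 := mul_inv_cancel y

theorem t_not_mem : D.t ∉ D.R := fun h => D.t_ne_one (D.eq_one_of_sq h D.ht)

theorem conj_t_not_mem (x : G) : x⁻¹ * D.t * x ∉ D.R := by
  intro h
  have h2 : (x⁻¹ * D.t * x) * (x⁻¹ * D.t * x) = 1 := by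
    calc (x⁻¹ * D.t * x) * (x⁻¹ * D.t * x) = x⁻¹ * (D.t * D.t) * x := by group
      _ = 1 := by rw [D.ht]; group
  have h1 := D.eq_one_of_sq h h2
  apply D.t_ne_one
  calc D.t = x * (x⁻¹ * D.t * x) * x⁻¹ := by group
    _ = 1 := by rw [h1]; group

theorem conj_of_mem {x y : G} (hx : x ∈ D.R) (hy : y ∈ D.R) : x⁻¹ * y * x = y := by
  rw [mul_assoc, D.comm hy hx, ← mul_assoc, inv_mul_cancel, one_mul]

theorem conj_of_t_mul_mem {x y : G} (hx : D.t * x ∈ D.R) (hy : y ∈ D.R) :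
    x⁻¹ * y * x = y⁻¹ := by
  calc x⁻¹ * y * x = (D.t * x)⁻¹ * (D.t * y * D.t⁻¹) * (D.t * x) := by group
    _ = (D.t * x)⁻¹ * y⁻¹ * (D.t * x) := by rw [D.hinv y hy]
    _ = y⁻¹ := D.conj_of_mem hx (D.R.inv_mem hy)

theorem not_mem_of_t_mul_mem {x : G} (hx : D.t * x ∈ D.R) : x ∉ D.R := by
  intro h
  apply D.t_not_mem
  have := D.R.mul_mem hx (D.R.inv_mem h)
  rwa [mul_inv_cancel_right] at this

theorem isConj_t_mul {s : G} (hs : s ∈ D.R) : IsConj D.t (D.t * s) := by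
  obtain ⟨m, hm⟩ := D.hp.odd_of_ne_two D.hp2
  have hu : s ^ (m + 1) ∈ D.R := D.R.pow_mem hs _
  have huu : s ^ (m + 1) * s ^ (m + 1) = s := by
    rw [← pow_add]
    have : m + 1 + (m + 1) = D.p + 1 := by omega
    rw [this, pow_succ, D.pow_p hs, one_mul]
  have h1 : D.t * s ^ (m + 1) = (s ^ (m + 1))⁻¹ * D.t :=
    mul_inv_eq_iff_eq_mul.mp (D.hinv _ hu)
  rw [isConj_iff]
  refine ⟨(s ^ (m + 1))⁻¹, ?_⟩
  rw [inv_inv, ← h1, mul_assoc, huu]

theorem t_mul_mem_of_mul_mem {a b : G} (ha : a * a = 1) (hb : b * b = 1) (hab : a * b ∈ D.R)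
    (hne : a * b ≠ 1) : D.t * a ∈ D.R := by
  have hainv : a⁻¹ = a := inv_eq_of_mul_eq_one_left ha
  have hbinv : b⁻¹ = b := inv_eq_of_mul_eq_one_left hb
  have h1 : a⁻¹ * (a * b) * a = (a * b)⁻¹ := by
    rw [mul_inv_rev, hainv, hbinv, ← mul_assoc, ha, one_mul]
  have h2 : a⁻¹ * (a * b) * a ∈ D.R := by
    rw [h1]
    exact D.R.inv_mem hab
  rcases D.hN a (a * b) hab hne h2 with h | h
  · exfalso
    have ha1 := D.eq_one_of_sq h ha
    rw [ha1, one_mul] at hab hne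
    exact hne (D.eq_one_of_sq hab hb)
  · exact h

end Cfg

end Cfsg.Agent.Helper4.Bf2
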