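import Mathlib
import Cfsg.Prelude.Def_Characters
import Cfsg.Agent.Helper6.SEmbB
import Cfsg.Agent.Helper4.Bf2_Grp

/-!
# BF2, step 3: the class function `Φ` induced from `1 - lam`
-/

set_option autoImplicit false
set_option linter.style.haveILetI false

namespace Cfsg.Agent.Helper4.Bf2

open Cfsg.Agent.Helper6
open scoped ComplexConjugate

universe u

namespace Cfg

variable {G : Type u} [Group G] (D : Cfg G)

/-- `1 - lam` -/
noncomputable def phi : D.R → ℂ := fun y => 1 - ((D.lam y : ℂˣ) : ℂ)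

/-- the induced class function -/
noncomputable def Phi [Fintype G] : G → ℂ := Cfsg.indFun D.R D.phi

theorem phi_one : D.phi 1 = 0 := by
  unfold phi
  rw [map_one, Units.val_one, sub_self]

theorem p_ne_zero : (D.p : ℂ) ≠ 0 := by exact_mod_cast D.hp.ne_zero

theorem sum_ext_conj [Fintype G] {y : G} (hy : y ∈ D.R) (hy1 : y ≠ 1) :
    ∑ x : G, Cfsg.extendByZero D.R D.phi (x⁻¹ * y * x) =
      (D.p : ℂ) * D.phi ⟨y, hy⟩ + (D.p : ℂ) * D.phi ⟨y⁻¹, D.R.inv_mem hy⟩ := by
  classical
  haveI : Fintype D.R := Fintype.ofFinite _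
  have key : ∀ x : G, Cfsg.extendByZero D.R D.phi (x⁻¹ * y * x) =
      Cfsg.extendByZero D.R (fun _ => D.phi ⟨y, hy⟩) x +
      Cfsg.extendByZero D.R (fun _ => D.phi ⟨y⁻¹, D.R.inv_mem hy⟩) (D.t * x) := by
    intro x
    by_cases hx : x ∈ D.R
    · have htx : D.t * x ∉ D.R := fun h => D.not_mem_of_t_mul_mem h hx
      have hc : x⁻¹ * y * x = y := D.conj_of_mem hx hy
      have hm : x⁻¹ * y * x ∈ D.R := by rw [hc]; exact hy
      rw [extendByZero_mem _ _ hx, extendByZero_not_mem _ _ htx, add_zero,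
        extendByZero_mem _ _ hm]
      congr 1
      exact Subtype.ext hc
    · by_cases htx : D.t * x ∈ D.R
      · have hc : x⁻¹ * y * x = y⁻¹ := D.conj_of_t_mul_mem htx hy
        have hm : x⁻¹ * y * x ∈ D.R := by rw [hc]; exact D.R.inv_mem hy
        rw [extendByZero_not_mem _ _ hx, extendByZero_mem _ _ htx, zero_add,
          extendByZero_mem _ _ hm]
        congr 1
        exact Subtype.ext hc
      · have hm : x⁻¹ * y * x ∉ D.R := by
          intro h
          rcases D.hN x y hy hy1 h with h' | h'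
          · exact hx h'
          · exact htx h'
        rw [extendByZero_not_mem _ _ hx, extendByZero_not_mem _ _ htx,
          extendByZero_not_mem _ _ hm, add_zero]
  rw [Finset.sum_congr rfl (fun x _ => key x), Finset.sum_add_distrib, sum_extendByZero]
  have h2 : ∑ x : G, Cfsg.extendByZero D.R
      (fun _ => D.phi ⟨y⁻¹, D.R.inv_mem hy⟩) (D.t * x) =
      ∑ x : G, Cfsg.extendByZero D.R (fun _ => D.phi ⟨y⁻¹, D.R.inv_mem hy⟩) x :=
    Fintype.sum_equiv (Equiv.mulLeft D.t) _ _ (fun x => rfl)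
  rw [h2, sum_extendByZero, Finset.sum_const, Finset.sum_const, Finset.card_univ,
    ← Nat.card_eq_fintype_card, D.hR, nsmul_eq_mul, nsmul_eq_mul]

theorem Phi_one [Fintype G] : D.Phi 1 = 0 := by
  unfold Phi
  rw [indFun_apply_one, D.phi_one, mul_zero]

theorem Phi_t [Fintype G] : D.Phi D.t = 0 := by
  unfold Phi
  rw [indFun_apply, Finset.sum_eq_zero, mul_zero]
  intro x _
  exact extendByZero_not_mem D.R D.phi (D.conj_t_not_mem x)

theorem Phi_apply_mem [Fintype G] (y : D.R) : D.Phi (y : G) = D.phi y + D.phi y⁻¹ := by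
  by_cases hy1 : y = 1
  · subst hy1
    rw [inv_one, D.phi_one, add_zero]
    exact D.Phi_one
  · have hy1' : (y : G) ≠ 1 := fun h => hy1 (Subtype.ext h)
    unfold Phi
    rw [indFun_apply, D.sum_ext_conj y.2 hy1', D.hR]
    have hp0 := D.p_ne_zero
    have e1 : (⟨(y : G), y.2⟩ : D.R) = y := rfl
    have e2 : (⟨(y : G)⁻¹, D.R.inv_mem y.2⟩ : D.R) = y⁻¹ := rfl
    rw [e1, e2]
    field_simp

theorem Phi_isClassFunction [Fintype G] : Cfsg.IsClassFunction G D.Phi :=
  indFun_isClassFunction D.R D.phi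

theorem Phi_genChar [Fintype G] : Cfsg.IsGeneralizedCharacter G D.Phi := by
  unfold Phi
  apply IsGeneralizedCharacter.indFun
  exact ⟨fun _ => 1, fun y => ((D.lam y : ℂˣ) : ℂ), IsIrrCharacter.isCharacter isIrrCharacter_one,
    IsIrrCharacter.isCharacter (isIrrCharacter_of_hom D.lam), rfl⟩

theorem Phi_inner_one [Fintype G] : Cfsg.classInner D.Phi (fun _ => (1 : ℂ)) = 1 := by
  classical
  haveI : Fintype D.R := Fintype.ofFinite _
  have h0 : Cfsg.classInner D.Phi (fun _ => (1 : ℂ)) =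
      Cfsg.classInner D.phi (fun _ : D.R => (1 : ℂ)) :=
    frobenius_reciprocity D.R D.phi _ (fun _ _ => rfl)
  rw [h0, classInner_def]
  have h1 : ∀ y : D.R, D.phi y * conj (1 : ℂ) = 1 - ((D.lam y : ℂˣ) : ℂ) := by
    intro y
    rw [map_one, mul_one]
    rfl
  rw [Finset.sum_congr rfl (fun y _ => h1 y), Finset.sum_sub_distrib,
    h4_sum_hom_eq_zero D.lam D.hlam, sub_zero, Finset.sum_const, Finset.card_univ,
    ← Nat.card_eq_fintype_card, nsmul_eq_mul, mul_one, D.hR]
  exact inv_mul_cancel₀ D.p_ne_zero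

theorem Phi_norm [Fintype G] : Cfsg.classInner D.Phi D.Phi = 3 := by
  classical
  haveI : Fintype D.R := Fintype.ofFinite _
  have h0 : Cfsg.classInner D.Phi D.Phi =
      Cfsg.classInner D.phi (fun h : D.R => D.Phi (h : G)) :=
    frobenius_reciprocity D.R D.phi D.Phi D.Phi_isClassFunction
  rw [h0, classInner_def]
  have h1 : ∀ y : D.R, D.phi y * conj (D.Phi (y : G)) =
      3 - conj ((D.lam y : ℂˣ) : ℂ) - 3 * ((D.lam y : ℂˣ) : ℂ) + ((D.lam y : ℂˣ) : ℂ) ^ 2 := by
    intro y
    rw [D.Phi_apply_mem y]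
    unfold phi
    rw [h4_hom_inv]
    simp only [map_sub, map_add, map_one, Complex.conj_conj]
    have := h4_hom_mul_conj D.lam y
    linear_combination this
  rw [Finset.sum_congr rfl (fun y _ => h1 y), Finset.sum_add_distrib, Finset.sum_sub_distrib,
    Finset.sum_sub_distrib, ← Finset.mul_sum, ← map_sum, h4_sum_hom_eq_zero D.lam D.hlam,
    h4_sum_hom_sq_eq_zero D.hp D.hp2 D.hR D.lam D.hlam, map_zero, mul_zero, sub_zero, sub_zero,
    add_zero, Finset.sum_const, Finset.card_univ, ← Nat.card_eq_fintype_card, nsmul_eq_mul, D.hR]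
  have hp0 := D.p_ne_zero
  field_simp

end Cfg

end Cfsg.Agent.Helper4.Bf2
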