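import Mathlib
import Cfsg.Prelude.Def_Characters
import Cfsg.Agent.Helper6.SEmbB
import Cfsg.Agent.Helper4.Bf2_Ind

/-!
# BF2, step 4: counting pairs of conjugates of `t` with product in `R`
-/

set_option autoImplicit false
set_option linter.style.haveILetI false

namespace Cfsg.Agent.Helper4.Bf2

open Cfsg.Agent.Helper6
open scoped ComplexConjugate

universe u

namespace Cfg

variable {G : Type u} [Group G] (D : Cfg G)

theorem t_mul_mem_class [Fintype G] {s : G} (hs : s ∈ D.R) : D.t * s ∈ classFinset D.t :=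
  (mem_classFinset _ _).mpr (D.isConj_t_mul hs)

theorem mem_class_of_t_mul_mem [Fintype G] {a : G} (ha : D.t * a ∈ D.R) :
    a ∈ classFinset D.t := by
  have := D.t_mul_mem_class ha
  rwa [← mul_assoc, D.ht, one_mul] at this

theorem sq_of_mem_class [Fintype G] {a : G} (ha : a ∈ classFinset D.t) : a * a = 1 := by
  rw [mem_classFinset, isConj_iff] at ha
  obtain ⟨c, rfl⟩ := ha
  calc c * D.t * c⁻¹ * (c * D.t * c⁻¹) = c * (D.t * D.t) * c⁻¹ := by group
    _ = 1 := by rw [D.ht]; group

theorem sum_phi [Fintype D.R] : ∑ r : D.R, D.phi r = D.p := by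
  unfold phi
  rw [Finset.sum_sub_distrib, h4_sum_hom_eq_zero D.lam D.hlam, sub_zero, Finset.sum_const,
    Finset.card_univ, ← Nat.card_eq_fintype_card, nsmul_eq_mul, mul_one, D.hR]

/-- the inner sum for `a ∈ t⁻¹R` -/
theorem inner_sum_of_t_mul_mem [Fintype G] {a : G} (ha : D.t * a ∈ D.R) :
    ∑ b ∈ classFinset D.t, Cfsg.extendByZero D.R D.phi (a * b) = D.p := by
  classical
  haveI : Fintype D.R := Fintype.ofFinite _
  have haK := D.mem_class_of_t_mul_mem ha
  have haa := D.sq_of_mem_class haK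
  have h1 : ∑ b ∈ classFinset D.t, Cfsg.extendByZero D.R D.phi (a * b) =
      ∑ b : G, Cfsg.extendByZero D.R D.phi (a * b) := by
    apply Finset.sum_subset (Finset.subset_univ _)
    intro b _ hb
    apply extendByZero_not_mem
    intro hab
    apply hb
    apply D.mem_class_of_t_mul_mem
    have : D.t * b = (D.t * a) * (a * b) := by
      rw [mul_assoc, ← mul_assoc a a b, haa, one_mul]
    rw [this]
    exact D.R.mul_mem ha hab
  rw [h1]
  have h2 : ∑ b : G, Cfsg.extendByZero D.R D.phi (a * b) =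
      ∑ c : G, Cfsg.extendByZero D.R D.phi c :=
    Fintype.sum_equiv (Equiv.mulLeft a) _ _ (fun x => rfl)
  rw [h2, sum_extendByZero, D.sum_phi]

/-- the inner sum for `a ∉ t⁻¹R` -/
theorem inner_sum_of_not [Fintype G] {a : G} (haK : a ∈ classFinset D.t)
    (ha : D.t * a ∉ D.R) :
    ∑ b ∈ classFinset D.t, Cfsg.extendByZero D.R D.phi (a * b) = 0 := by
  apply Finset.sum_eq_zero
  intro b hb
  by_cases hab : a * b ∈ D.R
  · by_cases h1 : a * b = 1
    · rw [extendByZero_mem _ _ hab]
      have : (⟨a * b, hab⟩ : D.R) = 1 := Subtype.ext h1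
      rw [this, D.phi_one]
    · exact absurd (D.t_mul_mem_of_mul_mem (D.sq_of_mem_class haK) (D.sq_of_mem_class hb) hab h1) ha
  · exact extendByZero_not_mem _ _ hab

/-- the double class sum of the extension by zero of `phi` -/
theorem class_sum_ext [Fintype G] :
    ∑ a ∈ classFinset D.t, ∑ b ∈ classFinset D.t, Cfsg.extendByZero D.R D.phi (a * b) =
      (D.p : ℂ) * D.p := by
  classical
  haveI : Fintype D.R := Fintype.ofFinite _
  have h1 : ∀ a ∈ classFinset D.t,
      ∑ b ∈ classFinset D.t, Cfsg.extendByZero D.R D.phi (a * b) =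
      Cfsg.extendByZero D.R (fun _ => (D.p : ℂ)) (D.t * a) := by
    intro a haK
    by_cases ha : D.t * a ∈ D.R
    · rw [D.inner_sum_of_t_mul_mem ha, extendByZero_mem _ _ ha]
    · rw [D.inner_sum_of_not haK ha, extendByZero_not_mem _ _ ha]
  rw [Finset.sum_congr rfl h1]
  have h2 : ∑ a ∈ classFinset D.t, Cfsg.extendByZero D.R (fun _ => (D.p : ℂ)) (D.t * a) =
      ∑ a : G, Cfsg.extendByZero D.R (fun _ => (D.p : ℂ)) (D.t * a) := by
    apply Finset.sum_subset (Finset.subset_univ _)
    intro a _ ha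
    apply extendByZero_not_mem
    intro hta
    exact ha (D.mem_class_of_t_mul_mem hta)
  rw [h2]
  have h3 : ∑ a : G, Cfsg.extendByZero D.R (fun _ => (D.p : ℂ)) (D.t * a) =
      ∑ c : G, Cfsg.extendByZero D.R (fun _ => (D.p : ℂ)) c :=
    Fintype.sum_equiv (Equiv.mulLeft D.t) _ _ (fun x => rfl)
  rw [h3, sum_extendByZero, Finset.sum_const, Finset.card_univ, ← Nat.card_eq_fintype_card,
    nsmul_eq_mul, D.hR]

/-- the double class sum of `Φ` -/
theorem class_sum_Phi [Fintype G] :
    ∑ a ∈ classFinset D.t, ∑ b ∈ classFinset D.t, D.Phi (a * b) =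
      (Nat.card G : ℂ) * D.p := by
  unfold Phi
  rw [SEmb.sum_class_mul_indFun, D.class_sum_ext, D.hR]
  have hp0 := D.p_ne_zero
  field_simp

end Cfg

end Cfsg.Agent.Helper4.Bf2
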