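import Mathlib
import Cfsg.Prelude.Def_Characters
import Cfsg.Agent.Helper6.Induced

/-!
# BF2: character values at involutions are rational integers

(Same argument as `Cfsg.Agent.Helper6.char_involution_int`, reproved here because that file cannot
be imported together with `Cfsg.Agent.Helper6.ClassMult`.)
-/

set_option autoImplicit false
set_option linter.style.haveILetI false

namespace Cfsg.Agent.Helper4.Bf2

open Cfsg.Agent.Helper6
open scoped ComplexConjugate

universe u

variable {G : Type u} [Group G]

/-- the sum of a character over a subgroup on whose nonidentity elements it is constant -/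
theorem h4_char_sum_const_off_one [Finite G] (H : Subgroup G) {χ : G → ℂ}
    (hχ : Cfsg.IsCharacter G χ) (c : ℂ) (hc : ∀ x ∈ H, x ≠ 1 → χ x = c) :
    ∃ n : ℕ, χ 1 + ((Nat.card H : ℂ) - 1) * c = (Nat.card H : ℂ) * (n : ℂ) := by
  classical
  haveI : Fintype H := Fintype.ofFinite _
  have hres : Cfsg.IsCharacter H (fun x : H => χ x) := IsCharacter.restrict H hχ
  obtain ⟨n, hn⟩ := classInner_char_char_nat hres (isCharacter_one (G := H))
  refine ⟨n, ?_⟩
  unfold Cfsg.classInner at hn
  have hH0 : (Nat.card H : ℂ) ≠ 0 := by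
    have : 0 < Nat.card H := Nat.card_pos
    exact_mod_cast this.ne'
  have hsum : ∑ x : H, χ x * conj (1 : ℂ) = χ 1 + ((Nat.card H : ℂ) - 1) * c := by
    rw [← Finset.add_sum_erase Finset.univ _ (Finset.mem_univ (1 : H))]
    have h1 : ∀ x ∈ (Finset.univ : Finset H).erase 1, χ x * conj (1 : ℂ) = c := by
      intro x hx
      rw [map_one, mul_one]
      apply hc _ x.2
      intro h
      exact (Finset.ne_of_mem_erase hx) (Subtype.ext h)
    rw [Finset.sum_congr rfl h1, Finset.sum_const, Finset.card_erase_of_mem (Finset.mem_univ _),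
      Finset.card_univ, ← Nat.card_eq_fintype_card, nsmul_eq_mul, map_one, mul_one,
      Subgroup.coe_one]
    have : 1 ≤ Nat.card H := Nat.card_pos
    rw [Nat.cast_sub this, Nat.cast_one]
  rw [hsum] at hn
  rw [← hn]
  field_simp

/-- character values at involutions are rational integers -/
theorem h4_char_involution_int [Finite G] {χ : G → ℂ} (hχ : Cfsg.IsCharacter G χ) (z : G)
    (hz : orderOf z = 2) : ∃ v : ℤ, χ z = (v : ℂ) := by
  obtain ⟨d, hd⟩ := IsCharacter.apply_one hχ
  have hcard : Nat.card (Subgroup.zpowers z) = 2 := by rw [Nat.card_zpowers, hz]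
  have hc : ∀ x ∈ Subgroup.zpowers z, x ≠ 1 → χ x = χ z := by
    intro x hx hx1
    obtain ⟨i, rfl⟩ := Subgroup.mem_zpowers_iff.mp hx
    have hzz : z ^ (2 : ℤ) = 1 := by
      have h := pow_orderOf_eq_one z
      rw [hz] at h
      exact_mod_cast h
    rcases Int.emod_two_eq_zero_or_one i with h | h
    · exfalso
      apply hx1
      have : i = 2 * (i / 2) := by omega
      rw [this, zpow_mul, hzz, one_zpow]
    · have : i = 2 * (i / 2) + 1 := by omega
      rw [this, zpow_add, zpow_mul, hzz, one_zpow, one_mul, zpow_one]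
  obtain ⟨n, hn⟩ := h4_char_sum_const_off_one (Subgroup.zpowers z) hχ (χ z) hc
  rw [hcard, hd] at hn
  refine ⟨2 * (n : ℤ) - (d : ℤ), ?_⟩
  push_cast at hn ⊢
  linear_combination hn

end Cfsg.Agent.Helper4.Bf2
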