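import Mathlib
import Cfsg.Prelude.Def_Characters
import Cfsg.Agent.Helper6.SEmbB
import Cfsg.Agent.Helper4.Bf2_Invol
import Cfsg.Agent.Helper4.Bf2_Count

/-!
# BF2, step 5: the order formula

If `R ≤ G` has odd prime order `p`, is inverted by an involution `t`, and every element
conjugating a non-identity element of `R` into `R` lies in `R ∪ t⁻¹R`, then
`|G| (d - e)² = p |C_G(t)|² d (d + 1)` for some natural `d ≥ 1` and integer `e`.
-/

set_option autoImplicit false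
set_option linter.style.haveILetI false

namespace Cfsg.Agent.Helper4.Bf2

open Cfsg.Agent.Helper6
open scoped ComplexConjugate

universe u

namespace Cfg

variable {G : Type u} [Group G] (D : Cfg G)

theorem orderOf_t : orderOf D.t = 2 := by
  apply orderOf_eq_prime
  · rw [pow_two, D.ht]
  · exact D.t_ne_one

/-- the character sum against `-1 + X - X'` -/
theorem char_sum [Fintype G] [Fintype (Cfsg.IrrCharacter G)] {Θ : G → ℂ}
    (X X' : Cfsg.IrrCharacter G)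
    (hdec : ∀ g, Θ g = -1 + (X : G → ℂ) g - (X' : G → ℂ) g) (g : G) :
    ∑ χ : Cfsg.IrrCharacter G, Cfsg.classInner Θ (χ : G → ℂ) *
      ((χ : G → ℂ) g * (χ : G → ℂ) g / (χ : G → ℂ) 1) =
    -1 + (X : G → ℂ) g * (X : G → ℂ) g / (X : G → ℂ) 1 -
      (X' : G → ℂ) g * (X' : G → ℂ) g / (X' : G → ℂ) 1 := by
  classical
  simp_rw [SEmb.classInner_decomp X X' hdec]
  simp_rw [sub_mul, add_mul, neg_mul, ite_mul, one_mul, zero_mul]
  rw [Finset.sum_sub_distrib, Finset.sum_add_distrib, Finset.sum_neg_distrib,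
    Finset.sum_ite_eq Finset.univ SEmb.oneIrr, Finset.sum_ite_eq Finset.univ X,
    Finset.sum_ite_eq Finset.univ X']
  simp only [Finset.mem_univ, if_true]
  have hone : ((SEmb.oneIrr : Cfsg.IrrCharacter G) : G → ℂ) g *
      ((SEmb.oneIrr : Cfsg.IrrCharacter G) : G → ℂ) g /
      ((SEmb.oneIrr : Cfsg.IrrCharacter G) : G → ℂ) 1 = 1 := by
    show (1 : ℂ) * 1 / 1 = 1
    norm_num
  rw [hone]

/-- the order formula over `ℂ` -/
theorem order_formula_complex [Fintype G] : ∃ (d : ℕ) (e : ℤ), 0 < d ∧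
    (Nat.card G : ℂ) * ((d : ℂ) - (e : ℂ)) ^ 2 =
      (D.p : ℂ) * (Nat.card (Subgroup.centralizer ({D.t} : Set G)) : ℂ) ^ 2 * d * (d + 1) := by
  classical
  haveI : Finite (Cfsg.IrrCharacter G) := irr_finite
  haveI : Fintype (Cfsg.IrrCharacter G) := Fintype.ofFinite _
  -- the decomposition of `-Φ`
  have hgc : Cfsg.IsGeneralizedCharacter G (-D.Phi) := IsGeneralizedCharacter.neg D.Phi_genChar
  have hnorm : Cfsg.classInner (-D.Phi) (-D.Phi) = 3 := by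
    rw [classInner_neg_left, classInner_neg_right, neg_neg, D.Phi_norm]
  have hone : Cfsg.classInner (-D.Phi) (fun _ => (1 : ℂ)) = -1 := by
    rw [classInner_neg_left, D.Phi_inner_one]
  have hval : (-D.Phi) 1 = 0 := by
    rw [Pi.neg_apply, D.Phi_one, neg_zero]
  obtain ⟨X, X', -, -, -, hdec⟩ := SEmb.exists_decomp_norm_three hgc hnorm hone hval
  -- the two evaluations of the class sum
  have hS1 := SEmb.sum_class_mul_eq (-D.Phi) D.t D.t
  rw [char_sum X X' hdec D.t] at hS1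
  have hS2 : ∑ x ∈ classFinset D.t, ∑ y ∈ classFinset D.t, (-D.Phi) (x * y) =
      -((Nat.card G : ℂ) * D.p) := by
    simp only [Pi.neg_apply, Finset.sum_neg_distrib]
    rw [D.class_sum_Phi]
  rw [hS2] at hS1
  -- degrees and values at `t`
  obtain ⟨d₁, hd₁, -, hd₁pos⟩ := IsIrrCharacter.degree_dvd_card X.2
  obtain ⟨d₂, hd₂, -, hd₂pos⟩ := IsIrrCharacter.degree_dvd_card X'.2
  obtain ⟨v₁, hv₁⟩ := h4_char_involution_int (IsIrrCharacter.isCharacter X.2) D.t D.orderOf_t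
  obtain ⟨v₂, hv₂⟩ := h4_char_involution_int (IsIrrCharacter.isCharacter X'.2) D.t D.orderOf_t
  have e1 := hdec 1
  rw [hval, hd₁, hd₂] at e1
  have et := hdec D.t
  rw [Pi.neg_apply, D.Phi_t, neg_zero, hv₁, hv₂] at et
  have hd₁' : (d₁ : ℂ) = (d₂ : ℂ) + 1 := by linear_combination -e1
  have hv₁' : (v₁ : ℂ) = (v₂ : ℂ) + 1 := by linear_combination -et
  rw [hd₁, hd₂, hv₁, hv₂, hd₁', hv₁'] at hS1
  have hKG : ((classFinset D.t).card : ℂ) *
      (Nat.card ↥(Subgroup.centralizer ({D.t} : Set G)) : ℂ) = (Nat.card G : ℂ) := by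
    rw [card_classFinset]
    have := Subgroup.card_mul_index (Subgroup.centralizer ({D.t} : Set G))
    rw [mul_comm]
    exact_mod_cast this
  have hG0 : (Nat.card G : ℂ) ≠ 0 := by
    have : 0 < Nat.card G := Nat.card_pos
    exact_mod_cast this.ne'
  have hd0 : (d₂ : ℂ) ≠ 0 := by exact_mod_cast hd₂pos.ne'
  have hd1 : (d₂ : ℂ) + 1 ≠ 0 := by
    have : (d₂ + 1 : ℕ) ≠ 0 := Nat.succ_ne_zero _
    exact_mod_cast this
  refine ⟨d₂, v₂, hd₂pos, ?_⟩
  have hE : (-1 + ((v₂ : ℂ) + 1) * ((v₂ : ℂ) + 1) / ((d₂ : ℂ) + 1) -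
      (v₂ : ℂ) * (v₂ : ℂ) / (d₂ : ℂ)) *
      ((d₂ : ℂ) * ((d₂ : ℂ) + 1)) = -((d₂ : ℂ) - (v₂ : ℂ)) ^ 2 := by
    field_simp
    ring
  generalize (-1 + ((v₂ : ℂ) + 1) * ((v₂ : ℂ) + 1) / ((d₂ : ℂ) + 1) -
      (v₂ : ℂ) * (v₂ : ℂ) / (d₂ : ℂ)) = E at hS1 hE
  generalize ((classFinset D.t).card : ℂ) = k at hS1 hKG
  generalize (Nat.card ↥(Subgroup.centralizer ({D.t} : Set G)) : ℂ) = c at hKG ⊢
  generalize (Nat.card G : ℂ) = n at hS1 hKG hG0 ⊢
  -- hS1 : -(n * p) = k * k * E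
  have hmain : n * (n * ((d₂ : ℂ) - (v₂ : ℂ)) ^ 2 - (D.p : ℂ) * c ^ 2 * d₂ * (d₂ + 1)) = 0 := by
    linear_combination (n ^ 2) * hE + (c ^ 2 * d₂ * (d₂ + 1)) * hS1 +
      (E * d₂ * (d₂ + 1) * (k * c + n)) * hKG
  rcases mul_eq_zero.mp hmain with h | h
  · exact absurd h hG0
  · exact sub_eq_zero.mp h

/-- the order formula over `ℤ` -/
theorem order_formula [Fintype G] : ∃ (d : ℕ) (e : ℤ), 0 < d ∧
    (Nat.card G : ℤ) * ((d : ℤ) - e) ^ 2 =
      (D.p : ℤ) * (Nat.card (Subgroup.centralizer ({D.t} : Set G)) : ℤ) ^ 2 * d * (d + 1) := by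
  obtain ⟨d, e, hd, h⟩ := D.order_formula_complex
  refine ⟨d, e, hd, ?_⟩
  exact_mod_cast h

end Cfg

end Cfsg.Agent.Helper4.Bf2
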