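import Mathlib
import Cfsg.Prelude.Def_Characters
import Cfsg.Agent.Helper4.Bf2_Main

/-!
# BF2: the order formula from `|N_G(R)| = 2p`

`bf2`: if `R ≤ G` has odd prime order `p`, `t * t = 1`, `t` inverts `R`, and `|N_G(R)| = 2p`, then
`|G| (d - e)² = p |C_G(t)|² d (d + 1)` for some natural `d ≥ 1` and integer `e`.
-/

set_option autoImplicit false
set_option linter.style.haveILetI false

namespace Cfsg.Agent.Helper4.Bf2

universe u

variable {G : Type u} [Group G]

/-- if `x` conjugates one non-identity element of a subgroup of prime order into it, then it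
conjugates the whole subgroup into it -/
theorem h4_conj_mem_all (R : Subgroup G) {p : ℕ} (hp : p.Prime) (hR : Nat.card R = p) {x y : G}
    (hy : y ∈ R) (hy1 : y ≠ 1) (hxy : x⁻¹ * y * x ∈ R) {r : G} (hr : r ∈ R) :
    x⁻¹ * r * x ∈ R := by
  haveI : Fact p.Prime := ⟨hp⟩
  have hg : (⟨y, hy⟩ : R) ≠ 1 := fun h => hy1 (congrArg Subtype.val h)
  have hmem : (⟨r, hr⟩ : R) ∈ Subgroup.zpowers (⟨y, hy⟩ : R) := mem_zpowers_of_prime_card hR hg
  obtain ⟨k, hk⟩ := Subgroup.mem_zpowers_iff.mp hmem
  have hk' : y ^ k = r := by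
    have := congrArg Subtype.val hk
    simpa using this
  have h1 : x⁻¹ * r * x = (x⁻¹ * y * x) ^ k := by
    have := conj_zpow (a := x⁻¹) (b := y) (i := k)
    rw [inv_inv] at this
    rw [this, hk']
  rw [h1]
  exact R.zpow_mem hxy k

/-- the TI property of a subgroup of prime order -/
theorem h4_mem_normalizer (R : Subgroup G) {p : ℕ} (hp : p.Prime) (hR : Nat.card R = p) {x y : G}
    (hy : y ∈ R) (hy1 : y ≠ 1) (hxy : x⁻¹ * y * x ∈ R) :
    x ∈ Subgroup.normalizer (R : Set G) := by
  rw [Subgroup.mem_normalizer_iff'']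
  intro h
  constructor
  · intro hh
    exact h4_conj_mem_all R hp hR hy hy1 hxy hh
  · intro hh
    have hy1' : x⁻¹ * y * x ≠ 1 := by
      intro hcon
      apply hy1
      calc y = x * (x⁻¹ * y * x) * x⁻¹ := by group
        _ = 1 := by rw [hcon]; group
    have hback : (x⁻¹)⁻¹ * (x⁻¹ * y * x) * x⁻¹ ∈ R := by
      have : (x⁻¹)⁻¹ * (x⁻¹ * y * x) * x⁻¹ = y := by group
      rw [this]
      exact hy
    have := h4_conj_mem_all R hp hR hxy hy1' hback hh
    have h2 : (x⁻¹)⁻¹ * (x⁻¹ * h * x) * x⁻¹ = h := by group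
    rwa [h2] at this

/-- the coset decomposition of an overgroup of index two -/
theorem h4_mem_or_mul_mem [Finite G] (R N : Subgroup G) (hle : R ≤ N)
    (hcard : Nat.card N = 2 * Nat.card R) {t x : G} (ht : t ∈ N) (htR : t ∉ R) (hx : x ∈ N) :
    x ∈ R ∨ t * x ∈ R := by
  have hidx : (R.subgroupOf N).index = 2 := by
    have h1 := Subgroup.card_mul_index (R.subgroupOf N)
    rw [Nat.card_congr (Subgroup.subgroupOfEquivOfLe hle).toEquiv, hcard] at h1
    have hpos : 0 < Nat.card R := Nat.card_pos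
    have : Nat.card R * (R.subgroupOf N).index = Nat.card R * 2 := by rw [h1]; ring
    exact Nat.eq_of_mul_eq_mul_left hpos this
  by_cases hxR : x ∈ R
  · exact Or.inl hxR
  · right
    have h := Subgroup.mul_mem_iff_of_index_two hidx (a := (⟨t, ht⟩ : N)) (b := (⟨x, hx⟩ : N))
    rw [Subgroup.mem_subgroupOf, Subgroup.mem_subgroupOf, Subgroup.mem_subgroupOf] at h
    exact h.mpr (iff_of_false htR hxR)

/-- an element `t` with `t * t = 1` inverting a subgroup of odd prime order is not in it -/
theorem h4_not_mem_of_inverts [Finite G] (R : Subgroup G) {p : ℕ} (hp : p.Prime) (hp2 : p ≠ 2)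
    (hR : Nat.card R = p) {t : G} (ht : t * t = 1) (hinv : ∀ y ∈ R, t * y * t⁻¹ = y⁻¹) :
    t ∉ R := by
  intro htR
  have hsq : ∀ y ∈ R, y * y = 1 → y = 1 := by
    intro y hy h2
    obtain ⟨k, hk⟩ := hp.odd_of_ne_two hp2
    have h : y ^ p = 1 := by
      have := h4_pow_card hR (⟨y, hy⟩ : R)
      exact congrArg Subtype.val this
    rw [hk, pow_succ, pow_mul, pow_two, h2, one_pow, one_mul] at h
    exact h
  have ht1 : t = 1 := hsq t htR ht
  have hall : ∀ y ∈ R, y = 1 := by
    intro y hy
    apply hsq y hy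
    have := hinv y hy
    rw [ht1, one_mul, inv_one, mul_one] at this
    calc y * y = y * y⁻¹ := by rw [← this]
      _ = 1 := mul_inv_cancel y
  have hbot : R = ⊥ := (Subgroup.eq_bot_iff_forall _).mpr hall
  have h1 : Nat.card R = 1 := Subgroup.card_eq_one.mpr hbot
  rw [hR] at h1
  exact hp.one_lt.ne' h1

/-- **BF2**: the order formula for a group with a subgroup `R` of odd prime order `p` whose
normalizer is dihedral of order `2p`. -/
theorem bf2 [Finite G] (R : Subgroup G) (p : ℕ) (hp : p.Prime) (hp2 : p ≠ 2)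
    (hR : Nat.card R = p) (t : G) (ht : t * t = 1) (hinv : ∀ y ∈ R, t * y * t⁻¹ = y⁻¹)
    (hN : Nat.card (Subgroup.normalizer (R : Set G)) = 2 * p) :
    ∃ (d : ℕ) (e : ℤ), 0 < d ∧ (Nat.card G : ℤ) * ((d : ℤ) - e) ^ 2 =
      (p : ℤ) * (Nat.card (Subgroup.centralizer ({t} : Set G)) : ℤ) ^ 2 * d * (d + 1) := by
  classical
  haveI := Fintype.ofFinite G
  obtain ⟨lam, hlam⟩ := h4_exists_hom_ne_one hp hR
  have htR : t ∉ R := h4_not_mem_of_inverts R hp hp2 hR ht hinv
  have htinv : t⁻¹ = t := inv_eq_of_mul_eq_one_left ht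
  have htN : t ∈ Subgroup.normalizer (R : Set G) := by
    rw [Subgroup.mem_normalizer_iff]
    intro h
    constructor
    · intro hh
      rw [hinv h hh]
      exact R.inv_mem hh
    · intro hh
      have := hinv _ hh
      have h2 : t * (t * h * t⁻¹) * t⁻¹ = h := by
        rw [htinv]
        calc t * (t * h * t) * t = (t * t) * h * (t * t) := by group
          _ = h := by rw [ht, one_mul, mul_one]
      rw [h2] at this
      rw [this]
      exact R.inv_mem hh
  let D : Cfg G :=
    { R := R
      p := p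
      hp := hp
      hp2 := hp2
      hR := hR
      t := t
      ht := ht
      hinv := hinv
      hN := by
        intro x y hy hy1 hxy
        have hxN := h4_mem_normalizer R hp hR hy hy1 hxy
        exact h4_mem_or_mul_mem R _ Subgroup.le_normalizer (by rw [hN, hR]) htN htR hxN
      lam := lam
      hlam := hlam }
  exact D.order_formula

end Cfsg.Agent.Helper4.Bf2
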