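import Mathlib

/-!
# Unitriangular subgroups of `SL(n, 2)`
-/

set_option autoImplicit false

namespace Cfsg.Agent.Helper4.BigCell

open Matrix

/-- a submonoid of a finite group is closed under inverses. -/
theorem inv_mem_of_submonoid {G : Type*} [Group G] [Finite G] (S : Submonoid G) {g : G}
    (hg : g ∈ S) : g⁻¹ ∈ S := by
  have h1 : g⁻¹ ∈ Submonoid.powers g :=
    mem_powers_iff_mem_zpowers.2 (Subgroup.inv_mem _ (Subgroup.mem_zpowers g))
  obtain ⟨k, hk⟩ := h1
  rw [← hk]
  exact S.pow_mem hg k

variable {n : ℕ}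

/-- `SL(n, 2)`. -/
abbrev SLn (n : ℕ) : Type := Matrix.SpecialLinearGroup (Fin n) (ZMod 2)

theorem zmod2_cases (a : ZMod 2) : a = 0 ∨ a = 1 := by
  fin_cases a
  · left; rfl
  · right; rfl

/-- upper triangular matrices of `SL(n, 2)`. -/
def Uup (n : ℕ) : Subgroup (SLn n) where
  carrier := {g | ∀ i j : Fin n, j < i → g.1 i j = 0}
  mul_mem' := by
    intro a b ha hb i j hij
    rw [Matrix.SpecialLinearGroup.coe_mul, Matrix.mul_apply]
    apply Finset.sum_eq_zero
    intro k _
    by_cases hk : k < i
    · rw [ha i k hk, zero_mul]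
    · rw [hb k j (lt_of_lt_of_le hij (not_lt.1 hk)), mul_zero]
  one_mem' := by
    intro i j hij
    rw [Matrix.SpecialLinearGroup.coe_one, Matrix.one_apply_ne (ne_of_gt hij)]
  inv_mem' := by
    intro a ha
    let S : Submonoid (SLn n) :=
      { carrier := {g | ∀ i j : Fin n, j < i → g.1 i j = 0}
        mul_mem' := by
          intro a b ha hb i j hij
          rw [Matrix.SpecialLinearGroup.coe_mul, Matrix.mul_apply]
          apply Finset.sum_eq_zero
          intro k _
          by_cases hk : k < i
          · rw [ha i k hk, zero_mul]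
          · rw [hb k j (lt_of_lt_of_le hij (not_lt.1 hk)), mul_zero]
        one_mem' := by
          intro i j hij
          rw [Matrix.SpecialLinearGroup.coe_one, Matrix.one_apply_ne (ne_of_gt hij)] }
    exact inv_mem_of_submonoid S (g := a) ha

/-- lower triangular matrices of `SL(n, 2)`. -/
def Ulo (n : ℕ) : Subgroup (SLn n) where
  carrier := {g | ∀ i j : Fin n, i < j → g.1 i j = 0}
  mul_mem' := by
    intro a b ha hb i j hij
    rw [Matrix.SpecialLinearGroup.coe_mul, Matrix.mul_apply]
    apply Finset.sum_eq_zero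
    intro k _
    by_cases hk : i < k
    · rw [ha i k hk, zero_mul]
    · rw [hb k j (lt_of_le_of_lt (not_lt.1 hk) hij), mul_zero]
  one_mem' := by
    intro i j hij
    rw [Matrix.SpecialLinearGroup.coe_one, Matrix.one_apply_ne (ne_of_lt hij)]
  inv_mem' := by
    intro a ha
    let S : Submonoid (SLn n) :=
      { carrier := {g | ∀ i j : Fin n, i < j → g.1 i j = 0}
        mul_mem' := by
          intro a b ha hb i j hij
          rw [Matrix.SpecialLinearGroup.coe_mul, Matrix.mul_apply]
          apply Finset.sum_eq_zero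
          intro k _
          by_cases hk : i < k
          · rw [ha i k hk, zero_mul]
          · rw [hb k j (lt_of_le_of_lt (not_lt.1 hk) hij), mul_zero]
        one_mem' := by
          intro i j hij
          rw [Matrix.SpecialLinearGroup.coe_one, Matrix.one_apply_ne (ne_of_lt hij)] }
    exact inv_mem_of_submonoid S (g := a) ha

theorem mem_Uup {g : SLn n} : g ∈ Uup n ↔ ∀ i j : Fin n, j < i → g.1 i j = 0 := Iff.rfl

theorem mem_Ulo {g : SLn n} : g ∈ Ulo n ↔ ∀ i j : Fin n, i < j → g.1 i j = 0 := Iff.rfl

/-- the diagonal entries of an upper triangular element are `1`. -/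
theorem diag_of_mem_Uup {g : SLn n} (hg : g ∈ Uup n) (i : Fin n) : g.1 i i = 1 := by
  have hdet : g.1.det = ∏ i, g.1 i i := by
    apply Matrix.det_of_isUpperTriangular
    intro i j hij
    exact hg i j hij
  rw [g.2] at hdet
  rcases zmod2_cases (g.1 i i) with h | h
  · exfalso
    have : ∏ i, g.1 i i = 0 := Finset.prod_eq_zero (Finset.mem_univ i) h
    rw [this] at hdet
    exact one_ne_zero hdet
  · exact h

theorem diag_of_mem_Ulo {g : SLn n} (hg : g ∈ Ulo n) (i : Fin n) : g.1 i i = 1 := by
  have hdet : g.1.det = ∏ i, g.1 i i := by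
    apply Matrix.det_of_isLowerTriangular
    intro i j hij
    exact hg i j hij
  rw [g.2] at hdet
  rcases zmod2_cases (g.1 i i) with h | h
  · exfalso
    have : ∏ i, g.1 i i = 0 := Finset.prod_eq_zero (Finset.mem_univ i) h
    rw [this] at hdet
    exact one_ne_zero hdet
  · exact h

/-- the index set of the strictly upper entries. -/
abbrev Lt (n : ℕ) : Type := {p : Fin n × Fin n // p.1 < p.2}

/-- the unitriangular matrix with given strictly upper entries. -/
def upMat (f : Lt n → ZMod 2) : Matrix (Fin n) (Fin n) (ZMod 2) :=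
  fun i j => if h : i < j then f ⟨(i, j), h⟩ else if i = j then 1 else 0

theorem det_upMat (f : Lt n → ZMod 2) : (upMat f).det = 1 := by
  rw [Matrix.det_of_isUpperTriangular]
  · apply Finset.prod_eq_one
    intro i _
    simp [upMat]
  · intro i j hij
    have h1 : ¬ i < j := not_lt.2 (le_of_lt hij)
    have h2 : i ≠ j := ne_of_gt hij
    simp [upMat, h1, h2]

/-- the upper unitriangular group is in bijection with the strictly upper entries. -/
def equivUup (n : ℕ) : Uup n ≃ (Lt n → ZMod 2) where
  toFun g p := g.1.1 p.1.1 p.1.2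
  invFun f := ⟨⟨upMat f, det_upMat f⟩, by
    intro i j hij
    have h1 : ¬ i < j := not_lt.2 (le_of_lt hij)
    have h2 : i ≠ j := ne_of_gt hij
    simp [upMat, h1, h2]⟩
  left_inv := by
    intro g
    apply Subtype.ext
    apply Subtype.ext
    ext i j
    change upMat (fun p : Lt n => g.1.1 p.1.1 p.1.2) i j = g.1.1 i j
    unfold upMat
    by_cases h : i < j
    · rw [dif_pos h]
    · rw [dif_neg h]
      by_cases h2 : i = j
      · rw [if_pos h2, h2, diag_of_mem_Uup g.2]
      · rw [if_neg h2]
        exact (g.2 i j (lt_of_le_of_ne (not_lt.1 h) (Ne.symm h2))).symm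
  right_inv := by
    intro f
    funext p
    change upMat f p.1.1 p.1.2 = f p
    unfold upMat
    rw [dif_pos p.2]

theorem card_Uup (n : ℕ) : Nat.card (Uup n) = 2 ^ Fintype.card (Lt n) := by
  rw [Nat.card_congr (equivUup n), Nat.card_eq_fintype_card, Fintype.card_fun, ZMod.card]

theorem isPGroup_Uup (n : ℕ) : IsPGroup 2 (Uup n) :=
  IsPGroup.of_card (card_Uup n)

/-- transposition as an anti-automorphism maps `Ulo` to `Uup`: the orders agree. -/
def transposeEquiv (n : ℕ) : Ulo n ≃ Uup n where
  toFun g := ⟨g.1.transpose, fun i j hij => g.2 j i hij⟩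
  invFun g := ⟨g.1.transpose, fun i j hij => g.2 j i hij⟩
  left_inv := by
    intro g
    apply Subtype.ext
    apply Subtype.ext
    exact Matrix.transpose_transpose _
  right_inv := by
    intro g
    apply Subtype.ext
    apply Subtype.ext
    exact Matrix.transpose_transpose _

theorem card_Ulo (n : ℕ) : Nat.card (Ulo n) = 2 ^ Fintype.card (Lt n) := by
  rw [Nat.card_congr (transposeEquiv n), card_Uup]

theorem isPGroup_Ulo (n : ℕ) : IsPGroup 2 (Ulo n) :=
  IsPGroup.of_card (card_Ulo n)

end Cfsg.Agent.Helper4.BigCell
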