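import Mathlib
import Cfsg.Agent.Helper4.BigCellA

/-!
# Matrices over `𝔽₂` with non-vanishing leading principal minors
-/

set_option autoImplicit false

namespace Cfsg.Agent.Helper4.BigCell

open Matrix

variable {n : ℕ}

/-- the leading block. -/
def lead (h : Matrix (Fin n) (Fin n) (ZMod 2)) (k : ℕ) (hk : k ≤ n) :
    Matrix (Fin k) (Fin k) (ZMod 2) :=
  h.submatrix (Fin.castLE hk) (Fin.castLE hk)

/-- all leading principal minors are non-zero. -/
def Good (h : Matrix (Fin n) (Fin n) (ZMod 2)) : Prop :=
  ∀ (k : ℕ) (hk : k ≤ n), (lead h k hk).det = 1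

theorem neg_one_zmod2 : (-1 : ZMod 2) = 1 := by decide

theorem det_updateRow_single_last {k : ℕ} (B : Matrix (Fin (k + 1)) (Fin (k + 1)) (ZMod 2)) :
    (B.updateRow (Fin.last k) (Pi.single (Fin.last k) 1)).det =
      (B.submatrix Fin.castSucc Fin.castSucc).det := by
  rw [Matrix.det_succ_row _ (Fin.last k), Finset.sum_eq_single (Fin.last k)]
  · have h1 : (B.updateRow (Fin.last k) (Pi.single (Fin.last k) 1)).submatrix
        (Fin.last k).succAbove (Fin.last k).succAbove = B.submatrix Fin.castSucc Fin.castSucc := by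
      ext i j
      rw [Matrix.submatrix_apply, Matrix.submatrix_apply, Fin.succAbove_last,
        Matrix.updateRow_ne (Fin.castSucc_lt_last i).ne]
    rw [h1, Matrix.updateRow_self, Pi.single_eq_same, neg_one_zmod2, one_pow, one_mul, one_mul]
  · intro j _ hj
    rw [Matrix.updateRow_self, Pi.single_eq_of_ne hj, mul_zero, zero_mul]
  · intro h
    exact absurd (Finset.mem_univ _) h

theorem det_updateRow_add_single_last {k : ℕ}
    (B : Matrix (Fin (k + 1)) (Fin (k + 1)) (ZMod 2)) :
    (B.updateRow (Fin.last k) (B (Fin.last k) + Pi.single (Fin.last k) 1)).det =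
      B.det + (B.submatrix Fin.castSucc Fin.castSucc).det := by
  rw [Matrix.det_updateRow_add, Matrix.updateRow_eq_self, det_updateRow_single_last]

/-- a good matrix is determined by its off-diagonal entries. -/
theorem good_ext {h h' : Matrix (Fin n) (Fin n) (ZMod 2)} (hg : Good h) (hg' : Good h')
    (hoff : ∀ i j, i ≠ j → h i j = h' i j) : h = h' := by
  have hdiag : ∀ m : ℕ, ∀ hm : m < n, h ⟨m, hm⟩ ⟨m, hm⟩ = h' ⟨m, hm⟩ ⟨m, hm⟩ := by
    intro m
    induction m using Nat.strong_induction_on with
    | _ m ih =>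
    intro hm
    by_contra hne
    have hne' : h' ⟨m, hm⟩ ⟨m, hm⟩ = h ⟨m, hm⟩ ⟨m, hm⟩ + 1 := by
      rcases zmod2_cases (h ⟨m, hm⟩ ⟨m, hm⟩) with e1 | e1 <;>
      rcases zmod2_cases (h' ⟨m, hm⟩ ⟨m, hm⟩) with e2 | e2
      · exact absurd (e1.trans e2.symm) hne
      · rw [e1, e2]; decide
      · rw [e1, e2]; decide
      · exact absurd (e1.trans e2.symm) hne
    obtain ⟨A, hA⟩ : ∃ A, A = lead h (m + 1) hm := ⟨_, rfl⟩
    obtain ⟨A', hA'⟩ : ∃ A', A' = lead h' (m + 1) hm := ⟨_, rfl⟩
    have hAA' : A' = A.updateRow (Fin.last m) (A (Fin.last m) + Pi.single (Fin.last m) 1) := by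
      ext i j
      by_cases hi : i = Fin.last m
      · rw [hi, Matrix.updateRow_self]
        by_cases hj : j = Fin.last m
        · rw [hj, Pi.add_apply, Pi.single_eq_same, hA, hA']
          exact hne'
        · rw [Pi.add_apply, Pi.single_eq_of_ne hj, add_zero, hA, hA']
          refine (hoff _ _ ?_).symm
          intro hcon
          apply hj
          have := congrArg Fin.val hcon
          exact Fin.ext this.symm
      · rw [Matrix.updateRow_ne hi, hA, hA']
        by_cases hij : i = j
        · have hlt : (i : ℕ) < m := by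
            have h1 := i.2
            have h2 : (i : ℕ) ≠ m := fun hc => hi (Fin.ext hc)
            omega
          have := ih i hlt (lt_trans hlt hm)
          rw [← hij]
          exact this.symm
        · refine (hoff _ _ ?_).symm
          intro hcon
          apply hij
          have := congrArg Fin.val hcon
          exact Fin.ext this
    have h1 := hg' (m + 1) hm
    rw [← hA', hAA', det_updateRow_add_single_last] at h1
    have h2 := hg (m + 1) hm
    have h3 : A.submatrix Fin.castSucc Fin.castSucc = lead h m (le_of_lt hm) := by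
      rw [hA]
      ext i j
      rfl
    rw [h3, hg m _] at h1
    rw [← hA] at h2
    rw [h2] at h1
    revert h1
    decide
  ext i j
  by_cases hij : i = j
  · rw [← hij]
    exact hdiag i.1 i.2
  · exact hoff i j hij

/-- the index set of the off-diagonal entries. -/
abbrev Ne (n : ℕ) : Type := {p : Fin n × Fin n // p.1 ≠ p.2}

/-- off-diagonal positions: above or below the diagonal. -/
def equivNe (n : ℕ) : Ne n ≃ Lt n ⊕ Lt n where
  toFun p := if h : p.1.1 < p.1.2 then Sum.inl ⟨p.1, h⟩
    else Sum.inr ⟨(p.1.2, p.1.1), lt_of_le_of_ne (not_lt.1 h) (Ne.symm p.2)⟩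
  invFun s := match s with
    | Sum.inl q => ⟨q.1, ne_of_lt q.2⟩
    | Sum.inr q => ⟨(q.1.2, q.1.1), ne_of_gt q.2⟩
  left_inv := by
    intro p
    by_cases h : p.1.1 < p.1.2
    · simp [h]
    · simp [h]
  right_inv := by
    rintro (q | q)
    · simp [q.2]
    · have : ¬ q.1.2 < q.1.1 := not_lt.2 (le_of_lt q.2)
      simp [this]

theorem card_Ne (n : ℕ) : Fintype.card (Ne n) = 2 * Fintype.card (Lt n) := by
  rw [Fintype.card_congr (equivNe n), Fintype.card_sum, two_mul]

/-- the number of good matrices. -/
theorem card_good_le (n : ℕ) :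
    Nat.card {h : Matrix (Fin n) (Fin n) (ZMod 2) // Good h} ≤ 2 ^ (2 * Fintype.card (Lt n)) := by
  have hinj : Function.Injective
      (fun h : {h : Matrix (Fin n) (Fin n) (ZMod 2) // Good h} =>
        (fun p : Ne n => h.1 p.1.1 p.1.2)) := by
    intro a b hab
    apply Subtype.ext
    apply good_ext a.2 b.2
    intro i j hij
    exact congrFun hab ⟨(i, j), hij⟩
  have := Nat.card_le_card_of_injective _ hinj
  rwa [Nat.card_eq_fintype_card (α := Ne n → ZMod 2), Fintype.card_fun, ZMod.card,
    card_Ne] at this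

end Cfsg.Agent.Helper4.BigCell
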