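import Mathlib
import Cfsg.Agent.Helper4.BigCellA
import Cfsg.Agent.Helper4.BigCellB

/-!
# The big cell of `SL(n, 2)`: opposite unitriangular subgroups

If `U⁻ ∩ h U h⁻¹ = 1` then all leading principal minors of `h` are non-zero; hence there are at
most `|U|²` such `h`.
-/

set_option autoImplicit false

namespace Cfsg.Agent.Helper4.BigCell

open Matrix

variable {n : ℕ}

/-- padding a vector by zeros. -/
def pad {k : ℕ} (v : Fin k → ZMod 2) : Fin n → ZMod 2 :=
  fun i => if hi : (i : ℕ) < k then v ⟨i, hi⟩ else 0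

theorem pad_castLE {k : ℕ} (hk : k ≤ n) (v : Fin k → ZMod 2) (j : Fin k) :
    pad (n := n) v (Fin.castLE hk j) = v j := by
  unfold pad
  rw [dif_pos (by simp)]
  rfl

theorem pad_of_le {k : ℕ} (v : Fin k → ZMod 2) (i : Fin n) (hi : k ≤ (i : ℕ)) :
    pad v i = 0 := by
  unfold pad
  rw [dif_neg (by omega)]

theorem sum_pad {k : ℕ} (hk : k ≤ n) (g : Fin k → ZMod 2) (w : Fin n → ZMod 2) :
    ∑ j : Fin n, w j * pad g j = ∑ j' : Fin k, w (Fin.castLE hk j') * g j' := by
  have h1 : ∑ j' : Fin k, w (Fin.castLE hk j') * g j' =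
      ∑ j ∈ Finset.univ.map (Fin.castLEOrderEmb hk).toEmbedding, w j * pad g j := by
    rw [Finset.sum_map]
    apply Finset.sum_congr rfl
    intro j' _
    change _ = w (Fin.castLE hk j') * pad g (Fin.castLE hk j')
    rw [pad_castLE]
  rw [h1]
  symm
  apply Finset.sum_subset (Finset.subset_univ _)
  intro j _ hj
  have hjk : k ≤ (j : ℕ) := by
    by_contra hlt
    apply hj
    rw [Finset.mem_map]
    exact ⟨⟨j, by omega⟩, Finset.mem_univ _, Fin.ext rfl⟩
  rw [pad_of_le g j hjk, mul_zero]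

theorem sum_pad' {k : ℕ} (hk : k ≤ n) (g : Fin k → ZMod 2) (w : Fin n → ZMod 2) :
    ∑ j : Fin n, pad g j * w j = ∑ j' : Fin k, g j' * w (Fin.castLE hk j') := by
  rw [Finset.sum_congr rfl (fun j _ => mul_comm (pad g j) (w j)), sum_pad hk,
    Finset.sum_congr rfl (fun j _ => mul_comm _ _)]

/-- a vanishing leading minor produces a non-trivial element of `U⁻ ∩ h U h⁻¹`. -/
theorem exists_of_not_good (h : SLn n) (hbad : ¬ Good h.1) :
    ∃ t ∈ Ulo n, ∃ s ∈ Uup n, t ≠ 1 ∧ t * h = h * s := by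
  unfold Good at hbad
  push Not at hbad
  obtain ⟨k, hk, hdet⟩ := hbad
  have hdet0 : (lead h.1 k hk).det = 0 := (zmod2_cases _).resolve_right hdet
  obtain ⟨c, hc0, hc⟩ := (Matrix.exists_mulVec_eq_zero_iff (M := lead h.1 k hk)).2 hdet0
  obtain ⟨d, hd0, hd⟩ := (Matrix.exists_vecMul_eq_zero_iff (M := lead h.1 k hk)).2 hdet0
  obtain ⟨a, ha⟩ : ∃ a : Fin n → ZMod 2, a = h.1 *ᵥ (pad c) := ⟨_, rfl⟩
  obtain ⟨b, hb⟩ : ∃ b : Fin n → ZMod 2, b = (pad d) ᵥ* h.1 := ⟨_, rfl⟩
  -- vanishing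
  have hF1 : ∀ i : Fin n, (i : ℕ) < k → a i = 0 := by
    intro i hi
    rw [ha, Matrix.mulVec, dotProduct, sum_pad hk]
    have := congrFun hc ⟨i, hi⟩
    rw [Matrix.mulVec, dotProduct] at this
    exact this
  have hF2 : ∀ j : Fin n, (j : ℕ) < k → b j = 0 := by
    intro j hj
    rw [hb, Matrix.vecMul, dotProduct, sum_pad' hk]
    have := congrFun hd ⟨j, hj⟩
    rw [Matrix.vecMul, dotProduct] at this
    exact this
  -- non-vanishing
  have hc1 : ∃ j : Fin n, pad (n := n) c j ≠ 0 := by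
    by_contra hcon
    push Not at hcon
    apply hc0
    funext j'
    have := hcon (Fin.castLE hk j')
    rwa [pad_castLE] at this
  have hd1 : ∃ j : Fin n, pad (n := n) d j ≠ 0 := by
    by_contra hcon
    push Not at hcon
    apply hd0
    funext j'
    have := hcon (Fin.castLE hk j')
    rwa [pad_castLE] at this
  have ha1 : ∃ i : Fin n, a i ≠ 0 := by
    by_contra hcon
    push Not at hcon
    have ha0 : a = 0 := funext hcon
    have h2 : (h⁻¹).1 *ᵥ a = pad c := by
      rw [ha, Matrix.mulVec_mulVec, ← Matrix.SpecialLinearGroup.coe_mul, inv_mul_cancel,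
        Matrix.SpecialLinearGroup.coe_one, Matrix.one_mulVec]
    rw [ha0, Matrix.mulVec_zero] at h2
    obtain ⟨j, hj⟩ := hc1
    exact hj (congrFun h2.symm j)
  -- the two matrices
  obtain ⟨T, hT⟩ : ∃ T : Matrix (Fin n) (Fin n) (ZMod 2), T = 1 + Matrix.vecMulVec a (pad d) :=
    ⟨_, rfl⟩
  obtain ⟨S, hS⟩ : ∃ S : Matrix (Fin n) (Fin n) (ZMod 2), S = 1 + Matrix.vecMulVec (pad c) b :=
    ⟨_, rfl⟩
  have hTz : ∀ i j : Fin n, i ≤ j → a i * pad (n := n) d j = 0 := by
    intro i j hij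
    by_cases hj : (j : ℕ) < k
    · rw [hF1 i (lt_of_le_of_lt hij hj), zero_mul]
    · rw [pad_of_le d j (not_lt.1 hj), mul_zero]
  have hSz : ∀ i j : Fin n, j ≤ i → pad (n := n) c i * b j = 0 := by
    intro i j hij
    by_cases hi : (i : ℕ) < k
    · rw [hF2 j (lt_of_le_of_lt hij hi), mul_zero]
    · rw [pad_of_le c i (not_lt.1 hi), zero_mul]
  have hTlow : ∀ i j : Fin n, i < j → T i j = 0 := by
    intro i j hij
    rw [hT, Matrix.add_apply, Matrix.one_apply_ne (ne_of_lt hij), Matrix.vecMulVec_apply,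
      hTz i j hij.le, add_zero]
  have hTdiag : ∀ i : Fin n, T i i = 1 := by
    intro i
    rw [hT, Matrix.add_apply, Matrix.one_apply_eq, Matrix.vecMulVec_apply, hTz i i le_rfl,
      add_zero]
  have hSup : ∀ i j : Fin n, j < i → S i j = 0 := by
    intro i j hij
    rw [hS, Matrix.add_apply, Matrix.one_apply_ne (ne_of_gt hij), Matrix.vecMulVec_apply,
      hSz i j hij.le, add_zero]
  have hSdiag : ∀ i : Fin n, S i i = 1 := by
    intro i
    rw [hS, Matrix.add_apply, Matrix.one_apply_eq, Matrix.vecMulVec_apply, hSz i i le_rfl,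
      add_zero]
  have hTdet : T.det = 1 := by
    rw [Matrix.det_of_isLowerTriangular T (fun i j hij => hTlow i j hij)]
    exact Finset.prod_eq_one (fun i _ => hTdiag i)
  have hSdet : S.det = 1 := by
    rw [Matrix.det_of_isUpperTriangular (M := S) (fun i j hij => hSup i j hij)]
    exact Finset.prod_eq_one (fun i _ => hSdiag i)
  obtain ⟨tS, htS⟩ : ∃ tS : SLn n, tS.1 = T := ⟨⟨T, hTdet⟩, rfl⟩
  obtain ⟨sS, hsS⟩ : ∃ sS : SLn n, sS.1 = S := ⟨⟨S, hSdet⟩, rfl⟩
  refine ⟨tS, fun i j hij => by rw [htS]; exact hTlow i j hij, sS,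
    fun i j hij => by rw [hsS]; exact hSup i j hij, ?_, ?_⟩
  · intro h1
    obtain ⟨i, hi⟩ := ha1
    obtain ⟨j, hj⟩ := hd1
    have hij : j < i := by
      by_contra hcon
      have := hTz i j (not_lt.1 hcon)
      rcases mul_eq_zero.1 this with h2 | h2
      · exact hi h2
      · exact hj h2
    have h2 : T i j = (1 : Matrix (Fin n) (Fin n) (ZMod 2)) i j := by
      have := congrArg (fun g : SLn n => g.1 i j) h1
      rw [← htS]
      exact this
    rw [hT, Matrix.add_apply, Matrix.one_apply_ne (ne_of_gt hij), zero_add,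
      Matrix.vecMulVec_apply] at h2
    rcases mul_eq_zero.1 h2 with h3 | h3
    · exact hi h3
    · exact hj h3
  · apply Subtype.ext
    rw [Matrix.SpecialLinearGroup.coe_mul, Matrix.SpecialLinearGroup.coe_mul, htS, hsS]
    rw [hT, hS, add_mul, mul_add, one_mul, mul_one, Matrix.vecMulVec_mul, Matrix.mul_vecMulVec,
      ← ha, ← hb]

/-- elements of the big cell are good. -/
theorem good_of_inf_eq_bot (h : SLn n)
    (hh : Ulo n ⊓ (Uup n).map (MulAut.conj h).toMonoidHom = ⊥) : Good h.1 := by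
  by_contra hbad
  obtain ⟨t, ht, s, hs, ht1, hts⟩ := exists_of_not_good h hbad
  apply ht1
  have hmem : t ∈ Ulo n ⊓ (Uup n).map (MulAut.conj h).toMonoidHom := by
    refine ⟨ht, s, hs, ?_⟩
    change h * s * h⁻¹ = t
    rw [← hts, mul_inv_cancel_right]
  rw [hh] at hmem
  exact Subgroup.mem_bot.1 hmem

/-- **The size of the big cell.** -/
theorem card_bigCell_le (n : ℕ) :
    Nat.card {h : SLn n // Ulo n ⊓ (Uup n).map (MulAut.conj h).toMonoidHom = ⊥} ≤
      Nat.card (Uup n) ^ 2 := by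
  have hinj : Function.Injective
      (fun h : {h : SLn n // Ulo n ⊓ (Uup n).map (MulAut.conj h).toMonoidHom = ⊥} =>
        (⟨h.1.1, good_of_inf_eq_bot h.1 h.2⟩ :
          {m : Matrix (Fin n) (Fin n) (ZMod 2) // Good m})) := by
    intro a b hab
    have h3 : a.1.1 = b.1.1 := Subtype.mk.inj hab
    exact Subtype.ext (Subtype.ext h3)
  have h1 := Nat.card_le_card_of_injective _ hinj
  have h2 := card_good_le n
  rw [card_Uup, ← pow_mul, mul_comm]
  exact h1.trans h2

end Cfsg.Agent.Helper4.BigCell
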