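import Mathlib

set_option autoImplicit false

namespace Cfsg.Agent.Helper4

open MulAction

section
variable {K : Type*} [Group K] [Fintype K] {α : Type*} [Fintype α] [DecidableEq α] [MulAction K α]

/-- number of fixed points on `Fin k → α` is the `k`-th power of the number of fixed points -/
theorem card_fixedBy_pi (g : K) (k : ℕ) :
    Nat.card (fixedBy (Fin k → α) g) = (Nat.card (fixedBy α g)) ^ k := by
  classical
  have e : fixedBy (Fin k → α) g ≃ (Fin k → fixedBy α g) :=
    { toFun := fun f i => ⟨f.1 i, by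
        have := f.2
        rw [mem_fixedBy] at this
        rw [mem_fixedBy]
        exact congrFun this i⟩
      invFun := fun f => ⟨fun i => (f i).1, by
        rw [mem_fixedBy]
        funext i
        exact (f i).2⟩
      left_inv := fun f => rfl
      right_inv := fun f => rfl }
  rw [Nat.card_congr e, Nat.card_fun, Nat.card_eq_fintype_card (α := Fin k), Fintype.card_fin]

theorem card_dvd_sum_fix_pow (k : ℕ) :
    (Nat.card K : ℤ) ∣ ∑ g : K, ((Nat.card (fixedBy α g) : ℤ)) ^ k := by
  classical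
  haveI : ∀ g : K, Fintype (fixedBy (Fin k → α) g) := fun g => Fintype.ofFinite _
  haveI : Fintype (Quotient (orbitRel K (Fin k → α))) := Fintype.ofFinite _
  have h := sum_card_fixedBy_eq_card_orbits_mul_card_group K (Fin k → α)
  have h' : ∑ g : K, ((Nat.card (fixedBy α g) : ℤ)) ^ k =
      ((Fintype.card (Quotient (orbitRel K (Fin k → α))) * Fintype.card K : ℕ) : ℤ) := by
    rw [← h, Nat.cast_sum]
    refine Finset.sum_congr rfl (fun g _ => ?_)
    rw [← Nat.card_eq_fintype_card, card_fixedBy_pi, Nat.cast_pow]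
  rw [h', Nat.card_eq_fintype_card, Nat.cast_mul]
  exact dvd_mul_left _ _

theorem card_dvd_sum_fix_pow_mul_prod (L : Finset ℕ) :
    ∀ k : ℕ, (Nat.card K : ℤ) ∣ ∑ g : K, ((Nat.card (fixedBy α g) : ℤ)) ^ k *
      ∏ l ∈ L, ((Nat.card (fixedBy α g) : ℤ) - (l : ℤ)) := by
  classical
  induction L using Finset.induction_on with
  | empty =>
    intro k
    simp only [Finset.prod_empty, mul_one]
    exact card_dvd_sum_fix_pow k
  | insert a L' ha ih =>
    intro k
    have e : ∑ g : K, ((Nat.card (fixedBy α g) : ℤ)) ^ k *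
        ∏ l ∈ insert a L', ((Nat.card (fixedBy α g) : ℤ) - (l : ℤ)) =
        (∑ g : K, ((Nat.card (fixedBy α g) : ℤ)) ^ (k + 1) *
          ∏ l ∈ L', ((Nat.card (fixedBy α g) : ℤ) - (l : ℤ))) -
        (a : ℤ) * ∑ g : K, ((Nat.card (fixedBy α g) : ℤ)) ^ k *
          ∏ l ∈ L', ((Nat.card (fixedBy α g) : ℤ) - (l : ℤ)) := by
      rw [Finset.mul_sum, ← Finset.sum_sub_distrib]
      refine Finset.sum_congr rfl (fun g _ => ?_)
      rw [Finset.prod_insert ha]
      ring
    rw [e]
    exact dvd_sub (ih (k + 1)) (Dvd.dvd.mul_left (ih k) _)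

theorem blichfeldt_int (L : Finset ℕ)
    (hL : ∀ g : K, g ≠ 1 → Nat.card (fixedBy α g) ∈ L) :
    (Nat.card K : ℤ) ∣ ∏ l ∈ L, ((Fintype.card α : ℤ) - (l : ℤ)) := by
  classical
  have h := card_dvd_sum_fix_pow_mul_prod (K := K) (α := α) L 0
  simp only [pow_zero, one_mul] at h
  have hsum : ∑ g : K, ∏ l ∈ L, ((Nat.card (fixedBy α g) : ℤ) - (l : ℤ)) =
      ∏ l ∈ L, ((Fintype.card α : ℤ) - (l : ℤ)) := by
    rw [Finset.sum_eq_single (1 : K)]
    · have : Nat.card (fixedBy α (1 : K)) = Fintype.card α := by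
        rw [← Nat.card_eq_fintype_card]
        apply Nat.card_congr
        exact { toFun := fun x => x.1
                invFun := fun x => ⟨x, by rw [mem_fixedBy, one_smul]⟩
                left_inv := fun x => rfl
                right_inv := fun x => rfl }
      rw [this]
    · intro g _ hg
      apply Finset.prod_eq_zero (hL g hg)
      exact sub_self _
    · intro h1
      exact absurd (Finset.mem_univ _) h1
  rw [hsum] at h
  exact h

theorem blichfeldt_nat (L : Finset ℕ)
    (hL : ∀ g : K, g ≠ 1 → Nat.card (fixedBy α g) ∈ L) :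
    Nat.card K ∣ ∏ l ∈ L, (Fintype.card α - l) := by
  classical
  by_cases hbig : ∃ l ∈ L, Fintype.card α ≤ l
  · obtain ⟨l, hl, hle⟩ := hbig
    rw [Finset.prod_eq_zero hl (Nat.sub_eq_zero_of_le hle)]
    exact dvd_zero _
  · rw [not_exists] at hbig
    have hlt : ∀ l ∈ L, l ≤ Fintype.card α := by
      intro l hl
      have := hbig l
      rw [not_and, not_le] at this
      exact (this hl).le
    have h := blichfeldt_int (K := K) (α := α) L hL
    have hcast : ((∏ l ∈ L, (Fintype.card α - l) : ℕ) : ℤ) =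
        ∏ l ∈ L, ((Fintype.card α : ℤ) - (l : ℤ)) := by
      rw [Nat.cast_prod]
      refine Finset.prod_congr rfl (fun l hl => ?_)
      rw [Nat.cast_sub (hlt l hl)]
    rw [← hcast] at h
    exact Int.natCast_dvd_natCast.1 h

end

end Cfsg.Agent.Helper4
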