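import Mathlib
import Cfsg.Prelude.Def_OddOrderLocal
import Cfsg.Agent.Helper1.Class2
import Cfsg.Agent.Helper1.HuppertMetaC

set_option autoImplicit false

/-!
`p`-central `p`-groups for odd `p` (all elements with `x ^ p = 1` are central): the key lemma
`x ^ p = y ^ p → (x⁻¹ * y) ^ p = 1`, and the consequence that such a group with at most `p ^ 2`
solutions of `x ^ p = 1` is metacyclic (via Huppert's criterion).
-/

namespace Cfsg.Agent.Helper4.Blk

open Cfsg Cfsg.Agent.Helper1

universe u

/-- all solutions of `x ^ p = 1` are central -/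
def PCentral (p : ℕ) (G : Type*) [Group G] : Prop :=
  ∀ x : G, x ^ p = 1 → ∀ y : G, x * y = y * x

theorem PCentral.subgroup {p : ℕ} {G : Type*} [Group G] (h : PCentral p G) (H : Subgroup G) :
    PCentral p H := by
  intro x hx y
  apply Subtype.ext
  have h1 : (x : G) ^ p = 1 := by
    have := congrArg Subtype.val hx
    simpa using this
  simpa using h x h1 y

theorem pow_eq_pow_aux {p : ℕ} [hp : Fact p.Prime] (hp2 : p ≠ 2) :
    ∀ (n : ℕ) (G : Type u) [Group G] [Finite G], Nat.card G = n → IsPGroup p G → PCentral p G →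
      ∀ x y : G, x ^ p = y ^ p → (x⁻¹ * y) ^ p = 1 := by
  intro n
  induction n using Nat.strong_induction_on with
  | _ n ih =>
  intro G _ _ hn hG hpc x y hxy
  -- reduce to a proper subgroup containing `x` and `y⁻¹ x y`
  by_cases hx : Subgroup.zpowers x = ⊤
  · -- `G` is commutative
    have hcomm : ∀ a b : G, a * b = b * a := by
      intro a b
      have ha : a ∈ Subgroup.zpowers x := hx ▸ Subgroup.mem_top a
      have hb : b ∈ Subgroup.zpowers x := hx ▸ Subgroup.mem_top b
      obtain ⟨i, rfl⟩ := Subgroup.mem_zpowers_iff.1 ha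
      obtain ⟨j, rfl⟩ := Subgroup.mem_zpowers_iff.1 hb
      rw [← zpow_add, ← zpow_add, add_comm]
    have hc : Commute x⁻¹ y := hcomm _ _
    rw [hc.mul_pow, inv_pow, hxy, inv_mul_cancel]
  · have hnil : Group.IsNilpotent G := hG.isNilpotent
    obtain ⟨K, hK, hxK⟩ := (eq_top_or_exists_le_coatom (Subgroup.zpowers x)).resolve_left hx
    have hKn : K.Normal := Subgroup.NormalizerCondition.normal_of_coatom K
      (Group.normalizerCondition_of_isNilpotent (G := G)) hK
    have hxK' : x ∈ K := hxK (Subgroup.mem_zpowers x)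
    have hwK : y⁻¹ * x * y ∈ K := by
      have := hKn.conj_mem x hxK' y⁻¹
      simpa using this
    have hlt : Nat.card K < n := by
      rw [← hn]
      have hne : K ≠ ⊤ := hK.1
      have hle : Nat.card K ≤ Nat.card G := Subgroup.card_le_card_group K
      rcases hle.lt_or_eq with h | h
      · exact h
      · exact absurd ((Subgroup.card_eq_iff_eq_top K).1 h) hne
    have hpw : (y⁻¹ * x * y) ^ p = x ^ p := by
      have h1 : (y⁻¹ * x * y) ^ p = y⁻¹ * x ^ p * y := by
        have := conj_pow (a := y⁻¹) (b := x) (i := p)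
        simpa using this
      rw [h1, hxy]
      group
    have h1 := ih _ hlt K rfl (hG.to_subgroup K) (hpc.subgroup K) ⟨x, hxK'⟩ ⟨y⁻¹ * x * y, hwK⟩
      (by
        apply Subtype.ext
        simp only [Subgroup.coe_pow]
        exact hpw.symm)
    have h2 : (x⁻¹ * (y⁻¹ * x * y)) ^ p = 1 := by
      have := congrArg Subtype.val h1
      simpa using this
    set c : G := x⁻¹ * (y⁻¹ * x * y) with hc
    have hcen : ∀ z, Commute c z := fun z => hpc c h2 z
    have hyx : y * x⁻¹ = c * x⁻¹ * y := by
      have h3 : c = y * c * y⁻¹ := by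
        have := (hcen y).eq
        calc c = c * y * y⁻¹ := by group
          _ = y * c * y⁻¹ := by rw [this]
      calc y * x⁻¹ = (y * c * y⁻¹) * x⁻¹ * y := by rw [hc]; group
        _ = c * x⁻¹ * y := by rw [← h3]
    rw [mul_pow_of_central hcen hyx p, inv_pow, hxy, inv_mul_cancel, one_mul]
    have hdvd : p ∣ p.choose 2 := by
      apply hp.out.dvd_choose_self (by norm_num)
      have := hp.out.two_le
      omega
    obtain ⟨k, hk⟩ := hdvd
    rw [hk, pow_mul, h2, one_pow]

/-- **Key lemma**: in a `p`-central `p`-group, `p` odd, equal `p`-th powers differ by an element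
of order dividing `p`. -/
theorem PCentral.pow_eq_pow {G : Type u} [Group G] [Finite G] {p : ℕ} [hp : Fact p.Prime]
    (hp2 : p ≠ 2) (hG : IsPGroup p G) (hpc : PCentral p G) {x y : G} (hxy : x ^ p = y ^ p) :
    (x⁻¹ * y) ^ p = 1 :=
  pow_eq_pow_aux hp2 _ G rfl hG hpc x y hxy

/-- relative version for a subgroup -/
theorem pow_eq_pow_of_mem {G : Type u} [Group G] [Finite G] {p : ℕ} [hp : Fact p.Prime]
    (hp2 : p ≠ 2) (C : Subgroup G) (hC : IsPGroup p C)
    (hpc : ∀ x ∈ C, x ^ p = 1 → ∀ y ∈ C, x * y = y * x) {x y : G} (hx : x ∈ C) (hy : y ∈ C)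
    (hxy : x ^ p = y ^ p) : (x⁻¹ * y) ^ p = 1 := by
  have hpc' : PCentral p C := by
    intro a ha b
    apply Subtype.ext
    have h1 : (a : G) ^ p = 1 := by
      have := congrArg Subtype.val ha
      simpa using this
    simpa using hpc a a.2 h1 b b.2
  have h := PCentral.pow_eq_pow hp2 hC hpc' (x := ⟨x, hx⟩) (y := ⟨y, hy⟩)
    (by apply Subtype.ext; simpa using hxy)
  have := congrArg Subtype.val h
  simpa using this

/-- counting: the `p`-th power map has fibres of size at most `#{x | x ^ p = 1}`. -/
theorem card_le_mul_of_pows_mem {G : Type u} [Group G] [Finite G] {p : ℕ} [hp : Fact p.Prime]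
    (hp2 : p ≠ 2) (hG : IsPGroup p G) (hpc : PCentral p G) (T : Subgroup G)
    (hT : ∀ x : G, x ^ p ∈ T) :
    Nat.card G ≤ Nat.card {x : G // x ^ p = 1} * Nat.card T := by
  classical
  letI : Fintype G := Fintype.ofFinite G
  let f : G → T := fun x => ⟨x ^ p, hT x⟩
  have h1 := Finset.card_le_mul_card_image (s := (Finset.univ : Finset G)) (f := f)
    (n := Nat.card {x : G // x ^ p = 1}) (by
      intro t ht
      obtain ⟨x₀, -, hx₀⟩ := Finset.mem_image.1 ht
      -- inject the fibre into the solutions of `x ^ p = 1`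
      have hinj : Function.Injective (fun x : {x : G // f x = t} =>
          (⟨x₀⁻¹ * x.1, by
            apply PCentral.pow_eq_pow hp2 hG hpc
            have h2 : f x₀ = f x.1 := by rw [hx₀, x.2]
            exact congrArg Subtype.val h2⟩ : {x : G // x ^ p = 1})) := by
        intro a b hab
        have := congrArg Subtype.val hab
        simp only [mul_right_inj] at this
        exact Subtype.ext this
      have h3 := Nat.card_le_card_of_injective _ hinj
      have h4 : (Finset.filter (fun a => f a = t) Finset.univ).card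
          = Nat.card {x : G // f x = t} := by
        rw [Nat.card_eq_fintype_card, Fintype.card_subtype]
      rw [h4]
      exact h3)
  have h2 : (Finset.univ : Finset G).card = Nat.card G := by
    rw [Finset.card_univ, Nat.card_eq_fintype_card]
  have h3 : (Finset.image f Finset.univ).card ≤ Nat.card T := by
    rw [Nat.card_eq_fintype_card]
    exact Finset.card_le_univ _
  calc Nat.card G = (Finset.univ : Finset G).card := h2.symm
    _ ≤ _ := h1
    _ ≤ _ := Nat.mul_le_mul_left _ h3

/-- **Lemma M**: a `p`-central `p`-group, `p` odd, with at most `p ^ 2` solutions of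
`x ^ p = 1` is metacyclic. -/
theorem isMetacyclic_of_pCentral {G : Type u} [Group G] [Finite G] {p : ℕ} [hp : Fact p.Prime]
    (hp2 : p ≠ 2) (hG : IsPGroup p G) (hpc : PCentral p G)
    (hc : Nat.card {x : G // x ^ p = 1} ≤ p ^ 2) : Cfsg.IsMetacyclic G := by
  apply HuppertMeta.isMetacyclic_of_smallAgemo hp2 hG
  intro T _ hT
  have h1 := card_le_mul_of_pows_mem hp2 hG hpc T hT
  have h2 := T.card_mul_index
  have h3 : Nat.card G ≤ p ^ 2 * Nat.card T := h1.trans (Nat.mul_le_mul_right _ hc)
  rw [← h2, mul_comm] at h3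
  exact Nat.le_of_mul_le_mul_right h3 Nat.card_pos

end Cfsg.Agent.Helper4.Blk
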