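import Mathlib

set_option autoImplicit false

/-!
Suzuki's lemma: a `p`-group of order `p ^ (m + 2)` with an element whose centralizer has order
at most `p ^ 2` has maximal class.  Also the iteration formula for an automorphism along a
commutator chain.
-/

namespace Cfsg.Agent.Helper4.Blk

open scoped commutatorElement

universe u

theorem lcs_ne_bot_aux {p : ℕ} [hp : Fact p.Prime] :
    ∀ (m : ℕ) (G : Type u) [Group G] [Finite G], Nat.card G = p ^ (m + 2) →
      ∀ g : G, Nat.card (Subgroup.centralizer ({g} : Set G)) ≤ p ^ 2 →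
        (⊤ : Subgroup G).lowerCentralSeries m ≠ ⊥ := by
  intro m
  induction m with
  | zero =>
    intro G _ _ hG g _
    rw [Subgroup.lowerCentralSeries_zero]
    intro h
    have h1 : Nat.card (⊤ : Subgroup G) = 1 := by rw [h]; exact Subgroup.card_bot
    rw [Subgroup.card_top, hG] at h1
    have := hp.out.one_lt
    have h2 : 1 < p ^ (0 + 2) := Nat.one_lt_pow (by norm_num) this
    omega
  | succ m ih =>
    intro G _ _ hG g hg
    have hPG : IsPGroup p G := IsPGroup.of_card hG
    have h1p := hp.out.one_lt
    haveI : Nontrivial G := by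
      rw [← Finite.one_lt_card_iff_nontrivial, hG]
      exact Nat.one_lt_pow (by omega) h1p
    set Z : Subgroup G := Subgroup.center G with hZ
    set Cg : Subgroup G := Subgroup.centralizer ({g} : Set G) with hCg
    have hZC : Z ≤ Cg := Subgroup.center_le_centralizer _
    have hgC : g ∈ Cg := by
      rw [hCg, Subgroup.mem_centralizer_iff]
      intro h hh
      rw [Set.mem_singleton_iff.1 hh]
    have hgZ : g ∉ Z := by
      intro hgZ
      have h1 : Cg = ⊤ := by
        rw [eq_top_iff]
        intro x _
        rw [hCg, Subgroup.mem_centralizer_iff]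
        intro h hh
        rw [Set.mem_singleton_iff.1 hh]
        exact (Subgroup.mem_center_iff.1 hgZ x).symm
      rw [h1, Subgroup.card_top, hG] at hg
      have : p ^ 2 < p ^ (m + 1 + 2) := Nat.pow_lt_pow_right h1p (by omega)
      omega
    have hZlt : Nat.card Z < Nat.card Cg := by
      have hle := Subgroup.card_le_of_le hZC
      rcases hle.lt_or_eq with h | h
      · exact h
      · exact absurd ((Subgroup.eq_of_le_of_card_ge hZC h.ge) ▸ hgC) hgZ
    have hZne : Nat.card Z ≠ 1 := by
      intro h
      have h2 : Z = ⊥ := Subgroup.card_eq_one.1 h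
      haveI := hPG.center_nontrivial
      exact (Subgroup.nontrivial_iff_ne_bot _).1 ‹Nontrivial (Subgroup.center G)› h2
    have hZp : Nat.card Z = p := by
      obtain ⟨j, hj⟩ := IsPGroup.iff_card.1 (hPG.to_subgroup Z)
      have hj2 : p ^ j < p ^ 2 := by rw [← hj]; exact lt_of_lt_of_le hZlt hg
      have hj3 : j < 2 := (Nat.pow_lt_pow_iff_right h1p).1 hj2
      interval_cases j
      · rw [pow_zero] at hj; exact absurd hj hZne
      · rw [pow_one] at hj; exact hj
    -- the quotient
    have hQcard : Nat.card (G ⧸ Z) = p ^ (m + 2) := by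
      have h1 := Z.card_eq_card_quotient_mul_card_subgroup
      rw [hG, hZp] at h1
      have h2 : p ^ (m + 1 + 2) = p ^ (m + 2) * p := by rw [pow_succ]
      rw [h2] at h1
      exact (Nat.eq_of_mul_eq_mul_right hp.out.pos h1).symm
    set gb : G ⧸ Z := QuotientGroup.mk g with hgb
    set K : Subgroup G := (Subgroup.centralizer ({gb} : Set (G ⧸ Z))).comap (QuotientGroup.mk' Z)
      with hK
    have hmemK : ∀ x : G, x ∈ K ↔ x⁻¹ * g⁻¹ * x * g ∈ Z := by
      intro x
      rw [hK, Subgroup.mem_comap, Subgroup.mem_centralizer_iff]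
      constructor
      · intro h
        have h1 := h gb rfl
        rw [← QuotientGroup.eq_one_iff]
        have h2 : ((x⁻¹ * g⁻¹ * x * g : G) : G ⧸ Z)
            = (QuotientGroup.mk' Z x)⁻¹ * gb⁻¹ * (QuotientGroup.mk' Z x) * gb := by
          simp [hgb]
        rw [h2, mul_assoc, ← h1]
        group
      · intro h y hy
        rw [Set.mem_singleton_iff.1 hy]
        rw [← QuotientGroup.eq_one_iff] at h
        have h2 : ((x⁻¹ * g⁻¹ * x * g : G) : G ⧸ Z)
            = (QuotientGroup.mk' Z x)⁻¹ * gb⁻¹ * (QuotientGroup.mk' Z x) * gb := by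
          simp [hgb]
        rw [h2] at h
        calc gb * (QuotientGroup.mk' Z x)
            = gb * (QuotientGroup.mk' Z x) *
              ((QuotientGroup.mk' Z x)⁻¹ * gb⁻¹ * (QuotientGroup.mk' Z x) * gb) := by
              rw [h, mul_one]
          _ = (QuotientGroup.mk' Z x) * gb := by group
    -- the homomorphism `K → Z`
    let φ : K →* Z :=
      { toFun := fun x => ⟨(x : G)⁻¹ * g⁻¹ * x * g, (hmemK x).1 x.2⟩
        map_one' := by
          apply Subtype.ext
          simp
        map_mul' := by
          intro x y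
          apply Subtype.ext
          have hx : (x : G)⁻¹ * g⁻¹ * x * g ∈ Z := (hmemK x).1 x.2
          have hc := Subgroup.mem_center_iff.1 hx
          simp only [Subgroup.coe_mul]
          calc ((x : G) * y)⁻¹ * g⁻¹ * (x * y) * g
              = (y : G)⁻¹ * ((x : G)⁻¹ * g⁻¹ * x * g) * (g⁻¹ * y * g) := by group
            _ = ((x : G)⁻¹ * g⁻¹ * x * g) * (y : G)⁻¹ * (g⁻¹ * y * g) := by
                rw [hc ((y : G)⁻¹)]
            _ = _ := by group }
    have hker : Nat.card φ.ker ≤ p ^ 2 := by
      refine le_trans ?_ hg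
      apply Nat.card_le_card_of_injective (fun x : φ.ker => (⟨x.1.1, by
        have h1 : φ x.1 = 1 := x.2
        have h2 : (x.1 : G)⁻¹ * g⁻¹ * x.1 * g = 1 := congrArg Subtype.val h1
        rw [hCg, Subgroup.mem_centralizer_iff]
        intro h hh
        rw [Set.mem_singleton_iff.1 hh]
        calc g * (x.1 : G) = (x.1 : G) * g * ((x.1 : G)⁻¹ * g⁻¹ * x.1 * g)⁻¹ := by group
          _ = (x.1 : G) * g := by rw [h2]; group⟩ : Cg))
      intro a b hab
      have := congrArg Subtype.val hab
      exact Subtype.ext (Subtype.ext this)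
    have hKcard : Nat.card K ≤ p ^ 2 * p := by
      have h1 := Subgroup.card_eq_card_quotient_mul_card_subgroup φ.ker
      have h2 : Nat.card (K ⧸ φ.ker) ≤ p := by
        rw [Nat.card_congr (QuotientGroup.quotientKerEquivRange φ).toEquiv, ← hZp]
        exact Subgroup.card_le_card_group _
      rw [h1, mul_comm]
      exact Nat.mul_le_mul hker h2
    have hcb : Nat.card (Subgroup.centralizer ({gb} : Set (G ⧸ Z))) ≤ p ^ 2 := by
      have h1 : Nat.card K = Nat.card (Subgroup.centralizer ({gb} : Set (G ⧸ Z))) * Nat.card Z := by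
        have h2 : K.index = (Subgroup.centralizer ({gb} : Set (G ⧸ Z))).index := by
          rw [hK]
          exact Subgroup.index_comap_of_surjective _ (QuotientGroup.mk'_surjective Z)
        have h3 := K.card_mul_index
        have h4 := (Subgroup.centralizer ({gb} : Set (G ⧸ Z))).card_mul_index
        have h5 := Z.card_eq_card_quotient_mul_card_subgroup
        rw [h2, h5, ← h4] at h3
        have hpos : 0 < (Subgroup.centralizer ({gb} : Set (G ⧸ Z))).index :=
          Nat.pos_of_ne_zero Subgroup.index_ne_zero_of_finite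
        have h6 : Nat.card K * (Subgroup.centralizer ({gb} : Set (G ⧸ Z))).index
            = (Nat.card (Subgroup.centralizer ({gb} : Set (G ⧸ Z))) * Nat.card Z)
              * (Subgroup.centralizer ({gb} : Set (G ⧸ Z))).index := by
          rw [h3]; ring
        exact Nat.eq_of_mul_eq_mul_right hpos h6
      rw [h1, hZp] at hKcard
      exact Nat.le_of_mul_le_mul_right hKcard hp.out.pos
    have hih := ih (G ⧸ Z) hQcard gb hcb
    -- lift
    have hmap : ((⊤ : Subgroup G).lowerCentralSeries m).map (QuotientGroup.mk' Z)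
        = (⊤ : Subgroup (G ⧸ Z)).lowerCentralSeries m := by
      rw [Subgroup.map_lowerCentralSeries, ← MonoidHom.range_eq_map,
        MonoidHom.range_eq_top.2 (QuotientGroup.mk'_surjective Z)]
    intro hbot
    rw [Subgroup.lowerCentralSeries_succ, Subgroup.commutator_eq_bot_iff_le_centralizer] at hbot
    apply hih
    rw [← hmap, eq_bot_iff]
    rintro _ ⟨x, hx, rfl⟩
    rw [Subgroup.mem_bot, QuotientGroup.mk'_apply, QuotientGroup.eq_one_iff]
    have := hbot hx
    rwa [Subgroup.coe_top, Subgroup.centralizer_univ] at this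

/-- **Suzuki**: a group of order `p ^ n`, `n ≥ 2`, with an element whose centralizer has order
at most `p ^ 2` has nilpotency class `n - 1`. -/
theorem lcs_ne_bot_of_card_centralizer {G : Type u} [Group G] [Finite G] {p : ℕ}
    [hp : Fact p.Prime] (n : ℕ) (hn : 2 ≤ n) (hG : Nat.card G = p ^ n) (g : G)
    (hg : Nat.card (Subgroup.centralizer ({g} : Set G)) ≤ p ^ 2) :
    (⊤ : Subgroup G).lowerCentralSeries (n - 2) ≠ ⊥ := by
  obtain ⟨m, rfl⟩ : ∃ m, n = m + 2 := ⟨n - 2, by omega⟩
  rw [Nat.add_sub_cancel]
  exact lcs_ne_bot_aux m G hG g hg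

/-- iteration of an automorphism along a commutator chain of length three. -/
theorem iter_formula {C : Type*} [Group C] (σ : MulAut C) (x x1 x2 x3 : C)
    (h1 : σ x = x * x1) (h2 : σ x1 = x1 * x2) (h3 : σ x2 = x2 * x3) (h4 : σ x3 = x3)
    (c12 : Commute x1 x2) (c23 : Commute x2 x3) (k : ℕ) :
    (σ ^ k) x = x * x1 ^ k * x2 ^ (k.choose 2) * x3 ^ (k.choose 3) := by
  induction k with
  | zero => simp
  | succ k ih =>
    rw [pow_succ', MulAut.mul_apply, ih]
    simp only [map_mul, map_pow, h1, h2, h3, h4]
    rw [c12.mul_pow, c23.mul_pow]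
    have e2 : (k + 1).choose 2 = k + k.choose 2 := by
      rw [Nat.choose_succ_succ, Nat.choose_one_right]
    have e3 : (k + 1).choose 3 = k.choose 2 + k.choose 3 := by
      rw [Nat.choose_succ_succ]
    rw [e2, e3, pow_succ' x1, pow_add x2, pow_add x3]
    simp only [mul_assoc]

end Cfsg.Agent.Helper4.Blk
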