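import Mathlib
import Cfsg.Agent.Helper4.BlkA
import Cfsg.Agent.Helper1.R2ChiefA

set_option autoImplicit false

/-!
The basic configuration for Blackburn's theorem: `N` normal elementary abelian of order `p ^ 2`,
`C = C_G(N)`, all elements of order `p` of `C` lie in `N`.
-/

namespace Cfsg.Agent.Helper4.Blk

open Cfsg Cfsg.Agent.Helper1

universe u

variable {G : Type u} [Group G]

/-- the configuration -/
structure Cfg (p : ℕ) (N C : Subgroup G) : Prop where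
  pG : IsPGroup p G
  nN : N.Normal
  cN : ∀ a ∈ N, ∀ b ∈ N, a * b = b * a
  eN : ∀ a ∈ N, a ^ p = 1
  cardN : Nat.card N = p ^ 2
  hC : C = Subgroup.centralizer (N : Set G)
  om : ∀ x ∈ C, x ^ p = 1 → x ∈ N

namespace Cfg

variable {p : ℕ} {N C : Subgroup G} (h : Cfg p N C)

include h

theorem N_le_C : N ≤ C := by
  intro a ha
  rw [h.hC, Subgroup.mem_centralizer_iff]
  intro b hb
  exact h.cN b hb a ha

theorem comm_of_mem {a c : G} (ha : a ∈ N) (hc : c ∈ C) : a * c = c * a := by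
  rw [h.hC, Subgroup.mem_centralizer_iff] at hc
  exact hc a ha

theorem C_normal : C.Normal := by
  haveI := h.nN
  rw [h.hC]
  infer_instance

theorem pcent {x : G} (hx : x ∈ C) (hxp : x ^ p = 1) {y : G} (hy : y ∈ C) : x * y = y * x :=
  h.comm_of_mem (h.om x hx hxp) hy

variable [Finite G] [hp : Fact p.Prime]

theorem mem_N_of_pow_eq (hp2 : p ≠ 2) {x y : G} (hx : x ∈ C) (hy : y ∈ C) (hxy : x ^ p = y ^ p) :
    x⁻¹ * y ∈ N := by
  apply h.om _ (C.mul_mem (C.inv_mem hx) hy)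
  exact pow_eq_pow_of_mem hp2 C (h.pG.to_subgroup C) (fun a ha hap b hb => h.pcent ha hap hb)
    hx hy hxy

theorem conj_pow_eq {x y : G} (hx : x ∈ C) (hxp : x ^ p ∈ N) (hy : y ∈ C) :
    (y⁻¹ * x * y) ^ p = x ^ p := by
  have h1 : (y⁻¹ * x * y) ^ p = y⁻¹ * x ^ p * y := by
    have := conj_pow (a := y⁻¹) (b := x) (i := p)
    simpa using this
  rw [h1, mul_assoc, h.comm_of_mem hxp hy]
  group

theorem comm_mem_N (hp2 : p ≠ 2) {x y : G} (hx : x ∈ C) (hxp : x ^ p ∈ N) (hy : y ∈ C) :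
    x⁻¹ * (y⁻¹ * x * y) ∈ N := by
  have hC := h.C_normal
  apply h.mem_N_of_pow_eq hp2 hx
  · have := hC.conj_mem x hx y⁻¹
    simpa using this
  · exact (h.conj_pow_eq hx hxp hy).symm

theorem mul_pow_of_mem (hp2 : p ≠ 2) {x y : G} (hx : x ∈ C) (hxp : x ^ p ∈ N) (hy : y ∈ C) :
    (x * y) ^ p = x ^ p * y ^ p := by
  -- the commutator `c = y x y⁻¹ x⁻¹` lies in `N`
  have h1 : x⁻¹ * (y * x * y⁻¹) ∈ N := by
    have := h.comm_mem_N hp2 hx hxp (C.inv_mem hy)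
    simpa using this
  set c : G := y * x * y⁻¹ * x⁻¹ with hc
  have hcN : c ∈ N := by
    have := h.nN.conj_mem _ h1 x
    have h2 : x * (x⁻¹ * (y * x * y⁻¹)) * x⁻¹ = c := by rw [hc]; group
    rwa [h2] at this
  have hcC : c ∈ C := h.N_le_C hcN
  -- work inside `C`
  have hcen : ∀ z : C, Commute (⟨c, hcC⟩ : C) z := by
    intro z
    apply Subtype.ext
    exact h.comm_of_mem hcN z.2
  have hyx : (⟨y, hy⟩ : C) * ⟨x, hx⟩ = ⟨c, hcC⟩ * ⟨x, hx⟩ * ⟨y, hy⟩ := by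
    apply Subtype.ext
    simp only [Subgroup.coe_mul, hc]
    group
  have h3 := mul_pow_of_central hcen hyx p
  have h4 := congrArg Subtype.val h3
  simp only [Subgroup.coe_mul, Subgroup.coe_pow] at h4
  rw [h4]
  have hdvd : p ∣ p.choose 2 := by
    apply hp.out.dvd_choose_self (by norm_num)
    have := hp.out.two_le
    omega
  obtain ⟨k, hk⟩ := hdvd
  rw [hk, pow_mul, h.eN c hcN, one_pow, mul_one]

/-- the subgroup `M = {x ∈ C | x ^ p ∈ N}` -/
def Msub (_h : Cfg p N C) (hp2 : p ≠ 2) : Subgroup G where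
  carrier := {x | x ∈ C ∧ x ^ p ∈ N}
  one_mem' := ⟨C.one_mem, by rw [one_pow]; exact N.one_mem⟩
  mul_mem' := by
    rintro a b ⟨ha, hap⟩ ⟨hb, hbp⟩
    refine ⟨C.mul_mem ha hb, ?_⟩
    rw [_h.mul_pow_of_mem hp2 ha hap hb]
    exact N.mul_mem hap hbp
  inv_mem' := by
    rintro a ⟨ha, hap⟩
    refine ⟨C.inv_mem ha, ?_⟩
    rw [inv_pow]
    exact N.inv_mem hap

theorem mem_Msub (hp2 : p ≠ 2) {x : G} : x ∈ h.Msub hp2 ↔ x ∈ C ∧ x ^ p ∈ N := Iff.rfl

end Cfg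

end Cfsg.Agent.Helper4.Blk
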