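import Mathlib
import Cfsg.Agent.Helper4.BlkC

set_option autoImplicit false

/-!
The configuration continued: `Z₀ = N ∩ Z(G)` and the subgroup `U` generated by the `p`-th powers
of `C`.
-/

namespace Cfsg.Agent.Helper4.Blk

open Cfsg Cfsg.Agent.Helper1

universe u

variable {G : Type u} [Group G]

/-- `Z₀ = N ∩ Z(G)` -/
def Z0 (N : Subgroup G) : Subgroup G := N ⊓ Subgroup.center G

/-- the subgroup generated by the `p`-th powers of `C` -/
def Usub (C : Subgroup G) (p : ℕ) : Subgroup G := Subgroup.closure {y | ∃ c ∈ C, c ^ p = y}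

theorem Z0_le (N : Subgroup G) : Z0 N ≤ N := inf_le_left

theorem Z0_central {N : Subgroup G} {z : G} (hz : z ∈ Z0 N) (g : G) : g * z = z * g :=
  Subgroup.mem_center_iff.1 hz.2 g

theorem Usub_le (C : Subgroup G) (p : ℕ) : Usub C p ≤ C := by
  rw [Usub, Subgroup.closure_le]
  rintro _ ⟨c, hc, rfl⟩
  exact C.pow_mem hc p

theorem pow_mem_Usub {C : Subgroup G} {p : ℕ} {c : G} (hc : c ∈ C) : c ^ p ∈ Usub C p :=
  Subgroup.subset_closure ⟨c, hc, rfl⟩

namespace Cfg

variable {p : ℕ} {N C : Subgroup G} (h : Cfg p N C)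

include h

variable [Finite G] [hp : Fact p.Prime]

theorem card_Z0 (hne : C ≠ ⊤) : Nat.card (Z0 N) = p := by
  haveI := h.nN
  have h1p := hp.out.one_lt
  have hNne : N ≠ ⊥ := by
    intro h0
    have := h.cardN
    rw [h0, Subgroup.card_bot] at this
    have := Nat.one_lt_pow (n := 2) (by norm_num) h1p
    omega
  obtain ⟨M, hMn, hMN, hcard⟩ := exists_normal_index_p_in_normal h.pG N hNne
  haveI := hMn
  have hMcard : Nat.card M = p := by
    rw [h.cardN, pow_two] at hcard
    exact (Nat.eq_of_mul_eq_mul_left hp.out.pos hcard).symm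
  have hMc := R2Chief.centralizer_eq_top_of_card_prime h.pG M hMcard
  have hMZ : M ≤ Z0 N := by
    intro m hm
    refine ⟨hMN hm, ?_⟩
    show m ∈ Subgroup.center G
    rw [Subgroup.mem_center_iff]
    intro g
    have hg : g ∈ Subgroup.centralizer (M : Set G) := hMc ▸ Subgroup.mem_top g
    rw [Subgroup.mem_centralizer_iff] at hg
    exact (hg m hm).symm
  have hdvd : Nat.card (Z0 N) ∣ p ^ 2 := by
    rw [← h.cardN]
    exact Subgroup.card_dvd_of_le (Z0_le N)
  obtain ⟨j, hj, hjc⟩ := (Nat.dvd_prime_pow hp.out).1 hdvd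
  have hMle := Subgroup.card_le_of_le hMZ
  rw [hMcard, hjc] at hMle
  interval_cases j
  · rw [pow_zero] at hMle; omega
  · rw [hjc, pow_one]
  · exfalso
    apply hne
    have hZN : Z0 N = N := by
      apply Subgroup.eq_of_le_of_card_ge (Z0_le N)
      rw [hjc, h.cardN]
    rw [h.hC, eq_top_iff]
    intro g _
    rw [Subgroup.mem_centralizer_iff]
    intro n hn
    rw [← hZN] at hn
    exact (Z0_central hn g).symm

theorem T_mem_Z0 (hne : C ≠ ⊤) {n : G} (hn : n ∈ N) (g : G) : n⁻¹ * (g⁻¹ * n * g) ∈ Z0 N := by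
  haveI := h.nN
  haveI : (Z0 N).Normal := by unfold Z0; infer_instance
  have hcard : Nat.card N = p * Nat.card (Z0 N) := by rw [h.card_Z0 hne, h.cardN, pow_two]
  have h1 := R2Chief.conj_mul_inv_mem_of_card_eq h.pG (Z0 N) N (Z0_le N) hcard g⁻¹ n hn
  rw [inv_inv] at h1
  have h2 := Z0_central h1 n⁻¹
  have h3 : n⁻¹ * (g⁻¹ * n * g) = n⁻¹ * (g⁻¹ * n * g * n⁻¹) * n := by group
  rw [h3, h2]
  simpa using h1

theorem mem_Z0_of_comm (hne : C ≠ ⊤) {g : G} (hg : g ∉ C) {n : G} (hn : n ∈ N)
    (hc : g * n = n * g) : n ∈ Z0 N := by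
  by_contra hn0
  have hcard : Nat.card N = p * Nat.card (Z0 N) := by rw [h.card_Z0 hne, h.cardN, pow_two]
  have h1 := R2Chief.sup_zpowers_eq_of_card_eq (Z0 N) N (Z0_le N) hcard n hn hn0
  apply hg
  rw [h.hC]
  have h2 : N ≤ Subgroup.centralizer ({g} : Set G) := by
    rw [← h1]
    apply sup_le
    · intro z hz
      rw [Subgroup.mem_centralizer_iff]
      intro y hy
      rw [Set.mem_singleton_iff.1 hy]
      exact Z0_central hz g
    · rw [Subgroup.zpowers_le, Subgroup.mem_centralizer_iff]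
      intro y hy
      rw [Set.mem_singleton_iff.1 hy]
      exact hc
  rw [Subgroup.mem_centralizer_iff]
  intro a ha
  have := h2 ha
  rw [Subgroup.mem_centralizer_iff] at this
  exact (this g rfl).symm

theorem Usub_normal : (Usub C p).Normal := by
  have hC := h.C_normal
  constructor
  intro n hn g
  unfold Usub at hn ⊢
  induction hn using Subgroup.closure_induction with
  | mem x hx =>
    obtain ⟨c, hc, rfl⟩ := hx
    apply Subgroup.subset_closure
    refine ⟨g * c * g⁻¹, hC.conj_mem c hc g, ?_⟩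
    rw [conj_pow]
  | one => simp
  | mul a b _ _ ha hb =>
    have : g * (a * b) * g⁻¹ = (g * a * g⁻¹) * (g * b * g⁻¹) := by group
    rw [this]
    exact Subgroup.mul_mem _ ha hb
  | inv a _ ha =>
    have : g * a⁻¹ * g⁻¹ = (g * a * g⁻¹)⁻¹ := by group
    rw [this]
    exact Subgroup.inv_mem _ ha

omit [Finite G] hp in
theorem Usub_comm [Finite G] [Fact p.Prime] (hp2 : p ≠ 2) {u x : G} (hu : u ∈ Usub C p)
    (hx : x ∈ C) (hxp : x ^ p ∈ N) : u * x = x * u := by
  have hle : Usub C p ≤ Subgroup.centralizer ({x} : Set G) := by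
    unfold Usub
    rw [Subgroup.closure_le]
    rintro _ ⟨c, hc, rfl⟩
    rw [SetLike.mem_coe, Subgroup.mem_centralizer_iff]
    intro y hy
    rw [Set.mem_singleton_iff.1 hy]
    -- `c⁻¹ x c = x d` with `d ∈ N`
    have hd := h.comm_mem_N hp2 hx hxp hc
    set d : G := x⁻¹ * (c⁻¹ * x * c) with hdd
    have hcd : c⁻¹ * x * c = x * d := by rw [hdd]; group
    have hk : ∀ k : ℕ, (c ^ k)⁻¹ * x * c ^ k = x * d ^ k := by
      intro k
      induction k with
      | zero => simp
      | succ k ih =>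
        calc (c ^ (k + 1))⁻¹ * x * c ^ (k + 1)
            = c⁻¹ * ((c ^ k)⁻¹ * x * c ^ k) * c := by rw [pow_succ]; group
          _ = c⁻¹ * (x * d ^ k) * c := by rw [ih]
          _ = (c⁻¹ * x * c) * (c⁻¹ * d ^ k * c) := by group
          _ = (x * d) * d ^ k := by
              rw [hcd]
              have : d ^ k * c = c * d ^ k := h.comm_of_mem (N.pow_mem hd k) hc
              rw [mul_assoc c⁻¹, this]
              group
          _ = x * d ^ (k + 1) := by rw [pow_succ']; group
    have h1 := hk p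
    rw [h.eN d hd, mul_one] at h1
    calc x * c ^ p = c ^ p * ((c ^ p)⁻¹ * x * c ^ p) := by group
      _ = c ^ p * x := by rw [h1]
  have := hle hu
  rw [Subgroup.mem_centralizer_iff] at this
  exact (this x rfl).symm

theorem card_C_le (hp2 : p ≠ 2) : Nat.card C ≤ p ^ 2 * Nat.card (Usub C p) := by
  have hpc : PCentral p C := by
    intro a ha b
    apply Subtype.ext
    have h1 : (a : G) ^ p = 1 := by
      have := congrArg Subtype.val ha
      simpa using this
    simpa using h.pcent a.2 h1 b.2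
  have h1 := card_le_mul_of_pows_mem hp2 (h.pG.to_subgroup C) hpc ((Usub C p).subgroupOf C)
    (by
      intro x
      rw [Subgroup.mem_subgroupOf, Subgroup.coe_pow]
      exact pow_mem_Usub x.2)
  rw [card_subgroupOf_of_le (Usub_le C p)] at h1
  refine h1.trans (Nat.mul_le_mul_right _ ?_)
  rw [← h.cardN]
  apply Nat.card_le_card_of_injective (fun x : {x : C // x ^ p = 1} =>
    (⟨x.1.1, h.om _ x.1.2 (by
      have := congrArg Subtype.val x.2
      simpa using this)⟩ : N))
  intro a b hab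
  have := congrArg Subtype.val hab
  exact Subtype.ext (Subtype.ext this)

theorem smallAgemo_of (hp2 : p ≠ 2) (hidx : C.index = p) {g : G} (hg : g ∉ C)
    (hgU : g ^ p ∉ Usub C p) : HuppertMeta.SmallAgemo p G := by
  have hC := h.C_normal
  intro T _ hT
  have hUT : Usub C p ≤ T := by
    unfold Usub
    rw [Subgroup.closure_le]
    rintro _ ⟨c, -, rfl⟩
    exact hT c
  have hgC : g ^ p ∈ C := by
    have := C.pow_index_mem g
    rwa [hidx] at this
  set V : Subgroup G := T ⊓ C with hV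
  have hUV : Usub C p ≤ V := le_inf hUT (Usub_le C p)
  have hgV : g ^ p ∈ V := ⟨hT g, hgC⟩
  have hdvd : Nat.card (Usub C p) ∣ Nat.card V := Subgroup.card_dvd_of_le hUV
  obtain ⟨m, hm⟩ := hdvd
  have hm1 : m ≠ 1 := by
    intro h1
    rw [h1, mul_one] at hm
    have := Subgroup.eq_of_le_of_card_ge hUV hm.le
    exact hgU (this ▸ hgV)
  have hpm : p ∣ m := by
    obtain ⟨j, hj⟩ := IsPGroup.iff_card.1 (h.pG.to_subgroup V)
    have hmd : m ∣ p ^ j := by rw [← hj, hm]; exact Dvd.intro_left _ rfl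
    obtain ⟨i, -, hi⟩ := (Nat.dvd_prime_pow hp.out).1 hmd
    rcases Nat.eq_zero_or_pos i with h0 | h0
    · rw [h0, pow_zero] at hi; exact absurd hi hm1
    · rw [hi]; exact dvd_pow_self p (by omega)
  have hVge : p * Nat.card (Usub C p) ≤ Nat.card V := by
    rw [hm, mul_comm]
    exact Nat.mul_le_mul_left _ (Nat.le_of_dvd (Nat.pos_of_ne_zero (by
      rintro rfl
      rw [mul_zero] at hm
      exact Nat.card_pos.ne' hm)) hpm)
  have hVT : Nat.card V ≤ Nat.card T := Subgroup.card_le_of_le inf_le_left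
  have h1 := C.card_mul_index
  rw [hidx] at h1
  have h2 := h.card_C_le hp2
  have h3 := T.card_mul_index
  have h4 : Nat.card T * T.index ≤ Nat.card T * p ^ 2 := by
    rw [h3, ← h1]
    calc Nat.card C * p ≤ p ^ 2 * Nat.card (Usub C p) * p := Nat.mul_le_mul_right _ h2
      _ = p ^ 2 * (p * Nat.card (Usub C p)) := by ring
      _ ≤ p ^ 2 * Nat.card V := Nat.mul_le_mul_left _ hVge
      _ ≤ p ^ 2 * Nat.card T := Nat.mul_le_mul_left _ hVT
      _ = Nat.card T * p ^ 2 := by ring
  exact Nat.le_of_mul_le_mul_left h4 Nat.card_pos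

end Cfg

end Cfsg.Agent.Helper4.Blk
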