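import Mathlib
import Cfsg.Agent.Helper4.BlkB
import Cfsg.Agent.Helper4.BlkD

set_option autoImplicit false

/-!
Case II of Blackburn's theorem: the `p`-th power map `M → N` is onto and some `g ∉ C` has
`g ^ p ∈ U`.  Then `p = 3` and `|C_G(g)| ≤ p ^ 2`.
-/

namespace Cfsg.Agent.Helper4.Blk

open Cfsg Cfsg.Agent.Helper1

universe u

variable {G : Type u} [Group G]

theorem conj_pow' (x g : G) (k : ℕ) : (g⁻¹ * x * g) ^ k = g⁻¹ * x ^ k * g := by
  have := conj_pow (a := g⁻¹) (b := x) (i := k)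
  simpa using this

namespace Cfg

variable {p : ℕ} {N C : Subgroup G} (h : Cfg p N C)

include h

variable [Finite G] [hp : Fact p.Prime]

/-- `Z₀` is generated by any of its nontrivial elements -/
theorem exists_pow_of_mem_Z0 (hne : C ≠ ⊤) {z w : G} (hz : z ∈ Z0 N) (hz1 : z ≠ 1)
    (hw : w ∈ Z0 N) : ∃ i : ℕ, w = z ^ i := by
  have hcard := h.card_Z0 hne
  have hzp : z ^ p = 1 := h.eN z (Z0_le N hz)
  have hord : orderOf z = p := by
    have h1 : orderOf z ∣ p := orderOf_dvd_of_pow_eq_one hzp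
    rcases (Nat.dvd_prime hp.out).1 h1 with h2 | h2
    · exact absurd (orderOf_eq_one_iff.1 h2) hz1
    · exact h2
  have hle : Subgroup.zpowers z ≤ Z0 N := Subgroup.zpowers_le.2 hz
  have heq : Subgroup.zpowers z = Z0 N := by
    apply Subgroup.eq_of_le_of_card_ge hle
    rw [Nat.card_zpowers, hord, hcard]
  rw [← heq, ← mem_powers_iff_mem_zpowers, Submonoid.mem_powers_iff] at hw
  obtain ⟨i, hi⟩ := hw
  exact ⟨i, hi.symm⟩

theorem exists_not_mem_Z0 (hne : C ≠ ⊤) : ∃ y ∈ N, y ∉ Z0 N := by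
  by_contra hcon
  push Not at hcon
  have hle : N ≤ Z0 N := hcon
  have h1 := Subgroup.card_le_of_le hle
  rw [h.cardN, h.card_Z0 hne] at h1
  have := hp.out.one_lt
  nlinarith

theorem conj_mem_C {x : G} (hx : x ∈ C) (g : G) : g⁻¹ * x * g ∈ C := by
  have := h.C_normal.conj_mem x hx g⁻¹
  simpa using this

theorem conj_mem_N {x : G} (hx : x ∈ N) (g : G) : g⁻¹ * x * g ∈ N := by
  have := h.nN.conj_mem x hx g⁻¹
  simpa using this

/-- the `p`-th power of `T x = x⁻¹ (g⁻¹ x g)` for `x ∈ M` -/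
theorem T_pow (hp2 : p ≠ 2) {x : G} (hx : x ∈ C) (hxp : x ^ p ∈ N) (g : G) :
    (x⁻¹ * (g⁻¹ * x * g)) ^ p = (x ^ p)⁻¹ * (g⁻¹ * x ^ p * g) := by
  have h1 : (x⁻¹) ^ p ∈ N := by rw [inv_pow]; exact N.inv_mem hxp
  rw [h.mul_pow_of_mem hp2 (C.inv_mem hx) h1 (h.conj_mem_C hx g), inv_pow, conj_pow']

theorem caseII (hp2 : p ≠ 2) (hidx : C.index = p) (hsurj : ∀ y ∈ N, ∃ x ∈ C, x ^ p = y)
    {g : G} (hg : g ∉ C) (hgU : g ^ p ∈ Usub C p) :
    p = 3 ∧ Nat.card (Subgroup.centralizer ({g} : Set G)) ≤ p ^ 2 := by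
  have hne : C ≠ ⊤ := fun h0 => hg (h0 ▸ Subgroup.mem_top g)
  have hCn := h.C_normal
  obtain ⟨y, hyN, hyZ⟩ := h.exists_not_mem_Z0 hne
  obtain ⟨x, hxC, hxy⟩ := hsurj y hyN
  have hxp : x ^ p ∈ N := hxy ▸ hyN
  -- the chain
  set x1 : G := x⁻¹ * (g⁻¹ * x * g) with hx1
  have hx1C : x1 ∈ C := C.mul_mem (C.inv_mem hxC) (h.conj_mem_C hxC g)
  have hx1p : x1 ^ p = y⁻¹ * (g⁻¹ * y * g) := by rw [hx1, h.T_pow hp2 hxC hxp g, hxy]
  have hzZ : x1 ^ p ∈ Z0 N := by rw [hx1p]; exact h.T_mem_Z0 hne hyN g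
  have hz1 : x1 ^ p ≠ 1 := by
    intro h0
    rw [hx1p] at h0
    apply hyZ
    apply h.mem_Z0_of_comm hne hg hyN
    have : g⁻¹ * y * g = y := by
      calc g⁻¹ * y * g = y * (y⁻¹ * (g⁻¹ * y * g)) := by group
        _ = y := by rw [h0, mul_one]
    calc g * y = g * (g⁻¹ * y * g) := by rw [this]
      _ = y * g := by group
  set z : G := x1 ^ p with hz
  have hzN : z ∈ N := Z0_le N hzZ
  set x2 : G := x1⁻¹ * (g⁻¹ * x1 * g) with hx2
  have hx2C : x2 ∈ C := C.mul_mem (C.inv_mem hx1C) (h.conj_mem_C hx1C g)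
  have hx2p : x2 ^ p = 1 := by
    rw [hx2, h.T_pow hp2 hx1C hzN g, ← hz]
    have : g⁻¹ * z * g = z := by
      have := Z0_central hzZ g
      calc g⁻¹ * z * g = g⁻¹ * (z * g) := by group
        _ = g⁻¹ * (g * z) := by rw [this]
        _ = z := by group
    rw [this, inv_mul_cancel]
  have hx2N : x2 ∈ N := h.om x2 hx2C hx2p
  set x3 : G := x2⁻¹ * (g⁻¹ * x2 * g) with hx3
  have hx3Z : x3 ∈ Z0 N := h.T_mem_Z0 hne hx2N g
  have hx3N : x3 ∈ N := Z0_le N hx3Z
  -- the automorphism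
  set σ : MulAut G := MulAut.conj g⁻¹ with hσ
  have hσa : ∀ a : G, σ a = g⁻¹ * a * g := by
    intro a
    rw [hσ, MulAut.conj_apply, inv_inv]
  have e1 : σ x = x * x1 := by rw [hσa, hx1]; group
  have e2 : σ x1 = x1 * x2 := by rw [hσa, hx2]; group
  have e3 : σ x2 = x2 * x3 := by rw [hσa, hx3]; group
  have e4 : σ x3 = x3 := by
    rw [hσa]
    have := Z0_central hx3Z g
    calc g⁻¹ * x3 * g = g⁻¹ * (x3 * g) := by group
      _ = g⁻¹ * (g * x3) := by rw [this]
      _ = x3 := by group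
  have c12 : Commute x1 x2 := (h.comm_of_mem hx2N hx1C).symm
  have c23 : Commute x2 x3 := Z0_central hx3Z x2
  have hit := iter_formula σ x x1 x2 x3 e1 e2 e3 e4 c12 c23 p
  have hσp : (σ ^ p) x = x := by
    rw [hσ, ← map_pow, MulAut.conj_apply, inv_pow, inv_inv]
    have := h.Usub_comm hp2 hgU hxC hxp
    calc (g ^ p)⁻¹ * x * g ^ p = (g ^ p)⁻¹ * (x * g ^ p) := by group
      _ = (g ^ p)⁻¹ * (g ^ p * x) := by rw [this]
      _ = x := by group
  have hdvd2 : p ∣ p.choose 2 := by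
    apply hp.out.dvd_choose_self (by norm_num)
    have := hp.out.two_le
    omega
  have hx2c : x2 ^ p.choose 2 = 1 := by
    obtain ⟨k, hk⟩ := hdvd2
    rw [hk, pow_mul, hx2p, one_pow]
  rw [hσp, hx2c, mul_one, ← hz] at hit
  have hrel : z * x3 ^ p.choose 3 = 1 := by
    have : x * (z * x3 ^ p.choose 3) = x * 1 := by
      rw [mul_one, ← mul_assoc]
      exact hit.symm
    exact mul_left_cancel this
  have hp3 : p = 3 := by
    by_contra hp3
    have h5 : 3 < p := by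
      have := hp.out.two_le
      omega
    have hdvd3 : p ∣ p.choose 3 := hp.out.dvd_choose_self (by norm_num) h5
    obtain ⟨k, hk⟩ := hdvd3
    rw [hk, pow_mul, h.eN x3 hx3N, one_pow, mul_one] at hrel
    exact hz1 hrel
  refine ⟨hp3, ?_⟩
  have hx3z : z * x3 = 1 := by
    have : p.choose 3 = 1 := by rw [hp3]; rfl
    rwa [this, pow_one] at hrel
  have hx3ne : x3 ≠ 1 := by
    intro h0
    rw [h0, mul_one] at hx3z
    exact hz1 hx3z
  -- the centralizer of `g` meets `C` in `Z₀`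
  have hkey : ∀ k : ℕ, ∀ d : G, orderOf d = k → d ∈ C → g * d = d * g → d ∈ Z0 N := by
    intro k
    induction k using Nat.strong_induction_on with
    | _ k ih =>
    intro d hdk hdC hdg
    by_cases hd1 : d = 1
    · rw [hd1]; exact (Z0 N).one_mem
    obtain ⟨j, hj⟩ := (IsPGroup.iff_orderOf.1 h.pG) d
    have hj0 : j ≠ 0 := by
      rintro rfl
      rw [pow_zero, orderOf_eq_one_iff] at hj
      exact hd1 hj
    have hpd : p ∣ orderOf d := by rw [hj]; exact dvd_pow_self p hj0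
    have hlt : orderOf (d ^ p) < k := by
      rw [orderOf_pow_of_dvd hp.out.ne_zero hpd, ← hdk]
      exact Nat.div_lt_self (orderOf_pos d) hp.out.one_lt
    have hdpZ : d ^ p ∈ Z0 N := by
      apply ih _ hlt (d ^ p) rfl (C.pow_mem hdC p)
      exact ((Commute.pow_right (show Commute g d from hdg) p)).eq
    by_contra hdZ
    have hdN : d ∉ N := fun hdN => hdZ (h.mem_Z0_of_comm hne hg hdN hdg)
    obtain ⟨i, hi⟩ := h.exists_pow_of_mem_Z0 hne hzZ hz1 hdpZ
    have hpi : ¬ p ∣ i := by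
      rintro ⟨m, rfl⟩
      rw [pow_mul, h.eN z hzN, one_pow] at hi
      exact hdN (h.om d hdC hi)
    have hpow : (x1 ^ i) ^ p = d ^ p := by rw [hi, hz, ← pow_mul, ← pow_mul, mul_comm]
    have hn := h.mem_N_of_pow_eq hp2 (C.pow_mem hx1C i) hdC hpow
    set n : G := (x1 ^ i)⁻¹ * d with hnn
    have hdn : d = x1 ^ i * n := by rw [hnn]; group
    have hσd : σ d = d := by
      rw [hσa]
      calc g⁻¹ * d * g = g⁻¹ * (d * g) := by group
        _ = g⁻¹ * (g * d) := by rw [hdg]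
        _ = d := by group
    have ht := h.T_mem_Z0 hne hn g
    set t : G := n⁻¹ * (g⁻¹ * n * g) with htt
    have hσn : σ n = n * t := by rw [hσa, htt]; group
    have h6 : x1 ^ i * x2 ^ i * (n * t) = x1 ^ i * n := by
      have h7 : σ d = x1 ^ i * x2 ^ i * (n * t) := by
        rw [hdn, map_mul, map_pow, e2, c12.mul_pow, hσn]
      rw [← h7, hσd, hdn]
    have h8 : x2 ^ i * (n * t) = n := by
      have : x1 ^ i * (x2 ^ i * (n * t)) = x1 ^ i * n := by rw [← mul_assoc]; exact h6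
      exact mul_left_cancel this
    have h9 : x2 ^ i = t⁻¹ := by
      have htn : n * t = t * n := Z0_central ht n
      rw [htn, ← mul_assoc] at h8
      have : x2 ^ i * t = 1 := by
        have : x2 ^ i * t * n = 1 * n := by rw [one_mul]; exact h8
        exact mul_right_cancel this
      exact eq_inv_of_mul_eq_one_left this
    have h10 : x2 ^ i ∈ Z0 N := by rw [h9]; exact (Z0 N).inv_mem ht
    have hcop : i.Coprime (orderOf x2) := by
      have h11 : orderOf x2 ∣ p := orderOf_dvd_of_pow_eq_one hx2p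
      have h12 : i.Coprime p := ((Nat.Prime.coprime_iff_not_dvd hp.out).2 hpi).symm
      exact Nat.Coprime.coprime_dvd_right h11 h12
    obtain ⟨m, hm⟩ := exists_pow_eq_self_of_coprime hcop
    have hx2Z : x2 ∈ Z0 N := by rw [← hm]; exact (Z0 N).pow_mem h10 m
    apply hx3ne
    rw [hx3]
    have := Z0_central hx2Z g
    calc x2⁻¹ * (g⁻¹ * x2 * g) = x2⁻¹ * (g⁻¹ * (x2 * g)) := by group
      _ = x2⁻¹ * (g⁻¹ * (g * x2)) := by rw [this]
      _ = 1 := by group
  set Cg : Subgroup G := Subgroup.centralizer ({g} : Set G) with hCg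
  have hinf : C ⊓ Cg ≤ Z0 N := by
    rintro d ⟨hdC, hdg⟩
    apply hkey _ d rfl hdC
    have hdg' : d ∈ Subgroup.centralizer ({g} : Set G) := hdg
    rw [Subgroup.mem_centralizer_iff] at hdg'
    exact hdg' g rfl
  have h1 : Nat.card (C.subgroupOf Cg) ≤ p := by
    rw [card_subgroupOf, ← h.card_Z0 hne]
    exact Subgroup.card_le_of_le hinf
  have h2 : (C.subgroupOf Cg).index ≤ p := by
    have : C.relIndex Cg ∣ C.index := Subgroup.relIndex_dvd_index_of_normal C Cg
    rw [hidx] at this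
    exact Nat.le_of_dvd hp.out.pos this
  have h3 := (C.subgroupOf Cg).card_mul_index
  rw [← h3, pow_two]
  exact Nat.mul_le_mul h1 h2

end Cfg

end Cfsg.Agent.Helper4.Blk
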