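import Mathlib
import Cfsg.Agent.Helper4.BlkE

set_option autoImplicit false

/-!
Case I of Blackburn's theorem: `C = ⟨c₀⟩ N`.  Basic facts: `C` is abelian, the map
`T a = a⁻¹ (g⁻¹ a g)` is an endomorphism of `C`, and `T C ≤ N` for every `g`.
-/

namespace Cfsg.Agent.Helper4.Blk

open Cfsg Cfsg.Agent.Helper1

universe u

variable {G : Type u} [Group G]

/-- `T_g a = a⁻¹ (g⁻¹ a g)` -/
def Tm (g a : G) : G := a⁻¹ * (g⁻¹ * a * g)

theorem conj_eq_mul_Tm (g a : G) : g⁻¹ * a * g = a * Tm g a := by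
  unfold Tm; group

theorem Tm_one (g : G) : Tm g (1 : G) = 1 := by unfold Tm; group

theorem Tm_eq_one_of_central {N : Subgroup G} {z : G} (g : G) (hz : z ∈ Z0 N) : Tm g z = 1 := by
  unfold Tm
  have := Z0_central hz g
  calc z⁻¹ * (g⁻¹ * z * g) = z⁻¹ * (g⁻¹ * (z * g)) := by group
    _ = z⁻¹ * (g⁻¹ * (g * z)) := by rw [this]
    _ = 1 := by group

/-- Case I: `C = ⟨c₀⟩ N` -/
structure CI (p : ℕ) (N C : Subgroup G) (c0 : G) : Prop where
  cfg : Cfg p N C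
  idx : C.index = p
  c0C : c0 ∈ C
  gen : ∀ c ∈ C, ∃ i : ℕ, ∃ n ∈ N, c = c0 ^ i * n

namespace CI

variable {p : ℕ} {N C : Subgroup G} {c0 : G} (h : CI p N C c0)

include h

variable [Finite G] [hp : Fact p.Prime]

theorem ne_top : C ≠ ⊤ := by
  intro h0
  have := h.idx
  rw [h0, Subgroup.index_top] at this
  exact hp.out.one_lt.ne this

theorem comm {a b : G} (ha : a ∈ C) (hb : b ∈ C) : a * b = b * a := by
  obtain ⟨i, n, hn, rfl⟩ := h.gen a ha
  obtain ⟨j, m, hm, rfl⟩ := h.gen b hb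
  have hnC := h.cfg.N_le_C hn
  have hmC := h.cfg.N_le_C hm
  have h1 : n * c0 ^ j = c0 ^ j * n := h.cfg.comm_of_mem hn (C.pow_mem h.c0C j)
  have h2 : m * c0 ^ i = c0 ^ i * m := h.cfg.comm_of_mem hm (C.pow_mem h.c0C i)
  have h3 : n * m = m * n := h.cfg.cN n hn m hm
  have h4 : c0 ^ i * c0 ^ j = c0 ^ j * c0 ^ i := by rw [← pow_add, ← pow_add, add_comm]
  calc c0 ^ i * n * (c0 ^ j * m) = c0 ^ i * (n * c0 ^ j) * m := by group
    _ = c0 ^ i * (c0 ^ j * n) * m := by rw [h1]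
    _ = (c0 ^ i * c0 ^ j) * (n * m) := by group
    _ = (c0 ^ j * c0 ^ i) * (m * n) := by rw [h4, h3]
    _ = c0 ^ j * (c0 ^ i * m) * n := by group
    _ = c0 ^ j * (m * c0 ^ i) * n := by rw [h2]
    _ = c0 ^ j * m * (c0 ^ i * n) := by group

theorem Tm_mem (g : G) {a : G} (ha : a ∈ C) : Tm g a ∈ C :=
  C.mul_mem (C.inv_mem ha) (h.cfg.conj_mem_C ha g)

theorem Tm_mul (g : G) {a b : G} (ha : a ∈ C) (hb : b ∈ C) : Tm g (a * b) = Tm g a * Tm g b := by
  unfold Tm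
  have h1 : g⁻¹ * (a * b) * g = (g⁻¹ * a * g) * (g⁻¹ * b * g) := by group
  have h2 := h.comm (C.inv_mem hb) (C.mul_mem (C.inv_mem ha) (h.cfg.conj_mem_C ha g))
  rw [h1, mul_inv_rev]
  calc b⁻¹ * a⁻¹ * (g⁻¹ * a * g * (g⁻¹ * b * g))
      = b⁻¹ * (a⁻¹ * (g⁻¹ * a * g)) * (g⁻¹ * b * g) := by group
    _ = (a⁻¹ * (g⁻¹ * a * g)) * b⁻¹ * (g⁻¹ * b * g) := by rw [h2]
    _ = _ := by group

theorem Tm_pow (g : G) {a : G} (ha : a ∈ C) (k : ℕ) : Tm g (a ^ k) = Tm g a ^ k := by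
  induction k with
  | zero => simp [Tm_one]
  | succ k ih => rw [pow_succ, h.Tm_mul g (C.pow_mem ha k) ha, ih, pow_succ]

theorem Tm_inv (g : G) {a : G} (ha : a ∈ C) : Tm g a⁻¹ = (Tm g a)⁻¹ := by
  have h1 := h.Tm_mul g ha (C.inv_mem ha)
  rw [mul_inv_cancel, Tm_one] at h1
  exact eq_inv_of_mul_eq_one_right h1.symm

theorem Tm_mem_Z0 (g : G) {n : G} (hn : n ∈ N) : Tm g n ∈ Z0 N :=
  h.cfg.T_mem_Z0 h.ne_top hn g

end CI

/-- the exponent sequences for the iteration `σ c₀ = c₀ a`, `σ a = a (a ^ j z₁)`, `σ z₁ = z₁` -/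
def eSeq (j : ℕ) : ℕ → ℕ
  | 0 => 0
  | k + 1 => 1 + (1 + j) * eSeq j k

/-- second exponent sequence -/
def fSeq (j : ℕ) : ℕ → ℕ
  | 0 => 0
  | k + 1 => eSeq j k + fSeq j k

theorem iter2 (σ : MulAut G) (c0 a z1 : G) (j : ℕ) (h1 : σ c0 = c0 * a)
    (h2 : σ a = a * (a ^ j * z1)) (h3 : σ z1 = z1) (hc : Commute a z1) (k : ℕ) :
    (σ ^ k) c0 = c0 * a ^ eSeq j k * z1 ^ fSeq j k := by
  induction k with
  | zero => simp [eSeq, fSeq]
  | succ k ih =>
    rw [pow_succ', MulAut.mul_apply, ih]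
    simp only [map_mul, map_pow, h1, h2, h3]
    have e1 : a * (a ^ j * z1) = a ^ (1 + j) * z1 := by rw [pow_add, pow_one]; group
    have hc' : Commute (a ^ (1 + j)) z1 := hc.pow_left _
    rw [e1, hc'.mul_pow, ← pow_mul]
    show _ = c0 * a ^ (1 + (1 + j) * eSeq j k) * z1 ^ (eSeq j k + fSeq j k)
    rw [pow_add a 1, pow_one, pow_add z1]
    simp only [mul_assoc]

theorem eSeq_closed (j k : ℕ) : j * eSeq j k + 1 = (1 + j) ^ k := by
  induction k with
  | zero => simp [eSeq]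
  | succ k ih =>
    rw [pow_succ, ← ih]
    simp only [eSeq]
    ring

theorem eSeq_fSeq_of_dvd {p j : ℕ} (hj : p ∣ j) (k : ℕ) :
    ∃ s t : ℕ, eSeq j k = k + j * k.choose 2 + p ^ 2 * s ∧ fSeq j k = k.choose 2 + p * t := by
  obtain ⟨j', rfl⟩ := hj
  induction k with
  | zero => exact ⟨0, 0, by simp [eSeq], by simp [fSeq]⟩
  | succ k ih =>
    obtain ⟨s, t, hs, ht⟩ := ih
    have hch : (k + 1).choose 2 = k + k.choose 2 := by
      rw [Nat.choose_succ_succ, Nat.choose_one_right]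
    refine ⟨s + j' ^ 2 * k.choose 2 + p * j' * s, j' * k.choose 2 + p * s + t, ?_, ?_⟩
    · simp only [eSeq]
      rw [hs, hch]
      ring
    · simp only [fSeq]
      rw [hs, ht, hch]
      ring

namespace CI

variable {p : ℕ} {N C : Subgroup G} {c0 : G} (h : CI p N C c0)

include h

variable [Finite G] [hp : Fact p.Prime]

theorem pow_p_mem_C (g : G) : g ^ p ∈ C := by
  haveI := h.cfg.C_normal
  have := C.pow_index_mem g
  rwa [h.idx] at this

/-- `g ^ p` acts trivially on `C` -/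
theorem conj_pow_p (g : G) {c : G} (hc : c ∈ C) : (g ^ p)⁻¹ * c * g ^ p = c := by
  have := h.comm hc (h.pow_p_mem_C g)
  calc (g ^ p)⁻¹ * c * g ^ p = (g ^ p)⁻¹ * (c * g ^ p) := by group
    _ = (g ^ p)⁻¹ * (g ^ p * c) := by rw [this]
    _ = c := by group

theorem eq_one_of_pow_eq_one {x : G} {m : ℕ} (hxm : x ^ m = 1) (hm : ¬ p ∣ m) : x = 1 := by
  obtain ⟨r, hr⟩ := (IsPGroup.iff_orderOf.1 h.cfg.pG) x
  have h1 : orderOf x ∣ m := orderOf_dvd_of_pow_eq_one hxm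
  rcases Nat.eq_zero_or_pos r with h0 | h0
  · rw [h0, pow_zero] at hr
    exact orderOf_eq_one_iff.1 hr
  · exfalso
    apply hm
    refine dvd_trans ?_ h1
    rw [hr]
    exact dvd_pow_self p (by omega)

theorem Tm_c0_mem_N (hp2 : p ≠ 2) (g : G) : Tm g c0 ∈ N := by
  set a : G := Tm g c0 with ha
  have haC : a ∈ C := h.Tm_mem g h.c0C
  obtain ⟨j, n1, hn1, haj⟩ := h.gen a haC
  set z1 : G := Tm g n1 with hz1
  have hz1Z : z1 ∈ Z0 N := h.Tm_mem_Z0 g hn1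
  have hz1p : z1 ^ p = 1 := h.cfg.eN z1 (Z0_le N hz1Z)
  have hTa : Tm g a = a ^ j * z1 := by
    conv_lhs => rw [haj]
    rw [h.Tm_mul g (C.pow_mem h.c0C j) (h.cfg.N_le_C hn1), h.Tm_pow g h.c0C]
  set σ : MulAut G := MulAut.conj g⁻¹ with hσ
  have hσa : ∀ b : G, σ b = g⁻¹ * b * g := by
    intro b
    rw [hσ, MulAut.conj_apply, inv_inv]
  have e1 : σ c0 = c0 * a := by rw [hσa, conj_eq_mul_Tm]
  have e2 : σ a = a * (a ^ j * z1) := by rw [hσa, conj_eq_mul_Tm, hTa]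
  have e3 : σ z1 = z1 := by rw [hσa, conj_eq_mul_Tm, Tm_eq_one_of_central g hz1Z, mul_one]
  have hc : Commute a z1 := (Z0_central hz1Z a)
  have hit := iter2 σ c0 a z1 j e1 e2 e3 hc p
  have hσp : (σ ^ p) c0 = c0 := by
    rw [hσ, ← map_pow, MulAut.conj_apply, inv_pow, inv_inv]
    exact h.conj_pow_p g h.c0C
  rw [hσp] at hit
  have hrel : a ^ eSeq j p * z1 ^ fSeq j p = 1 := by
    have : c0 * (a ^ eSeq j p * z1 ^ fSeq j p) = c0 * 1 := by
      rw [mul_one, ← mul_assoc]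
      exact hit.symm
    exact mul_left_cancel this
  have hap : a ^ p = 1 := by
    by_cases hj : p ∣ j
    · obtain ⟨s, t, hs, ht⟩ := eSeq_fSeq_of_dvd hj p
      have hdvd2 : p ∣ p.choose 2 := by
        apply hp.out.dvd_choose_self (by norm_num)
        have := hp.out.two_le
        omega
      obtain ⟨m, hm⟩ := hdvd2
      obtain ⟨j', hj'⟩ := hj
      have hf : z1 ^ fSeq j p = 1 := by
        rw [ht, hm, ← mul_add, pow_mul, hz1p, one_pow]
      rw [hf, mul_one] at hrel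
      have he : eSeq j p = p * (1 + p * (j' * m + s)) := by
        rw [hs, hm, hj']
        ring
      rw [he, pow_mul] at hrel
      apply h.eq_one_of_pow_eq_one hrel
      intro hd
      have : p ∣ 1 := (Nat.dvd_add_left (Dvd.intro _ rfl)).1 hd
      exact hp.out.one_lt.ne' (Nat.dvd_one.1 this)
    · have h1 : (a ^ p) ^ eSeq j p = 1 := by
        have h2 : a ^ eSeq j p = (z1 ^ fSeq j p)⁻¹ := eq_inv_of_mul_eq_one_left hrel
        rw [← pow_mul, mul_comm, pow_mul, h2, inv_pow, ← pow_mul, mul_comm, pow_mul, hz1p, one_pow,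
          inv_one]
      apply h.eq_one_of_pow_eq_one h1
      intro hd
      have hcl := eSeq_closed j p
      have h3 : ((j : ZMod p) * (eSeq j p : ZMod p) + 1) = (1 + (j : ZMod p)) ^ p := by
        have := congrArg (Nat.cast (R := ZMod p)) hcl
        push_cast at this
        exact this
      rw [ZMod.pow_card] at h3
      have h4 : (eSeq j p : ZMod p) = 0 := (ZMod.natCast_eq_zero_iff _ _).2 hd
      rw [h4, mul_zero, zero_add] at h3
      have h5 : (j : ZMod p) = 0 := by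
        have : (1 : ZMod p) = 1 + (j : ZMod p) := h3
        have h6 : (1 : ZMod p) + 0 = 1 + (j : ZMod p) := by rw [add_zero]; exact this
        exact (add_left_cancel h6).symm
      exact hj ((ZMod.natCast_eq_zero_iff _ _).1 h5)
  exact h.cfg.om a haC hap

theorem Tm_mem_N (hp2 : p ≠ 2) (g : G) {c : G} (hc : c ∈ C) : Tm g c ∈ N := by
  obtain ⟨i, n, hn, rfl⟩ := h.gen c hc
  rw [h.Tm_mul g (C.pow_mem h.c0C i) (h.cfg.N_le_C hn), h.Tm_pow g h.c0C]
  exact N.mul_mem (N.pow_mem (h.Tm_c0_mem_N hp2 g) i) (Z0_le N (h.Tm_mem_Z0 g hn))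

end CI

end Cfsg.Agent.Helper4.Blk
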