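import Mathlib
import Cfsg.Agent.Helper4.BlkF

set_option autoImplicit false

/-!
Case I continued: if `g ∉ C` has `g ^ p ∈ U`, then there is an element of order `p` outside `C`,
or `p = 3` and `|C_G(g)| ≤ 9`.
-/

namespace Cfsg.Agent.Helper4.Blk

open Cfsg Cfsg.Agent.Helper1

universe u

variable {G : Type u} [Group G]

theorem comm_id {c c1 c2 : G} (c01 : Commute c c1) (c02 : Commute c c2) (c12 : Commute c1 c2)
    (k a b : ℕ) :
    (c * c1) ^ k * (c1 * c2) ^ a * c2 ^ b * c = c ^ (k + 1) * c1 ^ (k + a) * c2 ^ (a + b) := by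
  rw [c01.mul_pow, c12.mul_pow]
  have e1 : c2 ^ b * c = c * c2 ^ b := ((c02.pow_right b).eq).symm
  have e2 : c2 ^ a * c = c * c2 ^ a := ((c02.pow_right a).eq).symm
  have e3 : c1 ^ a * c = c * c1 ^ a := ((c01.pow_right a).eq).symm
  have e4 : c1 ^ k * c = c * c1 ^ k := ((c01.pow_right k).eq).symm
  calc c ^ k * c1 ^ k * (c1 ^ a * c2 ^ a) * c2 ^ b * c
      = c ^ k * c1 ^ k * c1 ^ a * c2 ^ a * (c2 ^ b * c) := by simp only [mul_assoc]
    _ = c ^ k * c1 ^ k * c1 ^ a * (c2 ^ a * c) * c2 ^ b := by rw [e1]; simp only [mul_assoc]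
    _ = c ^ k * c1 ^ k * (c1 ^ a * c) * c2 ^ a * c2 ^ b := by rw [e2]; simp only [mul_assoc]
    _ = c ^ k * (c1 ^ k * c) * c1 ^ a * c2 ^ a * c2 ^ b := by rw [e3]; simp only [mul_assoc]
    _ = c ^ k * c * c1 ^ k * c1 ^ a * c2 ^ a * c2 ^ b := by rw [e4]; simp only [mul_assoc]
    _ = c ^ (k + 1) * c1 ^ (k + a) * c2 ^ (a + b) := by
        rw [pow_succ, pow_add, pow_add]; simp only [mul_assoc]

theorem mul_pow_formula (g c c1 c2 : G) (h1 : g⁻¹ * c * g = c * c1) (h2 : g⁻¹ * c1 * g = c1 * c2)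
    (h3 : g⁻¹ * c2 * g = c2) (c01 : Commute c c1) (c02 : Commute c c2) (c12 : Commute c1 c2)
    (k : ℕ) : (g * c) ^ k = g ^ k * (c ^ k * c1 ^ k.choose 2 * c2 ^ k.choose 3) := by
  induction k with
  | zero => simp
  | succ k ih =>
    have e2 : (k + 1).choose 2 = k + k.choose 2 := by
      rw [Nat.choose_succ_succ, Nat.choose_one_right]
    have e3 : (k + 1).choose 3 = k.choose 2 + k.choose 3 := by
      rw [Nat.choose_succ_succ]
    have hconj : g⁻¹ * (c ^ k * c1 ^ k.choose 2 * c2 ^ k.choose 3) * g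
        = (c * c1) ^ k * (c1 * c2) ^ k.choose 2 * c2 ^ k.choose 3 := by
      rw [← h1, ← h2, conj_pow', conj_pow']
      conv_rhs => rw [← h3]
      rw [conj_pow']
      group
    calc (g * c) ^ (k + 1) = (g * c) ^ k * (g * c) := pow_succ _ _
      _ = g ^ k * (c ^ k * c1 ^ k.choose 2 * c2 ^ k.choose 3) * (g * c) := by rw [ih]
      _ = g ^ (k + 1) * ((g⁻¹ * (c ^ k * c1 ^ k.choose 2 * c2 ^ k.choose 3) * g) * c) := by
          rw [pow_succ]; group
      _ = g ^ (k + 1) * ((c * c1) ^ k * (c1 * c2) ^ k.choose 2 * c2 ^ k.choose 3 * c) := by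
          rw [hconj]
      _ = _ := by rw [comm_id c01 c02 c12, e2, e3]

namespace CI

variable {p : ℕ} {N C : Subgroup G} {c0 : G} (h : CI p N C c0)

include h

variable [Finite G] [hp : Fact p.Prime]

/-- `(g c) ^ p = g ^ p (c ^ p (T² c) ^ C(p,3))` for `c ∈ C` -/
theorem mul_pow_p (hp2 : p ≠ 2) (g : G) {c : G} (hc : c ∈ C) :
    (g * c) ^ p = g ^ p * (c ^ p * (Tm g (Tm g c)) ^ p.choose 3) := by
  set c1 : G := Tm g c with hc1
  set c2 : G := Tm g c1 with hc2
  have hc1N : c1 ∈ N := h.Tm_mem_N hp2 g hc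
  have hc2Z : c2 ∈ Z0 N := h.Tm_mem_Z0 g hc1N
  have h1 : g⁻¹ * c * g = c * c1 := conj_eq_mul_Tm g c
  have h2 : g⁻¹ * c1 * g = c1 * c2 := conj_eq_mul_Tm g c1
  have h3 : g⁻¹ * c2 * g = c2 := by
    rw [conj_eq_mul_Tm, Tm_eq_one_of_central g hc2Z, mul_one]
  have c01 : Commute c c1 := (h.cfg.comm_of_mem hc1N hc).symm
  have c02 : Commute c c2 := Z0_central hc2Z c
  have c12 : Commute c1 c2 := Z0_central hc2Z c1
  rw [mul_pow_formula g c c1 c2 h1 h2 h3 c01 c02 c12 p]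
  have hdvd2 : p ∣ p.choose 2 := by
    apply hp.out.dvd_choose_self (by norm_num)
    have := hp.out.two_le
    omega
  obtain ⟨m, hm⟩ := hdvd2
  rw [hm, pow_mul, h.cfg.eN c1 hc1N, one_pow, mul_one]

/-- in Case I the elements of `U` are `p`-th powers -/
theorem exists_pow_of_mem_Usub {y : G} (hy : y ∈ Usub C p) : ∃ u ∈ C, u ^ p = y := by
  unfold Usub at hy
  induction hy using Subgroup.closure_induction with
  | mem x hx => exact hx
  | one => exact ⟨1, C.one_mem, one_pow p⟩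
  | mul a b _ _ ha hb =>
    obtain ⟨u, hu, rfl⟩ := ha
    obtain ⟨v, hv, rfl⟩ := hb
    refine ⟨u * v, C.mul_mem hu hv, ?_⟩
    exact (show Commute u v from h.comm hu hv).mul_pow p
  | inv a _ ha =>
    obtain ⟨u, hu, rfl⟩ := ha
    exact ⟨u⁻¹, C.inv_mem hu, inv_pow u p⟩

/-- the centralizer bound -/
theorem card_centralizer_le {g : G}
    (hinf : ∀ d ∈ C, g * d = d * g → d ∈ Z0 N) :
    Nat.card (Subgroup.centralizer ({g} : Set G)) ≤ p ^ 2 := by
  haveI := h.cfg.C_normal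
  set Cg : Subgroup G := Subgroup.centralizer ({g} : Set G) with hCg
  have hinf' : C ⊓ Cg ≤ Z0 N := by
    rintro d ⟨hdC, hdg⟩
    apply hinf d hdC
    have hdg' : d ∈ Subgroup.centralizer ({g} : Set G) := hdg
    rw [Subgroup.mem_centralizer_iff] at hdg'
    exact hdg' g rfl
  have h1 : Nat.card (C.subgroupOf Cg) ≤ p := by
    rw [card_subgroupOf, ← h.cfg.card_Z0 h.ne_top]
    exact Subgroup.card_le_of_le hinf'
  have h2 : (C.subgroupOf Cg).index ≤ p := by
    have : C.relIndex Cg ∣ C.index := Subgroup.relIndex_dvd_index_of_normal C Cg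
    rw [h.idx] at this
    exact Nat.le_of_dvd hp.out.pos this
  have h3 := (C.subgroupOf Cg).card_mul_index
  rw [← h3, pow_two]
  exact Nat.mul_le_mul h1 h2

theorem mul_not_mem {g c : G} (hg : g ∉ C) (hc : c ∈ C) : g * c ∉ C := by
  intro h0
  apply hg
  have := C.mul_mem h0 (C.inv_mem hc)
  simpa using this

end CI

end Cfsg.Agent.Helper4.Blk
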