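import Mathlib
import Cfsg.Agent.Helper4.BlkG

set_option autoImplicit false

/-!
Case I continued: existence of an element of order `p` outside `C`.
-/

namespace Cfsg.Agent.Helper4.Blk

open Cfsg Cfsg.Agent.Helper1

universe u

variable {G : Type u} [Group G]

theorem comm_of_Tm_eq_one {g d : G} (hT : Tm g d = 1) : g * d = d * g := by
  unfold Tm at hT
  have h1 : g⁻¹ * d * g = d := by
    calc g⁻¹ * d * g = d * (d⁻¹ * (g⁻¹ * d * g)) := by group
      _ = d := by rw [hT, mul_one]
  calc g * d = g * (g⁻¹ * d * g) := by rw [h1]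
    _ = d * g := by group

theorem Tm_eq_one_of_comm {g d : G} (hc : g * d = d * g) : Tm g d = 1 := by
  unfold Tm
  calc d⁻¹ * (g⁻¹ * d * g) = d⁻¹ * (g⁻¹ * (d * g)) := by group
    _ = d⁻¹ * (g⁻¹ * (g * d)) := by rw [hc]
    _ = 1 := by group

namespace CI

variable {p : ℕ} {N C : Subgroup G} {c0 : G} (h : CI p N C c0)

include h

variable [Finite G] [hp : Fact p.Prime]

theorem exists_order_p (hp2 : p ≠ 2) {g : G} (hg : g ∉ C) (hgU : g ^ p ∈ Usub C p) :
    (∃ x, x ∉ C ∧ x ^ p = 1) ∨
      (p = 3 ∧ Nat.card (Subgroup.centralizer ({g} : Set G)) ≤ p ^ 2) := by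
  have hne := h.ne_top
  obtain ⟨u, huC, hug⟩ := h.exists_pow_of_mem_Usub hgU
  by_cases hp3 : p = 3
  · by_cases hc0N : c0 ∈ N
    · left
      refine ⟨g, hg, ?_⟩
      obtain ⟨i, n, hn, rfl⟩ := h.gen u huC
      have : c0 ^ i * n ∈ N := N.mul_mem (N.pow_mem hc0N i) hn
      rw [← hug]
      exact h.cfg.eN _ this
    · set w : G := c0 ^ p with hw
      have hwC : w ∈ C := C.pow_mem h.c0C p
      have hw1 : w ≠ 1 := fun h0 => hc0N (h.cfg.om c0 h.c0C h0)
      set a : G := Tm g c0 with ha
      have haN : a ∈ N := h.Tm_c0_mem_N hp2 g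
      have haC : a ∈ C := h.cfg.N_le_C haN
      set z2 : G := Tm g a with hz2
      have hz2Z : z2 ∈ Z0 N := h.Tm_mem_Z0 g haN
      have hch3 : p.choose 3 = 1 := by rw [hp3]; rfl
      have hform : ∀ i : ℕ, (g * c0 ^ i) ^ p = g ^ p * (w * z2) ^ i := by
        intro i
        rw [h.mul_pow_p hp2 g (C.pow_mem h.c0C i), hch3, pow_one, h.Tm_pow g h.c0C,
          h.Tm_pow g haC, ← hz2]
        have hc : Commute w z2 := Z0_central hz2Z w
        rw [hc.mul_pow, hw, ← pow_mul, ← pow_mul, mul_comm i p]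
      obtain ⟨iu, nu, hnu, hu⟩ := h.gen u huC
      have hup : u ^ p = w ^ iu := by
        have hc : Commute (c0 ^ iu) nu :=
          (h.cfg.comm_of_mem hnu (C.pow_mem h.c0C iu)).symm
        rw [hu, hc.mul_pow, h.cfg.eN nu hnu, mul_one, hw, ← pow_mul, ← pow_mul, mul_comm]
      have hgw : g * w = w * g := by
        apply comm_of_Tm_eq_one
        rw [hw, h.Tm_pow g h.c0C]
        exact h.cfg.eN a haN
      set o : ℕ := orderOf w with ho
      obtain ⟨m, hm⟩ := (IsPGroup.iff_orderOf.1 h.cfg.pG) w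
      have hm0 : m ≠ 0 := by
        rintro rfl
        rw [pow_zero, orderOf_eq_one_iff] at hm
        exact hw1 hm
      have hpo : p ∣ o := by rw [ho, hm]; exact dvd_pow_self p hm0
      have hop : o / p * p = o := Nat.div_mul_cancel hpo
      have hopos : 0 < o := orderOf_pos w
      have hdivpos : 0 < o / p := Nat.div_pos (Nat.le_of_dvd hopos hpo) hp.out.pos
      set v : G := w ^ (o / p) with hv
      have hv1 : v ≠ 1 := by
        apply pow_ne_one_of_lt_orderOf hdivpos.ne'
        exact Nat.div_lt_self hopos hp.out.one_lt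
      have hvp : v ^ p = 1 := by rw [hv, ← pow_mul, hop, ho, pow_orderOf_eq_one]
      have hvC : v ∈ C := C.pow_mem hwC _
      have hvN : v ∈ N := h.cfg.om v hvC hvp
      have hgv : g * v = v * g := ((show Commute g w from hgw).pow_right _).eq
      have hvZ : v ∈ Z0 N := h.cfg.mem_Z0_of_comm hne hg hvN hgv
      obtain ⟨e, he⟩ := h.cfg.exists_pow_of_mem_Z0 hne hvZ hv1 hz2Z
      set q : ℕ := 1 + o / p * e with hq
      have hwz : w * z2 = w ^ q := by
        rw [he, hv, ← pow_mul, hq, pow_add, pow_one]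
      by_cases h3q : p ∣ q
      · right
        refine ⟨hp3, ?_⟩
        have h1 : ¬ p ∣ o / p := by
          intro hd
          have : p ∣ 1 := (Nat.dvd_add_left (dvd_mul_of_dvd_left hd e)).1 h3q
          exact hp.out.one_lt.ne' (Nat.dvd_one.1 this)
        have hm1 : m = 1 := by
          by_contra hm1
          apply h1
          have hm2 : 2 ≤ m := by omega
          obtain ⟨m', rfl⟩ : ∃ m', m = m' + 2 := ⟨m - 2, by omega⟩
          rw [ho, hm, pow_succ, Nat.mul_div_cancel _ hp.out.pos, pow_succ]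
          exact Dvd.intro_left _ rfl
        have hoeq : o = p := by rw [ho, hm, hm1, pow_one]
        have hwp : w ^ p = 1 := by rw [← hoeq, ho]; exact pow_orderOf_eq_one w
        have hwN : w ∈ N := h.cfg.om w hwC hwp
        have hwz1 : w * z2 = 1 := by
          obtain ⟨t, ht⟩ := h3q
          rw [hwz, ht, pow_mul, hwp, one_pow]
        have hz2ne : z2 ≠ 1 := by
          intro h0
          rw [h0, mul_one] at hwz1
          exact hw1 hwz1
        have ha0 : a ∉ Z0 N := fun h0 => hz2ne (Tm_eq_one_of_central g h0)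
        apply h.card_centralizer_le
        intro d hdC hdg
        obtain ⟨i, n, hn, rfl⟩ := h.gen d hdC
        have hT := Tm_eq_one_of_comm hdg
        rw [h.Tm_mul g (C.pow_mem h.c0C i) (h.cfg.N_le_C hn), h.Tm_pow g h.c0C] at hT
        have hai : a ^ i ∈ Z0 N := by
          have : a ^ i = (Tm g n)⁻¹ := eq_inv_of_mul_eq_one_left hT
          rw [this]
          exact (Z0 N).inv_mem (h.Tm_mem_Z0 g hn)
        have hpi : p ∣ i := by
          by_contra hpi
          apply ha0
          have hcop : i.Coprime (orderOf a) := by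
            have h11 : orderOf a ∣ p := orderOf_dvd_of_pow_eq_one (h.cfg.eN a haN)
            have h12 : i.Coprime p := ((Nat.Prime.coprime_iff_not_dvd hp.out).2 hpi).symm
            exact Nat.Coprime.coprime_dvd_right h11 h12
          obtain ⟨m2, hm2⟩ := exists_pow_eq_self_of_coprime hcop
          rw [← hm2]
          exact (Z0 N).pow_mem hai m2
        obtain ⟨i', rfl⟩ := hpi
        have hdN : c0 ^ (p * i') * n ∈ N := by
          rw [pow_mul, ← hw]
          exact N.mul_mem (N.pow_mem hwN i') hn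
        exact h.cfg.mem_Z0_of_comm hne hg hdN hdg
      · left
        have hcop : q.Coprime o := by
          rw [ho, hm]
          exact Nat.Coprime.pow_right m ((Nat.Prime.coprime_iff_not_dvd hp.out).2 h3q).symm
        obtain ⟨m', hm'⟩ := exists_pow_eq_self_of_coprime hcop
        refine ⟨g * c0 ^ (m' * (iu * (o - 1))), h.mul_not_mem hg (C.pow_mem h.c0C _), ?_⟩
        rw [hform, hwz, ← hug, hup, pow_mul, hm', ← pow_add]
        have : iu + iu * (o - 1) = iu * o := by
          obtain ⟨o', ho'⟩ : ∃ o', o = o' + 1 := ⟨o - 1, by omega⟩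
          rw [ho']
          simp only [Nat.add_sub_cancel]
          ring
        rw [this, mul_comm, pow_mul, ho, pow_orderOf_eq_one, one_pow]
  · left
    have h5 : 3 < p := by
      have := hp.out.two_le
      omega
    refine ⟨g * u⁻¹, h.mul_not_mem hg (C.inv_mem huC), ?_⟩
    rw [h.mul_pow_p hp2 g (C.inv_mem huC)]
    have hdvd3 : p ∣ p.choose 3 := hp.out.dvd_choose_self (by norm_num) h5
    obtain ⟨k, hk⟩ := hdvd3
    have hZ : Tm g (Tm g u⁻¹) ∈ Z0 N := h.Tm_mem_Z0 g (h.Tm_mem_N hp2 g (C.inv_mem huC))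
    rw [hk, pow_mul, h.cfg.eN _ (Z0_le N hZ), one_pow, mul_one, inv_pow, hug, mul_inv_cancel]

end CI

end Cfsg.Agent.Helper4.Blk
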