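import Mathlib
import Cfsg.Agent.Helper4.BlkH

set_option autoImplicit false

/-!
Case I continued: orders, and generation lemmas.
-/

namespace Cfsg.Agent.Helper4.Blk

open Cfsg Cfsg.Agent.Helper1

universe u

variable {G : Type u} [Group G]

namespace CI

variable {p : ℕ} {N C : Subgroup G} {c0 : G} (h : CI p N C c0)

include h

variable [Finite G] [hp : Fact p.Prime]

theorem card_C {n : ℕ} (hG : Nat.card G = p ^ n) : 1 ≤ n ∧ Nat.card C = p ^ (n - 1) := by
  have h1 := C.card_mul_index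
  rw [h.idx, hG] at h1
  have hn : 1 ≤ n := by
    rcases Nat.eq_zero_or_pos n with h0 | h0
    · exfalso
      rw [h0, pow_zero] at h1
      have := Nat.eq_one_of_mul_eq_one_left h1
      exact hp.out.one_lt.ne' this
    · exact h0
  refine ⟨hn, ?_⟩
  obtain ⟨m, rfl⟩ : ∃ m, n = m + 1 := ⟨n - 1, by omega⟩
  rw [pow_succ] at h1
  rw [Nat.add_sub_cancel]
  exact Nat.eq_of_mul_eq_mul_right hp.out.pos h1

theorem three_le {n : ℕ} (hG : Nat.card G = p ^ n) : 3 ≤ n := by
  obtain ⟨hn, hC⟩ := h.card_C hG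
  have h1 := Subgroup.card_le_of_le h.cfg.N_le_C
  rw [h.cfg.cardN, hC] at h1
  have := (Nat.pow_le_pow_iff_right hp.out.one_lt).1 h1
  omega

theorem Usub_le_zpowers : Usub C p ≤ Subgroup.zpowers (c0 ^ p) := by
  unfold Usub
  rw [Subgroup.closure_le]
  rintro _ ⟨c, hc, rfl⟩
  obtain ⟨i, n, hn, rfl⟩ := h.gen c hc
  have hcm : Commute (c0 ^ i) n := (h.cfg.comm_of_mem hn (C.pow_mem h.c0C i)).symm
  rw [SetLike.mem_coe, hcm.mul_pow, h.cfg.eN n hn, mul_one, ← pow_mul, mul_comm, pow_mul]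
  exact Subgroup.pow_mem _ (Subgroup.mem_zpowers _) _

/-- the order of the generator -/
theorem orderOf_c0 (hp2 : p ≠ 2) {n : ℕ} (hG : Nat.card G = p ^ n) (hc0 : c0 ∉ N) :
    orderOf c0 = p ^ (n - 2) := by
  obtain ⟨hn, hC⟩ := h.card_C hG
  have h3 := h.three_le hG
  have h1p := hp.out.one_lt
  obtain ⟨k, hk⟩ := (IsPGroup.iff_orderOf.1 h.cfg.pG) c0
  have hk0 : k ≠ 0 := by
    rintro rfl
    rw [pow_zero, orderOf_eq_one_iff] at hk
    exact hc0 (hk ▸ N.one_mem)
  -- lower bound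
  have hlow : n - 2 ≤ k := by
    have h1 := h.cfg.card_C_le hp2
    have h2 := Subgroup.card_le_of_le h.Usub_le_zpowers
    rw [Nat.card_zpowers, orderOf_pow_of_dvd hp.out.ne_zero (by rw [hk]; exact dvd_pow_self p hk0),
      hk] at h2
    have h4 : p ^ k / p = p ^ (k - 1) := by
      obtain ⟨k', rfl⟩ : ∃ k', k = k' + 1 := ⟨k - 1, by omega⟩
      rw [pow_succ, Nat.mul_div_cancel _ hp.out.pos, Nat.add_sub_cancel]
    rw [h4] at h2
    rw [hC] at h1
    have h5 : p ^ (n - 1) ≤ p ^ (2 + (k - 1)) := by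
      rw [pow_add]
      exact h1.trans (Nat.mul_le_mul_left _ h2)
    have := (Nat.pow_le_pow_iff_right h1p).1 h5
    omega
  -- upper bound
  have hup : k ≤ n - 2 := by
    have hle : Subgroup.zpowers c0 ≤ C := Subgroup.zpowers_le.2 h.c0C
    have h1 := Subgroup.card_le_of_le hle
    rw [Nat.card_zpowers, hk, hC] at h1
    have h2 := (Nat.pow_le_pow_iff_right h1p).1 h1
    by_contra hcon
    have hkn : k = n - 1 := by omega
    have heq : Subgroup.zpowers c0 = C := by
      apply Subgroup.eq_of_le_of_card_ge hle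
      rw [Nat.card_zpowers, hk, hC, hkn]
    -- then `N ≤ ⟨c0 ^ (o / p)⟩`
    have hpo : p ∣ orderOf c0 := by rw [hk]; exact dvd_pow_self p hk0
    have hNle : N ≤ Subgroup.zpowers (c0 ^ (orderOf c0 / p)) := by
      intro y hy
      have hyC : y ∈ Subgroup.zpowers c0 := heq ▸ h.cfg.N_le_C hy
      rw [← mem_powers_iff_mem_zpowers, Submonoid.mem_powers_iff] at hyC
      obtain ⟨i, rfl⟩ := hyC
      have h4 := h.cfg.eN _ hy
      rw [← pow_mul] at h4
      have h5 : orderOf c0 ∣ i * p := orderOf_dvd_of_pow_eq_one h4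
      have h6 : orderOf c0 / p ∣ i := by
        obtain ⟨t, ht⟩ := hpo
        rw [ht, Nat.mul_div_cancel_left _ hp.out.pos]
        rw [ht, mul_comm p t] at h5
        exact Nat.dvd_of_mul_dvd_mul_right hp.out.pos h5
      obtain ⟨t, rfl⟩ := h6
      rw [pow_mul]
      exact Subgroup.pow_mem _ (Subgroup.mem_zpowers _) _
    have h7 := Subgroup.card_le_of_le hNle
    rw [h.cfg.cardN, Nat.card_zpowers, orderOf_pow_of_dvd, Nat.div_div_self hpo (orderOf_pos c0).ne']
      at h7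
    · nlinarith
    · exact (Nat.div_pos (Nat.le_of_dvd (orderOf_pos c0) hpo) hp.out.pos).ne'
    · exact Nat.div_dvd_of_dvd hpo
  rw [hk]
  congr 1
  omega

/-- a subgroup containing `C` and an element outside `C` is everything -/
theorem eq_top_of {H : Subgroup G} (hN : N ≤ H) (hc0 : c0 ∈ H) {x : G} (hx : x ∈ H)
    (hxC : x ∉ C) : H = ⊤ := by
  have hCH : C ≤ H := by
    intro c hc
    obtain ⟨i, n, hn, rfl⟩ := h.gen c hc
    exact H.mul_mem (H.pow_mem hc0 i) (hN hn)
  have h1 : H.index ∣ p := by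
    rw [← h.idx]
    exact Subgroup.index_dvd_of_le hCH
  rcases (Nat.dvd_prime hp.out).1 h1 with h2 | h2
  · exact Subgroup.index_eq_one.1 h2
  · exfalso
    apply hxC
    have h3 := H.card_mul_index
    have h4 := C.card_mul_index
    rw [h2] at h3
    rw [h.idx, ← h3] at h4
    have h5 : Nat.card C = Nat.card H := Nat.eq_of_mul_eq_mul_right hp.out.pos h4
    have := Subgroup.eq_of_le_of_card_ge hCH h5.ge
    rw [this]
    exact hx

/-- `N` is generated by `Z₀` and any element outside `Z₀` -/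
theorem N_le_of {H : Subgroup G} {v Y : G} (hv : v ∈ Z0 N) (hv1 : v ≠ 1) (hvH : v ∈ H)
    (hY : Y ∈ N) (hY0 : Y ∉ Z0 N) (hYH : Y ∈ H) : N ≤ H := by
  have hne := h.ne_top
  have hcard : Nat.card N = p * Nat.card (Z0 N) := by
    rw [h.cfg.card_Z0 hne, h.cfg.cardN, pow_two]
  have h1 := R2Chief.sup_zpowers_eq_of_card_eq (Z0 N) N (Z0_le N) hcard Y hY hY0
  rw [← h1]
  apply sup_le
  · intro w hw
    obtain ⟨i, rfl⟩ := h.cfg.exists_pow_of_mem_Z0 hne hv hv1 hw
    exact H.pow_mem hvH i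
  · exact Subgroup.zpowers_le.2 hYH

end CI

end Cfsg.Agent.Helper4.Blk
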