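import Mathlib
import Cfsg.Agent.Helper4.BlkI

set_option autoImplicit false

/-!
Case I continued: the form (b) of Blackburn's theorem.
-/

namespace Cfsg.Agent.Helper4.Blk

open Cfsg Cfsg.Agent.Helper1

universe u

variable {G : Type u} [Group G]

/-- the form (b) -/
def FormB (p n : ℕ) (G : Type u) [Group G] : Prop :=
  3 ≤ n ∧ ∃ x y z : G, Subgroup.closure ({x, y, z} : Set G) = ⊤ ∧ x ^ p = 1 ∧ y ^ p = 1 ∧
    z ^ p ^ (n - 2) = 1 ∧ x * z = z * x ∧ y * z = z * y ∧ x⁻¹ * y * x = y * z ^ p ^ (n - 3)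

/-- the form (c) -/
def FormC (p n : ℕ) (G : Type u) [Group G] : Prop :=
  4 ≤ n ∧ ∃ (s : ℕ) (x y z : G), (s = 1 ∨ ¬ IsSquare (s : ZMod p)) ∧
    Subgroup.closure ({x, y, z} : Set G) = ⊤ ∧ x ^ p = 1 ∧ y ^ p = 1 ∧ z ^ p ^ (n - 2) = 1 ∧
    y * z = z * y ∧ x⁻¹ * y * x = y * z ^ (s * p ^ (n - 3)) ∧ x⁻¹ * z * x = y * z

namespace CI

variable {p : ℕ} {N C : Subgroup G} {c0 : G} (h : CI p N C c0)

include h

variable [Finite G] [hp : Fact p.Prime]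

/-- `T_x` is nontrivial on `N \ Z₀` -/
theorem Tm_ne_one {x Y : G} (hxC : x ∉ C) (hY : Y ∈ N) (hY0 : Y ∉ Z0 N) : Tm x Y ≠ 1 := by
  intro h0
  exact hY0 (h.cfg.mem_Z0_of_comm h.ne_top hxC hY (comm_of_Tm_eq_one h0))

theorem formB_small {n : ℕ} (hG : Nat.card G = p ^ n) (hc0N : c0 ∈ N) {x : G}
    (hxC : x ∉ C) (hxp : x ^ p = 1) : FormB p n G := by
  have hne := h.ne_top
  obtain ⟨hn, hC⟩ := h.card_C hG
  have hCN : C ≤ N := by
    intro c hc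
    obtain ⟨i, m, hm, rfl⟩ := h.gen c hc
    exact N.mul_mem (N.pow_mem hc0N i) hm
  have hn3 : n = 3 := by
    have h1 : Nat.card C = Nat.card N := le_antisymm (Subgroup.card_le_of_le hCN)
      (Subgroup.card_le_of_le h.cfg.N_le_C)
    rw [hC, h.cfg.cardN] at h1
    have := Nat.pow_right_injective hp.out.two_le h1
    omega
  obtain ⟨Y, hY, hY0⟩ := h.cfg.exists_not_mem_Z0 hne
  set z : G := Tm x Y with hz
  have hzZ : z ∈ Z0 N := h.Tm_mem_Z0 x hY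
  have hz1 : z ≠ 1 := h.Tm_ne_one hxC hY hY0
  refine ⟨by omega, x, Y, z, ?_, hxp, h.cfg.eN Y hY, ?_, Z0_central hzZ x, Z0_central hzZ Y, ?_⟩
  · set H : Subgroup G := Subgroup.closure ({x, Y, z} : Set G) with hH
    have hxH : x ∈ H := Subgroup.subset_closure (by simp)
    have hYH : Y ∈ H := Subgroup.subset_closure (by simp)
    have hzH : z ∈ H := Subgroup.subset_closure (by simp)
    have hNH : N ≤ H := h.N_le_of hzZ hz1 hzH hY hY0 hYH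
    exact h.eq_top_of hNH (hNH hc0N) hxH hxC
  · rw [hn3]
    show z ^ p ^ 1 = 1
    rw [pow_one]
    exact h.cfg.eN z (Z0_le N hzZ)
  · rw [hn3]
    show x⁻¹ * Y * x = Y * z ^ p ^ 0
    rw [pow_zero, pow_one, hz, conj_eq_mul_Tm]

theorem four_le (hp2 : p ≠ 2) {n : ℕ} (hG : Nat.card G = p ^ n) (hc0N : c0 ∉ N) : 4 ≤ n := by
  have ho := h.orderOf_c0 hp2 hG hc0N
  by_contra hcon
  have h3 := h.three_le hG
  have hn3 : n = 3 := by omega
  rw [hn3] at ho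
  have : c0 ^ p = 1 := by
    have := pow_orderOf_eq_one c0
    rwa [ho, show 3 - 2 = 1 from rfl, pow_one] at this
  exact hc0N (h.cfg.om c0 h.c0C this)

/-- the element `v = c₀ ^ (p ^ (n - 3))` of order `p` -/
theorem v_facts (hp2 : p ≠ 2) {n : ℕ} (hG : Nat.card G = p ^ n) (hc0N : c0 ∉ N) :
    (c0 ^ p ^ (n - 3)) ^ p = 1 ∧ c0 ^ p ^ (n - 3) ≠ 1 ∧ c0 ^ p ^ (n - 3) ∈ N ∧
      c0 ^ p ^ (n - 2) = 1 := by
  have ho := h.orderOf_c0 hp2 hG hc0N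
  have h4 := h.four_le hp2 hG hc0N
  have e1 : p ^ (n - 3) * p = p ^ (n - 2) := by
    rw [← pow_succ]
    congr 1
    omega
  have hv : (c0 ^ p ^ (n - 3)) ^ p = 1 := by
    rw [← pow_mul, e1, ← ho, pow_orderOf_eq_one]
  refine ⟨hv, ?_, h.cfg.om _ (C.pow_mem h.c0C _) hv, by rw [← ho, pow_orderOf_eq_one]⟩
  apply pow_ne_one_of_lt_orderOf (pow_pos hp.out.pos _).ne'
  rw [ho]
  exact Nat.pow_lt_pow_right hp.out.one_lt (by omega)

theorem formB_big (hp2 : p ≠ 2) {n : ℕ} (hG : Nat.card G = p ^ n) (hc0N : c0 ∉ N) {x : G}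
    (hxC : x ∉ C) (hxp : x ^ p = 1) (ha : Tm x c0 ∈ Z0 N) : FormB p n G := by
  have hne := h.ne_top
  obtain ⟨Y0, hY0, hY00⟩ := h.cfg.exists_not_mem_Z0 hne
  have hY0C : Y0 ∈ C := h.cfg.N_le_C hY0
  set t : G := Tm x Y0 with ht
  have htZ : t ∈ Z0 N := h.Tm_mem_Z0 x hY0
  have ht1 : t ≠ 1 := h.Tm_ne_one hxC hY0 hY00
  obtain ⟨e, he⟩ := h.cfg.exists_pow_of_mem_Z0 hne htZ ht1 ha
  set d : G := c0 * (Y0 ^ e)⁻¹ with hd
  have hYeC : Y0 ^ e ∈ C := C.pow_mem hY0C e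
  have hdC : d ∈ C := C.mul_mem h.c0C (C.inv_mem hYeC)
  have hTd : Tm x d = 1 := by
    rw [hd, h.Tm_mul x h.c0C (C.inv_mem hYeC), h.Tm_inv x hYeC, h.Tm_pow x hY0C, he,
      mul_inv_cancel]
  have hxd : x * d = d * x := comm_of_Tm_eq_one hTd
  have hc0d : c0 = d * Y0 ^ e := by rw [hd]; group
  have h' : CI p N C d := by
    refine ⟨h.cfg, h.idx, hdC, ?_⟩
    intro c hc
    obtain ⟨i, m, hm, rfl⟩ := h.gen c hc
    refine ⟨i, (Y0 ^ e) ^ i * m, N.mul_mem (N.pow_mem (N.pow_mem hY0 e) i) hm, ?_⟩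
    have hcm : Commute d (Y0 ^ e) := h.comm hdC hYeC
    rw [hc0d, hcm.mul_pow, mul_assoc]
  have hdN : d ∉ N := by
    intro h0
    apply hc0N
    rw [hc0d]
    exact N.mul_mem h0 (N.pow_mem hY0 e)
  obtain ⟨hvp, hv1, hvN, hdo⟩ := h'.v_facts hp2 hG hdN
  set v : G := d ^ p ^ (n - 3) with hv
  have hxv : x * v = v * x := ((show Commute x d from hxd).pow_right _).eq
  have hvZ : v ∈ Z0 N := h.cfg.mem_Z0_of_comm hne hxC hvN hxv
  obtain ⟨f, hf⟩ := h.cfg.exists_pow_of_mem_Z0 hne htZ ht1 hvZ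
  set Y : G := Y0 ^ f with hY
  have hYN : Y ∈ N := N.pow_mem hY0 f
  have hTY : Tm x Y = v := by rw [hY, h.Tm_pow x hY0C, hf]
  have hYZ : Y ∉ Z0 N := by
    intro h0
    rw [Tm_eq_one_of_central x h0] at hTY
    exact hv1 hTY.symm
  refine ⟨h.three_le hG, x, Y, d, ?_, hxp, h.cfg.eN Y hYN, hdo, hxd,
    h.comm (h.cfg.N_le_C hYN) hdC, ?_⟩
  · set H : Subgroup G := Subgroup.closure ({x, Y, d} : Set G) with hH
    have hxH : x ∈ H := Subgroup.subset_closure (by simp)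
    have hYH : Y ∈ H := Subgroup.subset_closure (by simp)
    have hdH : d ∈ H := Subgroup.subset_closure (by simp)
    have hNH : N ≤ H := h.N_le_of hvZ hv1 (H.pow_mem hdH _) hYN hYZ hYH
    exact h'.eq_top_of hNH hdH hxH hxC
  · rw [conj_eq_mul_Tm, hTY]

end CI

end Cfsg.Agent.Helper4.Blk
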