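import Mathlib
import Cfsg.Agent.Helper4.BlkJ

set_option autoImplicit false

/-!
Case I continued: the form (c) of Blackburn's theorem.
-/

namespace Cfsg.Agent.Helper4.Blk

open Cfsg Cfsg.Agent.Helper1

universe u

variable {G : Type u} [Group G]

/-- choice of the rescaling exponent -/
theorem exists_rescale {p : ℕ} [hp : Fact p.Prime] (s0 : ℕ) (hs0 : ¬ p ∣ s0) :
    ∃ i s : ℕ, ¬ p ∣ i ∧ (s = 1 ∨ ¬ IsSquare (s : ZMod p)) ∧ s0 * (i * i) ≡ s [MOD p] := by
  by_cases hsq : IsSquare (s0 : ZMod p)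
  · obtain ⟨r, hr⟩ := hsq
    have hr0 : r ≠ 0 := by
      rintro rfl
      rw [mul_zero] at hr
      exact hs0 ((ZMod.natCast_eq_zero_iff _ _).1 hr)
    refine ⟨(r⁻¹).val, 1, ?_, Or.inl rfl, ?_⟩
    · intro hd
      have := (ZMod.natCast_eq_zero_iff _ _).2 hd
      rw [ZMod.natCast_zmod_val] at this
      exact inv_ne_zero hr0 this
    · rw [← ZMod.natCast_eq_natCast_iff]
      push_cast
      rw [ZMod.natCast_zmod_val, hr]
      field_simp
  · refine ⟨1, s0, ?_, Or.inr hsq, by simp [Nat.ModEq]⟩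
    intro hd
    exact hp.out.one_lt.ne' (Nat.dvd_one.1 hd)

namespace CI

variable {p : ℕ} {N C : Subgroup G} {c0 : G} (h : CI p N C c0)

include h

variable [Finite G] [hp : Fact p.Prime]

theorem formC (hp2 : p ≠ 2) {n : ℕ} (hG : Nat.card G = p ^ n) {x : G}
    (hxC : x ∉ C) (hxp : x ^ p = 1) (ha : Tm x c0 ∉ Z0 N) : FormC p n G := by
  have hne := h.ne_top
  have hc0N : c0 ∉ N := fun h0 => ha (h.Tm_mem_Z0 x h0)
  have h4 := h.four_le hp2 hG hc0N
  obtain ⟨hvp, hv1, hvN, hc0o⟩ := h.v_facts hp2 hG hc0N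
  set a : G := Tm x c0 with haa
  have haN : a ∈ N := h.Tm_c0_mem_N hp2 x
  have haC : a ∈ C := h.cfg.N_le_C haN
  set v : G := c0 ^ p ^ (n - 3) with hv
  have hTv : Tm x v = 1 := by
    rw [hv, h.Tm_pow x h.c0C]
    obtain ⟨m, rfl⟩ : ∃ m, n = m + 4 := ⟨n - 4, by omega⟩
    have : m + 4 - 3 = m + 1 := by omega
    rw [this, pow_succ, mul_comm, pow_mul, h.cfg.eN a haN, one_pow]
  have hvZ : v ∈ Z0 N := h.cfg.mem_Z0_of_comm hne hxC hvN (comm_of_Tm_eq_one hTv)
  set t : G := Tm x a with ht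
  have htZ : t ∈ Z0 N := h.Tm_mem_Z0 x haN
  have ht1 : t ≠ 1 := h.Tm_ne_one hxC haN ha
  obtain ⟨s0, hs0⟩ := h.cfg.exists_pow_of_mem_Z0 hne hvZ hv1 htZ
  have hps0 : ¬ p ∣ s0 := by
    rintro ⟨m, rfl⟩
    rw [pow_mul, hvp, one_pow] at hs0
    exact ht1 hs0
  obtain ⟨i, s, hpi, hs, hmod⟩ := exists_rescale (p := p) s0 hps0
  have hov : orderOf v = p := by
    have h1 : orderOf v ∣ p := orderOf_dvd_of_pow_eq_one hvp
    rcases (Nat.dvd_prime hp.out).1 h1 with h2 | h2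
    · exact absurd (orderOf_eq_one_iff.1 h2) hv1
    · exact h2
  have hvs : v ^ (s0 * (i * i)) = v ^ s := by
    rw [pow_eq_pow_iff_modEq, hov]
    exact hmod
  -- the automorphism
  set σ : MulAut G := MulAut.conj x⁻¹ with hσ
  have hσa : ∀ b : G, σ b = x⁻¹ * b * x := by
    intro b
    rw [hσ, MulAut.conj_apply, inv_inv]
  have hσi : ∀ b : G, (σ ^ i) b = (x ^ i)⁻¹ * b * x ^ i := by
    intro b
    rw [hσ, ← map_pow, MulAut.conj_apply, inv_pow, inv_inv]
  have e1 : σ c0 = c0 * a := by rw [hσa, conj_eq_mul_Tm]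
  have e2 : σ a = a * t := by rw [hσa, conj_eq_mul_Tm]
  have e3 : σ t = t * 1 := by
    rw [hσa, conj_eq_mul_Tm, Tm_eq_one_of_central x htZ]
  have e4 : σ (1 : G) = 1 := map_one σ
  have e4' : σ (1 : G) = 1 * 1 := by rw [map_one, one_mul]
  have cat : Commute a t := Z0_central htZ a
  have it1 := iter_formula σ c0 a t 1 e1 e2 e3 e4 cat (Commute.one_right t) i
  have it2 := iter_formula σ a t 1 1 e2 e3 e4' e4 (Commute.one_right t) (Commute.one_right 1) i
  have it3 : (σ ^ i) t = t := by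
    rw [hσi]
    have := Z0_central htZ (x ^ i)
    calc (x ^ i)⁻¹ * t * x ^ i = (x ^ i)⁻¹ * (t * x ^ i) := by group
      _ = (x ^ i)⁻¹ * (x ^ i * t) := by rw [this]
      _ = t := by group
  simp only [one_pow, mul_one] at it1 it2
  set X : G := x ^ i with hX
  set Y : G := a ^ i * t ^ i.choose 2 with hY
  have htN : t ∈ N := Z0_le N htZ
  have hYN : Y ∈ N := N.mul_mem (N.pow_mem haN i) (N.pow_mem htN _)
  have hYC : Y ∈ C := h.cfg.N_le_C hYN
  have hXp : X ^ p = 1 := by rw [hX, ← pow_mul, mul_comm, pow_mul, hxp, one_pow]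
  have hXC : X ∉ C := by
    intro h0
    apply hxC
    have hcop : i.Coprime (orderOf x) := by
      have h11 : orderOf x ∣ p := orderOf_dvd_of_pow_eq_one hxp
      have h12 : i.Coprime p := ((Nat.Prime.coprime_iff_not_dvd hp.out).2 hpi).symm
      exact Nat.Coprime.coprime_dvd_right h11 h12
    obtain ⟨m, hm⟩ := exists_pow_eq_self_of_coprime hcop
    rw [← hm]
    exact C.pow_mem h0 m
  have hYZ : Y ∉ Z0 N := by
    intro h0
    apply ha
    have hai : a ^ i ∈ Z0 N := by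
      have : a ^ i = Y * (t ^ i.choose 2)⁻¹ := by rw [hY]; group
      rw [this]
      exact (Z0 N).mul_mem h0 ((Z0 N).inv_mem ((Z0 N).pow_mem htZ _))
    have hcop : i.Coprime (orderOf a) := by
      have h11 : orderOf a ∣ p := orderOf_dvd_of_pow_eq_one (h.cfg.eN a haN)
      have h12 : i.Coprime p := ((Nat.Prime.coprime_iff_not_dvd hp.out).2 hpi).symm
      exact Nat.Coprime.coprime_dvd_right h11 h12
    obtain ⟨m, hm⟩ := exists_pow_eq_self_of_coprime hcop
    rw [← hm]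
    exact (Z0 N).pow_mem hai m
  have hconjc0 : X⁻¹ * c0 * X = Y * c0 := by
    rw [← hσi, it1, hY, mul_assoc]
    exact (h.comm hYC h.c0C).symm
  have hconjY : X⁻¹ * Y * X = Y * c0 ^ (s * p ^ (n - 3)) := by
    rw [← hσi, hY, map_mul, map_pow, map_pow, it2, it3]
    have ct : Commute a (t ^ i) := cat.pow_right i
    rw [ct.mul_pow, ← pow_mul]
    have : t ^ (i * i) = c0 ^ (s * p ^ (n - 3)) := by
      rw [hs0, ← pow_mul, hvs, hv, ← pow_mul, mul_comm]
    rw [← this]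
    have c2 : Commute (t ^ (i * i)) (t ^ i.choose 2) := (Commute.refl t).pow_pow _ _
    rw [mul_assoc, c2.eq, ← mul_assoc]
  refine ⟨h4, s, X, Y, c0, hs, ?_, hXp, h.cfg.eN Y hYN, hc0o, h.comm hYC h.c0C, hconjY, hconjc0⟩
  set H : Subgroup G := Subgroup.closure ({X, Y, c0} : Set G) with hH
  have hXH : X ∈ H := Subgroup.subset_closure (by simp)
  have hYH : Y ∈ H := Subgroup.subset_closure (by simp)
  have hcH : c0 ∈ H := Subgroup.subset_closure (by simp)
  have hNH : N ≤ H := h.N_le_of hvZ hv1 (H.pow_mem hcH _) hYN hYZ hYH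
  exact h.eq_top_of hNH hcH hXH hXC

end CI

end Cfsg.Agent.Helper4.Blk
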