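import Mathlib
import Cfsg.Prelude.Def_CaseTheorems
import Cfsg.Agent.Helper4.BlkK

set_option autoImplicit false

/-!
Blackburn's theorem on `p`-groups of rank at most two, `p` odd: assembly.
-/

namespace Cfsg.Agent.Helper4.Blk

open Cfsg Cfsg.Agent.Helper1

universe u

variable {G : Type u} [Group G]

/-- the configuration from the rank hypothesis -/
theorem cfg_of_rank [Finite G] {p : ℕ} [hp : Fact p.Prime] (hPG : IsPGroup p G)
    (hrk : Cfsg.PRankLE p 2 G) (N : Subgroup G) (hNn : N.Normal)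
    (hNe : Cfsg.IsElementaryAbelian p N) (hNc : Nat.card N = p ^ 2) :
    Cfg p N (Subgroup.centralizer (N : Set G)) := by
  have hcN : ∀ a ∈ N, ∀ b ∈ N, a * b = b * a := by
    intro a ha b hb
    have := hNe.1.is_comm.comm (⟨a, ha⟩ : N) ⟨b, hb⟩
    exact congrArg Subtype.val this
  refine ⟨hPG, hNn, hcN, hNe.2, hNc, rfl, ?_⟩
  intro x hx hxp
  rw [Subgroup.mem_centralizer_iff] at hx
  set S : Set G := (N : Set G) ∪ {x} with hS
  have hcomm : ∀ a ∈ S, ∀ b ∈ S, a * b = b * a := by
    rintro a (ha | ha) b (hb | hb)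
    · exact hcN a ha b hb
    · rw [Set.mem_singleton_iff.1 hb]; exact hx a ha
    · rw [Set.mem_singleton_iff.1 ha]; exact (hx b hb).symm
    · rw [Set.mem_singleton_iff.1 ha, Set.mem_singleton_iff.1 hb]
  have hA : IsMulCommutative (Subgroup.closure S) := Subgroup.isMulCommutative_closure hcomm
  have hexp : ∀ a ∈ Subgroup.closure S, a ^ p = 1 := by
    intro a ha
    induction ha using Subgroup.closure_induction with
    | mem y hy =>
      rcases hy with hy | hy
      · exact hNe.2 y hy
      · rw [Set.mem_singleton_iff.1 hy]; exact hxp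
    | one => exact one_pow p
    | mul a b ha hb iha ihb =>
      have hc : Commute a b := by
        have := hA.is_comm.comm (⟨a, ha⟩ : Subgroup.closure S) ⟨b, hb⟩
        exact congrArg Subtype.val this
      rw [hc.mul_pow, iha, ihb, one_mul]
    | inv a _ iha => rw [inv_pow, iha, inv_one]
  have hcard := hrk (Subgroup.closure S) hA hexp
  have hNS : N ≤ Subgroup.closure S := by
    intro a ha
    exact Subgroup.subset_closure (Or.inl ha)
  have heq : N = Subgroup.closure S := by
    apply Subgroup.eq_of_le_of_card_ge hNS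
    rw [hNc]
    exact hcard
  rw [heq]
  exact Subgroup.subset_closure (Or.inr rfl)

/-- Case I structure from non-surjectivity of the `p`-th power map -/
theorem exists_CI [Finite G] {p : ℕ} [hp : Fact p.Prime] (hp2 : p ≠ 2) {N C : Subgroup G}
    (h : Cfg p N C) (hidx : C.index = p) (hns : ¬ ∀ y ∈ N, ∃ x ∈ C, x ^ p = y) :
    ∃ c0, CI p N C c0 := by
  -- the image of the `p`-th power map
  let S : Subgroup G :=
    { carrier := {y | y ∈ N ∧ ∃ x ∈ C, x ^ p = y}
      one_mem' := ⟨N.one_mem, 1, C.one_mem, one_pow p⟩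
      mul_mem' := by
        rintro a b ⟨ha, x, hx, rfl⟩ ⟨hb, y, hy, rfl⟩
        exact ⟨N.mul_mem ha hb, x * y, C.mul_mem hx hy, h.mul_pow_of_mem hp2 hx ha hy⟩
      inv_mem' := by
        rintro a ⟨ha, x, hx, rfl⟩
        exact ⟨N.inv_mem ha, x⁻¹, C.inv_mem hx, inv_pow x p⟩ }
  have hSN : S ≤ N := fun y hy => hy.1
  have hScard : Nat.card S ≤ p := by
    have hdvd : Nat.card S ∣ p ^ 2 := by
      rw [← h.cardN]
      exact Subgroup.card_dvd_of_le hSN
    obtain ⟨j, hj, hjc⟩ := (Nat.dvd_prime_pow hp.out).1 hdvd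
    interval_cases j
    · rw [hjc, pow_zero]; exact hp.out.one_lt.le
    · rw [hjc, pow_one]
    · exfalso
      apply hns
      have : S = N := by
        apply Subgroup.eq_of_le_of_card_ge hSN
        rw [hjc, h.cardN]
      intro y hy
      rw [← this] at hy
      exact hy.2
  haveI : (N.subgroupOf C).Normal := by
    haveI := h.nN
    infer_instance
  have hQ : IsPGroup p (C ⧸ N.subgroupOf C) :=
    (h.pG.to_subgroup C).to_quotient _
  have hcyc : IsCyclic (C ⧸ N.subgroupOf C) := by
    apply HuppertMeta.isCyclic_of_small_exp hp2 hQ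
    intro B hB
    refine le_trans ?_ hScard
    have hmem : ∀ b : B, ((Quotient.out (b : C ⧸ N.subgroupOf C) : C) : G) ^ p ∈ S := by
      intro b
      have h1 : (b : C ⧸ N.subgroupOf C) ^ p = 1 := hB b b.2
      have h2 : ((Quotient.out (b : C ⧸ N.subgroupOf C) : C) ^ p : C) ∈ N.subgroupOf C := by
        rw [← QuotientGroup.eq_one_iff, QuotientGroup.mk_pow, QuotientGroup.out_eq']
        exact h1
      rw [Subgroup.mem_subgroupOf, Subgroup.coe_pow] at h2
      exact ⟨h2, _, (Quotient.out (b : C ⧸ N.subgroupOf C) : C).2, rfl⟩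
    apply Nat.card_le_card_of_injective (fun b : B => (⟨_, hmem b⟩ : S))
    intro b b' hbb
    have h1 : ((Quotient.out (b : C ⧸ N.subgroupOf C) : C) : G) ^ p
        = ((Quotient.out (b' : C ⧸ N.subgroupOf C) : C) : G) ^ p := congrArg Subtype.val hbb
    have h2 := h.mem_N_of_pow_eq hp2 (Quotient.out (b : C ⧸ N.subgroupOf C) : C).2
      (Quotient.out (b' : C ⧸ N.subgroupOf C) : C).2 h1
    have h3 : (QuotientGroup.mk (Quotient.out (b : C ⧸ N.subgroupOf C)) : C ⧸ N.subgroupOf C)
        = QuotientGroup.mk (Quotient.out (b' : C ⧸ N.subgroupOf C)) := by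
      rw [QuotientGroup.eq, Subgroup.mem_subgroupOf]
      simpa using h2
    rw [QuotientGroup.out_eq', QuotientGroup.out_eq'] at h3
    exact Subtype.ext h3
  obtain ⟨q, hq⟩ := hcyc.exists_generator
  refine ⟨((Quotient.out q : C) : G), h, hidx, (Quotient.out q : C).2, ?_⟩
  intro c hc
  have h1 : (QuotientGroup.mk (⟨c, hc⟩ : C) : C ⧸ N.subgroupOf C) ∈ Subgroup.zpowers q := hq _
  rw [← mem_powers_iff_mem_zpowers, Submonoid.mem_powers_iff] at h1
  obtain ⟨i, hi⟩ := h1
  have h2 : (QuotientGroup.mk ((Quotient.out q : C) ^ i) : C ⧸ N.subgroupOf C)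
      = QuotientGroup.mk (⟨c, hc⟩ : C) := by
    rw [QuotientGroup.mk_pow, QuotientGroup.out_eq', hi]
  rw [QuotientGroup.eq, Subgroup.mem_subgroupOf] at h2
  refine ⟨i, _, h2, ?_⟩
  simp

end Cfsg.Agent.Helper4.Blk
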