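import Mathlib
import Cfsg.Agent.Helper4.BlkL

set_option autoImplicit false

/-!
Blackburn's theorem on `p`-groups of rank at most two, `p` odd.
-/

namespace Cfsg.Agent.Helper4.Blk

open Cfsg Cfsg.Agent.Helper1

universe u

theorem blackburn {G : Type u} [Group G] [Finite G] {p : ℕ} [hp : Fact p.Prime] (hp2 : p ≠ 2)
    (n : ℕ) (hG : Nat.card G = p ^ n) (hrk : Cfsg.PRankLE p 2 G) :
    Cfsg.IsMetacyclic G ∨ FormB p n G ∨ FormC p n G ∨
      (p = 3 ∧ 2 ≤ n ∧ (⊤ : Subgroup G).lowerCentralSeries (n - 2) ≠ ⊥) := by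
  have hPG : IsPGroup p G := IsPGroup.of_card hG
  have h1p := hp.out.one_lt
  by_cases hcyc : IsCyclic G
  · left
    refine ⟨⊤, inferInstance, ?_, ?_⟩
    · exact isCyclic_of_surjective Subgroup.topEquiv.symm.toMonoidHom
        Subgroup.topEquiv.symm.surjective
    · exact isCyclic_of_surjective (QuotientGroup.mk' (⊤ : Subgroup G))
        (QuotientGroup.mk'_surjective _)
  obtain ⟨N, hNn, hNe, hNc⟩ := exists_normal_elementary_p2_top hp2 hPG hcyc
  haveI := hNn
  set C : Subgroup G := Subgroup.centralizer (N : Set G) with hC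
  have cfg : Cfg p N C := cfg_of_rank hPG hrk N hNn hNe hNc
  have hCn : C.Normal := cfg.C_normal
  have h2n : 2 ≤ n := by
    have h1 := Subgroup.card_le_card_group N
    rw [hNc, hG] at h1
    exact (Nat.pow_le_pow_iff_right h1p).1 h1
  have hile : C.index ≤ p := R2Chief.index_centralizer_le_of_card_sq hPG N hNc
  have hidvd : C.index ∣ p ^ n := by rw [← hG]; exact Subgroup.index_dvd_card C
  obtain ⟨j, -, hj⟩ := (Nat.dvd_prime_pow hp.out).1 hidvd
  have hj1 : j ≤ 1 := by
    rw [hj] at hile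
    by_contra hcon
    have : p ^ 2 ≤ p ^ j := Nat.pow_le_pow_right hp.out.pos (by omega)
    nlinarith
  interval_cases j
  · -- `C = ⊤`
    left
    rw [pow_zero, Subgroup.index_eq_one] at hj
    have hpc : PCentral p G := by
      intro x hx y
      have hxC : x ∈ C := hj ▸ Subgroup.mem_top x
      have hyC : y ∈ C := hj ▸ Subgroup.mem_top y
      exact cfg.pcent hxC hx hyC
    apply isMetacyclic_of_pCentral hp2 hPG hpc
    rw [← hNc]
    apply Nat.card_le_card_of_injective (fun x : {x : G // x ^ p = 1} =>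
      (⟨x.1, cfg.om x.1 (hj ▸ Subgroup.mem_top x.1) x.2⟩ : N))
    intro a b hab
    have h0 : ((⟨a.1, cfg.om a.1 (hj ▸ Subgroup.mem_top a.1) a.2⟩ : N) : G)
        = ((⟨b.1, cfg.om b.1 (hj ▸ Subgroup.mem_top b.1) b.2⟩ : N) : G) :=
      congrArg Subtype.val hab
    exact Subtype.ext h0
  · rw [pow_one] at hj
    have hne : C ≠ ⊤ := by
      intro h0
      rw [h0, Subgroup.index_top] at hj
      exact h1p.ne hj
    by_cases hU : ∃ g, g ∉ C ∧ g ^ p ∉ Usub C p
    · obtain ⟨g, hg, hgU⟩ := hU
      left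
      exact HuppertMeta.isMetacyclic_of_smallAgemo hp2 hPG (cfg.smallAgemo_of hp2 hj hg hgU)
    · push Not at hU
      obtain ⟨g, hg⟩ : ∃ g, g ∉ C := by
        by_contra hcon
        push Not at hcon
        exact hne (eq_top_iff.2 fun x _ => hcon x)
      have hgU := hU g hg
      by_cases hsurj : ∀ y ∈ N, ∃ x ∈ C, x ^ p = y
      · obtain ⟨hp3, hcard⟩ := cfg.caseII hp2 hj hsurj hg hgU
        right; right; right
        exact ⟨hp3, h2n, lcs_ne_bot_of_card_centralizer n h2n hG g hcard⟩
      · obtain ⟨c0, hCI⟩ := exists_CI hp2 cfg hj hsurj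
        rcases hCI.exists_order_p hp2 hg hgU with ⟨x, hxC, hxp⟩ | ⟨hp3, hcard⟩
        · by_cases hc0N : c0 ∈ N
          · right; left
            exact hCI.formB_small hG hc0N hxC hxp
          · by_cases ha : Tm x c0 ∈ Z0 N
            · right; left
              exact hCI.formB_big hp2 hG hc0N hxC hxp ha
            · right; right; left
              exact hCI.formC hp2 hG hxC hxp ha
        · right; right; right
          exact ⟨hp3, h2n, lcs_ne_bot_of_card_centralizer n h2n hG g hcard⟩

end Cfsg.Agent.Helper4.Blk
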