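import Mathlib

set_option autoImplicit false

namespace Cfsg.Agent.Helper4

open Equiv

/-- If the supports of `x` and `y` meet exactly in the point `a`, the commutator
`x * y * x⁻¹ * y⁻¹` is a 3-cycle. -/
theorem isThreeCycle_commutator_of_support_inter {Ω : Type*} [Fintype Ω] [DecidableEq Ω]
    (x y : Perm Ω) (a : Ω) (hx : x a ≠ a) (hy : y a ≠ a)
    (h : ∀ p, x p ≠ p → y p ≠ p → p = a) :
    (x * y * x⁻¹ * y⁻¹).IsThreeCycle := by
  have F1 : ∀ p, p ≠ a → y p ≠ p → x p = p := by
    intro p hpa hyp
    by_contra hxp
    exact hpa (h p hxp hyp)
  have F2 : ∀ p, p ≠ a → x p ≠ p → y p = p := by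
    intro p hpa hxp
    by_contra hyp
    exact hpa (h p hxp hyp)
  have hba : x a ≠ a := hx
  have hca : y a ≠ a := hy
  have hxb : x (x a) ≠ x a := fun e => hx (x.injective e)
  have hyc : y (y a) ≠ y a := fun e => hy (y.injective e)
  have hbc : x a ≠ y a := by
    intro e
    have h1 : y (x a) = x a := F2 (x a) hba hxb
    rw [e] at h1
    exact hyc h1
  have key : x * y * x⁻¹ * y⁻¹ = swap a (y a) * swap a (x a) := by
    ext p
    simp only [Perm.mul_apply]
    obtain ⟨r, hr⟩ := y.surjective p
    have hyinv : y⁻¹ p = r := Perm.inv_eq_iff_eq.2 hr.symm
    rw [hyinv]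
    obtain ⟨s, hs⟩ := x.surjective r
    have hxinv : x⁻¹ r = s := Perm.inv_eq_iff_eq.2 hs.symm
    rw [hxinv]
    by_cases hpa : p = a
    · -- p = a
      have hra : r ≠ a := by
        intro e; rw [e, hpa] at hr; exact hy hr
      have hyr : y r ≠ r := by
        rw [hr, hpa]; exact fun e => hra e.symm
      have hxr : x r = r := F1 r hra hyr
      have hsr : s = r := x.injective (hs.trans hxr.symm)
      rw [hsr, hr, hpa, swap_apply_left, swap_apply_of_ne_of_ne hba hbc]
    · by_cases hpb : p = x a
      · -- p = b
        have hyp : y p = p := by rw [hpb]; exact F2 (x a) hba hxb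
        have hrp : r = p := y.injective (hr.trans hyp.symm)
        have hsa : s = a := x.injective (by rw [hs, hrp, hpb])
        have hxc : x (y a) = y a := F1 (y a) hca hyc
        rw [hsa, hxc, hpb, swap_apply_right, swap_apply_left]
      · by_cases hpc : p = y a
        · -- p = c
          have hra : r = a := y.injective (by rw [hr, hpc])
          have hsa : s ≠ a := by
            intro e; rw [e, hra] at hs; exact hx hs
          have hxs : x s ≠ s := by
            rw [hs, hra]; exact fun e => hsa e.symm
          have hys : y s = s := F2 s hsa hxs
          rw [hys, hs, hra, hpc, swap_apply_of_ne_of_ne hca (Ne.symm hbc), swap_apply_right]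
        · -- generic p
          rw [swap_apply_of_ne_of_ne hpa hpb, swap_apply_of_ne_of_ne hpa hpc]
          by_cases hyp : y p = p
          · have hrp : r = p := y.injective (hr.trans hyp.symm)
            by_cases hxp : x p = p
            · have hsp : s = p := x.injective (by rw [hs, hrp, hxp])
              rw [hsp, hyp, hxp]
            · have hsa : s ≠ a := by
                intro e; rw [e, hrp] at hs; exact hpb hs.symm
              have hxs : x s ≠ s := by
                intro e
                have hsp : s = p := e.symm.trans (hs.trans hrp)
                exact hxp (by rw [← hsp]; exact e)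
              have hys : y s = s := F2 s hsa hxs
              rw [hys, hs, hrp]
          · have hra : r ≠ a := by
              intro e; rw [e] at hr; exact hpc hr.symm
            have hyr : y r ≠ r := by
              intro e
              have hrp : r = p := e.symm.trans hr
              exact hyp (by rw [← hrp]; exact e)
            have hxr : x r = r := F1 r hra hyr
            have hsr : s = r := x.injective (hs.trans hxr.symm)
            have hxp : x p = p := F1 p hpa hyp
            rw [hsr, hr, hxp]
  rw [key]
  exact Equiv.Perm.isThreeCycle_swap_mul_swap_same (Ne.symm hca) (Ne.symm hba) (Ne.symm hbc)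

end Cfsg.Agent.Helper4
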