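import Cfsg.Agent.Helper4.BochertA

set_option autoImplicit false

namespace Cfsg.Agent.Helper4

open Equiv MulAction

section

variable {Ω : Type*} [Fintype Ω] [DecidableEq Ω]

/-- Bochert: a primitive group not containing the alternating group has a base of size at most
`n / 2`. -/
theorem exists_small_base (Γ : Subgroup (Perm Ω)) (hprim : IsPreprimitive Γ Ω)
    (hA : ¬ alternatingGroup Ω ≤ Γ) :
    ∃ Δ : Finset Ω, (∀ σ ∈ Γ, (∀ x ∈ Δ, σ x = x) → σ = 1) ∧ 2 * Δ.card ≤ Fintype.card Ω := by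
  classical
  obtain ⟨S, hS⟩ : ∃ S : Finset (Finset Ω), S = Finset.univ.filter
      (fun Δ : Finset Ω => ∀ σ ∈ Γ, (∀ x ∈ Δ, σ x = x) → σ = 1) := ⟨_, rfl⟩
  have hSne : S.Nonempty := by
    refine ⟨Finset.univ, ?_⟩
    rw [hS, Finset.mem_filter]
    refine ⟨Finset.mem_univ _, fun σ _ hσ => ?_⟩
    ext x
    exact hσ x (Finset.mem_univ x)
  obtain ⟨Δ, hΔS, hΔmin⟩ := Finset.exists_min_image S Finset.card hSne
  have hP : ∀ σ ∈ Γ, (∀ x ∈ Δ, σ x = x) → σ = 1 := by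
    rw [hS, Finset.mem_filter] at hΔS
    exact hΔS.2
  have hmin : ∀ Δ' : Finset Ω, Δ'.card < Δ.card →
      ∃ σ ∈ Γ, (∀ x ∈ Δ', σ x = x) ∧ σ ≠ 1 := by
    intro Δ' hlt
    by_contra hcon
    push Not at hcon
    have : Δ' ∈ S := by
      rw [hS, Finset.mem_filter]
      exact ⟨Finset.mem_univ _, hcon⟩
    have := hΔmin Δ' this
    omega
  refine ⟨Δ, hP, ?_⟩
  by_contra hlt
  push Not at hlt
  have hcompl : (Δᶜ).card < Δ.card := by
    rw [Finset.card_compl]
    have := Finset.card_le_univ Δ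
    omega
  obtain ⟨y, hyΓ, hyfix, hy1⟩ := hmin Δᶜ hcompl
  obtain ⟨a, hya⟩ : ∃ a, y a ≠ a := by
    by_contra hcon
    push Not at hcon
    exact hy1 (Perm.ext hcon)
  have haΔ : a ∈ Δ := by
    by_contra haΔ
    exact hya (hyfix a (Finset.mem_compl.2 haΔ))
  have herase : (Δ.erase a).card < Δ.card := Finset.card_erase_lt_of_mem haΔ
  obtain ⟨x, hxΓ, hxfix, hx1⟩ := hmin (Δ.erase a) herase
  have hxa : x a ≠ a := by
    intro hxa
    apply hx1
    apply hP x hxΓ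
    intro p hp
    by_cases hpa : p = a
    · rw [hpa]; exact hxa
    · exact hxfix p (Finset.mem_erase.2 ⟨hpa, hp⟩)
  have hinter : ∀ p, x p ≠ p → y p ≠ p → p = a := by
    intro p hxp hyp
    by_contra hpa
    by_cases hpΔ : p ∈ Δ
    · exact hxp (hxfix p (Finset.mem_erase.2 ⟨hpa, hpΔ⟩))
    · exact hyp (hyfix p (Finset.mem_compl.2 hpΔ))
  have h3 := isThreeCycle_commutator_of_support_inter x y a hxa hya hinter
  have hmem : x * y * x⁻¹ * y⁻¹ ∈ Γ :=
    Γ.mul_mem (Γ.mul_mem (Γ.mul_mem hxΓ hyΓ) (Γ.inv_mem hxΓ)) (Γ.inv_mem hyΓ)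
  exact hA (Equiv.Perm.alternatingGroup_le_of_isPreprimitive_of_isThreeCycle_mem hprim h3 hmem)

/-- a subgroup with a base `Δ` has order at most `n! / (n - |Δ|)!` -/
theorem card_mul_factorial_le (Γ : Subgroup (Perm Ω)) (Δ : Finset Ω)
    (hΔ : ∀ σ ∈ Γ, (∀ x ∈ Δ, σ x = x) → σ = 1) :
    Nat.card Γ * (Fintype.card Ω - Δ.card).factorial ≤ (Fintype.card Ω).factorial := by
  classical
  obtain ⟨T, hT⟩ : ∃ T : Subgroup (Perm Ω),
      T = (Perm.ofSubtype : Perm {x // x ∉ Δ} →* Perm Ω).range := ⟨_, rfl⟩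
  have hdisj : Disjoint Γ T := by
    rw [Subgroup.disjoint_def]
    intro σ hσΓ hσT
    apply hΔ σ hσΓ
    intro x hx
    rw [hT] at hσT
    obtain ⟨τ, rfl⟩ := hσT
    exact Perm.ofSubtype_apply_of_not_mem τ (not_not.2 hx)
  have hinj := Subgroup.mul_injective_of_disjoint hdisj
  have h1 := Nat.card_le_card_of_injective _ hinj
  rw [Nat.card_prod, Nat.card_perm, Nat.card_eq_fintype_card (α := Ω)] at h1
  have h2 : Nat.card T = (Fintype.card Ω - Δ.card).factorial := by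
    rw [hT, ← Nat.card_congr (MonoidHom.ofInjective Perm.ofSubtype_injective).toEquiv,
      Nat.card_perm, Nat.card_eq_fintype_card, Fintype.card_subtype_compl, Fintype.card_coe]
  rwa [h2] at h1

end

end Cfsg.Agent.Helper4
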