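import Mathlib

/-!
# Permutation groups containing a regular cyclic subgroup: Schur classes

Abstract setting: `e : ZMod n ≃ Ω`, translations `tr c ∈ G` with `tr c (e a) = e (c + a)`.
`rel c c'` : `c, c'` are in the same orbit of the stabilizer of `e 0`.
-/

set_option autoImplicit false
set_option linter.unusedSectionVars false

namespace Cfsg.Agent.Helper4.Burn

open Equiv

variable {n : ℕ} [NeZero n] {Ω : Type*}

/-- A regular cyclic structure inside `G`. -/
structure RegCyc (n : ℕ) [NeZero n] {Ω : Type*} (G : Subgroup (Equiv.Perm Ω)) where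
  e : ZMod n ≃ Ω
  tr : ZMod n → Equiv.Perm Ω
  tr_mem : ∀ c, tr c ∈ G
  tr_apply : ∀ c a, tr c (e a) = e (c + a)

variable {G : Subgroup (Equiv.Perm Ω)} (R : RegCyc n G)

/-- `c` and `c'` lie in the same orbit of the stabilizer of the base point. -/
def RegCyc.rel (c c' : ZMod n) : Prop :=
  ∃ g ∈ G, g (R.e 0) = R.e 0 ∧ g (R.e c) = R.e c'

theorem RegCyc.rel_refl (c : ZMod n) : R.rel c c :=
  ⟨1, G.one_mem, rfl, rfl⟩

theorem RegCyc.rel_symm {c c' : ZMod n} (h : R.rel c c') : R.rel c' c := by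
  obtain ⟨g, hg, h0, hc⟩ := h
  refine ⟨g⁻¹, G.inv_mem hg, ?_, ?_⟩
  · rw [Equiv.Perm.inv_eq_iff_eq]; exact h0.symm
  · rw [Equiv.Perm.inv_eq_iff_eq]; exact hc.symm

theorem RegCyc.rel_trans {c c' c'' : ZMod n} (h : R.rel c c') (h' : R.rel c' c'') :
    R.rel c c'' := by
  obtain ⟨g, hg, h0, hc⟩ := h
  obtain ⟨g', hg', h0', hc'⟩ := h'
  refine ⟨g' * g, G.mul_mem hg' hg, ?_, ?_⟩
  · rw [Equiv.Perm.mul_apply, h0, h0']
  · rw [Equiv.Perm.mul_apply, hc, hc']

theorem RegCyc.rel_zero_left {c : ZMod n} (h : R.rel 0 c) : c = 0 := by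
  obtain ⟨g, _, h0, hc⟩ := h
  rw [h0] at hc
  exact (R.e.injective hc).symm

theorem RegCyc.rel_zero_right {c : ZMod n} (h : R.rel c 0) : c = 0 :=
  R.rel_zero_left (R.rel_symm h)

/-- The permutation of `ZMod n` induced by `g`. -/
def RegCyc.ind (g : Equiv.Perm Ω) : Equiv.Perm (ZMod n) :=
  (R.e.trans g).trans R.e.symm

theorem RegCyc.e_ind (g : Equiv.Perm Ω) (a : ZMod n) : R.e (R.ind g a) = g (R.e a) := by
  simp [RegCyc.ind]

/-- The key difference lemma: every element of `G` preserves the classes of differences. -/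
theorem RegCyc.rel_diff {g : Equiv.Perm Ω} (hg : g ∈ G) (a b : ZMod n) :
    R.rel (b - a) (R.ind g b - R.ind g a) := by
  refine ⟨R.tr (-(R.ind g a)) * g * R.tr a,
    G.mul_mem (G.mul_mem (R.tr_mem _) hg) (R.tr_mem _), ?_, ?_⟩
  · rw [Equiv.Perm.mul_apply, Equiv.Perm.mul_apply, R.tr_apply, add_zero, ← R.e_ind,
      R.tr_apply, neg_add_cancel]
  · rw [Equiv.Perm.mul_apply, Equiv.Perm.mul_apply, R.tr_apply, add_sub_cancel, ← R.e_ind,
      R.tr_apply, neg_add_eq_sub]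

theorem RegCyc.rel_ind {g : Equiv.Perm Ω} (hg : g ∈ G) (h0 : g (R.e 0) = R.e 0) (a : ZMod n) :
    R.rel a (R.ind g a) :=
  ⟨g, hg, h0, (R.e_ind g a).symm⟩

theorem RegCyc.ind_zero {g : Equiv.Perm Ω} (h0 : g (R.e 0) = R.e 0) : R.ind g 0 = 0 := by
  apply R.e.injective
  rw [R.e_ind, h0]

theorem RegCyc.rel_neg {c c' : ZMod n} (h : R.rel c c') : R.rel (-c) (-c') := by
  obtain ⟨g, hg, h0, hc⟩ := h
  have := R.rel_diff hg c 0
  rw [R.ind_zero h0] at this
  have hc' : R.ind g c = c' := by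
    apply R.e.injective
    rw [R.e_ind, hc]
  rw [hc'] at this
  simpa using this

end Cfsg.Agent.Helper4.Burn
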