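import Cfsg.Agent.Helper4.BurnA

/-!
# Schur ring: class-invariant elements of the group algebra are closed under multiplication
-/

set_option autoImplicit false
set_option linter.unusedSectionVars false

namespace Cfsg.Agent.Helper4.Burn

open Equiv

variable {n : ℕ} [NeZero n] {Ω : Type*} {G : Subgroup (Equiv.Perm Ω)} (R : RegCyc n G)
variable {k : Type*} [CommSemiring k]

/-- class-invariant elements of the group algebra -/
def RegCyc.IsInv (a : AddMonoidAlgebra k (ZMod n)) : Prop :=
  ∀ c c', R.rel c c' → a.coeff c = a.coeff c'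

theorem coeff_mul_eq (a b : AddMonoidAlgebra k (ZMod n)) (c : ZMod n) :
    (a * b).coeff c = ∑ u : ZMod n, a.coeff u * b.coeff (-u + c) := by
  rw [AddMonoidAlgebra.coeff_mul_apply_left, Finsupp.sum_fintype]
  intro i
  simp

theorem RegCyc.IsInv.mul {a b : AddMonoidAlgebra k (ZMod n)} (ha : R.IsInv a) (hb : R.IsInv b) :
    R.IsInv (a * b) := by
  intro c c' hcc
  obtain ⟨g, hg, h0, hc⟩ := hcc
  have hσc : R.ind g c = c' := by
    apply R.e.injective
    rw [R.e_ind, hc]
  rw [coeff_mul_eq, coeff_mul_eq]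
  rw [← Equiv.sum_comp (R.ind g) (fun u => a.coeff u * b.coeff (-u + c'))]
  apply Finset.sum_congr rfl
  intro u _
  have h1 : a.coeff u = a.coeff (R.ind g u) := ha _ _ (R.rel_ind hg h0 u)
  have h2 : b.coeff (-u + c) = b.coeff (-(R.ind g u) + c') := by
    apply hb
    have := R.rel_diff hg u c
    rw [hσc] at this
    rw [neg_add_eq_sub, neg_add_eq_sub]
    exact this
  rw [h1, h2]

theorem RegCyc.IsInv.one : R.IsInv (1 : AddMonoidAlgebra k (ZMod n)) := by
  intro c c' hcc
  rw [AddMonoidAlgebra.one_def, AddMonoidAlgebra.coeff_single, Finsupp.single_apply,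
    Finsupp.single_apply]
  by_cases h : c = 0
  · have : c' = 0 := by rw [h] at hcc; exact R.rel_zero_left hcc
    rw [h, this]
  · have : c' ≠ 0 := by
      intro h'
      rw [h'] at hcc
      exact h (R.rel_zero_right hcc)
    rw [if_neg (Ne.symm h), if_neg (Ne.symm this)]

theorem RegCyc.IsInv.pow {a : AddMonoidAlgebra k (ZMod n)} (ha : R.IsInv a) (j : ℕ) :
    R.IsInv (a ^ j) := by
  induction j with
  | zero => rw [pow_zero]; exact RegCyc.IsInv.one R
  | succ j ih => rw [pow_succ]; exact ih.mul R ha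

/-- a finset of `ZMod n` which is a union of classes -/
def RegCyc.IsClosed (T : Finset (ZMod n)) : Prop :=
  ∀ c c', R.rel c c' → c ∈ T → c' ∈ T

theorem RegCyc.IsClosed.iff {T : Finset (ZMod n)} (hT : R.IsClosed T) {c c' : ZMod n}
    (h : R.rel c c') : c ∈ T ↔ c' ∈ T :=
  ⟨hT c c' h, hT c' c (R.rel_symm h)⟩

/-- the indicator element of a finset -/
noncomputable def tau (k : Type*) [CommSemiring k] (T : Finset (ZMod n)) :
    AddMonoidAlgebra k (ZMod n) :=
  ∑ t ∈ T, AddMonoidAlgebra.single t 1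

theorem coeff_tau (T : Finset (ZMod n)) (c : ZMod n) :
    (tau k T).coeff c = if c ∈ T then 1 else 0 := by
  unfold tau
  rw [AddMonoidAlgebra.coeff_sum, Finsupp.finsetSum_apply]
  simp only [AddMonoidAlgebra.coeff_single, Finsupp.single_apply]
  rw [Finset.sum_ite_eq' T c]

theorem RegCyc.IsClosed.isInv_tau {T : Finset (ZMod n)} (hT : R.IsClosed T) :
    R.IsInv (tau k T) := by
  intro c c' hcc
  rw [coeff_tau, coeff_tau]
  by_cases h : c ∈ T
  · rw [if_pos h, if_pos ((hT.iff R hcc).1 h)]
  · rw [if_neg h, if_neg (fun h' => h ((hT.iff R hcc).2 h'))]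

/-- structure constants are class functions -/
theorem RegCyc.card_filter_inv {T₁ T₂ : Finset (ZMod n)} (h₁ : R.IsClosed T₁)
    (h₂ : R.IsClosed T₂) {c c' : ZMod n} (hcc : R.rel c c') :
    (T₁.filter (fun u => -u + c ∈ T₂)).card = (T₁.filter (fun u => -u + c' ∈ T₂)).card := by
  have key := ((h₁.isInv_tau R (k := ℕ)).mul R (h₂.isInv_tau R (k := ℕ))) c c' hcc
  rw [coeff_mul_eq, coeff_mul_eq] at key
  simp only [coeff_tau] at key
  have e : ∀ d : ZMod n, (∑ u : ZMod n, (if u ∈ T₁ then 1 else 0) * (if -u + d ∈ T₂ then 1 else 0))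
      = (T₁.filter (fun u => -u + d ∈ T₂)).card := by
    intro d
    rw [Finset.card_filter, ← Finset.sum_filter_add_sum_filter_not Finset.univ (fun u => u ∈ T₁)]
    have z : ∑ u ∈ Finset.univ.filter (fun u => ¬ u ∈ T₁),
        (if u ∈ T₁ then 1 else 0) * (if -u + d ∈ T₂ then 1 else 0) = 0 := by
      apply Finset.sum_eq_zero
      intro u hu
      rw [Finset.mem_filter] at hu
      rw [if_neg hu.2, zero_mul]
    rw [z, add_zero]
    have : Finset.univ.filter (fun u => u ∈ T₁) = T₁ := by
      ext u; simp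
    rw [this]
    apply Finset.sum_congr rfl
    intro u hu
    rw [if_pos hu, one_mul]
  rw [e c, e c'] at key
  exact key

end Cfsg.Agent.Helper4.Burn
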