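import Cfsg.Agent.Helper4.BurnB

/-!
# Frobenius in the Schur ring modulo `p`
-/

set_option autoImplicit false
set_option linter.unusedSectionVars false

namespace Cfsg.Agent.Helper4.Burn

open Equiv

variable {n : ℕ} [NeZero n] {Ω : Type*} {G : Subgroup (Equiv.Perm Ω)} (R : RegCyc n G)

theorem charP_alg (p : ℕ) [Fact p.Prime] : CharP (AddMonoidAlgebra (ZMod p) (ZMod n)) p := by
  apply charP_of_injective_algebraMap (R := ZMod p)
  intro a b h
  have := congrArg (fun x => x.coeff 0) h
  simpa [AddMonoidAlgebra.algebraMap_def] using this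

theorem tau_pow_char (p : ℕ) [Fact p.Prime] (T : Finset (ZMod n)) :
    (tau (ZMod p) T) ^ p = ∑ t ∈ T, AddMonoidAlgebra.single (p • t) (1 : ZMod p) := by
  have := charP_alg (n := n) p
  unfold tau
  rw [sum_pow_char p T]
  apply Finset.sum_congr rfl
  intro t _
  rw [AddMonoidAlgebra.single_pow, one_pow]

theorem coeff_tau_pow_char (p : ℕ) [Fact p.Prime] (T : Finset (ZMod n)) (c : ZMod n) :
    ((tau (ZMod p) T) ^ p).coeff c = ((T.filter (fun t => p • t = c)).card : ZMod p) := by
  rw [tau_pow_char, AddMonoidAlgebra.coeff_sum, Finsupp.finsetSum_apply]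
  simp only [AddMonoidAlgebra.coeff_single, Finsupp.single_apply]
  rw [Finset.card_filter, Nat.cast_sum]
  apply Finset.sum_congr rfl
  intro t _
  split_ifs <;> simp

/-- Frobenius: the number of `p`-th roots of `c` in a closed set, modulo `p`, is a class function -/
theorem RegCyc.card_roots_inv (p : ℕ) [Fact p.Prime] {T : Finset (ZMod n)} (hT : R.IsClosed T)
    {c c' : ZMod n} (hcc : R.rel c c') :
    ((T.filter (fun t => p • t = c)).card : ZMod p)
      = ((T.filter (fun t => p • t = c')).card : ZMod p) := by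
  have key := ((hT.isInv_tau R (k := ZMod p)).pow R p) c c' hcc
  rwa [coeff_tau_pow_char, coeff_tau_pow_char] at key

end Cfsg.Agent.Helper4.Burn
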