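import Cfsg.Agent.Helper4.BurnC

/-!
# Blocks from class-closed subgroups and from class-closed sets inside proper subgroups
-/

set_option autoImplicit false
set_option linter.unusedSectionVars false

namespace Cfsg.Agent.Helper4.Burn

open Equiv
open scoped Pointwise

variable {n : ℕ} [NeZero n] {Ω : Type*} {G : Subgroup (Equiv.Perm Ω)} (R : RegCyc n G)

/-- A class of a `G`-invariant equivalence relation is a block. -/
theorem isBlock_of_invariant_rel (r : Ω → Ω → Prop) (hr : Equivalence r)
    (hinv : ∀ g ∈ G, ∀ a b, r a b → r (g a) (g b)) (ω : Ω) :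
    MulAction.IsBlock G {x | r ω x} := by
  rw [MulAction.isBlock_iff_smul_eq_of_mem]
  intro g a ha hga
  have ha' : r ω a := ha
  have hga' : r ω ((g : Equiv.Perm Ω) a) := hga
  ext x
  constructor
  · rintro ⟨b, hb, rfl⟩
    have hb' : r ω b := hb
    have h1 : r a b := hr.trans (hr.symm ha') hb'
    have h2 := hinv g g.2 a b h1
    exact hr.trans hga' h2
  · intro hx
    have hx' : r ω x := hx
    rw [Set.mem_smul_set]
    refine ⟨(g : Equiv.Perm Ω)⁻¹ x, ?_, ?_⟩
    · have h1 : r ((g : Equiv.Perm Ω) a) x := hr.trans (hr.symm hga') hx'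
      have h2 := hinv (g : Equiv.Perm Ω)⁻¹ (G.inv_mem g.2) _ _ h1
      simp only [Equiv.Perm.coe_inv, Equiv.symm_apply_apply] at h2
      simp only [Equiv.Perm.coe_inv]
      exact hr.trans ha' h2
    · change (g : Equiv.Perm Ω) ((g : Equiv.Perm Ω)⁻¹ x) = x
      simp

/-- the difference relation of a class-closed set is `G`-invariant -/
theorem RegCyc.diff_inv {T : Set (ZMod n)} (hT : ∀ c c', R.rel c c' → c ∈ T → c' ∈ T)
    {g : Equiv.Perm Ω} (hg : g ∈ G) (a b : Ω) (h : R.e.symm b - R.e.symm a ∈ T) :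
    R.e.symm (g b) - R.e.symm (g a) ∈ T := by
  have := R.rel_diff hg (R.e.symm a) (R.e.symm b)
  have e1 : R.ind g (R.e.symm a) = R.e.symm (g a) := by simp [RegCyc.ind]
  have e2 : R.ind g (R.e.symm b) = R.e.symm (g b) := by simp [RegCyc.ind]
  rw [e1, e2] at this
  exact hT _ _ this h

/-- (B1) a class-closed subgroup is trivial or everything, if `G` is primitive -/
theorem RegCyc.prim_sub (hprim : MulAction.IsPreprimitive G Ω) (K : AddSubgroup (ZMod n))
    (hK : ∀ c c', R.rel c c' → c ∈ K → c' ∈ K) : K = ⊥ ∨ K = ⊤ := by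
  have hr : Equivalence (fun a b : Ω => R.e.symm b - R.e.symm a ∈ K) := by
    refine ⟨fun a => ?_, fun {a b} h => ?_, fun {a b c} h1 h2 => ?_⟩
    · rw [sub_self]; exact K.zero_mem
    · have := K.neg_mem h
      rwa [neg_sub] at this
    · have := K.add_mem h2 h1
      rwa [sub_add_sub_cancel] at this
  have hB := isBlock_of_invariant_rel (G := G) _ hr
    (fun g hg a b h => R.diff_inv (T := (K : Set (ZMod n))) hK hg a b h) (R.e 0)
  rcases hprim.isTrivialBlock_of_isBlock hB with h | h
  · left
    rw [AddSubgroup.eq_bot_iff_forall]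
    intro c hc
    have h0 : R.e 0 ∈ {x | R.e.symm x - R.e.symm (R.e 0) ∈ K} := by
      simp only [Set.mem_ofPred_eq, sub_self]; exact K.zero_mem
    have h1 : R.e c ∈ {x | R.e.symm x - R.e.symm (R.e 0) ∈ K} := by
      simp only [Set.mem_ofPred_eq, Equiv.symm_apply_apply, sub_zero]; exact hc
    exact R.e.injective (h h1 h0)
  · right
    rw [AddSubgroup.eq_top_iff']
    intro c
    have : R.e c ∈ {x | R.e.symm x - R.e.symm (R.e 0) ∈ K} := by rw [h]; exact Set.mem_univ _
    simpa using this

/-- (B2) a class-closed set with a nonzero element is not inside a proper subgroup,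
if `G` is primitive -/
theorem RegCyc.prim_star (hprim : MulAction.IsPreprimitive G Ω) {T : Finset (ZMod n)}
    (hT : R.IsClosed T) {d : ZMod n} (hd : d ∈ T) (hd0 : d ≠ 0)
    (H : AddSubgroup (ZMod n)) (hH : H ≠ ⊤) : ∃ t ∈ T, t ∉ H := by
  by_contra hcon
  push Not at hcon
  set r₀ : Ω → Ω → Prop := fun a b => R.e.symm b - R.e.symm a ∈ T with hr₀
  have hinv₀ : ∀ g ∈ G, ∀ a b, r₀ a b → r₀ (g a) (g b) := by
    intro g hg a b h
    exact R.diff_inv (T := (T : Set (ZMod n))) (fun c c' hcc hc => hT c c' hcc hc) hg a b h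
  have hinv : ∀ g ∈ G, ∀ a b, Relation.EqvGen r₀ a b → Relation.EqvGen r₀ (g a) (g b) := by
    intro g hg a b h
    induction h with
    | rel a b h => exact Relation.EqvGen.rel _ _ (hinv₀ g hg a b h)
    | refl a => exact Relation.EqvGen.refl _
    | symm a b _ ih => exact Relation.EqvGen.symm _ _ ih
    | trans a b c _ _ ih1 ih2 => exact Relation.EqvGen.trans _ _ _ ih1 ih2
  have hsub : ∀ a b, Relation.EqvGen r₀ a b → R.e.symm b - R.e.symm a ∈ H := by
    intro a b h
    induction h with
    | rel a b h => exact hcon _ h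
    | refl a => rw [sub_self]; exact H.zero_mem
    | symm a b _ ih =>
      have := H.neg_mem ih
      rwa [neg_sub] at this
    | trans a b c _ _ ih1 ih2 =>
      have := H.add_mem ih2 ih1
      rwa [sub_add_sub_cancel] at this
  have hB := isBlock_of_invariant_rel (G := G) _ (Relation.EqvGen.is_equivalence r₀) hinv (R.e 0)
  rcases hprim.isTrivialBlock_of_isBlock hB with h | h
  · have h0 : R.e 0 ∈ {x | Relation.EqvGen r₀ (R.e 0) x} := Relation.EqvGen.refl _
    have h1 : R.e d ∈ {x | Relation.EqvGen r₀ (R.e 0) x} := by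
      apply Relation.EqvGen.rel
      simp only [hr₀, Equiv.symm_apply_apply, sub_zero]
      exact hd
    exact hd0 (R.e.injective (h h1 h0))
  · apply hH
    rw [AddSubgroup.eq_top_iff']
    intro c
    have : R.e c ∈ {x | Relation.EqvGen r₀ (R.e 0) x} := by rw [h]; exact Set.mem_univ _
    have := hsub _ _ this
    simpa using this

end Cfsg.Agent.Helper4.Burn
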