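import Cfsg.Agent.Helper4.BurnD

/-!
# Arithmetic of multiplication by `p` on `ZMod n`, `n = p * q`
-/

set_option autoImplicit false
set_option linter.unusedSectionVars false

namespace Cfsg.Agent.Helper4.Burn

variable {p n q : ℕ} [NeZero n]

theorem psmul_eq_zero_iff (hp : 0 < p) (hn : n = p * q) (t : ZMod n) :
    p • t = 0 ↔ q ∣ t.val := by
  have e : p • t = ((p * t.val : ℕ) : ZMod n) := by
    rw [Nat.cast_mul, ZMod.natCast_zmod_val, nsmul_eq_mul]
  rw [e, ZMod.natCast_eq_zero_iff]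
  constructor
  · intro h
    have h' : p * q ∣ p * t.val := hn ▸ h
    exact (Nat.mul_dvd_mul_iff_left hp).1 h'
  · intro h
    have h' : p * q ∣ p * t.val := (Nat.mul_dvd_mul_iff_left hp).2 h
    exact hn ▸ h'

/-- (K2) the kernel of multiplication by `p` lies in its range when `p ∣ q` -/
theorem ker_le_range (hp : 0 < p) (hn : n = p * q) {q' : ℕ} (hq : q = p * q') (t : ZMod n)
    (ht : p • t = 0) : ∃ s : ZMod n, t = p • s := by
  rw [psmul_eq_zero_iff hp hn] at ht
  obtain ⟨j, hj⟩ := ht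
  refine ⟨((j * q' : ℕ) : ZMod n), ?_⟩
  rw [nsmul_eq_mul, ← Nat.cast_mul, ← ZMod.natCast_zmod_val t, hj]
  congr 1
  rw [hq]; ring

/-- (K3) `1` is not a multiple of `p` -/
theorem one_not_range (hp : 2 ≤ p) (hq0 : 0 < q) (hn : n = p * q) :
    ¬ ∃ s : ZMod n, (1 : ZMod n) = p • s := by
  rintro ⟨s, hs⟩
  have h1 : q • (1 : ZMod n) = 0 := by
    rw [hs, ← mul_nsmul', mul_comm, ← hn, nsmul_eq_mul, ZMod.natCast_self, zero_mul]
  rw [nsmul_eq_mul, mul_one, ZMod.natCast_eq_zero_iff] at h1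
  have h2 : n ≤ q := Nat.le_of_dvd hq0 h1
  have h3 : q < n := by
    rw [hn]
    nlinarith
  omega

/-- (K1) the kernel of multiplication by `p` has exactly `p` elements -/
theorem card_ker (hp : 0 < p) (hq0 : 0 < q) (hn : n = p * q) :
    (Finset.univ.filter (fun t : ZMod n => p • t = 0)).card = p := by
  have himg : Finset.univ.filter (fun t : ZMod n => p • t = 0)
      = (Finset.range p).image (fun j : ℕ => ((j * q : ℕ) : ZMod n)) := by
    ext t
    rw [Finset.mem_filter, Finset.mem_image]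
    constructor
    · rintro ⟨_, ht⟩
      rw [psmul_eq_zero_iff hp hn] at ht
      obtain ⟨j, hj⟩ := ht
      refine ⟨j, ?_, ?_⟩
      · rw [Finset.mem_range]
        have hlt : t.val < n := ZMod.val_lt t
        rw [hj, hn, mul_comm] at hlt
        exact lt_of_mul_lt_mul_right hlt (Nat.zero_le _)
      · rw [mul_comm, ← hj, ZMod.natCast_zmod_val]
    · rintro ⟨j, _, rfl⟩
      refine ⟨Finset.mem_univ _, ?_⟩
      rw [nsmul_eq_mul, ← Nat.cast_mul, ZMod.natCast_eq_zero_iff, hn]
      exact ⟨j, by ring⟩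
  rw [himg, Finset.card_image_of_injOn, Finset.card_range]
  intro j hj j' hj' h
  simp only [Finset.coe_range, Set.mem_Iio] at hj hj'
  have h1 : j * q < n := by
    rw [hn]; exact Nat.mul_lt_mul_of_pos_right hj hq0
  have h2 : j' * q < n := by
    rw [hn]; exact Nat.mul_lt_mul_of_pos_right hj' hq0
  have h3 := congrArg ZMod.val h
  simp only at h3
  rw [ZMod.val_natCast, ZMod.val_natCast, Nat.mod_eq_of_lt h1, Nat.mod_eq_of_lt h2] at h3
  exact Nat.eq_of_mul_eq_mul_right hq0 h3

end Cfsg.Agent.Helper4.Burn
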