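import Cfsg.Agent.Helper4.BurnE

/-!
# The counting argument: a primitive group with a regular cyclic subgroup of order `p * q`,
`p ∣ q`, has only one nontrivial Schur class
-/

set_option autoImplicit false
set_option linter.unusedSectionVars false

namespace Cfsg.Agent.Helper4.Burn

open Equiv

variable {p n q q' : ℕ} [NeZero n] {Ω : Type*} {G : Subgroup (Equiv.Perm Ω)} (R : RegCyc n G)

open Classical in
/-- the class of `d` -/
noncomputable def RegCyc.cls (d : ZMod n) : Finset (ZMod n) :=
  Finset.univ.filter (fun t => R.rel d t)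

theorem RegCyc.mem_cls {d t : ZMod n} : t ∈ R.cls d ↔ R.rel d t := by
  classical
  simp [RegCyc.cls]

theorem RegCyc.self_mem_cls (d : ZMod n) : d ∈ R.cls d := R.mem_cls.2 (R.rel_refl d)

theorem RegCyc.cls_closed (d : ZMod n) : R.IsClosed (R.cls d) := by
  intro c c' hcc hc
  rw [R.mem_cls] at hc ⊢
  exact R.rel_trans hc hcc

/-- the range of multiplication by `p` -/
def pRange (p n : ℕ) : AddSubgroup (ZMod n) := (nsmulAddMonoidHom p : ZMod n →+ ZMod n).range

theorem mem_pRange {t : ZMod n} : t ∈ pRange p n ↔ ∃ s : ZMod n, p • s = t := by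
  simp [pRange, AddMonoidHom.mem_range]

theorem pRange_ne_top (hp : 2 ≤ p) (hq0 : 0 < q) (hn : n = p * q) : pRange p n ≠ ⊤ := by
  intro h
  have : (1 : ZMod n) ∈ pRange p n := by rw [h]; exact AddSubgroup.mem_top _
  rw [mem_pRange] at this
  obtain ⟨s, hs⟩ := this
  exact one_not_range hp hq0 hn ⟨s, hs.symm⟩

/-- the fibre of multiplication by `p` -/
theorem card_fibre (hp : 0 < p) (hq0 : 0 < q) (hn : n = p * q) (c₀ : ZMod n) :
    (Finset.univ.filter (fun t : ZMod n => p • t = p • c₀)).card = p := by
  have : Finset.univ.filter (fun t : ZMod n => p • t = p • c₀)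
      = (Finset.univ.filter (fun t : ZMod n => p • t = 0)).map (addLeftEmbedding c₀) := by
    ext t
    simp only [Finset.mem_filter, Finset.mem_univ, true_and, Finset.mem_map,
      addLeftEmbedding_apply]
    constructor
    · intro h
      refine ⟨t - c₀, ?_, by abel⟩
      rw [smul_sub, h, sub_self]
    · rintro ⟨k, hk, rfl⟩
      rw [smul_add, hk, add_zero]
  rw [this, Finset.card_map, card_ker hp hq0 hn]

/-- (S1) outside the kernel of multiplication by `p`, classes are unions of cosets of the kernel -/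
theorem RegCyc.S1 (hp : p.Prime) (hq0 : 0 < q) (hn : n = p * q)
    (hprim : MulAction.IsPreprimitive G Ω) {c₀ : ZMod n} (hc₀ : p • c₀ ≠ 0) {k : ZMod n}
    (hk : p • k = 0) : R.rel c₀ (c₀ + k) := by
  classical
  have : Fact p.Prime := ⟨hp⟩
  obtain ⟨t', ht', ht'H⟩ := R.prim_star hprim (R.cls_closed (p • c₀)) (R.self_mem_cls _) hc₀
    (pRange p n) (pRange_ne_top hp.two_le hq0 hn)
  have h0 : ((R.cls c₀).filter (fun t => p • t = t')).card = 0 := by
    rw [Finset.card_eq_zero, Finset.filter_eq_empty_iff]
    intro t _ h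
    exact ht'H (mem_pRange.2 ⟨t, h⟩)
  have key := R.card_roots_inv p (R.cls_closed c₀) (R.mem_cls.1 ht')
  rw [h0, Nat.cast_zero, ZMod.natCast_eq_zero_iff] at key
  have hsub : (R.cls c₀).filter (fun t => p • t = p • c₀)
      ⊆ Finset.univ.filter (fun t : ZMod n => p • t = p • c₀) := by
    intro t ht
    rw [Finset.mem_filter] at ht ⊢
    exact ⟨Finset.mem_univ _, ht.2⟩
  have hF : (Finset.univ.filter (fun t : ZMod n => p • t = p • c₀)).card = p :=
    card_fibre hp.pos hq0 hn c₀
  have hmem : c₀ ∈ (R.cls c₀).filter (fun t => p • t = p • c₀) := by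
    rw [Finset.mem_filter]
    exact ⟨R.self_mem_cls _, rfl⟩
  have hpos : 0 < ((R.cls c₀).filter (fun t => p • t = p • c₀)).card :=
    Finset.card_pos.2 ⟨c₀, hmem⟩
  have hge : p ≤ ((R.cls c₀).filter (fun t => p • t = p • c₀)).card :=
    Nat.le_of_dvd hpos key
  have heq := Finset.eq_of_subset_of_card_le hsub (by rw [hF]; exact hge)
  have : c₀ + k ∈ Finset.univ.filter (fun t : ZMod n => p • t = p • c₀) := by
    rw [Finset.mem_filter]
    exact ⟨Finset.mem_univ _, by rw [smul_add, hk, add_zero]⟩
  rw [← heq, Finset.mem_filter] at this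
  exact R.mem_cls.1 this.1

/-- the number of `t ∈ T` with `t + c ∈ T` is a class function of `c` -/
theorem RegCyc.M_inv {T : Finset (ZMod n)} (hT : R.IsClosed T) {c c' : ZMod n}
    (h : R.rel c c') :
    (T.filter (fun t => t + c ∈ T)).card = (T.filter (fun t => t + c' ∈ T)).card := by
  classical
  have hneg : R.IsClosed (T.image (fun t => -t)) := by
    intro a a' haa ha
    rw [Finset.mem_image] at ha ⊢
    obtain ⟨t, ht, rfl⟩ := ha
    refine ⟨-a', ?_, neg_neg _⟩
    have := R.rel_neg haa
    rw [neg_neg] at this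
    exact hT _ _ this ht
  have key := R.card_filter_inv hneg hT h
  have e : ∀ d : ZMod n, ((T.image (fun t => -t)).filter (fun u => -u + d ∈ T)).card
      = (T.filter (fun t => t + d ∈ T)).card := by
    intro d
    rw [Finset.filter_image, Finset.card_image_of_injective _ neg_injective]
    congr 1
    apply Finset.filter_congr
    intro t _
    simp
  rw [e c, e c'] at key
  exact key

/-- (I4) no nontrivial class is invariant under a nonzero translation -/
theorem RegCyc.I4 (hprim : MulAction.IsPreprimitive G Ω) {d : ZMod n} (hd : d ≠ 0)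
    {y : ZMod n} (hy0 : y ≠ 0) : ∃ t, R.rel d t ∧ ¬ R.rel d (t + y) := by
  classical
  by_contra hcon
  push Not at hcon
  have hnsmul : ∀ (k : ZMod n), (∀ t ∈ R.cls d, t + k ∈ R.cls d) →
      ∀ j : ℕ, ∀ t ∈ R.cls d, t + j • k ∈ R.cls d := by
    intro k hk j
    induction j with
    | zero => intro t ht; simpa using ht
    | succ j ih =>
      intro t ht
      rw [succ_nsmul, ← add_assoc]
      exact hk _ (ih t ht)
  let K : AddSubgroup (ZMod n) :=
    { carrier := {k | ∀ t ∈ R.cls d, t + k ∈ R.cls d}
      zero_mem' := by intro t ht; simpa using ht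
      add_mem' := by
        intro a b ha hb t ht
        rw [← add_assoc]
        exact hb _ (ha t ht)
      neg_mem' := by
        intro k hk
        have h1 : (n - 1) • k = -k := by
          have h2 : (n - 1) • k + k = 0 := by
            rw [← succ_nsmul]
            have : n - 1 + 1 = n := Nat.sub_add_cancel (Nat.pos_of_ne_zero (NeZero.ne n))
            rw [this, nsmul_eq_mul, ZMod.natCast_self, zero_mul]
          exact eq_neg_of_add_eq_zero_left h2
        have := hnsmul k hk (n - 1)
        rw [h1] at this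
        exact this }
  have hKmem : ∀ k, k ∈ K ↔ ((R.cls d).filter (fun t => t + k ∈ R.cls d)).card = (R.cls d).card := by
    intro k
    rw [Finset.card_filter_eq_iff]
    rfl
  have hK : ∀ c c', R.rel c c' → c ∈ K → c' ∈ K := by
    intro c c' hcc hc
    rw [hKmem] at hc ⊢
    rw [← R.M_inv (R.cls_closed d) hcc]
    exact hc
  have hyK : y ∈ K := by
    intro t ht
    exact R.mem_cls.2 (hcon t (R.mem_cls.1 ht))
  rcases R.prim_sub hprim K hK with h | h
  · rw [h, AddSubgroup.mem_bot] at hyK
    exact hy0 hyK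
  · have : -d ∈ K := by rw [h]; exact AddSubgroup.mem_top _
    have h0 := this d (R.self_mem_cls d)
    rw [add_neg_cancel, R.mem_cls] at h0
    exact hd (R.rel_zero_right h0)

/-- every nontrivial class meets the kernel of multiplication by `p` -/
theorem RegCyc.Ymeet (hp : p.Prime) (hq0 : 0 < q) (hn : n = p * q)
    (hprim : MulAction.IsPreprimitive G Ω) {d : ZMod n} (hd : d ≠ 0) :
    ∃ y', R.rel d y' ∧ p • y' = 0 := by
  have hc := card_ker hp.pos hq0 hn
  have h1 : 1 < (Finset.univ.filter (fun t : ZMod n => p • t = 0)).card := by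
    rw [hc]; exact hp.one_lt
  obtain ⟨y, hy, hy0⟩ := Finset.exists_mem_ne h1 0
  rw [Finset.mem_filter] at hy
  obtain ⟨t, ht, hty⟩ := R.I4 hprim hd hy0
  refine ⟨t, ht, ?_⟩
  by_contra hpt
  exact hty (R.rel_trans ht (R.S1 hp hq0 hn hprim hpt hy.2))

end Cfsg.Agent.Helper4.Burn
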