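import Cfsg.Agent.Helper4.BurnF

/-!
# Burnside's theorem on regular cyclic subgroups of order `p * q`, `p ∣ q` : only two classes
-/

set_option autoImplicit false
set_option linter.unusedSectionVars false

namespace Cfsg.Agent.Helper4.Burn

open Equiv

variable {p n q q' : ℕ} [NeZero n] {Ω : Type*} {G : Subgroup (Equiv.Perm Ω)} (R : RegCyc n G)

theorem sum_M (T : Finset (ZMod n)) :
    ∑ c : ZMod n, (T.filter (fun t => t + c ∈ T)).card = T.card * T.card := by
  classical
  simp_rw [Finset.card_filter]
  rw [Finset.sum_comm]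
  have : ∀ t ∈ T, ∑ c : ZMod n, (if t + c ∈ T then 1 else 0) = T.card := by
    intro t _
    rw [← Finset.card_filter]
    apply Finset.card_bij (fun c _ => t + c)
    · intro c hc
      rw [Finset.mem_filter] at hc
      exact hc.2
    · intro a _ b _ h
      exact add_left_cancel h
    · intro b hb
      refine ⟨b - t, ?_, by abel⟩
      rw [Finset.mem_filter]
      refine ⟨Finset.mem_univ _, ?_⟩
      rw [add_sub_cancel]
      exact hb
  rw [Finset.sum_congr rfl this, Finset.sum_const, smul_eq_mul]

theorem RegCyc.two_classes (hp : p.Prime) (hn : n = p * q) (hq : q = p * q') (hq0 : 0 < q)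
    (hprim : MulAction.IsPreprimitive G Ω) :
    ∀ c c' : ZMod n, c ≠ 0 → c' ≠ 0 → R.rel c c' := by
  classical
  by_contra hcon
  push Not at hcon
  obtain ⟨c, c', hc, hc', hcc⟩ := hcon
  -- a class of minimal size
  have hSne : (Finset.univ.filter (fun d : ZMod n => d ≠ 0)).Nonempty :=
    ⟨c, by rw [Finset.mem_filter]; exact ⟨Finset.mem_univ _, hc⟩⟩
  obtain ⟨d, hdS, hmin⟩ := Finset.exists_min_image _ (fun d => (R.cls d).card) hSne
  rw [Finset.mem_filter] at hdS
  have hd : d ≠ 0 := hdS.2
  obtain ⟨d₂, hd₂, hdd₂⟩ : ∃ d₂ : ZMod n, d₂ ≠ 0 ∧ ¬ R.rel d d₂ := by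
    by_contra h
    push Not at h
    exact hcc (R.rel_trans (R.rel_symm (h c hc)) (h c' hc'))
  set T := R.cls d with hT
  have hTcl : R.IsClosed T := R.cls_closed d
  -- size bound
  have hdisj : Disjoint T (R.cls d₂) := by
    rw [Finset.disjoint_left]
    intro t ht ht2
    rw [R.mem_cls] at ht ht2
    exact hdd₂ (R.rel_trans ht (R.rel_symm ht2))
  have hsub : T ∪ R.cls d₂ ⊆ Finset.univ.erase 0 := by
    intro t ht
    rw [Finset.mem_erase]
    refine ⟨?_, Finset.mem_univ _⟩
    rintro rfl
    rw [Finset.mem_union, R.mem_cls, R.mem_cls] at ht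
    rcases ht with h | h
    · exact hd (R.rel_zero_right h)
    · exact hd₂ (R.rel_zero_right h)
  have hcard1 : T.card + (R.cls d₂).card ≤ n - 1 := by
    rw [← Finset.card_union_of_disjoint hdisj]
    have := Finset.card_le_card hsub
    rwa [Finset.card_erase_of_mem (Finset.mem_univ _), Finset.card_univ, ZMod.card] at this
  have hcard2 : T.card ≤ (R.cls d₂).card :=
    hmin d₂ (by rw [Finset.mem_filter]; exact ⟨Finset.mem_univ _, hd₂⟩)
  have h2k : 2 * T.card ≤ n - 1 := by omega
  -- W and Z
  set W := T.filter (fun t => ¬ p • t = 0) with hW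
  set Z := T.filter (fun t => p • t = 0) with hZ
  have hkzw : Z.card + W.card = T.card :=
    Finset.card_filter_add_card_filter_not _
  have hker := card_ker hp.pos hq0 hn
  have hZle : Z.card + 1 ≤ p := by
    have hsubZ : Z ⊆ (Finset.univ.filter (fun t : ZMod n => p • t = 0)).erase 0 := by
      intro t ht
      rw [hZ, Finset.mem_filter] at ht
      rw [Finset.mem_erase, Finset.mem_filter]
      refine ⟨?_, Finset.mem_univ _, ht.2⟩
      rintro rfl
      exact hd (R.rel_zero_right (R.mem_cls.1 ht.1))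
    have := Finset.card_le_card hsubZ
    rw [Finset.card_erase_of_mem (by rw [Finset.mem_filter]; exact ⟨Finset.mem_univ _, smul_zero _⟩),
      hker] at this
    have := hp.pos
    omega
  have hWge : p ≤ W.card := by
    obtain ⟨t, htT, htH⟩ := R.prim_star hprim hTcl (R.self_mem_cls d) hd (pRange p n)
      (pRange_ne_top hp.two_le hq0 hn)
    have hpt : p • t ≠ 0 := by
      intro h
      obtain ⟨s, hs⟩ := ker_le_range hp.pos hn hq t h
      exact htH (mem_pRange.2 ⟨s, hs.symm⟩)
    have hsubW : (Finset.univ.filter (fun k : ZMod n => p • k = 0)).map (addLeftEmbedding t) ⊆ W := by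
      intro u hu
      rw [Finset.mem_map] at hu
      obtain ⟨k, hk, rfl⟩ := hu
      rw [Finset.mem_filter] at hk
      rw [hW, Finset.mem_filter, addLeftEmbedding_apply]
      refine ⟨hTcl _ _ (R.S1 hp hq0 hn hprim hpt hk.2) htT, ?_⟩
      rw [smul_add, hk.2, add_zero]
      exact hpt
    have := Finset.card_le_card hsubW
    rwa [Finset.card_map, hker] at this
  -- lower bound for M
  have hM : ∀ d' ∈ (Finset.univ.erase (0 : ZMod n)),
      W.card ≤ (T.filter (fun t => t + d' ∈ T)).card := by
    intro d' hd'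
    rw [Finset.mem_erase] at hd'
    obtain ⟨y', hy', hpy'⟩ := R.Ymeet hp hq0 hn hprim hd'.1
    rw [R.M_inv hTcl hy']
    apply Finset.card_le_card
    intro t ht
    rw [hW, Finset.mem_filter] at ht
    rw [Finset.mem_filter]
    exact ⟨ht.1, hTcl _ _ (R.S1 hp hq0 hn hprim ht.2 hpy') ht.1⟩
  have hsum := sum_M T
  rw [← Finset.add_sum_erase Finset.univ _ (Finset.mem_univ (0 : ZMod n))] at hsum
  have hM0 : (T.filter (fun t => t + 0 ∈ T)).card = T.card := by
    congr 1
    apply Finset.filter_true_of_mem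
    intro t ht
    rwa [add_zero]
  rw [hM0] at hsum
  have hlow := Finset.card_nsmul_le_sum (Finset.univ.erase (0 : ZMod n))
    (fun c => (T.filter (fun t => t + c ∈ T)).card) W.card hM
  rw [Finset.card_erase_of_mem (Finset.mem_univ _), Finset.card_univ, ZMod.card, smul_eq_mul] at hlow
  -- arithmetic
  have h1 : (n - 1) * W.card + T.card ≤ T.card * T.card := by omega
  have h3 : 2 * T.card * W.card ≤ (n - 1) * W.card := Nat.mul_le_mul_right _ h2k
  have hTpos : 0 < T.card := Finset.card_pos.2 ⟨d, R.self_mem_cls d⟩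
  have h4 : T.card * (2 * W.card + 1) ≤ T.card * T.card := by nlinarith
  have h5 : 2 * W.card + 1 ≤ T.card := Nat.le_of_mul_le_mul_left h4 hTpos
  omega

end Cfsg.Agent.Helper4.Burn
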