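import Cfsg.Agent.Helper4.BurnG

/-!
# From a permutation of order `p ^ m` on `p ^ m` points to a regular cyclic structure
-/

set_option autoImplicit false
set_option linter.unusedSectionVars false

namespace Cfsg.Agent.Helper4.Burn

open Equiv

variable {Ω : Type*} [Fintype Ω] [DecidableEq Ω]

/-- if `x ^ k` fixes `ω` only for multiples of `n = |Ω|`, powers of `x` give a bijection -/
theorem pow_bijective {n : ℕ} [NeZero n] (hΩ : Fintype.card Ω = n) {x : Equiv.Perm Ω} {ω : Ω}
    (hper : ∀ k : ℕ, (x ^ k) ω = ω → n ∣ k) :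
    Function.Bijective (fun c : ZMod n => (x ^ c.val) ω) := by
  rw [Fintype.bijective_iff_injective_and_card]
  refine ⟨?_, by rw [ZMod.card, hΩ]⟩
  have key : ∀ a b : ZMod n, a.val ≤ b.val → (x ^ a.val) ω = (x ^ b.val) ω → a = b := by
    intro a b hab h
    have e : x ^ b.val = x ^ a.val * x ^ (b.val - a.val) := by
      rw [← pow_add]; congr 1; omega
    rw [e, Equiv.Perm.mul_apply] at h
    have h2 := (x ^ a.val).injective h
    have h3 := hper _ h2.symm
    have h4 : b.val - a.val < n := lt_of_le_of_lt (Nat.sub_le _ _) (ZMod.val_lt b)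
    have h5 : b.val - a.val = 0 := Nat.eq_zero_of_dvd_of_lt h3 h4
    apply ZMod.val_injective
    omega
  intro a b h
  rcases le_total a.val b.val with hab | hab
  · exact key a b hab h
  · exact (key b a hab h.symm).symm

/-- some point has full period -/
theorem exists_full_period {p m : ℕ} (hp : p.Prime) (hm : 1 ≤ m) {x : Equiv.Perm Ω}
    (hx : orderOf x = p ^ m) : ∃ ω : Ω, ∀ k : ℕ, (x ^ k) ω = ω → p ^ m ∣ k := by
  have h1 : ∃ ω : Ω, (x ^ (p ^ (m - 1))) ω ≠ ω := by
    by_contra h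
    push Not at h
    have : x ^ (p ^ (m - 1)) = 1 := Equiv.ext h
    have hd := orderOf_dvd_of_pow_eq_one this
    rw [hx] at hd
    have h2 : p ^ m ≤ p ^ (m - 1) := Nat.le_of_dvd (pow_pos hp.pos _) hd
    have h3 : p ^ (m - 1) < p ^ m := Nat.pow_lt_pow_right hp.one_lt (by omega)
    omega
  obtain ⟨ω, hω⟩ := h1
  refine ⟨ω, ?_⟩
  intro k hk
  -- the minimal period
  have hper : ∀ j : ℕ, (x ^ j) ω = ω ↔ Function.minimalPeriod x ω ∣ j := by
    intro j
    rw [← Function.isPeriodicPt_iff_minimalPeriod_dvd, Function.IsPeriodicPt, Function.IsFixedPt,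
      Equiv.Perm.iterate_eq_pow]
  have hdvd : Function.minimalPeriod x ω ∣ p ^ m := by
    rw [← hper, ← hx, pow_orderOf_eq_one]; rfl
  obtain ⟨i, hi, hmp⟩ := (Nat.dvd_prime_pow hp).1 hdvd
  have him : i = m := by
    by_contra hne
    have hlt : i ≤ m - 1 := by omega
    apply hω
    rw [hper, hmp]
    exact pow_dvd_pow p hlt
  rw [hper, hmp, him] at hk
  exact hk

/-- the regular cyclic structure with a prescribed base point -/
theorem exists_regCyc {p m : ℕ} (hp : p.Prime) (hm : 1 ≤ m) [NeZero (p ^ m)]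
    (hΩ : Fintype.card Ω = p ^ m) {G : Subgroup (Equiv.Perm Ω)} {x : Equiv.Perm Ω} (hxG : x ∈ G)
    (hx : orderOf x = p ^ m) (ω₁ : Ω) :
    ∃ R : RegCyc (p ^ m) G, R.e 0 = ω₁ ∧ ∀ c, R.tr c = x ^ c.val := by
  obtain ⟨ω, hω⟩ := exists_full_period hp hm hx
  have hbij := pow_bijective hΩ hω
  obtain ⟨a₀, ha₀⟩ := hbij.2 ω₁
  have ha₀' : (x ^ a₀.val) ω = ω₁ := ha₀
  have hω₁ : ∀ k : ℕ, (x ^ k) ω₁ = ω₁ → p ^ m ∣ k := by
    intro k hk
    apply hω
    rw [← ha₀', ← Equiv.Perm.mul_apply, ← pow_add, add_comm, pow_add, Equiv.Perm.mul_apply] at hk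
    exact (x ^ a₀.val).injective hk
  have hbij₁ := pow_bijective hΩ hω₁
  refine ⟨{ e := Equiv.ofBijective _ hbij₁
            tr := fun c => x ^ c.val
            tr_mem := fun c => G.pow_mem hxG _
            tr_apply := ?_ }, ?_, fun c => rfl⟩
  · intro c a
    simp only [Equiv.ofBijective_apply]
    rw [← Equiv.Perm.mul_apply, ← pow_add, ZMod.val_add]
    have hmod : ∀ k : ℕ, x ^ (k % p ^ m) = x ^ k := by
      intro k
      have := pow_mod_orderOf x k
      rwa [hx] at this
    rw [hmod]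
  · simp [Equiv.ofBijective_apply]

end Cfsg.Agent.Helper4.Burn
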