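import Cfsg.Agent.Helper4.BurnH

/-!
# Burnside's theorem for regular cyclic subgroups of order `p ^ m`, `m ≥ 2`
-/

set_option autoImplicit false
set_option linter.unusedSectionVars false

namespace Cfsg.Agent.Helper4.Burn

open Equiv
open scoped Pointwise

variable {Ω : Type*} [Fintype Ω] [DecidableEq Ω]

theorem RegCyc.two_trans {n : ℕ} [NeZero n] {G : Subgroup (Equiv.Perm Ω)} (R : RegCyc n G)
    (h : ∀ c c' : ZMod n, c ≠ 0 → c' ≠ 0 → R.rel c c') :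
    MulAction.IsMultiplyPretransitive G Ω 2 := by
  rw [MulAction.is_two_pretransitive_iff]
  intro a b c d hab hcd
  obtain ⟨a₀, rfl⟩ := R.e.surjective a
  obtain ⟨b₀, rfl⟩ := R.e.surjective b
  obtain ⟨c₀, rfl⟩ := R.e.surjective c
  obtain ⟨d₀, rfl⟩ := R.e.surjective d
  have h1 : b₀ - a₀ ≠ 0 := by
    intro h0
    apply hab
    rw [sub_eq_zero.1 h0]
  have h2 : d₀ - c₀ ≠ 0 := by
    intro h0
    apply hcd
    rw [sub_eq_zero.1 h0]
  obtain ⟨g, hg, hg0, hgc⟩ := h _ _ h1 h2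
  refine ⟨⟨R.tr c₀ * g * R.tr (-a₀),
    G.mul_mem (G.mul_mem (R.tr_mem _) hg) (R.tr_mem _)⟩, ?_, ?_⟩
  · change (R.tr c₀ * g * R.tr (-a₀)) (R.e a₀) = R.e c₀
    rw [Equiv.Perm.mul_apply, Equiv.Perm.mul_apply, R.tr_apply, neg_add_cancel, hg0, R.tr_apply,
      add_zero]
  · change (R.tr c₀ * g * R.tr (-a₀)) (R.e b₀) = R.e d₀
    rw [Equiv.Perm.mul_apply, Equiv.Perm.mul_apply, R.tr_apply, neg_add_eq_sub, hgc, R.tr_apply,
      add_sub_cancel]

/-- Burnside: a primitive group of degree `p ^ m`, `m ≥ 2`, containing an element of order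
`p ^ m` is doubly transitive. -/
theorem two_trans_of_prim {p m : ℕ} (hp : p.Prime) (hm : 2 ≤ m)
    (hΩ : Fintype.card Ω = p ^ m) {G : Subgroup (Equiv.Perm Ω)} {x : Equiv.Perm Ω} (hxG : x ∈ G)
    (hx : orderOf x = p ^ m) (hprim : MulAction.IsPreprimitive G Ω) :
    MulAction.IsMultiplyPretransitive G Ω 2 := by
  have : NeZero (p ^ m) := ⟨pow_ne_zero _ hp.ne_zero⟩
  have : Nonempty Ω := by
    rw [← Fintype.card_pos_iff, hΩ]; exact pow_pos hp.pos _
  obtain ⟨ω₁⟩ := this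
  obtain ⟨R, _, _⟩ := exists_regCyc hp (by omega) hΩ hxG hx ω₁
  apply R.two_trans
  have hn : p ^ m = p * p ^ (m - 1) := by
    rw [← pow_succ']; congr 1; omega
  have hq : p ^ (m - 1) = p * p ^ (m - 2) := by
    rw [← pow_succ']; congr 1; omega
  exact R.two_classes hp hn hq (pow_pos hp.pos _) hprim

theorem block_map' {K : Subgroup (Equiv.Perm Ω)} {B : Set Ω} (hB : MulAction.IsBlock K B)
    {g : Equiv.Perm Ω} (hg : g ∈ K) {a : Ω} (ha : a ∈ B) (hga : g a ∈ B) {z : Ω} (hz : z ∈ B) :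
    g z ∈ B := by
  have h := hB.smul_eq_of_mem (g := ⟨g, hg⟩) ha hga
  have h2 : (⟨g, hg⟩ : K) • z ∈ (⟨g, hg⟩ : K) • B := Set.smul_mem_smul_set hz
  rw [h] at h2
  exact h2

/-- arithmetic: every nonzero element of `ZMod (p ^ m)` has a multiple equal to `p ^ (m - 1)` -/
theorem exists_nsmul_eq {p m : ℕ} (hp : p.Prime) (hm : 1 ≤ m) [NeZero (p ^ m)]
    {c : ZMod (p ^ m)} (hc : c ≠ 0) : ∃ j : ℕ, j • c = ((p ^ (m - 1) : ℕ) : ZMod (p ^ m)) := by
  have hv0 : c.val ≠ 0 := by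
    intro h
    exact hc ((ZMod.val_eq_zero c).1 h)
  obtain ⟨e, u, hu, hv⟩ := Nat.exists_eq_pow_mul_and_not_dvd hv0 p hp.ne_one
  have hlt : c.val < p ^ m := ZMod.val_lt c
  have hupos : 0 < u := Nat.pos_of_ne_zero (by rintro rfl; exact hu (dvd_zero _))
  have hem : e < m := by
    have h1 : p ^ e ≤ c.val := by
      rw [hv]; exact Nat.le_mul_of_pos_right _ hupos
    exact (Nat.pow_lt_pow_iff_right hp.one_lt).1 (lt_of_le_of_lt h1 hlt)
  have hcop : Nat.Coprime u p := (Nat.Prime.coprime_iff_not_dvd hp).2 hu |>.symm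
  obtain ⟨a, -, ha⟩ := Nat.exists_mul_mod_eq_one_of_coprime hcop hp.one_lt
  refine ⟨a * p ^ (m - 1 - e), ?_⟩
  rw [nsmul_eq_mul, ← ZMod.natCast_zmod_val c, ← Nat.cast_mul, ZMod.natCast_eq_natCast_iff]
  rw [hv]
  have hdiv := Nat.div_add_mod (u * a) p
  rw [ha] at hdiv
  have hpm : p ^ m = p * p ^ (m - 1) := by
    rw [← pow_succ']; congr 1; omega
  have hpe : p ^ (m - 1) = p ^ (m - 1 - e) * p ^ e := by
    rw [← pow_add]; congr 1; omega
  have e1 : a * p ^ (m - 1 - e) * (p ^ e * u) = p ^ (m - 1) + (u * a / p) * p ^ m := by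
    calc a * p ^ (m - 1 - e) * (p ^ e * u) = (u * a) * (p ^ (m - 1 - e) * p ^ e) := by ring
      _ = (p * (u * a / p) + 1) * p ^ (m - 1) := by rw [hdiv, ← hpe]
      _ = p ^ (m - 1) + (u * a / p) * (p * p ^ (m - 1)) := by ring
      _ = p ^ (m - 1) + (u * a / p) * p ^ m := by rw [← hpm]
  rw [e1]
  exact Nat.modEq_iff_dvd' (Nat.le_add_right _ _) |>.2 (by simp) |>.symm

end Cfsg.Agent.Helper4.Burn
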