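import Cfsg.Agent.Helper4.BurnI

/-!
# The normal closure of the element of order `p` of a full cycle of order `p ^ m` in an
imprimitive group is intransitive
-/

set_option autoImplicit false
set_option linter.unusedSectionVars false

namespace Cfsg.Agent.Helper4.Burn

open Equiv
open scoped Pointwise

variable {Ω : Type*} [Fintype Ω] [DecidableEq Ω]

theorem not_trans_normalClosure {p m : ℕ} (hp : p.Prime) (hm : 1 ≤ m)
    (hΩ : Fintype.card Ω = p ^ m) (G : Subgroup (Equiv.Perm Ω)) (g : G)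
    (hg : orderOf g = p ^ m) (htr : MulAction.IsPretransitive G Ω)
    (hnp : ¬ MulAction.IsPreprimitive G Ω) :
    ¬ MulAction.IsPretransitive (Subgroup.normalClosure ({g ^ (p ^ (m - 1))} : Set G)) Ω := by
  have : NeZero (p ^ m) := ⟨pow_ne_zero _ hp.ne_zero⟩
  obtain ⟨B, hB, hBnt⟩ : ∃ B : Set Ω, MulAction.IsBlock G B ∧ ¬ MulAction.IsTrivialBlock B := by
    by_contra h
    push Not at h
    exact hnp { toIsPretransitive := htr, isTrivialBlock_of_isBlock := fun {B} hB => h B hB }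
  have hns : B.Nontrivial := by
    rw [← Set.not_subsingleton_iff]; exact fun h => hBnt (Or.inl h)
  have hnu : B ≠ Set.univ := fun h => hBnt (Or.inr h)
  obtain ⟨ω₁, hω₁⟩ := hns.nonempty
  obtain ⟨ω₂, hω₂, hne⟩ := hns.exists_ne ω₁
  have hxG : (g : Equiv.Perm Ω) ∈ G := g.2
  have hx : orderOf (g : Equiv.Perm Ω) = p ^ m := by rw [Subgroup.orderOf_coe]; exact hg
  obtain ⟨R, hR0, hRtr⟩ := exists_regCyc hp hm hΩ hxG hx ω₁
  have hKadd : ∀ c c', R.e c ∈ B → R.e c' ∈ B → R.e (c + c') ∈ B := by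
    intro c c' hc hc'
    rw [← R.tr_apply]
    refine block_map' hB (R.tr_mem c) (a := R.e 0) (by rw [hR0]; exact hω₁) ?_ hc'
    rw [R.tr_apply, add_zero]; exact hc
  have hKnsmul : ∀ c, R.e c ∈ B → ∀ j : ℕ, R.e (j • c) ∈ B := by
    intro c hc j
    induction j with
    | zero => rw [zero_nsmul, hR0]; exact hω₁
    | succ j ih => rw [succ_nsmul]; exact hKadd _ _ ih hc
  set y : ZMod (p ^ m) := ((p ^ (m - 1) : ℕ) : ZMod (p ^ m)) with hy
  have hyB : R.e y ∈ B := by
    obtain ⟨c, rfl⟩ := R.e.surjective ω₂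
    have hc : c ≠ 0 := by
      rintro rfl
      exact hne hR0
    obtain ⟨j, hj⟩ := exists_nsmul_eq hp hm hc
    rw [hy, ← hj]
    exact hKnsmul c hω₂ j
  have hyval : y.val = p ^ (m - 1) :=
    ZMod.val_natCast_of_lt (Nat.pow_lt_pow_right hp.one_lt (by omega))
  have htry : R.tr y = ((g ^ (p ^ (m - 1)) : G) : Equiv.Perm Ω) := by
    rw [hRtr, hyval]; simp
  let Ker : Subgroup G := ⨅ h : G, MulAction.stabilizer G (h • B)
  have hKer_mem : ∀ σ : G, σ ∈ Ker ↔ ∀ h : G, σ • (h • B) = h • B := by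
    intro σ
    simp [Ker, Subgroup.mem_iInf, MulAction.mem_stabilizer_iff]
  have hKer_normal : Ker.Normal := by
    constructor
    intro σ hσ k
    rw [hKer_mem] at hσ ⊢
    intro h
    have := hσ (k⁻¹ * h)
    rw [mul_smul, mul_smul, ← mul_smul k⁻¹ h B, this, ← mul_smul, mul_inv_cancel_left]
  have hgKer : g ^ (p ^ (m - 1)) ∈ Ker := by
    rw [hKer_mem]
    intro h
    have hBh : MulAction.IsBlock G (h • B) := hB.translate h
    obtain ⟨a, ha⟩ := R.e.surjective ((h : Equiv.Perm Ω) ω₁)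
    have hta : (⟨R.tr a, R.tr_mem a⟩ : G) • B = h • B := by
      by_contra hne'
      have hdisj := hB hne'
      rw [Set.disjoint_left] at hdisj
      apply hdisj (a := R.e a)
      · refine ⟨ω₁, hω₁, ?_⟩
        change R.tr a ω₁ = R.e a
        rw [← hR0, R.tr_apply, add_zero]
      · refine ⟨ω₁, hω₁, ?_⟩
        exact ha.symm
    apply hBh.smul_eq_of_mem (a := R.e a)
    · rw [ha]; exact Set.smul_mem_smul_set hω₁
    · change ((g ^ (p ^ (m - 1)) : G) : Equiv.Perm Ω) (R.e a) ∈ h • B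
      rw [← htry, R.tr_apply, add_comm, ← R.tr_apply, ← hta]
      exact Set.smul_mem_smul_set (a := (⟨R.tr a, R.tr_mem a⟩ : G)) hyB
  have hle : Subgroup.normalClosure ({g ^ (p ^ (m - 1))} : Set G) ≤ Ker :=
    Subgroup.normalClosure_le_normal (by simpa using hgKer)
  intro htrN
  obtain ⟨ω₃, hω₃⟩ : ∃ ω₃, ω₃ ∉ B := by
    by_contra h
    push Not at h
    exact hnu (Set.eq_univ_of_forall h)
  obtain ⟨σ, hσ⟩ := htrN.exists_smul_eq ω₁ ω₃
  have hσK := hle σ.2
  rw [hKer_mem] at hσK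
  have h1 := hσK 1
  rw [one_smul] at h1
  apply hω₃
  rw [← hσ, ← h1]
  exact Set.smul_mem_smul_set (a := (σ : G)) hω₁

/-- S3972 -/
theorem burnside_cyclic {p m : ℕ} (hp : p.Prime) (hm : 2 ≤ m)
    (hΩ : Fintype.card Ω = p ^ m) (G : Subgroup (Equiv.Perm Ω))
    (htr : MulAction.IsPretransitive G Ω) (h2 : ¬ MulAction.IsMultiplyPretransitive G Ω 2)
    (g : G) (hg : orderOf g = p ^ m) :
    ¬ MulAction.IsPreprimitive G Ω ∧
      ¬ MulAction.IsPretransitive (Subgroup.normalClosure ({g ^ (p ^ (m - 1))} : Set G)) Ω := by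
  have hnp : ¬ MulAction.IsPreprimitive G Ω := fun hprim =>
    h2 (two_trans_of_prim hp hm hΩ g.2 (by rw [Subgroup.orderOf_coe]; exact hg) hprim)
  exact ⟨hnp, not_trans_normalClosure hp (by omega) hΩ G g hg htr hnp⟩

end Cfsg.Agent.Helper4.Burn
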