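import Mathlib
import Cfsg.Prelude.Def_Characters
import Cfsg.Prelude.Def_Solvable
import Cfsg.Agent.Helper6.FrobThm
import Cfsg.Agent.Helper6.Gallagher

/-!
# Wielandt's generalization of Frobenius' theorem

If `H₀ ⊴ H ≤ G` and `H ∩ gHg⁻¹ ≤ H₀` for all `g ∉ H`, then there is a normal subgroup `N` of `G`
with `N ∩ H ≤ H₀` containing every element none of whose conjugates lies in `H \ H₀`.
(Adapted from `Helper6.frobenius_kernel_theorem`.)
-/

set_option autoImplicit false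
set_option linter.style.haveILetI false

namespace Cfsg.Agent.Helper4.WFrob

open Module Representation Cfsg.Agent.Helper6
open scoped ComplexConjugate Pointwise

universe u

variable {G : Type u} [Group G]

theorem rel_indFun_apply [Fintype G] (H H₀ : Subgroup G)
    (hTI : ∀ g : G, g ∉ H → ∀ y ∈ H, g * y * g⁻¹ ∈ H → y ∈ H₀) (θ : H → ℂ)
    (hθ : Cfsg.IsClassFunction H θ) (hθ0 : ∀ y : H, (y : G) ∈ H₀ → θ y = 0) (h : H) :
    Cfsg.indFun H θ (h : G) = θ h := by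
  classical
  haveI : Fintype H := Fintype.ofFinite H
  rw [indFun_apply]
  have hterm : ∀ x : G, Cfsg.extendByZero H θ (x⁻¹ * (h : G) * x) =
      Cfsg.extendByZero H (fun _ => θ h) x := by
    intro x
    by_cases hx : x ∈ H
    · rw [extendByZero_mem H _ hx]
      have hmem : x⁻¹ * (h : G) * x ∈ H := H.mul_mem (H.mul_mem (H.inv_mem hx) h.2) hx
      rw [extendByZero_mem H θ hmem]
      have := hθ h (⟨x, hx⟩⁻¹ : H)
      rw [← this]
      congr 1
      apply Subtype.ext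
      simp
    · rw [extendByZero_not_mem H _ hx]
      by_cases hmem : x⁻¹ * (h : G) * x ∈ H
      · rw [extendByZero_mem H θ hmem]
        apply hθ0
        apply hTI x hx _ hmem
        have e : x * (x⁻¹ * (h : G) * x) * x⁻¹ = h := by group
        rw [e]; exact h.2
      · exact extendByZero_not_mem H θ hmem
  simp_rw [hterm]
  rw [sum_extendByZero, Finset.sum_const, Finset.card_univ, nsmul_eq_mul,
    ← Nat.card_eq_fintype_card, ← mul_assoc, inv_mul_cancel₀, one_mul]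
  exact Nat.cast_ne_zero.mpr Nat.card_pos.ne'

theorem rel_indFun_apply_off [Fintype G] (H H₀ : Subgroup G) (θ : H → ℂ)
    (hθ0 : ∀ y : H, (y : G) ∈ H₀ → θ y = 0) (g : G)
    (hg : ∀ x : G, x⁻¹ * g * x ∈ H → x⁻¹ * g * x ∈ H₀) : Cfsg.indFun H θ g = 0 := by
  rw [indFun_apply]
  have : ∀ x : G, Cfsg.extendByZero H θ (x⁻¹ * g * x) = 0 := by
    intro x
    by_cases hmem : x⁻¹ * g * x ∈ H
    · rw [extendByZero_mem H θ hmem]
      exact hθ0 _ (hg x hmem)
    · exact extendByZero_not_mem H θ hmem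
  simp [this]

/-- Every irreducible character of `H` with `H₀` in its kernel extends to an irreducible
character of `G` which is constant off the conjugates of `H \ H₀`. -/
theorem rel_extend_irr [Fintype G] (H H₀ : Subgroup G)
    (hTI : ∀ g : G, g ∉ H → ∀ y ∈ H, g * y * g⁻¹ ∈ H → y ∈ H₀) (φ : H → ℂ)
    (hφ : Cfsg.IsIrrCharacter H φ) (hker : ∀ y : H, (y : G) ∈ H₀ → φ y = φ 1) :
    ∃ χ : G → ℂ, Cfsg.IsIrrCharacter G χ ∧ (∀ h : H, χ h = φ h) ∧
      ∀ g : G, (∀ x : G, x⁻¹ * g * x ∈ H → x⁻¹ * g * x ∈ H₀) → χ g = χ 1 := by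
  classical
  haveI : Fintype H := Fintype.ofFinite H
  by_cases htriv : φ = fun _ => 1
  · subst htriv
    exact ⟨fun _ => 1, isIrrCharacter_one, fun _ => rfl, fun _ _ => rfl⟩
  obtain ⟨d, hdpos, hd⟩ := IsIrrCharacter.apply_one_pos hφ
  have hirr1H : Cfsg.IsIrrCharacter H (fun _ => (1 : ℂ)) := isIrrCharacter_one
  have hirr1G : Cfsg.IsIrrCharacter G (fun _ => (1 : ℂ)) := isIrrCharacter_one
  have hθ1 : (φ - (d : ℂ) • (fun _ : H => (1 : ℂ))) 1 = 0 := by
    simp [hd]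
  have hθ0 : ∀ y : H, (y : G) ∈ H₀ → (φ - (d : ℂ) • (fun _ : H => (1 : ℂ))) y = 0 := by
    intro y hy
    simp [hker y hy, hd]
  have hθcf : Cfsg.IsClassFunction H (φ - (d : ℂ) • (fun _ : H => (1 : ℂ))) :=
    IsClassFunction.sub (IsCharacter.isClassFunction (IsIrrCharacter.isCharacter hφ))
      (IsClassFunction.smul _ (IsCharacter.isClassFunction (IsIrrCharacter.isCharacter hirr1H)))
  have hΘH : ∀ h : H, Cfsg.indFun H (φ - (d : ℂ) • (fun _ : H => (1 : ℂ))) (h : G) =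
      (φ - (d : ℂ) • (fun _ : H => (1 : ℂ))) h := fun h =>
    rel_indFun_apply H H₀ hTI _ hθcf hθ0 h
  have hΘcf : Cfsg.IsClassFunction G (Cfsg.indFun H (φ - (d : ℂ) • (fun _ : H => (1 : ℂ)))) :=
    indFun_isClassFunction H _
  have h11 : Cfsg.classInner (fun _ : H => (1 : ℂ)) (fun _ : H => (1 : ℂ)) = 1 :=
    classInner_irr_self hirr1H
  have hφφ : Cfsg.classInner φ φ = 1 := classInner_irr_self hφ
  have hφ1 : Cfsg.classInner φ (fun _ : H => (1 : ℂ)) = 0 := classInner_irr_ne hφ hirr1H htriv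
  have h1φ : Cfsg.classInner (fun _ : H => (1 : ℂ)) φ = 0 :=
    classInner_irr_ne hirr1H hφ (Ne.symm htriv)
  have hθθ : Cfsg.classInner (φ - (d : ℂ) • (fun _ : H => (1 : ℂ)))
      (φ - (d : ℂ) • (fun _ : H => (1 : ℂ))) = 1 + (d : ℂ) ^ 2 := by
    rw [classInner_sub_left, classInner_sub_right, classInner_sub_right, classInner_smul_left,
      classInner_smul_left, classInner_smul_right, classInner_smul_right, hφφ, hφ1, h1φ, h11]
    simp
    ring
  have hθone : Cfsg.classInner (φ - (d : ℂ) • (fun _ : H => (1 : ℂ))) (fun _ : H => (1 : ℂ)) =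
      -(d : ℂ) := by
    rw [classInner_sub_left, classInner_smul_left, hφ1, h11]
    ring
  have hΘΘ : Cfsg.classInner (Cfsg.indFun H (φ - (d : ℂ) • (fun _ : H => (1 : ℂ))))
      (Cfsg.indFun H (φ - (d : ℂ) • (fun _ : H => (1 : ℂ)))) = 1 + (d : ℂ) ^ 2 := by
    rw [frobenius_reciprocity H _ _ hΘcf]
    have : (fun h : H => Cfsg.indFun H (φ - (d : ℂ) • (fun _ : H => (1 : ℂ))) (h : G)) =
        (φ - (d : ℂ) • (fun _ : H => (1 : ℂ))) := funext hΘH
    rw [this, hθθ]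
  have hΘone : Cfsg.classInner (Cfsg.indFun H (φ - (d : ℂ) • (fun _ : H => (1 : ℂ))))
      (fun _ : G => (1 : ℂ)) = -(d : ℂ) := by
    rw [frobenius_reciprocity H _ _
      (IsCharacter.isClassFunction (IsIrrCharacter.isCharacter hirr1G))]
    exact hθone
  have honeΘ : Cfsg.classInner (fun _ : G => (1 : ℂ))
      (Cfsg.indFun H (φ - (d : ℂ) • (fun _ : H => (1 : ℂ)))) = -(d : ℂ) := by
    rw [classInner_conj_symm, hΘone]
    simp
  have hG11 : Cfsg.classInner (fun _ : G => (1 : ℂ)) (fun _ : G => (1 : ℂ)) = 1 :=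
    classInner_irr_self hirr1G
  have hnorm : Cfsg.classInner
      (Cfsg.indFun H (φ - (d : ℂ) • (fun _ : H => (1 : ℂ))) + (d : ℂ) • (fun _ : G => (1 : ℂ)))
      (Cfsg.indFun H (φ - (d : ℂ) • (fun _ : H => (1 : ℂ))) + (d : ℂ) • (fun _ : G => (1 : ℂ)))
      = 1 := by
    rw [classInner_add_left, classInner_add_right, classInner_add_right, classInner_smul_left,
      classInner_smul_left, classInner_smul_right, classInner_smul_right, hΘΘ, hΘone, honeΘ,
      hG11]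
    simp
    ring
  have hgen : Cfsg.IsGeneralizedCharacter G
      (Cfsg.indFun H (φ - (d : ℂ) • (fun _ : H => (1 : ℂ))) +
        (d : ℂ) • (fun _ : G => (1 : ℂ))) := by
    refine ⟨Cfsg.indFun H φ + d • (fun _ : G => (1 : ℂ)),
      d • Cfsg.indFun H (fun _ : H => (1 : ℂ)),
      IsCharacter.add (isCharacter_indFun H φ (IsIrrCharacter.isCharacter hφ))
        (isCharacter_nsmul_aux (IsIrrCharacter.isCharacter hirr1G) d),
      isCharacter_nsmul_aux (isCharacter_indFun H _ (IsIrrCharacter.isCharacter hirr1H)) d, ?_⟩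
    rw [indFun_sub, indFun_smul]
    ext g
    simp only [Pi.add_apply, Pi.sub_apply, Pi.smul_apply, smul_eq_mul, nsmul_eq_mul,
      Pi.mul_apply, Pi.natCast_apply]
    ring
  obtain ⟨ψ, hψ, hor⟩ := exists_signed_irr_of_norm_one hgen hnorm
  have hχ1 : (Cfsg.indFun H (φ - (d : ℂ) • (fun _ : H => (1 : ℂ))) +
      (d : ℂ) • (fun _ : G => (1 : ℂ))) 1 = d := by
    rw [Pi.add_apply, indFun_apply_one, hθ1]
    simp
  rcases hor with h | h
  · refine ⟨_, h ▸ hψ, ?_, ?_⟩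
    · intro x
      rw [Pi.add_apply, hΘH x]
      simp
    · intro g hg
      rw [hχ1, Pi.add_apply, rel_indFun_apply_off H H₀ _ hθ0 g hg]
      simp
  · exfalso
    obtain ⟨n, hnpos, hn⟩ := IsIrrCharacter.apply_one_pos hψ
    have h2 := congrFun h 1
    rw [hχ1, Pi.neg_apply, hn] at h2
    have h3 : ((d + n : ℕ) : ℂ) = 0 := by
      push_cast
      rw [h2]
      ring
    have h4 : d + n = 0 := by exact_mod_cast h3
    omega

/-- Wielandt's generalization of Frobenius' theorem. -/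
theorem exists_normal_of_relTI [Finite G] (H H₀ : Subgroup G)
    (hn : ∀ h ∈ H, ∀ y ∈ H₀, h * y * h⁻¹ ∈ H₀)
    (hTI : ∀ g : G, g ∉ H → ∀ y ∈ H, g * y * g⁻¹ ∈ H → y ∈ H₀) :
    ∃ N : Subgroup G, N.Normal ∧ (∀ x ∈ N, x ∈ H → x ∈ H₀) ∧
      ∀ g : G, (∀ x : G, x⁻¹ * g * x ∈ H → x⁻¹ * g * x ∈ H₀) → g ∈ N := by
  classical
  haveI := Fintype.ofFinite G
  haveI : Fintype H := Fintype.ofFinite H
  haveI : Finite (Cfsg.IrrCharacter H) := irr_finite
  haveI : Fintype (Cfsg.IrrCharacter H) := Fintype.ofFinite _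
  haveI hn' : (H₀.subgroupOf H).Normal := by
    constructor
    intro y hy h
    rw [Subgroup.mem_subgroupOf] at hy ⊢
    exact hn h h.2 y hy
  have hext : ∀ φ : Cfsg.IrrCharacter H,
      (∀ n ∈ H₀.subgroupOf H, (φ : H → ℂ) n = (φ : H → ℂ) 1) →
      ∃ K : Subgroup G, K.Normal ∧
      (∀ h : H, (h : G) ∈ K → (φ : H → ℂ) h = (φ : H → ℂ) 1) ∧
      ∀ g : G, (∀ x : G, x⁻¹ * g * x ∈ H → x⁻¹ * g * x ∈ H₀) → g ∈ K := by
    intro φ hφker
    obtain ⟨χ, hχ, hres, hoff⟩ := rel_extend_irr H H₀ hTI φ φ.2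
      (fun y hy => hφker y (Subgroup.mem_subgroupOf.2 hy))
    obtain ⟨K, hKn, hK, -⟩ := exists_kernel_data hχ
    refine ⟨K, hKn, ?_, ?_⟩
    · intro h hh
      have h1 := (hK h).mp hh
      rw [hres h] at h1
      rw [h1, ← hres 1, Subgroup.coe_one]
    · intro g hg
      exact (hK g).mpr (hoff g hg)
  choose K hKn hKH hKoff using hext
  refine ⟨⨅ φ, ⨅ hφ, K φ hφ, ?_, ?_, ?_⟩
  · exact Subgroup.normal_iInf_normal
      (fun φ => Subgroup.normal_iInf_normal (fun hφ => hKn φ hφ))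
  · intro x hxN hxH
    by_contra hx0
    have hval : ∀ φ : Cfsg.IrrCharacter H,
        (∀ n ∈ H₀.subgroupOf H, (φ : H → ℂ) n = (φ : H → ℂ) 1) →
        (φ : H → ℂ) ⟨x, hxH⟩ = (φ : H → ℂ) 1 := fun φ hφ =>
      hKH φ hφ ⟨x, hxH⟩ ((Subgroup.mem_iInf.mp ((Subgroup.mem_iInf.mp hxN) φ)) hφ)
    have h1 := sum_degree_mul_irr_of_le_ker (G := H) (H₀.subgroupOf H) (⟨x, hxH⟩ : H)
    have h2 := sum_degree_mul_irr_of_le_ker (G := H) (H₀.subgroupOf H) (1 : H)
    rw [if_neg (by rw [Subgroup.mem_subgroupOf]; exact hx0)] at h1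
    rw [if_pos (Subgroup.one_mem _)] at h2
    have h3 : ∑ χ ∈ Finset.univ.filter (fun χ : Cfsg.IrrCharacter H =>
          ∀ n ∈ H₀.subgroupOf H, (χ : H → ℂ) n = (χ : H → ℂ) 1),
          (χ : H → ℂ) 1 * (χ : H → ℂ) ⟨x, hxH⟩ =
        ∑ χ ∈ Finset.univ.filter (fun χ : Cfsg.IrrCharacter H =>
          ∀ n ∈ H₀.subgroupOf H, (χ : H → ℂ) n = (χ : H → ℂ) 1),
          (χ : H → ℂ) 1 * (χ : H → ℂ) 1 := by
      apply Finset.sum_congr rfl
      intro χ hχ
      rw [hval χ (Finset.mem_filter.1 hχ).2]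
    rw [h3, h2] at h1
    have hidx : ((H₀.subgroupOf H).index : ℂ) ≠ 0 :=
      Nat.cast_ne_zero.mpr Subgroup.index_ne_zero_of_finite
    exact hidx h1
  · intro g hg
    exact Subgroup.mem_iInf.mpr (fun φ => Subgroup.mem_iInf.mpr (fun hφ => hKoff φ hφ g hg))

end Cfsg.Agent.Helper4.WFrob
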