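import Mathlib
import Cfsg.Agent.Helper4.PrimitiveSocle
import Cfsg.Agent.Helper4.SolvablePrimitive
import Cfsg.Agent.Helper4.ConjUnion
import Cfsg.Agent.Helper4.WielandtFrob
import Cfsg.Agent.Helper4.MinNormalPower

set_option autoImplicit false

namespace Cfsg.Agent.Helper4.BurnTT

open MulAction
open scoped Pointwise
open Cfsg.Agent.Helper4

variable {H : Type*} [Group H] {Ω : Type*} [MulAction H Ω]

/-- Two-transitivity in elementary form. -/
def TwoTrans (H Ω : Type*) [Group H] [MulAction H Ω] : Prop :=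
  ∀ a b c d : Ω, a ≠ b → c ≠ d → ∃ g : H, g • a = c ∧ g • b = d

/-- A finite group all of whose non-identity elements have the same order has prime exponent. -/
theorem exists_prime_exponent_of_same_order [Finite H] (K : Subgroup H)
    (hK : ∀ x ∈ K, ∀ y ∈ K, x ≠ 1 → y ≠ 1 → orderOf x = orderOf y) :
    ∃ p : ℕ, p.Prime ∧ ∀ x ∈ K, x ^ p = 1 := by
  by_cases hbot : K = ⊥
  · refine ⟨2, Nat.prime_two, ?_⟩
    intro x hx
    rw [hbot, Subgroup.mem_bot] at hx
    rw [hx, one_pow]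
  · rw [Subgroup.eq_bot_iff_forall] at hbot
    push Not at hbot
    obtain ⟨k, hkK, hk1⟩ := hbot
    have hm0 : orderOf k ≠ 0 := (orderOf_pos k).ne'
    have hm1 : orderOf k ≠ 1 := by rw [Ne, orderOf_eq_one_iff]; exact hk1
    obtain ⟨p, hp⟩ : ∃ p, p = (orderOf k).minFac := ⟨_, rfl⟩
    have hpp : p.Prime := by rw [hp]; exact Nat.minFac_prime hm1
    have hpd : p ∣ orderOf k := by rw [hp]; exact Nat.minFac_dvd _
    have hy : orderOf (k ^ (orderOf k / p)) = p := orderOf_pow_orderOf_div hm0 hpd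
    have hyK : k ^ (orderOf k / p) ∈ K := K.pow_mem hkK _
    have hy1 : k ^ (orderOf k / p) ≠ 1 := by
      intro h1; rw [h1, orderOf_one] at hy; exact hpp.one_lt.ne hy
    have hmp : orderOf k = p := by rw [hK k hkK _ hyK hk1 hy1, hy]
    refine ⟨p, hpp, ?_⟩
    intro x hx
    by_cases hx1 : x = 1
    · rw [hx1, one_pow]
    · rw [← hmp, ← hK x hx k hkK hx1 hk1]; exact pow_orderOf_eq_one x

/-- In a doubly transitive group, a semiregular subgroup each of whose conjugates is either itself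
or commutes with it has all non-identity elements of the same order. -/
theorem orderOf_eq_of_semiregular [FaithfulSMul H Ω] (h2 : TwoTrans H Ω) (K : Subgroup H)
    (hsr : ∀ k ∈ K, ∀ ω : Ω, k • ω = ω → k = 1)
    (hconj : ∀ g : H, (∀ k ∈ K, g * k * g⁻¹ ∈ K) ∨
      (∀ k ∈ K, ∀ k' ∈ K, (g * k * g⁻¹) * k' = k' * (g * k * g⁻¹)))
    {k₁ k₂ : H} (h1 : k₁ ∈ K) (h2' : k₂ ∈ K) (hk1 : k₁ ≠ 1) (hk2 : k₂ ≠ 1) :
    orderOf k₁ = orderOf k₂ := by
  obtain ⟨α⟩ : Nonempty Ω := by
    by_contra hne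
    rw [not_nonempty_iff] at hne
    apply hk1
    apply FaithfulSMul.eq_of_smul_eq_smul (α := Ω)
    intro ω; exact (hne.false ω).elim
  have hβ : k₁ • α ≠ α := fun h => hk1 (hsr k₁ h1 α h)
  have hγ : k₂ • α ≠ α := fun h => hk2 (hsr k₂ h2' α h)
  obtain ⟨g, hgα, hgβ⟩ := h2 α (k₁ • α) α (k₂ • α) (Ne.symm hβ) (Ne.symm hγ)
  have hginv : g⁻¹ • α = α := by rw [inv_smul_eq_iff, hgα]
  have hk'' : (g * k₁ * g⁻¹) • α = k₂ • α := by
    rw [mul_smul, mul_smul, hginv, hgβ]
  have hord : orderOf (g * k₁ * g⁻¹) = orderOf k₁ := by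
    have := orderOf_injective (MulAut.conj g).toMonoidHom (MulAut.conj g).injective k₁
    simpa using this
  rw [← hord]
  rcases hconj g with hc | hc
  · have hmem : (g * k₁ * g⁻¹)⁻¹ * k₂ ∈ K := K.mul_mem (K.inv_mem (hc k₁ h1)) h2'
    have hfix : ((g * k₁ * g⁻¹)⁻¹ * k₂) • α = α := by
      rw [mul_smul, ← hk'', inv_smul_smul]
    have h3 := hsr _ hmem α hfix
    have heq : k₂ = g * k₁ * g⁻¹ := by
      rw [inv_mul_eq_one] at h3
      exact h3.symm
    rw [heq]
  · obtain ⟨c, hcdef⟩ : ∃ c : H, c = g * k₁ * g⁻¹ := ⟨_, rfl⟩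
    rw [← hcdef] at hk'' ⊢
    have hcomm' : Commute c k₂ := by
      have := hc k₁ h1 k₂ h2'
      rw [← hcdef] at this
      exact this
    have hsr' : ∀ j : ℕ, (c ^ j) • α = α → c ^ j = 1 := by
      intro j hj
      have hcj : c ^ j = g * k₁ ^ j * g⁻¹ := by rw [hcdef, conj_pow]
      rw [hcj] at hj ⊢
      have h4 : (k₁ ^ j) • α = α := by
        rw [mul_smul, mul_smul, hginv] at hj
        have h5 := congrArg (fun t => g⁻¹ • t) hj
        simpa [hginv] using h5
      rw [hsr _ (K.pow_mem h1 j) α h4]; simp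
    have hz : ∀ j : ℕ, (c⁻¹ * k₂) ^ j = (c ^ j)⁻¹ * k₂ ^ j := by
      intro j
      rw [(hcomm'.inv_left).mul_pow, inv_pow]
    have hzfix : ∀ j : ℕ, ((c⁻¹ * k₂) ^ j) • α = α := by
      intro j
      have h0 : (c⁻¹ * k₂) • α = α := by rw [mul_smul, ← hk'', inv_smul_smul]
      induction j with
      | zero => simp
      | succ j ih => rw [pow_succ, mul_smul, h0, ih]
    apply Nat.dvd_antisymm
    · apply orderOf_dvd_of_pow_eq_one
      have h := hzfix (orderOf k₂)
      rw [hz, pow_orderOf_eq_one, mul_one] at h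
      exact hsr' _ (inv_smul_eq_iff.1 h).symm
    · apply orderOf_dvd_of_pow_eq_one
      have h := hzfix (orderOf c)
      rw [hz, pow_orderOf_eq_one, inv_one, one_mul] at h
      exact hsr _ (K.pow_mem h2' _) α h

/-- A finite simple group is not a Frobenius group. -/
theorem false_of_simple_frobenius {X : Type*} [Group X] [Finite X] [IsSimpleGroup X] {Ω : Type*}
    [MulAction X Ω] (α : Ω) (hstab : stabilizer X α ≠ ⊥) (hne : stabilizer X α ≠ ⊤)
    (hTI : ∀ x : X, x • α = α → ∀ β : Ω, β ≠ α → x • β = β → x = 1) : False := by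
  have hTI' : ∀ g : X, g ∉ stabilizer X α → ∀ y ∈ stabilizer X α,
      g * y * g⁻¹ ∈ stabilizer X α → y ∈ (⊥ : Subgroup X) := by
    intro g hg y hy hgy
    rw [Subgroup.mem_bot]
    have h1 : y • α = α := hy
    have h2 : y • (g⁻¹ • α) = g⁻¹ • α := by
      have h3 : (g * y * g⁻¹) • α = α := hgy
      rw [mul_smul, mul_smul] at h3
      have h4 := congrArg (fun t => g⁻¹ • t) h3
      simpa using h4
    refine hTI y h1 (g⁻¹ • α) ?_ h2
    intro h
    apply hg
    rw [mem_stabilizer_iff]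
    rw [inv_smul_eq_iff] at h
    exact h.symm
  obtain ⟨M, hMn, hM1, hM2⟩ := WFrob.exists_normal_of_relTI (stabilizer X α) ⊥
    (by
      intro h _ y hy
      rw [Subgroup.mem_bot] at hy ⊢
      rw [hy]; simp) hTI'
  obtain ⟨g, hg⟩ := exists_not_mem_conj (stabilizer X α) hne
  have hgM : g ∈ M := hM2 g (fun x hx => absurd hx (hg x))
  have hg1 : g ≠ 1 := by
    intro h
    apply hg 1
    rw [h]; simp
  rcases hMn.eq_bot_or_eq_top with hb | ht
  · rw [hb, Subgroup.mem_bot] at hgM; exact hg1 hgM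
  · apply hstab
    rw [eq_bot_iff]
    intro x hx
    exact hM1 x (by rw [ht]; trivial) hx

end Cfsg.Agent.Helper4.BurnTT
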