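import Mathlib
import Cfsg.Agent.Helper4.BurnTTA

set_option autoImplicit false

namespace Cfsg.Agent.Helper4.BurnTT

open MulAction
open scoped Pointwise
open Cfsg.Agent.Helper4

variable {H : Type*} [Group H] {Ω : Type*} [MulAction H Ω]

/-- Translates of blocks of a normal subgroup are blocks. -/
theorem isBlock_smul_of_normal (N : Subgroup H) [hN : N.Normal] {B : Set Ω} (hB : IsBlock N B)
    (g : H) : IsBlock N (g • B) := by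
  rw [isBlock_iff_smul_eq_of_mem] at hB ⊢
  intro n a ha hna
  obtain ⟨b, hb, rfl⟩ := ha
  obtain ⟨b', hb', hb'eq⟩ := hna
  have hn' : g⁻¹ * (n : H) * g ∈ N := by
    have := hN.conj_mem (n : H) n.2 g⁻¹
    simpa using this
  have hb'eq' : g • b' = (n : H) • g • b := hb'eq
  have h1 : (⟨g⁻¹ * (n : H) * g, hn'⟩ : N) • b ∈ B := by
    show (g⁻¹ * (n : H) * g) • b ∈ B
    have : (g⁻¹ * (n : H) * g) • b = b' := by
      rw [mul_smul, mul_smul, ← hb'eq', inv_smul_smul]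
    rw [this]; exact hb'
  have h2 := hB hb h1
  ext x
  rw [Set.mem_smul_set_iff_inv_smul_mem, Set.mem_smul_set_iff_inv_smul_mem,
    Set.mem_smul_set_iff_inv_smul_mem]
  have h3 : ∀ y : Ω, y ∈ B ↔ (⟨g⁻¹ * (n : H) * g, hn'⟩ : N)⁻¹ • y ∈ B := by
    intro y
    rw [← Set.mem_smul_set_iff_inv_smul_mem, h2]
  rw [h3 (g⁻¹ • x)]
  have h4 : (⟨g⁻¹ * (n : H) * g, hn'⟩ : N)⁻¹ • (g⁻¹ • x) = g⁻¹ • ((n⁻¹ : N) • x) := by
    show ((g⁻¹ * (n : H) * g)⁻¹) • (g⁻¹ • x) = g⁻¹ • (((n : H)⁻¹) • x)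
    rw [← mul_smul, ← mul_smul]
    congr 1
    group
  rw [h4]

/-- A transitive normal subgroup of a doubly transitive group is primitive or has trivial
two-point stabilizers. -/
theorem preprimitive_or_TI [Finite Ω] [FaithfulSMul H Ω] (h2 : TwoTrans H Ω) (N : Subgroup H)
    [N.Normal] [IsPretransitive N Ω] :
    IsPreprimitive N Ω ∨ ∀ x ∈ N, ∀ α β : Ω, α ≠ β → x • α = α → x • β = β → x = 1 := by
  by_cases hp : IsPreprimitive N Ω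
  · exact Or.inl hp
  right
  have hex : ∃ B : Set Ω, IsBlock N B ∧ B.Nontrivial ∧ B ≠ Set.univ := by
    by_contra hno
    apply hp
    refine ⟨?_⟩
    intro B hB
    by_contra htriv
    apply hno
    refine ⟨B, hB, ?_, ?_⟩
    · rw [← Set.not_subsingleton_iff]; intro hs; exact htriv (Or.inl hs)
    · intro hu; exact htriv (Or.inr hu)
  obtain ⟨S, hS⟩ : ∃ S : Set (Set Ω), S = {B | IsBlock N B ∧ B.Nontrivial ∧ B ≠ Set.univ} :=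
    ⟨_, rfl⟩
  have hmemS : ∀ L : Set Ω, L ∈ S ↔ (IsBlock N L ∧ L.Nontrivial ∧ L ≠ Set.univ) := by
    intro L; rw [hS]; rfl
  have hSne : S.Nonempty := by
    obtain ⟨B, hB⟩ := hex
    exact ⟨B, (hmemS B).2 hB⟩
  obtain ⟨B, hBS, hBmin⟩ := Set.exists_min_image S Set.ncard (Set.toFinite S) hSne
  obtain ⟨hB, hBnt, hBu⟩ := (hmemS B).1 hBS
  have fact1 : ∀ L₁ L₂ : Set Ω, L₁ ∈ S → L₂ ∈ S → L₁.ncard = B.ncard → L₂.ncard = B.ncard →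
      ∀ a b : Ω, a ≠ b → a ∈ L₁ → b ∈ L₁ → a ∈ L₂ → b ∈ L₂ → L₁ = L₂ := by
    intro L₁ L₂ h1 h2' hc1 hc2 a b hab ha1 hb1 ha2 hb2
    have h1' := (hmemS L₁).1 h1
    have h2'' := (hmemS L₂).1 h2'
    have hI : L₁ ∩ L₂ ∈ S := by
      rw [hmemS]
      refine ⟨h1'.1.inter h2''.1, ⟨a, ⟨ha1, ha2⟩, b, ⟨hb1, hb2⟩, hab⟩, ?_⟩
      intro hu
      apply h1'.2.2
      rw [Set.eq_univ_iff_forall] at hu ⊢
      intro x; exact (hu x).1
    have hge := hBmin _ hI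
    have e1 : L₁ ∩ L₂ = L₁ :=
      Set.eq_of_subset_of_ncard_le Set.inter_subset_left (by rw [hc1]; exact hge) (Set.toFinite _)
    have e2 : L₁ ∩ L₂ = L₂ :=
      Set.eq_of_subset_of_ncard_le Set.inter_subset_right (by rw [hc2]; exact hge) (Set.toFinite _)
    exact e1.symm.trans e2
  have fact2 : ∀ β γ : Ω, β ≠ γ → ∃ L ∈ S, L.ncard = B.ncard ∧ β ∈ L ∧ γ ∈ L := by
    intro β γ hβγ
    obtain ⟨a, ha, b, hb, hab⟩ := hBnt
    obtain ⟨g, hga, hgb⟩ := h2 a b β γ hab hβγ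
    have hβL : β ∈ g • B := by rw [← hga]; exact Set.smul_mem_smul_set ha
    have hγL : γ ∈ g • B := by rw [← hgb]; exact Set.smul_mem_smul_set hb
    refine ⟨g • B, ?_, Set.ncard_smul_set g B, hβL, hγL⟩
    rw [hmemS]
    refine ⟨isBlock_smul_of_normal N hB g, ⟨β, hβL, γ, hγL, hβγ⟩, ?_⟩
    intro hu
    apply hBu
    rw [Set.eq_univ_iff_forall] at hu ⊢
    intro x
    have := hu (g • x)
    rwa [Set.smul_mem_smul_set_iff] at this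
  have fact3 : ∀ L : Set Ω, IsBlock N L → ∀ x ∈ N, ∀ a ∈ L, x • a = a → ∀ c ∈ L, x • c ∈ L := by
    intro L hL x hx a ha hxa c hc
    rw [isBlock_iff_smul_eq_of_mem] at hL
    have h1 : (⟨x, hx⟩ : N) • a ∈ L := by
      show x • a ∈ L
      rw [hxa]; exact ha
    have h2' := hL ha h1
    have h3 : (⟨x, hx⟩ : N) • c ∈ (⟨x, hx⟩ : N) • L := Set.smul_mem_smul_set hc
    rw [h2'] at h3
    exact h3
  intro x hx α β hαβ hxα hxβ
  have claim : ∀ β' : Ω, β' ≠ α → x • β' = β' → ∀ L ∈ S, L.ncard = B.ncard → α ∈ L → β' ∈ L →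
      ∀ γ : Ω, γ ∉ L → x • γ = γ := by
    intro β' hβ'α hxβ' L hLS hLc hαL hβ'L γ hγL
    have hγα : α ≠ γ := fun h => hγL (h ▸ hαL)
    have hγβ' : β' ≠ γ := fun h => hγL (h ▸ hβ'L)
    obtain ⟨L₁, hL₁S, hL₁c, hαL₁, hγL₁⟩ := fact2 α γ hγα
    obtain ⟨L₂, hL₂S, hL₂c, hβ'L₂, hγL₂⟩ := fact2 β' γ hγβ'
    have h1 : x • γ ∈ L₁ := fact3 L₁ ((hmemS L₁).1 hL₁S).1 x hx α hαL₁ hxα γ hγL₁
    have h2' : x • γ ∈ L₂ := fact3 L₂ ((hmemS L₂).1 hL₂S).1 x hx β' hβ'L₂ hxβ' γ hγL₂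
    by_contra hne
    have e12 : L₁ = L₂ := fact1 L₁ L₂ hL₁S hL₂S hL₁c hL₂c (x • γ) γ hne h1 hγL₁ h2' hγL₂
    have hβ'L₁ : β' ∈ L₁ := by rw [e12]; exact hβ'L₂
    have e1 : L₁ = L := fact1 L₁ L hL₁S hLS hL₁c hLc α β' (Ne.symm hβ'α) hαL₁ hβ'L₁ hαL hβ'L
    apply hγL
    rw [← e1]; exact hγL₁
  obtain ⟨L₀, hL₀S, hL₀c, hαL₀, hβL₀⟩ := fact2 α β hαβ
  apply FaithfulSMul.eq_of_smul_eq_smul (α := Ω)
  intro γ
  rw [one_smul]
  by_cases hγL₀ : γ ∈ L₀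
  · by_cases hγα : γ = α
    · rw [hγα]; exact hxα
    · have hL₀u := ((hmemS L₀).1 hL₀S).2.2
      obtain ⟨γ₀, hγ₀⟩ : ∃ γ₀, γ₀ ∉ L₀ := by
        by_contra hall
        push Not at hall
        exact hL₀u (Set.eq_univ_iff_forall.2 hall)
      have hxγ₀ : x • γ₀ = γ₀ := claim β (Ne.symm hαβ) hxβ L₀ hL₀S hL₀c hαL₀ hβL₀ γ₀ hγ₀
      have hγ₀α : γ₀ ≠ α := fun h => hγ₀ (h ▸ hαL₀)
      obtain ⟨L', hL'S, hL'c, hαL', hγ₀L'⟩ := fact2 α γ₀ (Ne.symm hγ₀α)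
      have hγL' : γ ∉ L' := by
        intro hγL'
        have e : L' = L₀ :=
          fact1 L' L₀ hL'S hL₀S hL'c hL₀c α γ (Ne.symm hγα) hαL' hγL' hαL₀ hγL₀
        apply hγ₀
        rw [← e]; exact hγ₀L'
      exact claim γ₀ hγ₀α hxγ₀ L' hL'S hL'c hαL' hγ₀L' γ hγL'
  · exact claim β (Ne.symm hαβ) hxβ L₀ hL₀S hL₀c hαL₀ hβL₀ γ hγL₀

end Cfsg.Agent.Helper4.BurnTT
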