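import Mathlib
import Cfsg.Agent.Helper4.BurnTTB

set_option autoImplicit false

namespace Cfsg.Agent.Helper4.BurnTT

open MulAction
open scoped Pointwise
open Cfsg.Agent.Helper4

variable {H : Type*} [Group H] {Ω : Type*} [MulAction H Ω]

theorem mem_map_conj_iff (K : Subgroup H) (g x : H) :
    x ∈ K.map (MulAut.conj g).toMonoidHom ↔ g⁻¹ * x * g ∈ K := by
  rw [Subgroup.mem_map]
  constructor
  · rintro ⟨k, hk, rfl⟩
    have : g⁻¹ * ((MulAut.conj g).toMonoidHom k) * g = k := by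
      simp [MulAut.conj_apply, mul_assoc]
    rw [this]; exact hk
  · intro h
    refine ⟨g⁻¹ * x * g, h, ?_⟩
    simp [MulAut.conj_apply, mul_assoc]

/-- If a minimal normal subgroup `N` of a doubly transitive group has a proper nontrivial
`N`-normal subgroup, then `N` is abelian. -/
theorem abelian_of_proper_minNormal [Finite H] [FaithfulSMul H Ω] (h2 : TwoTrans H Ω)
    (N : Subgroup H) [hNn : N.Normal]
    (hNmin : ∀ M : Subgroup H, M.Normal → M ≤ N → M = ⊥ ∨ M = N)
    (K : Subgroup H) (hKN : K ≤ N) (hK1 : K ≠ ⊥) (hKN' : K ≠ N)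
    (hKnorm : ∀ n ∈ N, ∀ k ∈ K, n * k * n⁻¹ ∈ K)
    (hKmin : ∀ R : Subgroup H, R ≤ K → (∀ n ∈ N, ∀ r ∈ R, n * r * n⁻¹ ∈ R) → R = ⊥ ∨ R = K) :
    ∀ a ∈ N, ∀ b ∈ N, a * b = b * a := by
  -- conjugates of K
  have hKgN : ∀ g : H, K.map (MulAut.conj g).toMonoidHom ≤ N := by
    intro g x hx
    rw [mem_map_conj_iff] at hx
    have := hNn.conj_mem _ (hKN hx) g
    simpa [mul_assoc] using this
  have hKgnorm : ∀ g : H, ∀ n ∈ N, ∀ x ∈ K.map (MulAut.conj g).toMonoidHom,
      n * x * n⁻¹ ∈ K.map (MulAut.conj g).toMonoidHom := by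
    intro g n hn x hx
    rw [mem_map_conj_iff] at hx ⊢
    have hn' : g⁻¹ * n * g ∈ N := by
      have := hNn.conj_mem n hn g⁻¹
      simpa using this
    have := hKnorm _ hn' _ hx
    have e : g⁻¹ * (n * x * n⁻¹) * g = g⁻¹ * n * g * (g⁻¹ * x * g) * (g⁻¹ * n * g)⁻¹ := by group
    rw [e]; exact this
  have hKgcard : ∀ g : H, Nat.card (K.map (MulAut.conj g).toMonoidHom) = Nat.card K := by
    intro g
    exact Subgroup.card_map_of_injective (MulAut.conj g).injective
  -- the dichotomy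
  have hdich : ∀ g : H, K.map (MulAut.conj g).toMonoidHom = K ∨
      (∀ x ∈ K.map (MulAut.conj g).toMonoidHom, ∀ k ∈ K, x * k = k * x) := by
    intro g
    have hRnorm : ∀ n ∈ N, ∀ r ∈ K.map (MulAut.conj g).toMonoidHom ⊓ K,
        n * r * n⁻¹ ∈ K.map (MulAut.conj g).toMonoidHom ⊓ K := by
      intro n hn r hr
      exact ⟨hKgnorm g n hn r hr.1, hKnorm n hn r hr.2⟩
    rcases hKmin (K.map (MulAut.conj g).toMonoidHom ⊓ K) inf_le_right hRnorm with hR | hR
    · right
      intro x hx k hk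
      have hxN : x ∈ N := hKgN g hx
      have hkN : k ∈ N := hKN hk
      have h1 : x * k * x⁻¹ * k⁻¹ ∈ K := K.mul_mem (hKnorm x hxN k hk) (K.inv_mem hk)
      have h2' : x * k * x⁻¹ * k⁻¹ ∈ K.map (MulAut.conj g).toMonoidHom := by
        have h3 := hKgnorm g k hkN x⁻¹ (Subgroup.inv_mem _ hx)
        have h4 := Subgroup.mul_mem _ hx h3
        have e : x * (k * x⁻¹ * k⁻¹) = x * k * x⁻¹ * k⁻¹ := by group
        rw [e] at h4; exact h4
      have h5 : x * k * x⁻¹ * k⁻¹ ∈ K.map (MulAut.conj g).toMonoidHom ⊓ K := ⟨h2', h1⟩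
      rw [hR, Subgroup.mem_bot] at h5
      have h6 : x * k = (x * k * x⁻¹ * k⁻¹) * (k * x) := by group
      rw [h6, h5, one_mul]
    · left
      have hle : K ≤ K.map (MulAut.conj g).toMonoidHom := by
        intro x hx
        have h : x ∈ K.map (MulAut.conj g).toMonoidHom ⊓ K := by rw [hR]; exact hx
        exact (Subgroup.mem_inf.1 h).1
      exact (Subgroup.eq_of_le_of_card_ge hle (by rw [hKgcard g])).symm
  -- some conjugate differs from K
  have hex : ∃ g₀ : H, K.map (MulAut.conj g₀).toMonoidHom ≠ K := by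
    by_contra hall
    push Not at hall
    have hKnormal : K.Normal := by
      constructor
      intro k hk g
      have : g * k * g⁻¹ ∈ K.map (MulAut.conj g).toMonoidHom := by
        rw [mem_map_conj_iff]
        have e : g⁻¹ * (g * k * g⁻¹) * g = k := by group
        rw [e]; exact hk
      rw [hall g] at this; exact this
    rcases hNmin K hKnormal hKN with h | h
    · exact hK1 h
    · exact hKN' h
  obtain ⟨g₀, hg₀⟩ := hex
  have hg₀comm : ∀ x ∈ K.map (MulAut.conj g₀).toMonoidHom, ∀ k ∈ K, x * k = k * x := by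
    rcases hdich g₀ with h | h
    · exact absurd h hg₀
    · exact h
  -- the centralizer of K in N
  obtain ⟨L, hL⟩ : ∃ L : Subgroup H, L = Subgroup.centralizer (K : Set H) ⊓ N := ⟨_, rfl⟩
  have hmemL : ∀ x : H, x ∈ L ↔ (∀ k ∈ K, k * x = x * k) ∧ x ∈ N := by
    intro x
    rw [hL, Subgroup.mem_inf, Subgroup.mem_centralizer_iff]
    rfl
  -- a moved point
  obtain ⟨k₀, hk₀K, hk₀1⟩ : ∃ k₀ ∈ K, k₀ ≠ 1 := by
    rw [Ne, Subgroup.eq_bot_iff_forall] at hK1
    push Not at hK1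
    exact hK1
  obtain ⟨α, hα⟩ : ∃ α : Ω, k₀ • α ≠ α := by
    by_contra hall
    push Not at hall
    apply hk₀1
    apply FaithfulSMul.eq_of_smul_eq_smul (α := Ω)
    intro ω; rw [hall ω, one_smul]
  -- covering
  have hcover : ∀ γ : Ω, (∃ k ∈ K, k • α = γ) ∨ (∃ l ∈ L, l • α = γ) := by
    intro γ
    by_cases hγ : γ = α
    · left; exact ⟨1, K.one_mem, by rw [one_smul, hγ]⟩
    · obtain ⟨g, hgα, hgβ⟩ := h2 α (k₀ • α) α γ (Ne.symm hα) (Ne.symm hγ)
      have hginv : g⁻¹ • α = α := by rw [inv_smul_eq_iff, hgα]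
      have hxα : (g * k₀ * g⁻¹) • α = γ := by rw [mul_smul, mul_smul, hginv, hgβ]
      have hxmem : g * k₀ * g⁻¹ ∈ K.map (MulAut.conj g).toMonoidHom := by
        rw [mem_map_conj_iff]
        have e : g⁻¹ * (g * k₀ * g⁻¹) * g = k₀ := by group
        rw [e]; exact hk₀K
      rcases hdich g with h | h
      · left
        rw [h] at hxmem
        exact ⟨_, hxmem, hxα⟩
      · right
        refine ⟨g * k₀ * g⁻¹, ?_, hxα⟩
        rw [hmemL]
        exact ⟨fun k hk => (h _ hxmem k hk).symm, hKgN g hxmem⟩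
  -- L is transitive at α
  have hLtrans : ∀ δ : Ω, ∃ l ∈ L, l • α = δ := by
    by_cases hKt : ∀ γ : Ω, ∃ k ∈ K, k • α = γ
    · -- K transitive; then its conjugate by g₀ is transitive and lies in L
      intro δ
      obtain ⟨k₁, hk₁, hk₁α⟩ := hKt (g₀⁻¹ • α)
      obtain ⟨k₂, hk₂, hk₂α⟩ := hKt (g₀⁻¹ • δ)
      -- x = g₀ (k₂ k₁⁻¹) g₀⁻¹ maps α to δ
      refine ⟨g₀ * (k₂ * k₁⁻¹) * g₀⁻¹, ?_, ?_⟩
      · have hxmem : g₀ * (k₂ * k₁⁻¹) * g₀⁻¹ ∈ K.map (MulAut.conj g₀).toMonoidHom := by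
          rw [mem_map_conj_iff]
          have e : g₀⁻¹ * (g₀ * (k₂ * k₁⁻¹) * g₀⁻¹) * g₀ = k₂ * k₁⁻¹ := by group
          rw [e]; exact K.mul_mem hk₂ (K.inv_mem hk₁)
        rw [hmemL]
        exact ⟨fun k hk => (hg₀comm _ hxmem k hk).symm, hKgN g₀ hxmem⟩
      · have h1 : k₁⁻¹ • (g₀⁻¹ • α) = α := by rw [inv_smul_eq_iff, hk₁α]
        rw [mul_smul, mul_smul, mul_smul, h1, hk₂α, smul_inv_smul]
    · push Not at hKt
      obtain ⟨γ, hγ⟩ := hKt
      by_contra hLt
      push Not at hLt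
      obtain ⟨δ, hδ⟩ := hLt
      obtain ⟨l, hl, hlα⟩ : ∃ l ∈ L, l • α = γ := by
        rcases hcover γ with ⟨k, hk, hkα⟩ | h
        · exact absurd hkα (hγ k hk)
        · exact h
      obtain ⟨k', hk', hk'α⟩ : ∃ k ∈ K, k • α = δ := by
        rcases hcover δ with h | ⟨l', hl', hl'α⟩
        · exact h
        · exact absurd hl'α (hδ l' hl')
      have hcomm : k' * l = l * k' := ((hmemL l).1 hl).1 k' hk'
      have hlδ : l • δ = k' • γ := by
        rw [← hk'α, ← hlα, ← mul_smul, ← mul_smul, hcomm]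
      rcases hcover (l • δ) with ⟨k'', hk'', hk''α⟩ | ⟨l', hl', hl'α⟩
      · apply hγ (k'⁻¹ * k'') (K.mul_mem (K.inv_mem hk') hk'')
        rw [mul_smul, hk''α, hlδ, inv_smul_smul]
      · apply hδ (l⁻¹ * l') (L.mul_mem (L.inv_mem hl) hl')
        rw [mul_smul, hl'α, inv_smul_smul]
  haveI hLpre : IsPretransitive L Ω := by
    constructor
    intro x y
    obtain ⟨l₁, hl₁, hl₁α⟩ := hLtrans x
    obtain ⟨l₂, hl₂, hl₂α⟩ := hLtrans y
    refine ⟨⟨l₂ * l₁⁻¹, L.mul_mem hl₂ (L.inv_mem hl₁)⟩, ?_⟩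
    show (l₂ * l₁⁻¹) • x = y
    rw [mul_smul, ← hl₁α, inv_smul_smul, hl₂α]
  -- K is semiregular
  have hsr : ∀ k ∈ K, ∀ ω : Ω, k • ω = ω → k = 1 := by
    intro k hk ω hω
    exact eq_one_of_commute_transitive L k (fun l hl => ((hmemL l).1 hl).1 k hk) ω hω
  have hconj : ∀ g : H, (∀ k ∈ K, g * k * g⁻¹ ∈ K) ∨
      (∀ k ∈ K, ∀ k' ∈ K, (g * k * g⁻¹) * k' = k' * (g * k * g⁻¹)) := by
    intro g
    have hmem : ∀ k ∈ K, g * k * g⁻¹ ∈ K.map (MulAut.conj g).toMonoidHom := by
      intro k hk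
      rw [mem_map_conj_iff]
      have e : g⁻¹ * (g * k * g⁻¹) * g = k := by group
      rw [e]; exact hk
    rcases hdich g with h | h
    · left
      intro k hk
      have := hmem k hk
      rw [h] at this; exact this
    · right
      intro k hk k' hk'
      exact h _ (hmem k hk) k' hk'
  -- prime exponent
  obtain ⟨p, hp, hpK⟩ := exists_prime_exponent_of_same_order K
    (fun x hx y hy hx1 hy1 => orderOf_eq_of_semiregular h2 K hsr hconj hx hy hx1 hy1)
  haveI : Fact p.Prime := ⟨hp⟩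
  have hKp : IsPGroup p K := by
    intro y
    refine ⟨1, ?_⟩
    rw [pow_one]
    apply Subtype.ext
    simpa using hpK y y.2
  haveI : Nontrivial K := (Subgroup.nontrivial_iff_ne_bot K).2 hK1
  have hcen : Nontrivial (Subgroup.center K) := hKp.center_nontrivial
  obtain ⟨z, hz1⟩ := exists_ne (1 : Subgroup.center K)
  -- K is abelian
  have hKab : ∀ a ∈ K, ∀ b ∈ K, a * b = b * a := by
    have hZnorm : ∀ n ∈ N, ∀ r ∈ K ⊓ Subgroup.centralizer (K : Set H),
        n * r * n⁻¹ ∈ K ⊓ Subgroup.centralizer (K : Set H) := by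
      intro n hn r hr
      refine Subgroup.mem_inf.2 ⟨hKnorm n hn r (Subgroup.mem_inf.1 hr).1, ?_⟩
      rw [Subgroup.mem_centralizer_iff]
      intro k hk
      have hk' : n⁻¹ * k * n ∈ K := by
        have := hKnorm n⁻¹ (N.inv_mem hn) k hk
        simpa using this
      have hc := (Subgroup.mem_centralizer_iff.1 (Subgroup.mem_inf.1 hr).2) _ hk'
      have e1 : k * (n * r * n⁻¹) = n * ((n⁻¹ * k * n) * r) * n⁻¹ := by group
      have e2 : n * r * n⁻¹ * k = n * (r * (n⁻¹ * k * n)) * n⁻¹ := by group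
      rw [e1, e2, hc]
    rcases hKmin (K ⊓ Subgroup.centralizer (K : Set H)) inf_le_left hZnorm with hZ | hZ
    · exfalso
      apply hz1
      have hzmem : ((z : K) : H) ∈ K ⊓ Subgroup.centralizer (K : Set H) := by
        refine Subgroup.mem_inf.2 ⟨(z : K).2, ?_⟩
        rw [Subgroup.mem_centralizer_iff]
        intro k hk
        have := (Subgroup.mem_center_iff.1 z.2) ⟨k, hk⟩
        exact congrArg Subtype.val this
      rw [hZ, Subgroup.mem_bot] at hzmem
      apply Subtype.ext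
      apply Subtype.ext
      exact hzmem
    · intro a ha b hb
      have hb' : b ∈ K ⊓ Subgroup.centralizer (K : Set H) := by rw [hZ]; exact hb
      exact (Subgroup.mem_centralizer_iff.1 (Subgroup.mem_inf.1 hb').2) a ha
  -- N is the normal closure of K
  have hNC : Subgroup.normalClosure (K : Set H) = N := by
    rcases hNmin _ Subgroup.normalClosure_normal
      (Subgroup.normalClosure_le_normal (fun x hx => hKN hx)) with h | h
    · exfalso
      apply hK1
      rw [eq_bot_iff, ← h]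
      exact Subgroup.le_normalClosure
    · exact h
  -- conjugates of elements of K commute
  have hScomm : ∀ s ∈ Group.conjugatesOfSet (K : Set H), ∀ t ∈ Group.conjugatesOfSet (K : Set H),
      s * t = t * s := by
    intro s hs t ht
    rw [Group.mem_conjugatesOfSet_iff] at hs ht
    obtain ⟨k, hk, hks⟩ := hs
    obtain ⟨k', hk', hkt⟩ := ht
    rw [isConj_iff] at hks hkt
    obtain ⟨c, rfl⟩ := hks
    obtain ⟨d, rfl⟩ := hkt
    -- conjugate by d⁻¹
    have key : (d⁻¹ * c) * k * (d⁻¹ * c)⁻¹ * k' = k' * ((d⁻¹ * c) * k * (d⁻¹ * c)⁻¹) := by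
      rcases hconj (d⁻¹ * c) with h | h
      · exact hKab _ (h k hk) k' hk'
      · exact h k hk k' hk'
    have e1 : c * k * c⁻¹ * (d * k' * d⁻¹) = d * ((d⁻¹ * c) * k * (d⁻¹ * c)⁻¹ * k') * d⁻¹ := by
      group
    have e2 : d * k' * d⁻¹ * (c * k * c⁻¹) = d * (k' * ((d⁻¹ * c) * k * (d⁻¹ * c)⁻¹)) * d⁻¹ := by
      group
    rw [e1, e2, key]
  have hstep1 : ∀ s ∈ Group.conjugatesOfSet (K : Set H), ∀ b ∈ N, s * b = b * s := by
    intro s hs b hb
    rw [← hNC] at hb
    have hle : Subgroup.normalClosure (K : Set H) ≤ Subgroup.centralizer ({s} : Set H) := by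
      unfold Subgroup.normalClosure
      rw [Subgroup.closure_le]
      intro t ht
      rw [SetLike.mem_coe, Subgroup.mem_centralizer_iff]
      intro h hh
      rw [Set.mem_singleton_iff] at hh
      rw [hh]; exact hScomm s hs t ht
    have := (Subgroup.mem_centralizer_iff.1 (hle hb)) s (Set.mem_singleton s)
    exact this
  intro a ha b hb
  rw [← hNC] at ha
  have hle : Subgroup.normalClosure (K : Set H) ≤ Subgroup.centralizer ({b} : Set H) := by
    unfold Subgroup.normalClosure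
    rw [Subgroup.closure_le]
    intro t ht
    rw [SetLike.mem_coe, Subgroup.mem_centralizer_iff]
    intro h hh
    rw [Set.mem_singleton_iff] at hh
    rw [hh]; exact (hstep1 t ht b hb).symm
  have := (Subgroup.mem_centralizer_iff.1 (hle ha)) b (Set.mem_singleton b)
  exact this.symm

end Cfsg.Agent.Helper4.BurnTT
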