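import Mathlib
import Cfsg.Agent.Helper4.BurnTTC

set_option autoImplicit false

namespace Cfsg.Agent.Helper4.BurnTT

open MulAction
open scoped Pointwise
open Cfsg.Agent.Helper4

variable {H : Type*} [Group H] {Ω : Type*} [MulAction H Ω]

/-- **Burnside**: a minimal normal subgroup of a finite doubly transitive group is elementary
abelian and regular, or simple and primitive. -/
theorem burnside_two_trans [Finite H] [Finite Ω] [FaithfulSMul H Ω] (h2 : TwoTrans H Ω)
    (N : Subgroup H) [hNn : N.Normal] (hN : N ≠ ⊥)
    (hNmin : ∀ M : Subgroup H, M.Normal → M ≤ N → M = ⊥ ∨ M = N) :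
    (IsMulCommutative N ∧ (∃ p : ℕ, p.Prime ∧ ∀ n ∈ N, n ^ p = 1) ∧
        ∀ a : Ω, stabilizer N a = ⊥) ∨
      (IsSimpleGroup N ∧ IsPreprimitive N Ω) := by
  have h2' : IsMultiplyPretransitive H Ω 2 := by
    rw [is_two_pretransitive_iff]
    intro a b c d hab hcd
    exact h2 a b c d hab hcd
  haveI hprim : IsPreprimitive H Ω := isPreprimitive_of_is_two_pretransitive h2'
  haveI hNtrans : IsPretransitive N Ω := normal_isPretransitive N hN
  haveI hNnt : Nontrivial N := (Subgroup.nontrivial_iff_ne_bot N).2 hN
  by_cases hab : ∀ a ∈ N, ∀ b ∈ N, a * b = b * a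
  · left
    refine ⟨⟨⟨fun a b => Subtype.ext (hab a a.2 b b.2)⟩⟩,
      exists_prime_exponent_of_abelian_minNormal N hN hNmin hab, ?_⟩
    intro a
    rw [eq_bot_iff]
    intro x hx
    rw [Subgroup.mem_bot]
    apply Subtype.ext
    exact eq_one_of_abelian_transitive N hab x x.2 a hx
  · right
    -- simplicity
    have hsimple : IsSimpleGroup N := by
      by_contra hns
      have hexR : ∃ R : Subgroup N, R.Normal ∧ R ≠ ⊥ ∧ R ≠ ⊤ := by
        by_contra hno
        apply hns
        refine { toNontrivial := hNnt, eq_bot_or_eq_top_of_normal := ?_ }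
        intro R hR
        by_contra hc
        rw [not_or] at hc
        exact hno ⟨R, hR, hc.1, hc.2⟩
      obtain ⟨R, hRn, hR1, hRtop⟩ := hexR
      obtain ⟨S, ⟨hSn, hS1, hSmin⟩, hSR⟩ := exists_isMinNormal_le R hRn hR1
      apply hab
      have hmemK : ∀ x : H, x ∈ S.map N.subtype ↔ ∃ hx : x ∈ N, (⟨x, hx⟩ : N) ∈ S := by
        intro x
        rw [Subgroup.mem_map]
        constructor
        · rintro ⟨s, hs, rfl⟩
          exact ⟨s.2, hs⟩
        · rintro ⟨hx, hs⟩
          exact ⟨⟨x, hx⟩, hs, rfl⟩
      refine abelian_of_proper_minNormal h2 N hNmin (S.map N.subtype) (Subgroup.map_subtype_le S)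
        ?_ ?_ ?_ ?_
      · intro h
        exact hS1 ((Subgroup.map_eq_bot_iff_of_injective S N.subtype_injective).1 h)
      · intro h
        apply hRtop
        rw [eq_top_iff]
        intro x _
        have hx : (x : H) ∈ S.map N.subtype := by rw [h]; exact x.2
        obtain ⟨hx', hs⟩ := (hmemK _).1 hx
        exact hSR hs
      · intro n hn k hk
        obtain ⟨hk', hs⟩ := (hmemK k).1 hk
        rw [hmemK]
        refine ⟨N.mul_mem (N.mul_mem hn hk') (N.inv_mem hn), ?_⟩
        have := hSn.conj_mem ⟨k, hk'⟩ hs ⟨n, hn⟩
        exact this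
      · intro R' hR'K hR'norm
        have hR'N : R' ≤ N := hR'K.trans (Subgroup.map_subtype_le S)
        have hnorm : (R'.subgroupOf N).Normal := by
          constructor
          intro x hx n
          rw [Subgroup.mem_subgroupOf] at hx ⊢
          exact hR'norm n n.2 x hx
        have hle : R'.subgroupOf N ≤ S := by
          intro x hx
          rw [Subgroup.mem_subgroupOf] at hx
          obtain ⟨_, hs⟩ := (hmemK _).1 (hR'K hx)
          exact hs
        rcases hSmin _ hnorm hle with h | h
        · left
          rw [eq_bot_iff]
          intro r hr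
          have : (⟨r, hR'N hr⟩ : N) ∈ R'.subgroupOf N := by
            rw [Subgroup.mem_subgroupOf]; exact hr
          rw [h, Subgroup.mem_bot] at this
          rw [Subgroup.mem_bot]
          exact congrArg Subtype.val this
        · right
          apply le_antisymm hR'K
          intro k hk
          obtain ⟨hk', hs⟩ := (hmemK k).1 hk
          rw [← h, Subgroup.mem_subgroupOf] at hs
          exact hs
    refine ⟨hsimple, ?_⟩
    rcases preprimitive_or_TI h2 N with hp | hTI
    · exact hp
    · exfalso
      obtain ⟨α⟩ : Nonempty Ω := by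
        by_contra hne
        rw [not_nonempty_iff] at hne
        apply hN
        rw [Subgroup.eq_bot_iff_forall]
        intro x _
        apply FaithfulSMul.eq_of_smul_eq_smul (α := Ω)
        intro ω; exact (hne.false ω).elim
      have hne : stabilizer N α ≠ ⊤ := by
        intro htop
        apply hN
        rw [Subgroup.eq_bot_iff_forall]
        intro x hx
        apply FaithfulSMul.eq_of_smul_eq_smul (α := Ω)
        intro ω
        obtain ⟨m, hm⟩ := exists_smul_eq N α ω
        have hmα : m • α = α := by
          have : m ∈ stabilizer N α := by rw [htop]; trivial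
          exact this
        have hωα : ω = α := by rw [← hm, hmα]
        have hxα : (⟨x, hx⟩ : N) • α = α := by
          have : (⟨x, hx⟩ : N) ∈ stabilizer N α := by rw [htop]; trivial
          exact this
        rw [one_smul, hωα]
        exact hxα
      have hstab : stabilizer N α ≠ ⊥ := by
        intro hbot
        -- N is semiregular
        have hsr : ∀ n ∈ N, ∀ ω : Ω, n • ω = ω → n = 1 := by
          intro n hn ω hω
          obtain ⟨m, hm⟩ := exists_smul_eq N α ω
          have hm' : (m : H) • α = ω := hm
          have h1 : (m⁻¹ * ⟨n, hn⟩ * m : N) ∈ stabilizer N α := by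
            rw [mem_stabilizer_iff]
            show ((m : H)⁻¹ * n * (m : H)) • α = α
            rw [mul_smul, mul_smul, hm', hω, ← hm', inv_smul_smul]
          rw [hbot, Subgroup.mem_bot] at h1
          have h3 : (⟨n, hn⟩ : N) = 1 := by
            have h4 := congrArg (fun t => m * t * m⁻¹) h1
            simpa [mul_assoc] using h4
          exact congrArg Subtype.val h3
        have hconj : ∀ g : H, (∀ k ∈ N, g * k * g⁻¹ ∈ N) ∨
            (∀ k ∈ N, ∀ k' ∈ N, (g * k * g⁻¹) * k' = k' * (g * k * g⁻¹)) := by
          intro g
          left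
          intro k hk
          exact hNn.conj_mem k hk g
        obtain ⟨p, hp, hpN⟩ := exists_prime_exponent_of_same_order N
          (fun x hx y hy hx1 hy1 => orderOf_eq_of_semiregular h2 N hsr hconj hx hy hx1 hy1)
        haveI : Fact p.Prime := ⟨hp⟩
        have hNp : IsPGroup p N := by
          intro y
          refine ⟨1, ?_⟩
          rw [pow_one]
          apply Subtype.ext
          simpa using hpN y y.2
        have hcen : Nontrivial (Subgroup.center N) := hNp.center_nontrivial
        rcases (inferInstance : (Subgroup.center N).Normal).eq_bot_or_eq_top with h | h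
        · rw [Subgroup.nontrivial_iff_ne_bot] at hcen
          exact hcen h
        · apply hab
          intro a ha b hb
          have hb' : (⟨b, hb⟩ : N) ∈ Subgroup.center N := by rw [h]; trivial
          have := (Subgroup.mem_center_iff.1 hb') ⟨a, ha⟩
          exact congrArg Subtype.val this
      refine false_of_simple_frobenius (X := N) α hstab hne ?_
      intro x hxα β hβα hxβ
      apply Subtype.ext
      exact hTI (x : H) x.2 α β (Ne.symm hβα) hxα hxβ

end Cfsg.Agent.Helper4.BurnTT
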