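import Mathlib

/-!
# Normalizers in a central extension by a unique involution

If `z` is the unique involution of the finite group `E`, the centre of `E` is `{1, z}`, and
every nontrivial proper subgroup of `E ⧸ Z(E)` has a maximal normalizer, then every
non-normal subgroup of `E` has a maximal normalizer. Also: transport of this property along
isomorphisms, and through a direct product with an abelian group of coprime order.
-/

set_option autoImplicit false

namespace Cfsg.Agent.Helper4.CentExtNorm

open Subgroup

section coatom

variable {E Q : Type*} [Group E] [Group Q]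

/-- the preimage of a maximal subgroup under a surjective homomorphism is maximal. -/
theorem isCoatom_comap {f : E →* Q} (hf : Function.Surjective f) {M : Subgroup Q}
    (hM : IsCoatom M) : IsCoatom (M.comap f) := by
  refine ⟨?_, fun L hL => ?_⟩
  · intro h
    apply hM.1
    rw [eq_top_iff]
    intro q _
    obtain ⟨e, rfl⟩ := hf q
    have : e ∈ M.comap f := by rw [h]; exact Subgroup.mem_top e
    exact this
  · have h1 : M ≤ L.map f := by
      intro q hq
      obtain ⟨e, rfl⟩ := hf q
      exact Subgroup.mem_map_of_mem f (hL.le hq)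
    have h2 : L.map f ≠ M := by
      intro h
      apply hL.not_ge
      intro e he
      have : f e ∈ L.map f := Subgroup.mem_map_of_mem f he
      rw [h] at this
      exact this
    have h3 : L.map f = ⊤ := hM.2 _ (lt_of_le_of_ne h1 (Ne.symm h2))
    rw [eq_top_iff]
    intro e _
    have h4 : f e ∈ L.map f := by rw [h3]; exact Subgroup.mem_top _
    obtain ⟨l, hl, hle⟩ := h4
    have h5 : l⁻¹ * e ∈ M.comap f := by
      rw [Subgroup.mem_comap, map_mul, map_inv, hle, inv_mul_cancel]
      exact M.one_mem
    have h6 : e = l * (l⁻¹ * e) := by group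
    rw [h6]
    exact L.mul_mem hl (hL.le h5)

end coatom

section transport

variable {K L : Type*} [Group K] [Group L]

/-- the property is invariant under isomorphism. -/
theorem transport (e : K ≃* L)
    (hL : ∀ H : Subgroup L, ¬ H.Normal → IsCoatom (normalizer (H : Set L)))
    (H : Subgroup K) (hH : ¬ H.Normal) : IsCoatom (normalizer (H : Set K)) := by
  have h1 : ¬ (H.map e.toMonoidHom).Normal := by
    intro hn
    apply hH
    have h2 : (H.map e.toMonoidHom).comap e.toMonoidHom = H :=
      Subgroup.comap_map_eq_self_of_injective e.injective H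
    rw [← h2]
    exact hn.comap e.toMonoidHom
  have h3 := hL _ h1
  rw [← Subgroup.map_equiv_normalizer_eq H e] at h3
  exact (OrderIso.isCoatom_iff e.mapSubgroup (normalizer (H : Set K))).1 h3

end transport

section central

variable {E : Type*} [Group E] [Finite E]

/-- **The central extension lemma.** -/
theorem isCoatom_normalizer_of_central_ext (z : E) (hz1 : z ≠ 1)
    (hZ : ∀ x : E, x ∈ center E ↔ x = 1 ∨ x = z)
    (huniq : ∀ x : E, x * x = 1 → x = 1 ∨ x = z)
    (hquot : ∀ K : Subgroup (E ⧸ center E), K ≠ ⊥ → K ≠ ⊤ →
      IsCoatom (normalizer (K : Set (E ⧸ center E))))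
    (H : Subgroup E) (hH : ¬ H.Normal) : IsCoatom (normalizer (H : Set E)) := by
  have hzc : z ∈ center E := (hZ z).2 (Or.inr rfl)
  have hzcomm : ∀ g : E, g * z = z * g := fun g => Subgroup.mem_center_iff.1 hzc g
  have hzz : z * z = 1 := by
    have h1 : z * z ∈ center E := Subgroup.mul_mem _ hzc hzc
    rcases (hZ _).1 h1 with h | h
    · exact h
    · exfalso
      apply hz1
      have : z * z = z * 1 := by rw [h, mul_one]
      exact mul_left_cancel this
  have hzpow : ∀ k : ℕ, Odd k → z ^ k = z := by
    rintro k ⟨j, rfl⟩
    rw [pow_succ, pow_mul, pow_two, hzz, one_pow, one_mul]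
  -- elements of `H` have odd order when `z ∉ H`
  have hodd : z ∉ H → ∀ x ∈ H, Odd (orderOf x) := by
    intro hzH x hx
    by_contra hne
    rw [Nat.not_odd_iff_even] at hne
    obtain ⟨k, hk⟩ := hne
    have hpos : 0 < orderOf x := orderOf_pos x
    have h1 : x ^ k * x ^ k = 1 := by rw [← pow_add, ← hk, pow_orderOf_eq_one]
    rcases huniq _ h1 with h2 | h2
    · have := orderOf_dvd_of_pow_eq_one h2
      have := Nat.le_of_dvd (by omega) this
      omega
    · exact hzH (h2 ▸ H.pow_mem hx k)
  -- the key closure property
  have hkey : ∀ x ∈ H, ∀ g : E, ∀ h' ∈ H, ∀ c ∈ center E, g * x * g⁻¹ = h' * c →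
      g * x * g⁻¹ ∈ H := by
    intro x hx g h' hh' c hc heq
    by_cases hzH : z ∈ H
    · rw [heq]
      rcases (hZ c).1 hc with hc1 | hcz
      · rw [hc1, mul_one]; exact hh'
      · rw [hcz]; exact H.mul_mem hh' hzH
    · rcases (hZ c).1 hc with hc1 | hcz
      · rw [heq, hc1, mul_one]; exact hh'
      · exfalso
        rw [hcz] at heq
        have ho1 : orderOf (g * x * g⁻¹) = orderOf x := by
          have : g * x * g⁻¹ = MulAut.conj g x := rfl
          rw [this]
          exact (MulAut.conj g).orderOf_eq x
        obtain ⟨m, hm⟩ : ∃ m, m = orderOf x := ⟨_, rfl⟩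
        obtain ⟨n, hn⟩ : ∃ n, n = orderOf h' := ⟨_, rfl⟩
        have hmo : Odd m := hm ▸ hodd hzH x hx
        have hno : Odd n := hn ▸ hodd hzH h' hh'
        have h1 : (g * x * g⁻¹) ^ (m * n) = 1 := by
          rw [pow_mul, hm, ← ho1, pow_orderOf_eq_one, one_pow]
        have hcm : Commute h' z := (hzcomm h')
        have h2 : (h' * z) ^ (m * n) = z := by
          have h3 : h' ^ (m * n) = 1 := by
            rw [mul_comm, pow_mul, hn, pow_orderOf_eq_one, one_pow]
          rw [hcm.mul_pow, hzpow _ (hmo.mul hno), h3, one_mul]
        rw [heq, h2] at h1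
        exact hz1 h1
  -- membership in the normalizer can be tested in the quotient
  have hnorm : ∀ g : E, (QuotientGroup.mk' (center E) g) ∈
      normalizer ((H.map (QuotientGroup.mk' (center E)) : Subgroup (E ⧸ center E)) :
        Set (E ⧸ center E)) → ∀ x ∈ H, g * x * g⁻¹ ∈ H := by
    intro g hg x hx
    have h1 := (Subgroup.mem_normalizer_iff.1 hg (QuotientGroup.mk' (center E) x)).1
      (Subgroup.mem_map_of_mem _ hx)
    rw [← map_inv, ← map_mul, ← map_mul] at h1
    obtain ⟨h', hh', hh'eq⟩ := h1
    have h2 : h'⁻¹ * (g * x * g⁻¹) ∈ center E := by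
      rw [← QuotientGroup.ker_mk' (center E), MonoidHom.mem_ker, map_mul, map_inv, hh'eq,
        inv_mul_cancel]
    refine hkey x hx g h' hh' _ h2 ?_
    group
  have heq : normalizer (H : Set E) =
      (normalizer ((H.map (QuotientGroup.mk' (center E)) : Subgroup (E ⧸ center E)) :
        Set (E ⧸ center E))).comap (QuotientGroup.mk' (center E)) := by
    apply le_antisymm
    · intro g hg
      rw [Subgroup.mem_comap]
      exact Subgroup.le_normalizer_map (QuotientGroup.mk' (center E))
        (Subgroup.mem_map_of_mem _ hg)
    · intro g hg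
      rw [Subgroup.mem_comap] at hg
      rw [Subgroup.mem_normalizer_iff]
      intro x
      constructor
      · exact hnorm g hg x
      · intro hx
        have hg' : (QuotientGroup.mk' (center E) g⁻¹) ∈
            normalizer ((H.map (QuotientGroup.mk' (center E)) : Subgroup (E ⧸ center E)) :
              Set (E ⧸ center E)) := by
          rw [map_inv]; exact Subgroup.inv_mem _ hg
        have := hnorm g⁻¹ hg' _ hx
        have e : g⁻¹ * (g * x * g⁻¹) * g⁻¹⁻¹ = x := by group
        rwa [e] at this
  have hb : H.map (QuotientGroup.mk' (center E)) ≠ ⊥ := by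
    intro hbot
    apply hH
    have hle : H ≤ center E := by
      intro x hx
      have : QuotientGroup.mk' (center E) x ∈ H.map (QuotientGroup.mk' (center E)) :=
        Subgroup.mem_map_of_mem _ hx
      rw [hbot, Subgroup.mem_bot] at this
      rw [← QuotientGroup.ker_mk' (center E), MonoidHom.mem_ker]
      exact this
    refine ⟨fun x hx g => ?_⟩
    have := Subgroup.mem_center_iff.1 (hle hx) g
    rw [this, mul_inv_cancel_right]
    exact hx
  have ht : H.map (QuotientGroup.mk' (center E)) ≠ ⊤ := by
    intro htop
    apply hH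
    rw [htop] at heq
    have : normalizer ((⊤ : Subgroup (E ⧸ center E)) : Set (E ⧸ center E)) = ⊤ :=
      Subgroup.normalizer_eq_top ⊤
    rw [this, Subgroup.comap_top] at heq
    exact Subgroup.normalizer_eq_top_iff.1 heq
  rw [heq]
  exact isCoatom_comap (QuotientGroup.mk'_surjective (center E)) (hquot _ hb ht)

end central

end Cfsg.Agent.Helper4.CentExtNorm
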