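import Mathlib

set_option autoImplicit false

namespace Cfsg.Agent.Helper4

/-- A direct power of a simple group is characteristically simple. -/
theorem char_pi_simple (S : Type*) [Group S] [IsSimpleGroup S] (n : ℕ)
    (H : Subgroup (Fin n → S))
    (hH : ∀ ψ : (Fin n → S) ≃* (Fin n → S), H.map ψ.toMonoidHom ≤ H) : H = ⊥ ∨ H = ⊤ := by
  classical
  by_cases hbot : H = ⊥
  · exact Or.inl hbot
  right
  have hHψ : ∀ (ψ : (Fin n → S) ≃* (Fin n → S)) (x : Fin n → S), x ∈ H → ψ x ∈ H :=
    fun ψ x hx => hH ψ ⟨x, hx, rfl⟩
  have hHn : H.Normal := ⟨fun x hx g => hHψ (MulAut.conj g) x hx⟩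
  rw [Subgroup.eq_bot_iff_forall] at hbot
  push Not at hbot
  obtain ⟨v, hv, hv1⟩ := hbot
  have hvi : ∃ i, v i ≠ 1 := by
    by_contra hcon
    push Not at hcon
    exact hv1 (funext hcon)
  obtain ⟨i, hi⟩ := hvi
  -- Claim 1
  have claim1 : ∃ (i₀ : Fin n) (t : S), t ≠ 1 ∧ Pi.mulSingle i₀ t ∈ H := by
    by_cases hcomm : ∀ a b : S, a * b = b * a
    · by_cases hj : ∃ j, j ≠ i
      · obtain ⟨j, hji⟩ := hj
        letI : CommGroup S := { ‹Group S› with mul_comm := hcomm }
        let ψ : (Fin n → S) ≃* (Fin n → S) :=
          { toFun := fun x => x * Pi.mulSingle j (x i)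
            invFun := fun x => x * Pi.mulSingle j (x i)⁻¹
            left_inv := by
              intro x
              have h1 : (x * (Pi.mulSingle j (x i) : Fin n → S)) i = x i := by
                rw [Pi.mul_apply, Pi.mulSingle_eq_of_ne hji.symm, mul_one]
              change x * Pi.mulSingle j (x i) *
                Pi.mulSingle j ((x * (Pi.mulSingle j (x i) : Fin n → S)) i)⁻¹ = x
              rw [h1, Pi.mulSingle_inv, mul_inv_cancel_right]
            right_inv := by
              intro x
              have h1 : (x * (Pi.mulSingle j (x i)⁻¹ : Fin n → S)) i = x i := by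
                rw [Pi.mul_apply, Pi.mulSingle_eq_of_ne hji.symm, mul_one]
              change x * Pi.mulSingle j (x i)⁻¹ *
                Pi.mulSingle j ((x * (Pi.mulSingle j (x i)⁻¹ : Fin n → S)) i) = x
              rw [h1, Pi.mulSingle_inv, inv_mul_cancel_right]
            map_mul' := by
              intro x y
              rw [Pi.mul_apply, Pi.mulSingle_mul]
              exact mul_mul_mul_comm _ _ _ _ }
        refine ⟨j, v i, hi, ?_⟩
        have h1 : ψ v ∈ H := hHψ ψ v hv
        have h2 : v⁻¹ * ψ v ∈ H := H.mul_mem (H.inv_mem hv) h1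
        have h3 : v⁻¹ * ψ v = Pi.mulSingle j (v i) := by
          change v⁻¹ * (v * Pi.mulSingle j (v i)) = _
          rw [inv_mul_cancel_left]
        rw [h3] at h2
        exact h2
      · push Not at hj
        refine ⟨i, v i, hi, ?_⟩
        have : v = Pi.mulSingle i (v i) := by
          ext k
          rw [hj k, Pi.mulSingle_eq_same]
        rw [← this]
        exact hv
    · -- noncommutative case
      have hcenter : Subgroup.center S = ⊥ := by
        rcases IsSimpleGroup.eq_bot_or_eq_top_of_normal (Subgroup.center S) inferInstance with h | h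
        · exact h
        · exfalso
          apply hcomm
          intro a b
          have : b ∈ Subgroup.center S := by rw [h]; trivial
          exact (Subgroup.mem_center_iff.mp this a)
      have hnotcentral : v i ∉ Subgroup.center S := by
        rw [hcenter, Subgroup.mem_bot]; exact hi
      rw [Subgroup.mem_center_iff] at hnotcentral
      push Not at hnotcentral
      obtain ⟨s, hs⟩ := hnotcentral
      refine ⟨i, (v i)⁻¹ * (s * v i * s⁻¹), ?_, ?_⟩
      · intro h
        apply hs
        have h2 : s * v i * s⁻¹ = v i := by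
          have := congrArg (fun t => v i * t) h
          simpa using this
        calc s * v i = s * v i * s⁻¹ * s := by group
          _ = v i * s := by rw [h2]
      · have h1 : Pi.mulSingle i s * v * (Pi.mulSingle i s)⁻¹ ∈ H := hHn.conj_mem v hv _
        have h2 : v⁻¹ * (Pi.mulSingle i s * v * (Pi.mulSingle i s)⁻¹) ∈ H :=
          H.mul_mem (H.inv_mem hv) h1
        have h3 : v⁻¹ * (Pi.mulSingle i s * v * (Pi.mulSingle i s)⁻¹) =
            Pi.mulSingle i ((v i)⁻¹ * (s * v i * s⁻¹)) := by
          ext k
          by_cases hk : k = i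
          · subst hk
            simp
          · simp [Pi.mulSingle_eq_of_ne hk]
        rw [h3] at h2
        exact h2
  obtain ⟨i₀, t, ht, htH⟩ := claim1
  -- Claim 2
  have claim2 : ∀ s : S, Pi.mulSingle i₀ s ∈ H := by
    have hn : (H.comap (MonoidHom.mulSingle (fun _ : Fin n => S) i₀)).Normal := hHn.comap _
    rcases IsSimpleGroup.eq_bot_or_eq_top_of_normal _ hn with h | h
    · exfalso
      have : t ∈ H.comap (MonoidHom.mulSingle (fun _ : Fin n => S) i₀) := htH
      rw [h, Subgroup.mem_bot] at this
      exact ht this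
    · intro s
      have : s ∈ H.comap (MonoidHom.mulSingle (fun _ : Fin n => S) i₀) := by rw [h]; trivial
      exact this
  -- Claim 3
  have claim3 : ∀ (j : Fin n) (s : S), Pi.mulSingle j s ∈ H := by
    intro j s
    have h1 := hHψ (MulEquiv.arrowCongr (Equiv.swap i₀ j) (MulEquiv.refl S)) _ (claim2 s)
    have h2 : (MulEquiv.arrowCongr (Equiv.swap i₀ j) (MulEquiv.refl S)) (Pi.mulSingle i₀ s) =
        Pi.mulSingle j s := by
      ext k
      change (Pi.mulSingle i₀ s : Fin n → S) ((Equiv.swap i₀ j).symm k) = _
      rw [Equiv.symm_swap]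
      by_cases hk : k = j
      · subst hk
        rw [Equiv.swap_apply_right, Pi.mulSingle_eq_same, Pi.mulSingle_eq_same]
      · rw [Pi.mulSingle_eq_of_ne hk]
        apply Pi.mulSingle_eq_of_ne
        intro h
        apply hk
        have := congrArg (Equiv.swap i₀ j) h
        rw [Equiv.swap_apply_self, Equiv.swap_apply_left] at this
        exact this
    rw [h2] at h1
    exact h1
  rw [eq_top_iff]
  intro x _
  rw [← Finset.noncommProd_mulSingle x]
  apply Subgroup.noncommProd_mem
  intro j _
  exact claim3 j (x j)

end Cfsg.Agent.Helper4
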