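import Mathlib
import Cfsg.Agent.Helper4.SylowProduct2

set_option autoImplicit false

namespace Cfsg.Agent.Helper4

open Subgroup

variable {X : Type*} [Group X]

/-- `|C_X(x)| ≤ [X:Y] |C_X(x) ∩ Y|`. -/
theorem card_centralizer_le_index_mul [Finite X] (Y : Subgroup X) (x : X) :
    Nat.card (centralizer ({x} : Set X)) ≤
      Y.index * Nat.card ↥(centralizer ({x} : Set X) ⊓ Y) := by
  set C := centralizer ({x} : Set X)
  have h1 := card_mul_relIndex' (inf_le_left : C ⊓ Y ≤ C)
  rw [inf_comm, Subgroup.inf_relIndex_right] at h1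
  have h2 : Y.relIndex C ≤ Y.index := by
    have := Subgroup.relIndex_le_of_le_right (H := Y) (le_top : C ≤ ⊤)
      (by rw [Subgroup.relIndex_top_right]; exact Y.index_ne_zero_of_finite)
    rwa [Subgroup.relIndex_top_right] at this
  rw [inf_comm] at h1
  rw [← h1, mul_comm]
  exact Nat.mul_le_mul_right _ h2

/-- Strict version when some conjugate of `y ∈ Y` leaves `Y`. -/
theorem card_centralizer_lt_index_mul [Finite X] (Y : Subgroup X) (y g : X) (hy : y ∈ Y)
    (hg : g * y * g⁻¹ ∉ Y) :
    Nat.card (centralizer ({y} : Set X)) <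
      Y.index * Nat.card ↥(centralizer ({y} : Set X) ⊓ Y) := by
  set C := centralizer ({y} : Set X) with hC
  have h1 := card_mul_relIndex' (inf_le_left : C ⊓ Y ≤ C)
  rw [inf_comm, Subgroup.inf_relIndex_right] at h1
  rw [inf_comm] at h1
  have h2 : Y.relIndex C < Y.index := by
    -- the map C / (C ∩ Y) → X / Y
    let j : C ⧸ Y.subgroupOf C → X ⧸ Y :=
      Quotient.map' (fun c : C => (c : X)) (fun a b hab => by
        rw [QuotientGroup.leftRel_apply] at hab ⊢
        exact hab)
    have hj : Function.Injective j := by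
      intro a b
      induction a using Quotient.inductionOn' with
      | _ a =>
        induction b using Quotient.inductionOn' with
        | _ b =>
          intro hab
          change (QuotientGroup.mk (a : X) : X ⧸ Y) = QuotientGroup.mk (b : X) at hab
          rw [QuotientGroup.eq] at hab
          change (QuotientGroup.mk a : C ⧸ Y.subgroupOf C) = QuotientGroup.mk b
          rw [QuotientGroup.eq]
          exact hab
    have hle : Nat.card (C ⧸ Y.subgroupOf C) ≤ Nat.card (X ⧸ Y) :=
      Nat.card_le_card_of_injective j hj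
    rcases lt_or_eq_of_le hle with hlt | heq
    · exact hlt
    · exfalso
      have hbij : Function.Bijective j :=
        hj.bijective_of_nat_card_le (le_of_eq heq.symm)
      obtain ⟨q, hq⟩ := hbij.2 (QuotientGroup.mk g⁻¹ : X ⧸ Y)
      induction q using Quotient.inductionOn' with
      | _ c =>
        change (QuotientGroup.mk (c : X) : X ⧸ Y) = QuotientGroup.mk g⁻¹ at hq
        rw [QuotientGroup.eq] at hq
        -- c⁻¹ g⁻¹ ∈ Y
        apply hg
        have hc : (c : X) * y = y * (c : X) := Subgroup.mem_centralizer_singleton_iff.mp c.2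
        have hc' : (c : X)⁻¹ * y * (c : X) = y := by
          rw [mul_assoc, ← hc, ← mul_assoc, inv_mul_cancel, one_mul]
        have h3 : g * y * g⁻¹ = ((c : X)⁻¹ * g⁻¹)⁻¹ * y * ((c : X)⁻¹ * g⁻¹) := by
          have : ((c : X)⁻¹ * g⁻¹)⁻¹ * y * ((c : X)⁻¹ * g⁻¹) =
              g * ((c : X) * y * (c : X)⁻¹) * g⁻¹ := by group
          rw [this, hc, mul_assoc y, mul_inv_cancel, mul_one]
        rw [h3]
        exact Y.mul_mem (Y.mul_mem (Y.inv_mem hq) hy) hq
  rw [← h1, mul_comm]
  have hpos : 0 < Nat.card ↥(C ⊓ Y) := Nat.card_pos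
  exact Nat.mul_lt_mul_of_pos_right h2 hpos

/-- Commuting pairs, fibred over the first coordinate. -/
def commPairsEquivSigma (X : Type*) [Group X] :
    {p : X × X // Commute p.1 p.2} ≃ Σ x : X, centralizer ({x} : Set X) where
  toFun p := ⟨p.1.1, ⟨p.1.2, Subgroup.mem_centralizer_singleton_iff.mpr p.2.eq.symm⟩⟩
  invFun s := ⟨(s.1, (s.2 : X)), (Subgroup.mem_centralizer_singleton_iff.mp s.2.2).symm⟩
  left_inv p := rfl
  right_inv s := rfl

theorem sum_card_centralizer (X : Type*) [Group X] [Fintype X] :
    ∑ x : X, Nat.card (centralizer ({x} : Set X)) = Nat.card (ConjClasses X) * Nat.card X := by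
  rw [← card_comm_eq_card_conjClasses_mul_card, Nat.card_congr (commPairsEquivSigma X),
    Nat.card_sigma]

/-- Mixed commuting pairs, fibred over the first coordinate. -/
def mixedPairsEquivSigmaLeft (Y : Subgroup X) :
    {p : X × Y // Commute p.1 (p.2 : X)} ≃ Σ x : X, ↥(centralizer ({x} : Set X) ⊓ Y) where
  toFun p := ⟨p.1.1, ⟨(p.1.2 : X),
    ⟨Subgroup.mem_centralizer_singleton_iff.mpr p.2.eq.symm, p.1.2.2⟩⟩⟩
  invFun s := ⟨(s.1, ⟨(s.2 : X), s.2.2.2⟩),
    (Subgroup.mem_centralizer_singleton_iff.mp s.2.2.1).symm⟩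
  left_inv p := rfl
  right_inv s := rfl

/-- Mixed commuting pairs, fibred over the second coordinate. -/
def mixedPairsEquivSigmaRight (Y : Subgroup X) :
    {p : X × Y // Commute p.1 (p.2 : X)} ≃ Σ y : Y, centralizer ({(y : X)} : Set X) where
  toFun p := ⟨p.1.2, ⟨p.1.1, Subgroup.mem_centralizer_singleton_iff.mpr p.2.eq⟩⟩
  invFun s := ⟨((s.2 : X), s.1), Subgroup.mem_centralizer_singleton_iff.mp s.2.2⟩
  left_inv p := rfl
  right_inv s := rfl

theorem sum_card_centralizer_inf (Y : Subgroup X) [Fintype X] [Fintype Y] :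
    ∑ x : X, Nat.card ↥(centralizer ({x} : Set X) ⊓ Y) =
      ∑ y : Y, Nat.card (centralizer ({(y : X)} : Set X)) := by
  rw [← Nat.card_sigma, ← Nat.card_sigma,
    ← Nat.card_congr (mixedPairsEquivSigmaLeft Y), Nat.card_congr (mixedPairsEquivSigmaRight Y)]

/-- The centralizer of `y` in `Y`, compared with `C_X(y) ∩ Y`. -/
def centralizerSubgroupEquiv (Y : Subgroup X) (y : Y) :
    centralizer ({y} : Set Y) ≃ ↥(centralizer ({(y : X)} : Set X) ⊓ Y) where
  toFun z := ⟨((z : Y) : X), ⟨Subgroup.mem_centralizer_singleton_iff.mpr (by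
    have := Subgroup.mem_centralizer_singleton_iff.mp z.2
    exact congrArg Subtype.val this), (z : Y).2⟩⟩
  invFun w := ⟨⟨(w : X), w.2.2⟩, Subgroup.mem_centralizer_singleton_iff.mpr (by
    apply Subtype.ext
    exact Subgroup.mem_centralizer_singleton_iff.mp w.2.1)⟩
  left_inv z := rfl
  right_inv w := rfl

theorem sum_card_centralizer_inf_self (Y : Subgroup X) [Fintype Y] :
    ∑ y : Y, Nat.card ↥(centralizer ({(y : X)} : Set X) ⊓ Y) =
      Nat.card (ConjClasses Y) * Nat.card Y := by
  rw [← sum_card_centralizer Y]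
  apply Finset.sum_congr rfl
  intro y _
  exact (Nat.card_congr (centralizerSubgroupEquiv Y y)).symm

/-- `k(Y) ≤ [X:Y] k(X)`, `k(X) ≤ [X:Y] k(Y)`, strict unless `Y` is normal. -/
theorem card_conjClasses_index_bounds [Finite X] (Y : Subgroup X) :
    Nat.card (ConjClasses Y) ≤ Y.index * Nat.card (ConjClasses X) ∧
    Nat.card (ConjClasses X) ≤ Y.index * Nat.card (ConjClasses Y) ∧
    (¬ Y.Normal → Nat.card (ConjClasses X) < Y.index * Nat.card (ConjClasses Y)) := by
  classical
  have : Fintype X := Fintype.ofFinite X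
  have : Fintype Y := Fintype.ofFinite Y
  have hXpos : 0 < Nat.card X := Nat.card_pos
  have hYpos : 0 < Nat.card Y := Nat.card_pos
  have hidx : Y.index * Nat.card Y = Nat.card X := Y.index_mul_card
  have hA := sum_card_centralizer X
  have hB := sum_card_centralizer_inf Y
  have hC := sum_card_centralizer_inf_self Y
  -- first inequality
  have h1 : Nat.card (ConjClasses Y) * Nat.card Y ≤ Nat.card (ConjClasses X) * Nat.card X := by
    rw [← card_comm_eq_card_conjClasses_mul_card, ← card_comm_eq_card_conjClasses_mul_card]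
    let f : {p : Y × Y // Commute p.1 p.2} → {p : X × X // Commute p.1 p.2} :=
      fun p => ⟨((p.1.1 : X), (p.1.2 : X)), by
        have := p.2.eq
        exact congrArg Subtype.val this⟩
    apply Nat.card_le_card_of_injective f
    intro p q hpq
    have h := congrArg Subtype.val hpq
    have h1 : ((p.1.1 : X), (p.1.2 : X)) = ((q.1.1 : X), (q.1.2 : X)) := h
    rw [Prod.mk.injEq] at h1
    apply Subtype.ext
    exact Prod.ext (Subtype.ext h1.1) (Subtype.ext h1.2)
  have hmid : ∑ y : Y, Nat.card (centralizer ({(y : X)} : Set X)) ≤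
      Y.index * (Nat.card (ConjClasses Y) * Nat.card Y) := by
    rw [← hC, Finset.mul_sum]
    apply Finset.sum_le_sum
    intro y _
    exact card_centralizer_le_index_mul Y (y : X)
  have htop : Nat.card (ConjClasses X) * Nat.card X ≤
      Y.index * ∑ y : Y, Nat.card (centralizer ({(y : X)} : Set X)) := by
    rw [← hA, ← hB, Finset.mul_sum]
    apply Finset.sum_le_sum
    intro x _
    exact card_centralizer_le_index_mul Y x
  refine ⟨?_, ?_, ?_⟩
  · have : Nat.card (ConjClasses Y) * Nat.card Y ≤
        (Y.index * Nat.card (ConjClasses X)) * Nat.card Y := by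
      calc Nat.card (ConjClasses Y) * Nat.card Y ≤ Nat.card (ConjClasses X) * Nat.card X := h1
        _ = (Y.index * Nat.card (ConjClasses X)) * Nat.card Y := by rw [← hidx]; ring
    exact Nat.le_of_mul_le_mul_right this hYpos
  · have : Nat.card (ConjClasses X) * Nat.card X ≤
        (Y.index * Nat.card (ConjClasses Y)) * Nat.card X := by
      calc Nat.card (ConjClasses X) * Nat.card X
          ≤ Y.index * ∑ y : Y, Nat.card (centralizer ({(y : X)} : Set X)) := htop
        _ ≤ Y.index * (Y.index * (Nat.card (ConjClasses Y) * Nat.card Y)) :=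
            Nat.mul_le_mul_left _ hmid
        _ = (Y.index * Nat.card (ConjClasses Y)) * Nat.card X := by rw [← hidx]; ring
    exact Nat.le_of_mul_le_mul_right this hXpos
  · intro hnn
    have hex : ∃ y g : X, y ∈ Y ∧ g * y * g⁻¹ ∉ Y := by
      by_contra hall
      push Not at hall
      exact hnn ⟨fun y hy g => hall y g hy⟩
    obtain ⟨y₀, g, hy₀, hg⟩ := hex
    have hmid' : ∑ y : Y, Nat.card (centralizer ({(y : X)} : Set X)) <
        Y.index * (Nat.card (ConjClasses Y) * Nat.card Y) := by
      rw [← hC, Finset.mul_sum]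
      apply Finset.sum_lt_sum
      · intro y _
        exact card_centralizer_le_index_mul Y (y : X)
      · exact ⟨⟨y₀, hy₀⟩, Finset.mem_univ _, card_centralizer_lt_index_mul Y y₀ g hy₀ hg⟩
    have hipos : 0 < Y.index := Nat.pos_of_ne_zero Y.index_ne_zero_of_finite
    have : Nat.card (ConjClasses X) * Nat.card X <
        (Y.index * Nat.card (ConjClasses Y)) * Nat.card X := by
      calc Nat.card (ConjClasses X) * Nat.card X
          ≤ Y.index * ∑ y : Y, Nat.card (centralizer ({(y : X)} : Set X)) := htop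
        _ < Y.index * (Y.index * (Nat.card (ConjClasses Y) * Nat.card Y)) :=
            Nat.mul_lt_mul_of_pos_left hmid' hipos
        _ = (Y.index * Nat.card (ConjClasses Y)) * Nat.card X := by rw [← hidx]; ring
    exact Nat.lt_of_mul_lt_mul_right this

end Cfsg.Agent.Helper4
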