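import Mathlib
import Cfsg.Agent.Helper4.ClassNumberIndex
import Cfsg.Agent.Helper4.Camina

set_option autoImplicit false

namespace Cfsg.Agent.Helper4

open Subgroup

variable {X : Type*} [Group X]

/-- `|C_X(x)| ≤ |C_X(x) ∩ N| · |C_{X/N}(xN)|`. -/
theorem card_centralizer_le_inf_mul_quotient [Finite X] (N : Subgroup X) [N.Normal] (x : X) :
    Nat.card (centralizer ({x} : Set X)) ≤
      Nat.card ↥(centralizer ({x} : Set X) ⊓ N) *
        Nat.card (centralizer ({(QuotientGroup.mk x : X ⧸ N)} : Set (X ⧸ N))) := by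
  set C := centralizer ({x} : Set X) with hC
  set Cbar := centralizer ({(QuotientGroup.mk x : X ⧸ N)} : Set (X ⧸ N)) with hCbar
  set D := Cbar.comap (QuotientGroup.mk' N) with hD
  have hCD : C ≤ D := by
    intro c hc
    rw [hD, Subgroup.mem_comap, hCbar, Subgroup.mem_centralizer_singleton_iff]
    rw [hC, Subgroup.mem_centralizer_singleton_iff] at hc
    change (QuotientGroup.mk c : X ⧸ N) * QuotientGroup.mk x = QuotientGroup.mk x * QuotientGroup.mk c
    rw [← QuotientGroup.mk_mul, ← QuotientGroup.mk_mul, hc]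
  have hND : N ≤ D := by
    intro n hn
    rw [hD, Subgroup.mem_comap]
    have : (QuotientGroup.mk' N) n = 1 := (QuotientGroup.eq_one_iff n).mpr hn
    rw [this]; exact Cbar.one_mem
  have h1 := card_mul_relIndex' (inf_le_left : C ⊓ N ≤ C)
  rw [inf_comm, Subgroup.inf_relIndex_right] at h1
  rw [inf_comm] at h1
  have h2 : N.relIndex C ≤ N.relIndex D := by
    apply Subgroup.relIndex_le_of_le_right hCD
    intro h0
    have := Subgroup.relIndex_dvd_card N D
    rw [h0] at this
    have hpos : 0 < Nat.card D := Nat.card_pos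
    omega
  have h3 : N.relIndex D = Nat.card Cbar := by
    have e1 := card_mul_relIndex' hND
    have e2 := card_comap_mk' N Cbar
    rw [← hD] at e2
    rw [e2] at e1
    have hNpos : 0 < Nat.card N := Nat.card_pos
    exact Nat.eq_of_mul_eq_mul_left hNpos e1
  rw [← h1]
  exact Nat.mul_le_mul_left _ (h2.trans (le_of_eq h3))

/-- The coset bound: the elements of a coset of `N` commuting with `z` are at most
`|C_X(z) ∩ N|` in number. -/
theorem card_commuting_in_coset_le [Finite X] (N : Subgroup X) [N.Normal] (z : X) (a : X ⧸ N) :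
    Nat.card {x : X // (QuotientGroup.mk x : X ⧸ N) = a ∧ x * z = z * x} ≤
      Nat.card ↥(centralizer ({z} : Set X) ⊓ N) := by
  by_cases hne : Nonempty {x : X // (QuotientGroup.mk x : X ⧸ N) = a ∧ x * z = z * x}
  · obtain ⟨⟨x₁, hx₁a, hx₁z⟩⟩ := hne
    let f : {x : X // (QuotientGroup.mk x : X ⧸ N) = a ∧ x * z = z * x} →
        ↥(centralizer ({z} : Set X) ⊓ N) := fun x => ⟨x₁⁻¹ * (x : X), by
      refine Subgroup.mem_inf.mpr ⟨?_, ?_⟩
      · rw [Subgroup.mem_centralizer_singleton_iff]
        have h1 : x₁⁻¹ * z = z * x₁⁻¹ := by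
          calc x₁⁻¹ * z = x₁⁻¹ * z * (x₁ * x₁⁻¹) := by group
            _ = x₁⁻¹ * (z * x₁) * x₁⁻¹ := by group
            _ = x₁⁻¹ * (x₁ * z) * x₁⁻¹ := by rw [hx₁z]
            _ = z * x₁⁻¹ := by group
        calc x₁⁻¹ * (x : X) * z = x₁⁻¹ * ((x : X) * z) := by group
          _ = x₁⁻¹ * (z * (x : X)) := by rw [x.2.2]
          _ = (x₁⁻¹ * z) * (x : X) := by group
          _ = z * x₁⁻¹ * (x : X) := by rw [h1]
          _ = z * (x₁⁻¹ * (x : X)) := by group
      · rw [← QuotientGroup.eq, hx₁a, x.2.1]⟩
    apply Nat.card_le_card_of_injective f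
    intro x y hxy
    have := congrArg Subtype.val hxy
    apply Subtype.ext
    exact mul_left_cancel this
  · rw [not_nonempty_iff] at hne
    rw [Nat.card_of_isEmpty]
    exact Nat.zero_le _

/-- Gallagher: `k(X) ≤ k(N) k(X/N)`. -/
theorem card_conjClasses_le_mul_quotient [Finite X] (N : Subgroup X) [N.Normal] :
    Nat.card (ConjClasses X) ≤ Nat.card (ConjClasses N) * Nat.card (ConjClasses (X ⧸ N)) := by
  classical
  have : Fintype X := Fintype.ofFinite X
  have : Fintype N := Fintype.ofFinite N
  have : Fintype (X ⧸ N) := Fintype.ofFinite _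
  obtain ⟨cbar, hcbar⟩ : ∃ cbar : X ⧸ N → ℕ,
      cbar = fun a => Nat.card (centralizer ({a} : Set (X ⧸ N))) := ⟨_, rfl⟩
  have hA := sum_card_centralizer X
  have hQ : ∑ a : X ⧸ N, cbar a = Nat.card (ConjClasses (X ⧸ N)) * Nat.card (X ⧸ N) := by
    rw [hcbar]; exact sum_card_centralizer (X ⧸ N)
  have hNN := sum_card_centralizer_inf_self N
  have hb : ∀ x : X, Nat.card ↥(centralizer ({x} : Set X) ⊓ N) =
      ∑ n : N, if x * (n : X) = (n : X) * x then 1 else 0 := by
    intro x
    rw [Finset.sum_boole, Nat.cast_id, ← Fintype.card_subtype, ← Nat.card_eq_fintype_card]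
    apply Nat.card_congr
    exact
      { toFun := fun w => ⟨⟨(w : X), w.2.2⟩, (Subgroup.mem_centralizer_singleton_iff.mp w.2.1).symm⟩
        invFun := fun n => ⟨((n : N) : X),
          ⟨Subgroup.mem_centralizer_singleton_iff.mpr n.2.symm, (n : N).2⟩⟩
        left_inv := fun w => rfl
        right_inv := fun n => rfl }
  have hd : ∀ z : X, ∑ x : X, (if x * z = z * x then 1 else 0) * cbar (QuotientGroup.mk x) ≤
      Nat.card ↥(centralizer ({z} : Set X) ⊓ N) * ∑ a : X ⧸ N, cbar a := by
    intro z
    rw [← Finset.sum_fiberwise (Finset.univ) (fun x : X => (QuotientGroup.mk x : X ⧸ N)),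
      Finset.mul_sum]
    apply Finset.sum_le_sum
    intro a _
    have h1 : ∑ x ∈ Finset.univ.filter (fun x : X => (QuotientGroup.mk x : X ⧸ N) = a),
        (if x * z = z * x then 1 else 0) * cbar (QuotientGroup.mk x) =
        Nat.card {x : X // (QuotientGroup.mk x : X ⧸ N) = a ∧ x * z = z * x} * cbar a := by
      calc ∑ x ∈ Finset.univ.filter (fun x : X => (QuotientGroup.mk x : X ⧸ N) = a),
            (if x * z = z * x then 1 else 0) * cbar (QuotientGroup.mk x)
          = ∑ x ∈ Finset.univ.filter (fun x : X => (QuotientGroup.mk x : X ⧸ N) = a),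
              if x * z = z * x then cbar a else 0 := by
            apply Finset.sum_congr rfl
            intro x hx
            rw [Finset.mem_filter] at hx
            rw [hx.2]
            split_ifs <;> simp
        _ = ∑ x ∈ (Finset.univ.filter (fun x : X => (QuotientGroup.mk x : X ⧸ N) = a)).filter
              (fun x => x * z = z * x), cbar a := (Finset.sum_filter _ _).symm
        _ = Nat.card {x : X // (QuotientGroup.mk x : X ⧸ N) = a ∧ x * z = z * x} * cbar a := by
            rw [Finset.sum_const, smul_eq_mul, Finset.filter_filter, Nat.card_eq_fintype_card,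
              Fintype.card_subtype]
    rw [h1]
    exact Nat.mul_le_mul_right _ (card_commuting_in_coset_le N z a)
  have hmain : Nat.card (ConjClasses X) * Nat.card X ≤
      (Nat.card (ConjClasses N) * Nat.card N) *
        (Nat.card (ConjClasses (X ⧸ N)) * Nat.card (X ⧸ N)) := by
    calc Nat.card (ConjClasses X) * Nat.card X
        = ∑ x : X, Nat.card (centralizer ({x} : Set X)) := hA.symm
      _ ≤ ∑ x : X, Nat.card ↥(centralizer ({x} : Set X) ⊓ N) * cbar (QuotientGroup.mk x) := by
          apply Finset.sum_le_sum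
          intro x _
          rw [hcbar]
          exact card_centralizer_le_inf_mul_quotient N x
      _ = ∑ x : X, ∑ n : N, (if x * (n : X) = (n : X) * x then 1 else 0) *
            cbar (QuotientGroup.mk x) := by
          apply Finset.sum_congr rfl
          intro x _
          rw [hb x, Finset.sum_mul]
      _ = ∑ n : N, ∑ x : X, (if x * (n : X) = (n : X) * x then 1 else 0) *
            cbar (QuotientGroup.mk x) := Finset.sum_comm
      _ ≤ ∑ n : N, Nat.card ↥(centralizer ({(n : X)} : Set X) ⊓ N) * ∑ a : X ⧸ N, cbar a := by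
          apply Finset.sum_le_sum
          intro n _
          exact hd (n : X)
      _ = (Nat.card (ConjClasses N) * Nat.card N) *
            (Nat.card (ConjClasses (X ⧸ N)) * Nat.card (X ⧸ N)) := by
          rw [← Finset.sum_mul, hNN, hQ]
  have hcard : Nat.card X = Nat.card (X ⧸ N) * Nat.card N :=
    Subgroup.card_eq_card_quotient_mul_card_subgroup N
  have hXpos : 0 < Nat.card X := Nat.card_pos
  have : Nat.card (ConjClasses X) * Nat.card X ≤
      (Nat.card (ConjClasses N) * Nat.card (ConjClasses (X ⧸ N))) * Nat.card X := by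
    calc Nat.card (ConjClasses X) * Nat.card X ≤ _ := hmain
      _ = (Nat.card (ConjClasses N) * Nat.card (ConjClasses (X ⧸ N))) * Nat.card X := by
          rw [hcard]; ring
  exact Nat.le_of_mul_le_mul_right this hXpos

end Cfsg.Agent.Helper4
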