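import Mathlib

set_option autoImplicit false

namespace Cfsg.Agent.Helper4

/-- The double centralizer-type subgroup: elements commuting with `x` and with everything that
commutes with `x` (the centre of the centralizer of `x`). -/
def centCent {G : Type*} [Group G] (x : G) : Subgroup G :=
  Subgroup.centralizer ({x} : Set G) ⊓
    Subgroup.centralizer ((Subgroup.centralizer ({x} : Set G) : Subgroup G) : Set G)

theorem mem_centCent_iff {G : Type*} [Group G] (x y : G) :
    y ∈ centCent x ↔ Commute y x ∧ ∀ z : G, Commute z x → Commute y z := by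
  unfold centCent
  rw [Subgroup.mem_inf, Subgroup.mem_centralizer_singleton_iff, Subgroup.mem_centralizer_iff]
  constructor
  · rintro ⟨h1, h2⟩
    refine ⟨h1, fun z hz => ?_⟩
    have : z ∈ Subgroup.centralizer ({x} : Set G) := by
      rw [Subgroup.mem_centralizer_singleton_iff]; exact hz.eq
    exact (h2 z this).symm
  · rintro ⟨h1, h2⟩
    refine ⟨h1.eq, fun z hz => ?_⟩
    rw [SetLike.mem_coe, Subgroup.mem_centralizer_singleton_iff] at hz
    exact (h2 z hz).eq.symm

theorem self_mem_centCent {G : Type*} [Group G] (x : G) : x ∈ centCent x := by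
  rw [mem_centCent_iff]
  exact ⟨Commute.refl x, fun z hz => hz.symm⟩

theorem centCent_commute {G : Type*} [Group G] (x : G) {a b : G} (ha : a ∈ centCent x)
    (hb : b ∈ centCent x) : Commute a b := by
  rw [mem_centCent_iff] at ha hb
  exact ha.2 b hb.1

/-- Existence of an element of order `p * q` is detected by the orders of the `centCent`. -/
theorem exists_orderOf_eq_mul_iff {G : Type*} [Group G] [Finite G] {p q : ℕ} (hp : p.Prime)
    (hq : q.Prime) (hpq : p ≠ q) :
    (∃ g : G, orderOf g = p * q) ↔ ∃ x : G, p * q ∣ Nat.card (centCent x) := by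
  constructor
  · rintro ⟨g, hg⟩
    refine ⟨g, ?_⟩
    rw [← hg]
    exact Subgroup.orderOf_dvd_natCard _ (self_mem_centCent g)
  · rintro ⟨x, hx⟩
    have : Fact p.Prime := ⟨hp⟩
    have : Fact q.Prime := ⟨hq⟩
    obtain ⟨a, ha⟩ := exists_prime_orderOf_dvd_card' (G := centCent x) p
      (dvd_trans (dvd_mul_right p q) hx)
    obtain ⟨b, hb⟩ := exists_prime_orderOf_dvd_card' (G := centCent x) q
      (dvd_trans (dvd_mul_left q p) hx)
    have hcomm : Commute (a : G) (b : G) := centCent_commute x a.2 b.2
    refine ⟨(a : G) * (b : G), ?_⟩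
    have ha' : orderOf (a : G) = p := by rw [Subgroup.orderOf_coe]; exact ha
    have hb' : orderOf (b : G) = q := by rw [Subgroup.orderOf_coe]; exact hb
    rw [hcomm.orderOf_mul_eq_mul_orderOf_of_coprime, ha', hb']
    rw [ha', hb']
    exact (Nat.coprime_primes hp hq).mpr hpq

/-- A commuting-graph isomorphism preserves the orders of the subgroups `centCent`. -/
theorem card_centCent_eq {G H : Type*} [Group G] [Group H] (e : G ≃ H)
    (he : ∀ x y : G, Commute x y ↔ Commute (e x) (e y)) (x : G) :
    Nat.card (centCent x) = Nat.card (centCent (e x)) := by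
  apply Nat.card_congr
  refine Equiv.subtypeEquiv e ?_
  intro y
  change y ∈ centCent x ↔ e y ∈ centCent (e x)
  rw [mem_centCent_iff, mem_centCent_iff, he y x]
  constructor
  · rintro ⟨h1, h2⟩
    refine ⟨h1, fun z hz => ?_⟩
    obtain ⟨z', rfl⟩ := e.surjective z
    rw [← he] at hz ⊢
    exact h2 z' hz
  · rintro ⟨h1, h2⟩
    refine ⟨h1, fun z hz => ?_⟩
    rw [he] at hz ⊢
    exact h2 (e z) hz

end Cfsg.Agent.Helper4
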