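import Mathlib

/-!
# Counting subgroups in two conjugacy classes, and transport along an isomorphism
-/

set_option autoImplicit false

namespace Cfsg.Agent.Helper4.ConjClassCount

open scoped Pointwise

variable {G : Type*} [Group G]

theorem mem_conj_smul' (g : G) (L : Subgroup G) (x : G) :
    x ∈ MulAut.conj g • L ↔ g⁻¹ * x * g ∈ L := by
  rw [Subgroup.mem_pointwise_smul_iff_inv_smul_mem, MulAut.smul_def, ← map_inv,
    MulAut.conj_apply, inv_inv]

theorem conj_smul_smul' (g h : G) (L : Subgroup G) :
    MulAut.conj g • (MulAut.conj h • L) = MulAut.conj (g * h) • L := by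
  rw [smul_smul, ← map_mul]

theorem conj_one_smul' (L : Subgroup G) : MulAut.conj (1 : G) • L = L := by
  rw [map_one, one_smul]

/-- the class of `H` -/
def cls (H : Subgroup G) : Set (Subgroup G) := Set.range fun g : G => MulAut.conj g • H

theorem ncard_cls (H : Subgroup G) {p : ℕ} (hp : p.Prime) (hidx : H.index = p)
    (g0 : G) (hg0 : MulAut.conj g0 • H ≠ H) : (cls H).ncard = p := by
  let _ : MulAction G (Subgroup G) :=
    MulAction.compHom (Subgroup G) (MulAut.conj : G →* MulAut G)
  have hsm : ∀ (g : G) (L : Subgroup G), g • L = MulAut.conj g • L := fun _ _ => rfl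
  have horb : MulAction.orbit G H = cls H := by
    ext L
    simp only [MulAction.mem_orbit_iff, cls, Set.mem_range, hsm]
  have hle : H ≤ MulAction.stabilizer G H := by
    intro h hh
    rw [MulAction.mem_stabilizer_iff, hsm]
    exact Subgroup.conj_smul_eq_self_of_mem hh
  have hdvd : (MulAction.stabilizer G H).index ∣ p := by
    rw [← hidx]
    exact Subgroup.index_dvd_of_le hle
  have hne1 : (MulAction.stabilizer G H).index ≠ 1 := by
    intro h1
    rw [Subgroup.index_eq_one] at h1
    apply hg0
    have : g0 ∈ MulAction.stabilizer G H := by rw [h1]; trivial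
    rw [MulAction.mem_stabilizer_iff, hsm] at this
    exact this
  rw [← horb, ← MulAction.index_stabilizer]
  rcases (Nat.dvd_prime hp).1 hdvd with h | h
  · exact absurd h hne1
  · exact h

theorem card_two_classes [Finite G] (Q : Subgroup G → Prop) (H K : Subgroup G)
    (hQ : ∀ (g : G) (L : Subgroup G), Q L → Q (MulAut.conj g • L))
    (hH : Q H) (hK : Q K)
    (hne : ∀ g : G, MulAut.conj g • H ≠ K)
    (hall : ∀ L : Subgroup G, Q L → ∃ g : G, MulAut.conj g • L = H ∨ MulAut.conj g • L = K) :
    Nat.card {L : Subgroup G // Q L} = (cls H).ncard + (cls K).ncard := by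
  have hset : {L : Subgroup G | Q L} = cls H ∪ cls K := by
    ext L
    simp only [Set.mem_ofPred_eq, Set.mem_union, cls, Set.mem_range]
    constructor
    · intro hL
      obtain ⟨g, hg | hg⟩ := hall L hL
      · left
        refine ⟨g⁻¹, ?_⟩
        rw [← hg, conj_smul_smul', inv_mul_cancel, conj_one_smul']
      · right
        refine ⟨g⁻¹, ?_⟩
        rw [← hg, conj_smul_smul', inv_mul_cancel, conj_one_smul']
    · rintro (⟨g, rfl⟩ | ⟨g, rfl⟩)
      · exact hQ g H hH
      · exact hQ g K hK
  have hdisj : Disjoint (cls H) (cls K) := by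
    rw [Set.disjoint_left]
    rintro L ⟨g, rfl⟩ ⟨g', hg'⟩
    apply hne (g'⁻¹ * g)
    rw [← conj_smul_smul']
    change MulAut.conj g' • K = MulAut.conj g • H at hg'
    rw [← hg', conj_smul_smul', inv_mul_cancel, conj_one_smul']
  have h1 : Nat.card {L : Subgroup G // Q L} = ({L : Subgroup G | Q L}).ncard :=
    Nat.card_coe_set_eq {L : Subgroup G | Q L}
  rw [h1, hset]
  exact Set.ncard_union_eq hdisj (Set.toFinite _) (Set.toFinite _)

/-! ### transport along an isomorphism -/

section transport

variable {G' : Type*} [Group G']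

theorem map_conj_smul (e : G ≃* G') (g : G) (L : Subgroup G) :
    (MulAut.conj g • L).map e.toMonoidHom = MulAut.conj (e g) • L.map e.toMonoidHom := by
  ext x
  rw [mem_conj_smul']
  constructor
  · rintro ⟨y, hy, rfl⟩
    rw [SetLike.mem_coe, mem_conj_smul'] at hy
    refine ⟨g⁻¹ * y * g, hy, ?_⟩
    simp
  · rintro ⟨y, hy, hyx⟩
    refine ⟨g * y * g⁻¹, ?_, ?_⟩
    · rw [SetLike.mem_coe, mem_conj_smul']
      have : g⁻¹ * (g * y * g⁻¹) * g = y := by group
      rw [this]; exact hy
    · have h1 : e.toMonoidHom y = e y := rfl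
      rw [h1] at hyx
      have h2 : e.toMonoidHom (g * y * g⁻¹) = e g * e y * (e g)⁻¹ := by
        simp
      rw [h2, hyx]
      group

theorem nonempty_iso_map_iff (e : G ≃* G') {A : Type*} [Group A] (L : Subgroup G) :
    Nonempty (L.map e.toMonoidHom ≃* A) ↔ Nonempty (L ≃* A) := by
  constructor
  · rintro ⟨f⟩
    exact ⟨(e.subgroupMap L).trans f⟩
  · rintro ⟨f⟩
    exact ⟨(e.subgroupMap L).symm.trans f⟩

theorem map_symm_map (e : G ≃* G') (L : Subgroup G') :
    (L.map e.symm.toMonoidHom).map e.toMonoidHom = L := by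
  ext x
  constructor
  · rintro ⟨y, ⟨z, hz, rfl⟩, rfl⟩
    simpa using hz
  · intro hx
    exact ⟨e.symm x, ⟨x, hx, rfl⟩, by simp⟩

theorem map_injective' (e : G ≃* G') : Function.Injective fun L : Subgroup G => L.map e.toMonoidHom :=
  Subgroup.map_injective e.injective

theorem transport (e : G ≃* G') {A : Type*} [Group A] (n : ℕ)
    (h : Nat.card {H : Subgroup G' // Nonempty (H ≃* A)} = n ∧
      ∃ H K : Subgroup G', Nonempty (H ≃* A) ∧ Nonempty (K ≃* A) ∧
        (∀ g : G', MulAut.conj g • H ≠ K) ∧
        ∀ L : Subgroup G', Nonempty (L ≃* A) →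
          ∃ g : G', MulAut.conj g • L = H ∨ MulAut.conj g • L = K) :
    Nat.card {H : Subgroup G // Nonempty (H ≃* A)} = n ∧
      ∃ H K : Subgroup G, Nonempty (H ≃* A) ∧ Nonempty (K ≃* A) ∧
        (∀ g : G, MulAut.conj g • H ≠ K) ∧
        ∀ L : Subgroup G, Nonempty (L ≃* A) →
          ∃ g : G, MulAut.conj g • L = H ∨ MulAut.conj g • L = K := by
  obtain ⟨hn, H, K, hH, hK, hne, hall⟩ := h
  refine ⟨?_, H.map e.symm.toMonoidHom, K.map e.symm.toMonoidHom, ?_, ?_, ?_, ?_⟩
  · rw [← hn]
    refine Nat.card_congr ?_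
    refine Equiv.subtypeEquiv (e.mapSubgroup.toEquiv) ?_
    intro L
    exact (nonempty_iso_map_iff e L).symm
  · exact (nonempty_iso_map_iff e.symm H).2 hH
  · exact (nonempty_iso_map_iff e.symm K).2 hK
  · intro g hg
    apply hne (e g)
    have := congrArg (fun L : Subgroup G => L.map e.toMonoidHom) hg
    beta_reduce at this
    rw [map_conj_smul, map_symm_map, map_symm_map] at this
    exact this
  · intro L hL
    obtain ⟨g, hg⟩ := hall (L.map e.toMonoidHom) ((nonempty_iso_map_iff e L).2 hL)
    refine ⟨e.symm g, ?_⟩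
    rcases hg with hg | hg
    · left
      apply map_injective' e
      beta_reduce
      rw [map_conj_smul, map_symm_map, e.apply_symm_apply, hg]
    · right
      apply map_injective' e
      beta_reduce
      rw [map_conj_smul, map_symm_map, e.apply_symm_apply, hg]

end transport

end Cfsg.Agent.Helper4.ConjClassCount
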