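import Mathlib

/-!
# The fixed point inequality for two commuting automorphisms of an abelian group

`V` is a finite abelian group of order prime to `p`, `α` and `ζ` are commuting automorphisms with
`ζ ^ p = 1`.  Then `|C_V(ζ)| ∏_{j<p} |C_V(α ζ^j)| ≤ |V| |C_V(α, ζ)|^p`.
-/

set_option autoImplicit false
set_option linter.unusedSectionVars false

namespace Cfsg.Agent.Helper4.CopAut

universe u

section

variable {V : Type u} [Group V]

/-- the fixed points of an automorphism. -/
def fixE (e : MulAut V) : Subgroup V where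
  carrier := {v | e v = v}
  mul_mem' := by
    intro a b ha hb
    change e (a * b) = a * b
    rw [map_mul, ha, hb]
  one_mem' := map_one e
  inv_mem' := by
    intro a ha
    change e a⁻¹ = a⁻¹
    rw [map_inv, ha]

theorem mem_fixE {e : MulAut V} {v : V} : v ∈ fixE e ↔ e v = v := Iff.rfl

theorem pow_apply_of_fixed {e : MulAut V} {v : V} (h : e v = v) (k : ℕ) : (e ^ k) v = v := by
  induction k with
  | zero => rfl
  | succ k ih => rw [pow_succ, MulAut.mul_apply, h, ih]

theorem fixE_le_fixE_pow (e : MulAut V) (k : ℕ) : fixE e ≤ fixE (e ^ k) :=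
  fun _ hv => pow_apply_of_fixed hv k

/-- commuting automorphisms preserve each other's fixed points. -/
theorem fixE_invariant {e f : MulAut V} (h : e * f = f * e) {v : V} (hv : v ∈ fixE e) :
    f v ∈ fixE e := by
  change e (f v) = f v
  have h1 : e (f v) = (e * f) v := rfl
  rw [h1, h, MulAut.mul_apply, hv]

theorem commute_pow_left {e f : MulAut V} (h : e * f = f * e) (k : ℕ) : e ^ k * f = f * e ^ k :=
  ((Commute.pow_left (show Commute e f from h) k)).eq

theorem fixE_invariant_pow {e f : MulAut V} (h : e * f = f * e) {v : V} (hv : v ∈ fixE e)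
    (k : ℕ) : (f ^ k) v ∈ fixE e := by
  apply fixE_invariant (f := f ^ k) _ hv
  exact ((Commute.pow_right (show Commute e f from h) k)).eq

/-- a power of `ζ` prime to its order has the same fixed points. -/
theorem fixE_pow_eq {p : ℕ} (hp : p.Prime) {ζ : MulAut V} (hζ : ζ ^ p = 1) {c : ℕ} (hc0 : 0 < c)
    (hcp : c < p) : fixE (ζ ^ c) = fixE ζ := by
  apply le_antisymm _ (fixE_le_fixE_pow ζ c)
  intro v hv
  have hcop : c.Coprime (orderOf ζ) := by
    have hdvd : orderOf ζ ∣ p := orderOf_dvd_of_pow_eq_one hζ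
    have h1 : c.Coprime p := by
      rw [Nat.coprime_comm, hp.coprime_iff_not_dvd]
      exact Nat.not_dvd_of_pos_of_lt hc0 hcp
    exact Nat.Coprime.coprime_dvd_right hdvd h1
  obtain ⟨m, hm⟩ := exists_pow_eq_self_of_coprime hcop
  have h2 := pow_apply_of_fixed (e := ζ ^ c) hv m
  rw [hm] at h2
  exact h2

end

section main

variable {V : Type u} [CommGroup V] [Finite V] {p : ℕ} [hp : Fact p.Prime]
variable (α ζ : MulAut V)

/-- the operator `α ζ^j`. -/
def bet (j : ℕ) : MulAut V := α * ζ ^ j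

/-- the norm operator of `α ζ^i`. -/
noncomputable def Theta (p : ℕ) (i : ℕ) : V →* V :=
  ∏ k ∈ Finset.range p, ((bet α ζ i ^ k : MulAut V) : V ≃* V).toMonoidHom

theorem Theta_apply (p i : ℕ) (v : V) :
    Theta α ζ p i v = ∏ k ∈ Finset.range p, (bet α ζ i ^ k) v := by
  unfold Theta
  rw [MonoidHom.finsetProd_apply]
  rfl

variable {α ζ}

theorem bet_comm_zeta (hc : α * ζ = ζ * α) (j : ℕ) : bet α ζ j * ζ = ζ * bet α ζ j := by
  unfold bet
  have h1 : Commute α ζ := hc
  have h2 : Commute (ζ ^ j) ζ := (Commute.refl ζ).pow_left j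
  exact (h1.mul_left h2).eq

theorem bet_comm_alpha (hc : α * ζ = ζ * α) (j : ℕ) : bet α ζ j * α = α * bet α ζ j := by
  unfold bet
  have h1 : Commute α ζ := hc
  have h2 : Commute (ζ ^ j) α := (h1.symm).pow_left j
  exact ((Commute.refl α).mul_left h2).eq

theorem bet_comm_bet (hc : α * ζ = ζ * α) (i j : ℕ) :
    bet α ζ j * bet α ζ i = bet α ζ i * bet α ζ j := by
  have h1 : Commute (bet α ζ j) α := bet_comm_alpha hc j
  have h2 : Commute (bet α ζ j) ζ := bet_comm_zeta hc j
  exact (h1.mul_right (h2.pow_right i)).eq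

/-- two different twisted fixed point groups meet in the common fixed points. -/
theorem inf_le_F (hc : α * ζ = ζ * α) (hζ : ζ ^ p = 1) {i j : ℕ} (hij : i < j) (hj : j < p) :
    fixE (bet α ζ i) ⊓ fixE (bet α ζ j) ≤ fixE α ⊓ fixE ζ := by
  intro v hv
  obtain ⟨hi, hj'⟩ := hv
  -- ζ^(j-i) fixes v
  have h1 : (ζ ^ (j - i)) v = v := by
    have e1 : bet α ζ j = ζ ^ (j - i) * bet α ζ i := by
      unfold bet
      have hcm : Commute (ζ ^ (j - i)) α := (show Commute α ζ from hc).symm.pow_left _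
      rw [← mul_assoc, hcm.eq, mul_assoc, ← pow_add, Nat.sub_add_cancel hij.le]
    have h2 : bet α ζ j v = v := hj'
    rw [e1, MulAut.mul_apply, mem_fixE.1 hi] at h2
    exact h2
  have h3 : v ∈ fixE ζ := by
    rw [← fixE_pow_eq hp.out hζ (Nat.sub_pos_of_lt hij) (lt_of_le_of_lt (Nat.sub_le j i) hj)]
    exact h1
  refine ⟨?_, h3⟩
  have h4 : bet α ζ i v = v := hi
  unfold bet at h4
  rw [MulAut.mul_apply, pow_apply_of_fixed (mem_fixE.1 h3)] at h4
  exact h4

theorem inf_le_F' (hc : α * ζ = ζ * α) (hζ : ζ ^ p = 1) {i j : ℕ} (hij : i ≠ j) (hi : i < p)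
    (hj : j < p) : fixE (bet α ζ i) ⊓ fixE (bet α ζ j) ≤ fixE α ⊓ fixE ζ := by
  rcases lt_or_gt_of_ne hij with h | h
  · exact inf_le_F hc hζ h hj
  · rw [inf_comm]
    exact inf_le_F hc hζ h hi

/-- on its own fixed points the norm operator is the `p`-th power. -/
theorem Theta_of_mem_self {i : ℕ} {e : V} (he : e ∈ fixE (bet α ζ i)) :
    Theta α ζ p i e = e ^ p := by
  rw [Theta_apply, Finset.prod_congr rfl (fun k _ => pow_apply_of_fixed (mem_fixE.1 he) k),
    Finset.prod_const, Finset.card_range]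

/-- `(α ζ^i)^p` fixes the fixed points of `α ζ^j`. -/
theorem bet_pow_p_apply (hc : α * ζ = ζ * α) (hζ : ζ ^ p = 1) {i j : ℕ} {e : V}
    (he : e ∈ fixE (bet α ζ j)) : (bet α ζ i ^ p) e = e := by
  have h1 : ∀ t : ℕ, bet α ζ t ^ p = α ^ p := by
    intro t
    unfold bet
    have hcm : Commute α (ζ ^ t) := (show Commute α ζ from hc).pow_right t
    rw [hcm.mul_pow, ← pow_mul, mul_comm t p, pow_mul, hζ, one_pow, mul_one]
  rw [h1 i, ← h1 j]
  exact pow_apply_of_fixed (mem_fixE.1 he) p

/-- on the fixed points of another twist the norm operator takes values in the common fixed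
points. -/
theorem Theta_of_mem_other (hc : α * ζ = ζ * α) (hζ : ζ ^ p = 1) {i j : ℕ} (hij : i ≠ j)
    (hi : i < p) (hj : j < p) {e : V} (he : e ∈ fixE (bet α ζ j)) :
    Theta α ζ p i e ∈ fixE α ⊓ fixE ζ := by
  apply inf_le_F' hc hζ hij hi hj
  constructor
  · -- fixed by β i
    change bet α ζ i (Theta α ζ p i e) = Theta α ζ p i e
    rw [Theta_apply, map_prod]
    have h1 : ∀ k ∈ Finset.range p, bet α ζ i ((bet α ζ i ^ k) e) = (bet α ζ i ^ (k + 1)) e := by
      intro k _
      rw [pow_succ']; rfl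
    rw [Finset.prod_congr rfl h1]
    have h2 := Finset.prod_range_succ' (fun k => (bet α ζ i ^ k) e) p
    have h3 := Finset.prod_range_succ (fun k => (bet α ζ i ^ k) e) p
    rw [h3] at h2
    simp only [pow_zero, MulAut.one_apply] at h2
    rw [bet_pow_p_apply hc hζ he] at h2
    exact (mul_right_cancel h2).symm
  · -- in E j
    rw [Theta_apply]
    apply Subgroup.prod_mem
    intro k _
    exact fixE_invariant_pow (bet_comm_bet hc i j) he k

theorem Theta_mem_C (hc : α * ζ = ζ * α) {i : ℕ} {w : V} (hw : w ∈ fixE ζ) :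
    Theta α ζ p i w ∈ fixE ζ := by
  rw [Theta_apply]
  apply Subgroup.prod_mem
  intro k _
  exact fixE_invariant_pow (bet_comm_zeta hc i).symm hw k

/-- the key independence statement. -/
theorem mem_F_of_prod_mem (hcop : (Nat.card V).Coprime p) (hc : α * ζ = ζ * α) (hζ : ζ ^ p = 1)
    (e : Fin p → V) (he : ∀ j : Fin p, e j ∈ fixE (bet α ζ j)) (hprod : ∏ j, e j ∈ fixE ζ) (i : Fin p) :
    e i ∈ fixE α ⊓ fixE ζ := by
  have h1 : Theta α ζ p i (∏ j, e j) ∈ fixE ζ := Theta_mem_C hc hprod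
  rw [map_prod, ← Finset.mul_prod_erase Finset.univ _ (Finset.mem_univ i),
    Theta_of_mem_self (he i)] at h1
  have h2 : ∏ j ∈ Finset.univ.erase i, Theta α ζ p i (e j) ∈ fixE ζ := by
    apply Subgroup.prod_mem
    intro j hj
    have hne : (i : ℕ) ≠ j := fun h => (Finset.ne_of_mem_erase hj) (Fin.ext h.symm)
    exact (Theta_of_mem_other hc hζ hne i.2 j.2 (he j)).2
  have h3 : e i ^ p ∈ fixE ζ := by
    have := Subgroup.mul_mem _ h1 (Subgroup.inv_mem _ h2)
    rwa [mul_inv_cancel_right] at this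
  have h4 : e i ∈ fixE ζ := by
    have hcop' : p.Coprime (orderOf (e i)) :=
      (Nat.Coprime.coprime_dvd_left (orderOf_dvd_natCard (e i)) hcop).symm
    obtain ⟨m, hm⟩ := exists_pow_eq_self_of_coprime hcop'
    rw [← hm]
    exact Subgroup.pow_mem _ h3 m
  refine ⟨?_, h4⟩
  have h5 : bet α ζ i (e i) = e i := he i
  unfold bet at h5
  rw [MulAut.mul_apply, pow_apply_of_fixed (mem_fixE.1 h4)] at h5
  exact h5

/-- **The inequality for abelian groups.** -/
theorem card_fix_le_abelian (hcop : (Nat.card V).Coprime p) (hc : α * ζ = ζ * α)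
    (hζ : ζ ^ p = 1) :
    Nat.card (fixE ζ) * ∏ j : Fin p, Nat.card (fixE (bet α ζ j)) ≤
      Nat.card V * Nat.card ↥(fixE α ⊓ fixE ζ) ^ p := by
  -- the product map into `V ⧸ C`
  let Ψ : (∀ j : Fin p, fixE (bet α ζ j)) →* V ⧸ fixE ζ :=
    { toFun := fun e => QuotientGroup.mk (∏ j, (e j : V))
      map_one' := by simp
      map_mul' := by
        intro a b
        simp only [Pi.mul_apply, Subgroup.coe_mul, Finset.prod_mul_distrib, QuotientGroup.mk_mul] }
  have hker : Nat.card Ψ.ker ≤ Nat.card ↥(fixE α ⊓ fixE ζ) ^ p := by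
    have hinj : Function.Injective (fun (e : Ψ.ker) (j : Fin p) =>
        (⟨(e.1 j : V), mem_F_of_prod_mem hcop hc hζ (fun j : Fin p => (e.1 j : V)) (fun j : Fin p => (e.1 j).2)
          (by
            have h := e.2
            rw [MonoidHom.mem_ker] at h
            exact (QuotientGroup.eq_one_iff _).1 h) j⟩ : ↥(fixE α ⊓ fixE ζ))) := by
      intro a b hab
      apply Subtype.ext
      funext j
      apply Subtype.ext
      have := congrArg Subtype.val (congrFun hab j)
      exact this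
    have h := Nat.card_le_card_of_injective _ hinj
    rw [Nat.card_fun, Nat.card_eq_fintype_card (α := Fin p), Fintype.card_fin] at h
    exact h
  have hrange : Nat.card Ψ.range ≤ Nat.card (V ⧸ fixE ζ) :=
    Nat.card_le_card_of_injective _ Subtype.val_injective
  have hdom : Nat.card (∀ j : Fin p, fixE (bet α ζ j)) = Nat.card Ψ.ker * Nat.card Ψ.range := by
    rw [← Subgroup.index_ker, mul_comm]
    exact (Subgroup.index_mul_card Ψ.ker).symm
  have hpi : Nat.card (∀ j : Fin p, fixE (bet α ζ j)) = ∏ j : Fin p, Nat.card (fixE (bet α ζ j)) :=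
    Nat.card_pi
  have hV : Nat.card V = Nat.card (V ⧸ fixE ζ) * Nat.card (fixE ζ) :=
    Subgroup.card_eq_card_quotient_mul_card_subgroup _
  rw [← hpi, hdom, hV]
  calc Nat.card (fixE ζ) * (Nat.card Ψ.ker * Nat.card Ψ.range)
      ≤ Nat.card (fixE ζ) * (Nat.card ↥(fixE α ⊓ fixE ζ) ^ p * Nat.card (V ⧸ fixE ζ)) :=
        Nat.mul_le_mul_left _ (Nat.mul_le_mul hker hrange)
    _ = Nat.card (V ⧸ fixE ζ) * Nat.card (fixE ζ) * Nat.card ↥(fixE α ⊓ fixE ζ) ^ p := by ring

end main

end Cfsg.Agent.Helper4.CopAut
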