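import Mathlib
import Cfsg.Agent.Helper4.CopAutA
import Cfsg.Agent.Helper4.CopAutB
import Cfsg.Agent.Helper4.CopAutC

/-!
# Coprime operators: the fixed-point inequality for arbitrary groups

For a `p`-group `Q` acting on a finite group `V` of order prime to `p`, and commuting `x z : Q`
with `z ^ p = 1`:
`|C_V(z)| * ∏_{j<p} |C_V(x z^j)| ≤ |V| * |C_V(x, z)| ^ p`.
-/

set_option autoImplicit false

namespace Cfsg.Agent.Helper4.CopAut

universe u v

section arith

theorem arith_mul {p : ℕ} (a a1 a2 : ℕ) (b b1 b2 : Fin p → ℕ) (n n1 n2 f f1 f2 : ℕ)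
    (ha : a = a1 * a2) (hb : ∀ j, b j = b1 j * b2 j) (hn : n = n1 * n2) (hf : f = f1 * f2)
    (h1 : a1 * ∏ j, b1 j ≤ n1 * f1 ^ p) (h2 : a2 * ∏ j, b2 j ≤ n2 * f2 ^ p) :
    a * ∏ j, b j ≤ n * f ^ p := by
  rw [ha, hn, hf, mul_pow, Finset.prod_congr rfl (fun j _ => hb j), Finset.prod_mul_distrib]
  calc a1 * a2 * ((∏ j, b1 j) * ∏ j, b2 j) = (a1 * ∏ j, b1 j) * (a2 * ∏ j, b2 j) := by ring
    _ ≤ (n1 * f1 ^ p) * (n2 * f2 ^ p) := Nat.mul_le_mul h1 h2
    _ = n1 * n2 * (f1 ^ p * f2 ^ p) := by ring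

theorem arith_fact {p : ℕ} (a : ℕ) (b : Fin p → ℕ) (n f : ℕ) (ha : a ≠ 0) (hb : ∀ j, b j ≠ 0)
    (hn : n ≠ 0) (hf : f ≠ 0)
    (h : ∀ r : ℕ, r.Prime → r ^ a.factorization r * ∏ j, r ^ (b j).factorization r ≤
      r ^ n.factorization r * (r ^ f.factorization r) ^ p) :
    a * ∏ j, b j ≤ n * f ^ p := by
  have hprod : ∏ j, b j ≠ 0 := Finset.prod_ne_zero_iff.2 (fun j _ => hb j)
  have hL : a * ∏ j, b j ≠ 0 := mul_ne_zero ha hprod
  have hR : n * f ^ p ≠ 0 := mul_ne_zero hn (pow_ne_zero _ hf)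
  apply Nat.le_of_dvd (Nat.pos_of_ne_zero hR)
  rw [← Nat.factorization_le_iff_dvd hL hR]
  intro r
  by_cases hr : r.Prime
  · have h1 := h r hr
    rw [Finset.prod_pow_eq_pow_sum, ← pow_add, ← pow_mul, ← pow_add] at h1
    have h2 := (Nat.pow_le_pow_iff_right hr.one_lt).1 h1
    rw [Nat.factorization_mul ha hprod, Nat.factorization_prod (fun j _ => hb j),
      Nat.factorization_mul hn (pow_ne_zero _ hf), Nat.factorization_pow]
    simp only [Finsupp.coe_add, Pi.add_apply, Finsupp.coe_finsetSum, Finset.sum_apply,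
      Finsupp.coe_smul, Pi.smul_apply, smul_eq_mul]
    rw [mul_comm p]
    exact h2
  · rw [Nat.factorization_eq_zero_of_not_prime _ hr]
    exact Nat.zero_le _

end arith

section link

variable {Q : Type v} {V : Type u} [Group Q] [Group V]

theorem fixS_zpowers (φ : Q →* MulAut V) (a : Q) :
    fixS φ (Subgroup.zpowers a : Set Q) = fixE (φ a) := by
  rw [Subgroup.zpowers_eq_closure, fixS_closure]
  ext v
  rw [mem_fixS_singleton, mem_fixE]

theorem fixS_closure_pair (φ : Q →* MulAut V) (a b : Q) :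
    fixS φ (Subgroup.closure {a, b} : Set Q) = fixE (φ a) ⊓ fixE (φ b) := by
  rw [fixS_closure, fixS_pair]
  ext v
  rw [Subgroup.mem_inf, Subgroup.mem_inf, mem_fixS_singleton, mem_fixS_singleton, mem_fixE,
    mem_fixE]

theorem fixS_singleton_eq (φ : Q →* MulAut V) (a : Q) :
    fixS φ {a} = fixE (φ a) := by
  ext v
  rw [mem_fixS_singleton, mem_fixE]

end link

section main

variable {Q : Type v} [Group Q] [Finite Q] {p : ℕ} [Fact p.Prime]

/-- The inequality as a predicate on an action. -/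
def KProp (p : ℕ) (x z : Q) {W : Type u} [Group W] (ψ : Q →* MulAut W) : Prop :=
  Nat.card (fixS ψ (Subgroup.zpowers z : Set Q)) *
      ∏ j : Fin p, Nat.card (fixS ψ (Subgroup.zpowers (x * z ^ (j : ℕ)) : Set Q)) ≤
    Nat.card W * Nat.card (fixS ψ (Subgroup.closure {x, z} : Set Q)) ^ p

omit [Finite Q] in
theorem kprop_abelian (x z : Q) (hxz : x * z = z * x) (hz : z ^ p = 1)
    (V : Type u) [Group V] [Finite V] (φ : Q →* MulAut V) (hcop : (Nat.card V).Coprime p)
    (hcomm : ∀ a b : V, a * b = b * a) : KProp p x z φ := by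
  unfold KProp
  rw [fixS_zpowers, fixS_closure_pair]
  have hj : ∀ j : Fin p, fixS φ (Subgroup.zpowers (x * z ^ (j : ℕ)) : Set Q) =
      fixE (φ x * φ z ^ (j : ℕ)) := by
    intro j
    rw [fixS_zpowers, map_mul, map_pow]
  rw [Finset.prod_congr rfl (fun j _ => by rw [hj j])]
  have hc : φ x * φ z = φ z * φ x := by rw [← map_mul, ← map_mul, hxz]
  have hζ : φ z ^ p = 1 := by rw [← map_pow, hz, map_one]
  let inst : CommGroup V := { (inferInstance : Group V) with mul_comm := hcomm }
  exact @card_fix_le_abelian V inst _ p _ (φ x) (φ z) hcop hc hζ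

theorem kprop_all (hQ : IsPGroup p Q) (x z : Q) (hxz : x * z = z * x) (hz : z ^ p = 1) :
    ∀ (n : ℕ) (V : Type u) [Group V] [Finite V] (φ : Q →* MulAut V), Nat.card V = n →
      (Nat.card V).Coprime p → KProp p x z φ := by
  intro n
  induction n using Nat.strong_induction_on with
  | _ n ih =>
  intro V _ _ φ hn hcop
  by_cases hcomm : ∀ a b : V, a * b = b * a
  · exact kprop_abelian x z hxz hz V φ hcop hcomm
  by_cases hr : ∃ r : ℕ, r.Prime ∧ IsPGroup r V
  · -- the centre
    obtain ⟨r, hrp, hV⟩ := hr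
    have : Fact r.Prime := ⟨hrp⟩
    have : Nontrivial V := by
      by_contra hnt
      rw [not_nontrivial_iff_subsingleton] at hnt
      exact hcomm (fun a b => Subsingleton.elim _ _)
    have hMnt : Nontrivial (Subgroup.center V) := hV.center_nontrivial
    have hMtop : Subgroup.center V ≠ ⊤ := by
      intro h
      apply hcomm
      intro a b
      have ha : a ∈ Subgroup.center V := by rw [h]; exact Subgroup.mem_top a
      exact ((Subgroup.mem_center_iff.1 ha) b).symm
    have hM : Inv φ (Subgroup.center V) := center_inv φ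
    have hcard : Nat.card V = Nat.card (V ⧸ Subgroup.center V) * Nat.card (Subgroup.center V) :=
      Subgroup.card_eq_card_quotient_mul_card_subgroup _
    have hM1 : 1 < Nat.card (Subgroup.center V) := Finite.one_lt_card
    have hM2 : Nat.card (Subgroup.center V) < Nat.card V := by
      apply lt_of_le_of_ne (Subgroup.card_le_card_group _)
      intro h
      exact hMtop ((Subgroup.card_eq_iff_eq_top _).1 h)
    have hq0 : 0 < Nat.card (V ⧸ Subgroup.center V) := Nat.card_pos
    have hq2 : Nat.card (V ⧸ Subgroup.center V) < Nat.card V := by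
      rw [hcard]
      nlinarith
    have hcopM : (Nat.card (Subgroup.center V)).Coprime p :=
      Nat.Coprime.coprime_dvd_left (Dvd.intro_left _ hcard.symm) hcop
    have hcopq : (Nat.card (V ⧸ Subgroup.center V)).Coprime p :=
      Nat.Coprime.coprime_dvd_left (Dvd.intro _ hcard.symm) hcop
    have ih1 := ih _ (hn ▸ hM2) (Subgroup.center V) (res φ _ hM) rfl hcopM
    have ih2 := ih _ (hn ▸ hq2) (V ⧸ Subgroup.center V) (quot φ _ hM) rfl hcopq
    unfold KProp at ih1 ih2 ⊢
    exact arith_mul _ _ _ _ _ _ _ _ _ _ _ _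
      (card_fixS_mul φ hQ hcop _ hM _)
      (fun j => card_fixS_mul φ hQ hcop _ hM _)
      (by rw [hcard, mul_comm])
      (card_fixS_mul φ hQ hcop _ hM _) ih1 ih2
  · -- Sylow reduction
    unfold KProp
    apply arith_fact
    · exact Nat.card_pos.ne'
    · intro j; exact Nat.card_pos.ne'
    · exact Nat.card_pos.ne'
    · exact Nat.card_pos.ne'
    intro r hrp
    have : Fact r.Prime := ⟨hrp⟩
    obtain ⟨R, hRinv, hRcard, hRfix⟩ := exists_inv_sylow φ hQ hcop r
    have hdvd : Nat.card R ∣ Nat.card V := Subgroup.card_subgroup_dvd_card R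
    have hlt : Nat.card R < Nat.card V := by
      apply lt_of_le_of_ne (Subgroup.card_le_card_group _)
      intro h
      apply hr
      refine ⟨r, hrp, IsPGroup.of_card (n := (Nat.card V).factorization r) ?_⟩
      exact h.symm.trans hRcard
    have hcopR : (Nat.card R).Coprime p := Nat.Coprime.coprime_dvd_left hdvd hcop
    have ih1 := ih _ (hn ▸ hlt) R (res φ R hRinv) rfl hcopR
    unfold KProp at ih1
    rw [card_fixS_res, card_fixS_res, hRfix, hRfix, hRcard,
      Finset.prod_congr rfl (fun j _ => by rw [card_fixS_res, hRfix])] at ih1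
    exact ih1

/-- **The fixed-point inequality**, for sets of operators. -/
theorem card_fix_le (hQ : IsPGroup p Q) (x z : Q) (hxz : x * z = z * x) (hz : z ^ p = 1)
    (V : Type u) [Group V] [Finite V] (φ : Q →* MulAut V) (hcop : (Nat.card V).Coprime p) :
    Nat.card (fixS φ {z}) * ∏ j : Fin p, Nat.card (fixS φ {x * z ^ (j : ℕ)}) ≤
      Nat.card V * Nat.card (fixS φ {x, z}) ^ p := by
  have h := kprop_all hQ x z hxz hz _ V φ rfl hcop
  unfold KProp at h
  rw [Subgroup.zpowers_eq_closure, fixS_closure, fixS_closure,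
    Finset.prod_congr rfl (fun j _ => by rw [Subgroup.zpowers_eq_closure, fixS_closure])] at h
  exact h

end main

end Cfsg.Agent.Helper4.CopAut
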