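import Mathlib
import Cfsg.Agent.Helper4.CovFin

/-!
# Covering presentations of a group presented on involutions

For a presentation `LPG k R` on involutions (`Invol k R`), the covering presentation on the same
generators (orders 2; exponent prime to 2) has as central words the relators of length at least 3,
in the doubled letters `2 * c`.  The covering group of exponent 1 is a quotient of `LPG k R`.
-/

set_option autoImplicit false

namespace Cfsg.Agent.Helper4.CovCox

open Cfsg Cfsg.Agent.Helper5.StemP Cfsg.Agent.Helper5.LP

/-- the doubled word. -/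
def dbl (l : List ℕ) : List ℕ := l.map (fun c => 2 * c)

/-- the orders of the generators. -/
def m2 : ℕ → ℕ := fun _ => 2

/-- the central words of the covering presentation: the relators of length at least 3. -/
def cwords (R : List (List ℕ)) : List (List ℕ) :=
  (R.filter (fun r => decide (2 < r.length))).map dbl

section
variable (k : ℕ) (R : List (List ℕ))

/-- the generators of the presented group. -/
noncomputable def gen (i : ℕ) : LPG k R := ev k R [i]

theorem prod_dbl (l : List ℕ) : ((dbl l).map (lval (gen k R))).prod = ev k R l := by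
  induction l with
  | nil => simp [dbl, ev_nil]
  | cons c l ih =>
    have : dbl (c :: l) = 2 * c :: dbl l := rfl
    rw [this, List.map_cons, List.prod_cons, ih, lval_even, ev_cons c l]
    rfl

theorem dbl_lt {l : List ℕ} (hl : ∀ c ∈ l, c < k) : ∀ c ∈ dbl l, c < 2 * k := by
  intro c hc
  unfold dbl at hc
  obtain ⟨a, ha, rfl⟩ := List.mem_map.mp hc
  have := hl a ha
  omega

theorem cwords_lt (hlt : LettersLt k R) : ∀ r ∈ cwords R, ∀ c ∈ r, c < 2 * k := by
  intro r hr
  unfold cwords at hr
  obtain ⟨l, hl, rfl⟩ := List.mem_map.mp hr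
  exact dbl_lt k (hlt l (List.mem_filter.mp hl).1)

theorem cwords_rel : ∀ r ∈ cwords R, (r.map (lval (gen k R))).prod = 1 := by
  intro r hr
  unfold cwords at hr
  obtain ⟨l, hl, rfl⟩ := List.mem_map.mp hr
  rw [prod_dbl]
  exact ev_rel (List.mem_filter.mp hl).1

theorem gen_pow (hinv : Invol k R) : ∀ i, i < k → gen k R i ^ m2 i = 1 := by
  intro i hi
  show ev k R [i] ^ 2 = 1
  rw [pow_two]
  exact ev_sq hinv i

theorem gen_closure : Subgroup.closure {y : LPG k R | ∃ i, i < k ∧ y = gen k R i} = ⊤ :=
  closure_gens

/-- the value of a doubled word in a covering group. -/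
theorem prod_dbl_cgen (CC : List (List ℕ)) (e : ℕ) (l : List ℕ) :
    (l.map (cgen k m2 CC CC e)).prod = ((dbl l).map (lval (cgen k m2 CC CC e))).prod := by
  induction l with
  | nil => simp [dbl]
  | cons c l ih =>
    have : dbl (c :: l) = 2 * c :: dbl l := rfl
    rw [this, List.map_cons, List.prod_cons, List.map_cons, List.prod_cons, ih, lval_even]

/-- **the covering group of exponent 1 is a quotient of the presented group.** -/
theorem cov_one_le (hlt : LettersLt k R) (hR : ∀ r ∈ R, 2 ≤ r.length)
    (hR2 : ∀ r ∈ R, r.length = 2 → ∃ c, r = [c, c]) [Finite (LPG k R)] :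
    Finite (CovG k m2 (cwords R) (cwords R) 1) ∧
      Nat.card (CovG k m2 (cwords R) (cwords R) 1) ≤ Nat.card (LPG k R) := by
  have hcl := cwords_lt k R hlt
  have hrel : ∀ l ∈ R, (l.map (cgen k m2 (cwords R) (cwords R) 1)).prod = 1 := by
    intro l hl
    by_cases h2 : l.length = 2
    · obtain ⟨c, rfl⟩ := hR2 l hl h2
      have hc : c < k := hlt _ hl c List.mem_cons_self
      have := cgen_pow k m2 (cwords R) (cwords R) 1 (i := c) hc
      simp only [List.map_cons, List.map_nil, List.prod_cons, List.prod_nil, mul_one]
      rw [← pow_two]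
      exact this
    · have h3 : 2 < l.length := by
        have := hR l hl
        omega
      have hmem : dbl l ∈ cwords R := by
        unfold cwords
        exact List.mem_map.mpr ⟨l, List.mem_filter.mpr ⟨hl, by simpa using h3⟩, rfl⟩
      rw [prod_dbl_cgen, ← ev_eq_prod k m2 (cwords R) (cwords R) 1 _ (hcl _ hmem)]
      have := ev_rel (k := 2 * k) (Cfsg.Agent.Helper5.LTC.mem_coverRels_T k m2 (cwords R) (cwords R) 1 hmem)
      rwa [List.replicate_one, List.flatten_singleton] at this
  let ψ : LPG k R →* CovG k m2 (cwords R) (cwords R) 1 :=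
    lift (cgen k m2 (cwords R) (cwords R) 1) hlt hrel
  have hψ : Function.Surjective ψ := by
    rw [← MonoidHom.range_eq_top, eq_top_iff, ← closure_cgen k m2 (cwords R) (cwords R) 1,
      Subgroup.closure_le]
    rintro x ⟨i, hi, rfl⟩
    refine ⟨ev k R [i], ?_⟩
    show lift _ hlt hrel (ev k R [i]) = _
    rw [lift_ev _ hlt hrel [i] (by
      intro c hc
      rw [List.mem_singleton] at hc
      omega)]
    simp
  exact ⟨Finite.of_surjective ψ hψ, Nat.card_le_card_of_surjective ψ hψ⟩

end

end Cfsg.Agent.Helper4.CovCox
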