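import Mathlib
import Cfsg.Agent.Helper4.CyclicCentB

set_option autoImplicit false

namespace Cfsg.Agent.Helper4

variable {G : Type*} [Group G]

theorem abelianSubgroupsCyclic_of_cyclic_centralizers (hna : ¬ IsMulCommutative G)
    (h : ∀ x : G, x ∉ Subgroup.center G → IsCyclic (Subgroup.centralizer ({x} : Set G))) :
    AbelianSubgroupsCyclic G := by
  intro A hA
  by_cases hex : ∃ a ∈ A, a ∉ Subgroup.center G
  · obtain ⟨a, haA, ha⟩ := hex
    have hle : A ≤ Subgroup.centralizer ({a} : Set G) := by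
      intro b hb
      rw [Subgroup.mem_centralizer_iff]
      intro y hy
      rw [Set.mem_singleton_iff] at hy
      subst hy
      have h2 : (⟨y, haA⟩ : A) * ⟨b, hb⟩ = ⟨b, hb⟩ * ⟨y, haA⟩ := hA.is_comm.comm _ _
      exact congrArg Subtype.val h2
    have := h a ha
    exact Subgroup.isCyclic_of_le hle
  · push Not at hex
    obtain ⟨x, hx⟩ : ∃ x : G, x ∉ Subgroup.center G := by
      by_contra hall
      push Not at hall
      apply hna
      exact ⟨⟨fun a b => (Subgroup.mem_center_iff.1 (hall b) a)⟩⟩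
    have hle : A ≤ Subgroup.centralizer ({x} : Set G) :=
      fun b hb => Subgroup.center_le_centralizer _ (hex b hb)
    have := h x hx
    exact Subgroup.isCyclic_of_le hle

theorem exists_quaternion_prod_of_cyclic_centralizers [Finite G] (hG : Group.IsNilpotent G)
    (hna : ¬ IsMulCommutative G)
    (h : ∀ x : G, x ∉ Subgroup.center G → IsCyclic (Subgroup.centralizer ({x} : Set G))) :
    ∃ (k m : ℕ), 1 ≤ k ∧ Odd m ∧
      Nonempty (G ≃* QuaternionGroup (2 ^ k) × Multiplicative (ZMod m)) := by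
  have hAC := abelianSubgroupsCyclic_of_cyclic_centralizers hna h
  have h2F : Fact (2 : ℕ).Prime := ⟨Nat.prime_two⟩
  obtain ⟨P, N, hNn, hc⟩ := Cfsg.Agent.Helper1.hasNormalPComplement_of_isNilpotent hG 2
  have hall := ((Group.isNilpotent_of_finite_tfae (G := G)).out 0 3).1 hG
  have hPn : (P : Subgroup G).Normal := hall 2 h2F P
  have hcard : Nat.card N * Nat.card (P : Subgroup G) = Nat.card G := hc.card_mul_card
  have hNidx : Nat.card N = (P : Subgroup G).index := by
    have h1 := (P : Subgroup G).card_mul_index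
    rw [← hcard, mul_comm (Nat.card N)] at h1
    exact (Nat.eq_of_mul_eq_mul_left Nat.card_pos h1).symm
  have hodd : Odd (Nat.card N) := by
    rw [hNidx, ← Nat.not_even_iff_odd, even_iff_two_dvd]
    exact P.not_dvd_index
  have hNcyc : IsCyclic N :=
    isCyclic_of_abelianSubgroupsCyclic_of_odd inferInstance (hAC.subgroup N) hodd
  have hdisj : (P : Subgroup G) ⊓ N = ⊥ := by
    rw [inf_comm]; exact disjoint_iff.1 hc.disjoint
  have hcomm : ∀ a ∈ (P : Subgroup G), ∀ b ∈ N, a * b = b * a := by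
    intro a ha b hb
    exact Subgroup.commute_of_normal_of_disjoint _ _ hPn hNn (disjoint_iff.2 hdisj) a b ha hb
  obtain ⟨e⟩ := nonempty_prod_mulEquiv_of_commute (P : Subgroup G) N hcomm hdisj
    (by rw [mul_comm]; exact hcard)
  have hNcomm : ∀ a b : N, a * b = b * a := by
    intro a b
    obtain ⟨g, hg⟩ := hNcyc.exists_generator
    obtain ⟨i, rfl⟩ := Subgroup.mem_zpowers_iff.1 (hg a)
    obtain ⟨j, rfl⟩ := Subgroup.mem_zpowers_iff.1 (hg b)
    rw [← zpow_add, ← zpow_add, add_comm]
  have hPnotcyc : ¬ IsCyclic (P : Subgroup G) := by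
    intro hPcyc
    apply hna
    have hPcomm : ∀ a b : (P : Subgroup G), a * b = b * a := by
      intro a b
      obtain ⟨g, hg⟩ := hPcyc.exists_generator
      obtain ⟨i, rfl⟩ := Subgroup.mem_zpowers_iff.1 (hg a)
      obtain ⟨j, rfl⟩ := Subgroup.mem_zpowers_iff.1 (hg b)
      rw [← zpow_add, ← zpow_add, add_comm]
    refine ⟨⟨fun a b => ?_⟩⟩
    have h1 : e.symm a * e.symm b = e.symm b * e.symm a := by
      ext
      · exact congrArg Subtype.val (hPcomm _ _)
      · exact congrArg Subtype.val (hNcomm _ _)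
    rw [← map_mul, ← map_mul] at h1
    exact e.symm.injective h1
  rcases cyclic_or_quaternion_of_abelianSubgroupsCyclic 2 P.isPGroup' (hAC.subgroup _) with
    h1 | ⟨-, n, ⟨eQ⟩⟩
  · exact absurd h1 hPnotcyc
  · have hn : 1 ≤ n := by
      by_contra hn0
      have hn0' : n = 0 := by omega
      subst hn0'
      apply hPnotcyc
      rw [pow_zero] at eQ
      have := QuaternionGroup.quaternionGroup_one_isCyclic
      exact eQ.isCyclic.2 this
    refine ⟨n, Nat.card N, hn, hodd, ⟨?_⟩⟩
    exact e.symm.trans (MulEquiv.prodCongr eQ (zmodCyclicMulEquiv hNcyc).symm)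

end Cfsg.Agent.Helper4
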