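import Mathlib

set_option autoImplicit false

namespace Cfsg.Agent.Helper4

theorem zmod_add_self_eq_zero {n : ℕ} [NeZero n] (t : ZMod (2 * n)) (ht : t + t = 0) :
    t = 0 ∨ t = (n : ZMod (2 * n)) := by
  have hlt : t.val < 2 * n := ZMod.val_lt t
  have h1 : ((t.val + t.val : ℕ) : ZMod (2 * n)) = 0 := by
    rw [Nat.cast_add, ZMod.natCast_zmod_val]; exact ht
  rw [ZMod.natCast_eq_zero_iff] at h1
  have h2 : n ∣ t.val := by
    have h3 : 2 * n ∣ 2 * t.val := by rw [two_mul t.val]; exact h1
    exact (Nat.mul_dvd_mul_iff_left (by norm_num)).1 h3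
  obtain ⟨c, hc⟩ := h2
  have hn : 0 < n := Nat.pos_of_ne_zero (NeZero.ne n)
  have hc2 : c < 2 := by
    by_contra hc2
    push Not at hc2
    have : n * 2 ≤ n * c := Nat.mul_le_mul_left n hc2
    omega
  have ht' : t = ((t.val : ℕ) : ZMod (2 * n)) := (ZMod.natCast_zmod_val t).symm
  interval_cases c
  · left
    rw [ht', hc]; simp
  · right
    rw [ht', hc]; simp

open QuaternionGroup in
theorem quaternion_centralizer_le_zpowers {n : ℕ} [NeZero n] (q : QuaternionGroup n)
    (hq : q ∉ Subgroup.center (QuaternionGroup n)) :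
    ∃ q₀ : QuaternionGroup n, Subgroup.centralizer ({q} : Set (QuaternionGroup n)) ≤
      Subgroup.zpowers q₀ := by
  cases q with
  | a i =>
    have hi : i + i ≠ 0 := by
      intro h0
      apply hq
      rw [Subgroup.mem_center_iff]
      intro g
      cases g with
      | a j => rw [a_mul_a, a_mul_a, add_comm]
      | xa j =>
        rw [xa_mul_a, a_mul_xa]
        congr 1
        linear_combination h0
    refine ⟨a 1, ?_⟩
    intro y hy
    rw [Subgroup.mem_centralizer_iff] at hy
    have h1 := hy (a i) rfl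
    cases y with
    | a j =>
      rw [Subgroup.mem_zpowers_iff]
      refine ⟨(j.val : ℤ), ?_⟩
      rw [zpow_natCast, a_one_pow, ZMod.natCast_zmod_val]
    | xa j =>
      exfalso
      rw [a_mul_xa, xa_mul_a] at h1
      apply hi
      have h2 := xa.inj h1
      linear_combination -h2
  | xa i =>
    refine ⟨xa i, ?_⟩
    intro y hy
    rw [Subgroup.mem_centralizer_iff] at hy
    have h1 := hy (xa i) rfl
    cases y with
    | a j =>
      rw [xa_mul_a, a_mul_xa] at h1
      have h2 := xa.inj h1
      have h3 : j + j = 0 := by linear_combination h2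
      rcases zmod_add_self_eq_zero j h3 with rfl | rfl
      · rw [a_zero]; exact Subgroup.one_mem _
      · rw [← xa_sq i]; exact Subgroup.pow_mem _ (Subgroup.mem_zpowers _) 2
    | xa j =>
      rw [xa_mul_xa, xa_mul_xa] at h1
      have h2 := a.inj h1
      have h3 : (j - i) + (j - i) = 0 := by linear_combination h2
      rcases zmod_add_self_eq_zero (j - i) h3 with h4 | h4
      · have : j = i := by linear_combination h4
        rw [this]; exact Subgroup.mem_zpowers _
      · have : j = i + n := by linear_combination h4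
        rw [this]
        have h5 : xa (i + (n : ZMod (2 * n))) = xa i * (xa i) ^ 2 := by
          rw [xa_sq, xa_mul_a]
        rw [h5]
        exact Subgroup.mul_mem _ (Subgroup.mem_zpowers _)
          (Subgroup.pow_mem _ (Subgroup.mem_zpowers _) 2)

theorem isCyclic_centralizer_quaternion_prod {k m : ℕ} (hm : Odd m)
    (x : QuaternionGroup (2 ^ k) × Multiplicative (ZMod m))
    (hx : x ∉ Subgroup.center (QuaternionGroup (2 ^ k) × Multiplicative (ZMod m))) :
    IsCyclic (Subgroup.centralizer
      ({x} : Set (QuaternionGroup (2 ^ k) × Multiplicative (ZMod m)))) := by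
  obtain ⟨q, c⟩ := x
  have hq : q ∉ Subgroup.center (QuaternionGroup (2 ^ k)) := by
    intro hq
    apply hx
    rw [Subgroup.mem_center_iff]
    rintro ⟨g1, g2⟩
    ext
    · exact Subgroup.mem_center_iff.1 hq g1
    · exact mul_comm g2 c
  obtain ⟨q₀, hq₀⟩ := quaternion_centralizer_le_zpowers q hq
  have hle : Subgroup.centralizer
      ({(q, c)} : Set (QuaternionGroup (2 ^ k) × Multiplicative (ZMod m))) ≤
      (Subgroup.zpowers q₀).prod ⊤ := by
    rintro ⟨y1, y2⟩ hy
    rw [Subgroup.mem_prod]
    refine ⟨hq₀ ?_, Subgroup.mem_top _⟩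
    rw [Subgroup.mem_centralizer_iff] at hy ⊢
    intro z hz
    rw [Set.mem_singleton_iff] at hz
    subst hz
    have := hy (z, c) rfl
    exact congrArg Prod.fst this
  have hm0 : NeZero m := ⟨by rintro rfl; simp at hm⟩
  have hcyc : IsCyclic ((Subgroup.zpowers q₀).prod
      (⊤ : Subgroup (Multiplicative (ZMod m)))) := by
    rw [(Subgroup.prodEquiv _ _).isCyclic, Group.isCyclic_prod_iff]
    refine ⟨inferInstance, Subgroup.topEquiv.isCyclic.2 inferInstance, ?_⟩
    have h1 : Nat.card (Subgroup.zpowers q₀) ∣ 2 ^ (k + 2) := by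
      have h2 := Subgroup.card_subgroup_dvd_card (Subgroup.zpowers q₀)
      rw [Nat.card_eq_fintype_card (α := QuaternionGroup (2 ^ k)), QuaternionGroup.card] at h2
      have : 4 * 2 ^ k = 2 ^ (k + 2) := by ring
      rwa [this] at h2
    have h2 : Nat.card (⊤ : Subgroup (Multiplicative (ZMod m))) = m := by
      rw [Subgroup.card_top]
      exact (Nat.card_congr Multiplicative.toAdd).trans (Nat.card_zmod m)
    rw [h2]
    apply Nat.Coprime.coprime_dvd_left h1
    apply Nat.Coprime.pow_left
    exact Nat.coprime_two_left.2 hm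
  exact Subgroup.isCyclic_of_le hle

end Cfsg.Agent.Helper4
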