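import Mathlib

namespace Cfsg.Agent.Helper4

/-- In a finite group, if `A` and `B` have coprime indices then `|B : A ∩ B| = |G : A|`. -/
theorem relIndex_eq_index_of_coprime {G : Type*} [Group G] [Finite G] (A B : Subgroup G)
    (h : A.index.Coprime B.index) : A.relIndex B = A.index := by
  have h1 : A.relIndex B * B.index = (A ⊓ B).index := by
    rw [← Subgroup.inf_relIndex_right, Subgroup.relIndex_mul_index inf_le_right]
  have h2 : (A ⊓ B).relIndex A * A.index = (A ⊓ B).index :=
    Subgroup.relIndex_mul_index inf_le_left
  have h3 : A.index ∣ A.relIndex B * B.index := by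
    rw [h1, ← h2]; exact dvd_mul_left _ _
  have h4 : A.index ∣ A.relIndex B := h.dvd_of_dvd_mul_right h3
  have h5 : A.relIndex B ≠ 0 := by
    intro h0
    rw [h0, zero_mul] at h1
    exact Subgroup.index_ne_zero_of_finite h1.symm
  have h6 : A.relIndex B ≤ A.index := by
    rw [← Subgroup.relIndex_top_right]
    apply Subgroup.relIndex_le_of_le_right le_top
    rw [Subgroup.relIndex_top_right]
    exact Subgroup.index_ne_zero_of_finite
  exact Nat.le_antisymm h6 (Nat.le_of_dvd (Nat.pos_of_ne_zero h5) h4)

/-- In a module generated by the orbit of `a`, invariant vectors are multiples of the orbit sum. -/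
theorem invariant_mem_span_sum {k V K : Type*} [Field k] [AddCommGroup V] [Module k V] [Group K]
    [Fintype K] (hK : (Fintype.card K : k) ≠ 0) (σ : Representation k K V) (a : V)
    (hspan : Submodule.span k (Set.range fun g : K => σ g a) = ⊤) (v : V)
    (hv : ∀ g, σ g v = v) :
    v ∈ Submodule.span k {∑ g : K, σ g a} := by
  have hS : ∀ w ∈ Submodule.span k (Set.range fun g : K => σ g a),
      ∑ g : K, σ g w ∈ Submodule.span k {∑ g : K, σ g a} := by
    intro w hw
    induction hw using Submodule.span_induction with
    | mem w hw =>
      obtain ⟨h, rfl⟩ := hw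
      have : ∑ g : K, σ g (σ h a) = ∑ g : K, σ g a := by
        have h1 : ∀ g : K, σ g (σ h a) = σ (g * h) a := by
          intro g; rw [map_mul]; rfl
        simp only [h1]
        exact Equiv.sum_comp (Equiv.mulRight h) (fun g => σ g a)
      rw [this]
      exact Submodule.mem_span_singleton_self _
    | zero => simp
    | add x y _ _ hx hy =>
      simp only [map_add, Finset.sum_add_distrib]
      exact Submodule.add_mem _ hx hy
    | smul c x _ hx =>
      simp only [map_smul, ← Finset.smul_sum]
      exact Submodule.smul_mem _ c hx
  have h1 := hS v (by rw [hspan]; trivial)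
  simp only [hv, Finset.sum_const, Finset.card_univ] at h1
  rw [← Nat.cast_smul_eq_nsmul k] at h1
  have h2 := Submodule.smul_mem _ ((Fintype.card K : k)⁻¹) h1
  rwa [smul_smul, inv_mul_cancel₀ hK, one_smul] at h2

end Cfsg.Agent.Helper4
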