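import Mathlib
import Cfsg.Agent.Helper4.SylowBasic

namespace Cfsg.Agent.Helper4

/-- Two subgroups of `K` of `p`-part order are conjugate by an element of `K`. -/
theorem exists_conj_of_card_eq_ppart {G : Type*} [Group G] [Finite G] {p : ℕ} [Fact p.Prime]
    (K Q₁ Q₂ : Subgroup G) (h1 : Q₁ ≤ K) (h2 : Q₂ ≤ K)
    (hc1 : Nat.card Q₁ = p ^ (Nat.card K).factorization p)
    (hc2 : Nat.card Q₂ = p ^ (Nat.card K).factorization p) :
    ∃ h ∈ K, ∀ y : G, y ∈ Q₂ ↔ h⁻¹ * y * h ∈ Q₁ := by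
  have hc1' : Nat.card (Q₁.subgroupOf K) = p ^ (Nat.card K).factorization p := by
    rw [← hc1]
    exact Nat.card_congr (Subgroup.subgroupOfEquivOfLe h1).toEquiv
  have hc2' : Nat.card (Q₂.subgroupOf K) = p ^ (Nat.card K).factorization p := by
    rw [← hc2]
    exact Nat.card_congr (Subgroup.subgroupOfEquivOfLe h2).toEquiv
  obtain ⟨h, hh⟩ := MulAction.exists_smul_eq K (Sylow.ofCard (Q₁.subgroupOf K) hc1')
    (Sylow.ofCard (Q₂.subgroupOf K) hc2')
  refine ⟨h, h.2, fun y => ?_⟩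
  constructor
  · intro hy
    have hyK : y ∈ K := h2 hy
    have : (⟨y, hyK⟩ : K) ∈ Sylow.ofCard (Q₂.subgroupOf K) hc2' := by
      change (⟨y, hyK⟩ : K) ∈ Q₂.subgroupOf K
      rw [Subgroup.mem_subgroupOf]; exact hy
    rw [← hh, mem_sylow_smul_iff] at this
    change h⁻¹ * (⟨y, hyK⟩ : K) * h ∈ Q₁.subgroupOf K at this
    rw [Subgroup.mem_subgroupOf] at this
    simpa using this
  · intro hy
    have hyK : y ∈ K := by
      have h3 : (h : G)⁻¹ * y * (h : G) ∈ K := h1 hy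
      have : y = (h : G) * ((h : G)⁻¹ * y * (h : G)) * (h : G)⁻¹ := by group
      rw [this]
      exact K.mul_mem (K.mul_mem h.2 h3) (K.inv_mem h.2)
    have : (⟨y, hyK⟩ : K) ∈ Sylow.ofCard (Q₂.subgroupOf K) hc2' := by
      rw [← hh, mem_sylow_smul_iff]
      change h⁻¹ * (⟨y, hyK⟩ : K) * h ∈ Q₁.subgroupOf K
      rw [Subgroup.mem_subgroupOf]
      simpa using hy
    change (⟨y, hyK⟩ : K) ∈ Q₂.subgroupOf K at this
    rw [Subgroup.mem_subgroupOf] at this
    exact this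

end Cfsg.Agent.Helper4
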