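import Mathlib
import Cfsg.Agent.Helper4.CyclicSylowA
import Cfsg.Agent.Helper4.SylowConjIn
import Cfsg.Agent.Lead.SylowLemmas
import Cfsg.Agent.Helper1.Coprime

set_option autoImplicit false

namespace Cfsg.Agent.Helper4

variable {G : Type*} [Group G]

theorem mul_comm_of_isCyclic_subgroup (P : Subgroup G) (hcyc : IsCyclic P) {a b : G}
    (ha : a ∈ P) (hb : b ∈ P) : a * b = b * a := by
  letI := hcyc
  have := (IsCyclic.commGroup (α := P)).mul_comm ⟨a, ha⟩ ⟨b, hb⟩
  exact congrArg Subtype.val this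

/-- an element of `N_G(P)` (`P` a cyclic Sylow `p`-subgroup) whose commutators with `P` lie in a
proper subgroup of `P`, or which centralizes a nontrivial subgroup of `P`, centralizes `P`. -/
theorem mem_centralizer_of_mem_normalizer_cyclic_sylow [Finite G] {p : ℕ} [hp : Fact p.Prime]
    (P : Sylow p G) (hcyc : IsCyclic (P : Subgroup G)) (k : G)
    (hkN : k ∈ Subgroup.normalizer ((P : Subgroup G) : Set G))
    (h : (∃ P₀ : Subgroup G, P₀ < (P : Subgroup G) ∧
        ⁅(P : Subgroup G), Subgroup.zpowers k⁆ ≤ P₀) ∨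
      (∃ Q : Subgroup G, Q ≤ (P : Subgroup G) ∧ Q ≠ ⊥ ∧
        k ∈ Subgroup.centralizer (Q : Set G))) :
    k ∈ Subgroup.centralizer ((P : Subgroup G) : Set G) := by
  obtain ⟨a, b, ha, hb, hab, hacop, hbp⟩ := exists_p_part_decomp p k
  have hkZ : Subgroup.zpowers k ≤ Subgroup.normalizer ((P : Subgroup G) : Set G) := by
    rw [Subgroup.zpowers_le]; exact hkN
  -- b lies in P
  have hbP : b ∈ (P : Subgroup G) := by
    apply mem_of_pelement_normalizing (P : Subgroup G) ⊤ le_top P.isPGroup'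
      (by rw [Subgroup.card_top]; exact P.card_eq_multiplicity) b (Subgroup.mem_top b)
      (hkZ hb) hbp
  have hbC : b ∈ Subgroup.centralizer ((P : Subgroup G) : Set G) := by
    rw [Subgroup.mem_centralizer_iff]
    intro y hy
    exact mul_comm_of_isCyclic_subgroup _ hcyc hy hbP
  -- a centralizes P by coprime action
  have haZ : Subgroup.zpowers a ≤ Subgroup.zpowers k := by
    rw [Subgroup.zpowers_le]; exact ha
  have haC : Subgroup.zpowers a ≤ Subgroup.centralizer ((P : Subgroup G) : Set G) := by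
    apply centralizes_cyclic_of_coprime (P : Subgroup G) (Subgroup.zpowers a) hcyc P.isPGroup'
      (haZ.trans hkZ) (by rw [Nat.card_zpowers]; exact hacop)
    rcases h with ⟨P₀, hP₀, hle⟩ | ⟨Q, hQP, hQ, hkQ⟩
    · left
      exact ⟨P₀, hP₀, (Subgroup.commutator_mono le_rfl haZ).trans hle⟩
    · right
      refine ⟨Q, hQP, hQ, ?_⟩
      refine haZ.trans ?_
      rw [Subgroup.zpowers_le]; exact hkQ
  rw [hab]
  exact Subgroup.mul_mem _ (haC (Subgroup.mem_zpowers a)) hbC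

/-- Lemma C. -/
theorem normalizer_inf_le_centralizer_of_cyclic_sylow [Finite G] {p : ℕ} [hp : Fact p.Prime]
    (P : Sylow p G) (hcyc : IsCyclic (P : Subgroup G)) (H : Subgroup G) [hH : H.Normal]
    (hPH : ¬ (P : Subgroup G) ≤ H) (x : G) (hxH : x ∈ H)
    (hxN : x ∈ Subgroup.normalizer ((((P : Subgroup G) ⊓ H : Subgroup G)) : Set G)) :
    x ∈ Subgroup.centralizer ((((P : Subgroup G) ⊓ H : Subgroup G)) : Set G) := by
  obtain ⟨P₀, hP₀def⟩ : ∃ P₀ : Subgroup G, P₀ = (P : Subgroup G) ⊓ H := ⟨_, rfl⟩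
  rw [← hP₀def] at hxN ⊢
  have hP₀P : P₀ ≤ (P : Subgroup G) := hP₀def ▸ inf_le_left
  have hP₀H : P₀ ≤ H := hP₀def ▸ inf_le_right
  have hP₀lt : P₀ < (P : Subgroup G) := by
    refine lt_of_le_of_ne hP₀P (fun h => hPH ?_)
    rw [hP₀def] at h
    exact inf_eq_left.1 h
  have hP₀p : IsPGroup p P₀ := P.isPGroup'.to_le hP₀P
  have hP₀card : Nat.card P₀ = p ^ (Nat.card H).factorization p := by
    rw [hP₀def]
    apply Cfsg.Agent.Lead.card_inf_eq_ppart_of_normal (N := ⊤) le_top le_top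
    · rw [Subgroup.normalizer_eq_top]
    · exact P.isPGroup'
    · rw [Subgroup.card_top]; exact P.card_eq_multiplicity
  have hPcent : (P : Subgroup G) ≤ Subgroup.centralizer (P₀ : Set G) := by
    intro y hy
    rw [Subgroup.mem_centralizer_iff]
    intro z hz
    exact mul_comm_of_isCyclic_subgroup _ hcyc (hP₀P hz) hy
  have hPnorm : (P : Subgroup G) ≤ Subgroup.normalizer (P₀ : Set G) :=
    hPcent.trans (Subgroup.centralizer_le_normalizer _)
  -- K = N_H(P₀)
  obtain ⟨K, hKdef⟩ : ∃ K : Subgroup G, K = H ⊓ Subgroup.normalizer (P₀ : Set G) := ⟨_, rfl⟩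
  have hxK : x ∈ K := by rw [hKdef]; exact ⟨hxH, hxN⟩
  have hKH : K ≤ H := hKdef ▸ inf_le_left
  have hKN : K ≤ Subgroup.normalizer (P₀ : Set G) := hKdef ▸ inf_le_right
  have hPK : (P : Subgroup G) ≤ Subgroup.normalizer (K : Set G) := by
    intro y hy
    rw [Subgroup.mem_normalizer_iff]
    intro z
    have hyN := hPnorm hy
    rw [hKdef]
    constructor
    · rintro ⟨hzH, hzN⟩
      exact ⟨hH.conj_mem z hzH y, Subgroup.mul_mem _ (Subgroup.mul_mem _ hyN hzN)
        (Subgroup.inv_mem _ hyN)⟩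
    · rintro ⟨hzH, hzN⟩
      refine ⟨?_, ?_⟩
      · have := hH.conj_mem _ hzH y⁻¹
        simpa [mul_assoc] using this
      · have := Subgroup.mul_mem _ (Subgroup.mul_mem _ (Subgroup.inv_mem _ hyN) hzN) hyN
        simpa [mul_assoc] using this
  -- decompose x
  obtain ⟨a, b, ha, hb, hab, hacop, hbp⟩ := exists_p_part_decomp p x
  have hxZ : Subgroup.zpowers x ≤ K := by rw [Subgroup.zpowers_le]; exact hxK
  have hbP₀ : b ∈ P₀ :=
    mem_of_pelement_normalizing P₀ H hP₀H hP₀p hP₀card b (hKH (hxZ hb)) (hKN (hxZ hb)) hbp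
  have hbC : b ∈ Subgroup.centralizer (P₀ : Set G) := hPcent (hP₀P hbP₀)
  suffices haC : a ∈ Subgroup.centralizer (P₀ : Set G) by
    rw [hab]; exact Subgroup.mul_mem _ haC hbC
  have haK : a ∈ K := hxZ ha
  -- T = P ⊔ K, CT = C(P₀) ⊓ T
  obtain ⟨T, hTdef⟩ : ∃ T : Subgroup G, T = K ⊔ (P : Subgroup G) := ⟨_, rfl⟩
  have hKT : K ≤ T := hTdef ▸ le_sup_left
  have hPT : (P : Subgroup G) ≤ T := hTdef ▸ le_sup_right
  have hTN : T ≤ Subgroup.normalizer (P₀ : Set G) := by
    rw [hTdef]; exact sup_le hKN hPnorm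
  obtain ⟨CT, hCTdef⟩ : ∃ CT : Subgroup G, CT = Subgroup.centralizer (P₀ : Set G) ⊓ T := ⟨_, rfl⟩
  have hPCT : (P : Subgroup G) ≤ CT := by rw [hCTdef]; exact le_inf hPcent hPT
  -- the conjugate of P by a
  obtain ⟨Q₂, hQ₂def⟩ : ∃ Q₂ : Subgroup G,
      Q₂ = (P : Subgroup G).map (MulAut.conj a).toMonoidHom := ⟨_, rfl⟩
  have haN : a ∈ Subgroup.normalizer (P₀ : Set G) := hKN haK
  have hQ₂CT : Q₂ ≤ CT := by
    rw [hQ₂def, hCTdef]
    rintro _ ⟨y, hy, rfl⟩
    refine ⟨?_, ?_⟩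
    · -- a y a⁻¹ centralizes P₀
      have hyC := hPcent hy
      show a * y * a⁻¹ ∈ Subgroup.centralizer (P₀ : Set G)
      rw [Subgroup.mem_centralizer_iff] at hyC ⊢
      intro z hz
      have hz' : a⁻¹ * z * a ∈ P₀ := by
        have := (Subgroup.mem_normalizer_iff.1 (Subgroup.inv_mem _ haN) z).1 hz
        simpa using this
      have h1 := hyC _ hz'
      show z * (a * y * a⁻¹) = a * y * a⁻¹ * z
      calc z * (a * y * a⁻¹) = a * ((a⁻¹ * z * a) * y) * a⁻¹ := by group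
        _ = a * (y * (a⁻¹ * z * a)) * a⁻¹ := by rw [h1]
        _ = a * y * a⁻¹ * z := by group
    · show a * y * a⁻¹ ∈ T
      exact Subgroup.mul_mem _ (Subgroup.mul_mem _ (hKT haK) (hPT hy))
        (Subgroup.inv_mem _ (hKT haK))
  have hPcardCT : Nat.card (P : Subgroup G) = p ^ (Nat.card CT).factorization p :=
    Cfsg.Agent.Lead.card_eq_ppart_of_le (H := ⊤) hPCT le_top P.isPGroup'
      (by rw [Subgroup.card_top]; exact P.card_eq_multiplicity)
  have hQ₂card : Nat.card Q₂ = p ^ (Nat.card CT).factorization p := by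
    rw [hQ₂def, Cfsg.Agent.Lead.card_map_conj]; exact hPcardCT
  obtain ⟨c, hcCT, hc⟩ := exists_conj_of_card_eq_ppart CT (P : Subgroup G) Q₂ hPCT hQ₂CT
    hPcardCT hQ₂card
  -- n = c⁻¹ a normalizes P
  have hcC : c ∈ Subgroup.centralizer (P₀ : Set G) := by
    rw [hCTdef] at hcCT; exact hcCT.1
  have hcT : c ∈ T := by rw [hCTdef] at hcCT; exact hcCT.2
  have hnN : c⁻¹ * a ∈ Subgroup.normalizer ((P : Subgroup G) : Set G) := by
    apply Subgroup.mem_normalizer_fintype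
    intro y hy
    have h1 : a * y * a⁻¹ ∈ Q₂ := by
      rw [hQ₂def]; exact ⟨y, hy, rfl⟩
    have h2 := (hc _).1 h1
    have h3 : c⁻¹ * a * y * (c⁻¹ * a)⁻¹ = c⁻¹ * (a * y * a⁻¹) * c := by group
    rw [h3]
    exact h2
  have hnT : c⁻¹ * a ∈ K ⊔ (P : Subgroup G) := by
    rw [← hTdef]
    exact Subgroup.mul_mem _ (Subgroup.inv_mem _ hcT) (hKT haK)
  obtain ⟨k, hkK, y, hyP, hnky⟩ := Cfsg.Agent.Helper1.mem_sup_of_le_normalizer hPK hnT
  have hkN : k ∈ Subgroup.normalizer ((P : Subgroup G) : Set G) := by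
    have hk : k = c⁻¹ * a * y⁻¹ := by rw [hnky]; group
    rw [hk]
    exact Subgroup.mul_mem _ hnN (Subgroup.inv_mem _ (Subgroup.le_normalizer hyP))
  have hkZN : Subgroup.zpowers k ≤ Subgroup.normalizer ((P : Subgroup G) : Set G) := by
    rw [Subgroup.zpowers_le]; exact hkN
  have hkZK : Subgroup.zpowers k ≤ K := by
    rw [Subgroup.zpowers_le]; exact hkK
  have hcomm : ⁅(P : Subgroup G), Subgroup.zpowers k⁆ ≤ P₀ := by
    have h1 : ⁅(P : Subgroup G), Subgroup.zpowers k⁆ ≤ (P : Subgroup G) :=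
      Subgroup.le_normalizer_iff_commutator_le_left.1 hkZN
    have h2 : ⁅(P : Subgroup G), Subgroup.zpowers k⁆ ≤ K := by
      rw [Subgroup.commutator_comm]
      exact (Subgroup.commutator_mono hkZK le_rfl).trans
        (Subgroup.le_normalizer_iff_commutator_le_left.1 hPK)
    rw [hP₀def]
    exact le_inf h1 (h2.trans hKH)
  have hkC : k ∈ Subgroup.centralizer ((P : Subgroup G) : Set G) :=
    mem_centralizer_of_mem_normalizer_cyclic_sylow P hcyc k hkN (Or.inl ⟨P₀, hP₀lt, hcomm⟩)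
  have hkC₀ : k ∈ Subgroup.centralizer (P₀ : Set G) :=
    Subgroup.centralizer_le (by exact_mod_cast hP₀P) hkC
  have hyC₀ : y ∈ Subgroup.centralizer (P₀ : Set G) := hPcent hyP
  have ha_eq : a = c * (k * y) := by rw [← hnky]; group
  rw [ha_eq]
  exact Subgroup.mul_mem _ hcC (Subgroup.mul_mem _ hkC₀ hyC₀)

end Cfsg.Agent.Helper4
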