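import Mathlib
import Cfsg.Agent.Helper4.CyclicSylowB
import Cfsg.Agent.Helper1.NormalPCompl
import Cfsg.Prelude.Def_Local

set_option autoImplicit false

namespace Cfsg.Agent.Helper4

variable {G : Type*} [Group G]

/-- Part 1: a normal subgroup not containing the cyclic Sylow `p`-subgroup has a normal
`p`-complement. -/
theorem hasNormalPComplement_of_cyclic_sylow_normal [Finite G] {p : ℕ} [hp : Fact p.Prime]
    (P : Sylow p G) (hcyc : IsCyclic (P : Subgroup G)) (H : Subgroup G) [hH : H.Normal]
    (hPH : ¬ (P : Subgroup G) ≤ H) : Cfsg.HasNormalPComplement p H := by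
  obtain ⟨P₀, hP₀def⟩ : ∃ P₀ : Subgroup G, P₀ = (P : Subgroup G) ⊓ H := ⟨_, rfl⟩
  have hP₀H : P₀ ≤ H := hP₀def ▸ inf_le_right
  have hP₀card : Nat.card P₀ = p ^ (Nat.card H).factorization p := by
    rw [hP₀def]
    apply Cfsg.Agent.Lead.card_inf_eq_ppart_of_normal (N := ⊤) le_top le_top
    · rw [Subgroup.normalizer_eq_top]
    · exact P.isPGroup'
    · rw [Subgroup.card_top]; exact P.card_eq_multiplicity
  have hcard' : Nat.card (P₀.subgroupOf H) = p ^ (Nat.card H).factorization p := by
    rw [Cfsg.Agent.Lead.card_subgroupOf_of_le hP₀H]; exact hP₀card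
  let Q : Sylow p H := Sylow.ofCard (P₀.subgroupOf H) hcard'
  have hQ : (Q : Subgroup H) = P₀.subgroupOf H := rfl
  apply Cfsg.Agent.Helper1.hasNormalPComplement_of_normalizer_le_centralizer Q
  intro x hx
  have hxN : (x : G) ∈ Subgroup.normalizer (P₀ : Set G) := by
    apply Subgroup.mem_normalizer_fintype
    intro z hz
    have hzQ : (⟨z, hP₀H hz⟩ : H) ∈ (Q : Subgroup H) := by
      rw [hQ, Subgroup.mem_subgroupOf]; exact hz
    have := (Subgroup.mem_normalizer_iff.1 hx ⟨z, hP₀H hz⟩).1 hzQ
    rw [hQ, Subgroup.mem_subgroupOf] at this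
    exact this
  have hxC := normalizer_inf_le_centralizer_of_cyclic_sylow P hcyc H hPH (x : G) x.2
    (hP₀def ▸ hxN)
  rw [← hP₀def] at hxC
  rw [Subgroup.mem_centralizer_iff]
  intro q hq
  have hq' : (q : G) ∈ P₀ := by
    have : q ∈ (Q : Subgroup H) := hq
    rw [hQ, Subgroup.mem_subgroupOf] at this
    exact this
  apply Subtype.ext
  exact (Subgroup.mem_centralizer_iff.1 hxC) (q : G) hq'

/-- a three step normal series witnessing `p`-solvability -/
theorem isPSolvable_of_series3 {p : ℕ} (L C : Subgroup G) [hL : L.Normal] [hC : C.Normal]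
    (hLC : L ≤ C) (h1 : (Nat.card L).Coprime p) (h2 : ∃ m : ℕ, L.relIndex C = p ^ m)
    (h3 : C.index.Coprime p) : Cfsg.IsPSolvable p G := by
  refine ⟨3, ![⊥, L, C, ⊤], rfl, rfl, ?_, ?_, ?_⟩
  · rw [Fin.monotone_iff_le_succ]
    intro i
    fin_cases i
    · exact bot_le
    · exact hLC
    · exact le_top
  · intro i
    fin_cases i
    · exact Subgroup.normal_bot
    · exact hL
    · exact hC
    · exact Subgroup.normal_top
  · intro i
    fin_cases i
    · right
      show ((⊥ : Subgroup G).relIndex L).Coprime p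
      rw [Subgroup.relIndex_bot_left]; exact h1
    · left
      exact h2
    · right
      show (C.relIndex ⊤).Coprime p
      rw [Subgroup.relIndex_top_right]; exact h3

end Cfsg.Agent.Helper4
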