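import Mathlib
import Cfsg.Agent.Helper4.CyclicSylowC

set_option autoImplicit false

namespace Cfsg.Agent.Helper4

variable {G : Type*} [Group G]

/-- Frattini argument in internal form -/
theorem exists_mul_normalizer_of_card_eq_ppart [Finite G] {p : ℕ} [hp : Fact p.Prime]
    (H P₀ : Subgroup G) [hH : H.Normal] (hP₀H : P₀ ≤ H)
    (hcard : Nat.card P₀ = p ^ (Nat.card H).factorization p) (g : G) :
    ∃ h ∈ H, h⁻¹ * g ∈ Subgroup.normalizer (P₀ : Set G) := by
  obtain ⟨Q₂, hQ₂def⟩ : ∃ Q₂ : Subgroup G, Q₂ = P₀.map (MulAut.conj g).toMonoidHom := ⟨_, rfl⟩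
  have hQ₂H : Q₂ ≤ H := by
    rw [hQ₂def]
    rintro _ ⟨y, hy, rfl⟩
    exact hH.conj_mem y (hP₀H hy) g
  have hQ₂card : Nat.card Q₂ = p ^ (Nat.card H).factorization p := by
    rw [hQ₂def, Cfsg.Agent.Lead.card_map_conj]; exact hcard
  obtain ⟨h, hhH, hh⟩ := exists_conj_of_card_eq_ppart H P₀ Q₂ hP₀H hQ₂H hcard hQ₂card
  refine ⟨h, hhH, ?_⟩
  apply Subgroup.mem_normalizer_fintype
  intro z hz
  have h1 : g * z * g⁻¹ ∈ Q₂ := by rw [hQ₂def]; exact ⟨z, hz, rfl⟩
  have h2 := (hh _).1 h1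
  have h3 : h⁻¹ * g * z * (h⁻¹ * g)⁻¹ = h⁻¹ * (g * z * g⁻¹) * h := by group
  rw [h3]; exact h2

theorem conj_mem_centralizer_of_mem_normalizer' {S : Subgroup G} {n c : G}
    (hn : n ∈ Subgroup.normalizer (S : Set G)) (hc : c ∈ Subgroup.centralizer (S : Set G)) :
    n * c * n⁻¹ ∈ Subgroup.centralizer (S : Set G) := by
  rw [Subgroup.mem_centralizer_iff] at hc ⊢
  intro z hz
  have hz' : n⁻¹ * z * n ∈ S := by
    have := (Subgroup.mem_normalizer_iff.1 (Subgroup.inv_mem _ hn) z).1 hz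
    simpa using this
  have h1 := hc _ hz'
  calc z * (n * c * n⁻¹) = n * ((n⁻¹ * z * n) * c) * n⁻¹ := by group
    _ = n * (c * (n⁻¹ * z * n)) * n⁻¹ := by rw [h1]
    _ = n * c * n⁻¹ * z := by group

/-- `H ⊔ C_G(P₀)` is normal when `P₀` is a "Sylow" subgroup of the normal subgroup `H`. -/
theorem sup_centralizer_normal [Finite G] {p : ℕ} [hp : Fact p.Prime]
    (H P₀ : Subgroup G) [hH : H.Normal] (hP₀H : P₀ ≤ H)
    (hcard : Nat.card P₀ = p ^ (Nat.card H).factorization p) :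
    (H ⊔ Subgroup.centralizer (P₀ : Set G)).Normal := by
  constructor
  intro x hx g
  have hCN : Subgroup.centralizer (P₀ : Set G) ≤ Subgroup.normalizer (H : Set G) := by
    rw [Subgroup.normalizer_eq_top]; exact le_top
  obtain ⟨u, huH, c, hcC, hxuc⟩ := Cfsg.Agent.Helper1.mem_sup_of_le_normalizer hCN hx
  obtain ⟨h, hhH, hn⟩ := exists_mul_normalizer_of_card_eq_ppart H P₀ hP₀H hcard g
  -- g = h * n
  obtain ⟨n, hndef⟩ : ∃ n, n = h⁻¹ * g := ⟨_, rfl⟩
  rw [← hndef] at hn
  have hg : g = h * n := by rw [hndef]; group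
  have hc' : n * c * n⁻¹ ∈ Subgroup.centralizer (P₀ : Set G) :=
    conj_mem_centralizer_of_mem_normalizer' hn hcC
  have e : g * x * g⁻¹ = (g * u * g⁻¹) * (h * (n * c * n⁻¹) * h⁻¹ * (n * c * n⁻¹)⁻¹) *
      (n * c * n⁻¹) := by
    rw [hxuc, hg]; group
  rw [e]
  apply Subgroup.mul_mem
  · apply Subgroup.mem_sup_left
    apply Subgroup.mul_mem _ (hH.conj_mem u huH g)
    have := hH.conj_mem h⁻¹ (H.inv_mem hhH) (n * c * n⁻¹)
    have h2 : h * (n * c * n⁻¹) * h⁻¹ * (n * c * n⁻¹)⁻¹ =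
        h * ((n * c * n⁻¹) * h⁻¹ * (n * c * n⁻¹)⁻¹) := by group
    rw [h2]
    exact H.mul_mem hhH this
  · exact Subgroup.mem_sup_right hc'

/-- Part 2. -/
theorem isPSolvable_of_cyclic_sylow_normal [Finite G] {p : ℕ} [hp : Fact p.Prime]
    (P : Sylow p G) (hcyc : IsCyclic (P : Subgroup G)) (H : Subgroup G) [hH : H.Normal]
    (hPH : ¬ (P : Subgroup G) ≤ H) (hpH : p ∣ Nat.card H) : Cfsg.IsPSolvable p G := by
  obtain ⟨P₀, hP₀def⟩ : ∃ P₀ : Subgroup G, P₀ = (P : Subgroup G) ⊓ H := ⟨_, rfl⟩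
  have hP₀P : P₀ ≤ (P : Subgroup G) := hP₀def ▸ inf_le_left
  have hP₀H : P₀ ≤ H := hP₀def ▸ inf_le_right
  have hP₀card : Nat.card P₀ = p ^ (Nat.card H).factorization p := by
    rw [hP₀def]
    apply Cfsg.Agent.Lead.card_inf_eq_ppart_of_normal (N := ⊤) le_top le_top
    · rw [Subgroup.normalizer_eq_top]
    · exact P.isPGroup'
    · rw [Subgroup.card_top]; exact P.card_eq_multiplicity
  have hP₀ne : P₀ ≠ ⊥ := by
    intro h
    rw [h, Subgroup.card_bot] at hP₀card
    have hpos : 0 < (Nat.card H).factorization p :=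
      (hp.out.factorization_pos_of_dvd Nat.card_pos.ne' hpH)
    have : 1 < p ^ (Nat.card H).factorization p := Nat.one_lt_pow hpos.ne' hp.out.one_lt
    omega
  have hPcent : (P : Subgroup G) ≤ Subgroup.centralizer (P₀ : Set G) := by
    intro y hy
    rw [Subgroup.mem_centralizer_iff]
    intro z hz
    exact mul_comm_of_isCyclic_subgroup _ hcyc (hP₀P hz) hy
  obtain ⟨CC, hCCdef⟩ : ∃ CC : Subgroup G, CC = H ⊔ Subgroup.centralizer (P₀ : Set G) :=
    ⟨_, rfl⟩
  haveI hCCn : CC.Normal := by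
    rw [hCCdef]; exact sup_centralizer_normal H P₀ hP₀H hP₀card
  have hPCC : (P : Subgroup G) ≤ CC := by
    rw [hCCdef]; exact hPcent.trans le_sup_right
  have hPcardCC : Nat.card (P : Subgroup G) = p ^ (Nat.card CC).factorization p :=
    Cfsg.Agent.Lead.card_eq_ppart_of_le (H := ⊤) hPCC le_top P.isPGroup'
      (by rw [Subgroup.card_top]; exact P.card_eq_multiplicity)
  have hcard' : Nat.card ((P : Subgroup G).subgroupOf CC) = p ^ (Nat.card CC).factorization p := by
    rw [Cfsg.Agent.Lead.card_subgroupOf_of_le hPCC]; exact hPcardCC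
  let Q : Sylow p CC := Sylow.ofCard ((P : Subgroup G).subgroupOf CC) hcard'
  have hQ : (Q : Subgroup CC) = (P : Subgroup G).subgroupOf CC := rfl
  have hBurn : Subgroup.normalizer ((Q : Subgroup CC) : Set CC) ≤
      Subgroup.centralizer ((Q : Subgroup CC) : Set CC) := by
    intro n hn
    have hnN : (n : G) ∈ Subgroup.normalizer ((P : Subgroup G) : Set G) := by
      apply Subgroup.mem_normalizer_fintype
      intro z hz
      have hzQ : (⟨z, hPCC hz⟩ : CC) ∈ (Q : Subgroup CC) := by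
        rw [hQ, Subgroup.mem_subgroupOf]; exact hz
      have := (Subgroup.mem_normalizer_iff.1 hn ⟨z, hPCC hz⟩).1 hzQ
      rw [hQ, Subgroup.mem_subgroupOf] at this
      exact this
    -- n = u * c
    have hCN : Subgroup.centralizer (P₀ : Set G) ≤ Subgroup.normalizer (H : Set G) := by
      rw [Subgroup.normalizer_eq_top]; exact le_top
    have hnCC : (n : G) ∈ H ⊔ Subgroup.centralizer (P₀ : Set G) := hCCdef ▸ n.2
    obtain ⟨u, huH, c, hcC, hnuc⟩ := Cfsg.Agent.Helper1.mem_sup_of_le_normalizer hCN hnCC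
    -- u normalizes P₀
    have huN : u ∈ Subgroup.normalizer (P₀ : Set G) := by
      apply Subgroup.mem_normalizer_fintype
      intro z hz
      have hcz : z * c = c * z := (Subgroup.mem_centralizer_iff.1 hcC) z hz
      have h1 : u * z * u⁻¹ = (n : G) * z * (n : G)⁻¹ := by
        have hu : u = (n : G) * c⁻¹ := by rw [hnuc]; group
        rw [hu]
        have : c⁻¹ * z * c = z := by
          rw [mul_assoc, hcz, ← mul_assoc, inv_mul_cancel, one_mul]
        calc (n : G) * c⁻¹ * z * ((n : G) * c⁻¹)⁻¹ = (n : G) * (c⁻¹ * z * c) * (n : G)⁻¹ := by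
              group
          _ = (n : G) * z * (n : G)⁻¹ := by rw [this]
      rw [h1, hP₀def]
      refine ⟨?_, hH.conj_mem z (hP₀H hz) _⟩
      exact (Subgroup.mem_normalizer_iff.1 hnN z).1 (hP₀P hz)
    have huC := normalizer_inf_le_centralizer_of_cyclic_sylow P hcyc H hPH u huH (hP₀def ▸ huN)
    rw [← hP₀def] at huC
    have hnC₀ : (n : G) ∈ Subgroup.centralizer (P₀ : Set G) := by
      rw [hnuc]; exact Subgroup.mul_mem _ huC hcC
    have hnC : (n : G) ∈ Subgroup.centralizer ((P : Subgroup G) : Set G) :=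
      mem_centralizer_of_mem_normalizer_cyclic_sylow P hcyc (n : G) hnN
        (Or.inr ⟨P₀, hP₀P, hP₀ne, hnC₀⟩)
    rw [Subgroup.mem_centralizer_iff]
    intro q hq
    have hq' : (q : G) ∈ (P : Subgroup G) := by
      have : q ∈ (Q : Subgroup CC) := hq
      rw [hQ, Subgroup.mem_subgroupOf] at this
      exact this
    apply Subtype.ext
    exact (Subgroup.mem_centralizer_iff.1 hnC) (q : G) hq'
  have hcompl := MonoidHom.ker_transferSylow_isComplement' Q hBurn
  obtain ⟨L', hL'def⟩ : ∃ L' : Subgroup CC, L' = (MonoidHom.transferSylow Q hBurn).ker :=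
    ⟨_, rfl⟩
  rw [← hL'def] at hcompl
  haveI hL'n : L'.Normal := by rw [hL'def]; infer_instance
  have hL'index : L'.index = Nat.card (Q : Subgroup CC) := hcompl.symm.index_eq_card
  have hQcardpow : ∃ k : ℕ, Nat.card (Q : Subgroup CC) = p ^ k := ⟨_, Q.card_eq_multiplicity⟩
  have hL'card : (Nat.card L').Coprime p := by
    have h1 : (Q : Subgroup CC).index = Nat.card L' := hcompl.index_eq_card
    rw [← h1]
    exact ((Nat.Prime.coprime_iff_not_dvd hp.out).2 Q.not_dvd_index).symm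
  obtain ⟨L, hLdef⟩ : ∃ L : Subgroup G, L = L'.map CC.subtype := ⟨_, rfl⟩
  have hLCC : L ≤ CC := by
    rw [hLdef]
    rintro _ ⟨y, _, rfl⟩
    exact y.2
  haveI hLn : L.Normal := by
    constructor
    intro l hl g
    rw [hLdef] at hl ⊢
    obtain ⟨l', hl', rfl⟩ := hl
    have hmem : g * (l' : G) * g⁻¹ ∈ CC := hCCn.conj_mem _ l'.2 g
    refine ⟨⟨g * (l' : G) * g⁻¹, hmem⟩, ?_, rfl⟩
    apply mem_of_orderOf_coprime_index L'
    have ho : orderOf (⟨g * (l' : G) * g⁻¹, hmem⟩ : CC) = orderOf l' := by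
      rw [← Subgroup.orderOf_coe, ← Subgroup.orderOf_coe]
      show orderOf (g * (l' : G) * g⁻¹) = orderOf (l' : G)
      exact (MulAut.conj g).orderOf_eq (l' : G)
    have hdvd : orderOf l' ∣ Nat.card L' := by
      have := orderOf_dvd_natCard (⟨l', hl'⟩ : L')
      rwa [← Subgroup.orderOf_coe] at this
    rw [ho, hL'index]
    obtain ⟨k, hk⟩ := hQcardpow
    rw [hk]
    exact Nat.Coprime.pow_right k (Nat.Coprime.coprime_dvd_left hdvd hL'card)
  have hcardL : Nat.card L = Nat.card L' := by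
    rw [hLdef]
    exact Subgroup.card_map_of_injective (Subgroup.subtype_injective _)
  have hrel : L.relIndex CC = Nat.card (Q : Subgroup CC) := by
    have : L.subgroupOf CC = L' := by
      rw [hLdef]
      exact Subgroup.comap_map_eq_self_of_injective (Subgroup.subtype_injective _) L'
    unfold Subgroup.relIndex
    rw [this, hL'index]
  apply isPSolvable_of_series3 L CC hLCC
  · rw [hcardL]; exact hL'card
  · obtain ⟨k, hk⟩ := hQcardpow
    exact ⟨k, by rw [hrel, hk]⟩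
  · have h1 : CC.index ∣ (P : Subgroup G).index := Subgroup.index_dvd_of_le hPCC
    exact Nat.Coprime.coprime_dvd_left h1
      ((Nat.Prime.coprime_iff_not_dvd hp.out).2 P.not_dvd_index).symm

end Cfsg.Agent.Helper4
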