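import Mathlib
import Cfsg.Agent.Helper4.CyclicSylowD

set_option autoImplicit false

namespace Cfsg.Agent.Helper4

variable {G : Type*} [Group G]

/-- every Sylow `p`-subgroup is cyclic if one is -/
theorem isCyclic_sylow_of_isCyclic_sylow [Finite G] {p : ℕ} [hp : Fact p.Prime]
    (P : Sylow p G) (hcyc : IsCyclic (P : Subgroup G)) (P' : Sylow p G) :
    IsCyclic (P' : Subgroup G) := by
  haveI := hcyc
  exact isCyclic_of_surjective (Sylow.equiv P P') (Sylow.equiv P P').surjective

/-- Lemma I: two elementwise commuting subgroups meeting trivially cannot both have order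
divisible by `p` when the Sylow `p`-subgroups are cyclic. -/
theorem not_dvd_of_commuting_disjoint [Finite G] {p : ℕ} [hp : Fact p.Prime]
    (P : Sylow p G) (hcyc : IsCyclic (P : Subgroup G)) (A B : Subgroup G)
    (hcomm : ∀ a ∈ A, ∀ b ∈ B, a * b = b * a) (hAB : A ⊓ B = ⊥)
    (hA : p ∣ Nat.card A) (hB : p ∣ Nat.card B) : False := by
  obtain ⟨a, ha⟩ := exists_prime_orderOf_dvd_card' p hA
  obtain ⟨b, hb⟩ := exists_prime_orderOf_dvd_card' p hB
  have ha' : orderOf (a : G) = p := by rw [Subgroup.orderOf_coe]; exact ha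
  have hb' : orderOf (b : G) = p := by rw [Subgroup.orderOf_coe]; exact hb
  have hZa : IsPGroup p (Subgroup.zpowers (a : G)) := by
    apply IsPGroup.of_card (n := 1)
    rw [Nat.card_zpowers, ha', pow_one]
  have hZb : IsPGroup p (Subgroup.zpowers (b : G)) := by
    apply IsPGroup.of_card (n := 1)
    rw [Nat.card_zpowers, hb', pow_one]
  have hnorm : Subgroup.zpowers (a : G) ≤ Subgroup.normalizer (Subgroup.zpowers (b : G) : Set G) := by
    rw [Subgroup.zpowers_le]
    have hcent : (a : G) ∈ Subgroup.centralizer (Subgroup.zpowers (b : G) : Set G) := by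
      rw [Subgroup.mem_centralizer_iff]
      intro z hz
      obtain ⟨k, rfl⟩ := Subgroup.mem_zpowers_iff.1 hz
      have hc : Commute (b : G) (a : G) := (hcomm a a.2 b b.2).symm
      exact (hc.zpow_left k).eq
    exact Subgroup.centralizer_le_normalizer _ hcent
  have hU : IsPGroup p (Subgroup.zpowers (a : G) ⊔ Subgroup.zpowers (b : G) : Subgroup G) :=
    hZa.to_sup_of_normal_right' hZb hnorm
  obtain ⟨P', hP'⟩ := hU.exists_le_sylow
  have hcyc' := isCyclic_sylow_of_isCyclic_sylow P hcyc P'
  have hXY : Subgroup.zpowers (a : G) ⊓ Subgroup.zpowers (b : G) = ⊥ := by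
    rw [eq_bot_iff, ← hAB]
    exact inf_le_inf (by rw [Subgroup.zpowers_le]; exact a.2) (by rw [Subgroup.zpowers_le]; exact b.2)
  rcases cyclic_pgroup_inf_eq_bot (P' : Subgroup G) hcyc' P'.isPGroup' _ _
    (le_sup_left.trans hP') (le_sup_right.trans hP') hXY with h | h
  · rw [Subgroup.zpowers_eq_bot] at h
    rw [h, orderOf_one] at ha'
    exact hp.out.one_lt.ne ha'
  · rw [Subgroup.zpowers_eq_bot] at h
    rw [h, orderOf_one] at hb'
    exact hp.out.one_lt.ne hb'

/-- A normal subgroup `C` containing the Sylow `p`-subgroup `P` with `N_C(P) ≤ C_G(P)` has a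
normal `p`-complement which is normal in `G`. -/
theorem exists_normal_compl_of_normal_burnside [Finite G] {p : ℕ} [hp : Fact p.Prime]
    (P : Sylow p G) (CC : Subgroup G) [hCCn : CC.Normal] (hPCC : (P : Subgroup G) ≤ CC)
    (hB : ∀ n ∈ CC, n ∈ Subgroup.normalizer ((P : Subgroup G) : Set G) →
      n ∈ Subgroup.centralizer ((P : Subgroup G) : Set G)) :
    ∃ L : Subgroup G, L.Normal ∧ L ≤ CC ∧ (Nat.card L).Coprime p ∧
      L.relIndex CC = Nat.card (P : Subgroup G) := by
  have hPcardCC : Nat.card (P : Subgroup G) = p ^ (Nat.card CC).factorization p :=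
    Cfsg.Agent.Lead.card_eq_ppart_of_le (H := ⊤) hPCC le_top P.isPGroup'
      (by rw [Subgroup.card_top]; exact P.card_eq_multiplicity)
  have hcard' : Nat.card ((P : Subgroup G).subgroupOf CC) = p ^ (Nat.card CC).factorization p := by
    rw [Cfsg.Agent.Lead.card_subgroupOf_of_le hPCC]; exact hPcardCC
  let Q : Sylow p CC := Sylow.ofCard ((P : Subgroup G).subgroupOf CC) hcard'
  have hQ : (Q : Subgroup CC) = (P : Subgroup G).subgroupOf CC := rfl
  have hQcard : Nat.card (Q : Subgroup CC) = Nat.card (P : Subgroup G) := by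
    rw [hQ, Cfsg.Agent.Lead.card_subgroupOf_of_le hPCC]
  have hBurn : Subgroup.normalizer ((Q : Subgroup CC) : Set CC) ≤
      Subgroup.centralizer ((Q : Subgroup CC) : Set CC) := by
    intro n hn
    have hnN : (n : G) ∈ Subgroup.normalizer ((P : Subgroup G) : Set G) := by
      apply Subgroup.mem_normalizer_fintype
      intro z hz
      have hzQ : (⟨z, hPCC hz⟩ : CC) ∈ (Q : Subgroup CC) := by
        rw [hQ, Subgroup.mem_subgroupOf]; exact hz
      have := (Subgroup.mem_normalizer_iff.1 hn ⟨z, hPCC hz⟩).1 hzQ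
      rw [hQ, Subgroup.mem_subgroupOf] at this
      exact this
    have hnC := hB (n : G) n.2 hnN
    rw [Subgroup.mem_centralizer_iff]
    intro q hq
    have hq' : (q : G) ∈ (P : Subgroup G) := by
      have : q ∈ (Q : Subgroup CC) := hq
      rw [hQ, Subgroup.mem_subgroupOf] at this
      exact this
    apply Subtype.ext
    exact (Subgroup.mem_centralizer_iff.1 hnC) (q : G) hq'
  have hcompl := MonoidHom.ker_transferSylow_isComplement' Q hBurn
  obtain ⟨L', hL'def⟩ : ∃ L' : Subgroup CC, L' = (MonoidHom.transferSylow Q hBurn).ker :=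
    ⟨_, rfl⟩
  rw [← hL'def] at hcompl
  haveI hL'n : L'.Normal := by rw [hL'def]; infer_instance
  have hL'index : L'.index = Nat.card (Q : Subgroup CC) := hcompl.symm.index_eq_card
  have hQcardpow : ∃ k : ℕ, Nat.card (Q : Subgroup CC) = p ^ k := ⟨_, Q.card_eq_multiplicity⟩
  have hL'card : (Nat.card L').Coprime p := by
    have h1 : (Q : Subgroup CC).index = Nat.card L' := hcompl.index_eq_card
    rw [← h1]
    exact ((Nat.Prime.coprime_iff_not_dvd hp.out).2 Q.not_dvd_index).symm
  obtain ⟨L, hLdef⟩ : ∃ L : Subgroup G, L = L'.map CC.subtype := ⟨_, rfl⟩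
  have hLCC : L ≤ CC := by
    rw [hLdef]
    rintro _ ⟨y, _, rfl⟩
    exact y.2
  have hLn : L.Normal := by
    constructor
    intro l hl g
    rw [hLdef] at hl ⊢
    obtain ⟨l', hl', rfl⟩ := hl
    have hmem : g * (l' : G) * g⁻¹ ∈ CC := hCCn.conj_mem _ l'.2 g
    refine ⟨⟨g * (l' : G) * g⁻¹, hmem⟩, ?_, rfl⟩
    apply mem_of_orderOf_coprime_index L'
    have ho : orderOf (⟨g * (l' : G) * g⁻¹, hmem⟩ : CC) = orderOf l' := by
      rw [← Subgroup.orderOf_coe, ← Subgroup.orderOf_coe]
      show orderOf (g * (l' : G) * g⁻¹) = orderOf (l' : G)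
      exact (MulAut.conj g).orderOf_eq (l' : G)
    have hdvd : orderOf l' ∣ Nat.card L' := by
      have := orderOf_dvd_natCard (⟨l', hl'⟩ : L')
      rwa [← Subgroup.orderOf_coe] at this
    rw [ho, hL'index]
    obtain ⟨k, hk⟩ := hQcardpow
    rw [hk]
    exact Nat.Coprime.pow_right k (Nat.Coprime.coprime_dvd_left hdvd hL'card)
  have hcardL : Nat.card L = Nat.card L' := by
    rw [hLdef]
    exact Subgroup.card_map_of_injective (Subgroup.subtype_injective _)
  have hrel : L.relIndex CC = Nat.card (Q : Subgroup CC) := by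
    have : L.subgroupOf CC = L' := by
      rw [hLdef]
      exact Subgroup.comap_map_eq_self_of_injective (Subgroup.subtype_injective _) L'
    unfold Subgroup.relIndex
    rw [this, hL'index]
  exact ⟨L, hLn, hLCC, by rw [hcardL]; exact hL'card, by rw [hrel, hQcard]⟩

end Cfsg.Agent.Helper4
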