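import Mathlib
import Cfsg.Agent.Helper4.CyclicSylowE
import Cfsg.Prelude.Def_Solvable

set_option autoImplicit false

namespace Cfsg.Agent.Helper4

open scoped Pointwise

variable {K : Type*} [Group K]

/-- a normal `p`-subgroup lies in every Sylow `p`-subgroup -/
theorem normal_pgroup_le_sylow_F [Finite K] {p : ℕ} [hp : Fact p.Prime] (P : Sylow p K)
    (Z : Subgroup K) [hZn : Z.Normal] (hZp : IsPGroup p Z) : Z ≤ (P : Subgroup K) := by
  obtain ⟨P', hP'⟩ := hZp.exists_le_sylow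
  obtain ⟨g, hg⟩ := MulAction.exists_smul_eq K P' P
  intro z hz
  have h1 : g⁻¹ * z * g⁻¹⁻¹ ∈ Z := hZn.conj_mem z hz g⁻¹
  have h2 : g⁻¹ * z * g⁻¹⁻¹ ∈ (P' : Subgroup K) := hP' h1
  have h3 : z ∈ ((g • P' : Sylow p K) : Subgroup K) := by
    rw [Sylow.coe_subgroup_smul, Subgroup.mem_smul_pointwise_iff_exists]
    refine ⟨g⁻¹ * z * g⁻¹⁻¹, h2, ?_⟩
    rw [MulAut.smul_def, MulAut.conj_apply]
    group
  rw [hg] at h3
  exact h3

theorem ker_conjNormal_eq_centralizer (Z : Subgroup K) [Z.Normal] :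
    (MulAut.conjNormal (H := Z)).ker = Subgroup.centralizer (Z : Set K) := by
  ext g
  rw [MonoidHom.mem_ker, Subgroup.mem_centralizer_iff]
  constructor
  · intro h z hz
    have := congrArg (fun φ : MulAut Z => ((φ ⟨z, hz⟩ : Z) : K)) h
    simp only [MulAut.conjNormal_apply, MulAut.one_apply] at this
    calc z * g = (g * z * g⁻¹) * g := by rw [this]
      _ = g * z := by group
  · intro h
    ext z
    rw [MulAut.conjNormal_apply, MulAut.one_apply]
    have := h (z : K) z.2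
    calc g * (z : K) * g⁻¹ = (z : K) * g * g⁻¹ := by rw [this]
      _ = (z : K) := by group

/-- Case A of the cyclic Sylow structure theorem: a nontrivial normal `p`-subgroup. -/
theorem cyclic_sylow_caseA [Finite K] {p : ℕ} [hp : Fact p.Prime] (P : Sylow p K)
    (hcyc : IsCyclic (P : Subgroup K)) (hO : Cfsg.pPrimeCore p K = ⊥)
    (Z : Subgroup K) [hZn : Z.Normal] (hZp : IsPGroup p Z) (hZ : Z ≠ ⊥) :
    (P : Subgroup K).Normal ∧
      Subgroup.centralizer ((P : Subgroup K) : Set K) = (P : Subgroup K) ∧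
      (∀ (_ : (P : Subgroup K).Normal), IsCyclic (K ⧸ (P : Subgroup K))) ∧
      (P : Subgroup K).index ∣ p - 1 := by
  have hZP : Z ≤ (P : Subgroup K) := normal_pgroup_le_sylow_F P Z hZp
  obtain ⟨z₀, hz₀Z, hz₀⟩ := exists_orderOf_eq_prime_of_ne_bot Z hZp hZ
  obtain ⟨Z₁, hZ₁def⟩ : ∃ Z₁ : Subgroup K, Z₁ = Subgroup.zpowers z₀ := ⟨_, rfl⟩
  have hZ₁P : Z₁ ≤ (P : Subgroup K) := by
    rw [hZ₁def, Subgroup.zpowers_le]; exact hZP hz₀Z
  have hZ₁card : Nat.card Z₁ = p := by rw [hZ₁def, Nat.card_zpowers, hz₀]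
  have hZ₁ne : Z₁ ≠ ⊥ := by
    intro h
    rw [h, Subgroup.card_bot] at hZ₁card
    exact hp.out.one_lt.ne hZ₁card
  haveI hZ₁n : Z₁.Normal := by
    constructor
    intro x hx g
    rw [hZ₁def] at hx ⊢
    obtain ⟨k, rfl⟩ := Subgroup.mem_zpowers_iff.1 hx
    have hconj : g * z₀ * g⁻¹ ∈ Subgroup.zpowers z₀ := by
      have h1 : g * z₀ * g⁻¹ ∈ (P : Subgroup K) := hZP (hZn.conj_mem z₀ hz₀Z g)
      have ho : orderOf (g * z₀ * g⁻¹) = p := by
        rw [← hz₀]; exact (MulAut.conj g).orderOf_eq z₀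
      have ho1 : orderOf (⟨g * z₀ * g⁻¹, h1⟩ : (P : Subgroup K)) = p :=
        (Subgroup.orderOf_mk _ _).trans ho
      have ho2 : orderOf (⟨z₀, hZP hz₀Z⟩ : (P : Subgroup K)) = p :=
        (Subgroup.orderOf_mk _ _).trans hz₀
      have := Cfsg.Agent.Helper1.mem_zpowers_of_orderOf_eq_prime hp.out ho1 ho2
      obtain ⟨j, hj⟩ := Subgroup.mem_zpowers_iff.1 this
      have hj' : z₀ ^ j = g * z₀ * g⁻¹ := by
        have := congrArg Subtype.val hj
        simpa using this
      rw [← hj']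
      exact Subgroup.zpow_mem_zpowers z₀ j
    have : g * z₀ ^ k * g⁻¹ = (g * z₀ * g⁻¹) ^ k := by
      rw [conj_zpow]
    rw [this]
    exact Subgroup.zpow_mem _ hconj k
  obtain ⟨C, hCdef⟩ : ∃ C : Subgroup K, C = Subgroup.centralizer (Z₁ : Set K) := ⟨_, rfl⟩
  haveI hCn : C.Normal := by rw [hCdef]; infer_instance
  have hPC : (P : Subgroup K) ≤ C := by
    rw [hCdef]
    intro y hy
    rw [Subgroup.mem_centralizer_iff]
    intro z hz
    exact mul_comm_of_isCyclic_subgroup _ hcyc (hZ₁P hz) hy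
  have hB : ∀ n ∈ C, n ∈ Subgroup.normalizer ((P : Subgroup K) : Set K) →
      n ∈ Subgroup.centralizer ((P : Subgroup K) : Set K) := by
    intro n hnC hnN
    exact mem_centralizer_of_mem_normalizer_cyclic_sylow P hcyc n hnN
      (Or.inr ⟨Z₁, hZ₁P, hZ₁ne, hCdef ▸ hnC⟩)
  obtain ⟨L, hLn, hLC, hLcop, hLrel⟩ := exists_normal_compl_of_normal_burnside P C hPC hB
  have hLbot : L = ⊥ := by
    rw [eq_bot_iff, ← hO]
    exact le_sSup ⟨hLn, hLcop⟩
  rw [hLbot, Subgroup.relIndex_bot_left] at hLrel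
  have hPeqC : (P : Subgroup K) = C := Subgroup.eq_of_le_of_card_ge hPC (le_of_eq hLrel)
  have hPn : (P : Subgroup K).Normal := by rw [hPeqC]; exact hCn
  have hcent : Subgroup.centralizer ((P : Subgroup K) : Set K) = (P : Subgroup K) := by
    apply le_antisymm
    · have h1 : Subgroup.centralizer ((P : Subgroup K) : Set K) ≤
          Subgroup.centralizer (Z₁ : Set K) :=
        Subgroup.centralizer_le (by exact_mod_cast hZ₁P)
      rw [← hCdef, ← hPeqC] at h1
      exact h1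
    · intro y hy
      rw [Subgroup.mem_centralizer_iff]
      intro z hz
      exact mul_comm_of_isCyclic_subgroup _ hcyc hz hy
  -- the automorphism group of Z₁
  have hker : (MulAut.conjNormal (H := Z₁)).ker = (P : Subgroup K) := by
    rw [ker_conjNormal_eq_centralizer, ← hCdef, hPeqC]
  haveI hZ₁cyc : IsCyclic Z₁ := by
    rw [hZ₁def]; infer_instance
  haveI hprime : Fact (Nat.card Z₁).Prime := ⟨hZ₁card ▸ hp.out⟩
  haveI hautcyc : IsCyclic (MulAut Z₁) :=
    isCyclic_of_surjective (IsCyclic.mulAutMulEquiv Z₁).symm (IsCyclic.mulAutMulEquiv Z₁).symm.surjective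
  have hautcard : Nat.card (MulAut Z₁) = p - 1 := by
    rw [IsCyclic.card_mulAut, hZ₁card, Nat.totient_prime hp.out]
  refine ⟨hPn, hcent, ?_, ?_⟩
  · intro hPn'
    have hinj : Function.Injective (QuotientGroup.kerLift (MulAut.conjNormal (H := Z₁))) :=
      QuotientGroup.kerLift_injective _
    haveI : IsCyclic (K ⧸ (MulAut.conjNormal (H := Z₁)).ker) := isCyclic_of_injective _ hinj
    let e : K ⧸ (P : Subgroup K) ≃* K ⧸ (MulAut.conjNormal (H := Z₁)).ker :=
      QuotientGroup.quotientMulEquivOfEq hker.symm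
    exact isCyclic_of_injective e.toMonoidHom e.injective
  · rw [← hker, Subgroup.index_ker, ← hautcard]
    exact Subgroup.card_subgroup_dvd_card _

end Cfsg.Agent.Helper4
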