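import Mathlib
import Cfsg.Agent.Helper4.CyclicSylowF
import Cfsg.Agent.Helper4.MinNormalPower
import Cfsg.Agent.Helper4.FittingChar
import Cfsg.Agent.Helper2.Layer
import Cfsg.Agent.Helper2.Quasisimple

set_option autoImplicit false

namespace Cfsg.Agent.Helper4

variable {K : Type*} [Group K]

/-- a normal subgroup of order prime to `p` is trivial when `O_{p'}(K) = 1` -/
theorem eq_bot_of_normal_coprime {p : ℕ} (hO : Cfsg.pPrimeCore p K = ⊥) (N : Subgroup K)
    (hN : N.Normal) (hcop : (Nat.card N).Coprime p) : N = ⊥ := by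
  rw [eq_bot_iff, ← hO]
  exact le_sSup ⟨hN, hcop⟩

/-- a minimal normal subgroup of a group with cyclic Sylow `p`-subgroups, `O_{p'} = 1` and no
normal `p`-subgroup is nonabelian simple -/
theorem minNormal_simple_of_cyclic_sylow [Finite K] {p : ℕ} [hp : Fact p.Prime] (P : Sylow p K)
    (hcyc : IsCyclic (P : Subgroup K)) (hO : Cfsg.pPrimeCore p K = ⊥)
    (hnoP : ∀ Z : Subgroup K, Z.Normal → IsPGroup p Z → Z = ⊥)
    (N : Subgroup K) (hN : IsMinNormal N) :
    IsSimpleGroup N ∧ ¬ IsMulCommutative N ∧ p ∣ Nat.card N := by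
  obtain ⟨hNn, hN1, hmin⟩ := hN
  haveI := hNn
  have hpN : p ∣ Nat.card N := by
    by_contra h
    exact hN1 (eq_bot_of_normal_coprime hO N hNn
      ((Nat.Prime.coprime_iff_not_dvd hp.out).2 h).symm)
  obtain ⟨T, hTg, m, hTs, hm, ⟨e⟩⟩ := minNormal_mulEquiv_pi_simple N hN1 hmin
  haveI : Finite T := by
    have : Finite (Fin m → T) := Finite.of_equiv N e.toEquiv
    exact Finite.of_injective (fun t : T => (fun _ : Fin m => t))
      (fun a b h => congrFun h ⟨0, hm⟩)
  have hcardN : Nat.card N = Nat.card T ^ m := by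
    rw [Nat.card_congr e.toEquiv, Nat.card_fun, Nat.card_eq_fintype_card (α := Fin m),
      Fintype.card_fin]
  have hpT : p ∣ Nat.card T := by
    rw [hcardN] at hpN
    exact hp.out.dvd_of_dvd_pow hpN
  -- T is nonabelian
  have hTna : ¬ ∀ a b : T, a * b = b * a := by
    intro hcomm
    letI : CommGroup T := { hTg with mul_comm := hcomm }
    have hprime : (Nat.card T).Prime := IsSimpleGroup.prime_card
    have hTp : Nat.card T = p := ((Nat.prime_dvd_prime_iff_eq hp.out hprime).1 hpT).symm
    have hNp : IsPGroup p N := IsPGroup.of_card (n := m) (by rw [hcardN, hTp])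
    exact hN1 (hnoP N hNn hNp)
  -- m = 1
  have hm1 : m = 1 := by
    by_contra hne
    have hm2 : 2 ≤ m := by omega
    obtain ⟨t, ht⟩ := exists_prime_orderOf_dvd_card' p hpT
    let i₀ : Fin m := ⟨0, by omega⟩
    let i₁ : Fin m := ⟨1, by omega⟩
    have hi : i₀ ≠ i₁ := by
      intro h
      have := congrArg Fin.val h
      simp [i₀, i₁] at this
    obtain ⟨a, hadef⟩ : ∃ a : N, a = e.symm (Pi.mulSingle i₀ t) := ⟨_, rfl⟩
    obtain ⟨b, hbdef⟩ : ∃ b : N, b = e.symm (Pi.mulSingle i₁ t) := ⟨_, rfl⟩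
    have hea : e a = Pi.mulSingle i₀ t := by rw [hadef, MulEquiv.apply_symm_apply]
    have heb : e b = Pi.mulSingle i₁ t := by rw [hbdef, MulEquiv.apply_symm_apply]
    have hoa : orderOf (a : K) = p := by
      rw [Subgroup.orderOf_coe, ← e.orderOf_eq, hea]
      rw [← ht]
      exact orderOf_injective (MonoidHom.mulSingle (fun _ : Fin m => T) i₀)
        (Pi.mulSingle_injective (M := fun _ : Fin m => T) i₀) t
    have hob : orderOf (b : K) = p := by
      rw [Subgroup.orderOf_coe, ← e.orderOf_eq, heb]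
      rw [← ht]
      exact orderOf_injective (MonoidHom.mulSingle (fun _ : Fin m => T) i₁)
        (Pi.mulSingle_injective (M := fun _ : Fin m => T) i₁) t
    have hab : a * b = b * a := by
      apply e.injective
      rw [map_mul, map_mul, hea, heb]
      exact (Pi.mulSingle_commute (f := fun _ : Fin m => T) hi t t).eq
    apply not_dvd_of_commuting_disjoint P hcyc (Subgroup.zpowers (a : K))
      (Subgroup.zpowers (b : K))
    · intro x hx y hy
      obtain ⟨j, rfl⟩ := Subgroup.mem_zpowers_iff.1 hx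
      obtain ⟨k, rfl⟩ := Subgroup.mem_zpowers_iff.1 hy
      have hc : Commute (a : K) (b : K) := congrArg Subtype.val hab
      exact ((hc.zpow_left j).zpow_right k).eq
    · rw [eq_bot_iff]
      rintro x ⟨hx, hy⟩
      obtain ⟨j, hj⟩ := Subgroup.mem_zpowers_iff.1 hx
      obtain ⟨k, hk⟩ := Subgroup.mem_zpowers_iff.1 hy
      have h1 : a ^ j = b ^ k := by
        apply Subtype.ext
        rw [Subgroup.coe_zpow, Subgroup.coe_zpow, hj, hk]
      have h2 : e (a ^ j) = e (b ^ k) := by rw [h1]
      rw [map_zpow, map_zpow, hea, heb] at h2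
      have h3 := congrFun h2 i₀
      rw [Pi.pow_apply, Pi.pow_apply, Pi.mulSingle_eq_same, Pi.mulSingle_eq_of_ne hi, one_zpow] at h3
      have h4 : e (a ^ j) = 1 := by
        rw [map_zpow, hea]
        funext i
        by_cases hii : i = i₀
        · rw [hii, Pi.pow_apply, Pi.mulSingle_eq_same, h3]; rfl
        · rw [Pi.pow_apply, Pi.mulSingle_eq_of_ne hii, one_zpow]; rfl
      have h5 : a ^ j = 1 := e.injective (by rw [h4, map_one])
      rw [Subgroup.mem_bot, ← hj]
      have := congrArg Subtype.val h5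
      simpa using this
    · rw [Nat.card_zpowers, hoa]
    · rw [Nat.card_zpowers, hob]
  subst hm1
  have e' : N ≃* T := e.trans (MulEquiv.funUnique (Fin 1) T)
  haveI := hTs
  refine ⟨e'.isSimpleGroup, ?_, hpN⟩
  intro hcomm
  apply hTna
  intro x y
  have := hcomm.is_comm.comm (e'.symm x) (e'.symm y)
  have h2 := congrArg e' this
  rwa [map_mul, map_mul, MulEquiv.apply_symm_apply, MulEquiv.apply_symm_apply] at h2

end Cfsg.Agent.Helper4
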