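import Mathlib
import Cfsg.Agent.Helper4.CyclicSylowG
import Cfsg.Agent.Helper4.PCore

set_option autoImplicit false

namespace Cfsg.Agent.Helper4

variable {K : Type*} [Group K]

/-- a nonabelian simple normal subgroup meets its centralizer trivially -/
theorem inf_centralizer_eq_bot_of_simple (N : Subgroup K) [hNn : N.Normal] (hNs : IsSimpleGroup N)
    (hNna : ¬ IsMulCommutative N) : N ⊓ Subgroup.centralizer (N : Set K) = ⊥ := by
  have hCn : (Subgroup.centralizer (N : Set K)).Normal := Subgroup.normal_centralizer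
  have hIn : (N ⊓ Subgroup.centralizer (N : Set K)).Normal := inferInstance
  have hsub : ((N ⊓ Subgroup.centralizer (N : Set K)).subgroupOf N).Normal := inferInstance
  rcases hsub.eq_bot_or_eq_top with h | h
  · rw [Subgroup.subgroupOf_eq_bot] at h
    exact h.eq_bot_of_le inf_le_left |> fun h' => by simpa using h'
  · exfalso
    rw [Subgroup.subgroupOf_eq_top] at h
    apply hNna
    refine ⟨⟨fun a b => ?_⟩⟩
    have hb : (b : K) ∈ Subgroup.centralizer (N : Set K) := (h b.2).2
    have := Subgroup.mem_centralizer_iff.1 hb a a.2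
    exact Subtype.ext this

/-- the centralizer of a nonabelian simple normal subgroup of order divisible by `p` is trivial
when the Sylow `p`-subgroups are cyclic and `O_{p'} = 1` -/
theorem centralizer_eq_bot_of_simple_normal [Finite K] {p : ℕ} [hp : Fact p.Prime] (P : Sylow p K)
    (hcyc : IsCyclic (P : Subgroup K)) (hO : Cfsg.pPrimeCore p K = ⊥)
    (N : Subgroup K) [hNn : N.Normal] (hNs : IsSimpleGroup N) (hNna : ¬ IsMulCommutative N)
    (hpN : p ∣ Nat.card N) : Subgroup.centralizer (N : Set K) = ⊥ := by
  by_contra hne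
  have hCn : (Subgroup.centralizer (N : Set K)).Normal := Subgroup.normal_centralizer
  have hpC : p ∣ Nat.card (Subgroup.centralizer (N : Set K)) := by
    by_contra h
    exact hne (eq_bot_of_normal_coprime hO _ hCn
      ((Nat.Prime.coprime_iff_not_dvd hp.out).2 h).symm)
  exact not_dvd_of_commuting_disjoint P hcyc N (Subgroup.centralizer (N : Set K))
    (fun a ha b hb => Subgroup.mem_centralizer_iff.1 hb a ha)
    (inf_centralizer_eq_bot_of_simple N hNs hNna) hpN hpC

/-- the Fitting subgroup is trivial when `O_{p'} = 1` and there is no normal `p`-subgroup -/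
theorem fittingSubgroup_eq_bot_of_no_normal_pgroup [Finite K] {p : ℕ} [hp : Fact p.Prime]
    (hO : Cfsg.pPrimeCore p K = ⊥)
    (hnoP : ∀ Z : Subgroup K, Z.Normal → IsPGroup p Z → Z = ⊥) :
    Cfsg.fittingSubgroup K = ⊥ := by
  have hcore : ∀ q : ℕ, q.Prime → Cfsg.pCore q K = ⊥ := by
    intro q hq
    haveI : Fact q.Prime := ⟨hq⟩
    by_cases hqp : q = p
    · subst hqp
      exact hnoP _ pCore_normal pCore_isPGroup
    · apply eq_bot_of_normal_coprime hO _ pCore_normal
      obtain ⟨n, hn⟩ := (IsPGroup.iff_card.1 (pCore_isPGroup (G := K) (p := q)))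
      rw [hn]
      apply Nat.Coprime.pow_left
      exact (Nat.coprime_primes hq hp.out).2 hqp
  rw [eq_bot_iff]
  intro x hx
  apply mem_of_forall_prime_exists_pow_mem ⊥ x (orderOf_pos x)
  intro q hq
  obtain ⟨m, hm, hxm⟩ := fitting_exists_pow_mem_pCore hx q hq
  rw [hcore q hq] at hxm
  exact ⟨m, hm, hxm⟩

/-- a nonabelian simple normal subgroup is a component -/
theorem isComponent_of_simple_normal (N : Subgroup K) [hNn : N.Normal] (hNs : IsSimpleGroup N)
    (hNna : ¬ IsMulCommutative N) : Cfsg.IsComponent N := by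
  refine ⟨hNn.isSubnormal, ⟨Cfsg.Agent.Helper2.commutator_eq_top_of_simple_nonabelian hNs hNna⟩, ?_⟩
  have hcen : Subgroup.center N = ⊥ := by
    rcases (inferInstance : (Subgroup.center N).Normal).eq_bot_or_eq_top with h | h
    · exact h
    · exfalso
      apply hNna
      refine ⟨⟨fun a b => ?_⟩⟩
      have hb : b ∈ Subgroup.center N := by rw [h]; exact Subgroup.mem_top b
      exact (Subgroup.mem_center_iff.1 hb a)
  have e : N ⧸ Subgroup.center N ≃* N :=
    (QuotientGroup.quotientMulEquivOfEq hcen).trans QuotientGroup.quotientBot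
  haveI := hNs
  exact e.isSimpleGroup

/-- Case B: the generalized Fitting subgroup is the minimal normal subgroup -/
theorem generalizedFittingSubgroup_eq_of_caseB [Finite K] {p : ℕ} [hp : Fact p.Prime]
    (P : Sylow p K) (hcyc : IsCyclic (P : Subgroup K)) (hO : Cfsg.pPrimeCore p K = ⊥)
    (hnoP : ∀ Z : Subgroup K, Z.Normal → IsPGroup p Z → Z = ⊥)
    (N : Subgroup K) [hNn : N.Normal] (hNs : IsSimpleGroup N) (hNna : ¬ IsMulCommutative N)
    (hpN : p ∣ Nat.card N) : Cfsg.generalizedFittingSubgroup K = N := by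
  have hC := centralizer_eq_bot_of_simple_normal P hcyc hO N hNs hNna hpN
  have hF := fittingSubgroup_eq_bot_of_no_normal_pgroup hO hnoP
  have hNc := isComponent_of_simple_normal N hNs hNna
  have hL : Cfsg.layer K = N := by
    apply le_antisymm
    · apply sSup_le
      intro L hL
      by_cases hLN : L = N
      · exact hLN.le
      · exfalso
        have h1 : ⁅L, N⁆ = ⊥ := Cfsg.Agent.Helper2.components_commute hL hNc hLN
        rw [Subgroup.commutator_eq_bot_iff_le_centralizer, hC] at h1
        exact Cfsg.Agent.Helper2.component_ne_bot hL (le_bot_iff.1 h1)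
    · exact Cfsg.Agent.Helper2.component_le_layer hNc
  unfold Cfsg.generalizedFittingSubgroup
  rw [hL, hF, sup_bot_eq]

/-- Case B: `p` does not divide the index of the simple normal subgroup -/
theorem not_dvd_index_of_caseB [Finite K] {p : ℕ} [hp : Fact p.Prime]
    (P : Sylow p K) (hcyc : IsCyclic (P : Subgroup K))
    (hnoP : ∀ Z : Subgroup K, Z.Normal → IsPGroup p Z → Z = ⊥)
    (N : Subgroup K) [hNn : N.Normal] (hNs : IsSimpleGroup N)
    (hpN : p ∣ Nat.card N) : ¬ p ∣ N.index := by
  intro hdvd
  have hPN : ¬ (P : Subgroup K) ≤ N := by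
    intro hle
    exact P.not_dvd_index (hdvd.trans (Subgroup.index_dvd_of_le hle))
  obtain ⟨P', M, hMn, hMc⟩ := hasNormalPComplement_of_cyclic_sylow_normal P hcyc N hPN
  rcases hMn.eq_bot_or_eq_top with h | h
  · rw [h, Subgroup.isComplement'_bot_left] at hMc
    have hNp : IsPGroup p N := by
      have h1 : IsPGroup p (P' : Subgroup N) := P'.isPGroup'
      rw [hMc] at h1
      exact h1.of_equiv Subgroup.topEquiv
    have hN1 := hnoP N hNn hNp
    haveI := hNs
    have : Nontrivial N := IsSimpleGroup.toNontrivial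
    rw [hN1] at this
    exact not_nontrivial _ this
  · rw [h, Subgroup.isComplement'_top_left] at hMc
    exact P'.ne_bot_of_dvd_card hpN hMc

end Cfsg.Agent.Helper4
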