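import Mathlib

set_option autoImplicit false

namespace Cfsg.Agent.Helper4

variable {H : Type*} [Group H]

/-- Elements outside `A` invert `A` elementwise. -/
theorem dgroup_inverts (A : Subgroup H) (hD : ∀ x : H, x ∉ A → x ^ 2 = 1)
    {x : H} (hx : x ∉ A) {a : H} (ha : a ∈ A) : x * a * x⁻¹ = a⁻¹ := by
  have hxa : x * a ∉ A := fun h => hx (by simpa using A.mul_mem h (A.inv_mem ha))
  have h1 := hD _ hxa
  have h2 := hD _ hx
  have hxinv : x⁻¹ = x := by
    rw [inv_eq_iff_mul_eq_one, ← sq]; exact h2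
  rw [hxinv, eq_inv_iff_mul_eq_one]
  rw [sq] at h1
  calc x * a * x * a = (x * a) * (x * a) := by group
    _ = 1 := h1

theorem dgroup_sq_of_forall_sq (A : Subgroup H) (hD : ∀ x : H, x ∉ A → x ^ 2 = 1)
    (hA2 : ∀ a ∈ A, a ^ 2 = 1) : ∀ x : H, x ^ 2 = 1 := by
  intro x
  by_cases hx : x ∈ A
  · exact hA2 x hx
  · exact hD x hx

theorem comm_of_forall_sq (h2 : ∀ x : H, x ^ 2 = 1) : ∀ a b : H, a * b = b * a := by
  intro a b
  have ha := h2 a
  have hb := h2 b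
  have hab := h2 (a * b)
  rw [sq] at ha hb hab
  calc a * b = a * (a * b * (a * b)) * b := by rw [hab, mul_one]
    _ = (a * a) * b * a * (b * b) := by group
    _ = b * a := by rw [ha, hb, one_mul, mul_one]

theorem dgroup_abelian (A : Subgroup H) (hA : A ≠ ⊤) (hD : ∀ x : H, x ∉ A → x ^ 2 = 1) :
    ∀ a ∈ A, ∀ b ∈ A, a * b = b * a := by
  intro a ha b hb
  obtain ⟨x, hx⟩ : ∃ x : H, x ∉ A := by
    by_contra h
    push Not at h
    exact hA (eq_top_iff.mpr fun y _ => h y)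
  have h1 := dgroup_inverts A hD hx (A.mul_mem ha hb)
  have h2 := dgroup_inverts A hD hx ha
  have h3 := dgroup_inverts A hD hx hb
  have h4 : x * (a * b) * x⁻¹ = (x * a * x⁻¹) * (x * b * x⁻¹) := by group
  rw [h4, h2, h3, mul_inv_rev] at h1
  have := congrArg Inv.inv h1
  have h5 : b * a = a * b := by simpa using this
  exact h5.symm

theorem dgroup_normal (A : Subgroup H) (hD : ∀ x : H, x ∉ A → x ^ 2 = 1) : A.Normal := by
  constructor
  intro a ha g
  by_cases hg : g ∈ A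
  · exact A.mul_mem (A.mul_mem hg ha) (A.inv_mem hg)
  · rw [dgroup_inverts A hD hg ha]; exact A.inv_mem ha

theorem dgroup_mul_mem (A : Subgroup H) (hD : ∀ x : H, x ∉ A → x ^ 2 = 1)
    {a₀ : H} (ha₀ : a₀ ∈ A) (ha₀2 : a₀ ^ 2 ≠ 1) {x y : H} (hx : x ∉ A) (hy : y ∉ A) :
    x * y ∈ A := by
  by_contra hxy
  have h1 := dgroup_inverts A hD hxy ha₀
  have h2 := dgroup_inverts A hD hx (A.inv_mem ha₀)
  have h3 := dgroup_inverts A hD hy ha₀
  have h4 : x * y * a₀ * (x * y)⁻¹ = x * (y * a₀ * y⁻¹) * x⁻¹ := by group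
  rw [h4, h3, h2, inv_inv] at h1
  apply ha₀2
  rw [sq]
  calc a₀ * a₀ = a₀ * a₀⁻¹ := by rw [← h1]
    _ = 1 := mul_inv_cancel _

theorem dgroup_index_two (A : Subgroup H) (hA : A ≠ ⊤) (hD : ∀ x : H, x ∉ A → x ^ 2 = 1)
    {a₀ : H} (ha₀ : a₀ ∈ A) (ha₀2 : a₀ ^ 2 ≠ 1) : A.index = 2 := by
  obtain ⟨x, hx⟩ : ∃ x : H, x ∉ A := by
    by_contra h
    push Not at h
    exact hA (eq_top_iff.mpr fun y _ => h y)
  rw [Subgroup.index_eq_two_iff]
  refine ⟨x, fun b => ?_⟩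
  by_cases hb : b ∈ A
  · right
    refine ⟨hb, fun h => hx ?_⟩
    simpa using A.mul_mem (A.inv_mem hb) h
  · left
    exact ⟨dgroup_mul_mem A hD ha₀ ha₀2 hb hx, hb⟩

/-- Uniqueness: two proper subgroups outside which all elements have square one coincide,
unless all elements of the group have square one. -/
theorem dgroup_le (A A' : Subgroup H) (hA : A ≠ ⊤)
    (hD : ∀ x : H, x ∉ A → x ^ 2 = 1) (hD' : ∀ x : H, x ∉ A' → x ^ 2 = 1)
    (hne : ¬ ∀ x : H, x ^ 2 = 1) : A ≤ A' := by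
  intro x hxA
  by_contra hxA'
  apply hne
  apply dgroup_sq_of_forall_sq A' hD'
  intro a ha
  by_cases haA : a ∈ A
  · have h1 := dgroup_inverts A' hD' hxA' ha
    have h2 := dgroup_abelian A hA hD x hxA a haA
    rw [h2, mul_inv_cancel_right] at h1
    rw [sq]
    calc a * a = a * a⁻¹ := by rw [← h1]
      _ = 1 := mul_inv_cancel _
  · exact hD a haA

end Cfsg.Agent.Helper4
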