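import Mathlib

set_option autoImplicit false

namespace Cfsg.Agent.Helper4

open Matrix

variable {n : ℕ} {F : Type*} [CommRing F]

/-- indicator of `σ a = i` (with `i : Fin n` embedded in `Fin (n+1)`). -/
def dInd (F : Type*) [CommRing F] (σ : Equiv.Perm (Fin (n + 1))) (a : Fin (n + 1)) (i : Fin n) : F :=
  if σ a = i.castSucc then 1 else 0

/-- The matrix of `σ` on the deleted permutation module, in the basis `e_j - e_last`. -/
def delPermMat (F : Type*) [CommRing F] (σ : Equiv.Perm (Fin (n + 1))) : Matrix (Fin n) (Fin n) F :=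
  fun i j => dInd F σ j.castSucc i - dInd F σ (Fin.last n) i

theorem sum_dInd_mul (σ τ : Equiv.Perm (Fin (n + 1))) (b : Fin (n + 1)) (i : Fin n) :
    ∑ j : Fin n, dInd F σ j.castSucc i * dInd F τ b j =
      dInd F σ (τ b) i - dInd F σ (Fin.last n) i * (if τ b = Fin.last n then 1 else 0) := by
  have full : ∑ a : Fin (n + 1), dInd F σ a i * (if τ b = a then (1 : F) else 0) =
      dInd F σ (τ b) i := by
    simp
  rw [Fin.sum_univ_castSucc] at full
  exact eq_sub_of_add_eq full

theorem sum_dInd (τ : Equiv.Perm (Fin (n + 1))) (b : Fin (n + 1)) :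
    ∑ j : Fin n, dInd F τ b j = 1 - (if τ b = Fin.last n then 1 else 0) := by
  have full : ∑ a : Fin (n + 1), (if τ b = a then (1 : F) else 0) = 1 := by
    simp
  rw [Fin.sum_univ_castSucc] at full
  exact eq_sub_of_add_eq full

theorem delPermMat_mul (σ τ : Equiv.Perm (Fin (n + 1))) :
    delPermMat F (σ * τ) = delPermMat F σ * delPermMat F τ := by
  ext i k
  rw [Matrix.mul_apply]
  simp only [delPermMat]
  have hexp : ∀ j : Fin n, (dInd F σ j.castSucc i - dInd F σ (Fin.last n) i) *
      (dInd F τ k.castSucc j - dInd F τ (Fin.last n) j) =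
      dInd F σ j.castSucc i * dInd F τ k.castSucc j - dInd F σ j.castSucc i * dInd F τ (Fin.last n) j
      - dInd F σ (Fin.last n) i * dInd F τ k.castSucc j
      + dInd F σ (Fin.last n) i * dInd F τ (Fin.last n) j := by
    intro j; ring
  simp only [hexp, Finset.sum_add_distrib, Finset.sum_sub_distrib, ← Finset.mul_sum, sum_dInd_mul,
    sum_dInd]
  have h1 : ∀ a, dInd F (σ * τ) a i = dInd F σ (τ a) i := fun a => rfl
  rw [h1, h1]
  ring

theorem delPermMat_one : delPermMat F (1 : Equiv.Perm (Fin (n + 1))) = 1 := by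
  ext i j
  change (if (1 : Equiv.Perm (Fin (n + 1))) j.castSucc = i.castSucc then (1 : F) else 0) -
    (if (1 : Equiv.Perm (Fin (n + 1))) (Fin.last n) = i.castSucc then (1 : F) else 0) =
    (1 : Matrix (Fin n) (Fin n) F) i j
  rw [Equiv.Perm.one_apply, Equiv.Perm.one_apply, Matrix.one_apply]
  have h1 : ¬ (Fin.last n = i.castSucc) := (Fin.castSucc_lt_last i).ne'
  rw [if_neg h1, sub_zero]
  by_cases hij : i = j
  · subst hij; simp
  · have : ¬ (j.castSucc = i.castSucc) := fun h => hij (Fin.castSucc_injective n h).symm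
    rw [if_neg this, if_neg hij]

/-- The deleted permutation representation as a monoid hom into matrices. -/
def delPermHom (n : ℕ) (F : Type*) [CommRing F] :
    Equiv.Perm (Fin (n + 1)) →* Matrix (Fin n) (Fin n) F where
  toFun := delPermMat F
  map_one' := delPermMat_one
  map_mul' := delPermMat_mul

end Cfsg.Agent.Helper4
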