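import Mathlib

set_option autoImplicit false

namespace Cfsg.Agent.Helper4.DerangeInv

open Finset

variable {G Ω : Type*} [Group G] [Fintype G] [MulAction G Ω] [Fintype Ω] [DecidableEq Ω]

omit [Fintype Ω] in
/-- the elements swapping `ω, β` are at most as many as those fixing both -/
theorem card_swap_le_card_fix (ω β : Ω) :
    (univ.filter (fun g : G => g • ω = β ∧ g • β = ω)).card ≤
      (univ.filter (fun g : G => g • ω = ω ∧ g • β = β)).card := by
  by_cases h : (univ.filter (fun g : G => g • ω = β ∧ g • β = ω)).Nonempty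
  · obtain ⟨g₀, hg₀⟩ := h
    simp only [mem_filter, mem_univ, true_and] at hg₀
    apply Finset.card_le_card_of_injOn (fun g => g₀⁻¹ * g)
    · intro g hg
      simp only [coe_filter, mem_univ, true_and, Set.mem_ofPred_eq] at hg ⊢
      constructor
      · rw [mul_smul, hg.1, inv_smul_eq_iff]; exact hg₀.1.symm
      · rw [mul_smul, hg.2, inv_smul_eq_iff]; exact hg₀.2.symm
    · intro a _ b _ hab
      exact mul_left_cancel hab
  · rw [Finset.not_nonempty_iff_eq_empty] at h
    rw [h]; simp

/-- `∑ π(g²) ≤ ∑ π(g)²` -/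
theorem sum_fix_sq_le :
    ∑ g : G, (univ.filter (fun ω : Ω => (g * g) • ω = ω)).card ≤
      ∑ g : G, (univ.filter (fun ω : Ω => g • ω = ω)).card ^ 2 := by
  have h3 : ∀ g : G, (univ.filter (fun ω : Ω => (g * g) • ω = ω)).card =
      ∑ ω : Ω, ∑ β : Ω, if g • ω = β ∧ g • β = ω then 1 else 0 := by
    intro g
    rw [Finset.card_filter]
    refine Finset.sum_congr rfl (fun ω _ => ?_)
    rw [Finset.sum_eq_single (g • ω)]
    · simp [mul_smul]
    · intro β _ hβ
      rw [if_neg]
      intro h
      exact hβ h.1.symm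
    · intro h
      exact absurd (mem_univ _) h
  have h2 : ∀ g : G, (univ.filter (fun ω : Ω => g • ω = ω)).card ^ 2 =
      ∑ ω : Ω, ∑ β : Ω, if g • ω = ω ∧ g • β = β then 1 else 0 := by
    intro g
    rw [sq, Finset.card_filter, Finset.sum_mul_sum]
    refine Finset.sum_congr rfl (fun ω _ => Finset.sum_congr rfl (fun β _ => ?_))
    by_cases h1 : g • ω = ω <;> by_cases h2 : g • β = β <;> simp [h1, h2]
  simp_rw [h3, h2]
  rw [Finset.sum_comm]
  rw [Finset.sum_comm (s := (univ : Finset G))]
  refine Finset.sum_le_sum (fun ω _ => ?_)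
  rw [Finset.sum_comm]
  rw [Finset.sum_comm (s := (univ : Finset G))]
  refine Finset.sum_le_sum (fun β _ => ?_)
  rw [← Finset.card_filter, ← Finset.card_filter]
  exact card_swap_le_card_fix ω β

end Cfsg.Agent.Helper4.DerangeInv
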