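import Mathlib
import Cfsg.Agent.Helper4.Burnside
import Cfsg.Agent.Helper4.DerangeInvA

set_option autoImplicit false

namespace Cfsg.Agent.Helper4.DerangeInv

open Finset

/-- If all derangements of a transitive faithful action square to the identity, then every
non-identity element has at most one fixed point. -/
theorem fixed_le_one {G Ω : Type*} [Group G] [Fintype G] [MulAction G Ω] [Fintype Ω]
    [DecidableEq Ω] [FaithfulSMul G Ω] [MulAction.IsPretransitive G Ω] [Nonempty Ω]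
    (hinv : ∀ g : G, (∀ ω : Ω, g • ω ≠ ω) → g * g = 1) (g : G) (hg : g ≠ 1) (ω β : Ω)
    (hω : g • ω = ω) (hβ : g • β = β) : ω = β := by
  classical
  obtain ⟨π, hπ⟩ : ∃ π : G → ℕ, ∀ g, π g = (univ.filter (fun ω : Ω => g • ω = ω)).card :=
    ⟨_, fun _ => rfl⟩
  obtain ⟨n, hn⟩ : ∃ n : ℕ, n = Fintype.card Ω := ⟨_, rfl⟩
  have hS1 : ∑ g : G, π g = Fintype.card G := by
    have h := Cfsg.Agent.Helper4.burnside_transitive (G := G) (X := Ω)
    rw [Nat.card_eq_fintype_card] at h
    rw [← h]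
    refine Finset.sum_congr rfl (fun g _ => ?_)
    rw [hπ, Nat.card_coe_set_eq, Set.ncard_eq_toFinset_card']
    congr 1
    ext ω
    simp [MulAction.mem_fixedBy]
  have hS3 : ∑ g : G, π (g * g) ≤ ∑ g : G, π g ^ 2 := by
    simp_rw [hπ]
    exact sum_fix_sq_le
  have hπn : ∀ g, π g ≤ n := by
    intro g
    rw [hπ, hn]
    exact Finset.card_le_univ _
  have hπ1 : π 1 = n := by
    rw [hπ, hn]
    simp
  have hD : ∀ g : G, (∀ ω : Ω, g • ω ≠ ω) → π g = 0 ∧ π (g * g) = n := by
    intro g hgd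
    constructor
    · rw [hπ, Finset.card_eq_zero, Finset.filter_eq_empty_iff]
      intro ω _
      exact hgd ω
    · rw [hinv g hgd, hπ1]
  have hnD : ∀ g : G, ¬ (∀ ω : Ω, g • ω ≠ ω) → 1 ≤ π g ∧ π g ≤ π (g * g) := by
    intro g hgd
    push Not at hgd
    obtain ⟨ω₀, hω₀⟩ := hgd
    constructor
    · rw [hπ]
      exact Finset.card_pos.2 ⟨ω₀, by simp [hω₀]⟩
    · rw [hπ, hπ]
      apply Finset.card_le_card
      intro x hx
      simp only [mem_filter, mem_univ, true_and] at hx ⊢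
      rw [mul_smul, hx, hx]
  obtain ⟨v, hv⟩ : ∃ v : G → ℤ, ∀ g, v g =
      ((π g : ℤ) - 1) * ((π g : ℤ) - n) - ((π (g * g) : ℤ) - π g) := ⟨_, fun _ => rfl⟩
  have hv_le : ∀ g, v g ≤ 0 := by
    intro g
    rw [hv]
    by_cases hgd : ∀ ω : Ω, g • ω ≠ ω
    · obtain ⟨h1, h2⟩ := hD g hgd
      rw [h1, h2]
      push_cast
      ring_nf
      exact le_refl _
    · obtain ⟨h1, h2⟩ := hnD g hgd
      have h3 := hπn g
      have h1' : (1 : ℤ) ≤ π g := by exact_mod_cast h1
      have h2' : (π g : ℤ) ≤ π (g * g) := by exact_mod_cast h2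
      have h3' : (π g : ℤ) ≤ n := by exact_mod_cast h3
      nlinarith
  have hv_sum : 0 ≤ ∑ g : G, v g := by
    have h1 : ∀ g, v g = (π g : ℤ) ^ 2 - n * π g + n - π (g * g) := by
      intro g; rw [hv]; ring
    simp_rw [h1]
    rw [Finset.sum_sub_distrib, Finset.sum_add_distrib, Finset.sum_sub_distrib, ← Finset.mul_sum,
      Finset.sum_const, Finset.card_univ]
    have hS1' : ∑ g : G, (π g : ℤ) = Fintype.card G := by exact_mod_cast hS1
    have hS3' : ∑ g : G, (π (g * g) : ℤ) ≤ ∑ g : G, (π g : ℤ) ^ 2 := by exact_mod_cast hS3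
    rw [hS1']
    simp only [nsmul_eq_mul]
    linarith
  have hv0 : ∀ g, v g = 0 := by
    have h1 : ∑ g : G, v g = 0 :=
      le_antisymm (Finset.sum_nonpos (fun g _ => hv_le g)) hv_sum
    intro g
    exact (Finset.sum_eq_zero_iff_of_nonpos (fun g _ => hv_le g)).1 h1 g (mem_univ g)
  -- now analyse `g`
  have hgd : ¬ ∀ ω : Ω, g • ω ≠ ω := fun h => h ω hω
  obtain ⟨h1, h2⟩ := hnD g hgd
  have h3 := hπn g
  have h0 := hv0 g
  rw [hv] at h0
  have h1' : (1 : ℤ) ≤ π g := by exact_mod_cast h1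
  have h2' : (π g : ℤ) ≤ π (g * g) := by exact_mod_cast h2
  have h3' : (π g : ℤ) ≤ n := by exact_mod_cast h3
  have ht : ((π g : ℤ) - 1) * ((π g : ℤ) - n) = 0 := by nlinarith
  rcases mul_eq_zero.1 ht with h | h
  · have hπg : π g = 1 := by
      have : (π g : ℤ) = 1 := by linarith
      exact_mod_cast this
    rw [hπ] at hπg
    have hle := Finset.card_le_one.1 hπg.le
    exact hle ω (by simp [hω]) β (by simp [hβ])
  · exfalso
    apply hg
    have hπg : π g = n := by
      have : (π g : ℤ) = n := by linarith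
      exact_mod_cast this
    rw [hπ, hn] at hπg
    have huniv : univ.filter (fun ω : Ω => g • ω = ω) = univ :=
      Finset.eq_univ_of_card _ hπg
    apply FaithfulSMul.eq_of_smul_eq_smul (α := Ω)
    intro x
    have : x ∈ univ.filter (fun ω : Ω => g • ω = ω) := by rw [huniv]; exact mem_univ x
    rw [one_smul]
    exact (mem_filter.1 this).2

end Cfsg.Agent.Helper4.DerangeInv
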