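import Mathlib
import Cfsg.Prelude.Def_Solvable
import Cfsg.Agent.Helper4.Frobenius
import Cfsg.Agent.Helper4.DerangeInvB

set_option autoImplicit false

namespace Cfsg.Agent.Helper4.DerangeInv

open scoped Pointwise

theorem derangements_involutions {G Ω : Type*} [Group G] [Finite G] [MulAction G Ω]
    [FaithfulSMul G Ω] [Finite Ω]
    (htrans : MulAction.IsPretransitive G Ω)
    (hinv : ∀ g : G, (∀ ω : Ω, g • ω ≠ ω) → orderOf g = 2) :
    (IsMulCommutative G ∧ ∀ g : G, g ^ 2 = 1) ∨
    (∃ H : Subgroup G, Cfsg.IsFrobeniusComplement H ∧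
      (∀ x ∈ Cfsg.frobeniusKernel H, x ^ 2 = 1) ∧
      ∀ x ∈ Cfsg.frobeniusKernel H, ∀ y ∈ Cfsg.frobeniusKernel H, x * y = y * x) := by
  classical
  have hfG : Fintype G := Fintype.ofFinite G
  have hfΩ : Fintype Ω := Fintype.ofFinite Ω
  have hne : Nonempty Ω := by
    by_contra hemp
    rw [not_nonempty_iff] at hemp
    have := hinv 1 (fun ω => (hemp.false ω).elim)
    rw [orderOf_one] at this; omega
  have hinv' : ∀ g : G, (∀ ω : Ω, g • ω ≠ ω) → g * g = 1 := by
    intro g hg
    have h1 := pow_orderOf_eq_one g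
    rw [hinv g hg, sq] at h1
    exact h1
  have hfix : ∀ g : G, g ≠ 1 → ∀ ω β : Ω, g • ω = ω → g • β = β → ω = β :=
    fun g hg ω β => fixed_le_one hinv' g hg ω β
  obtain ⟨α⟩ := hne
  obtain ⟨H, hH⟩ : ∃ H : Subgroup G, H = MulAction.stabilizer G α := ⟨_, rfl⟩
  have hmemH : ∀ g, g ∈ H ↔ g • α = α := by
    intro g; rw [hH]; exact MulAction.mem_stabilizer_iff
  have hconj : ∀ g x : G, x ∈ MulAut.conj g • H ↔ x • (g • α) = g • α := by
    intro g x
    rw [mem_conj_smul_iff, hmemH, mul_smul, mul_smul, inv_smul_eq_iff]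
  have hder : ∀ x : G, (∀ g : G, x ∉ MulAut.conj g • H) → ∀ ω : Ω, x • ω ≠ ω := by
    intro x hx ω hω
    obtain ⟨g, hg⟩ := MulAction.exists_smul_eq G α ω
    apply hx g
    rw [hconj, hg]; exact hω
  by_cases hHbot : H = ⊥
  · left
    have hsq : ∀ g : G, g ^ 2 = 1 := by
      intro g
      by_cases hg1 : g = 1
      · rw [hg1]; simp
      · rw [sq]
        apply hinv'
        intro ω hω
        obtain ⟨k, hk⟩ := MulAction.exists_smul_eq G α ω
        have h1 : g ∈ MulAut.conj k • H := by rw [hconj, hk]; exact hω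
        rw [hHbot, mem_conj_smul_iff, Subgroup.mem_bot] at h1
        apply hg1
        calc g = k * (k⁻¹ * g * k) * k⁻¹ := by group
          _ = 1 := by rw [h1]; group
    have hinvs : ∀ g : G, g⁻¹ = g := fun g => by
      have := hsq g
      rw [sq] at this
      exact inv_eq_of_mul_eq_one_left this
    refine ⟨⟨⟨fun a b => ?_⟩⟩, hsq⟩
    calc a * b = (a * b)⁻¹ := (hinvs _).symm
      _ = b⁻¹ * a⁻¹ := mul_inv_rev a b
      _ = b * a := by rw [hinvs, hinvs]
  · right
    refine ⟨H, ⟨hHbot, ?_, ?_⟩, ?_, ?_⟩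
    · intro htop
      apply hHbot
      rw [eq_bot_iff]
      intro g _
      rw [Subgroup.mem_bot]
      apply FaithfulSMul.eq_of_smul_eq_smul (α := Ω)
      intro ω
      obtain ⟨k, hk⟩ := MulAction.exists_smul_eq G α ω
      have h1 : k⁻¹ * g * k ∈ H := by rw [htop]; trivial
      rw [hmemH] at h1
      rw [one_smul, ← hk]
      calc g • k • α = k • ((k⁻¹ * g * k) • α) := by simp [mul_smul]
        _ = k • α := by rw [h1]
    · intro g hg
      rw [eq_bot_iff]
      intro x hx
      rw [Subgroup.mem_bot]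
      by_contra hx1
      have h1 : x • α = α := (hmemH x).1 hx.1
      have h2 : x • (g • α) = g • α := (hconj g x).1 hx.2
      have h3 := hfix x hx1 α (g • α) h1 h2
      exact hg ((hmemH g).2 h3.symm)
    · intro x hx
      rcases hx with rfl | hx
      · simp
      · rw [sq]; exact hinv' x (hder x hx)
    · intro x hx y hy
      rcases hx with rfl | hx
      · simp
      rcases hy with rfl | hy
      · simp
      by_cases hxy : x = y
      · rw [hxy]
      have hxd := hder x hx
      have hyd := hder y hy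
      have hx2 := hinv' x hxd
      have hy2 := hinv' y hyd
      have hxyd : ∀ ω : Ω, (x * y) • ω ≠ ω := by
        intro ω hω
        have h1 : x • (y • ω) = ω := by rw [← mul_smul]; exact hω
        have h2 : x • ω = y • ω := by
          calc x • ω = x • (x • (y • ω)) := by rw [h1]
            _ = (x * x) • (y • ω) := by rw [mul_smul]
            _ = y • ω := by rw [hx2, one_smul]
        have h3 : (x * y) • (y • ω) = y • ω := by
          rw [mul_smul, ← mul_smul y y, hy2, one_smul]; exact h2
        have hne1 : x * y ≠ 1 := by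
          intro h
          apply hxy
          have h4 : x = y⁻¹ := eq_inv_of_mul_eq_one_left h
          rw [h4]
          exact inv_eq_of_mul_eq_one_left hy2
        exact hyd ω (hfix (x * y) hne1 ω (y • ω) hω h3).symm
      have hxy2 := hinv' (x * y) hxyd
      have hxi : x⁻¹ = x := inv_eq_of_mul_eq_one_left hx2
      have hyi : y⁻¹ = y := inv_eq_of_mul_eq_one_left hy2
      have hxyi : (x * y)⁻¹ = x * y := inv_eq_of_mul_eq_one_left hxy2
      calc x * y = (x * y)⁻¹ := hxyi.symm
        _ = y⁻¹ * x⁻¹ := mul_inv_rev x y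
        _ = y * x := by rw [hxi, hyi]

end Cfsg.Agent.Helper4.DerangeInv
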