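import Mathlib

set_option autoImplicit false

namespace Cfsg.Agent.Helper4

open MulAction

/-- If `x₀` is a fixed point and all other orbits have size divisible by `m`, then
`|X| ≡ 1 mod m`. -/
theorem card_modEq_one_of_dvd_orbits {S X : Type*} [Group S] [MulAction S X] [Finite X] (m : ℕ)
    (x₀ : X) (hfix : ∀ s : S, s • x₀ = x₀)
    (h : ∀ x : X, x ≠ x₀ → m ∣ Nat.card (orbit S x)) :
    Nat.card X ≡ 1 [MOD m] := by
  classical
  have : Fintype (orbitRel.Quotient S X) := Fintype.ofFinite _
  have e := selfEquivSigmaOrbits S X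
  rw [Nat.card_congr e, Nat.card_sigma]
  set q₀ : orbitRel.Quotient S X := Quotient.mk'' x₀ with hq₀
  rw [← Finset.add_sum_erase Finset.univ _ (Finset.mem_univ q₀)]
  have horb : orbit S x₀ = {x₀} := by
    ext y
    simp only [Set.mem_singleton_iff]
    constructor
    · rintro ⟨s, rfl⟩; exact hfix s
    · rintro rfl; exact mem_orbit_self _
  have hout : q₀.out = x₀ := by
    have h1 : (Quotient.mk'' q₀.out : orbitRel.Quotient S X) = Quotient.mk'' x₀ := by
      rw [Quotient.out_eq']
    have h2 : q₀.out ∈ orbit S x₀ := by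
      rw [← orbitRel_apply]
      exact Quotient.exact' h1
    rw [horb] at h2
    exact h2
  have h1 : Nat.card (orbit S q₀.out) = 1 := by
    rw [hout, horb]
    simp
  rw [h1]
  have h2 : m ∣ ∑ q ∈ Finset.univ.erase q₀, Nat.card (orbit S (Quotient.out q)) := by
    apply Finset.dvd_sum
    intro q hq
    apply h
    intro hqx
    apply (Finset.mem_erase.mp hq).1
    rw [hq₀, ← hqx, Quotient.out_eq']
  have h3 := (Nat.modEq_zero_iff_dvd.mpr h2).add_left 1
  simpa using h3

end Cfsg.Agent.Helper4
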