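import Mathlib
import Cfsg.Agent.Helper4.DerangementSubgroup
import Cfsg.Agent.Helper4.OrbitSum

set_option autoImplicit false

namespace Cfsg.Agent.Helper4

open MulAction

theorem derangement_closure_normal {G Ω : Type*} [Group G] [MulAction G Ω] :
    (Subgroup.closure {g : G | ∀ ω : Ω, g • ω ≠ ω}).Normal := by
  constructor
  intro n hn g
  have hle : (Subgroup.closure {g : G | ∀ ω : Ω, g • ω ≠ ω}).map (MulAut.conj g).toMonoidHom ≤
      Subgroup.closure {g : G | ∀ ω : Ω, g • ω ≠ ω} := by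
    rw [MonoidHom.map_closure, Subgroup.closure_le]
    rintro _ ⟨x, hx, rfl⟩
    apply Subgroup.subset_closure
    intro ω h
    apply hx (g⁻¹ • ω)
    have h' : (g * x * g⁻¹) • ω = ω := h
    rw [mul_smul, mul_smul] at h'
    have h'' := congrArg (fun z => g⁻¹ • z) h'
    simp only [inv_smul_smul] at h''
    exact h''
  exact hle ⟨n, hn, rfl⟩

theorem derangement_index {G Ω : Type*} [Group G] [Finite G] [MulAction G Ω] [FaithfulSMul G Ω]
    [Finite Ω] [IsPretransitive G Ω] (hΩ : 2 ≤ Nat.card Ω) (D : Subgroup G) [D.Normal]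
    (hD : ∀ g : G, (∀ ω : Ω, g • ω ≠ ω) → g ∈ D) :
    D.index ∣ Nat.card Ω - 1 ∧ (D.index = Nat.card Ω - 1 → IsPrimePow (Nat.card Ω)) := by
  classical
  obtain ⟨ω⟩ : Nonempty Ω := (Nat.card_pos_iff.mp (by omega)).1
  have hne : Nonempty Ω := ⟨ω⟩
  obtain ⟨hDtrans, hone⟩ := derangement_subgroup_aux D hD
  set S := stabilizer G ω with hS
  have hsup : S ⊔ D = ⊤ := by
    rw [eq_top_iff]
    intro g _
    obtain ⟨d, hd⟩ := hDtrans.exists_smul_eq ω (g • ω)
    have hd' : (d : G) • ω = g • ω := hd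
    have h1 : (d : G)⁻¹ * g ∈ S := by
      rw [hS, mem_stabilizer_iff, mul_smul, ← hd', inv_smul_smul]
    have h2 : g = (d : G) * ((d : G)⁻¹ * g) := by group
    rw [h2]
    exact Subgroup.mul_mem _ (Subgroup.mem_sup_right d.2) (Subgroup.mem_sup_left h1)
  have hrel : D.relIndex S = D.index := by
    rw [← Subgroup.relIndex_sup_right (H := S) (K := D), hsup, Subgroup.relIndex_top_right]
  have htwo : ∀ δ : Ω, δ ≠ ω → ∀ g : G, g • ω = ω → g • δ = δ → g ∈ D := by
    intro δ hδ g h1 h2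
    by_contra hg
    have h3 := hone g hg
    have hsub := (Nat.card_eq_one_iff_unique.mp h3).1
    have h4 := hsub.elim (⟨ω, h1⟩ : fixedBy Ω g) ⟨δ, h2⟩
    exact hδ (congrArg Subtype.val h4).symm
  have hstab_le : ∀ δ : Ω, δ ≠ ω → stabilizer S δ ≤ D.subgroupOf S := by
    intro δ hδ s hs
    rw [Subgroup.mem_subgroupOf]
    exact htwo δ hδ s s.2 hs
  have horb : ∀ δ : Ω, δ ≠ ω →
      Nat.card (orbit S δ) = (stabilizer S δ).relIndex (D.subgroupOf S) * D.index := by
    intro δ hδ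
    have h1 : (stabilizer S δ).index = Nat.card (orbit S δ) := by
      rw [index_stabilizer, Nat.card_coe_set_eq]
    rw [← h1, ← Subgroup.relIndex_mul_index (hstab_le δ hδ), ← hrel]
    rfl
  have hmod : Nat.card Ω ≡ 1 [MOD D.index] := by
    apply card_modEq_one_of_dvd_orbits (S := S) D.index ω
    · intro s; exact s.2
    · intro δ hδ
      rw [horb δ hδ]
      exact dvd_mul_left _ _
  refine ⟨(Nat.modEq_iff_dvd' (by omega)).mp hmod.symm, ?_⟩
  intro heq
  -- orbits of S on the complement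
  have hsubset : ∀ δ : Ω, δ ≠ ω → orbit S δ ⊆ ({ω} : Set Ω)ᶜ := by
    intro δ hδ x hx
    obtain ⟨s, rfl⟩ := hx
    simp only [Set.mem_compl_iff, Set.mem_singleton_iff]
    intro h
    apply hδ
    have h1 : s⁻¹ • (s • δ) = s⁻¹ • ω := by rw [h]
    rw [inv_smul_smul] at h1
    rw [h1]
    exact (s⁻¹).2
  have hcompl : (({ω} : Set Ω)ᶜ).ncard = Nat.card Ω - 1 := by
    rw [Set.ncard_compl, Set.ncard_singleton]
  have hcardle : ∀ δ : Ω, δ ≠ ω → Nat.card (orbit S δ) ≤ Nat.card Ω - 1 := by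
    intro δ hδ
    rw [Nat.card_coe_set_eq, ← hcompl]
    exact Set.ncard_le_ncard (hsubset δ hδ)
  have hrel1 : ∀ δ : Ω, δ ≠ ω → (stabilizer S δ).relIndex (D.subgroupOf S) = 1 := by
    intro δ hδ
    have h1 := horb δ hδ
    have h2 := hcardle δ hδ
    have h3 : 0 < Nat.card (orbit S δ) := by
      have : Nonempty (orbit S δ) := ⟨⟨δ, mem_orbit_self δ⟩⟩
      exact Nat.card_pos
    rw [heq] at h1
    set r := (stabilizer S δ).relIndex (D.subgroupOf S) with hr
    rcases Nat.lt_or_ge r 1 with h0 | h1'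
    · have : r = 0 := by omega
      rw [this, zero_mul] at h1; omega
    · rcases Nat.lt_or_ge r 2 with h2' | h2'
      · omega
      · exfalso
        have : 2 * (Nat.card Ω - 1) ≤ r * (Nat.card Ω - 1) := Nat.mul_le_mul_right _ h2'
        omega
  have horbeq : ∀ δ : Ω, δ ≠ ω → orbit S δ = ({ω} : Set Ω)ᶜ := by
    intro δ hδ
    apply Set.eq_of_subset_of_ncard_le (hsubset δ hδ)
    rw [hcompl, ← Nat.card_coe_set_eq, horb δ hδ, hrel1 δ hδ, one_mul, heq]
  -- D_ω is trivial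
  have hDω : ∀ g : G, g ∈ D → g • ω = ω → g = 1 := by
    intro g hg hgω
    apply FaithfulSMul.eq_of_smul_eq_smul (α := Ω)
    intro δ
    rw [one_smul]
    by_cases hδ : δ = ω
    · rw [hδ]; exact hgω
    · have h1 := Subgroup.relIndex_eq_one.mp (hrel1 δ hδ)
      have h2 : (⟨g, hgω⟩ : S) ∈ D.subgroupOf S := by
        rw [Subgroup.mem_subgroupOf]; exact hg
      exact h1 h2
  -- all nonidentity elements of D have the same order
  have hord : ∀ d₁ d₂ : G, d₁ ∈ D → d₂ ∈ D → d₁ ≠ 1 → d₂ ≠ 1 → orderOf d₁ = orderOf d₂ := by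
    intro d₁ d₂ h1 h2 hn1 hn2
    have hm1 : d₁ • ω ≠ ω := fun h => hn1 (hDω d₁ h1 h)
    have hm2 : d₂ • ω ≠ ω := fun h => hn2 (hDω d₂ h2 h)
    have hmem : d₂ • ω ∈ orbit S (d₁ • ω) := by
      rw [horbeq _ hm1]
      exact hm2
    obtain ⟨s, hs⟩ := hmem
    have hs' : (s : G) • (d₁ • ω) = d₂ • ω := hs
    have hc : (s : G) * d₁ * (s : G)⁻¹ ∈ D := ‹D.Normal›.conj_mem d₁ h1 s
    have hcω : ((s : G) * d₁ * (s : G)⁻¹) • ω = d₂ • ω := by
      rw [mul_smul, mul_smul]
      have : (s : G)⁻¹ • ω = ω := (s⁻¹).2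
      rw [this, hs']
    have h3 : d₂⁻¹ * ((s : G) * d₁ * (s : G)⁻¹) = 1 := by
      apply hDω _ (D.mul_mem (D.inv_mem h2) hc)
      rw [mul_smul, hcω, inv_smul_smul]
    have h4 : (s : G) * d₁ * (s : G)⁻¹ = d₂ := by
      have := congrArg (fun z => d₂ * z) h3
      simpa using this
    rw [← h4]
    have := orderOf_injective (MulAut.conj (s : G)).toMonoidHom (MulAut.conj (s : G)).injective d₁
    simpa using this.symm
  -- |D| = |Ω|
  have hcardD : Nat.card D = Nat.card Ω := by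
    have h1 := index_stabilizer_of_transitive D ω
    have h2 : stabilizer D ω = ⊥ := by
      rw [eq_bot_iff]
      intro d hd
      rw [Subgroup.mem_bot]
      apply Subtype.ext
      exact hDω d d.2 hd
    rw [h2, Subgroup.index_bot] at h1
    exact h1
  obtain ⟨p, hp, hpd⟩ := Nat.exists_prime_and_dvd (show Nat.card Ω ≠ 1 by omega)
  have : Fact p.Prime := ⟨hp⟩
  rw [← hcardD] at hpd
  obtain ⟨x, hx⟩ := exists_prime_orderOf_dvd_card' p hpd
  have hx1 : (x : G) ≠ 1 := by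
    intro h
    have : x = 1 := Subtype.ext h
    rw [this, orderOf_one] at hx
    exact hp.one_lt.ne hx
  have hpg : IsPGroup p D := by
    intro y
    by_cases hy : y = 1
    · exact ⟨0, by rw [hy]; simp⟩
    · refine ⟨1, ?_⟩
      have hy1 : (y : G) ≠ 1 := fun h => hy (Subtype.ext h)
      have h1 := hord (y : G) (x : G) y.2 x.2 hy1 hx1
      rw [Subgroup.orderOf_coe, Subgroup.orderOf_coe, hx] at h1
      rw [pow_one, ← h1]
      exact pow_orderOf_eq_one y
  obtain ⟨k, hk⟩ := IsPGroup.iff_card.mp hpg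
  rw [← hcardD, hk]
  apply hp.isPrimePow.pow
  rintro rfl
  rw [pow_zero] at hk
  omega

end Cfsg.Agent.Helper4
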