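import Mathlib
import Cfsg.Agent.Helper4.DerangementSubgroup
import Cfsg.Agent.Helper4.OrbitSum

set_option autoImplicit false

namespace Cfsg.Agent.Helper4

open MulAction

/-- fixed points of left multiplication on cosets -/
theorem quotient_smul_mk_eq_iff {G : Type*} [Group G] (N : Subgroup G) (k g : G) :
    k • (g : G ⧸ N) = (g : G ⧸ N) ↔ g⁻¹ * k * g ∈ N := by
  rw [MulAction.Quotient.smul_mk, QuotientGroup.eq]
  have : (k • g)⁻¹ * g = (g⁻¹ * k * g)⁻¹ := by
    simp [smul_eq_mul, mul_assoc]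
  rw [this, inv_mem_iff]

/-- The index of a normal subgroup containing all derangements divides `n - 1`
(no faithfulness needed). -/
theorem derangement_index_dvd {G Ω : Type*} [Group G] [Finite G] [MulAction G Ω]
    [Finite Ω] [IsPretransitive G Ω] (hΩ : 2 ≤ Nat.card Ω) (D : Subgroup G) [D.Normal]
    (hD : ∀ g : G, (∀ ω : Ω, g • ω ≠ ω) → g ∈ D) :
    D.index ∣ Nat.card Ω - 1 := by
  classical
  obtain ⟨ω⟩ : Nonempty Ω := (Nat.card_pos_iff.mp (by omega)).1
  have hne : Nonempty Ω := ⟨ω⟩
  obtain ⟨hDtrans, hone⟩ := derangement_subgroup_aux D hD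
  set S := stabilizer G ω with hS
  have hsup : S ⊔ D = ⊤ := by
    rw [eq_top_iff]
    intro g _
    obtain ⟨d, hd⟩ := hDtrans.exists_smul_eq ω (g • ω)
    have hd' : (d : G) • ω = g • ω := hd
    have h1 : (d : G)⁻¹ * g ∈ S := by
      rw [hS, mem_stabilizer_iff, mul_smul, ← hd', inv_smul_smul]
    have h2 : g = (d : G) * ((d : G)⁻¹ * g) := by group
    rw [h2]
    exact Subgroup.mul_mem _ (Subgroup.mem_sup_right d.2) (Subgroup.mem_sup_left h1)
  have hrel : D.relIndex S = D.index := by
    rw [← Subgroup.relIndex_sup_right (H := S) (K := D), hsup, Subgroup.relIndex_top_right]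
  have htwo : ∀ δ : Ω, δ ≠ ω → ∀ g : G, g • ω = ω → g • δ = δ → g ∈ D := by
    intro δ hδ g h1 h2
    by_contra hg
    have h3 := hone g hg
    have hsub := (Nat.card_eq_one_iff_unique.mp h3).1
    have h4 := hsub.elim (⟨ω, h1⟩ : fixedBy Ω g) ⟨δ, h2⟩
    exact hδ (congrArg Subtype.val h4).symm
  have hstab_le : ∀ δ : Ω, δ ≠ ω → stabilizer S δ ≤ D.subgroupOf S := by
    intro δ hδ s hs
    rw [Subgroup.mem_subgroupOf]
    exact htwo δ hδ s s.2 hs
  have horb : ∀ δ : Ω, δ ≠ ω →
      Nat.card (orbit S δ) = (stabilizer S δ).relIndex (D.subgroupOf S) * D.index := by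
    intro δ hδ
    have h1 : (stabilizer S δ).index = Nat.card (orbit S δ) := by
      rw [index_stabilizer, Nat.card_coe_set_eq]
    rw [← h1, ← Subgroup.relIndex_mul_index (hstab_le δ hδ), ← hrel]
    rfl
  have hmod : Nat.card Ω ≡ 1 [MOD D.index] := by
    apply card_modEq_one_of_dvd_orbits (S := S) D.index ω
    · intro s; exact s.2
    · intro δ hδ
      rw [horb δ hδ]
      exact dvd_mul_left _ _
  exact (Nat.modEq_iff_dvd' (by omega)).mp hmod.symm

/-- In an imprimitive transitive action, `([G:D] + 1)^2 ≤ n`. -/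
theorem derangement_index_imprimitive {G Ω : Type*} [Group G] [Finite G] [MulAction G Ω]
    [Finite Ω] [IsPretransitive G Ω] (himp : ¬ IsPreprimitive G Ω) (D : Subgroup G) [D.Normal]
    (hD : ∀ g : G, (∀ ω : Ω, g • ω ≠ ω) → g ∈ D) :
    (D.index + 1) ^ 2 ≤ Nat.card Ω := by
  classical
  by_cases hnt : Nontrivial Ω
  swap
  · exfalso
    rw [not_nontrivial_iff_subsingleton] at hnt
    exact himp IsPreprimitive.of_subsingleton
  obtain ⟨ω⟩ : Nonempty Ω := inferInstance
  have hnc : ¬ IsCoatom (stabilizer G ω) := by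
    rw [isCoatom_stabilizer_iff_preprimitive]; exact himp
  have hcardΩ : (stabilizer G ω).index = Nat.card Ω := index_stabilizer_of_transitive G ω
  have h2 : 2 ≤ Nat.card Ω := Finite.one_lt_card
  have hstabtop : stabilizer G ω ≠ ⊤ := by
    intro h
    rw [h, Subgroup.index_top] at hcardΩ
    omega
  have hex : ∃ H : Subgroup G, stabilizer G ω < H ∧ H ≠ ⊤ := by
    by_contra hno
    push Not at hno
    exact hnc ⟨hstabtop, hno⟩
  obtain ⟨H, hlt, hHtop⟩ := hex
  have hk2 : 2 ≤ H.index := by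
    have h0 : H.index ≠ 0 := Subgroup.index_ne_zero_of_finite
    have h1 : H.index ≠ 1 := fun h => hHtop (Subgroup.index_eq_one.mp h)
    omega
  have hb2 : 2 ≤ (stabilizer G ω).relIndex H := by
    have h0 : (stabilizer G ω).relIndex H ≠ 0 := by
      intro h
      have := Subgroup.relIndex_mul_index hlt.le
      rw [h, zero_mul, hcardΩ] at this
      omega
    have h1 : (stabilizer G ω).relIndex H ≠ 1 := by
      intro h
      exact (not_le_of_gt hlt) (Subgroup.relIndex_eq_one.mp h)
    omega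
  have hn : (stabilizer G ω).relIndex H * H.index = Nat.card Ω := by
    rw [Subgroup.relIndex_mul_index hlt.le, hcardΩ]
  have hm1 := derangement_index_dvd h2 D hD
  have hm2 : D.index ∣ H.index - 1 := by
    have hc : Nat.card (G ⧸ H) = H.index := (Subgroup.index_eq_card H).symm
    rw [← hc]
    apply derangement_index_dvd (by rw [hc]; exact hk2) D
    intro g hg
    apply hD
    intro a ha
    obtain ⟨x, rfl⟩ := exists_smul_eq G ω a
    apply hg (x : G ⧸ H)
    rw [quotient_smul_mk_eq_iff]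
    apply hlt.le
    rw [mem_stabilizer_iff, mul_smul, mul_smul, ha, inv_smul_smul]
  generalize D.index = m at *
  generalize H.index = k at *
  generalize (stabilizer G ω).relIndex H = b at *
  have hm3 : m ∣ b - 1 := by
    rw [← hn] at hm1
    have e : b * k - 1 = (k - 1) * b + (b - 1) := by
      obtain ⟨k', rfl⟩ : ∃ k', k = k' + 1 := ⟨k - 1, by omega⟩
      obtain ⟨b', rfl⟩ : ∃ b', b = b' + 1 := ⟨b - 1, by omega⟩
      simp only [Nat.add_sub_cancel]
      have : (b' + 1) * (k' + 1) = k' * (b' + 1) + b' + 1 := by ring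
      omega
    rw [e] at hm1
    exact (Nat.dvd_add_right (Dvd.dvd.mul_right hm2 b)).mp hm1
  have hle1 : m ≤ k - 1 := Nat.le_of_dvd (by omega) hm2
  have hle2 : m ≤ b - 1 := Nat.le_of_dvd (by omega) hm3
  rw [← hn, sq]
  exact Nat.mul_le_mul (by omega) (by omega)

end Cfsg.Agent.Helper4
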