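import Mathlib
import Cfsg.Agent.Helper4.TwoClassA
import Cfsg.Agent.Helper1.Frobenius

/-!
The key lemma: if `a`, `w` have coprime class sizes and `|(aw)^G| ≤ |w^G|`, then the conjugates of
`a` pairwise commute, and differ from `a` by elements of a normal subgroup of order dividing
`|w^G|` centralizing `a`.
-/

set_option autoImplicit false

namespace Cfsg.Agent.Helper4.TwoClass

variable {G : Type*} [Group G]

theorem isConj_right_conj (w v g : G) : IsConj w (g * v * g⁻¹) ↔ IsConj w v := by
  have h : IsConj v (g * v * g⁻¹) := isConj_iff.2 ⟨g, rfl⟩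
  exact ⟨fun h1 => h1.trans h.symm, fun h1 => h1.trans h⟩

/-- the left-multiplication stabilizer of the class of `w` -/
def classStab (w : G) : Subgroup G where
  carrier := {t | ∀ v, IsConj w v ↔ IsConj w (t * v)}
  one_mem' := by intro v; simp
  mul_mem' := by
    intro s t hs ht v
    rw [mul_assoc]; exact (ht v).trans (hs (t * v))
  inv_mem' := by
    intro t ht v
    have := ht (t⁻¹ * v)
    rw [mul_inv_cancel_left] at this
    exact this.symm

theorem mem_classStab {w t : G} : t ∈ classStab w ↔ ∀ v, IsConj w v ↔ IsConj w (t * v) := Iff.rfl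

instance classStab_normal (w : G) : (classStab w).Normal := by
  constructor
  intro t ht g
  rw [mem_classStab] at ht ⊢
  intro v
  have h1 : g * t * g⁻¹ * v = g * (t * (g⁻¹ * v * g⁻¹⁻¹)) * g⁻¹ := by group
  rw [h1, isConj_right_conj, ← ht, isConj_right_conj]

theorem card_classStab_dvd [Finite G] (w : G) : Nat.card (classStab w) ∣ cs w := by
  letI : MulAction (classStab w) {v : G // IsConj w v} :=
    { smul := fun t v => ⟨(t : G) * v, (t.2 v).1 v.2⟩
      one_smul := fun v => Subtype.ext (one_mul _)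
      mul_smul := fun s t v => Subtype.ext (mul_assoc _ _ _) }
  have h := Cfsg.Agent.Helper1.card_dvd_of_free (classStab w) {v : G // IsConj w v} (by
    intro v
    rw [eq_bot_iff]
    intro t ht
    rw [MulAction.mem_stabilizer_iff] at ht
    have h1 : (t : G) * (v : G) = v := congrArg Subtype.val ht
    have h2 : (t : G) = 1 := by
      have := mul_right_cancel (h1.trans (one_mul (v : G)).symm)
      exact this
    rw [Subgroup.mem_bot]
    exact Subtype.ext h2)
  rwa [← index_centralizer_eq_card_conj] at h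

theorem inv_mul_conj_mem_classStab [Finite G] (a w : G) (hcop : (cs a).Coprime (cs w))
    (hle : cs (a * w) ≤ cs w) (g : G) : a⁻¹ * (g * a * g⁻¹) ∈ classStab w := by
  -- step 1
  have h1 : ∀ v, IsConj w v → IsConj (a * w) (a * v) := by
    intro v hv
    obtain ⟨k, hk⟩ := isConj_iff.1 hv
    obtain ⟨c, hc, hcw⟩ := exists_mem_C_conj_eq a w hcop k
    rw [mem_C] at hc
    rw [isConj_iff]
    refine ⟨c, ?_⟩
    rw [← hk, ← hcw]
    calc c * (a * w) * c⁻¹ = c * a * w * c⁻¹ := by group
      _ = a * c * w * c⁻¹ := by rw [hc]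
      _ = a * (c * w * c⁻¹) := by group
  -- step 2
  have h2 : ∀ u, IsConj (a * w) u → ∃ v, IsConj w v ∧ a * v = u := by
    let f : {v : G // IsConj w v} → {u : G // IsConj (a * w) u} :=
      fun v => ⟨a * v, h1 v v.2⟩
    have hinj : Function.Injective f := by
      intro v v' h
      have : a * (v : G) = a * (v' : G) := congrArg Subtype.val h
      exact Subtype.ext (mul_left_cancel this)
    have hbij : Function.Bijective f := by
      apply hinj.bijective_of_nat_card_le
      rw [← index_centralizer_eq_card_conj, ← index_centralizer_eq_card_conj]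
      exact hle
    intro u hu
    obtain ⟨v, hv⟩ := hbij.2 ⟨u, hu⟩
    exact ⟨v, v.2, congrArg Subtype.val hv⟩
  -- step 3
  have h3 : ∀ v, IsConj w v → IsConj w (a⁻¹ * (g * a * g⁻¹) * v) := by
    intro v hv
    have hv' : IsConj w (g⁻¹ * v * g⁻¹⁻¹) := (isConj_right_conj w v g⁻¹).2 hv
    have h4 : IsConj (a * w) (g * (a * (g⁻¹ * v * g⁻¹⁻¹)) * g⁻¹) :=
      (isConj_right_conj _ _ g).2 (h1 _ hv')
    obtain ⟨v', hv'1, hv'2⟩ := h2 _ h4
    have h5 : a⁻¹ * (g * a * g⁻¹) * v = v' := by
      have : g * (a * (g⁻¹ * v * g⁻¹⁻¹)) * g⁻¹ = g * a * g⁻¹ * v := by group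
      rw [this] at hv'2
      rw [mul_assoc, ← hv'2]; group
    rw [h5]; exact hv'1
  -- finiteness gives the converse
  rw [mem_classStab]
  intro v
  refine ⟨h3 v, ?_⟩
  intro hv
  let φ : {v : G // IsConj w v} → {v : G // IsConj w v} :=
    fun v => ⟨a⁻¹ * (g * a * g⁻¹) * v, h3 v v.2⟩
  have hinj : Function.Injective φ := by
    intro v v' h
    have : a⁻¹ * (g * a * g⁻¹) * (v : G) = a⁻¹ * (g * a * g⁻¹) * (v' : G) := congrArg Subtype.val h
    exact Subtype.ext (mul_left_cancel this)
  have hsurj : Function.Surjective φ := Finite.injective_iff_surjective.1 hinj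
  obtain ⟨v', hv'⟩ := hsurj ⟨_, hv⟩
  have h6 : a⁻¹ * (g * a * g⁻¹) * (v' : G) = a⁻¹ * (g * a * g⁻¹) * v := congrArg Subtype.val hv'
  have h7 : (v' : G) = v := mul_left_cancel h6
  rw [← h7]; exact v'.2

/-- **Key lemma.** -/
theorem lemmaG [Finite G] (a w : G) (hcop : (cs a).Coprime (cs w)) (hle : cs (a * w) ≤ cs w) :
    ∃ N : Subgroup G, N.Normal ∧ Nat.card N ∣ cs w ∧ (∀ g : G, N ≤ C (g * a * g⁻¹)) ∧
      ∀ g : G, a⁻¹ * (g * a * g⁻¹) ∈ N := by
  refine ⟨classStab w, inferInstance, card_classStab_dvd w, ?_,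
    inv_mul_conj_mem_classStab a w hcop hle⟩
  have h0 : classStab w ≤ C a := by
    apply normal_le_of_coprime
    exact Nat.Coprime.coprime_dvd_left (card_classStab_dvd w) hcop.symm
  intro g t ht
  rw [mem_C_conj]
  apply h0
  have := (classStab_normal w).conj_mem t ht g⁻¹
  simpa using this

theorem commute_conj_of_commute {a b : G} (h : Commute a b) (g : G) :
    Commute (g * a * g⁻¹) (g * b * g⁻¹) := by
  unfold Commute SemiconjBy
  have h1 : g * a * g⁻¹ * (g * b * g⁻¹) = g * (a * b) * g⁻¹ := by group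
  have h2 : g * b * g⁻¹ * (g * a * g⁻¹) = g * (b * a) * g⁻¹ := by group
  rw [h1, h2, h.eq]

/-- all conjugates of `a` commute -/
theorem conj_commute [Finite G] (a w : G) (hcop : (cs a).Coprime (cs w)) (hle : cs (a * w) ≤ cs w)
    (g h : G) : Commute (g * a * g⁻¹) (h * a * h⁻¹) := by
  obtain ⟨N, hN, _, hNC, hmem⟩ := lemmaG a w hcop hle
  have key : ∀ k : G, Commute a (k * a * k⁻¹) := by
    intro k
    have h1 : a⁻¹ * (k * a * k⁻¹) ∈ C a := by
      have := hNC 1 (hmem k)
      simpa using this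
    rw [mem_C] at h1
    have h2 : k * a * k⁻¹ = a * (a⁻¹ * (k * a * k⁻¹)) := by group
    rw [h2]
    exact (Commute.refl a).mul_right (show Commute a _ from h1.symm)
  have h3 := commute_conj_of_commute (key (g⁻¹ * h)) g
  have h4 : g * (g⁻¹ * h * a * (g⁻¹ * h)⁻¹) * g⁻¹ = h * a * h⁻¹ := by group
  rwa [h4] at h3

/-- if moreover the order of `a` is prime to `|w^G|`, then `a` is central -/
theorem central_of_lemmaG [Finite G] (a w : G) (hcop : (cs a).Coprime (cs w))
    (hle : cs (a * w) ≤ cs w) (ho : (orderOf a).Coprime (cs w)) : a ∈ Subgroup.center G := by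
  obtain ⟨N, hN, hcard, hNC, hmem⟩ := lemmaG a w hcop hle
  rw [Subgroup.mem_center_iff]
  intro g
  set t := a⁻¹ * (g * a * g⁻¹) with ht
  have htN : t ∈ N := hmem g
  have htC : t ∈ C a := by
    have := hNC 1 htN
    simpa using this
  rw [mem_C] at htC
  have hcomm : Commute a t := htC.symm
  have h1 : g * a * g⁻¹ = a * t := by rw [ht]; group
  have h2 : (g * a * g⁻¹) ^ orderOf a = 1 := by
    have : (g * a * g⁻¹) ^ orderOf a = g * a ^ orderOf a * g⁻¹ := conj_pow
    rw [this, pow_orderOf_eq_one]; group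
  have h3 : t ^ orderOf a = 1 := by
    rw [h1, hcomm.mul_pow, pow_orderOf_eq_one, one_mul] at h2
    exact h2
  have h4 : t ^ cs w = 1 := by
    have h6 : t ^ Nat.card N = 1 := by
      have h5 : ((⟨t, htN⟩ : N) ^ Nat.card N : N) = 1 := pow_card_eq_one'
      have := congrArg Subtype.val h5
      rwa [Subgroup.coe_pow, Subgroup.coe_one] at this
    obtain ⟨j, hj⟩ := hcard
    rw [hj, pow_mul, h6, one_pow]
  have h7 : orderOf t ∣ 1 := by
    have := Nat.dvd_gcd (orderOf_dvd_of_pow_eq_one h3) (orderOf_dvd_of_pow_eq_one h4)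
    rwa [Nat.Coprime.gcd_eq_one ho] at this
  have h8 : t = 1 := orderOf_eq_one_iff.1 (Nat.dvd_one.1 h7)
  rw [h8, mul_one] at h1
  calc g * a = g * a * g⁻¹ * g := by group
    _ = a * g := by rw [h1]

/-- elements of the normal closure of `a` commute -/
theorem normalClosure_comm [Finite G] (a w : G) (hcop : (cs a).Coprime (cs w))
    (hle : cs (a * w) ≤ cs w) :
    ∀ u ∈ Subgroup.normalClosure ({a} : Set G), ∀ v ∈ Subgroup.normalClosure ({a} : Set G),
      u * v = v * u := by
  have hc : ∀ x ∈ Group.conjugatesOfSet ({a} : Set G), ∀ y ∈ Group.conjugatesOfSet ({a} : Set G),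
      x * y = y * x := by
    intro x hx y hy
    rw [Group.mem_conjugatesOfSet_iff] at hx hy
    obtain ⟨b, hb, hbx⟩ := hx
    obtain ⟨b', hb', hby⟩ := hy
    rw [Set.mem_singleton_iff] at hb hb'
    rw [hb] at hbx
    rw [hb'] at hby
    obtain ⟨g, rfl⟩ := isConj_iff.1 hbx
    obtain ⟨h, rfl⟩ := isConj_iff.1 hby
    exact (conj_commute a w hcop hle g h).eq
  have := Subgroup.isMulCommutative_closure hc
  intro u hu v hv
  have h1 := this.is_comm.comm ⟨u, hu⟩ ⟨v, hv⟩
  exact congrArg Subtype.val h1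

theorem normalClosure_pow [Finite G] (a w : G) (hcop : (cs a).Coprime (cs w))
    (hle : cs (a * w) ≤ cs w) :
    ∀ u ∈ Subgroup.normalClosure ({a} : Set G), u ^ orderOf a = 1 := by
  have hcomm := normalClosure_comm a w hcop hle
  intro u hu
  unfold Subgroup.normalClosure at hu
  induction hu using Subgroup.closure_induction with
  | mem x hx =>
    rw [Group.mem_conjugatesOfSet_iff] at hx
    obtain ⟨b, hb, hbx⟩ := hx
    rw [Set.mem_singleton_iff] at hb
    rw [hb] at hbx
    obtain ⟨g, rfl⟩ := isConj_iff.1 hbx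
    have : (g * a * g⁻¹) ^ orderOf a = g * a ^ orderOf a * g⁻¹ := conj_pow
    rw [this, pow_orderOf_eq_one]; group
  | one => exact one_pow _
  | mul x y hx hy hx1 hy1 =>
    have hc : Commute x y := hcomm x hx y hy
    rw [hc.mul_pow, hx1, hy1, one_mul]
  | inv x hx hx1 => rw [inv_pow, hx1, inv_one]

theorem self_mem_normalClosure (a : G) : a ∈ Subgroup.normalClosure ({a} : Set G) :=
  Subgroup.subset_normalClosure (Set.mem_singleton a)

theorem conj_mem_normalClosure (a g : G) : g * a * g⁻¹ ∈ Subgroup.normalClosure ({a} : Set G) :=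
  (Subgroup.normalClosure_normal).conj_mem a (self_mem_normalClosure a) g

/-- the normal closure of a `q`-element with the key property is a `q`-group -/
theorem card_normalClosure [Finite G] (a w : G) (hcop : (cs a).Coprime (cs w))
    (hle : cs (a * w) ≤ cs w) (q : ℕ) (hq : q.Prime) (k : ℕ) (ha : orderOf a = q ^ k) :
    ∃ j : ℕ, Nat.card (Subgroup.normalClosure ({a} : Set G)) = q ^ j := by
  haveI := Fact.mk hq
  have h : IsPGroup q (Subgroup.normalClosure ({a} : Set G)) := by
    intro u
    refine ⟨k, ?_⟩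
    have := normalClosure_pow a w hcop hle u u.2
    rw [ha] at this
    exact Subtype.ext (by simpa using this)
  exact IsPGroup.iff_card.1 h

end Cfsg.Agent.Helper4.TwoClass
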