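import Mathlib
import Cfsg.Agent.Helper4.TwoClassB
import Cfsg.Agent.Helper4.SylowBasic

/-!
Groups whose two largest class sizes `m > n > 1` are coprime: first consequences.
-/

set_option autoImplicit false

namespace Cfsg.Agent.Helper4.TwoClass

/-- hypotheses: `m > n > 1` are the two largest class sizes, coprime, both attained -/
structure TC (G : Type*) [Group G] (m n : ℕ) : Prop where
  hmn : n < m
  hn : 1 < n
  hcop : m.Coprime n
  htop : ∀ z : G, cs z ≤ m
  hsecond : ∀ z : G, cs z < m → cs z ≤ n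
  exn : ∃ x : G, cs x = n
  exm : ∃ y : G, cs y = m

variable {G : Type*} [Group G] [Finite G] {m n : ℕ}

namespace TC

theorem cs_eq_n_of_dvd (h : TC G m n) {g : G} (hd : n ∣ cs g) : cs g = n := by
  by_cases hlt : cs g < m
  · have h1 := h.hsecond g hlt
    have h2 := Nat.le_of_dvd (cs_pos g) hd
    omega
  · have h1 := h.htop g
    have h2 : cs g = m := by omega
    rw [h2] at hd
    have h3 := Nat.dvd_gcd hd (dvd_refl n)
    rw [h.hcop] at h3
    have h4 := Nat.dvd_one.1 h3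
    have := h.hn
    omega

theorem cs_eq_m_of_dvd (h : TC G m n) {g : G} (hd : m ∣ cs g) : cs g = m := by
  have h1 := h.htop g
  have h2 := Nat.le_of_dvd (cs_pos g) hd
  omega

theorem cs_eq_m_or_le (h : TC G m n) (g : G) : cs g = m ∨ cs g ≤ n := by
  by_cases hlt : cs g < m
  · exact Or.inr (h.hsecond g hlt)
  · have := h.htop g
    left; omega

theorem not_dvd_m_of_dvd_n (h : TC G m n) {s : ℕ} (hs : s.Prime) (hsn : s ∣ n) : ¬ s ∣ m := by
  intro hd
  have := Nat.dvd_gcd hd hsn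
  rw [h.hcop] at this
  exact hs.one_lt.ne' (Nat.dvd_one.1 this)

theorem not_dvd_n_of_dvd_m (h : TC G m n) {s : ℕ} (hs : s.Prime) (hsm : s ∣ m) : ¬ s ∣ n :=
  fun hd => h.not_dvd_m_of_dvd_n hs hd hsm

theorem eq_one_of_dvd_dvd (h : TC G m n) {d : ℕ} (h1 : d ∣ m) (h2 : d ∣ n) : d = 1 := by
  have := Nat.dvd_gcd h1 h2
  rw [h.hcop] at this
  exact Nat.dvd_one.1 this

/-- an element of class size and order prime to `m` is central -/
theorem central_m (h : TC G m n) {a : G} (h1 : (cs a).Coprime m) (h2 : (orderOf a).Coprime m) :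
    a ∈ Subgroup.center G := by
  obtain ⟨y, hy⟩ := h.exm
  exact central_of_lemmaG a y (by rw [hy]; exact h1) (by rw [hy]; exact h.htop _)
    (by rw [hy]; exact h2)

theorem C_le_of_n (h : TC G m n) {x k : G} (hx : cs x = n) (hk : k ∈ C x)
    (hco : (orderOf k).Coprime (orderOf x)) : C x ≤ C k := by
  have hc : Commute k x := mem_C.1 hk
  have h1 : C (k * x) = C k ⊓ C x := C_mul_of_coprime hc hco
  have h2 : C (k * x) ≤ C x := by rw [h1]; exact inf_le_right
  have h3 : cs (k * x) = n := by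
    apply h.cs_eq_n_of_dvd
    rw [← hx]; exact cs_dvd_of_le h2
  have h4 : C (k * x) = C x := C_eq_of_le_of_cs_eq h2 (by rw [h3, hx])
  rw [← h4, h1]; exact inf_le_left

theorem C_le_of_m (h : TC G m n) {y k : G} (hy : cs y = m) (hk : k ∈ C y)
    (hco : (orderOf k).Coprime (orderOf y)) : C y ≤ C k := by
  have hc : Commute k y := mem_C.1 hk
  have h1 : C (k * y) = C k ⊓ C y := C_mul_of_coprime hc hco
  have h2 : C (k * y) ≤ C y := by rw [h1]; exact inf_le_right
  have h3 : cs (k * y) = m := by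
    apply h.cs_eq_m_of_dvd
    rw [← hy]; exact cs_dvd_of_le h2
  have h4 : C (k * y) = C y := C_eq_of_le_of_cs_eq h2 (by rw [h3, hy])
  rw [← h4, h1]; exact inf_le_left

theorem isPi_singleton {s : ℕ} {a : G} (ha : PiParts.IsPi ({s} : Set ℕ) a) :
    ∃ k : ℕ, orderOf a = s ^ k := by
  refine ⟨_, Nat.eq_prime_pow_of_unique_prime_dvd (orderOf_pos a).ne' ?_⟩
  intro d hd hda
  exact ha d hd hda

/-- removing the `s`-part of an element of class size `n`, for `s ∤ m` -/
theorem strip_n (h : TC G m n) {x : G} (hx : cs x = n) {s : ℕ} (hs : s.Prime) (hsm : ¬ s ∣ m) :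
    ∃ x' : G, x' ∈ Subgroup.zpowers x ∧ C x' = C x ∧ ¬ s ∣ orderOf x' := by
  obtain ⟨x₁, x₂, hx₁, hx₂, hp₁, hp₂, hxx⟩ := PiParts.exists_decomp ({s} : Set ℕ) x
  obtain ⟨k, hk⟩ := isPi_singleton hp₁
  have h1 : cs x₁ ∣ n := by rw [← hx]; exact cs_dvd_of_le (C_le_of_mem_zpowers hx₁)
  have h2 : x₁ ∈ Subgroup.center G := by
    apply h.central_m
    · exact Nat.Coprime.coprime_dvd_left h1 h.hcop.symm
    · rw [hk]; exact coprime_of_prime_pow hs hsm
  refine ⟨x₂, hx₂, ?_, fun hd => hp₂ s hs hd rfl⟩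
  have h3 : x = x₂ * x₁ := by
    rw [← hxx]; exact (Subgroup.mem_center_iff.1 h2 x₂).symm
  rw [h3, C_mul_central h2]

/-- no element of class size `n` commutes with an element of class size `m` -/
theorem not_commute (h : TC G m n) {x y : G} (hx : cs x = n) (hy : cs y = m) : ¬ Commute x y := by
  intro hc
  obtain ⟨r, hr, hrn⟩ := Nat.exists_prime_and_dvd (ne_of_gt h.hn)
  have hrm : ¬ r ∣ m := h.not_dvd_m_of_dvd_n hr hrn
  haveI := Fact.mk hr
  obtain ⟨x', hx'z, hx'C, hx'o⟩ := h.strip_n hx hr hrm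
  have hx'n : cs x' = n := by unfold cs; unfold C at hx'C; rw [hx'C]; exact hx
  have hyx' : y ∈ C x' := by rw [hx'C, mem_C]; exact hc.symm.eq
  have hx'y : x' ∈ C y := mem_C_comm.1 hyx'
  obtain ⟨y₁, y₂, hy₁, hy₂, hp₁, hp₂, hyy⟩ := PiParts.exists_decomp ({r} : Set ℕ) y
  obtain ⟨k, hk⟩ := isPi_singleton hp₁
  have hy₁x' : Commute y₁ x' := by
    have := (C_le_of_mem_zpowers hy₁) hx'y
    exact (mem_C.1 this).symm
  have hco1 : (orderOf y₁).Coprime (orderOf x') := by
    rw [hk]; exact coprime_of_prime_pow hr hx'o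
  have h1 : C (y₁ * x') = C y₁ ⊓ C x' := C_mul_of_coprime hy₁x' hco1
  have h2 : cs (y₁ * x') = n := by
    apply h.cs_eq_n_of_dvd
    rw [← hx'n]; apply cs_dvd_of_le; rw [h1]; exact inf_le_right
  have h3 : cs y₁ ∣ n := by
    rw [← h2]; apply cs_dvd_of_le; rw [h1]; exact inf_le_left
  have h4 : cs y₁ ∣ m := by rw [← hy]; exact cs_dvd_of_le (C_le_of_mem_zpowers hy₁)
  have h5 : y₁ ∈ Subgroup.center G := (cs_eq_one_iff y₁).1 (h.eq_one_of_dvd_dvd h4 h3)
  have h6 : y = y₂ * y₁ := by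
    rw [← hyy]; exact (Subgroup.mem_center_iff.1 h5 y₂).symm
  have h7 : C y₂ = C y := by rw [h6, C_mul_central h5]
  have hy₂m : cs y₂ = m := by unfold cs; unfold C at h7; rw [h7]; exact hy
  have hy₂o : ¬ r ∣ orderOf y₂ := fun hd => hp₂ r hr hd rfl
  have hx'y₂ : x' ∈ C y₂ := by rw [h7]; exact hx'y
  -- Sylow
  have hidx : ¬ r ∣ (C y₂).index := by
    change ¬ r ∣ cs y₂
    rw [hy₂m]; exact hrm
  obtain ⟨P, hP⟩ := exists_sylow_le_of_not_dvd_index r (C y₂) hidx
  have hPx : (P : Subgroup G) ≤ C x' := by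
    intro u hu
    obtain ⟨j, hj⟩ := Cfsg.Agent.Helper4.orderOf_eq_pow_of_mem_pgroup (P : Subgroup G) P.2 u hu
    have hu1 : u ∈ C y₂ := hP hu
    have hco : (orderOf u).Coprime (orderOf y₂) := by
      rw [hj]; exact coprime_of_prime_pow hr hy₂o
    have := h.C_le_of_m hy₂m hu1 hco hx'y₂
    exact mem_C_comm.1 this
  have := not_dvd_index_of_sylow_le r (C x') P hPx
  apply this
  change r ∣ cs x'
  rw [hx'n]; exact hrn

/-- an element commuting with an element of class size `n`, of class size and order prime to `n`,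
is central -/
theorem central_n (h : TC G m n) {x a : G} (hx : cs x = n) (hc : Commute a x)
    (h1 : (cs a).Coprime n) (h2 : (orderOf a).Coprime n) : a ∈ Subgroup.center G := by
  apply central_of_lemmaG a x (by rw [hx]; exact h1) ?_ (by rw [hx]; exact h2)
  rw [hx]
  rcases h.cs_eq_m_or_le (a * x) with h3 | h3
  · exfalso
    apply h.not_commute hx h3
    exact hc.symm.mul_right (Commute.refl x)
  · exact h3

end TC

end Cfsg.Agent.Helper4.TwoClass
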