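import Mathlib
import Cfsg.Agent.Helper4.TwoClassC

/-!
Two coprime largest class sizes: `C(x) ∩ C(y) = Z(G)` and index computations.
-/

set_option autoImplicit false

namespace Cfsg.Agent.Helper4.TwoClass

variable {G : Type*} [Group G] [Finite G] {m n : ℕ}

omit [Finite G] in
theorem orderOf_conj' (g a : G) : orderOf (g * a * g⁻¹) = orderOf a := by
  have := (MulAut.conj g).orderOf_eq a
  rwa [MulAut.conj_apply] at this

omit [Finite G] in
theorem mem_center_of_conj_mem {g a : G} (h : g * a * g⁻¹ ∈ Subgroup.center G) :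
    a ∈ Subgroup.center G := by
  have e : g⁻¹ * (g * a * g⁻¹) * g⁻¹⁻¹ = a := by group
  rw [← e]
  exact (inferInstance : (Subgroup.center G).Normal).conj_mem _ h g⁻¹

omit [Finite G] in
theorem cs_eq_of_C_eq {a b : G} (h : C a = C b) : cs a = cs b := by
  unfold cs; unfold C at h; rw [h]

namespace TC

/-- removing the `s`-part of an element of class size `m`, for `s ∤ n` -/
theorem strip_m (h : TC G m n) {y : G} (hy : cs y = m) {s : ℕ} (hs : s.Prime) (hsn : ¬ s ∣ n) :
    ∃ y' : G, y' ∈ Subgroup.zpowers y ∧ C y' = C y ∧ ¬ s ∣ orderOf y' := by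
  obtain ⟨y₁, y₂, hy₁, hy₂, hp₁, hp₂, hyy⟩ := PiParts.exists_decomp ({s} : Set ℕ) y
  obtain ⟨k, hk⟩ := isPi_singleton hp₁
  obtain ⟨x, hx⟩ := h.exn
  have h1 : cs y₁ ∣ m := by rw [← hy]; exact cs_dvd_of_le (C_le_of_mem_zpowers hy₁)
  have hidx : ¬ s ∣ (C x).index := by
    change ¬ s ∣ cs x
    rw [hx]; exact hsn
  obtain ⟨g, hg⟩ := exists_conj_mem hs (C x) hidx y₁ ⟨k, hk⟩
  have h2 : g * y₁ * g⁻¹ ∈ Subgroup.center G := by
    apply h.central_n hx (mem_C.1 hg)
    · rw [cs_conj]; exact Nat.Coprime.coprime_dvd_left h1 h.hcop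
    · rw [orderOf_conj', hk]; exact coprime_of_prime_pow hs hsn
  have h3 : y₁ ∈ Subgroup.center G := mem_center_of_conj_mem h2
  refine ⟨y₂, hy₂, ?_, fun hd => hp₂ s hs hd rfl⟩
  have h4 : y = y₂ * y₁ := by
    rw [← hyy]; exact (Subgroup.mem_center_iff.1 h3 y₂).symm
  rw [h4, C_mul_central h3]

/-- `C(x) ∩ C(y) = Z(G)` -/
theorem inf_eq_center (h : TC G m n) {x y : G} (hx : cs x = n) (hy : cs y = m) :
    C x ⊓ C y = Subgroup.center G := by
  apply le_antisymm
  · intro g hg
    apply mem_of_primary_parts (Subgroup.center G) g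
    intro s hs b hb ⟨k, hk⟩
    have hb' : b ∈ C x ⊓ C y := (Subgroup.zpowers_le.2 hg) hb
    obtain ⟨hbx, hby⟩ := Subgroup.mem_inf.1 hb'
    by_cases hsm : s ∣ m
    · have hsn : ¬ s ∣ n := h.not_dvd_n_of_dvd_m hs hsm
      obtain ⟨y', _, hy'C, hy'o⟩ := h.strip_m hy hs hsn
      have hy'm : cs y' = m := (cs_eq_of_C_eq hy'C).trans hy
      have hby' : b ∈ C y' := by rw [hy'C]; exact hby
      have hco : (orderOf b).Coprime (orderOf y') := by
        rw [hk]; exact coprime_of_prime_pow hs hy'o
      have h1 : C y' ≤ C b := h.C_le_of_m hy'm hby' hco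
      have h2 : cs b ∣ m := by rw [← hy'm]; exact cs_dvd_of_le h1
      apply h.central_n hx (mem_C.1 hbx)
      · exact Nat.Coprime.coprime_dvd_left h2 h.hcop
      · rw [hk]; exact coprime_of_prime_pow hs hsn
    · obtain ⟨x', _, hx'C, hx'o⟩ := h.strip_n hx hs hsm
      have hx'n : cs x' = n := (cs_eq_of_C_eq hx'C).trans hx
      have hbx' : b ∈ C x' := by rw [hx'C]; exact hbx
      have hco : (orderOf b).Coprime (orderOf x') := by
        rw [hk]; exact coprime_of_prime_pow hs hx'o
      have h1 : C x' ≤ C b := h.C_le_of_n hx'n hbx' hco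
      have h2 : cs b ∣ n := by rw [← hx'n]; exact cs_dvd_of_le h1
      apply h.central_m
      · exact Nat.Coprime.coprime_dvd_left h2 h.hcop.symm
      · rw [hk]; exact coprime_of_prime_pow hs hsm
  · exact le_inf (center_le_C x) (center_le_C y)

theorem index_center (h : TC G m n) : (Subgroup.center G).index = m * n := by
  obtain ⟨x, hx⟩ := h.exn
  obtain ⟨y, hy⟩ := h.exm
  rw [← h.inf_eq_center hx hy]
  have hc : ((C x).index).Coprime ((C y).index) := by
    change (cs x).Coprime (cs y)
    rw [hx, hy]; exact h.hcop.symm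
  rw [index_inf_of_coprime (C x) (C y) hc]
  change cs x * cs y = m * n
  rw [hx, hy, mul_comm]

theorem m_pos (h : TC G m n) : 0 < m := lt_trans (lt_trans Nat.zero_lt_one h.hn) h.hmn

theorem n_pos (h : TC G m n) : 0 < n := lt_trans Nat.zero_lt_one h.hn

theorem relIndex_center_n (h : TC G m n) {x : G} (hx : cs x = n) :
    (Subgroup.center G).relIndex (C x) = m := by
  have h1 := Subgroup.relIndex_mul_index (center_le_C x)
  rw [h.index_center] at h1
  change (Subgroup.center G).relIndex (C x) * cs x = m * n at h1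
  rw [hx] at h1
  exact Nat.eq_of_mul_eq_mul_right h.n_pos h1

theorem relIndex_center_m (h : TC G m n) {y : G} (hy : cs y = m) :
    (Subgroup.center G).relIndex (C y) = n := by
  have h1 := Subgroup.relIndex_mul_index (center_le_C y)
  rw [h.index_center] at h1
  change (Subgroup.center G).relIndex (C y) * cs y = m * n at h1
  rw [hy, mul_comm m n] at h1
  exact Nat.eq_of_mul_eq_mul_right h.m_pos h1

theorem pow_m_mem_center (h : TC G m n) {x k : G} (hx : cs x = n) (hk : k ∈ C x) :
    k ^ m ∈ Subgroup.center G := by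
  have := Subgroup.pow_relIndex_mem (Subgroup.center G) hk
  rwa [h.relIndex_center_n hx] at this

theorem pow_n_mem_center (h : TC G m n) {y k : G} (hy : cs y = m) (hk : k ∈ C y) :
    k ^ n ∈ Subgroup.center G := by
  have := Subgroup.pow_relIndex_mem (Subgroup.center G) hk
  rwa [h.relIndex_center_m hy] at this

theorem not_mem_center_of_n (h : TC G m n) {x : G} (hx : cs x = n) : x ∉ Subgroup.center G := by
  intro hc
  have := (cs_eq_one_iff x).2 hc
  have := h.hn
  omega

theorem not_mem_center_of_m (h : TC G m n) {y : G} (hy : cs y = m) : y ∉ Subgroup.center G := by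
  intro hc
  have := (cs_eq_one_iff y).2 hc
  have := h.hn
  have := h.hmn
  omega

end TC

end Cfsg.Agent.Helper4.TwoClass
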