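import Mathlib
import Cfsg.Agent.Helper4.TwoClassD

/-!
Two coprime largest class sizes: a Fitting-type decomposition, and the class sizes of the
non-central elements of the centralizers.
-/

set_option autoImplicit false

namespace Cfsg.Agent.Helper4.TwoClass

variable {G : Type*} [Group G]

/-- partial products of a sequence -/
def pprod (c : ℕ → G) : ℕ → G
  | 0 => 1
  | (i + 1) => pprod c i * c i

/-- Fitting-type decomposition: for an abelian normal subgroup `W` of exponent dividing `e`, an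
element `u` with `u ^ q = 1`, `q` prime to `e`, every element of `u W` is a `W`-conjugate of `u`
times an element of `C_W(u)`. -/
theorem fitting_decomp (W : Subgroup G) [W.Normal] (hW : ∀ a ∈ W, ∀ b ∈ W, a * b = b * a)
    (e q : ℕ) (hcop : q.Coprime e) (hWe : ∀ a ∈ W, a ^ e = 1) (u x : G) (hu : u ^ q = 1)
    (hx : x ∈ W) :
    ∃ w ∈ W, ∃ c ∈ W, Commute c u ∧ u * x = (w * u * w⁻¹) * c := by
  have hconj : ∀ v ∈ W, u⁻¹ * v * u ∈ W := by
    intro v hv
    have := (inferInstance : W.Normal).conj_mem v hv u⁻¹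
    simpa using this
  set c : ℕ → G := fun i => (u⁻¹) ^ i * (u * x) ^ i with hc
  have hcs : ∀ i, c (i + 1) = u⁻¹ * c i * u * x := by
    intro i
    simp only [hc]
    rw [pow_succ' u⁻¹ i, pow_succ (u * x) i]
    simp only [mul_assoc]
  have hc0 : c 0 = 1 := by simp [hc]
  have hcW : ∀ i, c i ∈ W := by
    intro i
    induction i with
    | zero => rw [hc0]; exact W.one_mem
    | succ i ih => rw [hcs]; exact W.mul_mem (hconj _ ih) hx
  have hPW : ∀ i, pprod c i ∈ W := by
    intro i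
    induction i with
    | zero => exact W.one_mem
    | succ i ih => exact W.mul_mem ih (hcW i)
  have hS : ∀ i, u⁻¹ * pprod c i * u * x ^ i = pprod c i * c i := by
    intro i
    induction i with
    | zero => simp [pprod, hc0]
    | succ i ih =>
      have hBX : (u⁻¹ * c i * u) * x ^ i = x ^ i * (u⁻¹ * c i * u) :=
        hW _ (hconj _ (hcW i)) _ (W.pow_mem hx i)
      calc u⁻¹ * pprod c (i + 1) * u * x ^ (i + 1)
          = (u⁻¹ * pprod c i * u) * ((u⁻¹ * c i * u) * x ^ i) * x := by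
            rw [pow_succ]; simp only [pprod]; group
        _ = (u⁻¹ * pprod c i * u) * (x ^ i * (u⁻¹ * c i * u)) * x := by rw [hBX]
        _ = (u⁻¹ * pprod c i * u * x ^ i) * (u⁻¹ * c i * u * x) := by simp only [mul_assoc]
        _ = pprod c i * c i * c (i + 1) := by rw [ih, hcs]
        _ = pprod c (i + 1) * c (i + 1) := by simp only [pprod]
  -- at `q`
  have hcq : c q = (u * x) ^ q := by
    simp only [hc]
    rw [inv_pow, hu, inv_one, one_mul]
  set P := pprod c q with hP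
  set N := (u * x) ^ q with hN
  have hPq : P ∈ W := hPW q
  have hNW : N ∈ W := hcq ▸ hcW q
  have hSq : u⁻¹ * P * u * x ^ q = P * N := by rw [← hcq]; exact hS q
  -- N commutes with u
  have hNu : Commute N u := by
    have h1 : Commute N (u * x) := (Commute.refl (u * x)).pow_left q
    have h2 : Commute N x := hW _ hNW _ hx
    have h3 : u = (u * x) * x⁻¹ := by group
    rw [h3]
    exact h1.mul_right h2.inv_right
  -- D
  set D := u⁻¹ * P⁻¹ * u * P with hD
  have hφP : u⁻¹ * P * u ∈ W := hconj _ hPq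
  have hxq : x ^ q = D * N := by
    have : x ^ q = (u⁻¹ * P * u)⁻¹ * (P * N) := by rw [← hSq]; group
    rw [this, hD]; group
  -- Bezout
  have hb : (q : ℤ) * Int.gcdA q e + (e : ℤ) * Int.gcdB q e = 1 := by
    have h1 := Int.gcd_eq_gcd_ab (q : ℤ) (e : ℤ)
    have h2 : Int.gcd (q : ℤ) (e : ℤ) = 1 := by
      rw [Int.gcd_natCast_natCast]; exact hcop
    rw [h2] at h1
    exact_mod_cast h1.symm
  set a := Int.gcdA q e with ha
  set b := Int.gcdB q e with hb'
  have hxa : x = (x ^ q) ^ a := by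
    calc x = x ^ (1 : ℤ) := (zpow_one x).symm
      _ = x ^ ((q : ℤ) * a + (e : ℤ) * b) := by rw [hb]
      _ = (x ^ (q : ℤ)) ^ a * (x ^ (e : ℤ)) ^ b := by rw [zpow_add, zpow_mul, zpow_mul]
      _ = (x ^ q) ^ a := by rw [zpow_natCast, zpow_natCast, hWe x hx, one_zpow, mul_one]
  have hDW : D ∈ W := by
    have h1 : u⁻¹ * P⁻¹ * u ∈ W := hconj _ (W.inv_mem hPq)
    exact W.mul_mem h1 hPq
  have hDN : Commute D N := hW _ hDW _ hNW
  have hDa : D ^ a = u⁻¹ * (P ^ a)⁻¹ * u * P ^ a := by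
    have h1 : Commute (u⁻¹ * P⁻¹ * u) P := hW _ (hconj _ (W.inv_mem hPq)) _ hPq
    rw [hD, h1.mul_zpow]
    have h2 : (u⁻¹ * P⁻¹ * u) ^ a = u⁻¹ * (P⁻¹) ^ a * u := by
      have := conj_zpow (a := u⁻¹) (b := P⁻¹) (i := a)
      simpa using this
    rw [h2, inv_zpow]
  set Q := P ^ a with hQ
  have hQW : Q ∈ W := W.zpow_mem hPq a
  refine ⟨Q⁻¹, W.inv_mem hQW, N ^ a, W.zpow_mem hNW a, hNu.zpow_left a, ?_⟩
  have hx' : x = u⁻¹ * Q⁻¹ * u * Q * N ^ a := by
    calc x = (x ^ q) ^ a := hxa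
      _ = (D * N) ^ a := by rw [hxq]
      _ = D ^ a * N ^ a := hDN.mul_zpow a
      _ = u⁻¹ * Q⁻¹ * u * Q * N ^ a := by rw [hDa]
  calc u * x = u * (u⁻¹ * Q⁻¹ * u * Q * N ^ a) := by rw [← hx']
    _ = Q⁻¹ * u * Q⁻¹⁻¹ * N ^ a := by group

end Cfsg.Agent.Helper4.TwoClass
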