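import Mathlib
import Cfsg.Agent.Helper4.TwoClassE

/-!
Two coprime largest class sizes: class sizes of non-central elements of the centralizers.
-/

set_option autoImplicit false

namespace Cfsg.Agent.Helper4.TwoClass

variable {G : Type*} [Group G] [Finite G] {m n : ℕ}

namespace TC

/-- a non-central `r`-element (`r ∣ n`) of `C(y)`, `|y^G| = m`, has class size `m` -/
theorem cs_eq_m_of_prime_pow (h : TC G m n) {y u : G} (hy : cs y = m) (hu : u ∈ C y)
    (huZ : u ∉ Subgroup.center G) {r : ℕ} (hr : r.Prime) (hrn : r ∣ n) {k : ℕ}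
    (hk : orderOf u = r ^ k) : cs u = m := by
  by_contra hne
  have hrm : ¬ r ∣ m := h.not_dvd_m_of_dvd_n hr hrn
  obtain ⟨x₀, hx₀⟩ := h.exn
  obtain ⟨x, _, hxC, hxo⟩ := h.strip_n hx₀ hr hrm
  have hx : cs x = n := (cs_eq_of_C_eq hxC).trans hx₀
  have hcopxy : (cs x).Coprime (cs y) := by rw [hx, hy]; exact h.hcop.symm
  have hlexy : cs (x * y) ≤ cs y := by rw [hy]; exact h.htop _
  have hqe : (r ^ k).Coprime (orderOf x) := coprime_of_prime_pow hr hxo
  set W := Subgroup.normalClosure ({x} : Set G) with hWdef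
  have hWc := normalClosure_comm x y hcopxy hlexy
  have hWe := normalClosure_pow x y hcopxy hlexy
  have hxW : x ∈ W := self_mem_normalClosure x
  have hWK : W ≤ C x := fun v hv => mem_C.2 (hWc v hv x hxW)
  have hWZ : ∀ v ∈ W, v ∈ C y → v ∈ Subgroup.center G := by
    intro v hv hvy
    rw [← h.inf_eq_center hx hy]
    exact Subgroup.mem_inf.2 ⟨hWK hv, hvy⟩
  have huq : u ^ (r ^ k) = 1 := by rw [← hk]; exact pow_orderOf_eq_one u
  obtain ⟨w, hw, c, hc, hcu, hdec⟩ :=
    fitting_decomp W hWc (orderOf x) (r ^ k) hqe hWe u x huq hxW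
  -- centralizer of `u * x` in `C y` is central
  have hd3 : ∀ t ∈ C y, t ∈ C (u * x) → t ∈ Subgroup.center G := by
    intro t ht1 ht2
    set z := u⁻¹ * (t * u * t⁻¹) with hz
    have hzy : z ∈ C y :=
      (C y).mul_mem ((C y).inv_mem hu) ((C y).mul_mem ((C y).mul_mem ht1 hu) ((C y).inv_mem ht1))
    have hconj : t * (u * x) * t⁻¹ = u * x := by
      rw [mem_C] at ht2
      rw [ht2]; group
    have hzx : z = x * (t * x * t⁻¹)⁻¹ := by
      have h1 : t * (u * x) * t⁻¹ = (t * u * t⁻¹) * (t * x * t⁻¹) := by group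
      rw [h1] at hconj
      have h2 : t * u * t⁻¹ = u * x * (t * x * t⁻¹)⁻¹ := by rw [← hconj]; group
      rw [hz, h2]; group
    have hzW : z ∈ W := by
      rw [hzx]
      exact W.mul_mem hxW (W.inv_mem (conj_mem_normalClosure x t))
    have hzZ : z ∈ Subgroup.center G := hWZ z hzW hzy
    have hze : z ^ orderOf x = 1 := hWe z hzW
    have htu : t * u * t⁻¹ = u * z := by rw [hz]; group
    have hzq : z ^ (r ^ k) = 1 := by
      have h1 : (t * u * t⁻¹) ^ (r ^ k) = 1 := by
        have : (t * u * t⁻¹) ^ (r ^ k) = t * u ^ (r ^ k) * t⁻¹ := conj_pow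
        rw [this, huq]; group
      have hcz : Commute u z := (Subgroup.mem_center_iff.1 hzZ u)
      rw [htu, hcz.mul_pow, huq, one_mul] at h1
      exact h1
    have hz1 : z = 1 := by
      have h1 : orderOf z ∣ 1 := by
        have := Nat.dvd_gcd (orderOf_dvd_of_pow_eq_one hzq) (orderOf_dvd_of_pow_eq_one hze)
        rwa [Nat.Coprime.gcd_eq_one hqe] at this
      exact orderOf_eq_one_iff.1 (Nat.dvd_one.1 h1)
    have htx : t ∈ C x := by
      rw [mem_C]
      have h1 : x * (t * x * t⁻¹)⁻¹ = 1 := by rw [← hzx, hz1]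
      have h2 : t * x * t⁻¹ = x := by
        have := mul_eq_one_iff_eq_inv.1 h1
        rw [inv_inv] at this
        exact this.symm
      calc t * x = t * x * t⁻¹ * t := by group
        _ = x * t := by rw [h2]
    rw [← h.inf_eq_center hx hy]
    exact Subgroup.mem_inf.2 ⟨htx, ht1⟩
  -- class size of `u * x` is at least `n`
  have hge : n ≤ cs (u * x) := by
    have h1 : C y ⊓ C (u * x) = Subgroup.center G := by
      apply le_antisymm
      · intro t ht
        obtain ⟨ht1, ht2⟩ := Subgroup.mem_inf.1 ht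
        exact hd3 t ht1 ht2
      · exact le_inf (center_le_C y) (center_le_C _)
    have h2 : (C y ⊓ C (u * x)).index ≤ (C y).index * (C (u * x)).index := Subgroup.index_inf_le
    rw [h1, h.index_center] at h2
    change m * n ≤ cs y * cs (u * x) at h2
    rw [hy] at h2
    exact Nat.le_of_mul_le_mul_left h2 h.m_pos
  -- decomposition
  set s := w * u * w⁻¹ with hs
  have hcw : Commute c w := hWc c hc w hw
  have hcs' : Commute c s := by
    rw [hs]
    exact (hcw.mul_right hcu).mul_right hcw.inv_right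
  have hso : orderOf s = r ^ k := by rw [hs, orderOf_conj', hk]
  have hco : orderOf c ∣ orderOf x := orderOf_dvd_of_pow_eq_one (hWe c hc)
  have hcop' : (orderOf s).Coprime (orderOf c) := by
    rw [hso]; exact Nat.Coprime.coprime_dvd_right hco hqe
  have hCg : C (u * x) = C s ⊓ C c := by
    rw [hdec]; exact C_mul_of_coprime hcs'.symm hcop'
  rcases h.cs_eq_m_or_le (u * x) with hgm | hgn
  · -- `u * x` has class size `m`
    have hcg : c ∈ C (u * x) := by
      rw [hCg]
      exact Subgroup.mem_inf.2 ⟨mem_C.2 hcs'.eq, self_mem_C c⟩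
    have hcZ : c ∈ Subgroup.center G := by
      rw [← h.inf_eq_center hx hgm]
      exact Subgroup.mem_inf.2 ⟨hWK hc, hcg⟩
    have h1 : C (u * x) = C s := by rw [hdec]; exact C_mul_central hcZ
    have h2 : cs s = m := (cs_eq_of_C_eq h1).symm.trans hgm
    rw [hs, cs_conj] at h2
    exact hne h2
  · -- `u * x` has class size `n`
    have hgn' : cs (u * x) = n := le_antisymm hgn hge
    have hsg : s ∈ C (u * x) := by
      rw [hCg]
      exact Subgroup.mem_inf.2 ⟨self_mem_C s, mem_C.2 hcs'.symm.eq⟩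
    have hsy : s ∈ C (w * y * w⁻¹) := by
      rw [mem_C_conj]
      have : w⁻¹ * s * w = u := by rw [hs]; group
      rw [this]; exact hu
    have hym : cs (w * y * w⁻¹) = m := by rw [cs_conj]; exact hy
    have hsZ : s ∈ Subgroup.center G := by
      rw [← h.inf_eq_center hgn' hym]
      exact Subgroup.mem_inf.2 ⟨hsg, hsy⟩
    exact huZ (mem_center_of_conj_mem hsZ)

/-- every non-central element of `C(y)`, `|y^G| = m`, has class size `m` -/
theorem cs_eq_m_of_mem (h : TC G m n) {y t : G} (hy : cs y = m) (ht : t ∈ C y)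
    (htZ : t ∉ Subgroup.center G) : cs t = m := by
  by_contra hne
  apply htZ
  apply mem_of_primary_parts (Subgroup.center G) t
  intro p hp b hb ⟨k, hk⟩
  by_contra hbZ
  have hby : b ∈ C y := (Subgroup.zpowers_le.2 ht) hb
  have hpn : p ∣ n := by
    by_contra hpn
    have h1 : b ^ n ∈ Subgroup.center G := h.pow_n_mem_center hy hby
    have hco : n.Coprime (orderOf b) := by
      rw [hk]; exact (coprime_of_prime_pow hp hpn).symm
    obtain ⟨j, hj⟩ := exists_pow_eq_self_of_coprime hco
    apply hbZ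
    rw [← hj]
    exact Subgroup.pow_mem _ h1 j
  have h1 : cs b = m := h.cs_eq_m_of_prime_pow hy hby hbZ hp hpn hk
  have h2 : m ∣ cs t := by rw [← h1]; exact cs_dvd_of_le (C_le_of_mem_zpowers hb)
  exact hne (h.cs_eq_m_of_dvd h2)

/-- every non-central element of `C(x)`, `|x^G| = n`, has class size `n` -/
theorem cs_eq_n_of_mem (h : TC G m n) {x k : G} (hx : cs x = n) (hk : k ∈ C x)
    (hkZ : k ∉ Subgroup.center G) : cs k = n := by
  have hkm : cs k ≠ m := by
    intro hkm
    exact h.not_commute hx hkm (mem_C.1 hk).symm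
  have hle : cs k ≤ n := (h.cs_eq_m_or_le k).resolve_left hkm
  by_contra hne
  have hlt : cs k < n := lt_of_le_of_ne hle hne
  obtain ⟨y, hy⟩ := h.exm
  have h1 : ∃ t ∈ C k ⊓ C y, t ∉ Subgroup.center G := by
    by_contra hcon
    push Not at hcon
    have h2 : C k ⊓ C y = Subgroup.center G :=
      le_antisymm hcon (le_inf (center_le_C k) (center_le_C y))
    have h3 : (C k ⊓ C y).index ≤ (C k).index * (C y).index := Subgroup.index_inf_le
    rw [h2, h.index_center] at h3
    change m * n ≤ cs k * cs y at h3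
    rw [hy] at h3
    have h4 : cs k * m < n * m := Nat.mul_lt_mul_of_pos_right hlt h.m_pos
    rw [mul_comm n m] at h4
    omega
  obtain ⟨t, ht, htZ⟩ := h1
  obtain ⟨htk, hty⟩ := Subgroup.mem_inf.1 ht
  have htm : cs t = m := h.cs_eq_m_of_mem hy hty htZ
  apply hkZ
  rw [← h.inf_eq_center hx htm]
  exact Subgroup.mem_inf.2 ⟨hk, mem_C_comm.1 htk⟩

end TC

end Cfsg.Agent.Helper4.TwoClass
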