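import Mathlib
import Cfsg.Agent.Helper4.TwoClassF

/-!
Two coprime largest class sizes: the centralizers are abelian, `C(x)` is normal, and `C(y)` acts
fixed-point-freely on `C(x)` modulo the centre.
-/

set_option autoImplicit false

namespace Cfsg.Agent.Helper4.TwoClass

variable {G : Type*} [Group G] [Finite G] {m n : ℕ}

namespace TC

/-- the normal closure of a non-central prime-power-order element of `C(x)` lies in `C(a)` for
every `a` of class size `n` -/
theorem normalClosure_le (h : TC G m n) {x a b : G} (hx : cs x = n) (ha : cs a = n)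
    (hb : b ∈ C x) (hbZ : b ∉ Subgroup.center G) {q j : ℕ} (hq : q.Prime)
    (hj : orderOf b = q ^ j) : Subgroup.normalClosure ({b} : Set G) ≤ C a := by
  have hbn : cs b = n := h.cs_eq_n_of_mem hx hb hbZ
  have hqm : q ∣ m := by
    by_contra hqm
    apply hbZ
    apply h.central_m
    · rw [hbn]; exact h.hcop.symm
    · rw [hj]; exact coprime_of_prime_pow hq hqm
  have hqn : ¬ q ∣ n := h.not_dvd_n_of_dvd_m hq hqm
  obtain ⟨y, hy⟩ := h.exm
  have hcop : (cs b).Coprime (cs y) := by rw [hbn, hy]; exact h.hcop.symm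
  have hle : cs (b * y) ≤ cs y := by rw [hy]; exact h.htop _
  obtain ⟨t, ht⟩ := card_normalClosure b y hcop hle q hq j hj
  apply normal_le_of_coprime
  rw [ht]
  change (q ^ t).Coprime (cs a)
  rw [ha]
  exact coprime_of_prime_pow hq hqn

/-- `C(x)` is abelian -/
theorem commute_of_mem_n (h : TC G m n) {x a b : G} (hx : cs x = n) (ha : a ∈ C x)
    (hb : b ∈ C x) : Commute a b := by
  by_cases haZ : a ∈ Subgroup.center G
  · exact (Subgroup.mem_center_iff.1 haZ b).symm
  have han : cs a = n := h.cs_eq_n_of_mem hx ha haZ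
  have hba : b ∈ C a := by
    apply mem_of_primary_parts (C a) b
    intro q hq b' hb' ⟨j, hj⟩
    have hb'x : b' ∈ C x := (Subgroup.zpowers_le.2 hb) hb'
    by_cases hb'Z : b' ∈ Subgroup.center G
    · exact center_le_C a hb'Z
    · exact h.normalClosure_le hx han hb'x hb'Z hq hj (self_mem_normalClosure b')
  exact (mem_C.1 hba).symm

/-- `C(x)` is normal -/
theorem conj_mem_of_mem_n (h : TC G m n) {x k : G} (hx : cs x = n) (hk : k ∈ C x) (g : G) :
    g * k * g⁻¹ ∈ C x := by
  have key : k ∈ (C x).comap (MulAut.conj g).toMonoidHom := by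
    apply mem_of_primary_parts _ k
    intro q hq b' hb' ⟨j, hj⟩
    have hb'x : b' ∈ C x := (Subgroup.zpowers_le.2 hk) hb'
    rw [Subgroup.mem_comap]
    change MulAut.conj g b' ∈ C x
    rw [MulAut.conj_apply]
    by_cases hb'Z : b' ∈ Subgroup.center G
    · exact center_le_C x ((inferInstance : (Subgroup.center G).Normal).conj_mem _ hb'Z g)
    · exact h.normalClosure_le hx hx hb'x hb'Z hq hj (conj_mem_normalClosure b' g)
  rw [Subgroup.mem_comap] at key
  change MulAut.conj g k ∈ C x at key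
  rwa [MulAut.conj_apply] at key

/-- fixed-point-freeness modulo the centre -/
theorem fpf (h : TC G m n) {x y t k : G} (hx : cs x = n) (hy : cs y = m) (ht : t ∈ C y)
    (htZ : t ∉ Subgroup.center G) (hk : k ∈ C x)
    (hz : k * t * k⁻¹ * t⁻¹ ∈ Subgroup.center G) : k ∈ Subgroup.center G := by
  set z := k * t * k⁻¹ * t⁻¹ with hzdef
  have hkt : k * t * k⁻¹ = z * t := by rw [hzdef]; group
  have hzc : ∀ g : G, g * z = z * g := Subgroup.mem_center_iff.1 hz
  have claim1 : ∀ j : ℕ, k ^ j * t * (k ^ j)⁻¹ = z ^ j * t := by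
    intro j
    induction j with
    | zero => simp
    | succ j ih =>
      calc k ^ (j + 1) * t * (k ^ (j + 1))⁻¹ = k * (k ^ j * t * (k ^ j)⁻¹) * k⁻¹ := by
            rw [pow_succ']; group
        _ = k * (z ^ j * t) * k⁻¹ := by rw [ih]
        _ = z ^ j * (k * t * k⁻¹) := by
            have hc : Commute k (z ^ j) := (show Commute k z from hzc k).pow_right j
            calc k * (z ^ j * t) * k⁻¹ = (k * z ^ j) * t * k⁻¹ := by group
              _ = (z ^ j * k) * t * k⁻¹ := by rw [hc.eq]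
              _ = z ^ j * (k * t * k⁻¹) := by group
        _ = z ^ j * (z * t) := by rw [hkt]
        _ = z ^ (j + 1) * t := by rw [pow_succ]; group
  have hzm : z ^ m = 1 := by
    have h1 : k ^ m ∈ Subgroup.center G := h.pow_m_mem_center hx hk
    have h2 := claim1 m
    have h3 : k ^ m * t * (k ^ m)⁻¹ = t := by
      rw [← Subgroup.mem_center_iff.1 h1 t]; group
    rw [h3] at h2
    have h4 : (1 : G) * t = z ^ m * t := by rw [one_mul]; exact h2
    exact (mul_right_cancel h4).symm
  have hzn : z ^ n = 1 := by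
    have h1 : t ^ n ∈ Subgroup.center G := h.pow_n_mem_center hy ht
    have h2 : (k * t * k⁻¹) ^ n = t ^ n := by
      have : (k * t * k⁻¹) ^ n = k * t ^ n * k⁻¹ := conj_pow
      rw [this, Subgroup.mem_center_iff.1 h1 k]; group
    have hc : Commute z t := (hzc t).symm
    rw [hkt, hc.mul_pow] at h2
    have h4 : z ^ n * t ^ n = 1 * t ^ n := by rw [one_mul]; exact h2
    exact mul_right_cancel h4
  have hz1 : z = 1 := by
    have h1 : orderOf z ∣ 1 := by
      have := Nat.dvd_gcd (orderOf_dvd_of_pow_eq_one hzm) (orderOf_dvd_of_pow_eq_one hzn)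
      rwa [Nat.Coprime.gcd_eq_one h.hcop] at this
    exact orderOf_eq_one_iff.1 (Nat.dvd_one.1 h1)
  have hkt' : k ∈ C t := by
    rw [mem_C]
    rw [hz1, one_mul] at hkt
    calc k * t = k * t * k⁻¹ * k := by group
      _ = t * k := by rw [hkt]
  have htm : cs t = m := h.cs_eq_m_of_mem hy ht htZ
  rw [← h.inf_eq_center hx htm]
  exact Subgroup.mem_inf.2 ⟨hk, hkt'⟩

/-- `C(y)` is abelian -/
theorem commute_of_mem_m (h : TC G m n) {y a b : G} (hy : cs y = m) (ha : a ∈ C y)
    (hb : b ∈ C y) : Commute a b := by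
  by_cases haZ : a ∈ Subgroup.center G
  · exact (Subgroup.mem_center_iff.1 haZ b).symm
  have ham : cs a = m := h.cs_eq_m_of_mem hy ha haZ
  obtain ⟨x, hx⟩ := h.exn
  have hcop : (cs x).Coprime (cs a) := by rw [hx, ham]; exact h.hcop.symm
  obtain ⟨k, hk, hka⟩ := exists_mem_C_conj_eq x a hcop b
  have hz1 : k * a * k⁻¹ * a⁻¹ ∈ C y := by
    rw [hka]
    exact (C y).mul_mem ((C y).mul_mem ((C y).mul_mem hb ha) ((C y).inv_mem hb)) ((C y).inv_mem ha)
  have hz2 : k * a * k⁻¹ * a⁻¹ ∈ C x := by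
    have h1 : a * k⁻¹ * a⁻¹ ∈ C x := h.conj_mem_of_mem_n hx ((C x).inv_mem hk) a
    have h2 : k * a * k⁻¹ * a⁻¹ = k * (a * k⁻¹ * a⁻¹) := by group
    rw [h2]
    exact (C x).mul_mem hk h1
  have hz : k * a * k⁻¹ * a⁻¹ ∈ Subgroup.center G := by
    rw [← h.inf_eq_center hx hy]
    exact Subgroup.mem_inf.2 ⟨hz2, hz1⟩
  have hkZ : k ∈ Subgroup.center G := h.fpf hx hy ha haZ hk hz
  have h3 : k * a * k⁻¹ = a := by
    rw [← Subgroup.mem_center_iff.1 hkZ a]; group
  rw [h3] at hka
  -- b * a * b⁻¹ = a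
  have : b * a = a * b := by
    calc b * a = b * a * b⁻¹ * b := by group
      _ = a * b := by rw [← hka]
  exact this.symm

end TC

end Cfsg.Agent.Helper4.TwoClass
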