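import Mathlib
import Cfsg.Agent.Helper4.TwoClassG
import Cfsg.Agent.Helper1.Frobenius

/-!
Two coprime largest class sizes: `G / Z(G)` is a Frobenius group with kernel `C(x)/Z(G)` and
complement `C(y)/Z(G)`.
-/

set_option autoImplicit false

namespace Cfsg.Agent.Helper4.TwoClass

open scoped Pointwise

variable {G : Type*} [Group G]

theorem mem_conj_smul_map (N H : Subgroup G) [N.Normal] (g t : G) :
    (QuotientGroup.mk' N t) ∈ MulAut.conj (QuotientGroup.mk' N g) • H.map (QuotientGroup.mk' N) ↔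
      ∃ t' ∈ H, t'⁻¹ * (g⁻¹ * t * g) ∈ N := by
  rw [Subgroup.mem_pointwise_smul_iff_inv_smul_mem, MulAut.smul_def, MulAut.conj_inv_apply,
    Subgroup.mem_map]
  have e : (QuotientGroup.mk' N g)⁻¹ * QuotientGroup.mk' N t * QuotientGroup.mk' N g
      = QuotientGroup.mk' N (g⁻¹ * t * g) := by
    rw [map_mul, map_mul, map_inv]
  rw [e]
  constructor
  · rintro ⟨t', ht', he⟩
    refine ⟨t', ht', ?_⟩
    rw [QuotientGroup.mk'_apply, QuotientGroup.mk'_apply] at he
    exact QuotientGroup.eq.1 he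
  · rintro ⟨t', ht', he⟩
    refine ⟨t', ht', ?_⟩
    rw [QuotientGroup.mk'_apply, QuotientGroup.mk'_apply]
    exact QuotientGroup.eq.2 he

variable [Finite G] {m n : ℕ}

namespace TC

theorem isFrobeniusComplement (h : TC G m n) {x y : G} (hx : cs x = n) (hy : cs y = m) :
    Cfsg.IsFrobeniusComplement ((C y).map (QuotientGroup.mk' (Subgroup.center G))) := by
  refine ⟨?_, ?_, ?_⟩
  · intro hbot
    have h1 : QuotientGroup.mk' (Subgroup.center G) y ∈
        (C y).map (QuotientGroup.mk' (Subgroup.center G)) :=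
      Subgroup.mem_map_of_mem _ (self_mem_C y)
    rw [hbot, Subgroup.mem_bot, QuotientGroup.mk'_apply, QuotientGroup.eq_one_iff] at h1
    exact h.not_mem_center_of_m hy h1
  · intro htop
    have h1 : QuotientGroup.mk' (Subgroup.center G) x ∈
        (C y).map (QuotientGroup.mk' (Subgroup.center G)) := by rw [htop]; trivial
    obtain ⟨t, ht, hte⟩ := Subgroup.mem_map.1 h1
    rw [QuotientGroup.mk'_apply, QuotientGroup.mk'_apply] at hte
    have h2 : t⁻¹ * x ∈ Subgroup.center G := QuotientGroup.eq.1 hte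
    have h3 : x ∈ C y := by
      have : x = t * (t⁻¹ * x) := by group
      rw [this]
      exact (C y).mul_mem ht (center_le_C y h2)
    exact h.not_commute hx hy (mem_C.1 h3)
  · intro gbar hgbar
    rw [eq_bot_iff]
    intro tbar htbar
    obtain ⟨ht1, ht2⟩ := Subgroup.mem_inf.1 htbar
    obtain ⟨g, rfl⟩ := QuotientGroup.mk'_surjective _ gbar
    obtain ⟨t₁, ht₁, rfl⟩ := Subgroup.mem_map.1 ht1
    rw [mem_conj_smul_map] at ht2
    obtain ⟨t₂, ht₂, hz₀⟩ := ht2
    rw [Subgroup.mem_bot, QuotientGroup.mk'_apply, QuotientGroup.eq_one_iff]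
    by_contra ht₁Z
    apply hgbar
    have hcop : (cs x).Coprime (cs y) := by rw [hx, hy]; exact h.hcop.symm
    obtain ⟨k, hk, d, hd, hgkd⟩ := exists_mul_of_coprime x y hcop g
    set z₀ := t₂⁻¹ * (g⁻¹ * t₁ * g) with hz₀def
    have hz₀y : z₀ ∈ C y := center_le_C y hz₀
    -- k⁻¹ t₁ k = d t₂ z₀ d⁻¹
    have h1 : k⁻¹ * t₁ * k⁻¹⁻¹ * t₁⁻¹ = d * (t₂ * z₀) * d⁻¹ * t₁⁻¹ := by
      rw [hz₀def, hgkd]; group
    have h2 : k⁻¹ * t₁ * k⁻¹⁻¹ * t₁⁻¹ ∈ C y := by
      rw [h1]
      exact (C y).mul_mem ((C y).mul_mem ((C y).mul_mem hd ((C y).mul_mem ht₂ hz₀y))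
        ((C y).inv_mem hd)) ((C y).inv_mem ht₁)
    have h3 : k⁻¹ * t₁ * k⁻¹⁻¹ * t₁⁻¹ ∈ C x := by
      have h4 : t₁ * k * t₁⁻¹ ∈ C x := h.conj_mem_of_mem_n hx hk t₁
      have h5 : k⁻¹ * t₁ * k⁻¹⁻¹ * t₁⁻¹ = k⁻¹ * (t₁ * k * t₁⁻¹) := by group
      rw [h5]
      exact (C x).mul_mem ((C x).inv_mem hk) h4
    have h6 : k⁻¹ * t₁ * k⁻¹⁻¹ * t₁⁻¹ ∈ Subgroup.center G := by
      rw [← h.inf_eq_center hx hy]
      exact Subgroup.mem_inf.2 ⟨h3, h2⟩
    have h7 : k⁻¹ ∈ Subgroup.center G := h.fpf hx hy ht₁ ht₁Z ((C x).inv_mem hk) h6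
    have h8 : k ∈ C y := by
      have := (Subgroup.center G).inv_mem h7
      rw [inv_inv] at this
      exact center_le_C y this
    rw [hgkd]
    exact Subgroup.mem_map_of_mem _ ((C y).mul_mem h8 hd)

theorem frobeniusKernel_eq (h : TC G m n) {x y : G} (hx : cs x = n) (hy : cs y = m) :
    Cfsg.frobeniusKernel ((C y).map (QuotientGroup.mk' (Subgroup.center G))) =
      ((C x).map (QuotientGroup.mk' (Subgroup.center G)) : Set (G ⧸ Subgroup.center G)) := by
  have hsub : ((C x).map (QuotientGroup.mk' (Subgroup.center G)) : Set (G ⧸ Subgroup.center G)) ⊆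
      Cfsg.frobeniusKernel ((C y).map (QuotientGroup.mk' (Subgroup.center G))) := by
    intro tbar htbar
    obtain ⟨k, hk, rfl⟩ := Subgroup.mem_map.1 htbar
    unfold Cfsg.frobeniusKernel
    by_cases hkZ : k ∈ Subgroup.center G
    · left
      rw [QuotientGroup.mk'_apply, QuotientGroup.eq_one_iff]
      exact hkZ
    · right
      intro gbar hmem
      obtain ⟨g, rfl⟩ := QuotientGroup.mk'_surjective _ gbar
      rw [mem_conj_smul_map] at hmem
      obtain ⟨t, ht, hz₀⟩ := hmem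
      apply hkZ
      have h1 : g⁻¹ * k * g ∈ C x := by
        have := h.conj_mem_of_mem_n hx hk g⁻¹
        rwa [inv_inv] at this
      have h2 : t ∈ C x := by
        have e : t = (g⁻¹ * k * g) * (t⁻¹ * (g⁻¹ * k * g))⁻¹ := by group
        rw [e]
        exact (C x).mul_mem h1 ((C x).inv_mem (center_le_C x hz₀))
      have h3 : t ∈ Subgroup.center G := by
        rw [← h.inf_eq_center hx hy]
        exact Subgroup.mem_inf.2 ⟨h2, ht⟩
      have h4 : g⁻¹ * k * g ∈ Subgroup.center G := by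
        have e : g⁻¹ * k * g = t * (t⁻¹ * (g⁻¹ * k * g)) := by group
        rw [e]
        exact (Subgroup.center G).mul_mem h3 hz₀
      have h5 : g⁻¹ * k * g⁻¹⁻¹ ∈ Subgroup.center G := by rwa [inv_inv]
      exact mem_center_of_conj_mem h5
  have hF := h.isFrobeniusComplement hx hy
  have hcount := (Cfsg.Agent.Helper1.frobenius_count _ hF).1
  have hidx : ((C y).map (QuotientGroup.mk' (Subgroup.center G))).index = m := by
    rw [Subgroup.index_map_eq (C y) (QuotientGroup.mk'_surjective _)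
      (by rw [QuotientGroup.ker_mk']; exact center_le_C y)]
    exact hy
  have hcardK : Nat.card ((C x).map (QuotientGroup.mk' (Subgroup.center G))) = m := by
    have := Subgroup.relIndex_ker (QuotientGroup.mk' (Subgroup.center G)) (K := C x)
    rw [QuotientGroup.ker_mk'] at this
    rw [← this]
    exact h.relIndex_center_n hx
  symm
  apply Set.eq_of_subset_of_ncard_le hsub _ (Set.toFinite _)
  rw [← Nat.card_coe_set_eq, ← Nat.card_coe_set_eq, hcount, hidx]
  exact le_of_eq hcardK.symm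

end TC

end Cfsg.Agent.Helper4.TwoClass
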