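import Mathlib
import Cfsg.Agent.Helper4.TwoClassH
import Cfsg.Agent.Helper4.ConjUnion

/-!
Groups whose class sizes split into `σ`-numbers and `σ'`-numbers (disconnected class-size prime
graph).  Part A: the normal `σ`-subgroup `M` (left stabilizer of a largest class), Sylow
`p`-subgroups for `p ∉ σ` are central modulo `M`, and normal `p`-complements.
-/

set_option autoImplicit false

namespace Cfsg.Agent.Helper4.DiscGraph

open Cfsg.Agent.Helper4.TwoClass Subgroup

/-- all prime divisors of `k` lie in `σ` -/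
def IsNum (σ : Set ℕ) (k : ℕ) : Prop := ∀ p : ℕ, p.Prime → p ∣ k → p ∈ σ

theorem IsNum.coprime {σ : Set ℕ} {k l : ℕ} (hk : IsNum σ k) (hl : IsNum σᶜ l) : k.Coprime l :=
  Nat.coprime_of_dvd (fun p hp h1 h2 => hl p hp h2 (hk p hp h1))

theorem IsNum.of_dvd {σ : Set ℕ} {k l : ℕ} (hk : IsNum σ k) (h : l ∣ k) : IsNum σ l :=
  fun p hp hd => hk p hp (hd.trans h)

theorem IsNum.eq_one {σ : Set ℕ} {k : ℕ} (h1 : IsNum σ k) (h2 : IsNum σᶜ k) : k = 1 := by
  by_contra h
  obtain ⟨p, hp, hd⟩ := Nat.exists_prime_and_dvd h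
  exact h2 p hp hd (h1 p hp hd)

theorem isNum_one (σ : Set ℕ) : IsNum σ 1 := by
  intro p hp hd
  exact absurd (Nat.dvd_one.1 hd) hp.ne_one

variable {G : Type*} [Group G]

/-- the hypotheses: every class size is a `σ`-number or a `σ'`-number, a largest class size is a
`σ`-number, and some nontrivial class size is a `σ'`-number -/
structure Hyp (G : Type*) [Group G] (σ : Set ℕ) (b0 : G) : Prop where
  dich : ∀ g : G, IsNum σ (cs g) ∨ IsNum σᶜ (cs g)
  top : ∀ z : G, cs z ≤ cs b0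
  b0σ : IsNum σ (cs b0)
  exK : ∃ a : G, 1 < cs a ∧ IsNum σᶜ (cs a)

variable [Finite G] {σ : Set ℕ} {b0 : G}

set_option linter.unusedSectionVars false

namespace Hyp

/-- the normal subgroup `M` -/
abbrev M (_h : Hyp G σ b0) : Subgroup G := classStab b0

theorem isNum_card_M (h : Hyp G σ b0) : IsNum σ (Nat.card h.M) :=
  h.b0σ.of_dvd (card_classStab_dvd b0)

theorem comm_mem_M (h : Hyp G σ b0) {a : G} (ha : IsNum σᶜ (cs a)) (g : G) :
    a⁻¹ * (g * a * g⁻¹) ∈ h.M :=
  inv_mul_conj_mem_classStab a b0 (h.b0σ.coprime ha).symm (h.top _) g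

theorem M_le_C (h : Hyp G σ b0) {a : G} (ha : IsNum σᶜ (cs a)) : h.M ≤ C a :=
  normal_le_of_coprime _ _ (h.isNum_card_M.coprime ha)

/-- the preimage of the centralizer of the image of `P` modulo `M` -/
noncomputable def cstar (h : Hyp G σ b0) (P : Subgroup G) : Subgroup G :=
  (centralizer ((P.map (QuotientGroup.mk' h.M) : Subgroup (G ⧸ h.M)) : Set (G ⧸ h.M))).comap
    (QuotientGroup.mk' h.M)

theorem mem_cstar_of_comm (h : Hyp G σ b0) (P : Subgroup G) (y : G)
    (hy : ∀ u ∈ P, (u * y)⁻¹ * (y * u) ∈ h.M) : y ∈ h.cstar P := by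
  unfold cstar
  rw [mem_comap, mem_centralizer_iff]
  intro k hk
  obtain ⟨u, hu, rfl⟩ := Subgroup.mem_map.1 hk
  rw [← map_mul, ← map_mul, QuotientGroup.mk'_apply, QuotientGroup.mk'_apply, QuotientGroup.eq]
  exact hy u hu

theorem comm_of_mem_cstar (h : Hyp G σ b0) (P : Subgroup G) (y : G) (hy : y ∈ h.cstar P)
    (u : G) (hu : u ∈ P) : (u * y)⁻¹ * (y * u) ∈ h.M := by
  unfold cstar at hy
  rw [mem_comap, mem_centralizer_iff] at hy
  have := hy _ (Subgroup.mem_map_of_mem _ hu)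
  rw [← map_mul, ← map_mul, QuotientGroup.mk'_apply, QuotientGroup.mk'_apply, QuotientGroup.eq] at this
  exact this

theorem cstar_eq_top (h : Hyp G σ b0) (p : ℕ) [Fact p.Prime] (hp : p ∉ σ) (P : Sylow p G) :
    h.cstar (P : Subgroup G) = ⊤ := by
  by_contra hne
  obtain ⟨g, hg⟩ := exists_not_mem_conj _ hne
  rcases h.dich g with hσ | hσ'
  · have hnd : ¬ p ∣ (C g).index := fun hd => hp (hσ p Fact.out hd)
    obtain ⟨P', hP'⟩ := exists_sylow_le_of_not_dvd_index p (C g) hnd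
    obtain ⟨x, hx⟩ := MulAction.exists_smul_eq G P P'
    apply hg x
    apply h.mem_cstar_of_comm
    intro u hu
    have h1 : x * u * x⁻¹ ∈ (P' : Subgroup G) := by
      have h0 : x * u * x⁻¹ ∈ x • P := by
        rw [Cfsg.Agent.Helper4.mem_sylow_smul_iff]
        have : x⁻¹ * (x * u * x⁻¹) * x = u := by group
        rw [this]; exact hu
      rw [hx] at h0
      exact h0
    have h2 := mem_C.1 (hP' h1)
    have h3 : u * (x⁻¹ * g * x) = (x⁻¹ * g * x) * u := by
      have : x * u * x⁻¹ * g = g * (x * u * x⁻¹) := h2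
      calc u * (x⁻¹ * g * x) = x⁻¹ * (x * u * x⁻¹ * g) * x := by group
        _ = x⁻¹ * (g * (x * u * x⁻¹)) * x := by rw [this]
        _ = (x⁻¹ * g * x) * u := by group
    rw [h3, inv_mul_cancel]
    exact one_mem _
  · apply hg 1
    have : (1 : G)⁻¹ * g * 1 = g := by group
    rw [this]
    apply h.mem_cstar_of_comm
    intro u hu
    have := h.comm_mem_M hσ' u⁻¹
    have h4 : (u * g)⁻¹ * (g * u) = g⁻¹ * (u⁻¹ * g * u⁻¹⁻¹) := by group
    rw [h4]; exact this

end Hyp

end Cfsg.Agent.Helper4.DiscGraph
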