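import Mathlib
import Cfsg.Agent.Helper4.DiscGraphA

/-!
Diameter of the class-size prime graph, part A.

Local hypotheses `DHyp G p τ b0`: the elements `a` whose class size is divisible by `p` have class
sizes all of whose prime divisors avoid `τ` ("far" primes), no class size is divisible both by a
prime occurring in such a class size and by a prime of `τ`, the class size of `b0` is a `τ`-number
exceeding all class sizes divisible by `p`.

The normal subgroup `N` generated by the `a⁻¹ a^g` (`p ∣ |a^G|`) is a `τ`-group, centralized by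
every `a` with `p ∣ |a^G|`.
-/

set_option autoImplicit false

namespace Cfsg.Agent.Helper4.Diam

open Cfsg.Agent.Helper4.TwoClass Cfsg.Agent.Helper4.DiscGraph Subgroup

variable {G : Type*} [Group G]

/-- the local hypotheses -/
structure DHyp (G : Type*) [Group G] (p : ℕ) (τ : Set ℕ) (b0 : G) : Prop where
  hp : p.Prime
  exA : ∃ a : G, p ∣ cs a
  sep : ∀ (g a : G) (r s : ℕ), r.Prime → s.Prime → p ∣ cs a → r ∣ cs a → s ∈ τ →
    r ∣ cs g → s ∣ cs g → False
  b0τ : IsNum τ (cs b0)
  lt : ∀ a : G, p ∣ cs a → cs a < cs b0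

variable {p : ℕ} {τ : Set ℕ} {b0 : G}

set_option linter.unusedSectionVars false

namespace DHyp

/-- the generating set of `N` -/
def gens (_h : DHyp G p τ b0) : Set G :=
  {t | ∃ a g : G, p ∣ cs a ∧ t = a⁻¹ * (g * a * g⁻¹)}

/-- the normal subgroup `N` -/
def N (h : DHyp G p τ b0) : Subgroup G := Subgroup.normalClosure h.gens

instance N_normal (h : DHyp G p τ b0) : h.N.Normal := by
  unfold N; infer_instance

theorem comm_mem_N (h : DHyp G p τ b0) {a : G} (ha : p ∣ cs a) (g : G) :
    a⁻¹ * (g * a * g⁻¹) ∈ h.N :=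
  Subgroup.subset_normalClosure ⟨a, g, ha, rfl⟩

/-- class sizes divisible by `p` are `τ'`-numbers -/
theorem isNum_cs (h : DHyp G p τ b0) {a : G} (ha : p ∣ cs a) : IsNum τᶜ (cs a) := by
  intro r hr hd hrτ
  exact h.sep a a r r hr hr ha hd hrτ hd hd

theorem coprime_cs (h : DHyp G p τ b0) {a : G} (ha : p ∣ cs a) {w : G} (hw : IsNum τ (cs w)) :
    (cs a).Coprime (cs w) :=
  (hw.coprime (h.isNum_cs ha)).symm

/-- the dichotomy for a product of an element `a` with `p ∣ |a^G|` and an element `w` whose class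
size is a `τ`-number -/
theorem dvd_or_dvd [Finite G] (h : DHyp G p τ b0) {a : G} (ha : p ∣ cs a) {w : G}
    (hw : IsNum τ (cs w)) : cs (a * w) ∣ cs w ∨ cs (a * w) ∣ cs a := by
  have hcop := h.coprime_cs ha hw
  have hdvd : cs (a * w) ∣ cs a * cs w := by
    have h1 : C a ⊓ C w ≤ C (a * w) := by
      intro k hk
      obtain ⟨h1, h2⟩ := Subgroup.mem_inf.1 hk
      rw [mem_C] at h1 h2 ⊢
      exact (show Commute k a from h1).mul_right h2
    have h2 := Subgroup.index_dvd_of_le h1
    rwa [index_inf_of_coprime (C a) (C w) hcop] at h2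
  by_cases hc : (cs (a * w)).Coprime (cs a)
  · left
    exact hc.dvd_of_dvd_mul_left hdvd
  · right
    have hc2 : (cs (a * w)).Coprime (cs w) := by
      apply Nat.coprime_of_dvd
      intro s hs hs1 hs2
      apply hc
      apply Nat.coprime_of_dvd
      intro r hr hr1 hr2
      exact h.sep (a * w) a r s hr hs ha hr2 (hw s hs hs2) hr1 hs1
    exact hc2.dvd_of_dvd_mul_right hdvd

theorem cs_le_cs_mul [Finite G] (a w : G) (hcop : (cs a).Coprime (cs w)) :
    cs w ≤ cs (a * w) := by
  classical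
  unfold cs
  rw [index_centralizer_eq_card_conj, index_centralizer_eq_card_conj]
  let f : {v : G // IsConj w v} → {u : G // IsConj (a * w) u} := fun v =>
    ⟨a * v, by
      obtain ⟨k, hk⟩ := isConj_iff.1 v.2
      obtain ⟨c, hc, hcw⟩ := exists_mem_C_conj_eq a w hcop k
      rw [mem_C] at hc
      rw [isConj_iff]
      refine ⟨c, ?_⟩
      rw [← hk, ← hcw]
      calc c * (a * w) * c⁻¹ = c * a * w * c⁻¹ := by group
        _ = a * c * w * c⁻¹ := by rw [hc]
        _ = a * (c * w * c⁻¹) := by group⟩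
  have hinj : Function.Injective f := by
    intro v v' hv
    have : a * (v : G) = a * (v' : G) := congrArg Subtype.val hv
    exact Subtype.ext (mul_left_cancel this)
  exact Nat.card_le_card_of_injective f hinj

theorem cs_mul_comm (a w : G) : cs (a * w) = cs (w * a) := by
  have h : w * a = a⁻¹ * (a * w) * a⁻¹⁻¹ := by group
  rw [h, cs_conj]

theorem cs_mul_b0 [Finite G] (h : DHyp G p τ b0) {a : G} (ha : p ∣ cs a) :
    cs (a * b0) ≤ cs b0 := by
  rcases h.dvd_or_dvd ha h.b0τ with h1 | h1
  · exact Nat.le_of_dvd (cs_pos _) h1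
  · exfalso
    have h2 := Nat.le_of_dvd (cs_pos _) h1
    have h3 := cs_le_cs_mul a b0 (h.coprime_cs ha h.b0τ)
    have h4 := h.lt a ha
    omega

theorem N_le_classStab [Finite G] (h : DHyp G p τ b0) : h.N ≤ classStab b0 := by
  apply Subgroup.normalClosure_le_normal
  rintro t ⟨a, g, ha, rfl⟩
  exact inv_mul_conj_mem_classStab a b0 (h.coprime_cs ha h.b0τ) (h.cs_mul_b0 ha) g

theorem card_N_dvd [Finite G] (h : DHyp G p τ b0) : Nat.card h.N ∣ cs b0 :=
  (Subgroup.card_dvd_of_le h.N_le_classStab).trans (card_classStab_dvd b0)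

theorem isNum_card_N [Finite G] (h : DHyp G p τ b0) : IsNum τ (Nat.card h.N) :=
  h.b0τ.of_dvd h.card_N_dvd

theorem N_le_C [Finite G] (h : DHyp G p τ b0) {a : G} (ha : p ∣ cs a) : h.N ≤ C a :=
  normal_le_of_coprime _ _ (h.isNum_card_N.coprime (h.isNum_cs ha))

theorem not_dvd_card_N [Finite G] (h : DHyp G p τ b0) : ¬ p ∣ Nat.card h.N := by
  intro hd
  obtain ⟨a, ha⟩ := h.exA
  exact h.isNum_cs ha p h.hp ha (h.isNum_card_N p h.hp hd)

theorem N_ne_bot [Finite G] (h : DHyp G p τ b0) : h.N ≠ ⊥ := by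
  intro hbot
  obtain ⟨a, ha⟩ := h.exA
  have h1 : cs a = 1 := by
    rw [cs_eq_one_iff, Subgroup.mem_center_iff]
    intro g
    have h2 := h.comm_mem_N ha g
    rw [hbot, Subgroup.mem_bot] at h2
    have h3 : g * a * g⁻¹ = a := by
      have := congrArg (fun t => a * t) h2
      simpa using this
    calc g * a = g * a * g⁻¹ * g := by group
      _ = a * g := by rw [h3]
  rw [h1] at ha
  exact h.hp.one_lt.ne' (Nat.dvd_one.1 ha)

/-- an element not centralizing `N` has class size divisible by a prime of `τ` -/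
theorem exists_prime_of_not_le [Finite G] (h : DHyp G p τ b0) {g : G} (hg : ¬ h.N ≤ C g) :
    ∃ s : ℕ, s.Prime ∧ s ∈ τ ∧ s ∣ cs g := by
  by_contra hcon
  push Not at hcon
  apply hg
  apply normal_le_of_coprime
  apply Nat.coprime_of_dvd
  intro s hs hs1 hs2
  exact hcon s hs (h.isNum_card_N s hs hs1) hs2

end DHyp

end Cfsg.Agent.Helper4.Diam
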