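import Mathlib
import Cfsg.Agent.Helper4.DiscGraphA

/-!
Part B: normal `p`-complements for `p ∉ σ`, and the normal Hall `σ`-subgroup `G₀` (the set of
`σ`-elements).
-/

set_option autoImplicit false

namespace Cfsg.Agent.Helper4.DiscGraph

open Cfsg.Agent.Helper4.TwoClass Subgroup

variable {G : Type*} [Group G] [Finite G] {σ : Set ℕ} {b0 : G}

set_option linter.unusedSectionVars false

namespace Hyp

theorem sylow_inf_M (h : Hyp G σ b0) (p : ℕ) [Fact p.Prime] (hp : p ∉ σ) (P : Sylow p G) :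
    (P : Subgroup G) ⊓ h.M = ⊥ := by
  apply Subgroup.inf_eq_bot_of_coprime
  obtain ⟨n, hn⟩ := IsPGroup.exists_card_eq P.2
  rw [hn]
  exact Nat.Coprime.pow_left n ((Nat.Prime.coprime_iff_not_dvd Fact.out).2
    (fun hd => hp (h.isNum_card_M p Fact.out hd)))

/-- for `g : G` and `u ∈ P` (Sylow for `p ∉ σ`), the commutator lies in `M` -/
theorem comm_sylow_mem_M (h : Hyp G σ b0) (p : ℕ) [Fact p.Prime] (hp : p ∉ σ) (P : Sylow p G)
    (x u : G) (hu : u ∈ P) : (u * x)⁻¹ * (x * u) ∈ h.M := by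
  have hx' : x ∈ h.cstar P := by rw [h.cstar_eq_top p hp P]; exact mem_top _
  exact h.comm_of_mem_cstar P x hx' u hu

theorem normalizer_le_centralizer (h : Hyp G σ b0) (p : ℕ) [Fact p.Prime] (hp : p ∉ σ)
    (P : Sylow p G) :
    normalizer ((P : Subgroup G) : Set G) ≤ centralizer ((P : Subgroup G) : Set G) := by
  intro x hx
  rw [mem_centralizer_iff]
  intro u hu
  have hw := h.comm_sylow_mem_M p hp P x u hu
  have hwP : (u * x)⁻¹ * (x * u) ∈ (P : Subgroup G) := by
    have h0 : (u * x)⁻¹ * (x * u) = (x⁻¹ * u⁻¹ * x) * u := by group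
    rw [h0]
    refine mul_mem ?_ hu
    apply (mem_normalizer_iff.1 hx (x⁻¹ * u⁻¹ * x)).2
    have h1 : x * (x⁻¹ * u⁻¹ * x) * x⁻¹ = u⁻¹ := by group
    rw [h1]; exact inv_mem hu
  have hmem : (u * x)⁻¹ * (x * u) ∈ (P : Subgroup G) ⊓ h.M := ⟨hwP, hw⟩
  rw [h.sylow_inf_M p hp P, mem_bot] at hmem
  exact inv_mul_eq_one.1 hmem

/-- membership in a normal `p`-complement -/
theorem exists_normal_compl (h : Hyp G σ b0) (p : ℕ) [Fact p.Prime] (hp : p ∉ σ) :
    ∃ K : Subgroup G, K.Normal ∧ ∀ g : G, g ∈ K ↔ ¬ p ∣ orderOf g := by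
  obtain ⟨P⟩ : Nonempty (Sylow p G) := inferInstance
  have hP := h.normalizer_le_centralizer p hp P
  refine ⟨(MonoidHom.transferSylow P hP).ker, inferInstance, ?_⟩
  have hc := MonoidHom.ker_transferSylow_isComplement' P hP
  have hcard : Nat.card (MonoidHom.transferSylow P hP).ker = (P : Subgroup G).index := by
    have h1 := hc.card_mul
    have h2 := (P : Subgroup G).card_mul_index
    have h3 : 0 < Nat.card (P : Subgroup G) := Nat.card_pos
    have : Nat.card (MonoidHom.transferSylow P hP).ker * Nat.card (P : Subgroup G)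
        = (P : Subgroup G).index * Nat.card (P : Subgroup G) := by
      rw [h1, mul_comm, h2]
    exact Nat.eq_of_mul_eq_mul_right h3 this
  intro g
  constructor
  · intro hg hd
    have h1 : orderOf g ∣ Nat.card (MonoidHom.transferSylow P hP).ker := by
      have := orderOf_dvd_natCard (⟨g, hg⟩ : (MonoidHom.transferSylow P hP).ker)
      rwa [Subgroup.orderOf_mk] at this
    rw [hcard] at h1
    exact P.not_dvd_index (hd.trans h1)
  · intro hg
    rw [MonoidHom.mem_ker]
    obtain ⟨k, hk⟩ := IsPGroup.iff_orderOf.mp P.2 (MonoidHom.transferSylow P hP g)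
    have h1 : orderOf (MonoidHom.transferSylow P hP g) ∣ orderOf g := orderOf_map_dvd _ g
    rw [hk] at h1
    rcases k with _ | k
    · rw [pow_zero, orderOf_eq_one_iff] at hk
      exact hk
    · exfalso
      exact hg ((dvd_pow_self p (Nat.succ_ne_zero k)).trans h1)

/-- the normal Hall `σ`-subgroup: the `σ`-elements form a subgroup -/
noncomputable def G0 (h : Hyp G σ b0) : Subgroup G where
  carrier := {g | ∀ p : ℕ, p.Prime → p ∣ orderOf g → p ∈ σ}
  one_mem' := by
    intro p hp hd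
    rw [orderOf_one] at hd
    exact absurd (Nat.dvd_one.1 hd) hp.ne_one
  inv_mem' := by
    intro g hg p hp hd
    rw [orderOf_inv] at hd
    exact hg p hp hd
  mul_mem' := by
    intro a b ha hb p hp hd
    by_contra hpσ
    haveI := Fact.mk hp
    obtain ⟨K, _, hK⟩ := h.exists_normal_compl p hpσ
    have h1 : a ∈ K := (hK a).2 (fun hd => hpσ (ha p hp hd))
    have h2 : b ∈ K := (hK b).2 (fun hd => hpσ (hb p hp hd))
    exact (hK (a * b)).1 (K.mul_mem h1 h2) hd

theorem mem_G0 (h : Hyp G σ b0) {g : G} :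
    g ∈ h.G0 ↔ ∀ p : ℕ, p.Prime → p ∣ orderOf g → p ∈ σ := Iff.rfl

instance G0_normal (h : Hyp G σ b0) : h.G0.Normal := by
  constructor
  intro g hg x p hp hd
  have : orderOf (x * g * x⁻¹) = orderOf g := by
    have := orderOf_map_dvd (MulAut.conj x).toMonoidHom g
    exact orderOf_injective (MulAut.conj x).toMonoidHom (MulAut.conj x).injective g
  rw [this] at hd
  exact hg p hp hd

theorem isNum_card_G0 (h : Hyp G σ b0) : IsNum σ (Nat.card h.G0) := by
  intro p hp hd
  haveI := Fact.mk hp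
  obtain ⟨x, hx⟩ := exists_prime_orderOf_dvd_card' p hd
  have h1 : orderOf (x : G) = p := by rw [Subgroup.orderOf_coe]; exact hx
  exact x.2 p hp (by rw [h1])

theorem isNum_index_G0 (h : Hyp G σ b0) : IsNum σᶜ h.G0.index := by
  intro q hq hd hqσ
  haveI := Fact.mk hq
  obtain ⟨Q⟩ : Nonempty (Sylow q G) := inferInstance
  have hQ : (Q : Subgroup G) ≤ h.G0 := by
    intro u hu p hp hpd
    obtain ⟨k, hk⟩ := Cfsg.Agent.Helper4.orderOf_eq_pow_of_mem_pgroup (Q : Subgroup G) Q.2 u hu
    rw [hk] at hpd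
    have := (Nat.prime_dvd_prime_iff_eq hp hq).1 (hp.dvd_of_dvd_pow hpd)
    rw [this]; exact hqσ
  exact Q.not_dvd_index (hd.trans (Subgroup.index_dvd_of_le hQ))

theorem M_le_G0 (h : Hyp G σ b0) : h.M ≤ h.G0 := by
  intro u hu p hp hd
  have h1 : orderOf u ∣ Nat.card h.M := by
    have := orderOf_dvd_natCard (⟨u, hu⟩ : h.M)
    rwa [Subgroup.orderOf_mk] at this
  exact h.isNum_card_M p hp (hd.trans h1)

/-- elements with `σ'`-class size centralize `G₀` -/
theorem G0_le_C (h : Hyp G σ b0) {a : G} (ha : IsNum σᶜ (cs a)) : h.G0 ≤ C a :=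
  normal_le_of_coprime _ _ (h.isNum_card_G0.coprime ha)

end Hyp

end Cfsg.Agent.Helper4.DiscGraph
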