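import Mathlib
import Cfsg.Agent.Helper4.DiscGraphB

/-!
Part C: `σ'`-elements with `σ'`-class size are central; all Sylow `p`-subgroups (`p ∉ σ`) are
conjugate under `M`; `G₀ = Z(G₀) C_{G₀}(P)`.
-/

set_option autoImplicit false

namespace Cfsg.Agent.Helper4.DiscGraph

open Cfsg.Agent.Helper4.TwoClass Subgroup

variable {G : Type*} [Group G] [Finite G] {σ : Set ℕ} {b0 : G}

set_option linter.unusedSectionVars false

namespace Hyp

theorem orderOf_dvd_card_M (h : Hyp G σ b0) {u : G} (hu : u ∈ h.M) : orderOf u ∣ Nat.card h.M := by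
  have := orderOf_dvd_natCard (⟨u, hu⟩ : h.M)
  rwa [Subgroup.orderOf_mk] at this

/-- a `σ'`-element whose class size is a `σ'`-number is central -/
theorem central_of_isPi' (h : Hyp G σ b0) {a : G} (ha : IsNum σᶜ (cs a))
    (ha' : ∀ p : ℕ, p.Prime → p ∣ orderOf a → p ∉ σ) : a ∈ center G := by
  rw [Subgroup.mem_center_iff]
  intro g
  obtain ⟨u, hu⟩ : ∃ u : G, u = a⁻¹ * (g * a * g⁻¹) := ⟨_, rfl⟩
  have huM : u ∈ h.M := by rw [hu]; exact h.comm_mem_M ha g
  have hcomm : Commute a u := (mem_C.1 (h.M_le_C ha huM)).symm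
  have hcop : (orderOf a).Coprime (orderOf u) := by
    apply Nat.coprime_of_dvd
    intro p hp h1 h2
    exact ha' p hp h1 (h.isNum_card_M p hp (h2.trans (h.orderOf_dvd_card_M huM)))
  have h1 : orderOf (a * u) = orderOf a * orderOf u :=
    hcomm.orderOf_mul_eq_mul_orderOf_of_coprime hcop
  have h2 : a * u = g * a * g⁻¹ := by rw [hu]; group
  rw [h2, orderOf_conj'] at h1
  have hpos : 0 < orderOf a := orderOf_pos a
  have h3 : orderOf u = 1 := by
    have : orderOf a * 1 = orderOf a * orderOf u := by rw [mul_one]; exact h1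
    exact (Nat.eq_of_mul_eq_mul_left hpos this).symm
  rw [orderOf_eq_one_iff] at h3
  rw [h3, mul_one] at h2
  calc g * a = (g * a * g⁻¹) * g := by group
    _ = a * g := by rw [← h2]

/-- an element with `σ'`-class size is a `σ`-element times a central element -/
theorem exists_G0_mul_central (h : Hyp G σ b0) {a : G} (ha : IsNum σᶜ (cs a)) :
    ∃ a1 z : G, a1 ∈ h.G0 ∧ z ∈ center G ∧ a = a1 * z ∧ C a1 = C a := by
  obtain ⟨a1, a2, h1, h2, h3, h4, h5⟩ := PiParts.exists_decomp σ a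
  have hz : a2 ∈ center G := by
    apply h.central_of_isPi' (ha.of_dvd (cs_dvd_of_le (C_le_of_mem_zpowers h2)))
    exact h4
  refine ⟨a1, a2, h3, hz, h5.symm, ?_⟩
  rw [← h5, C_mul_central hz]

/-- all Sylow `p`-subgroups are conjugate under `M` -/
theorem exists_M_smul_eq (h : Hyp G σ b0) (p : ℕ) [Fact p.Prime] (hp : p ∉ σ) (P P' : Sylow p G) :
    ∃ m ∈ h.M, m • P = P' := by
  obtain ⟨N, hN⟩ : ∃ N : Subgroup G, N = ((P : Subgroup G).map (QuotientGroup.mk' h.M)).comap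
    (QuotientGroup.mk' h.M) := ⟨_, rfl⟩
  have hmemN : ∀ n : G, n ∈ N ↔ ∃ u ∈ (P : Subgroup G), ∃ m ∈ h.M, n = m * u := by
    intro n
    rw [hN, mem_comap, mem_map]
    constructor
    · rintro ⟨u, hu, hun⟩
      refine ⟨u, hu, n * u⁻¹, ?_, by group⟩
      rw [QuotientGroup.mk'_apply, QuotientGroup.mk'_apply, QuotientGroup.eq] at hun
      have h1 : n * u⁻¹ = u * (u⁻¹ * n) * u⁻¹ := by group
      rw [h1]
      exact (classStab_normal b0).conj_mem _ hun u
    · rintro ⟨u, hu, m, hm, rfl⟩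
      refine ⟨u, hu, ?_⟩
      rw [QuotientGroup.mk'_apply, QuotientGroup.mk'_apply, QuotientGroup.eq]
      have h1 : u⁻¹ * (m * u) = u⁻¹ * m * u⁻¹⁻¹ := by group
      rw [h1]
      exact (classStab_normal b0).conj_mem _ hm u⁻¹
  have hNn : N.Normal := by
    constructor
    intro n hn g
    obtain ⟨u, hu, m, hm, rfl⟩ := (hmemN n).1 hn
    rw [hmemN]
    refine ⟨u, hu, g * (m * u) * g⁻¹ * u⁻¹, ?_, by group⟩
    have h1 := h.comm_sylow_mem_M p hp P g⁻¹ u hu
    -- (u * g⁻¹)⁻¹ * (g⁻¹ * u) ∈ M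
    have h2 : g * (m * u) * g⁻¹ * u⁻¹ = (g * m * g⁻¹) * (u * ((u * g⁻¹)⁻¹ * (g⁻¹ * u)) * u⁻¹)⁻¹ := by
      group
    rw [h2]
    exact h.M.mul_mem ((classStab_normal b0).conj_mem _ hm g)
      (h.M.inv_mem ((classStab_normal b0).conj_mem _ h1 u))
  have hPN : (P : Subgroup G) ≤ N := by
    intro u hu
    rw [hmemN]
    exact ⟨u, hu, 1, one_mem _, (one_mul u).symm⟩
  have hP'N : (P' : Subgroup G) ≤ N := by
    obtain ⟨y, hy⟩ := MulAction.exists_smul_eq G P P'
    intro v hv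
    rw [← hy] at hv
    have hv : v ∈ y • P := hv
    rw [Cfsg.Agent.Helper4.mem_sylow_smul_iff] at hv
    have h1 := hNn.conj_mem _ (hPN hv) y
    have h2 : y * (y⁻¹ * v * y) * y⁻¹ = v := by group
    rwa [h2] at h1
  obtain ⟨n, hn⟩ := MulAction.exists_smul_eq N (P.subtype hPN) (P'.subtype hP'N)
  rw [Sylow.smul_subtype] at hn
  have hn2 : n • P = P' := Sylow.subtype_injective hn
  obtain ⟨u, hu, m, hm, hnm⟩ := (hmemN n).1 n.2
  refine ⟨m, hm, ?_⟩
  have hu2 : u • P = P := Sylow.smul_eq_iff_mem_normalizer.2 (Subgroup.le_normalizer hu)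
  rw [← hn2, Subgroup.smul_def, hnm, mul_smul, hu2]

end Hyp

end Cfsg.Agent.Helper4.DiscGraph
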