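import Mathlib
import Cfsg.Agent.Helper4.DiamA
import Cfsg.Agent.Helper4.DiscGraphC

/-!
Diameter of the class-size prime graph, part B: the Sylow `p`-subgroups are central modulo `N`,
self-centralizing normalizers, conjugate under `N`, and `G = N C_G(P)`.
-/

set_option autoImplicit false

namespace Cfsg.Agent.Helper4.Diam

open Cfsg.Agent.Helper4.TwoClass Cfsg.Agent.Helper4.DiscGraph Subgroup

variable {G : Type*} [Group G] [Finite G] {p : ℕ} {τ : Set ℕ} {b0 : G}

set_option linter.unusedSectionVars false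

namespace DHyp

/-- the preimage of the centralizer of the image of `P` modulo `N` -/
noncomputable def cstar (h : DHyp G p τ b0) (P : Subgroup G) : Subgroup G :=
  (centralizer ((P.map (QuotientGroup.mk' h.N) : Subgroup (G ⧸ h.N)) : Set (G ⧸ h.N))).comap
    (QuotientGroup.mk' h.N)

theorem mem_cstar_of_comm (h : DHyp G p τ b0) (P : Subgroup G) (y : G)
    (hy : ∀ u ∈ P, (u * y)⁻¹ * (y * u) ∈ h.N) : y ∈ h.cstar P := by
  unfold cstar
  rw [mem_comap, mem_centralizer_iff]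
  intro k hk
  obtain ⟨u, hu, rfl⟩ := Subgroup.mem_map.1 hk
  rw [← map_mul, ← map_mul, QuotientGroup.mk'_apply, QuotientGroup.mk'_apply, QuotientGroup.eq]
  exact hy u hu

theorem comm_of_mem_cstar (h : DHyp G p τ b0) (P : Subgroup G) (y : G) (hy : y ∈ h.cstar P)
    (u : G) (hu : u ∈ P) : (u * y)⁻¹ * (y * u) ∈ h.N := by
  unfold cstar at hy
  rw [mem_comap, mem_centralizer_iff] at hy
  have := hy _ (Subgroup.mem_map_of_mem _ hu)
  rw [← map_mul, ← map_mul, QuotientGroup.mk'_apply, QuotientGroup.mk'_apply, QuotientGroup.eq] at this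
  exact this

theorem cstar_eq_top (h : DHyp G p τ b0) [Fact p.Prime] (P : Sylow p G) :
    h.cstar (P : Subgroup G) = ⊤ := by
  by_contra hne
  obtain ⟨g, hg⟩ := exists_not_mem_conj _ hne
  by_cases hpg : p ∣ cs g
  · apply hg 1
    have : (1 : G)⁻¹ * g * 1 = g := by group
    rw [this]
    apply h.mem_cstar_of_comm
    intro u hu
    have := h.comm_mem_N hpg u⁻¹
    have h4 : (u * g)⁻¹ * (g * u) = g⁻¹ * (u⁻¹ * g * u⁻¹⁻¹) := by group
    rw [h4]; exact this
  · obtain ⟨P', hP'⟩ := exists_sylow_le_of_not_dvd_index p (C g) hpg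
    obtain ⟨x, hx⟩ := MulAction.exists_smul_eq G P P'
    apply hg x
    apply h.mem_cstar_of_comm
    intro u hu
    have h1 : x * u * x⁻¹ ∈ (P' : Subgroup G) := by
      have h0 : x * u * x⁻¹ ∈ x • P := by
        rw [Cfsg.Agent.Helper4.mem_sylow_smul_iff]
        have : x⁻¹ * (x * u * x⁻¹) * x = u := by group
        rw [this]; exact hu
      rw [hx] at h0
      exact h0
    have h2 := mem_C.1 (hP' h1)
    have h3 : u * (x⁻¹ * g * x) = (x⁻¹ * g * x) * u := by
      have : x * u * x⁻¹ * g = g * (x * u * x⁻¹) := h2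
      calc u * (x⁻¹ * g * x) = x⁻¹ * (x * u * x⁻¹ * g) * x := by group
        _ = x⁻¹ * (g * (x * u * x⁻¹)) * x := by rw [this]
        _ = (x⁻¹ * g * x) * u := by group
    rw [h3, inv_mul_cancel]
    exact one_mem _

theorem sylow_inf_N (h : DHyp G p τ b0) [Fact p.Prime] (P : Sylow p G) :
    (P : Subgroup G) ⊓ h.N = ⊥ := by
  rw [← disjoint_iff]
  apply Subgroup.disjoint_of_coprime_natCard
  obtain ⟨n, hn⟩ := IsPGroup.exists_card_eq P.2
  rw [hn]
  exact Nat.Coprime.pow_left n ((Nat.Prime.coprime_iff_not_dvd Fact.out).2 h.not_dvd_card_N)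

/-- for `x : G` and `u ∈ P`, the commutator lies in `N` -/
theorem comm_sylow_mem_N (h : DHyp G p τ b0) [Fact p.Prime] (P : Sylow p G)
    (x u : G) (hu : u ∈ P) : (u * x)⁻¹ * (x * u) ∈ h.N := by
  have hx' : x ∈ h.cstar P := by rw [h.cstar_eq_top P]; exact mem_top _
  exact h.comm_of_mem_cstar P x hx' u hu

theorem normalizer_le_centralizer (h : DHyp G p τ b0) [Fact p.Prime] (P : Sylow p G) :
    normalizer ((P : Subgroup G) : Set G) ≤ centralizer ((P : Subgroup G) : Set G) := by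
  intro x hx
  rw [mem_centralizer_iff]
  intro u hu
  have hw := h.comm_sylow_mem_N P x u hu
  have hwP : (u * x)⁻¹ * (x * u) ∈ (P : Subgroup G) := by
    have h0 : (u * x)⁻¹ * (x * u) = (x⁻¹ * u⁻¹ * x) * u := by group
    rw [h0]
    refine mul_mem ?_ hu
    apply (mem_normalizer_iff.1 hx (x⁻¹ * u⁻¹ * x)).2
    have h1 : x * (x⁻¹ * u⁻¹ * x) * x⁻¹ = u⁻¹ := by group
    rw [h1]; exact inv_mem hu
  have hmem : (u * x)⁻¹ * (x * u) ∈ (P : Subgroup G) ⊓ h.N := ⟨hwP, hw⟩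
  rw [h.sylow_inf_N P, mem_bot] at hmem
  exact inv_mul_eq_one.1 hmem

/-- all Sylow `p`-subgroups are conjugate under `N` -/
theorem exists_N_smul_eq (h : DHyp G p τ b0) [Fact p.Prime] (P P' : Sylow p G) :
    ∃ m ∈ h.N, m • P = P' := by
  obtain ⟨K, hK⟩ : ∃ K : Subgroup G, K = ((P : Subgroup G).map (QuotientGroup.mk' h.N)).comap
    (QuotientGroup.mk' h.N) := ⟨_, rfl⟩
  have hmemK : ∀ n : G, n ∈ K ↔ ∃ u ∈ (P : Subgroup G), ∃ m ∈ h.N, n = m * u := by
    intro n
    rw [hK, mem_comap, mem_map]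
    constructor
    · rintro ⟨u, hu, hun⟩
      refine ⟨u, hu, n * u⁻¹, ?_, by group⟩
      rw [QuotientGroup.mk'_apply, QuotientGroup.mk'_apply, QuotientGroup.eq] at hun
      have h1 : n * u⁻¹ = u * (u⁻¹ * n) * u⁻¹ := by group
      rw [h1]
      exact h.N_normal.conj_mem _ hun u
    · rintro ⟨u, hu, m, hm, rfl⟩
      refine ⟨u, hu, ?_⟩
      rw [QuotientGroup.mk'_apply, QuotientGroup.mk'_apply, QuotientGroup.eq]
      have h1 : u⁻¹ * (m * u) = u⁻¹ * m * u⁻¹⁻¹ := by group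
      rw [h1]
      exact h.N_normal.conj_mem _ hm u⁻¹
  have hKn : K.Normal := by
    constructor
    intro n hn g
    obtain ⟨u, hu, m, hm, rfl⟩ := (hmemK n).1 hn
    rw [hmemK]
    refine ⟨u, hu, g * (m * u) * g⁻¹ * u⁻¹, ?_, by group⟩
    have h1 := h.comm_sylow_mem_N P g⁻¹ u hu
    have h2 : g * (m * u) * g⁻¹ * u⁻¹ = (g * m * g⁻¹) * (u * ((u * g⁻¹)⁻¹ * (g⁻¹ * u)) * u⁻¹)⁻¹ := by
      group
    rw [h2]
    exact h.N.mul_mem (h.N_normal.conj_mem _ hm g)
      (h.N.inv_mem (h.N_normal.conj_mem _ h1 u))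
  have hPK : (P : Subgroup G) ≤ K := by
    intro u hu
    rw [hmemK]
    exact ⟨u, hu, 1, one_mem _, (one_mul u).symm⟩
  have hP'K : (P' : Subgroup G) ≤ K := by
    obtain ⟨y, hy⟩ := MulAction.exists_smul_eq G P P'
    intro v hv
    rw [← hy] at hv
    have hv : v ∈ y • P := hv
    rw [Cfsg.Agent.Helper4.mem_sylow_smul_iff] at hv
    have h1 := hKn.conj_mem _ (hPK hv) y
    have h2 : y * (y⁻¹ * v * y) * y⁻¹ = v := by group
    rwa [h2] at h1
  obtain ⟨n, hn⟩ := MulAction.exists_smul_eq K (P.subtype hPK) (P'.subtype hP'K)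
  rw [Sylow.smul_subtype] at hn
  have hn2 : n • P = P' := Sylow.subtype_injective hn
  obtain ⟨u, hu, m, hm, hnm⟩ := (hmemK n).1 n.2
  refine ⟨m, hm, ?_⟩
  have hu2 : u • P = P := Sylow.smul_eq_iff_mem_normalizer.2 (Subgroup.le_normalizer hu)
  rw [← hn2, Subgroup.smul_def, hnm, mul_smul, hu2]

/-- `G = N C_G(P)` -/
theorem exists_mul_cent (h : DHyp G p τ b0) [Fact p.Prime] (P : Sylow p G) (g : G) :
    ∃ n ∈ h.N, ∃ c ∈ centralizer ((P : Subgroup G) : Set G), g = n * c := by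
  obtain ⟨m, hm, hmP⟩ := h.exists_N_smul_eq P (g • P)
  refine ⟨m, hm, m⁻¹ * g, ?_, by group⟩
  apply h.normalizer_le_centralizer P
  apply Sylow.smul_eq_iff_mem_normalizer.1
  rw [mul_smul, ← hmP, ← mul_smul, inv_mul_cancel, one_smul]

end DHyp

end Cfsg.Agent.Helper4.Diam
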