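import Mathlib
import Cfsg.Agent.Helper4.DiamB
import Cfsg.Agent.Helper4.TwoClassD

/-!
Diameter of the class-size prime graph, part C: a noncentral `p`-element `x` acts fixed-point-freely
on `N`, `G = N C_G(x)`, and every nonidentity element of `N` has class size divisible by `p`.
-/

set_option autoImplicit false

namespace Cfsg.Agent.Helper4.Diam

open Cfsg.Agent.Helper4.TwoClass Cfsg.Agent.Helper4.DiscGraph Subgroup

variable {G : Type*} [Group G] [Finite G] {p : ℕ} {τ : Set ℕ} {b0 : G}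

set_option linter.unusedSectionVars false

namespace DHyp

theorem conj_mem_N (h : DHyp G p τ b0) [Fact p.Prime] (P : Sylow p G) {x : G} (hx : x ∈ P) (g : G) :
    x⁻¹ * (g * x * g⁻¹) ∈ h.N := by
  have h1 := h.comm_sylow_mem_N P g⁻¹ x hx
  have h2 : x⁻¹ * (g * x * g⁻¹) = ((x * g⁻¹)⁻¹ * (g⁻¹ * x))⁻¹ := by group
  rw [h2]
  exact h.N.inv_mem h1

theorem exists_mul_C (h : DHyp G p τ b0) [Fact p.Prime] (P : Sylow p G) {x : G} (hx : x ∈ P) (g : G) :
    ∃ n ∈ h.N, ∃ c ∈ C x, g = n * c := by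
  obtain ⟨n, hn, c, hc, rfl⟩ := h.exists_mul_cent P g
  refine ⟨n, hn, c, ?_, rfl⟩
  rw [mem_C]
  exact (mem_centralizer_iff.1 hc x hx).symm

theorem card_N_eq (h : DHyp G p τ b0) [Fact p.Prime] (P : Sylow p G) {x : G} (hx : x ∈ P) :
    Nat.card h.N = Nat.card (h.N ⊓ C x : Subgroup G) * cs x := by
  have htop : C x ⊔ h.N = ⊤ := by
    rw [eq_top_iff]
    intro g _
    obtain ⟨n, hn, c, hc, rfl⟩ := h.exists_mul_C P hx g
    exact Subgroup.mul_mem _ (Subgroup.mem_sup_right hn) (Subgroup.mem_sup_left hc)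
  have h1 : h.N.relIndex (C x ⊔ h.N) = h.N.relIndex (C x) := Subgroup.relIndex_sup_right _ _
  rw [htop, Subgroup.relIndex_top_right] at h1
  have h2 : (h.N ⊓ C x).relIndex (C x) = h.N.relIndex (C x) := Subgroup.inf_relIndex_right _ _
  have h3 : (⊥ : Subgroup G).relIndex (h.N ⊓ C x) * (h.N ⊓ C x).relIndex (C x)
      = (⊥ : Subgroup G).relIndex (C x) := Subgroup.relIndex_mul_relIndex _ _ _ bot_le inf_le_right
  rw [Subgroup.relIndex_bot_left, Subgroup.relIndex_bot_left, h2, ← h1] at h3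
  have h4 : Nat.card h.N * h.N.index = Nat.card G := Subgroup.card_mul_index _
  have h5 : Nat.card (C x) * cs x = Nat.card G := Subgroup.card_mul_index _
  have h6 : 0 < h.N.index := Nat.pos_of_ne_zero Subgroup.index_ne_zero_of_finite
  have h7 : Nat.card h.N * h.N.index = (Nat.card (h.N ⊓ C x : Subgroup G) * cs x) * h.N.index := by
    rw [h4, ← h5, ← h3]; ring
  exact Nat.eq_of_mul_eq_mul_right h6 h7

theorem isNum_cs_sylow (h : DHyp G p τ b0) [Fact p.Prime] (P : Sylow p G) {x : G} (hx : x ∈ P) :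
    IsNum τ (cs x) :=
  h.isNum_card_N.of_dvd ⟨_, (h.card_N_eq P hx).trans (mul_comm _ _)⟩

/-- `N` stabilizes the class of a noncentral element of a Sylow `p`-subgroup -/
theorem N_le_classStab_of_mem (h : DHyp G p τ b0) [Fact p.Prime] (P : Sylow p G) {x : G}
    (hx : x ∈ P) (hxc : x ∉ center G) : h.N ≤ classStab x := by
  have hτ := h.isNum_cs_sylow P hx
  apply Subgroup.normalClosure_le_normal
  rintro t ⟨a, g, ha, rfl⟩
  have hcop := h.coprime_cs ha hτ
  rcases h.dvd_or_dvd ha hτ with h1 | h1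
  · exact inv_mul_conj_mem_classStab a x hcop (Nat.le_of_dvd (cs_pos _) h1) g
  · exfalso
    apply hxc
    have hle : cs (x * a) ≤ cs a := by
      rw [← cs_mul_comm]; exact Nat.le_of_dvd (cs_pos _) h1
    have hdisj : classStab a ⊓ h.N = ⊥ := by
      rw [← disjoint_iff]
      apply Subgroup.disjoint_of_coprime_natCard
      exact Nat.Coprime.coprime_dvd_left (card_classStab_dvd a)
        ((h.isNum_card_N.coprime (h.isNum_cs ha)).symm)
    rw [Subgroup.mem_center_iff]
    intro k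
    have h2 : x⁻¹ * (k * x * k⁻¹) ∈ classStab a ⊓ h.N :=
      ⟨inv_mul_conj_mem_classStab x a hcop.symm hle k, h.conj_mem_N P hx k⟩
    rw [hdisj, Subgroup.mem_bot] at h2
    have h3 : k * x * k⁻¹ = x := by
      have := congrArg (fun t => x * t) h2
      simpa using this
    calc k * x = k * x * k⁻¹ * k := by group
      _ = x * k := by rw [h3]

/-- a noncentral element of a Sylow `p`-subgroup has no fixed points on `N` -/
theorem N_inf_C (h : DHyp G p τ b0) [Fact p.Prime] (P : Sylow p G) {x : G}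
    (hx : x ∈ P) (hxc : x ∉ center G) : h.N ⊓ C x = ⊥ := by
  rw [eq_bot_iff]
  intro n hn
  obtain ⟨hn1, hn2⟩ := Subgroup.mem_inf.1 hn
  rw [Subgroup.mem_bot]
  have h1 := (mem_classStab.1 (h.N_le_classStab_of_mem P hx hxc hn1) x).1 (IsConj.refl x)
  obtain ⟨k, hk⟩ := isConj_iff.1 h1
  have h2 : orderOf (n * x) = orderOf x := by
    rw [← hk]; exact orderOf_conj' k x
  have hcomm : Commute n x := mem_C.1 hn2
  obtain ⟨e, he⟩ := Cfsg.Agent.Helper4.orderOf_eq_pow_of_mem_pgroup (P : Subgroup G) P.2 x hx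
  have hn3 : orderOf n ∣ Nat.card h.N := by
    have := orderOf_dvd_natCard (⟨n, hn1⟩ : h.N)
    rwa [Subgroup.orderOf_mk] at this
  have hcop : (orderOf n).Coprime (orderOf x) := by
    rw [he]
    apply Nat.Coprime.pow_right
    apply Nat.Coprime.symm
    rw [Nat.Prime.coprime_iff_not_dvd Fact.out]
    intro hd
    exact h.not_dvd_card_N (hd.trans hn3)
  have h3 := hcomm.orderOf_mul_eq_mul_orderOf_of_coprime hcop
  rw [h2] at h3
  have hpos : 0 < orderOf x := orderOf_pos x
  have h4 : orderOf n = 1 := by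
    have : 1 * orderOf x = orderOf n * orderOf x := by rw [one_mul]; exact h3
    exact (Nat.eq_of_mul_eq_mul_right hpos this).symm
  exact orderOf_eq_one_iff.1 h4

theorem exists_noncentral (h : DHyp G p τ b0) [Fact p.Prime] (P : Sylow p G) :
    ∃ x ∈ (P : Subgroup G), x ∉ center G := by
  by_contra hcon
  push Not at hcon
  obtain ⟨a, ha⟩ := h.exA
  have hle : (P : Subgroup G) ≤ C a := fun x hx => center_le_C a (hcon x hx)
  exact not_dvd_index_of_sylow_le p (C a) P hle ha

/-- every nonidentity element of `N` has class size divisible by `p` -/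
theorem dvd_cs_of_mem_N (h : DHyp G p τ b0) [Fact p.Prime] {n : G} (hn : n ∈ h.N) (hn1 : n ≠ 1) :
    p ∣ cs n := by
  by_contra hnd
  obtain ⟨P, hP⟩ := exists_sylow_le_of_not_dvd_index p (C n) hnd
  obtain ⟨x, hx, hxc⟩ := h.exists_noncentral P
  have h1 : n ∈ h.N ⊓ C x := ⟨hn, mem_C_comm.1 (hP hx)⟩
  rw [h.N_inf_C P hx hxc, Subgroup.mem_bot] at h1
  exact hn1 h1

end DHyp

end Cfsg.Agent.Helper4.Diam
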