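import Mathlib
import Cfsg.Agent.Helper4.DiamC

/-!
Diameter of the class-size prime graph, part D: an element centralizing `N` has class size
dividing a class size divisible by `p`; contradiction with connectedness.
-/

set_option autoImplicit false

namespace Cfsg.Agent.Helper4.Diam

open Cfsg.Agent.Helper4.TwoClass Cfsg.Agent.Helper4.DiscGraph Subgroup

variable {G : Type*} [Group G] [Finite G] {p : ℕ} {τ : Set ℕ} {b0 : G}

set_option linter.unusedSectionVars false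

namespace DHyp

theorem exists_dvd_of_le (h : DHyp G p τ b0) {g : G} (hg : h.N ≤ C g) :
    ∃ g' : G, p ∣ cs g' ∧ cs g ∣ cs g' := by
  have := Fact.mk h.hp
  by_cases hpg : p ∣ cs g
  · exact ⟨g, hpg, dvd_rfl⟩
  obtain ⟨P, hP⟩ := exists_sylow_le_of_not_dvd_index p (C g) hpg
  obtain ⟨x, hx, hxc⟩ := h.exists_noncentral P
  have hgx : g ∈ C x := mem_C_comm.1 (hP hx)
  obtain ⟨n', hn', hn'1⟩ : ∃ n' ∈ h.N, n' ≠ 1 := by
    by_contra hcon
    push Not at hcon
    apply h.N_ne_bot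
    rw [eq_bot_iff]
    intro n hn
    rw [Subgroup.mem_bot]
    exact hcon n hn
  have hle : C (n' * g) ≤ C n' ⊓ C g := by
    intro k hk
    rw [mem_C] at hk
    obtain ⟨m, hm, c, hc, hkmc⟩ := h.exists_mul_C P hx k
    -- `g₁ = k g k⁻¹ = c g c⁻¹ ∈ C x`
    have hg1 : k * g * k⁻¹ = c * g * c⁻¹ := by
      have h1 : m ∈ C (c * g * c⁻¹) := by
        rw [mem_C_conj]
        apply hg
        have := h.N_normal.conj_mem m hm c⁻¹
        simpa using this
      rw [mem_C] at h1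
      rw [hkmc]
      calc m * c * g * (m * c)⁻¹ = m * (c * g * c⁻¹) * m⁻¹ := by group
        _ = (c * g * c⁻¹) * m * m⁻¹ := by rw [h1]
        _ = c * g * c⁻¹ := by group
    have hg1x : k * g * k⁻¹ ∈ C x := by
      rw [hg1]
      exact (C x).mul_mem ((C x).mul_mem hc hgx) ((C x).inv_mem hc)
    have hn'' : k * n' * k⁻¹ ∈ h.N := h.N_normal.conj_mem n' hn' k
    have heq : (k * n' * k⁻¹) * (k * g * k⁻¹) = n' * g := by
      calc (k * n' * k⁻¹) * (k * g * k⁻¹) = k * (n' * g) * k⁻¹ := by group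
        _ = (n' * g) * k * k⁻¹ := by rw [hk]
        _ = n' * g := by group
    have hmem : n'⁻¹ * (k * n' * k⁻¹) ∈ h.N ⊓ C x := by
      refine ⟨h.N.mul_mem (h.N.inv_mem hn') hn'', ?_⟩
      have h2 : n'⁻¹ * (k * n' * k⁻¹) = g * (k * g * k⁻¹)⁻¹ := by
        have : k * n' * k⁻¹ = n' * g * (k * g * k⁻¹)⁻¹ := by
          rw [← heq]; group
        rw [this]; group
      rw [h2]
      exact (C x).mul_mem hgx ((C x).inv_mem hg1x)
    rw [h.N_inf_C P hx hxc, Subgroup.mem_bot] at hmem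
    have h3 : k * n' * k⁻¹ = n' := by
      have := congrArg (fun t => n' * t) hmem
      simpa using this
    have h4 : k * g * k⁻¹ = g := by
      rw [h3] at heq
      exact mul_left_cancel heq
    have h5 : k ∈ C n' := by
      rw [mem_C]
      calc k * n' = k * n' * k⁻¹ * k := by group
        _ = n' * k := by rw [h3]
    have h6 : k ∈ C g := by
      rw [mem_C]
      calc k * g = k * g * k⁻¹ * k := by group
        _ = g * k := by rw [h4]
    exact Subgroup.mem_inf.2 ⟨h5, h6⟩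
  refine ⟨n' * g, ?_, ?_⟩
  · exact (h.dvd_cs_of_mem_N hn' hn'1).trans (Subgroup.index_dvd_of_le (hle.trans inf_le_left))
  · exact Subgroup.index_dvd_of_le (hle.trans inf_le_right)

/-- the hypotheses are incompatible with connectedness of the graph -/
theorem false_of_conn (h : DHyp G p τ b0)
    (hconn : ∀ S : Set ℕ, (∃ r ∈ S, (r.Prime ∧ ∃ g : G, r ∣ cs g)) →
      (∃ s ∉ S, (s.Prime ∧ ∃ g : G, s ∣ cs g)) →
      ∃ r s : ℕ, (r.Prime ∧ ∃ g : G, r ∣ cs g) ∧ (s.Prime ∧ ∃ g : G, s ∣ cs g) ∧ r ∈ S ∧ s ∉ S ∧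
        (∃ g : G, r * s ∣ cs g))
    (q : ℕ) (hq : q.Prime) (hq' : ∃ g : G, q ∣ cs g)
    (hqA : ∀ a : G, p ∣ cs a → ¬ q ∣ cs a) : False := by
  obtain ⟨a0, ha0⟩ := h.exA
  obtain ⟨r, s, ⟨hr, -⟩, ⟨hs, -⟩, hrS, hsS, g, hg⟩ :=
    hconn {r | r.Prime ∧ ∃ a : G, p ∣ cs a ∧ r ∣ cs a}
      ⟨p, ⟨h.hp, a0, ha0, ha0⟩, h.hp, a0, ha0⟩
      ⟨q, fun hqS => by
        obtain ⟨-, a, ha, hqa⟩ := hqS
        exact hqA a ha hqa, hq, hq'⟩
  obtain ⟨-, a, ha, hra⟩ := hrS
  have hrg : r ∣ cs g := (Dvd.intro _ rfl).trans hg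
  have hsg : s ∣ cs g := (Dvd.intro_left _ rfl).trans hg
  by_cases hN : h.N ≤ C g
  · obtain ⟨g', hg'1, hg'2⟩ := h.exists_dvd_of_le hN
    exact hsS ⟨hs, g', hg'1, hsg.trans hg'2⟩
  · obtain ⟨s', hs', hs'τ, hs'g⟩ := h.exists_prime_of_not_le hN
    exact h.sep g a r s' hr hs' ha hra hs'τ hrg hs'g

end DHyp

end Cfsg.Agent.Helper4.Diam
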