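import Mathlib

set_option autoImplicit false

namespace Cfsg.Agent.Helper4.Dickson

theorem dvd_of_padic_le {M X : ℕ} (hM : M ≠ 0) (hX : X ≠ 0)
    (h : ∀ p : ℕ, p.Prime → padicValNat p M ≤ padicValNat p X) : M ∣ X := by
  rw [Nat.dvd_iff_prime_pow_dvd_dvd]
  intro p k hp hk
  haveI : Fact p.Prime := ⟨hp⟩
  rw [padicValNat_dvd_iff_le hM] at hk
  rw [padicValNat_dvd_iff_le hX]
  exact hk.trans (h p hp)

theorem padic_le_of_dvd {M X : ℕ} (hX : X ≠ 0) (h : M ∣ X) (p : ℕ) [Fact p.Prime] :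
    padicValNat p M ≤ padicValNat p X := by
  rw [← padicValNat_dvd_iff_le hX]
  exact dvd_trans pow_padicValNat_dvd h

theorem modEq_one_iff (q i M : ℕ) (hq : 1 ≤ q) : q ^ i ≡ 1 [MOD M] ↔ M ∣ q ^ i - 1 := by
  rw [Nat.ModEq.comm, Nat.modEq_iff_dvd' (Nat.one_le_pow _ _ hq)]

theorem pow_sub_one_ne_zero {q m : ℕ} (hq : 2 ≤ q) (hm : m ≠ 0) : q ^ m - 1 ≠ 0 := by
  have := Nat.one_lt_pow hm (show 1 < q by omega)
  omega

theorem not_dvd_of_dvd_pred {q r : ℕ} (hq : 2 ≤ q) (hr : r.Prime) (hrd : r ∣ q - 1) : ¬ r ∣ q := by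
  intro h
  have h1 : r ∣ q - (q - 1) := Nat.dvd_sub h hrd
  rw [show q - (q - 1) = 1 by omega] at h1
  exact hr.one_lt.ne' (Nat.dvd_one.1 h1)

theorem lower {q : ℕ} (hq : 2 ≤ q) {r : ℕ} [hr : Fact r.Prime] (hrd : r ∣ q - 1) {m : ℕ}
    (hm : m ≠ 0) :
    padicValNat r (q - 1) + padicValNat r m ≤ padicValNat r (q ^ m - 1) := by
  have hrq : ¬ r ∣ q := not_dvd_of_dvd_pred hq hr.out hrd
  rcases hr.out.eq_two_or_odd' with rfl | hodd
  · rcases Nat.even_or_odd m with hev | hod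
    · have h := padicValNat.pow_two_sub_one (x := q) (n := m) (by omega) hrq hm hev
      have h2 : 1 ≤ padicValNat 2 (q + 1) := by
        apply one_le_padicValNat_of_dvd (by omega)
        omega
      omega
    · have h0 : padicValNat 2 m = 0 :=
        padicValNat.eq_zero_of_not_dvd (by rwa [← even_iff_two_dvd, Nat.not_even_iff_odd])
      rw [h0, add_zero]
      exact padic_le_of_dvd (pow_sub_one_ne_zero hq hm) (Nat.sub_one_dvd_pow_sub_one _ _) 2
  · have h := padicValNat.pow_sub_pow (p := r) hodd (x := q) (y := 1) (by omega) hrd hrq hm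
    rw [one_pow] at h
    rw [h]

theorem lower_two_strong {q : ℕ} (hq : 2 ≤ q) (h2 : 2 ∣ q - 1) (h4 : 4 ∣ q + 1) {m : ℕ}
    (hm : m ≠ 0) (hev : Even m) :
    padicValNat 2 (q - 1) + padicValNat 2 m + 1 ≤ padicValNat 2 (q ^ m - 1) := by
  have hrq : ¬ 2 ∣ q := by omega
  have h := padicValNat.pow_two_sub_one (x := q) (n := m) (by omega) hrq hm hev
  have h2 : 2 ≤ padicValNat 2 (q + 1) := by
    rw [← padicValNat_dvd_iff_le (by omega)]
    exact h4
  omega

theorem exact_val {q : ℕ} (hq : 2 ≤ q) {r : ℕ} [hr : Fact r.Prime] (hrd : r ∣ q - 1)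
    (h4 : r = 2 → 4 ∣ q - 1) {m : ℕ} (hm : m ≠ 0) :
    padicValNat r (q ^ m - 1) = padicValNat r (q - 1) + padicValNat r m := by
  have hrq : ¬ r ∣ q := not_dvd_of_dvd_pred hq hr.out hrd
  rcases hr.out.eq_two_or_odd' with rfl | hodd
  · have h4' := h4 rfl
    have hX : q ^ m - 1 ≠ 0 := pow_sub_one_ne_zero hq hm
    have hd : q - 1 ≠ 0 := by omega
    have e1 : ((q : ℤ) ^ m - 1) = ((q ^ m - 1 : ℕ) : ℤ) := by
      rw [Nat.cast_sub (Nat.one_le_pow _ _ (by omega))]; push_cast; ring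
    have e2 : ((q : ℤ) - 1) = ((q - 1 : ℕ) : ℤ) := by
      rw [Nat.cast_sub (by omega)]; push_cast; ring
    have key := Int.two_pow_sub_pow' (x := (q : ℤ)) (y := 1) m
      (by rw [e2]; exact_mod_cast h4')
      (by
        intro h
        have : (2 : ℕ) ∣ q := by exact_mod_cast h
        exact hrq this)
    rw [one_pow, e1, e2] at key
    rw [show (2 : ℤ) = ((2 : ℕ) : ℤ) from rfl] at key
    rw [Int.natCast_emultiplicity, Int.natCast_emultiplicity, Int.natCast_emultiplicity] at key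
    rw [← padicValNat_eq_emultiplicity hX, ← padicValNat_eq_emultiplicity hd,
      ← padicValNat_eq_emultiplicity hm] at key
    exact_mod_cast key
  · have h := padicValNat.pow_sub_pow (p := r) hodd (x := q) (y := 1) (by omega) hrd hrq hm
    rwa [one_pow] at h

theorem not_four_dvd {q : ℕ} (hq4 : q % 4 = 3) {m : ℕ} (hm : Odd m) : ¬ 4 ∣ q ^ m - 1 := by
  obtain ⟨k, rfl⟩ := hm
  have h1 : q ^ (2 * k + 1) % 4 = 3 := by
    have h2 : q ^ 2 % 4 = 1 := by rw [Nat.pow_mod, hq4]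
    rw [pow_succ, pow_mul, Nat.mul_mod, Nat.pow_mod, h2, one_pow, hq4]
    rfl
  have : 1 ≤ q ^ (2 * k + 1) := Nat.one_le_pow _ _ (by omega)
  omega

theorem gcd_dvd_aux {s t e m : ℕ} (hs : s.Prime) (ht : t.Prime) (hts : t ≤ s) (he : 1 ≤ e)
    (hdiv : t ^ e ∣ s * m) : Nat.gcd (t ^ (e - 1) * (t - 1)) (s * m) ∣ m := by
  rcases hts.lt_or_eq with hlt | rfl
  · have hcop : Nat.Coprime s (t ^ (e - 1) * (t - 1)) := by
      apply Nat.Coprime.mul_right
      · apply Nat.Coprime.pow_right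
        rw [Nat.coprime_primes hs ht]; omega
      · rw [hs.coprime_iff_not_dvd]
        intro h
        have := Nat.le_of_dvd (by have := ht.two_le; omega) h
        omega
    rw [Nat.Coprime.gcd_mul_left_cancel_right _ hcop]
    exact Nat.gcd_dvd_right _ _
  · obtain ⟨e', rfl⟩ : ∃ e', e = e' + 1 := ⟨e - 1, by omega⟩
    simp only [Nat.add_sub_cancel]
    rw [pow_succ'] at hdiv
    have h1 : t ^ e' ∣ m := (Nat.mul_dvd_mul_iff_left ht.pos).1 hdiv
    obtain ⟨m', rfl⟩ := h1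
    rw [show t * (t ^ e' * m') = t ^ e' * (t * m') by ring, Nat.gcd_mul_left]
    apply Nat.mul_dvd_mul_left
    have hcop : Nat.Coprime t (t - 1) := by
      rw [ht.coprime_iff_not_dvd]; intro h
      have h2 := ht.two_le
      have := Nat.le_of_dvd (by omega) h
      omega
    rw [Nat.Coprime.gcd_mul_left_cancel_right _ hcop]
    exact Nat.gcd_dvd_right _ _

theorem forward {q n : ℕ} (hq : 2 ≤ q) (hn : 1 < n)
    (hA1 : ∀ r : ℕ, r.Prime → r ∣ n → r ∣ q - 1) (hA2 : 4 ∣ n → 4 ∣ q - 1) :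
    n * (q - 1) ∣ q ^ n - 1 ∧ ∀ i, 0 < i → i < n → ¬ n * (q - 1) ∣ q ^ i - 1 := by
  have hn0 : n ≠ 0 := by omega
  have hd0 : q - 1 ≠ 0 := by omega
  have hM0 : n * (q - 1) ≠ 0 := mul_ne_zero hn0 hd0
  have hdivn : n * (q - 1) ∣ q ^ n - 1 := by
    apply dvd_of_padic_le hM0 (pow_sub_one_ne_zero hq hn0)
    intro p hp
    haveI : Fact p.Prime := ⟨hp⟩
    rw [padicValNat.mul hn0 hd0]
    by_cases hpd : p ∣ q - 1
    · have := lower hq hpd hn0
      omega
    · have hpn : ¬ p ∣ n := fun h => hpd (hA1 p hp h)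
      rw [padicValNat.eq_zero_of_not_dvd hpn, padicValNat.eq_zero_of_not_dvd hpd]
      exact Nat.zero_le _
  refine ⟨hdivn, ?_⟩
  intro i hi hin hdiv
  have hgdiv : n * (q - 1) ∣ q ^ (Nat.gcd i n) - 1 := by
    rw [← Nat.pow_sub_one_gcd_pow_sub_one]
    exact Nat.dvd_gcd hdiv hdivn
  have hgn : Nat.gcd i n ∣ n := Nat.gcd_dvd_right _ _
  have hgpos : 0 < Nat.gcd i n := Nat.gcd_pos_of_pos_left _ hi
  have hglt : Nat.gcd i n < n := lt_of_le_of_lt (Nat.le_of_dvd hi (Nat.gcd_dvd_left _ _)) hin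
  generalize Nat.gcd i n = g at hgdiv hgn hgpos hglt
  obtain ⟨c, hc⟩ := hgn
  have hc1 : c ≠ 1 := by rintro rfl; omega
  obtain ⟨r, hr, hrc⟩ := Nat.exists_prime_and_dvd hc1
  haveI : Fact r.Prime := ⟨hr⟩
  obtain ⟨c', rfl⟩ := hrc
  have hnm : n = r * (g * c') := by rw [hc]; ring
  generalize hm : g * c' = m at hnm
  have hm0 : m ≠ 0 := by rintro rfl; rw [mul_zero] at hnm; omega
  have hMm : n * (q - 1) ∣ q ^ m - 1 :=
    hgdiv.trans (Nat.pow_sub_one_dvd_pow_sub_one _ ⟨c', hm.symm⟩)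
  have hrn : r ∣ n := ⟨m, hnm⟩
  have hrd : r ∣ q - 1 := hA1 r hr hrn
  have hval := padic_le_of_dvd (pow_sub_one_ne_zero hq hm0) hMm r
  rw [padicValNat.mul hn0 hd0] at hval
  have hvn : padicValNat r n = 1 + padicValNat r m := by
    rw [hnm, padicValNat.mul hr.ne_zero hm0, padicValNat_self]
  by_cases h4 : r = 2 → 4 ∣ q - 1
  · have := exact_val hq hrd h4 hm0
    omega
  · push Not at h4
    obtain ⟨rfl, h4⟩ := h4
    have h4n : ¬ 4 ∣ n := fun h => h4 (hA2 h)
    have hmodd : Odd m := by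
      rw [← Nat.not_even_iff_odd]; intro hev
      apply h4n; obtain ⟨k, hk⟩ := hev; exact ⟨k, by rw [hnm, hk]; ring⟩
    have hq4 : q % 4 = 3 := by omega
    apply not_four_dvd hq4 hmodd
    refine dvd_trans ?_ hMm
    exact (show (4 : ℕ) = 2 * 2 by norm_num) ▸ Nat.mul_dvd_mul hrn hrd

theorem backward {q n : ℕ} (hq : 2 ≤ q) (hn : 1 < n)
    (hB1 : n * (q - 1) ∣ q ^ n - 1) (hB2 : ∀ i, 0 < i → i < n → ¬ n * (q - 1) ∣ q ^ i - 1) :
    (∀ r : ℕ, r.Prime → r ∣ n → r ∣ q - 1) ∧ (4 ∣ n → 4 ∣ q - 1) := by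
  have hn0 : n ≠ 0 := by omega
  have hd0 : q - 1 ≠ 0 := by omega
  have hM0 : n * (q - 1) ≠ 0 := mul_ne_zero hn0 hd0
  have hA1 : ∀ r : ℕ, r.Prime → r ∣ n → r ∣ q - 1 := by
    by_contra hcon
    push Not at hcon
    have hS : (n.primeFactors.filter (fun r => ¬ r ∣ q - 1)).Nonempty := by
      obtain ⟨r, hr, hrn, hrd⟩ := hcon
      exact ⟨r, by simp [hr, hrn, hrd, hn0]⟩
    obtain ⟨s, hsS, hsmax⟩ := (n.primeFactors.filter (fun r => ¬ r ∣ q - 1)).exists_max_image id hS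
    rw [Finset.mem_filter, Nat.mem_primeFactors] at hsS
    obtain ⟨⟨hs, hsn, -⟩, hsd⟩ := hsS
    haveI : Fact s.Prime := ⟨hs⟩
    obtain ⟨m, hnm⟩ := hsn
    have hm0 : m ≠ 0 := by rintro rfl; rw [mul_zero] at hnm; omega
    have hmlt : m < n := by
      rw [hnm]
      have := hs.two_le
      nlinarith [Nat.pos_of_ne_zero hm0]
    apply hB2 m (Nat.pos_of_ne_zero hm0) hmlt
    apply dvd_of_padic_le hM0 (pow_sub_one_ne_zero hq hm0)
    intro t ht
    haveI : Fact t.Prime := ⟨ht⟩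
    rw [padicValNat.mul hn0 hd0]
    by_cases htd : t ∣ q - 1
    · have hts : t ≠ s := by rintro rfl; exact hsd htd
      have h1 : padicValNat t n = padicValNat t m := by
        rw [hnm, padicValNat.mul hs.ne_zero hm0, padicValNat_primes hts, zero_add]
      have := lower hq htd hm0
      omega
    · rw [padicValNat.eq_zero_of_not_dvd htd, add_zero]
      by_cases htn : t ∣ n
      · have htS : t ∈ n.primeFactors.filter (fun r => ¬ r ∣ q - 1) := by
          simp [ht, htn, htd, hn0]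
        have hts : t ≤ s := hsmax t htS
        have he1 : 1 ≤ padicValNat t n := one_le_padicValNat_of_dvd hn0 htn
        have hte : t ^ padicValNat t n ∣ n := pow_padicValNat_dvd
        generalize padicValNat t n = e at he1 hte ⊢
        rw [← padicValNat_dvd_iff_le (pow_sub_one_ne_zero hq hm0)]
        have h1 : t ^ e ∣ q ^ n - 1 := hte.trans ((Dvd.intro _ rfl).trans hB1)
        have hcop : Nat.Coprime q (t ^ e) := by
          apply Nat.Coprime.pow_right
          rw [Nat.coprime_comm, ht.coprime_iff_not_dvd]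
          intro htq
          have h2 : t ∣ q ^ n := dvd_pow htq hn0
          have h3 : t ∣ q ^ n - 1 := (dvd_pow_self t (by omega : e ≠ 0)).trans h1
          have h4 : t ∣ q ^ n - (q ^ n - 1) := Nat.dvd_sub h2 h3
          have h5 : q ^ n - (q ^ n - 1) = 1 := by
            have := Nat.one_le_pow n q (by omega); omega
          rw [h5] at h4
          exact ht.one_lt.ne' (Nat.dvd_one.1 h4)
        have h2 : t ^ e ∣ q ^ (Nat.totient (t ^ e)) - 1 := by
          rw [← modEq_one_iff _ _ _ (by omega)]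
          exact Nat.ModEq.pow_totient hcop
        have h3 : t ^ e ∣ q ^ (Nat.gcd (Nat.totient (t ^ e)) n) - 1 := by
          rw [← Nat.pow_sub_one_gcd_pow_sub_one]
          exact Nat.dvd_gcd h2 h1
        rw [Nat.totient_prime_pow ht (by omega : 0 < e), hnm] at h3
        exact h3.trans (Nat.pow_sub_one_dvd_pow_sub_one _
          (gcd_dvd_aux hs ht hts he1 (hnm ▸ hte)))
      · rw [padicValNat.eq_zero_of_not_dvd htn]
        exact Nat.zero_le _
  refine ⟨hA1, fun h4n => ?_⟩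
  by_contra h4d
  have h2n : 2 ∣ n := dvd_trans (by norm_num) h4n
  have h2d : 2 ∣ q - 1 := hA1 2 Nat.prime_two h2n
  have h4q : 4 ∣ q + 1 := by omega
  obtain ⟨m, hnm⟩ := h2n
  have hmev : Even m := by
    rw [even_iff_two_dvd]; omega
  have hm0 : m ≠ 0 := by omega
  apply hB2 m (by omega) (by omega)
  apply dvd_of_padic_le hM0 (pow_sub_one_ne_zero hq hm0)
  intro t ht
  haveI : Fact t.Prime := ⟨ht⟩
  rw [padicValNat.mul hn0 hd0]
  by_cases htd : t ∣ q - 1
  · rcases eq_or_ne t 2 with rfl | ht2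
    · have h1 := lower_two_strong hq h2d h4q hm0 hmev
      have h2 : padicValNat 2 n = 1 + padicValNat 2 m := by
        rw [hnm, padicValNat.mul (by norm_num) hm0, padicValNat_self]
      omega
    · have h1 := lower hq htd hm0
      have h2 : padicValNat t n = padicValNat t m := by
        haveI : Fact (Nat.Prime 2) := ⟨Nat.prime_two⟩
        rw [hnm, padicValNat.mul (by norm_num) hm0, padicValNat_primes ht2, zero_add]
      omega
  · have htn : ¬ t ∣ n := fun h => htd (hA1 t ht h)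
    rw [padicValNat.eq_zero_of_not_dvd htn, padicValNat.eq_zero_of_not_dvd htd]
    exact Nat.zero_le _

theorem pair_condition (q n : ℕ) (hq : 2 ≤ q) (hn : 1 < n) :
    ((∀ r : ℕ, r.Prime → r ∣ n → r ∣ q - 1) ∧ (4 ∣ n → 4 ∣ q - 1)) ↔
      (q ^ n ≡ 1 [MOD n * (q - 1)] ∧
        ∀ i : ℕ, 0 < i → i < n → ¬ q ^ i ≡ 1 [MOD n * (q - 1)]) := by
  have key : ∀ i, q ^ i ≡ 1 [MOD n * (q - 1)] ↔ n * (q - 1) ∣ q ^ i - 1 :=
    fun i => modEq_one_iff q i _ (by omega)
  simp only [key]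
  exact ⟨fun h => forward hq hn h.1 h.2, fun h => backward hq hn h.1 h.2⟩

end Cfsg.Agent.Helper4.Dickson
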