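import Mathlib
import Cfsg.Agent.Helper4.DiscGraphC

/-!
Part D: `G₀ = Z(G₀) C_{G₀}(P)` for every Sylow `p`-subgroup with `p ∉ σ`, and `G₀` is abelian.
-/

set_option autoImplicit false

namespace Cfsg.Agent.Helper4.DiscGraph

open Cfsg.Agent.Helper4.TwoClass Subgroup

variable {G : Type*} [Group G] [Finite G] {σ : Set ℕ} {b0 : G}

set_option linter.unusedSectionVars false

namespace Hyp

theorem exists_center_mul_cent (h : Hyp G σ b0) (p : ℕ) [Fact p.Prime] (hp : p ∉ σ)
    (P : Sylow p G) (g : G) (hg : g ∈ h.G0) :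
    ∃ z c : G, z ∈ h.G0 ∧ (∀ y ∈ h.G0, y * z = z * y) ∧ c ∈ h.G0 ∧
      (∀ u ∈ (P : Subgroup G), u * c = c * u) ∧ g = z * c := by
  obtain ⟨W, hW⟩ : ∃ W : Subgroup h.G0, W = center h.G0 ⊔
    (centralizer ((P : Subgroup G) : Set G)).subgroupOf h.G0 := ⟨_, rfl⟩
  have hWtop : W = ⊤ := by
    by_contra hne
    obtain ⟨g', hg'⟩ := exists_not_mem_conj W hne
    rcases h.dich (g' : G) with hσ | hσ'
    · have hnd : ¬ p ∣ (C (g' : G)).index := fun hd => hp (hσ p Fact.out hd)
      obtain ⟨P', hP'⟩ := exists_sylow_le_of_not_dvd_index p (C (g' : G)) hnd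
      obtain ⟨m, hm, hmP⟩ := h.exists_M_smul_eq p hp P P'
      apply hg' ⟨m, h.M_le_G0 hm⟩
      rw [hW]
      apply Subgroup.mem_sup_right
      rw [Subgroup.mem_subgroupOf, mem_centralizer_iff]
      intro u hu
      have h0 : m * u * m⁻¹ ∈ m • P := by
        rw [Cfsg.Agent.Helper4.mem_sylow_smul_iff]
        have : m⁻¹ * (m * u * m⁻¹) * m = u := by group
        rw [this]; exact hu
      rw [hmP] at h0
      have h2 : m * u * m⁻¹ * (g' : G) = (g' : G) * (m * u * m⁻¹) := mem_C.1 (hP' h0)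
      change u * (m⁻¹ * (g' : G) * m) = (m⁻¹ * (g' : G) * m) * u
      calc u * (m⁻¹ * (g' : G) * m) = m⁻¹ * (m * u * m⁻¹ * (g' : G)) * m := by group
        _ = m⁻¹ * ((g' : G) * (m * u * m⁻¹)) * m := by rw [h2]
        _ = (m⁻¹ * (g' : G) * m) * u := by group
    · apply hg' 1
      have h1 : (1 : h.G0)⁻¹ * g' * 1 = g' := by group
      rw [h1, hW]
      apply Subgroup.mem_sup_left
      rw [Subgroup.mem_center_iff]
      intro y
      apply Subtype.ext
      exact mem_C.1 (h.G0_le_C hσ' y.2)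
  have hmem : (⟨g, hg⟩ : h.G0) ∈ W := by rw [hWtop]; exact mem_top _
  rw [hW, ← SetLike.mem_coe, Subgroup.normal_mul, Set.mem_mul] at hmem
  obtain ⟨z, hz, c, hc, hzc⟩ := hmem
  refine ⟨z, c, z.2, ?_, c.2, ?_, ?_⟩
  · intro y hy
    have := Subgroup.mem_center_iff.1 hz ⟨y, hy⟩
    exact congrArg Subtype.val this
  · intro u hu
    rw [SetLike.mem_coe, Subgroup.mem_subgroupOf, mem_centralizer_iff] at hc
    exact hc u hu
  · exact (congrArg Subtype.val hzc).symm

/-- `G₀` is abelian -/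
theorem G0_comm (h : Hyp G σ b0) : ∀ x ∈ h.G0, ∀ y ∈ h.G0, x * y = y * x := by
  by_contra hcon
  push Not at hcon
  obtain ⟨c, hc, y, hy, hcy⟩ := hcon
  obtain ⟨a, ha1, ha⟩ := h.exK
  obtain ⟨p, hp, hpd⟩ := Nat.exists_prime_and_dvd (Nat.ne_of_gt ha1)
  have hpσ : p ∉ σ := ha p hp hpd
  haveI := Fact.mk hp
  obtain ⟨P⟩ : Nonempty (Sylow p G) := inferInstance
  obtain ⟨z, c', hz, hzc, hc', hcP, hczc⟩ := h.exists_center_mul_cent p hpσ P c hc
  have haG0 : ∀ k ∈ h.G0, k * a = a * k := fun k hk => mem_C.1 (h.G0_le_C ha hk)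
  -- c' does not commute with y
  have hc'y : c' * y ≠ y * c' := by
    intro hcomm
    apply hcy
    rw [hczc]
    calc z * c' * y = z * (c' * y) := by group
      _ = z * (y * c') := by rw [hcomm]
      _ = (z * y) * c' := by group
      _ = (y * z) * c' := by rw [hzc y hy]
      _ = y * (z * c') := by group
  -- class size of a * c' is a σ-number
  have hσ : IsNum σ (cs (a * c')) := by
    rcases h.dich (a * c') with h1 | h1
    · exact h1
    · exfalso
      have h2 : y * (a * c') = (a * c') * y := mem_C.1 (h.G0_le_C h1 hy)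
      apply hc'y
      have h3 : a * (y * c') = a * (c' * y) := by
        calc a * (y * c') = (a * y) * c' := by group
          _ = (y * a) * c' := by rw [haG0 y hy]
          _ = y * (a * c') := by group
          _ = (a * c') * y := h2
          _ = a * (c' * y) := by group
      exact (mul_left_cancel h3).symm
  have hnd : ¬ p ∣ (C (a * c')).index := fun hd => hpσ (hσ p hp hd)
  obtain ⟨P', hP'⟩ := exists_sylow_le_of_not_dvd_index p (C (a * c')) hnd
  obtain ⟨m, hm, hmP⟩ := h.exists_M_smul_eq p hpσ P P'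
  have hmG0 : m ∈ h.G0 := h.M_le_G0 hm
  obtain ⟨z1, c1, hz1, hz1c, hc1, hc1P, hmzc⟩ := h.exists_center_mul_cent p hpσ P m hmG0
  -- P ≤ C a
  have hPa : (P : Subgroup G) ≤ C a := by
    intro u hu
    rw [mem_C]
    have h0 : m * u * m⁻¹ ∈ m • P := by
      rw [Cfsg.Agent.Helper4.mem_sylow_smul_iff]
      have : m⁻¹ * (m * u * m⁻¹) * m = u := by group
      rw [this]; exact hu
    rw [hmP] at h0
    have h2 : m * u * m⁻¹ * (a * c') = (a * c') * (m * u * m⁻¹) := mem_C.1 (hP' h0)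
    -- d := c1⁻¹ * c' * c1 commutes with u
    have hud : u * (c1⁻¹ * c' * c1) = (c1⁻¹ * c' * c1) * u := by
      have e1 := hc1P u hu
      have e2 := hcP u hu
      have e3 : u * c1⁻¹ = c1⁻¹ * u := by
        calc u * c1⁻¹ = c1⁻¹ * (c1 * u) * c1⁻¹ := by group
          _ = c1⁻¹ * (u * c1) * c1⁻¹ := by rw [e1]
          _ = c1⁻¹ * u := by group
      calc u * (c1⁻¹ * c' * c1) = (u * c1⁻¹) * c' * c1 := by group
        _ = (c1⁻¹ * u) * c' * c1 := by rw [e3]
        _ = c1⁻¹ * (u * c') * c1 := by group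
        _ = c1⁻¹ * (c' * u) * c1 := by rw [e2]
        _ = c1⁻¹ * c' * (u * c1) := by group
        _ = c1⁻¹ * c' * (c1 * u) := by rw [e1]
        _ = (c1⁻¹ * c' * c1) * u := by group
    -- m⁻¹ * (a * c') * m = a * (c1⁻¹ * c' * c1)
    have hconj : m⁻¹ * (a * c') * m = a * (c1⁻¹ * c' * c1) := by
      have e1 : m * a = a * m := haG0 m hmG0
      have e1' : m⁻¹ * a = a * m⁻¹ := by
        calc m⁻¹ * a = m⁻¹ * (a * m) * m⁻¹ := by group
          _ = m⁻¹ * (m * a) * m⁻¹ := by rw [e1]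
          _ = a * m⁻¹ := by group
      have e2 : c' * z1 = z1 * c' := hz1c c' hc'
      have e2' : z1⁻¹ * c' = c' * z1⁻¹ := by
        calc z1⁻¹ * c' = z1⁻¹ * (c' * z1) * z1⁻¹ := by group
          _ = z1⁻¹ * (z1 * c') * z1⁻¹ := by rw [e2]
          _ = c' * z1⁻¹ := by group
      calc m⁻¹ * (a * c') * m = (m⁻¹ * a) * c' * m := by group
        _ = (a * m⁻¹) * c' * m := by rw [e1']
        _ = a * (m⁻¹ * c' * m) := by group
        _ = a * ((z1 * c1)⁻¹ * c' * (z1 * c1)) := by rw [hmzc]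
        _ = a * (c1⁻¹ * (z1⁻¹ * c') * z1 * c1) := by group
        _ = a * (c1⁻¹ * (c' * z1⁻¹) * z1 * c1) := by rw [e2']
        _ = a * (c1⁻¹ * c' * c1) := by group
    have h3 : u * (m⁻¹ * (a * c') * m) = (m⁻¹ * (a * c') * m) * u := by
      calc u * (m⁻¹ * (a * c') * m) = m⁻¹ * (m * u * m⁻¹ * (a * c')) * m := by group
        _ = m⁻¹ * ((a * c') * (m * u * m⁻¹)) * m := by rw [h2]
        _ = (m⁻¹ * (a * c') * m) * u := by group
    rw [hconj] at h3
    have h4 : (u * a) * (c1⁻¹ * c' * c1) = (a * u) * (c1⁻¹ * c' * c1) := by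
      calc (u * a) * (c1⁻¹ * c' * c1) = u * (a * (c1⁻¹ * c' * c1)) := by group
        _ = a * (c1⁻¹ * c' * c1) * u := h3
        _ = a * ((c1⁻¹ * c' * c1) * u) := by group
        _ = a * (u * (c1⁻¹ * c' * c1)) := by rw [hud]
        _ = (a * u) * (c1⁻¹ * c' * c1) := by group
    exact mul_right_cancel h4
  exact not_dvd_index_of_sylow_le p (C a) P hPa hpd

end Hyp

end Cfsg.Agent.Helper4.DiscGraph
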