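import Mathlib
import Cfsg.Agent.Helper4.DiscGraphD
import Cfsg.Agent.Helper1.Card

/-!
Part E: the class sizes are `1`, `m` and `n`; the two largest class sizes are coprime.
-/

set_option autoImplicit false

namespace Cfsg.Agent.Helper4.DiscGraph

open Cfsg.Agent.Helper4.TwoClass Subgroup

variable {G : Type*} [Group G] [Finite G] {σ : Set ℕ} {b0 : G}

set_option linter.unusedSectionVars false

namespace Hyp

theorem isNum_cs_of_mem_G0 (h : Hyp G σ b0) {g : G} (hg : g ∈ h.G0) : IsNum σᶜ (cs g) := by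
  have h1 : h.G0 ≤ C g := by
    intro k hk
    rw [mem_C]
    exact h.G0_comm k hk g hg
  exact h.isNum_index_G0.of_dvd (Subgroup.index_dvd_of_le h1)

/-- an element of `G₀` commuting with a noncentral element of `σ`-class size is central -/
theorem central_of_commute (h : Hyp G σ b0) {x : G} (hx : IsNum σ (cs x)) (hx1 : 1 < cs x)
    {g : G} (hg : g ∈ h.G0) (hgx : g * x = x * g) : g ∈ center G := by
  obtain ⟨x1, x2, h1, h2, h3, h4, h5⟩ := PiParts.exists_decomp σ x
  have hx1G0 : x1 ∈ h.G0 := h3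
  have hz : x1 ∈ center G := by
    rw [← cs_eq_one_iff]
    apply IsNum.eq_one (hx.of_dvd (cs_dvd_of_le (C_le_of_mem_zpowers h1)))
    exact h.isNum_cs_of_mem_G0 hx1G0
  have hx' : x = x2 * x1 := by
    rw [← h5]
    exact (Subgroup.mem_center_iff.1 hz x2).symm
  have hC : C x = C x2 := by rw [hx', C_mul_central hz]
  have hcs : cs x2 = cs x := by
    change (C x2).index = (C x).index
    rw [hC]
  by_contra hgZ
  have hg1 : cs g ≠ 1 := fun h0 => hgZ ((cs_eq_one_iff g).1 h0)
  have hgσ' : IsNum σᶜ (cs g) := h.isNum_cs_of_mem_G0 hg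
  have hgx2 : Commute g x2 := by
    have : g ∈ C x2 := by rw [← hC, mem_C]; exact hgx
    exact mem_C.1 this
  have hcop : (orderOf g).Coprime (orderOf x2) := PiParts.coprime_orderOf (π := σ) hg h4
  have hCC := C_mul_of_coprime hgx2 hcop
  have hd1 : cs g ∣ cs (g * x2) := cs_dvd_of_le (by rw [hCC]; exact inf_le_left)
  have hd2 : cs x2 ∣ cs (g * x2) := cs_dvd_of_le (by rw [hCC]; exact inf_le_right)
  rcases h.dich (g * x2) with h6 | h6
  · exact hg1 (IsNum.eq_one (h6.of_dvd hd1) hgσ')
  · have h7 : cs x = 1 := IsNum.eq_one hx (by rw [← hcs]; exact h6.of_dvd hd2)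
    omega

theorem cs_mul_card_of_sigma (h : Hyp G σ b0) {x : G} (hx : IsNum σ (cs x)) (hx1 : 1 < cs x) :
    cs x * Nat.card (h.G0 ⊓ center G : Subgroup G) = Nat.card h.G0 := by
  have htop : h.G0 ⊔ C x = ⊤ := by
    rw [← Subgroup.index_eq_one]
    apply IsNum.eq_one (σ := σ)
    · exact hx.of_dvd (Subgroup.index_dvd_of_le le_sup_right)
    · exact h.isNum_index_G0.of_dvd (Subgroup.index_dvd_of_le le_sup_left)
  have hinf : h.G0 ⊓ C x = h.G0 ⊓ center G := by
    apply le_antisymm
    · intro k hk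
      exact ⟨hk.1, h.central_of_commute hx hx1 hk.1 (mem_C.1 hk.2)⟩
    · exact inf_le_inf_left _ (center_le_C x)
  have hnorm : C x ≤ Subgroup.normalizer ((h.G0 : Subgroup G) : Set G) := by
    rw [Subgroup.normalizer_eq_top]
    exact le_top
  have hcard := Cfsg.Agent.Helper1.card_sup_mul_card_inf (N := h.G0) (A := C x) hnorm
  rw [htop, hinf, Subgroup.card_top] at hcard
  have h1 : cs x * Nat.card (C x) = Nat.card G := (C x).index_mul_card
  rw [← h1] at hcard
  have hpos : 0 < Nat.card (C x) := Nat.card_pos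
  apply Nat.eq_of_mul_eq_mul_right hpos
  calc cs x * Nat.card (h.G0 ⊓ center G : Subgroup G) * Nat.card (C x)
      = cs x * Nat.card (C x) * Nat.card (h.G0 ⊓ center G : Subgroup G) := by ring
    _ = Nat.card h.G0 * Nat.card (C x) := hcard

theorem cs_of_sigma' (h : Hyp G σ b0) {a : G} (ha : IsNum σᶜ (cs a)) (ha1 : 1 < cs a) :
    cs a = (h.G0 ⊔ center G).index := by
  obtain ⟨a1, z, ha1G0, hz, haz, hC⟩ := h.exists_G0_mul_central ha
  have hcs1 : cs a1 = cs a := by
    change (C a1).index = (C a).index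
    rw [hC]
  have hCeq : C a1 = h.G0 ⊔ center G := by
    apply le_antisymm
    · intro x hx
      obtain ⟨x1, x2, h1, h2, h3, h4, h5⟩ := PiParts.exists_decomp σ x
      have hx1G0 : x1 ∈ h.G0 := h3
      have ha1x2 : a1 * x2 = x2 * a1 := by
        have h6 : a1 ∈ C x := mem_C_comm.1 hx
        exact mem_C.1 (C_le_of_mem_zpowers h2 h6)
      have hx2Z : x2 ∈ center G := by
        by_contra hx2
        have hne : cs x2 ≠ 1 := fun h0 => hx2 ((cs_eq_one_iff x2).1 h0)
        have hpos : 0 < cs x2 := cs_pos x2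
        rcases h.dich x2 with h6 | h6
        · have h7 := h.central_of_commute h6 (by omega) ha1G0 ha1x2
          rw [← cs_eq_one_iff, hcs1] at h7
          omega
        · exact hx2 (h.central_of_isPi' h6 h4)
      rw [← h5]
      exact Subgroup.mul_mem_sup hx1G0 hx2Z
    · apply sup_le
      · exact h.G0_le_C (by rw [hcs1]; exact ha)
      · exact center_le_C a1
  rw [← hcs1]
  change (C a1).index = _
  rw [hCeq]

/-- the two largest class sizes are coprime -/
theorem exists_TC (h : Hyp G σ b0) : ∃ n : ℕ, TC G (cs b0) n := by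
  obtain ⟨a, ha1, ha⟩ := h.exK
  have hn : cs a = (h.G0 ⊔ center G).index := h.cs_of_sigma' ha ha1
  have hb1 : 1 < cs b0 := lt_of_lt_of_le ha1 (h.top a)
  have hb := h.cs_mul_card_of_sigma h.b0σ hb1
  have hkpos : 0 < Nat.card (h.G0 ⊓ center G : Subgroup G) := Nat.card_pos
  have hcases : ∀ z : G, cs z = 1 ∨ cs z = cs b0 ∨ cs z = cs a := by
    intro z
    by_cases hz1 : cs z = 1
    · exact Or.inl hz1
    have hzpos : 0 < cs z := cs_pos z
    rcases h.dich z with h6 | h6
    · right; left
      have := h.cs_mul_card_of_sigma h6 (by omega)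
      rw [← hb] at this
      exact Nat.eq_of_mul_eq_mul_right hkpos this
    · right; right
      rw [hn]
      exact h.cs_of_sigma' h6 (by omega)
  have hcop : (cs b0).Coprime (cs a) := h.b0σ.coprime ha
  have hne : cs a ≠ cs b0 := by
    intro heq
    rw [heq, Nat.coprime_self] at hcop
    omega
  refine ⟨cs a, ?_, ha1, hcop, h.top, ?_, ⟨a, rfl⟩, ⟨b0, rfl⟩⟩
  · exact lt_of_le_of_ne (h.top a) hne
  · intro z hz
    rcases hcases z with h1 | h1 | h1
    · omega
    · omega
    · omega

end Hyp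

end Cfsg.Agent.Helper4.DiscGraph
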