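import Mathlib
import Cfsg.Prelude.Def_Solvable
import Cfsg.Agent.Helper4.FrobeniusTransport

set_option autoImplicit false

namespace Cfsg.Agent.Helper4

universe u

/-- An element `r ≠ 1` of finite order `m` in a domain acts without fixed points on a module
killed by an integer prime to `m`. -/
theorem smul_eq_self_imp_eq_zero {R V : Type*} [Ring R] [NoZeroDivisors R] [AddCommGroup V]
    [Module R V] (q m : ℕ) (hqm : Nat.Coprime m q) (hq : ∀ v : V, q • v = 0) (r : R) (hr1 : r ≠ 1)
    (hrm : r ^ m = 1) (v : V) (hv : r • v = v) : v = 0 := by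
  have hsum : (∑ i ∈ Finset.range m, r ^ i) = 0 := by
    have h1 : (∑ i ∈ Finset.range m, r ^ i) * (r - 1) = 0 := by rw [geom_sum_mul, hrm, sub_self]
    rcases mul_eq_zero.mp h1 with h | h
    · exact h
    · exact absurd (sub_eq_zero.mp h) hr1
  have hpow : ∀ i : ℕ, r ^ i • v = v := by
    intro i
    induction i with
    | zero => simp
    | succ i ih => rw [pow_succ, mul_smul, hv, ih]
  have h2 : (∑ i ∈ Finset.range m, r ^ i) • v = m • v := by
    rw [Finset.sum_smul]
    simp [hpow]
  rw [hsum, zero_smul] at h2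
  have h3 : addOrderOf v ∣ m := addOrderOf_dvd_of_nsmul_eq_zero h2.symm
  have h4 : addOrderOf v ∣ q := addOrderOf_dvd_of_nsmul_eq_zero (hq v)
  have h5 : addOrderOf v ∣ 1 := by
    have := Nat.dvd_gcd h3 h4
    rwa [hqm] at this
  exact AddMonoid.addOrderOf_eq_one_iff.mp (Nat.dvd_one.mp h5)

variable {D : Type u} [DivisionRing D]

/-- In characteristic `p` no unit has order divisible by `p`. -/
theorem not_dvd_orderOf_unit_of_charP (p : ℕ) [hp : Fact p.Prime] [CharP D p] (h : Dˣ)
    (hfin : IsOfFinOrder h) : ¬ p ∣ orderOf h := by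
  intro hdvd
  have hpos : 0 < orderOf h := hfin.orderOf_pos
  set g := h ^ (orderOf h / p) with hg
  have hgo : orderOf g = p := orderOf_pow_orderOf_div hpos.ne' hdvd
  have hgp : g ^ p = 1 := by rw [← hgo]; exact pow_orderOf_eq_one g
  have h1 : ((g : D) - 1) ^ p = 0 := by
    rw [sub_pow_char_of_commute (p := p) (h := Commute.one_right _), one_pow, ← Units.val_pow_eq_pow_val, hgp,
      Units.val_one, sub_self]
  have h2 : (g : D) - 1 = 0 := pow_eq_zero_iff (hp.out.ne_zero) |>.mp h1
  have h3 : g = 1 := Units.ext (by rw [Units.val_one]; exact sub_eq_zero.mp h2)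
  rw [h3, orderOf_one] at hgo
  exact hp.out.one_lt.ne hgo

/-- The multiplicative submonoid of `D` underlying a group of units. -/
def unitsImage (H : Subgroup Dˣ) : Submonoid D := H.toSubmonoid.map (Units.coeHom D)

/-- The subring generated by a group of units. -/
def hSubring (H : Subgroup Dˣ) : Subring D := Subring.closure (unitsImage H : Set D)

theorem mem_hSubring_iff (H : Subgroup Dˣ) (x : D) :
    x ∈ hSubring H ↔ x ∈ AddSubgroup.closure (unitsImage H : Set D) := by
  rw [hSubring, Subring.mem_closure_iff, Submonoid.closure_eq]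

/-- The inclusion of the group into its subring. -/
def hIncl (H : Subgroup Dˣ) : H →* hSubring H where
  toFun h := ⟨((h : Dˣ) : D), Subring.subset_closure ⟨h, h.2, rfl⟩⟩
  map_one' := rfl
  map_mul' _ _ := rfl

theorem hIncl_coe (H : Subgroup Dˣ) (h : H) : ((hIncl H h : hSubring H) : D) = ((h : Dˣ) : D) := rfl

theorem hSubring_fg (H : Subgroup Dˣ) [Finite H] : AddGroup.FG (hSubring H) := by
  have hfin : Finite (unitsImage H : Set D) := by
    have : (unitsImage H : Set D) = (fun h : Dˣ => (h : D)) '' (H : Set Dˣ) := rfl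
    rw [this]
    exact Finite.Set.finite_image _ _
  have : AddGroup.FG (AddSubgroup.closure (unitsImage H : Set D)) := AddGroup.closure_finite_fg _
  let f : AddSubgroup.closure (unitsImage H : Set D) →+ hSubring H :=
    { toFun := fun x => ⟨x, (mem_hSubring_iff H x).mpr x.2⟩
      map_zero' := rfl
      map_add' := fun _ _ => rfl }
  apply AddGroup.fg_of_surjective (f := f)
  rintro ⟨x, hx⟩
  exact ⟨⟨x, (mem_hSubring_iff H x).mp hx⟩, rfl⟩

/-- The left ideal generated by the integer `q`. -/
def qIdeal (H : Subgroup Dˣ) (q : ℕ) : Submodule (hSubring H) (hSubring H) :=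
  Submodule.span _ {(q : hSubring H)}

theorem nsmul_quotient_eq_zero (H : Subgroup Dˣ) (q : ℕ) (v : hSubring H ⧸ qIdeal H q) :
    q • v = 0 := by
  induction v using Submodule.Quotient.induction_on with
  | _ r =>
    rw [← Submodule.Quotient.mk_smul, Submodule.Quotient.mk_eq_zero, qIdeal,
      Submodule.mem_span_singleton]
    refine ⟨r, ?_⟩
    rw [smul_eq_mul, nsmul_eq_mul]
    exact (Nat.cast_commute q r).symm.eq

theorem quotient_finite (H : Subgroup Dˣ) [Finite H] (q : ℕ) (hq : 0 < q) :
    Finite (hSubring H ⧸ qIdeal H q) := by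
  have := hSubring_fg H
  have hfg : AddGroup.FG (hSubring H ⧸ qIdeal H q) := by
    apply AddGroup.fg_of_surjective (f := (qIdeal H q).mkQ.toAddMonoidHom)
    exact Submodule.Quotient.mk_surjective _
  apply AddCommGroup.finite_of_fg_isAddTorsion
  intro v
  rw [isOfFinAddOrder_iff_nsmul_eq_zero]
  exact ⟨q, hq, nsmul_quotient_eq_zero H q v⟩

/-- In characteristic zero the ideal generated by a prime is proper (Nakayama). -/
theorem one_notMem_qIdeal_of_charZero (H : Subgroup Dˣ) [Finite H] [CharZero D] (q : ℕ)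
    (hq : q.Prime) : (1 : hSubring H) ∉ qIdeal H q := by
  intro h1
  rw [qIdeal, Submodule.mem_span_singleton] at h1
  obtain ⟨a, ha⟩ := h1
  rw [smul_eq_mul] at ha
  have hfg := hSubring_fg H
  have hmf : Module.Finite ℤ (hSubring H) := Module.Finite.iff_addGroup_fg.mpr hfg
  have hin : (⊤ : Submodule ℤ (hSubring H)) ≤ Ideal.span {(q : ℤ)} • ⊤ := by
    intro x _
    have hx : x = (q : ℤ) • (x * a) := by
      rw [zsmul_eq_mul, Int.cast_natCast]
      calc x = x * (a * (q : hSubring H)) := by rw [ha, mul_one]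
        _ = (q : hSubring H) * (x * a) := by
            rw [← mul_assoc, (Nat.cast_commute q (x * a)).eq]
    rw [hx]
    exact Submodule.smul_mem_smul (Ideal.subset_span rfl) trivial
  obtain ⟨z, hz1, hz2⟩ := Submodule.exists_sub_one_mem_and_smul_eq_zero_of_fg_of_le_smul
    (Ideal.span {(q : ℤ)}) (⊤ : Submodule ℤ (hSubring H)) Module.Finite.fg_top hin
  have h3 := hz2 1 trivial
  have h4 : (z : D) = 0 := by
    have := congrArg (Subtype.val : hSubring H → D) h3
    simpa using this
  have hz0 : z = 0 := by exact_mod_cast h4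
  rw [hz0, zero_sub, Ideal.mem_span_singleton] at hz1
  have : (q : ℤ) ∣ 1 := (dvd_neg.mp hz1)
  have hq1 : q ∣ 1 := by exact_mod_cast this
  exact hq.one_lt.ne' (Nat.dvd_one.mp hq1)

/-- In characteristic `q` the ideal generated by `q` is zero, hence proper. -/
theorem one_notMem_qIdeal_of_charP (H : Subgroup Dˣ) (q : ℕ) [CharP D q] :
    (1 : hSubring H) ∉ qIdeal H q := by
  intro h1
  rw [qIdeal, Submodule.mem_span_singleton] at h1
  obtain ⟨a, ha⟩ := h1
  rw [smul_eq_mul] at ha
  have h2 := congrArg (Subtype.val : hSubring H → D) ha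
  have h3 : ((q : hSubring H) : D) = 0 := by
    rw [Subring.coe_natCast]; exact CharP.cast_eq_zero D q
  rw [Subring.coe_mul, h3, mul_zero, Subring.coe_one] at h2
  exact zero_ne_one h2

/-- The action of `H` on the quotient module, written multiplicatively. -/
noncomputable def quotAction (H : Subgroup Dˣ) (q : ℕ) :
    H →* MulAut (Multiplicative (hSubring H ⧸ qIdeal H q)) :=
  (MulAutMultiplicative (hSubring H ⧸ qIdeal H q)).symm.toMonoidHom.comp
    ((DistribMulAction.toAddAut (hSubring H)ˣ (hSubring H ⧸ qIdeal H q)).comp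
      (hIncl H).toHomUnits)

theorem quotAction_apply (H : Subgroup Dˣ) (q : ℕ) (h : H) (v : hSubring H ⧸ qIdeal H q) :
    quotAction H q h (Multiplicative.ofAdd v) = Multiplicative.ofAdd ((hIncl H h) • v) := rfl

/-- Main construction: a finite group of units with a suitable prime `q` is a Frobenius
complement. -/
theorem exists_frobenius_of_prime (H : Subgroup Dˣ) [Finite H] (hH : H ≠ ⊥) (q : ℕ) (hq : q.Prime)
    (hqH : ∀ h : H, ¬ q ∣ orderOf h) (hq1 : (1 : hSubring H) ∉ qIdeal H q) :
    ∃ (L : Type) (_ : Group L) (_ : Finite L) (C : Subgroup L),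
      Cfsg.IsFrobeniusComplement C ∧ Nonempty (H ≃* C) := by
  have hVfin : Finite (hSubring H ⧸ qIdeal H q) := quotient_finite H q hq.pos
  have hVnt : Nontrivial (hSubring H ⧸ qIdeal H q) := by
    rw [Submodule.Quotient.nontrivial_iff]
    intro htop
    apply hq1
    rw [htop]; trivial
  have hNnt : Nontrivial (Multiplicative (hSubring H ⧸ qIdeal H q)) := inferInstance
  have hKnt : Nontrivial H := by
    rw [← Subgroup.nontrivial_iff_ne_bot] at hH  
    exact hH
  have hfpf : ∀ k : H, k ≠ 1 → ∀ a : Multiplicative (hSubring H ⧸ qIdeal H q),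
      quotAction H q k a = a → a = 1 := by
    intro k hk a ha
    have h1 : (hIncl H k) • Multiplicative.toAdd a = Multiplicative.toAdd a := by
      have := quotAction_apply H q k (Multiplicative.toAdd a)
      rw [ofAdd_toAdd, ha] at this
      exact (congrArg Multiplicative.toAdd this).symm
    have hr1 : hIncl H k ≠ 1 := by
      intro h
      apply hk
      have h2 := congrArg (Subtype.val : hSubring H → D) h
      rw [hIncl_coe, Subring.coe_one] at h2
      apply Subtype.ext
      apply Units.ext
      rw [h2]; rfl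
    have hrm : (hIncl H k) ^ (orderOf k) = 1 := by
      rw [← map_pow, pow_orderOf_eq_one, map_one]
    have hcop : Nat.Coprime (orderOf k) q :=
      (Nat.Coprime.symm ((Nat.Prime.coprime_iff_not_dvd hq).mpr (hqH k)))
    have := smul_eq_self_imp_eq_zero q (orderOf k) hcop (nsmul_quotient_eq_zero H q)
      (hIncl H k) hr1 hrm _ h1
    exact congrArg Multiplicative.ofAdd this
  have hfin : Finite (Multiplicative (hSubring H ⧸ qIdeal H q) ⋊[quotAction H q] H) := by
    have : Finite (Multiplicative (hSubring H ⧸ qIdeal H q)) := hVfin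
    exact Finite.of_equiv _ SemidirectProduct.equivProd.symm
  have hC := isFrobeniusComplement_inr_range (quotAction H q) hfpf
  obtain ⟨L, hL1, hL2, C, hCfrob, ⟨e⟩⟩ := exists_small_frobenius_copy _ hC
  refine ⟨L, hL1, hL2, C, hCfrob, ⟨?_⟩⟩
  have e2 : H ≃* (SemidirectProduct.inr :
      H →* Multiplicative (hSubring H ⧸ qIdeal H q) ⋊[quotAction H q] H).range :=
    MonoidHom.ofInjective SemidirectProduct.inr_injective
  exact e2.trans e

end Cfsg.Agent.Helper4
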