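import Mathlib

set_option autoImplicit false

namespace Cfsg.Agent.Helper4

/-- Core count in additive form. -/
theorem card_generating_tuples_add {V : Type*} [AddCommGroup V] [Finite V] {p : ℕ} [Fact p.Prime]
    [Module (ZMod p) V] (r : ℕ) (hcard : Nat.card V = p ^ r) :
    Nat.card {s : Fin r → V // AddSubgroup.closure (Set.range s) = ⊤} =
      ∏ i ∈ Finset.range r, (p ^ r - p ^ i) := by
  classical
  have hp : p.Prime := Fact.out
  have hmf : Module.Finite (ZMod p) V := Module.Finite.of_finite
  have hrank : Module.finrank (ZMod p) V = r := by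
    have h1 := Module.natCard_eq_pow_finrank (K := ZMod p) (V := V)
    rw [hcard, Nat.card_eq_fintype_card, ZMod.card] at h1
    exact (Nat.pow_right_injective hp.two_le h1).symm
  have hspan : ∀ s : Fin r → V,
      Submodule.span (ZMod p) (Set.range s) =
        AddSubgroup.toZModSubmodule p (AddSubgroup.closure (Set.range s)) := by
    intro s
    apply le_antisymm
    · rw [Submodule.span_le]
      rintro _ ⟨i, rfl⟩
      show s i ∈ AddSubgroup.toZModSubmodule p _
      rw [AddSubgroup.mem_toZModSubmodule]
      exact AddSubgroup.subset_closure ⟨i, rfl⟩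
    · intro x hx
      rw [AddSubgroup.mem_toZModSubmodule] at hx
      have hle : AddSubgroup.closure (Set.range s) ≤
          (Submodule.span (ZMod p) (Set.range s)).toAddSubgroup := by
        rw [AddSubgroup.closure_le]
        exact Submodule.subset_span
      exact hle hx
  have hiff : ∀ s : Fin r → V, AddSubgroup.closure (Set.range s) = ⊤ ↔
      LinearIndependent (ZMod p) s := by
    intro s
    constructor
    · intro h
      apply linearIndependent_of_top_le_span_of_card_eq_finrank
      · rw [hspan s, h]
        intro x _
        rw [AddSubgroup.mem_toZModSubmodule]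
        trivial
      · rw [Fintype.card_fin, hrank]
    · intro h
      have h1 := h.span_eq_top_of_card_eq_finrank' (by rw [Fintype.card_fin, hrank])
      rw [hspan s] at h1
      rw [eq_top_iff]
      intro y _
      have h2 : y ∈ AddSubgroup.toZModSubmodule p (AddSubgroup.closure (Set.range s)) := by
        rw [h1]; trivial
      rw [AddSubgroup.mem_toZModSubmodule] at h2
      exact h2
  have e : {s : Fin r → V // AddSubgroup.closure (Set.range s) = ⊤} ≃
      {s : Fin r → V // LinearIndependent (ZMod p) s} :=
    Equiv.subtypeEquivRight hiff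
  rw [Nat.card_congr e, card_linearIndependent (by rw [hrank]), hrank, ZMod.card,
    Fin.prod_univ_eq_prod_range (fun i => p ^ r - p ^ i) r]

/-- The number of generating `r`-tuples of an elementary abelian group of order `p^r`
(commutative group version). -/
theorem card_generating_tuples_comm {Q : Type*} [CommGroup Q] [Finite Q] {p : ℕ} [Fact p.Prime]
    (r : ℕ) (hexp : ∀ a : Q, a ^ p = 1) (hcard : Nat.card Q = p ^ r) :
    Nat.card {s : Fin r → Q // Subgroup.closure (Set.range s) = ⊤} =
      ∏ i ∈ Finset.range r, (p ^ r - p ^ i) := by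
  have hV : ∀ x : Additive Q, p • x = 0 := by
    intro x
    show Additive.ofMul (x.toMul ^ p) = 0
    rw [hexp]; rfl
  let _ : Module (ZMod p) (Additive Q) := AddCommGroup.zmodModule hV
  have hfin : Finite (Additive Q) := inferInstanceAs (Finite Q)
  have h := card_generating_tuples_add (V := Additive Q) (p := p) r hcard
  rw [← h]
  apply Nat.card_congr
  refine
    { toFun := fun s => ⟨fun i => Additive.ofMul (s.1 i), ?_⟩
      invFun := fun s => ⟨fun i => Additive.toMul (s.1 i), ?_⟩
      left_inv := fun s => rfl
      right_inv := fun s => rfl }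
  · have h1 := Subgroup.toAddSubgroup_closure (Set.range s.1)
    rw [s.2] at h1
    have h2 : (Additive.toMul ⁻¹' Set.range s.1) = Set.range (fun i => Additive.ofMul (s.1 i)) := by
      ext x
      constructor
      · rintro ⟨i, hi⟩
        refine ⟨i, ?_⟩
        show Additive.ofMul (s.1 i) = x
        rw [hi]; rfl
      · rintro ⟨i, rfl⟩; exact ⟨i, rfl⟩
    rw [h2] at h1
    rw [← h1]
    rfl
  · have h1 := Subgroup.toAddSubgroup_closure (Set.range (fun i => Additive.toMul (s.1 i)))
    have h2 : (Additive.toMul ⁻¹' Set.range (fun i => Additive.toMul (s.1 i))) = Set.range s.1 := by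
      ext x
      constructor
      · rintro ⟨i, hi⟩; exact ⟨i, by simpa using hi⟩
      · rintro ⟨i, rfl⟩; exact ⟨i, rfl⟩
    rw [h2, s.2] at h1
    apply Subgroup.toAddSubgroup.injective
    rw [h1]
    rfl

/-- Group version with commutativity as a hypothesis. -/
theorem card_generating_tuples {Q : Type*} [inst : Group Q] [Finite Q] {p : ℕ} [Fact p.Prime]
    (r : ℕ) (hcomm : ∀ a b : Q, a * b = b * a) (hexp : ∀ a : Q, a ^ p = 1)
    (hcard : Nat.card Q = p ^ r) :
    Nat.card {s : Fin r → Q // Subgroup.closure (Set.range s) = ⊤} =
      ∏ i ∈ Finset.range r, (p ^ r - p ^ i) :=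
  @card_generating_tuples_comm Q { inst with mul_comm := hcomm } _ p _ r hexp hcard

end Cfsg.Agent.Helper4
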