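import Mathlib
import Cfsg.Agent.Helper4.EqOrdConjA

set_option autoImplicit false

/-!
Solvable groups in which `p`-subgroups of equal order are conjugate and whose Sylow subgroups
are cyclic with at most one exception: subgroups of equal order are conjugate.
-/

namespace Cfsg.Agent.Helper4.EqOrdConj

open scoped Pointwise
open Cfsg.Agent.Helper1

universe u

/-- `p`-complement inside a subgroup of a solvable group -/
theorem exists_pcompl_le {G : Type u} [Group G] [Finite G] [Group.IsSolvable G] {p : ℕ}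
    (hp : p.Prime) (A : Subgroup G) :
    ∃ A' : Subgroup G, A' ≤ A ∧
      Nat.card A' = Nat.card A / p ^ (Nat.card A).factorization p := by
  have hHall : HallProp A := hallProp_of_solvable _ A rfl
  have hne : Nat.card A ≠ 0 := Nat.card_pos.ne'
  have hcard : Nat.card A = (Nat.card A / p ^ (Nat.card A).factorization p) *
      p ^ (Nat.card A).factorization p := (Nat.div_mul_cancel (Nat.ordProj_dvd _ _)).symm
  have hcop : (Nat.card A / p ^ (Nat.card A).factorization p).Coprime
      (p ^ (Nat.card A).factorization p) :=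
    ((Nat.coprime_ordCompl hp hne).symm).pow_right _
  obtain ⟨H, hHA, hH, -⟩ := (hHall.internal _ _ hcard hcop).2 ⊥ bot_le (by
    rw [Subgroup.card_bot]; exact Nat.coprime_one_left _)
  exact ⟨H, hHA, hH⟩

theorem main (r : ℕ) : ∀ (n : ℕ) (G : Type u) [Group G] [Finite G] [Group.IsSolvable G],
    Nat.card G = n → PConj G →
    (∀ q : ℕ, q.Prime → q ≠ r → ∀ Q : Sylow q G, IsCyclic Q) → AllConj G := by
  intro n
  induction n using Nat.strong_induction_on with
  | _ n ih =>
  intro G _ _ _ hn hP hC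
  rcases subsingleton_or_nontrivial G with hs | hnt
  · intro H K _
    exact ⟨1, Subsingleton.elim _ _⟩
  obtain ⟨N, hNn, hNne, hNmin⟩ := exists_minimal_normal (G := G)
  haveI := hNn
  obtain ⟨hab, p, hp, hpow⟩ := Cfsg.Agent.S0043.result N hNne hNmin
  haveI : Fact p.Prime := ⟨hp⟩
  have hNp : IsPGroup p N := by
    intro x
    refine ⟨1, ?_⟩
    rw [pow_one]
    apply Subtype.ext
    rw [Subgroup.coe_pow]
    exact hpow x x.2
  obtain ⟨a, ha⟩ := IsPGroup.iff_card.1 hNp
  have ha1 : 1 ≤ a := by
    rcases Nat.eq_zero_or_pos a with h0 | h0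
    · exfalso; rw [h0, pow_zero] at ha; exact hNne (Subgroup.card_eq_one.1 ha)
    · exact h0
  have hpG : p ∣ Nat.card G :=
    (dvd_pow_self p (by omega)).trans (ha ▸ Subgroup.card_subgroup_dvd_card N)
  -- p-subgroups of order dividing |N| lie in N
  have hsubN : ∀ M : Subgroup G, IsPGroup p M → Nat.card M ∣ Nat.card N → M ≤ N := by
    intro M hM hdvd
    obtain ⟨k, hk⟩ := IsPGroup.iff_card.1 hM
    obtain ⟨M', hM'N, hM'c⟩ := exists_le_card_pow (p := p) N (k := k) (hk ▸ hdvd)
    obtain ⟨g, hg⟩ := hP p hp M' M (hNp.to_le hM'N) hM (by rw [hM'c, hk])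
    rw [← hg]
    calc MulAut.conj g • M' ≤ MulAut.conj g • N := conj_smul_mono hM'N g
      _ = N := conj_smul_normal N g
  -- the quotient
  have hlt : Nat.card (G ⧸ N) < n := by
    rw [← hn, ← Subgroup.index_eq_card, ← Subgroup.card_mul_index N]
    have h1 : 1 < Nat.card N := by rw [ha]; exact Nat.one_lt_pow (by omega) hp.one_lt
    have h2 : 0 < N.index := Nat.pos_of_ne_zero Subgroup.index_ne_zero_of_finite
    nlinarith
  have hQ : AllConj (G ⧸ N) := ih _ hlt (G ⧸ N) rfl (pconj_quotient hP N)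
    (fun q hq hqr Q => by
      haveI : Fact q.Prime := ⟨hq⟩
      exact isCyclic_sylow_quotient (hC q hq hqr) N Q)
  by_cases hcase : a = 1
  · -- case A: |N| = p
    rw [hcase, pow_one] at ha
    intro H K hHK
    by_cases hpH : p ∣ Nat.card H
    · have hNle : ∀ L : Subgroup G, p ∣ Nat.card L → N ≤ L := by
        intro L hL
        obtain ⟨x, hx⟩ := exists_prime_orderOf_dvd_card' p hL
        have hxo : orderOf (x : G) = p := by rw [Subgroup.orderOf_coe, hx]
        have h1 : Subgroup.zpowers (x : G) ≤ N :=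
          hsubN _ (IsPGroup.of_card (n := 1) (by rw [Nat.card_zpowers, hxo, pow_one]))
            (by rw [Nat.card_zpowers, hxo, ha])
        have h2 : Subgroup.zpowers (x : G) = N :=
          Subgroup.eq_of_le_of_card_ge h1 (by rw [ha, Nat.card_zpowers, hxo])
        rw [← h2]; exact Subgroup.zpowers_le.2 x.2
      have hNH := hNle H hpH
      have hNK := hNle K (hHK ▸ hpH)
      obtain ⟨q, hq⟩ := hQ (H.map (QuotientGroup.mk' N)) (K.map (QuotientGroup.mk' N)) (by
        have h1 := card_map_mk'_mul_card N H hNH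
        have h2 := card_map_mk'_mul_card N K hNK
        have hN0 : 0 < Nat.card N := Nat.card_pos
        apply Nat.eq_of_mul_eq_mul_right hN0
        rw [h1, h2, hHK])
      obtain ⟨g, hg⟩ := exists_conj_sup_eq_of_map_mk' q hq
      refine ⟨g, ?_⟩
      have h3 : N ≤ MulAut.conj g • H := by
        calc N = MulAut.conj g • N := (conj_smul_normal N g).symm
          _ ≤ MulAut.conj g • H := conj_smul_mono hNH g
      rwa [sup_eq_left.2 h3, sup_eq_left.2 hNK] at hg
    · have hpK : ¬ p ∣ Nat.card K := hHK ▸ hpH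
      have hcopH : (Nat.card H).Coprime (Nat.card N) := by
        rw [ha]; exact ((Nat.Prime.coprime_iff_not_dvd hp).2 hpH).symm
      have hcopK : (Nat.card K).Coprime (Nat.card N) := by
        rw [ha]; exact ((Nat.Prime.coprime_iff_not_dvd hp).2 hpK).symm
      have hHN : H ⊓ N = ⊥ := inf_eq_bot_of_coprime_card hcopH
      have hKN : K ⊓ N = ⊥ := inf_eq_bot_of_coprime_card hcopK
      obtain ⟨q, hq⟩ := hQ (H.map (QuotientGroup.mk' N)) (K.map (QuotientGroup.mk' N)) (by
        rw [card_map_mk'_of_disjoint N H hHN, card_map_mk'_of_disjoint N K hKN, hHK])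
      obtain ⟨g, hg⟩ := exists_conj_sup_eq_of_map_mk' q hq
      have hX : HallProp ↥(K ⊔ N) := hallProp_of_solvable _ _ rfl
      have hcX : Nat.card ↥(K ⊔ N) = Nat.card K * Nat.card N :=
        card_sup_of_disjoint_normal K N hKN
      obtain ⟨x, -, hx⟩ := (hX.internal (Nat.card K) (Nat.card N) hcX hcopK).1
        (MulAut.conj g • H) K (by rw [← hg]; exact le_sup_left) le_sup_left
        (by rw [card_conj_smul, hHK]) rfl
      exact ⟨x * g, by rw [map_mul, mul_smul]; exact hx⟩
  · -- case B: N is a Sylow subgroup and p = r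
    have ha2 : 2 ≤ a := by omega
    have hpr : p = r := by
      by_contra hne
      obtain ⟨R, hR⟩ := hNp.exists_le_sylow
      haveI hNc : IsCyclic N := isCyclic_of_le_cyclic (hC p hp hne R) hR
      have h1 : Monoid.exponent N = Nat.card N := IsCyclic.exponent_eq_card
      have h2 : Monoid.exponent N ∣ p := Monoid.exponent_dvd_of_forall_pow_eq_one (fun x => by
        apply Subtype.ext; rw [Subgroup.coe_pow]; exact hpow x x.2)
      rw [h1, ha] at h2
      have h3 : p ^ 2 ∣ p := (pow_dvd_pow p ha2).trans h2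
      have h4 : p ^ 2 ≤ p := Nat.le_of_dvd hp.pos h3
      nlinarith [hp.two_le]
    have hC' : ∀ q : ℕ, q.Prime → q ≠ p → ∀ Q : Sylow q G, IsCyclic Q :=
      fun q hq hqp => hC q hq (hpr ▸ hqp)
    -- every p-element lies in N
    have helt : ∀ x : G, IsPGroup p (Subgroup.zpowers x) → x ∈ N := by
      intro x hx
      obtain ⟨k, hk⟩ := IsPGroup.iff_card.1 hx
      by_cases hk2 : 2 ≤ k
      · exfalso
        have hox : orderOf x = p ^ k := by rw [← Nat.card_zpowers]; exact hk
        have hoy : orderOf (x ^ (p ^ (k - 2))) = p ^ 2 := by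
          rw [orderOf_pow_of_dvd (pow_ne_zero _ hp.ne_zero)
            (by rw [hox]; exact pow_dvd_pow p (by omega)), hox,
            Nat.pow_div (by omega) hp.pos]
          congr 1; omega
        have hyN : Subgroup.zpowers (x ^ (p ^ (k - 2))) ≤ N :=
          hsubN _ (IsPGroup.of_card (n := 2) (by rw [Nat.card_zpowers, hoy]))
            (by rw [Nat.card_zpowers, hoy, ha]; exact pow_dvd_pow p ha2)
        have hyp : (x ^ (p ^ (k - 2))) ^ p = 1 := hpow _ (hyN (Subgroup.mem_zpowers _))
        have h5 := orderOf_dvd_of_pow_eq_one hyp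
        rw [hoy] at h5
        have h6 : p ^ 2 ≤ p := Nat.le_of_dvd hp.pos h5
        nlinarith [hp.two_le]
      · have h7 : Subgroup.zpowers x ≤ N :=
          hsubN _ hx (by rw [hk, ha]; exact pow_dvd_pow p (by omega))
        exact h7 (Subgroup.mem_zpowers x)
    have hpsub : ∀ M : Subgroup G, IsPGroup p M → M ≤ N := by
      intro M hM x hx
      apply helt
      exact hM.to_le (Subgroup.zpowers_le.2 hx)
    -- card (H ⊓ N) = p-part of card H
    have hinf : ∀ H : Subgroup G, Nat.card ↥(H ⊓ N) = p ^ (Nat.card H).factorization p := by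
      intro H
      let S : Sylow p H := default
      have h1 : (S : Subgroup H).map H.subtype ≤ H ⊓ N :=
        le_inf (Subgroup.map_subtype_le _) (hpsub _ (S.isPGroup'.map _))
      have h2 : Nat.card ((S : Subgroup H).map H.subtype) = p ^ (Nat.card H).factorization p := by
        rw [card_map_subtype, S.card_eq_multiplicity]
      have h3 : IsPGroup p ↥(H ⊓ N) := hNp.to_le inf_le_right
      obtain ⟨k, hk⟩ := IsPGroup.iff_card.1 h3
      have h4 : p ^ k ∣ Nat.card H := hk ▸ Subgroup.card_dvd_of_le inf_le_left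
      have h5 : k ≤ (Nat.card H).factorization p :=
        (hp.pow_dvd_iff_le_factorization Nat.card_pos.ne').1 h4
      apply le_antisymm
      · rw [hk]; exact Nat.pow_le_pow_right hp.pos h5
      · rw [← h2]; exact Subgroup.card_le_of_le h1
    intro H K hHK
    obtain ⟨g1, hg1⟩ := hP p hp (H ⊓ N) (K ⊓ N) (hNp.to_le inf_le_right) (hNp.to_le inf_le_right)
      (by rw [hinf, hinf, hHK])
    obtain ⟨H1, hH1⟩ : ∃ X : Subgroup G, X = MulAut.conj g1 • H := ⟨_, rfl⟩
    obtain ⟨D, hD⟩ : ∃ X : Subgroup G, X = K ⊓ N := ⟨_, rfl⟩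
    have hH1D : H1 ⊓ N = D := by
      rw [hH1, hD, ← hg1, Subgroup.smul_inf, conj_smul_normal N g1]
    have hH1c : Nat.card H1 = Nat.card K := by rw [hH1, card_conj_smul, hHK]
    obtain ⟨M, hM⟩ : ∃ X : Subgroup G, X = Subgroup.normalizer (D : Set G) := ⟨_, rfl⟩
    have hH1M : H1 ≤ M := by rw [hM, ← hH1D]; exact le_normalizer_inf_normal H1 N
    have hKM : K ≤ M := by rw [hM, hD]; exact le_normalizer_inf_normal K N
    -- p-complements of H1 and K
    obtain ⟨H', hH'le, hH'c⟩ := exists_pcompl_le hp H1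
    obtain ⟨K', hK'le, hK'c⟩ := exists_pcompl_le hp K
    -- Hall p-complements of M containing them
    have hMne : Nat.card M ≠ 0 := Nat.card_pos.ne'
    obtain ⟨m, hm⟩ : ∃ m : ℕ, m = Nat.card M / p ^ (Nat.card M).factorization p := ⟨_, rfl⟩
    obtain ⟨pb, hpb⟩ : ∃ m : ℕ, m = p ^ (Nat.card M).factorization p := ⟨_, rfl⟩
    have hMcard : Nat.card M = m * pb := by
      rw [hm, hpb]; exact (Nat.div_mul_cancel (Nat.ordProj_dvd _ _)).symm
    have hmp : m.Coprime p := by rw [hm]; exact (Nat.coprime_ordCompl hp hMne).symm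
    have hmcop : m.Coprime pb := by rw [hpb]; exact hmp.pow_right _
    have hHallM : HallProp M := hallProp_of_solvable _ M rfl
    have hcopH' : (Nat.card H').Coprime pb := by
      rw [hH'c, hpb]
      exact ((Nat.coprime_ordCompl hp Nat.card_pos.ne').symm).pow_right _
    have hcopK' : (Nat.card K').Coprime pb := by
      rw [hK'c, hpb]
      exact ((Nat.coprime_ordCompl hp Nat.card_pos.ne').symm).pow_right _
    obtain ⟨L1, hL1M, hL1c, hH'L1⟩ :=
      (hHallM.internal m pb hMcard hmcop).2 H' (hH'le.trans hH1M) hcopH'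
    obtain ⟨L2, hL2M, hL2c, hK'L2⟩ :=
      (hHallM.internal m pb hMcard hmcop).2 K' (hK'le.trans hKM) hcopK'
    obtain ⟨y, hyM, hy⟩ := (hHallM.internal m pb hMcard hmcop).1 L1 L2 hL1M hL2M hL1c hL2c
    have hL2cop : (Nat.card L2).Coprime p := by rw [hL2c]; exact hmp
    have hL2cyc : AllCyc L2 := allCyc_of_coprime hp hC' L2 hL2cop
    have hL2lt : Nat.card L2 < n := by
      have h1 : Nat.card L2 ∣ Nat.card G := Subgroup.card_subgroup_dvd_card L2
      have h2 : Nat.card L2 ≠ Nat.card G := fun h => by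
        rw [h] at hL2cop
        exact (Nat.Prime.coprime_iff_not_dvd hp).1 hL2cop.symm hpG
      rw [← hn]
      exact lt_of_le_of_ne (Nat.le_of_dvd Nat.card_pos h1) h2
    have hL2all : AllConj L2 := ih _ hL2lt L2 rfl (pconj_of_allCyc hL2cyc)
      (fun q hq _ Q => hL2cyc q hq Q)
    have hH''L2 : MulAut.conj y • H' ≤ L2 := by rw [← hy]; exact conj_smul_mono hH'L1 y
    obtain ⟨l, hl⟩ := hL2all ((MulAut.conj y • H').subgroupOf L2) (K'.subgroupOf L2) (by
      rw [card_subgroupOf_of_le hH''L2, card_subgroupOf_of_le hK'L2, card_conj_smul, hH'c, hK'c,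
        hH1c])
    have hl' : MulAut.conj (l : G) • (MulAut.conj y • H') = K' :=
      conj_smul_eq_of_subgroupOf hH''L2 hK'L2 l hl
    have hxM : (l : G) * y ∈ M := M.mul_mem (hL2M l.2) hyM
    have hxD : MulAut.conj ((l : G) * y) • D = D :=
      conj_smul_eq_of_mem_normalizer (hM ▸ hxM)
    have hxH' : MulAut.conj ((l : G) * y) • H' = K' := by rw [map_mul, mul_smul]; exact hl'
    refine ⟨(l : G) * y * g1, ?_⟩
    rw [map_mul, mul_smul, ← hH1]
    have hDK' : D ⊔ K' ≤ MulAut.conj ((l : G) * y) • H1 := by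
      apply sup_le
      · have h1 : D ≤ H1 := hH1D ▸ inf_le_left
        calc D = MulAut.conj ((l : G) * y) • D := hxD.symm
          _ ≤ MulAut.conj ((l : G) * y) • H1 := conj_smul_mono h1 _
      · rw [← hxH']; exact conj_smul_mono hH'le _
    have hKeq : D ⊔ K' = K := by
      apply Subgroup.eq_of_le_of_card_ge (sup_le (hD ▸ inf_le_left) hK'le)
      have h1 : Nat.card D ∣ Nat.card ↥(D ⊔ K') := Subgroup.card_dvd_of_le le_sup_left
      have h2 : Nat.card K' ∣ Nat.card ↥(D ⊔ K') := Subgroup.card_dvd_of_le le_sup_right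
      have hDc : Nat.card D = p ^ (Nat.card K).factorization p := by rw [hD, hinf]
      have h3 : (Nat.card D).Coprime (Nat.card K') := by
        rw [hDc, hK'c]
        exact (Nat.coprime_ordCompl hp Nat.card_pos.ne').pow_left _
      have h4 : Nat.card D * Nat.card K' = Nat.card K := by
        rw [hDc, hK'c]; exact Nat.mul_div_cancel' (Nat.ordProj_dvd _ _)
      rw [← h4]
      exact Nat.le_of_dvd Nat.card_pos (h3.mul_dvd_of_dvd_of_dvd h1 h2)
    symm
    apply Subgroup.eq_of_le_of_card_ge (hKeq ▸ hDK')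
    rw [card_conj_smul, hH1c]

end Cfsg.Agent.Helper4.EqOrdConj
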