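import Cfsg.Agent.Helper4.FittingChar
import Cfsg.Agent.Helper1.Fitting

set_option autoImplicit false

namespace Cfsg.Agent.Helper4

section

variable {G : Type*} [Group G] [Finite G] (N : Subgroup G) [N.Normal]
  (heq : ∀ x : G, x ∉ N → ∀ n ∈ N, orderOf (x * n) = orderOf x)

omit [Finite G] [N.Normal] in
include heq in
/-- if some element of `O_p(G)` lies outside `N`, then `N` is a `p`-group -/
theorem isPGroup_of_pCore_not_le (p : ℕ) [hp : Fact p.Prime] (x : G) (hx : x ∈ Cfsg.pCore p G)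
    (hxN : x ∉ N) : IsPGroup p N := by
  have hPp : IsPGroup p (Cfsg.pCore p G) := Cfsg.Agent.Helper1.pCore_isPGroup p
  obtain ⟨a, ha⟩ := hPp ⟨x, hx⟩
  have hxa : x ^ p ^ a = 1 := by
    have := congrArg Subtype.val ha
    simpa using this
  intro n
  have hord : orderOf (x * (n : G)) = orderOf x := heq x hxN n n.2
  have h1 : (x * (n : G)) ^ p ^ a = 1 := by
    have : orderOf (x * (n : G)) ∣ p ^ a := by
      rw [hord]; exact orderOf_dvd_of_pow_eq_one hxa
    exact orderOf_dvd_iff_pow_eq_one.1 this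
  -- modulo the p-core
  have h2 : (n : G) ^ p ^ a ∈ Cfsg.pCore p G := by
    rw [← QuotientGroup.eq_one_iff, QuotientGroup.mk_pow]
    have h3 : ((x * (n : G) : G) : G ⧸ Cfsg.pCore p G) = ((n : G) : G ⧸ Cfsg.pCore p G) := by
      rw [QuotientGroup.mk_mul, (QuotientGroup.eq_one_iff x).2 hx, one_mul]
    rw [← h3, ← QuotientGroup.mk_pow, h1]
    rfl
  obtain ⟨b, hb⟩ := hPp ⟨_, h2⟩
  have hb' : ((n : G) ^ p ^ a) ^ p ^ b = 1 := by
    have := congrArg Subtype.val hb
    simpa using this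
  refine ⟨a + b, ?_⟩
  apply Subtype.ext
  rw [Subgroup.coe_pow, Subgroup.coe_one, pow_add, pow_mul]
  exact hb'

include heq in
/-- if `F(G) ≰ N` there is a prime `p` such that `N` is a `p`-group and `O_p(G) ≰ N` -/
theorem exists_prime_isPGroup_of_fitting_not_le (y : G) (hy : y ∈ Cfsg.fittingSubgroup G)
    (hyN : y ∉ N) : ∃ p : ℕ, p.Prime ∧ IsPGroup p N := by
  by_contra hcon
  push Not at hcon
  apply hyN
  apply mem_of_forall_prime_exists_pow_mem N y (orderOf_pos y)
  intro q hq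
  obtain ⟨m, hqm, hm⟩ := fitting_exists_pow_mem_pCore hy q hq
  refine ⟨m, hqm, ?_⟩
  by_contra hmN
  have : Fact q.Prime := ⟨hq⟩
  exact hcon q hq (isPGroup_of_pCore_not_le N heq q (y ^ m) hm hmN)

omit [Finite G] in
theorem eq_one_of_pow_prime_pow_eq_one {x : G} {p r a b : ℕ} (hp : p.Prime) (hr : r.Prime)
    (hpr : p ≠ r) (h1 : x ^ p ^ a = 1) (h2 : x ^ r ^ b = 1) : x = 1 := by
  have hd1 := orderOf_dvd_of_pow_eq_one h1
  have hd2 := orderOf_dvd_of_pow_eq_one h2
  have hcop : (p ^ a).Coprime (r ^ b) := ((Nat.coprime_primes hp hr).2 hpr).pow a b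
  have := Nat.dvd_gcd hd1 hd2
  rw [hcop] at this
  exact orderOf_eq_one_iff.1 (Nat.dvd_one.1 this)

end

end Cfsg.Agent.Helper4
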