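import Mathlib
import Cfsg.Agent.Helper5.LPA

/-!
# Generation of a group presented on involutions by products of pairs

If a subgroup `H` of `LPG k R` (`Invol k R`) contains the products `s_a s_root` for all letters
`a`, and some relator has odd length, then `H` is everything.
-/

set_option autoImplicit false

namespace Cfsg.Agent.Helper4.EvenGen

open Cfsg.Agent.Helper5.LP

variable {k : ℕ} {R : List (List ℕ)}

theorem pair_symm (hinv : Invol k R) (H : Subgroup (LPG k R)) {a b : ℕ}
    (h : ev k R [a, b] ∈ H) : ev k R [b, a] ∈ H := by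
  have : ev k R [b, a] = (ev k R [a, b])⁻¹ := ev_reverse hinv [a, b]
  rw [this]
  exact H.inv_mem h

theorem pair_trans (hinv : Invol k R) (H : Subgroup (LPG k R)) {a b c : ℕ}
    (h1 : ev k R [a, b] ∈ H) (h2 : ev k R [b, c] ∈ H) : ev k R [a, c] ∈ H := by
  have : ev k R [a, c] = ev k R [a, b] * ev k R [b, c] := by
    rw [ev_cons a [b], ev_cons b [c], ev_cons a [c]]
    have hb := ev_sq hinv b
    calc ev k R [a] * ev k R [c] = ev k R [a] * (ev k R [b] * ev k R [b]) * ev k R [c] := by
          rw [hb, mul_one]
      _ = ev k R [a] * ev k R [b] * (ev k R [b] * ev k R [c]) := by group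
  rw [this]
  exact H.mul_mem h1 h2

theorem pair_self (hinv : Invol k R) (H : Subgroup (LPG k R)) (a : ℕ) : ev k R [a, a] ∈ H := by
  rw [ev_cons a [a], ev_sq hinv a]
  exact H.one_mem

theorem even_mem (hinv : Invol k R) (H : Subgroup (LPG k R)) (root : ℕ)
    (hr : ∀ a, a < k → ev k R [a, root] ∈ H) :
    ∀ (n : ℕ) (l : List ℕ), l.length = 2 * n → (∀ c ∈ l, c < k) → ev k R l ∈ H
  | 0, l, hl, _ => by
    have : l = [] := List.length_eq_zero_iff.mp (by omega)
    rw [this, ev_nil]
    exact H.one_mem
  | n + 1, l, hl, hlt => by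
    match l, hl, hlt with
    | a :: b :: l', hl, hlt =>
      have ha : a < k := hlt a List.mem_cons_self
      have hb : b < k := hlt b (List.mem_cons_of_mem _ List.mem_cons_self)
      have h1 : ev k R [a, b] ∈ H :=
        pair_trans hinv H (hr a ha) (pair_symm hinv H (hr b hb))
      have h2 : ev k R l' ∈ H := even_mem hinv H root hr n l' (by simp at hl; omega)
        (fun c hc => hlt c (List.mem_cons_of_mem _ (List.mem_cons_of_mem _ hc)))
      have : ev k R (a :: b :: l') = ev k R [a, b] * ev k R l' := by
        rw [show a :: b :: l' = [a, b] ++ l' from rfl, ev_append]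
      rw [this]
      exact H.mul_mem h1 h2

/-- **generation by the products of pairs.** -/
theorem eq_top_of_pairs (hinv : Invol k R) (H : Subgroup (LPG k R)) (root : ℕ) (hroot : root < k)
    (hr : ∀ a, a < k → ev k R [a, root] ∈ H) (odd : List ℕ) (hodd : odd ∈ R)
    (hlen : odd.length % 2 = 1) (hlt : ∀ c ∈ odd, c < k) : H = ⊤ := by
  have hroot_mem : ev k R [root] ∈ H := by
    have h1 : ev k R (root :: odd) ∈ H := by
      apply even_mem hinv H root hr ((odd.length + 1) / 2) (root :: odd)
      · rw [List.length_cons]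
        omega
      · intro c hc
        rcases List.mem_cons.mp hc with rfl | hc
        · exact hroot
        · exact hlt c hc
    rwa [ev_cons, ev_rel hodd, mul_one] at h1
  rw [eq_top_iff, ← closure_gens (k := k) (R := R), Subgroup.closure_le]
  rintro x ⟨c, hc, rfl⟩
  have h1 := hr c hc
  have : ev k R [c] = ev k R [c, root] * ev k R [root] := by
    rw [ev_cons c [root], mul_assoc, ev_sq hinv root, mul_one]
  rw [SetLike.mem_coe, this]
  exact H.mul_mem h1 hroot_mem

end Cfsg.Agent.Helper4.EvenGen
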