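import Mathlib
import Cfsg.Agent.Helper4.UpperPSeries2
import Cfsg.Agent.Helper4.PCore

set_option autoImplicit false

namespace Cfsg.Agent.Helper4

universe u

variable {G : Type u} [Group G]

/-- `Z(S) ≤ O_{p',p}(G)` for a Sylow `p`-subgroup `S` of a `p`-soluble group -/
theorem center_sylow_le_upperPSeries_two [Finite G] {p : ℕ} [hp : Fact p.Prime]
    (hsol : Cfsg.IsPSolvable p G) (S : Sylow p G) (z : G) (hzS : z ∈ (S : Subgroup G))
    (hz : ∀ x ∈ (S : Subgroup G), x * z = z * x) : z ∈ (Cfsg.upperPSeries p G 2).1 := by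
  have hodd : ¬ Even 1 := by decide
  rw [upperPSeries_succ_of_not_even p 1 hodd, Subgroup.mem_comap]
  have hcent := centralizer_pCore_le_of_isPSolvable
    (isPSolvable_quotient hsol (Cfsg.upperPSeries p G 1).1)
    (pPrimeCore_quotient_upperPSeries_odd (G := G) p 0)
  apply hcent
  rw [Subgroup.mem_centralizer_iff]
  intro y hy
  have hsurj := QuotientGroup.mk'_surjective (Cfsg.upperPSeries p G 1).1
  have hyS : y ∈ ((S.mapSurjective hsurj : Sylow p (G ⧸ (Cfsg.upperPSeries p G 1).1)) :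
      Subgroup (G ⧸ (Cfsg.upperPSeries p G 1).1)) :=
    pCore_le_sylow _ hy
  rw [Sylow.coe_mapSurjective] at hyS
  obtain ⟨x, hx, rfl⟩ := hyS
  rw [← map_mul, ← map_mul, hz x hx]

/-- the image of a Sylow subgroup of class `≤ c + 1` in `G ⧸ O_{p',p}(G)` has class `≤ c` -/
theorem nilpotencyClass_map_sylow_le [Finite G] {p : ℕ} [hp : Fact p.Prime]
    (hsol : Cfsg.IsPSolvable p G) (S : Sylow p G) (c : ℕ)
    (hc : Group.nilpotencyClass ↥(S : Subgroup G) ≤ c + 1)
    (T : Sylow p (G ⧸ (Cfsg.upperPSeries p G 2).1))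
    (hT : (T : Subgroup (G ⧸ (Cfsg.upperPSeries p G 2).1)) =
      (S : Subgroup G).map (QuotientGroup.mk' (Cfsg.upperPSeries p G 2).1)) :
    Group.nilpotencyClass ↥(T : Subgroup (G ⧸ (Cfsg.upperPSeries p G 2).1)) ≤ c := by
  haveI : Group.IsNilpotent ↥(S : Subgroup G) := S.isPGroup'.isNilpotent
  have hmem : ∀ x : (S : Subgroup G), QuotientGroup.mk' (Cfsg.upperPSeries p G 2).1 (x : G) ∈
      (T : Subgroup (G ⧸ (Cfsg.upperPSeries p G 2).1)) := by
    intro x
    rw [hT]
    exact ⟨x, x.2, rfl⟩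
  let f : (S : Subgroup G) →* (T : Subgroup (G ⧸ (Cfsg.upperPSeries p G 2).1)) :=
    ((QuotientGroup.mk' (Cfsg.upperPSeries p G 2).1).comp (S : Subgroup G).subtype).codRestrict
      _ hmem
  have hf : Function.Surjective f := by
    rintro ⟨y, hy⟩
    have hy' := hy
    rw [hT] at hy'
    obtain ⟨x, hx, rfl⟩ := hy'
    exact ⟨⟨x, hx⟩, rfl⟩
  have hker : Subgroup.center ↥(S : Subgroup G) ≤ f.ker := by
    intro z hz
    rw [MonoidHom.mem_ker]
    apply Subtype.ext
    show QuotientGroup.mk' (Cfsg.upperPSeries p G 2).1 (z : G) = 1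
    rw [QuotientGroup.mk'_apply, QuotientGroup.eq_one_iff]
    apply center_sylow_le_upperPSeries_two hsol S (z : G) z.2
    intro x hx
    have := Subgroup.mem_center_iff.1 hz ⟨x, hx⟩
    exact congrArg Subtype.val this
  let g : (↥(S : Subgroup G) ⧸ Subgroup.center ↥(S : Subgroup G)) →*
      (T : Subgroup (G ⧸ (Cfsg.upperPSeries p G 2).1)) :=
    QuotientGroup.lift (Subgroup.center ↥(S : Subgroup G)) f hker
  have hg : Function.Surjective g := by
    intro y
    obtain ⟨x, hx⟩ := hf y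
    exact ⟨QuotientGroup.mk x, hx⟩
  have h1 := Group.nilpotencyClass_le_of_surjective g hg
  rw [Group.nilpotencyClass_quotient_center] at h1
  omega

/-- Hall–Higman: the `p`-length is at most the class of a Sylow `p`-subgroup -/
theorem pLengthLE_of_nilpotencyClass_le {p : ℕ} [hp : Fact p.Prime] :
    ∀ c : ℕ, ∀ (G : Type u) [Group G] [Finite G], Cfsg.IsPSolvable p G → ∀ S : Sylow p G,
      Group.nilpotencyClass ↥(S : Subgroup G) ≤ c → Cfsg.PLengthLE p c G := by
  intro c
  induction c with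
  | zero =>
    intro G _ _ hsol S hc
    haveI : Group.IsNilpotent ↥(S : Subgroup G) := S.isPGroup'.isNilpotent
    have h0 : Group.nilpotencyClass ↥(S : Subgroup G) = 0 := Nat.le_zero.1 hc
    rw [Group.nilpotencyClass_zero_iff_subsingleton] at h0
    have hSbot : (S : Subgroup G) = ⊥ := Subgroup.eq_bot_of_subsingleton _
    have hnd : ¬ p ∣ Nat.card G := fun h => S.ne_bot_of_dvd_card h hSbot
    unfold Cfsg.PLengthLE
    rw [upperPSeries_succ_of_even p (2 * 0) (by decide)]
    have htop : Cfsg.pPrimeCore p (G ⧸ (Cfsg.upperPSeries p G (2 * 0)).1) = ⊤ := by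
      rw [eq_top_iff]
      apply le_sSup
      refine ⟨inferInstance, ?_⟩
      rw [Subgroup.card_top]
      have hdvd : Nat.card (G ⧸ (Cfsg.upperPSeries p G (2 * 0)).1) ∣ Nat.card G :=
        Subgroup.card_quotient_dvd_card _
      exact Nat.Coprime.coprime_dvd_left hdvd
        ((Nat.Prime.coprime_iff_not_dvd hp.out).2 hnd).symm
    rw [htop, Subgroup.comap_top]
  | succ c ih =>
    intro G _ _ hsol S hc
    have hsurj := QuotientGroup.mk'_surjective (Cfsg.upperPSeries p G 2).1
    have hT := nilpotencyClass_map_sylow_le hsol S c hc (S.mapSurjective hsurj)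
      (Sylow.coe_mapSurjective hsurj S)
    have h1 := ih (G ⧸ (Cfsg.upperPSeries p G 2).1) (isPSolvable_quotient hsol _)
      (S.mapSurjective hsurj) hT
    unfold Cfsg.PLengthLE at h1 ⊢
    have h2 := upperPSeries_add_two (G := G) p (2 * c + 1)
    have h3 : 2 * (c + 1) + 1 = 2 * c + 1 + 2 := by ring
    rw [h3, h2, h1, Subgroup.comap_top]

end Cfsg.Agent.Helper4
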