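import Mathlib
import Cfsg.Prelude.Def_Local
import Cfsg.Agent.Helper4.ExpSixB
import Cfsg.Agent.Helper4.UpperPSeries3

set_option autoImplicit false

/-!
A finite group of exponent dividing 6 has 2-length and 3-length at most one.
-/

namespace Cfsg.Agent.Helper4.ExpSix

universe u

variable {G : Type u} [Group G] [Finite G]

theorem pLengthLE_two (h6 : ∀ x : G, x ^ 6 = 1) : Cfsg.PLengthLE 2 1 G := by
  haveI : Fact (Nat.Prime 2) := ⟨Nat.prime_two⟩
  have hsol : Group.IsSolvable G := isSolvable_of_exp_six h6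
  have hsol2 : Cfsg.IsPSolvable 2 G := SolvPSolv.isPSolvable_of_isSolvable 2 hsol
  let S : Sylow 2 G := default
  haveI : Group.IsNilpotent ↥(S : Subgroup G) := S.isPGroup'.isNilpotent
  have hsq : ∀ t ∈ (S : Subgroup G), t ^ 2 = 1 :=
    fun t ht => pow_eq_one_of_isPGroup h6 2 Nat.prime_two (by norm_num) _ S.isPGroup' t ht
  have hcomm : ∀ x y : ↥(S : Subgroup G), x * y = y * x := by
    intro x y
    apply Subtype.ext
    exact comm_of_sq x.1 y.1 (hsq _ x.2) (hsq _ y.2) (hsq _ (Subgroup.mul_mem _ x.2 y.2))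
  have hclass : Group.nilpotencyClass ↥(S : Subgroup G) ≤ 1 := by
    rw [← Subgroup.upperCentralSeries_eq_top_iff_nilpotencyClass_le,
      Subgroup.upperCentralSeries_one, eq_top_iff]
    intro z _
    rw [Subgroup.mem_center_iff]
    intro g
    exact hcomm g z
  exact Cfsg.Agent.Helper4.pLengthLE_of_nilpotencyClass_le 1 G hsol2 S hclass

theorem pLengthLE_three (h6 : ∀ x : G, x ^ 6 = 1) : Cfsg.PLengthLE 3 1 G := by
  haveI : Fact (Nat.Prime 3) := ⟨Nat.prime_three⟩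
  unfold Cfsg.PLengthLE
  show (Cfsg.upperPSeries 3 G (2 + 1)).1 = ⊤
  rw [Cfsg.Agent.Helper4.upperPSeries_succ_of_even 3 2 (by decide)]
  have hU2 : (Cfsg.upperPSeries 3 G (1 + 1)).1 =
      (Cfsg.pCore 3 (G ⧸ (Cfsg.upperPSeries 3 G 1).1)).comap (QuotientGroup.mk' _) :=
    Cfsg.Agent.Helper4.upperPSeries_succ_of_not_even 3 1 (by decide)
  have hO : Cfsg.pPrimeCore 3 (G ⧸ (Cfsg.upperPSeries 3 G 1).1) = ⊥ :=
    Cfsg.Agent.Helper4.pPrimeCore_quotient_upperPSeries_odd (G := G) 3 0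
  have h6X : ∀ x : G ⧸ (Cfsg.upperPSeries 3 G 1).1, x ^ 6 = 1 := by
    intro y
    obtain ⟨x, rfl⟩ := QuotientGroup.mk_surjective y
    rw [← QuotientGroup.mk_pow, h6]; rfl
  have hnd := not_dvd_index_pCore_three h6X hO
  have hidx : (Cfsg.upperPSeries 3 G 2).1.index =
      (Cfsg.pCore 3 (G ⧸ (Cfsg.upperPSeries 3 G 1).1)).index := by
    show (Cfsg.upperPSeries 3 G (1 + 1)).1.index = _
    rw [hU2]
    exact Subgroup.index_comap_of_surjective _ (QuotientGroup.mk'_surjective _)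
  have htop : Cfsg.pPrimeCore 3 (G ⧸ (Cfsg.upperPSeries 3 G 2).1) = ⊤ := by
    rw [eq_top_iff]
    apply le_sSup
    refine ⟨inferInstance, ?_⟩
    rw [Subgroup.card_top, ← Subgroup.index_eq_card, hidx]
    exact ((Nat.Prime.coprime_iff_not_dvd Nat.prime_three).2 hnd).symm
  rw [htop]
  exact Subgroup.comap_top _

end Cfsg.Agent.Helper4.ExpSix
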