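import Cfsg.Agent.Helper4.F22MXDat

/-! generated permutation model, checks: F22MX -/

set_option autoImplicit false
set_option Elab.async false
set_option maxRecDepth 1000000

namespace Cfsg.Agent.Helper4.F22MX
open Cfsg.Agent.Helper5.TC Cfsg.Agent.Helper5.TCI Cfsg.Agent.Helper5.LP

theorem fixc_22_0 : fixPtsF W_22 2160 0 = true := by decide +kernel

theorem fixc_12_0 : fixPtsF W_12 2160 0 = true := by decide +kernel

theorem fixc_13_0 : fixPtsF W_13 2160 0 = true := by decide +kernel

theorem fixc_21_0 : fixPtsF W_21 2160 0 = true := by decide +kernel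

theorem fixc_25_0 : fixPtsF W_25 2160 0 = true := by decide +kernel

theorem fixc_26_0 : fixPtsF W_26 2160 0 = true := by decide +kernel

theorem fixc_28_0 : fixPtsF W_28 2160 0 = true := by decide +kernel

theorem fixc_29_0 : fixPtsF W_29 2160 0 = true := by decide +kernel

theorem fixc_8_0 : fixPtsF W_8 2160 0 = true := by decide +kernel

theorem fixc_10_0 : fixPtsF W_10 2160 0 = true := by decide +kernel

theorem fixc_16_0 : fixPtsF W_16 2160 0 = true := by decide +kernel

theorem fixc_18_0 : fixPtsF W_18 2160 0 = true := by decide +kernel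

theorem fixc_20_0 : fixPtsF W_20 2160 0 = true := by decide +kernel

theorem fixc_7_0 : fixPtsF W_7 2160 0 = true := by decide +kernel

theorem fixc_23_0 : fixPtsF W_23 2160 0 = true := by decide +kernel

theorem fixc_30_0 : fixPtsF W_30 2160 0 = true := by decide +kernel

theorem fixc_32_0 : fixPtsF W_32 2160 0 = true := by decide +kernel

theorem fixc_2_0 : fixPtsF W_2 2160 0 = true := by decide +kernel

theorem fixc_4_0 : fixPtsF W_4 2160 0 = true := by decide +kernel

theorem fixc_6_0 : fixPtsF W_6 2160 0 = true := by decide +kernel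

theorem fixc_34_0 : fixPtsF W_34 2160 0 = true := by decide +kernel

theorem fixc_36_0 : fixPtsF W_36 2160 0 = true := by decide +kernel

theorem fixc_38_0 : fixPtsF W_38 2160 0 = true := by decide +kernel

theorem invc_0_0 : invRowFI mT 2160 0 1 2160 0 = true := by decide +kernel

theorem invc_1_0 : invRowFI mT 2160 1 0 2160 0 = true := by decide +kernel

theorem invc_3_0 : invRowFI mT 2160 3 2 2160 0 = true := by decide +kernel

theorem invc_5_0 : invRowFI mT 2160 5 4 2160 0 = true := by decide +kernel

theorem invc_7_0 : invRowFI mT 2160 7 6 2160 0 = true := by decide +kernel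

theorem invc_9_0 : invRowFI mT 2160 9 8 2160 0 = true := by decide +kernel

theorem invc_11_0 : invRowFI mT 2160 11 10 2160 0 = true := by decide +kernel

theorem invc_13_0 : invRowFI mT 2160 13 12 2160 0 = true := by decide +kernel

theorem invc_15_0 : invRowFI mT 2160 15 14 2160 0 = true := by decide +kernel

end Cfsg.Agent.Helper4.F22MX
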