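import Mathlib
import Cfsg.Agent.Helper5.StemPB

/-!
# The presentation of `O₇(3)` on seven elements of order 3

The elements `r_e = s_i s_j` for the edges `(2,1), (2,3), (2,4), (3,6), (4,5), (6,7), (1,0)` of
the Coxeter tree; the relators are added in six steps, one generator at a time.
-/

set_option autoImplicit false

namespace Cfsg.Agent.Helper4.F22R

/-- the orders of the generators. -/
def m3 : ℕ → ℕ := fun _ => 3

/-- the relators with the generator 1. -/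
def EX2 : List (List ℕ) := [[0, 3, 0, 3]]

/-- the relators with the generator 2. -/
def EX3 : List (List ℕ) := [[0, 5, 0, 5], [2, 5, 2, 5]]

/-- the relators with the generator 3. -/
def EX4 : List (List ℕ) := [[2, 6, 2, 6], [0, 7, 3, 0, 7, 3], [2, 7, 5, 2, 7, 5]]

/-- the relators with the generator 4. -/
def EX5 : List (List ℕ) := [[4, 8, 4, 8], [6, 9, 6, 9, 6, 9], [0, 9, 5, 0, 9, 5], [2, 9, 5, 2, 9, 5]]

/-- the relators with the generator 5. -/
def EX6 : List (List ℕ) := [[6, 10, 6, 10], [0, 11, 0, 11, 0, 11], [4, 10, 4, 10, 4, 10], [4, 11, 4, 11, 4, 11], [8, 10, 8, 10, 8, 10], [8, 11, 8, 11, 8, 11], [2, 6, 10, 2, 6, 10], [0, 4, 11, 0, 4, 11, 0, 4, 11]]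

/-- the relators with the generator 6. -/
def EX7 : List (List ℕ) := [[0, 12, 0, 12], [6, 13, 6, 13, 6, 13], [8, 13, 8, 13, 8, 13], [10, 12, 10, 12, 10, 12], [10, 13, 10, 13, 10, 13], [0, 13, 3, 0, 13, 3], [0, 13, 5, 0, 13, 5], [0, 13, 1, 6, 4, 9, 5, 12, 2, 7, 3, 8, 0, 13, 1, 6, 4, 9, 5, 12, 2, 7, 3, 8, 0, 13, 1, 6, 4, 9, 5, 12, 2, 7, 3, 8, 0, 13, 1, 6, 4, 9, 5, 12, 2, 7, 3, 8, 0, 13, 1, 6, 4, 9, 5, 12, 2, 7, 3, 8]]

def CL1 : List (List ℕ) := []

def CL2 : List (List ℕ) := EX2 ++ CL1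

def CL3 : List (List ℕ) := EX3 ++ CL2

def CL4 : List (List ℕ) := EX4 ++ CL3

def CL5 : List (List ℕ) := EX5 ++ CL4

def CL6 : List (List ℕ) := EX6 ++ CL5

def CL7 : List (List ℕ) := EX7 ++ CL6

end Cfsg.Agent.Helper4.F22R
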