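import Mathlib

/-!
# Labelled Todd–Coxeter certificates: labels and walks

A coset enumeration over a subgroup `K` of a group `P`, in which every edge of the coset table
carries a label in the free abelian monoid on eight central elements `z 0, …, z 7`.  A fact
`(a, m, b, lab)` says that `K * w a * m = K * w b * phi lab`, where `w v` are explicit coset
representatives.  Facts are justified one after the other from earlier ones by walks around
relators; this file defines the checker and proves it sound.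
-/

/-! (helper4: a copy of the file of the same letter of `Cfsg.Agent.Helper5.LTC*`, with wider packed
fields: letters below 63 and central words below 64.) -/

set_option autoImplicit false

namespace Cfsg.Agent.Helper4.LTW

/-- labels: vectors of eight natural numbers. -/
structure L8 where
  a0 : ℕ
  a1 : ℕ
  a2 : ℕ
  a3 : ℕ
  a4 : ℕ
  a5 : ℕ
  a6 : ℕ
  a7 : ℕ

namespace L8

/-- the zero label. -/
def zero : L8 := ⟨0, 0, 0, 0, 0, 0, 0, 0⟩

/-- addition of labels. -/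
def add (a b : L8) : L8 :=
  ⟨Nat.add a.a0 b.a0, Nat.add a.a1 b.a1, Nat.add a.a2 b.a2, Nat.add a.a3 b.a3,
    Nat.add a.a4 b.a4, Nat.add a.a5 b.a5, Nat.add a.a6 b.a6, Nat.add a.a7 b.a7⟩

/-- reduction modulo `E`. -/
def red (E : ℕ) (a : L8) : L8 :=
  ⟨Nat.mod a.a0 E, Nat.mod a.a1 E, Nat.mod a.a2 E, Nat.mod a.a3 E,
    Nat.mod a.a4 E, Nat.mod a.a5 E, Nat.mod a.a6 E, Nat.mod a.a7 E⟩

/-- negation modulo `E`. -/
def neg (E : ℕ) (a : L8) : L8 :=
  ⟨Nat.sub E (Nat.mod a.a0 E), Nat.sub E (Nat.mod a.a1 E), Nat.sub E (Nat.mod a.a2 E),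
    Nat.sub E (Nat.mod a.a3 E), Nat.sub E (Nat.mod a.a4 E), Nat.sub E (Nat.mod a.a5 E),
    Nat.sub E (Nat.mod a.a6 E), Nat.sub E (Nat.mod a.a7 E)⟩

/-- multiples. -/
def smul (c : ℕ) (a : L8) : L8 :=
  ⟨Nat.mul c a.a0, Nat.mul c a.a1, Nat.mul c a.a2, Nat.mul c a.a3,
    Nat.mul c a.a4, Nat.mul c a.a5, Nat.mul c a.a6, Nat.mul c a.a7⟩

/-- boolean equality. -/
def beq (a b : L8) : Bool :=
  Nat.beq a.a0 b.a0 && Nat.beq a.a1 b.a1 && Nat.beq a.a2 b.a2 && Nat.beq a.a3 b.a3 &&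
    Nat.beq a.a4 b.a4 && Nat.beq a.a5 b.a5 && Nat.beq a.a6 b.a6 && Nat.beq a.a7 b.a7

theorem eq_of_beq {a b : L8} (h : beq a b = true) : a = b := by
  cases a; cases b
  simp only [beq, Bool.and_eq_true] at h
  obtain ⟨⟨⟨⟨⟨⟨⟨h0, h1⟩, h2⟩, h3⟩, h4⟩, h5⟩, h6⟩, h7⟩ := h
  rw [Nat.eq_of_beq_eq_true h0, Nat.eq_of_beq_eq_true h1, Nat.eq_of_beq_eq_true h2,
    Nat.eq_of_beq_eq_true h3, Nat.eq_of_beq_eq_true h4, Nat.eq_of_beq_eq_true h5,
    Nat.eq_of_beq_eq_true h6, Nat.eq_of_beq_eq_true h7]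

/-- the basis vectors. -/
def unit (i : ℕ) : L8 :=
  ⟨bif Nat.beq i 0 then 1 else 0, bif Nat.beq i 1 then 1 else 0, bif Nat.beq i 2 then 1 else 0,
    bif Nat.beq i 3 then 1 else 0, bif Nat.beq i 4 then 1 else 0, bif Nat.beq i 5 then 1 else 0,
    bif Nat.beq i 6 then 1 else 0, bif Nat.beq i 7 then 1 else 0⟩

/-- decode a label from a number: eight digits of seven bits. -/
def dec (n : ℕ) : L8 :=
  ⟨Nat.mod n 128, Nat.mod (Nat.div n 128) 128, Nat.mod (Nat.div n 16384) 128,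
    Nat.mod (Nat.div n 2097152) 128, Nat.mod (Nat.div n 268435456) 128,
    Nat.mod (Nat.div n 34359738368) 128, Nat.mod (Nat.div n 4398046511104) 128,
    Nat.mod (Nat.div n 562949953421312) 128⟩

end L8

theorem nat_mod_eq (a b : ℕ) : Nat.mod a b = a % b := rfl

theorem nat_sub_eq (a b : ℕ) : Nat.sub a b = a - b := rfl

theorem nat_div_eq (a b : ℕ) : Nat.div a b = a / b := rfl

section phi
variable {P : Type*} [Group P]

/-- the central element of a label. -/
def phi (z : ℕ → P) (l : L8) : P :=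
  z 0 ^ l.a0 * z 1 ^ l.a1 * z 2 ^ l.a2 * z 3 ^ l.a3 * z 4 ^ l.a4 * z 5 ^ l.a5 * z 6 ^ l.a6 *
    z 7 ^ l.a7

variable {z : ℕ → P} (hz : ∀ i, z i ∈ Subgroup.center P)

/-- the same in the centre. -/
def phiC (l : L8) : Subgroup.center P :=
  (⟨z 0, hz 0⟩ : Subgroup.center P) ^ l.a0 * ⟨z 1, hz 1⟩ ^ l.a1 * ⟨z 2, hz 2⟩ ^ l.a2 *
    ⟨z 3, hz 3⟩ ^ l.a3 * ⟨z 4, hz 4⟩ ^ l.a4 * ⟨z 5, hz 5⟩ ^ l.a5 * ⟨z 6, hz 6⟩ ^ l.a6 *
    ⟨z 7, hz 7⟩ ^ l.a7

theorem phiC_coe (l : L8) : ((phiC hz l : Subgroup.center P) : P) = phi z l := by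
  simp [phiC, phi]

include hz in
theorem phi_mem_center (l : L8) : phi z l ∈ Subgroup.center P := by
  rw [← phiC_coe hz]
  exact (phiC hz l).2

include hz in
theorem phi_comm (l : L8) (x : P) : x * phi z l = phi z l * x :=
  (Subgroup.mem_center_iff.mp (phi_mem_center hz l) x)

theorem phi_zero : phi z L8.zero = 1 := by
  simp [phi, L8.zero]

theorem phiC_add (a b : L8) : phiC hz (L8.add a b) = phiC hz a * phiC hz b := by
  simp only [phiC, L8.add, Nat.add_eq, pow_add]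
  ac_rfl

include hz in
theorem phi_add (a b : L8) : phi z (L8.add a b) = phi z a * phi z b := by
  have h := congrArg Subtype.val (phiC_add hz a b)
  rw [Subgroup.coe_mul, phiC_coe, phiC_coe, phiC_coe] at h
  exact h

include hz in
theorem phi_smul (c : ℕ) (a : L8) : phi z (L8.smul c a) = phi z a ^ c := by
  induction c with
  | zero => simp [phi, L8.smul]
  | succ c ih =>
    have h : L8.smul (c + 1) a = L8.add (L8.smul c a) a := by
      simp only [L8.smul, L8.add, Nat.mul_eq, Nat.add_eq, Nat.succ_mul]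
    rw [h, phi_add hz, ih, pow_succ]

theorem pow_mod_of {x : P} {E : ℕ} (h : x ^ E = 1) (n : ℕ) : x ^ (n % E) = x ^ n := by
  conv_rhs => rw [← Nat.div_add_mod n E, pow_add, pow_mul, h, one_pow, one_mul]

theorem phi_red {E : ℕ} (hE : ∀ i, z i ^ E = 1) (a : L8) : phi z (L8.red E a) = phi z a := by
  simp only [phi, L8.red, nat_mod_eq, pow_mod_of (hE _)]
  
theorem pow_sub_mod_mul {x : P} {E : ℕ} (hE0 : 0 < E) (h : x ^ E = 1) (n : ℕ) :
    x ^ (E - n % E) * x ^ n = 1 := by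
  rw [← pow_mod_of h n, ← pow_add, Nat.sub_add_cancel (Nat.mod_lt n hE0).le, h]

include hz in
theorem phi_neg {E : ℕ} (hE0 : 0 < E) (hE : ∀ i, z i ^ E = 1) (a : L8) :
    phi z (L8.neg E a) * phi z a = 1 := by
  have hc : ∀ (i n : ℕ) (x : P), x * z i ^ n = z i ^ n * x := fun i n x =>
    Subgroup.mem_center_iff.mp (Subgroup.pow_mem _ (hz i) n) x
  have h := phiC_add hz (L8.neg E a) a
  have h2 := congrArg Subtype.val h
  rw [Subgroup.coe_mul, phiC_coe, phiC_coe, phiC_coe] at h2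
  rw [← h2]
  simp only [phi, L8.add, L8.neg, Nat.add_eq, nat_sub_eq, nat_mod_eq, pow_add,
    pow_sub_mod_mul hE0 (hE _), mul_one]

end phi

end Cfsg.Agent.Helper4.LTW
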