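import Mathlib
import Cfsg.Agent.Helper4.LTWA

/-!
# Labelled Todd–Coxeter certificates: the checker and its soundness
-/

/-! (helper4: a copy of the file of the same letter of `Cfsg.Agent.Helper5.LTC*`, with wider packed
fields: letters below 63 and central words below 64.) -/

set_option autoImplicit false

namespace Cfsg.Agent.Helper4.LTW

/-- force the evaluation of a natural number before continuing. -/
def frc {α : Type} (v : ℕ) (f : ℕ → α) : α := Nat.rec (f 0) (fun n _ => f (Nat.succ n)) v

theorem frc_eq {α : Type} (v : ℕ) (f : ℕ → α) : frc v f = f v := by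
  cases v <;> rfl

section rel
variable {P : Type*} [Group P] (K : Subgroup P)

/-- same right coset of `K`. -/
def Rel (a b : P) : Prop := a * b⁻¹ ∈ K

theorem rel_refl (a : P) : Rel K a a := by
  unfold Rel
  rw [mul_inv_cancel]
  exact K.one_mem

variable {K}

theorem rel_of_eq {a b : P} (h : a = b) : Rel K a b := h ▸ rel_refl K a

theorem rel_symm {a b : P} (h : Rel K a b) : Rel K b a := by
  unfold Rel at h ⊢
  have h2 := K.inv_mem h
  rwa [mul_inv_rev, inv_inv] at h2

theorem rel_trans {a b c : P} (h1 : Rel K a b) (h2 : Rel K b c) : Rel K a c := by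
  unfold Rel at h1 h2 ⊢
  have h3 := K.mul_mem h1 h2
  rwa [mul_assoc, inv_mul_cancel_left] at h3

theorem rel_mul_right {a b : P} (h : Rel K a b) (c : P) : Rel K (a * c) (b * c) := by
  unfold Rel at h ⊢
  rwa [mul_inv_rev, mul_assoc, mul_inv_cancel_left]

end rel

/-- the static data of a labelled certificate. -/
structure Cert where
  /-- number of letters -/
  k : ℕ
  /-- the inverse letter -/
  ι : ℕ → ℕ
  /-- the exponent of the labels -/
  E : ℕ
  /-- the loop words -/
  W : ℕ → List ℕ
  /-- relator words are those below `nrel` -/
  nrel : ℕ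
  /-- subgroup words are those from `nrel` and below `nw` -/
  nw : ℕ
  /-- the labels of the loop words -/
  δ : ℕ → L8
  /-- parents of the vertices -/
  par : ℕ → ℕ
  /-- defining letters of the vertices -/
  gen : ℕ → ℕ
  /-- the packed facts -/
  fa : ℕ → ℕ
  /-- the number of facts -/
  nf : ℕ

/-- source vertex of a packed fact. -/
def fA (n : ℕ) : ℕ := Nat.mod n 1048576

/-- letter (plus one) of a packed fact, `0` for an alias. -/
def fM (n : ℕ) : ℕ := Nat.mod (Nat.div n 1048576) 64

/-- target vertex of a packed fact. -/
def fB (n : ℕ) : ℕ := Nat.mod (Nat.div n 67108864) 1048576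

/-- label of a packed fact. -/
def fL (n : ℕ) : L8 := L8.dec (Nat.div n 70368744177664)

/-- one step of a walk: use fact `s / 2` forwards (`s` even) or backwards (`s` odd). -/
def step (C : Cert) (j s cur : ℕ) (lab : L8) (letters : List ℕ) : Option (ℕ × L8 × List ℕ) :=
  frc (Nat.div s 2) fun j' =>
  bif Nat.blt j' j then
    frc (C.fa j') fun f =>
    bif Nat.beq (Nat.mod s 2) 0 then
      bif Nat.beq (fA f) cur then
        (match fM f, letters with
         | 0, letters => some (fB f, L8.add lab (fL f), letters)
         | m + 1, x :: rest =>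
           bif Nat.beq x m then some (fB f, L8.add lab (fL f), rest) else none
         | _ + 1, [] => none)
      else none
    else
      bif Nat.beq (fB f) cur then
        (match fM f, letters with
         | 0, letters => some (fA f, L8.add lab (L8.neg C.E (fL f)), letters)
         | m + 1, x :: rest =>
           bif Nat.blt m C.k && Nat.beq x (C.ι m) then
             some (fA f, L8.add lab (L8.neg C.E (fL f)), rest) else none
         | _ + 1, [] => none)
      else none
  else none

/-- a walk along a list of steps, consuming the letters. -/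
def walk (C : Cert) (j : ℕ) : List ℕ → ℕ → L8 → List ℕ → Option (ℕ × L8)
  | [], cur, lab, letters =>
    (match letters with
     | [] => some (cur, lab)
     | _ :: _ => none)
  | s :: ss, cur, lab, letters =>
    (match step C j s cur lab letters with
     | none => none
     | some (cur', lab', letters') => walk C j ss cur' lab' letters')

/-- unpack `c` digits of 24 bits. -/
def unpk : ℕ → ℕ → List ℕ
  | 0, _ => []
  | c + 1, n => Nat.mod n 16777216 :: unpk c (Nat.div n 16777216)

/-- the inverse word. -/
def winv (ι : ℕ → ℕ) (l : List ℕ) : List ℕ := (l.map ι).reverse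

/-- may the loop word `wi` be used at the vertex `c`? -/
def loopOK (C : Cert) (wi c : ℕ) : Bool :=
  Nat.blt wi C.nrel || (Nat.blt wi C.nw && Nat.beq c 0 && L8.beq (C.δ wi) L8.zero)

/-- check a fact justified by a loop. The record `r` holds, from the low bits: the gap flag (1 bit),
the loop word (10 bits), the position (10 bits), the base vertex (20 bits), the numbers of forward and
backward steps (12 bits each), and then the steps (24 bits each). -/
def checkLoop (C : Cert) (j r : ℕ) : Bool :=
  frc (Nat.mod r 2) fun g =>
  frc (Nat.mod (Nat.div r 2) 1024) fun wi =>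
  frc (Nat.mod (Nat.div r 2048) 1024) fun i =>
  frc (Nat.mod (Nat.div r 2097152) 1048576) fun c =>
  frc (Nat.mod (Nat.div r 2199023255552) 4096) fun nF =>
  frc (Nat.mod (Nat.div r 9007199254740992) 4096) fun nB =>
  frc (Nat.div r 36893488147419103232) fun body =>
  loopOK C wi c && Nat.ble g 1 && Nat.ble (Nat.add i g) (C.W wi).length &&
  (match walk C j (unpk nF body) c L8.zero ((C.W wi).take i) with
   | none => false
   | some (v, α) =>
     (match walk C j (unpk nB (Nat.div body (Nat.pow 16777216 nF))) c L8.zero
        (winv C.ι ((C.W wi).drop (Nat.add i g))) with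
      | none => false
      | some (b, β) =>
        frc (C.fa j) fun f =>
        Nat.beq (fA f) v && Nat.beq (fB f) b &&
        Nat.beq (fM f) (bif Nat.beq g 0 then 0 else Nat.succ ((C.W wi).getD i 0)) &&
        L8.beq (fL f) (L8.red C.E (L8.add (L8.add β (C.δ wi)) (L8.neg C.E α)))))

/-- check a defining fact. -/
def checkDef (C : Cert) (j : ℕ) : Bool :=
  frc (C.fa j) fun f =>
  frc (fB f) fun b =>
  Nat.blt 0 b && Nat.blt (C.par b) b && Nat.beq (fA f) (C.par b) &&
    Nat.beq (fM f) (Nat.succ (C.gen b)) && L8.beq (fL f) L8.zero

/-- check fact `j` with the justification record `r`. -/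
def checkFact (C : Cert) (j r : ℕ) : Bool :=
  bif Nat.beq (Nat.mod r 2) 0 then checkDef C j else checkLoop C j (Nat.div r 2)

/-- check a list of consecutive facts. -/
def checkList (C : Cert) : ℕ → List ℕ → Bool
  | _, [] => true
  | j, r :: rs => checkFact C j r && checkList C (Nat.succ j) rs

theorem checkList_spec (C : Cert) : ∀ (l : List ℕ) (lo : ℕ), checkList C lo l = true →
    ∀ j, lo ≤ j → j < lo + l.length → ∃ r, checkFact C j r = true
  | [], lo, _, j, h1, h2 => by simp at h2; omega
  | r :: rs, lo, h, j, h1, h2 => by
    unfold checkList at h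
    rw [Bool.and_eq_true] at h
    rcases Nat.eq_or_lt_of_le h1 with h3 | h3
    · exact ⟨r, h3 ▸ h.1⟩
    · refine checkList_spec C rs (lo + 1) h.2 j h3 ?_
      simp only [List.length_cons] at h2
      omega

end Cfsg.Agent.Helper4.LTW
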