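import Mathlib
import Cfsg.Agent.Helper4.LTWC

/-!
# Labelled Todd–Coxeter certificates: counting
-/

/-! (helper4: a copy of the file of the same letter of `Cfsg.Agent.Helper5.LTC*`, with wider packed
fields: letters below 63 and central words below 64.) -/

set_option autoImplicit false

namespace Cfsg.Agent.Helper4.LTW

variable {P : Type*} [Group P]

/-- the final table on the live vertices. -/
structure Tab where
  /-- number of live vertices -/
  N : ℕ
  /-- the live vertices -/
  LV : ℕ → ℕ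
  /-- entries: a step (24 bits) and the position of the target -/
  TB : ℕ → ℕ → ℕ

/-- the entry `(n, x)` of the final table is justified by a fact. -/
def tabEntryOK (C : Cert) (T : Tab) (n x : ℕ) : Bool :=
  frc (T.TB n x) fun e =>
  (match step C C.nf (Nat.mod e 16777216) (T.LV n) L8.zero [x] with
   | some (v', _, []) =>
     Nat.blt (Nat.div e 16777216) T.N && Nat.beq v' (T.LV (Nat.div e 16777216))
   | _ => false)

/-- all entries of row `n`. -/
def tabRowOK (C : Cert) (T : Tab) (n : ℕ) : ℕ → Bool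
  | 0 => true
  | x + 1 => tabEntryOK C T n x && tabRowOK C T n x

theorem tabRowOK_spec (C : Cert) (T : Tab) (n : ℕ) : ∀ k, tabRowOK C T n k = true →
    ∀ x, x < k → tabEntryOK C T n x = true
  | 0, _, x, hx => by omega
  | k + 1, h, x, hx => by
    unfold tabRowOK at h
    rw [Bool.and_eq_true] at h
    rcases Nat.eq_or_lt_of_le (Nat.le_of_lt_succ hx) with h1 | h1
    · exact h1 ▸ h.1
    · exact tabRowOK_spec C T n k h.2 x h1

/-- all rows `lo ≤ n < lo + cnt`. -/
def tabRowsOK (C : Cert) (T : Tab) : ℕ → ℕ → Bool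
  | 0, _ => true
  | cnt + 1, lo => tabRowOK C T lo C.k && tabRowsOK C T cnt (Nat.succ lo)

theorem tabRowsOK_spec (C : Cert) (T : Tab) : ∀ cnt lo, tabRowsOK C T cnt lo = true →
    ∀ n, lo ≤ n → n < lo + cnt → tabRowOK C T n C.k = true
  | 0, lo, _, n, h1, h2 => by omega
  | cnt + 1, lo, h, n, h1, h2 => by
    unfold tabRowsOK at h
    rw [Bool.and_eq_true] at h
    rcases Nat.eq_or_lt_of_le h1 with h3 | h3
    · exact h3 ▸ h.1
    · exact tabRowsOK_spec C T cnt (lo + 1) h.2 n h3 (by omega)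

variable {C : Cert} {K : Subgroup P} {g z : ℕ → P}

theorem phi_mem (S : Subgroup P) (hzS : ∀ i, z i ∈ S) (l : L8) : phi z l ∈ S := by
  unfold phi
  exact S.mul_mem (S.mul_mem (S.mul_mem (S.mul_mem (S.mul_mem (S.mul_mem (S.mul_mem
    (S.pow_mem (hzS 0) _) (S.pow_mem (hzS 1) _)) (S.pow_mem (hzS 2) _)) (S.pow_mem (hzS 3) _))
    (S.pow_mem (hzS 4) _)) (S.pow_mem (hzS 5) _)) (S.pow_mem (hzS 6) _)) (S.pow_mem (hzS 7) _)

theorem entry_sound (hH : Hyp C K g z) (hall : ∀ j, j < C.nf → Holds C K g z j) (T : Tab)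
    {n x : ℕ} (h : tabEntryOK C T n x = true) {p : P} {lab : L8}
    (hp : Rel K p (wrep C.par C.gen g (T.LV n) * phi z lab)) :
    ∃ n', n' < T.N ∧ ∃ lab', Rel K (p * g x) (wrep C.par C.gen g (T.LV n') * phi z lab') := by
  unfold tabEntryOK at h
  rw [frc_eq] at h
  generalize T.TB n x = e at h
  cases hs : step C C.nf (Nat.mod e 16777216) (T.LV n) L8.zero [x] with
  | none => rw [hs] at h; exact absurd h (by simp)
  | some r =>
    obtain ⟨v', l1, rest⟩ := r
    rw [hs] at h
    match rest, h, hs with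
    | _ :: _, h, _ => exact absurd h (by simp)
    | [], h, hs =>
      simp only at h
      rw [Bool.and_eq_true] at h
      have hn' : Nat.div e 16777216 < T.N := by
        have := h.1
        rwa [Nat.blt_eq] at this
      have hv' : v' = T.LV (Nat.div e 16777216) := Nat.eq_of_beq_eq_true h.2
      -- strip the label
      have hp1 := rel_mul_right hp (phi z lab)⁻¹
      rw [mul_inv_cancel_right] at hp1
      have hp2 : Rel K (p * (phi z lab)⁻¹)
          (wrep C.par C.gen g (T.LV n) * phi z L8.zero) := by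
        rw [phi_zero, mul_one]
        exact hp1
      obtain ⟨pre, hpre, hR⟩ := step_sound hH hall hp2 hs
      rw [List.append_nil] at hpre
      subst hpre
      rw [lprod_cons, lprod_nil, mul_one] at hR
      have hR2 := rel_phi hH hR lab
      refine ⟨_, hn', L8.add l1 lab, ?_⟩
      have e1 : p * (phi z lab)⁻¹ * g x * phi z lab = p * g x := by
        rw [mul_assoc, mul_assoc, phi_comm hH.hz lab (g x), ← mul_assoc (phi z lab)⁻¹,
          inv_mul_cancel, one_mul]
      rw [e1, mul_assoc, ← phi_add hH.hz, hv'] at hR2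
      exact hR2

/-- every word lies in one of the cosets `K * w (LV n) * phi lab`. -/
theorem cover (hH : Hyp C K g z) (hall : ∀ j, j < C.nf → Holds C K g z j) (T : Tab)
    (hT0 : T.LV 0 = 0) (h0N : 0 < T.N)
    (hT : ∀ n, n < T.N → ∀ x, x < C.k → tabEntryOK C T n x = true) (l : List ℕ) :
    (∀ c ∈ l, c < C.k) →
      ∃ n, n < T.N ∧ ∃ lab, Rel K (lprod g l) (wrep C.par C.gen g (T.LV n) * phi z lab) := by
  induction l using List.reverseRecOn with
  | nil =>
    intro _
    refine ⟨0, h0N, L8.zero, ?_⟩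
    rw [hT0, wrep_zero, phi_zero, lprod_nil, mul_one]
    exact rel_refl K _
  | append_singleton l x ih =>
    intro hl
    obtain ⟨n, hn, lab, hR⟩ := ih (fun c hc => hl c (List.mem_append_left _ hc))
    have hx : x < C.k := hl x (List.mem_append_right _ (List.mem_singleton_self x))
    obtain ⟨n', hn', lab', hR'⟩ := entry_sound hH hall T (hT n hn x hx) hR
    refine ⟨n', hn', lab', ?_⟩
    rw [lprod_append, lprod_cons, lprod_nil, mul_one]
    exact hR'

/-- **the counting bound**. -/
theorem card_le (hH : Hyp C K g z) (hall : ∀ j, j < C.nf → Holds C K g z j) (T : Tab)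
    (hT0 : T.LV 0 = 0) (h0N : 0 < T.N)
    (hT : ∀ n, n < T.N → ∀ x, x < C.k → tabEntryOK C T n x = true)
    (hgen : ∀ p : P, ∃ l : List ℕ, (∀ c ∈ l, c < C.k) ∧ p = lprod g l)
    [Finite K] (z0 : P) (a : ℕ) (ha : 0 < a) (hz0 : z0 ^ a = 1)
    (hzz : ∀ i, z i ∈ Subgroup.zpowers z0) :
    Finite P ∧ Nat.card P ≤ Nat.card K * T.N * a := by
  have hfo : IsOfFinOrder z0 := isOfFinOrder_iff_pow_eq_one.mpr ⟨a, ha, hz0⟩
  have hcz : Nat.card (Subgroup.zpowers z0) = orderOf z0 := Nat.card_zpowers z0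
  have hfz : Finite (Subgroup.zpowers z0) :=
    Nat.finite_of_card_ne_zero (by rw [hcz]; exact hfo.orderOf_pos.ne')
  let f : K × Fin T.N × Subgroup.zpowers z0 → P := fun t =>
    (t.1 : P) * wrep C.par C.gen g (T.LV t.2.1) * (t.2.2 : P)
  have hf : Function.Surjective f := by
    intro p
    obtain ⟨l, hl, rfl⟩ := hgen p
    obtain ⟨n, hn, lab, hR⟩ := cover hH hall T hT0 h0N hT l hl
    refine ⟨(⟨_, hR⟩, ⟨n, hn⟩, ⟨phi z lab, phi_mem _ hzz lab⟩), ?_⟩
    simp only [f]
    group
  refine ⟨Finite.of_surjective f hf, ?_⟩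
  have h1 := Nat.card_le_card_of_surjective f hf
  rw [Nat.card_prod, Nat.card_prod, Nat.card_fin, hcz] at h1
  calc Nat.card P ≤ Nat.card K * (T.N * orderOf z0) := h1
    _ ≤ Nat.card K * (T.N * a) :=
      Nat.mul_le_mul_left _ (Nat.mul_le_mul_left _ (orderOf_le_of_pow_eq_one ha hz0))
    _ = Nat.card K * T.N * a := by ring

end Cfsg.Agent.Helper4.LTW
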