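import Mathlib
import Cfsg.Agent.Helper4.LTWQ2
import Cfsg.Agent.Helper4.Tower

/-!
# Towers of covering presentations, wide certificates

The step of `Cfsg.Agent.Helper4.Tower` for the wide certificate format `Cfsg.Agent.Helper4.LTW`;
the bound is in terms of the image of the smaller covering group, so that a proper quotient of it
can be used.
-/

set_option autoImplicit false

namespace Cfsg.Agent.Helper4.TowerW

open Cfsg Cfsg.Agent.Helper5.StemP Cfsg.Agent.Helper5.LP Cfsg.Agent.Helper4.LTW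
  Cfsg.Agent.Helper4.LTWQ Cfsg.Agent.Helper4.Tower

section step
variable (d' d : ℕ) (m : ℕ → ℕ) (CL EX : List (List ℕ)) (e : ℕ)

/-- **one step of a tower of covering presentations**, with the image of the smaller covering
group in the bound. -/
theorem step_range (hd : d' ≤ d) (hCL : ∀ r ∈ CL, ∀ c ∈ r, c < 2 * d')
    (hEX : ∀ r ∈ EX, ∀ c ∈ r, c < 2 * d) (he0 : 0 < e) (hn : EX.length ≤ 8)
    (hB : Finite (CovG d' m CL CL e))
    (C : Cert) (hk : C.k = 2 * d) (hι : C.ι = linv) (hE : C.E = e)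
    (hWlt : ∀ wi, ∀ c ∈ C.W wi, c < 2 * d) (orig : ℕ → ℕ)
    (hwordOK : ∀ wi, wi < C.nrel →
      wordOK2 (coverRels d m (EX ++ CL) (EX ++ CL) e) (EX ++ CL) EX.length (C.W wi) (C.δ wi)
        (orig wi) = true)
    (hsubW : ∀ wi, C.nrel ≤ wi → wi < C.nw → ∃ c, c < 2 * d' ∧ C.W wi = [c])
    (hchk : ∀ j, j < C.nf → ∃ r, checkFact C j r = true)
    (T : Tab) (hT0 : T.LV 0 = 0) (h0N : 0 < T.N)
    (hT : ∀ n, n < T.N → ∀ x, x < C.k → tabEntryOK C T n x = true)
    (js : List ℕ) (hjs : ∀ j ∈ js, relFactOK C j = true)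
    (i0 a : ℕ) (hi0 : i0 < 8) (ha : 0 < a) (cs0 : List ℕ) (h0 : ordOK C js cs0 i0 a = true)
    (as : ℕ → ℕ) (css : ℕ → List ℕ)
    (hgs : ∀ i, i < EX.length → genOK C js (css i) i i0 (as i) = true) :
    Finite (CovG d m (EX ++ CL) (EX ++ CL) e) ∧
      Nat.card (CovG d m (EX ++ CL) (EX ++ CL) e) ≤
        Nat.card (phiT d' d m CL EX e hd hCL).range * T.N * a := by
  have : Finite (CovG d' m CL CL e) := hB
  let φ := phiT d' d m CL EX e hd hCL
  let K : Subgroup (CovG d m (EX ++ CL) (EX ++ CL) e) := φ.range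
  have hKfin : Finite K := Finite.of_surjective φ.rangeRestrict φ.rangeRestrict_surjective
  have hzn : ∀ i, EX.length ≤ i → zC d m (EX ++ CL) (EX ++ CL) e i ∈ K := by
    intro i hi
    unfold zC
    have e1 : (EX ++ CL).getD i [] = CL.getD (i - EX.length) [] :=
      List.getD_append_right _ _ _ _ hi
    rw [e1]
    by_cases hlt : i - EX.length < CL.length
    · rw [List.getD_eq_getElem CL [] hlt]
      have hmem : CL[i - EX.length] ∈ CL := List.getElem_mem hlt
      exact ⟨ev (2 * d') (coverRels d' m CL CL e) CL[i - EX.length],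
        phiT_ev d' d m CL EX e hd hCL _ (hCL _ hmem)⟩
    · rw [List.getD_eq_default CL [] (by omega), ev_nil]
      exact K.one_mem
  have hsubs : ∀ wi, C.nrel ≤ wi → wi < C.nw →
      ev (2 * d) (coverRels d m (EX ++ CL) (EX ++ CL) e) (C.W wi) ∈ K := by
    intro wi h1 h2
    obtain ⟨c, hc, hW⟩ := hsubW wi h1 h2
    rw [hW]
    refine ⟨ev (2 * d') (coverRels d' m CL CL e) [c], ?_⟩
    apply phiT_ev
    intro c' hc'
    rw [List.mem_singleton] at hc'
    omega
  exact covG_card_le_tail_inK d m (EX ++ CL) (EX ++ CL) e C hk hι hE he0 (fun r hr => hr)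
    (CC_lt d' d CL EX hd hCL hEX) EX.length hn K hzn hWlt orig hwordOK hsubs hchk T hT0 h0N hT
    js hjs i0 a hi0 ha cs0 h0 as css hgs

/-- **one step of a tower of covering presentations.** -/
theorem step (hd : d' ≤ d) (hCL : ∀ r ∈ CL, ∀ c ∈ r, c < 2 * d')
    (hEX : ∀ r ∈ EX, ∀ c ∈ r, c < 2 * d) (he0 : 0 < e) (hn : EX.length ≤ 8)
    (B : ℕ) (hB : Finite (CovG d' m CL CL e) ∧ Nat.card (CovG d' m CL CL e) ≤ B)
    (C : Cert) (hk : C.k = 2 * d) (hι : C.ι = linv) (hE : C.E = e)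
    (hWlt : ∀ wi, ∀ c ∈ C.W wi, c < 2 * d) (orig : ℕ → ℕ)
    (hwordOK : ∀ wi, wi < C.nrel →
      wordOK2 (coverRels d m (EX ++ CL) (EX ++ CL) e) (EX ++ CL) EX.length (C.W wi) (C.δ wi)
        (orig wi) = true)
    (hsubW : ∀ wi, C.nrel ≤ wi → wi < C.nw → ∃ c, c < 2 * d' ∧ C.W wi = [c])
    (hchk : ∀ j, j < C.nf → ∃ r, checkFact C j r = true)
    (T : Tab) (hT0 : T.LV 0 = 0) (h0N : 0 < T.N)
    (hT : ∀ n, n < T.N → ∀ x, x < C.k → tabEntryOK C T n x = true)
    (js : List ℕ) (hjs : ∀ j ∈ js, relFactOK C j = true)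
    (i0 a : ℕ) (hi0 : i0 < 8) (ha : 0 < a) (cs0 : List ℕ) (h0 : ordOK C js cs0 i0 a = true)
    (as : ℕ → ℕ) (css : ℕ → List ℕ)
    (hgs : ∀ i, i < EX.length → genOK C js (css i) i i0 (as i) = true) :
    Finite (CovG d m (EX ++ CL) (EX ++ CL) e) ∧
      Nat.card (CovG d m (EX ++ CL) (EX ++ CL) e) ≤ B * T.N * a := by
  have : Finite (CovG d' m CL CL e) := hB.1
  have h := step_range d' d m CL EX e hd hCL hEX he0 hn hB.1 C hk hι hE hWlt orig hwordOK hsubW
    hchk T hT0 h0N hT js hjs i0 a hi0 ha cs0 h0 as css hgs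
  refine ⟨h.1, h.2.trans ?_⟩
  have hKcard : Nat.card (phiT d' d m CL EX e hd hCL).range ≤ B :=
    (Nat.card_le_card_of_surjective (phiT d' d m CL EX e hd hCL).rangeRestrict
      (phiT d' d m CL EX e hd hCL).rangeRestrict_surjective).trans hB.2
  exact Nat.mul_le_mul_right _ (Nat.mul_le_mul_right _ hKcard)

end step

end Cfsg.Agent.Helper4.TowerW
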