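import Mathlib
import Cfsg.Agent.Helper4.F22RDef
import Cfsg.Agent.Helper4.TowerW
import Cfsg.Agent.Helper4.F22R2Sum
import Cfsg.Agent.Helper4.F22R3Sum
import Cfsg.Agent.Helper4.F22R4Sum
import Cfsg.Agent.Helper4.F22R5Sum
import Cfsg.Agent.Helper4.F22R6Sum
import Cfsg.Agent.Helper4.F22R7Sum

/-!
# The group presented on seven elements of order 3 has at most the order of `O₇(3)`

Six labelled Todd–Coxeter certificates of exponent 1 (indices 4, 8, 10, 27, 56, 3159).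
-/

set_option autoImplicit false

namespace Cfsg.Agent.Helper4.F22R

open Cfsg Cfsg.Agent.Helper5.StemP Cfsg.Agent.Helper5.LP Cfsg.Agent.Helper4.LTW

theorem card1 : Finite (CovG 1 m3 CL1 CL1 1) ∧ Nat.card (CovG 1 m3 CL1 CL1 1) ≤ 3 :=
  Cfsg.Agent.Helper4.Tower.base m3 1 (by decide)

theorem CL1_lt : ∀ r ∈ CL1, ∀ c ∈ r, c < 2 * 1 := by decide

theorem EX2_lt : ∀ r ∈ EX2, ∀ c ∈ r, c < 2 * 2 := by decide

theorem words_lt_2 : ∀ wi, ∀ c ∈ F22R2.cert.W wi, c < 2 * 2 := by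
  intro wi c hc
  have h : ∀ w ∈ F22R2.words, ∀ c ∈ w, c < 4 := by decide +kernel
  change c ∈ F22R2.words.getD wi [] at hc
  by_cases hwi : wi < F22R2.words.length
  · rw [List.getD_eq_getElem _ _ hwi] at hc
    exact h _ (List.getElem_mem hwi) c hc
  · rw [List.getD_eq_default _ _ (by omega)] at hc
    simp at hc

set_option maxRecDepth 1000000 in
theorem wordOK_2 : ∀ wi, wi < F22R2.cert.nrel →
    wordOK2 (coverRels 2 m3 (EX2 ++ CL1) (EX2 ++ CL1) 1) (EX2 ++ CL1) EX2.length (F22R2.cert.W wi)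
      (F22R2.cert.δ wi) (F22R2.origs.getD wi 0) = true := by decide +kernel

theorem hsubW_2 : ∀ wi, F22R2.cert.nrel ≤ wi → wi < F22R2.cert.nw →
    ∃ c, c < 2 * 1 ∧ F22R2.cert.W wi = [c] := by
  intro wi h1 h2
  have h1' : 9 ≤ wi := h1
  have h2' : wi < 10 := h2
  interval_cases wi
  · exact ⟨0, by norm_num, by decide +kernel⟩

theorem card2 : Finite (CovG 2 m3 CL2 CL2 1) ∧ Nat.card (CovG 2 m3 CL2 CL2 1) ≤ 12 := by
  have h := TowerW.step 1 2 m3 CL1 EX2 1 (by norm_num) CL1_lt EX2_lt (by norm_num) (by decide)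
    3 card1 F22R2.cert rfl rfl rfl words_lt_2
    (fun wi => F22R2.origs.getD wi 0) wordOK_2 hsubW_2 F22R2.hchk F22R2.tab (by decide +kernel)
    (by decide) F22R2.hT F22R2.js F22R2.hjs 0 1 (by norm_num) (by norm_num) F22R2.cs0 F22R2.h0
    (fun i => F22R2.as_.getD i 0) (fun i => F22R2.css.getD i []) F22R2.hgs
  have hN : F22R2.tab.N = 4 := rfl
  rw [hN] at h
  exact ⟨h.1, h.2.trans (by decide)⟩

theorem CL2_lt : ∀ r ∈ CL2, ∀ c ∈ r, c < 2 * 2 := by decide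

theorem EX3_lt : ∀ r ∈ EX3, ∀ c ∈ r, c < 2 * 3 := by decide

theorem words_lt_3 : ∀ wi, ∀ c ∈ F22R3.cert.W wi, c < 2 * 3 := by
  intro wi c hc
  have h : ∀ w ∈ F22R3.words, ∀ c ∈ w, c < 6 := by decide +kernel
  change c ∈ F22R3.words.getD wi [] at hc
  by_cases hwi : wi < F22R3.words.length
  · rw [List.getD_eq_getElem _ _ hwi] at hc
    exact h _ (List.getElem_mem hwi) c hc
  · rw [List.getD_eq_default _ _ (by omega)] at hc
    simp at hc

set_option maxRecDepth 1000000 in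
theorem wordOK_3 : ∀ wi, wi < F22R3.cert.nrel →
    wordOK2 (coverRels 3 m3 (EX3 ++ CL2) (EX3 ++ CL2) 1) (EX3 ++ CL2) EX3.length (F22R3.cert.W wi)
      (F22R3.cert.δ wi) (F22R3.origs.getD wi 0) = true := by decide +kernel

theorem hsubW_3 : ∀ wi, F22R3.cert.nrel ≤ wi → wi < F22R3.cert.nw →
    ∃ c, c < 2 * 2 ∧ F22R3.cert.W wi = [c] := by
  intro wi h1 h2
  have h1' : 16 ≤ wi := h1
  have h2' : wi < 18 := h2
  interval_cases wi
  · exact ⟨0, by norm_num, by decide +kernel⟩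
  · exact ⟨2, by norm_num, by decide +kernel⟩

theorem card3 : Finite (CovG 3 m3 CL3 CL3 1) ∧ Nat.card (CovG 3 m3 CL3 CL3 1) ≤ 96 := by
  have h := TowerW.step 2 3 m3 CL2 EX3 1 (by norm_num) CL2_lt EX3_lt (by norm_num) (by decide)
    12 card2 F22R3.cert rfl rfl rfl words_lt_3
    (fun wi => F22R3.origs.getD wi 0) wordOK_3 hsubW_3 F22R3.hchk F22R3.tab (by decide +kernel)
    (by decide) F22R3.hT F22R3.js F22R3.hjs 0 1 (by norm_num) (by norm_num) F22R3.cs0 F22R3.h0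
    (fun i => F22R3.as_.getD i 0) (fun i => F22R3.css.getD i []) F22R3.hgs
  have hN : F22R3.tab.N = 8 := rfl
  rw [hN] at h
  exact ⟨h.1, h.2.trans (by decide)⟩

theorem CL3_lt : ∀ r ∈ CL3, ∀ c ∈ r, c < 2 * 3 := by decide

theorem EX4_lt : ∀ r ∈ EX4, ∀ c ∈ r, c < 2 * 4 := by decide

theorem words_lt_4 : ∀ wi, ∀ c ∈ F22R4.cert.W wi, c < 2 * 4 := by
  intro wi c hc
  have h : ∀ w ∈ F22R4.words, ∀ c ∈ w, c < 8 := by decide +kernel
  change c ∈ F22R4.words.getD wi [] at hc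
  by_cases hwi : wi < F22R4.words.length
  · rw [List.getD_eq_getElem _ _ hwi] at hc
    exact h _ (List.getElem_mem hwi) c hc
  · rw [List.getD_eq_default _ _ (by omega)] at hc
    simp at hc

set_option maxRecDepth 1000000 in
theorem wordOK_4 : ∀ wi, wi < F22R4.cert.nrel →
    wordOK2 (coverRels 4 m3 (EX4 ++ CL3) (EX4 ++ CL3) 1) (EX4 ++ CL3) EX4.length (F22R4.cert.W wi)
      (F22R4.cert.δ wi) (F22R4.origs.getD wi 0) = true := by decide +kernel

theorem hsubW_4 : ∀ wi, F22R4.cert.nrel ≤ wi → wi < F22R4.cert.nw →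
    ∃ c, c < 2 * 3 ∧ F22R4.cert.W wi = [c] := by
  intro wi h1 h2
  have h1' : 27 ≤ wi := h1
  have h2' : wi < 30 := h2
  interval_cases wi
  · exact ⟨0, by norm_num, by decide +kernel⟩
  · exact ⟨2, by norm_num, by decide +kernel⟩
  · exact ⟨4, by norm_num, by decide +kernel⟩

theorem card4 : Finite (CovG 4 m3 CL4 CL4 1) ∧ Nat.card (CovG 4 m3 CL4 CL4 1) ≤ 960 := by
  have h := TowerW.step 3 4 m3 CL3 EX4 1 (by norm_num) CL3_lt EX4_lt (by norm_num) (by decide)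
    96 card3 F22R4.cert rfl rfl rfl words_lt_4
    (fun wi => F22R4.origs.getD wi 0) wordOK_4 hsubW_4 F22R4.hchk F22R4.tab (by decide +kernel)
    (by decide) F22R4.hT F22R4.js F22R4.hjs 0 1 (by norm_num) (by norm_num) F22R4.cs0 F22R4.h0
    (fun i => F22R4.as_.getD i 0) (fun i => F22R4.css.getD i []) F22R4.hgs
  have hN : F22R4.tab.N = 10 := rfl
  rw [hN] at h
  exact ⟨h.1, h.2.trans (by decide)⟩

theorem CL4_lt : ∀ r ∈ CL4, ∀ c ∈ r, c < 2 * 4 := by decide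

theorem EX5_lt : ∀ r ∈ EX5, ∀ c ∈ r, c < 2 * 5 := by decide

theorem words_lt_5 : ∀ wi, ∀ c ∈ F22R5.cert.W wi, c < 2 * 5 := by
  intro wi c hc
  have h : ∀ w ∈ F22R5.words, ∀ c ∈ w, c < 10 := by decide +kernel
  change c ∈ F22R5.words.getD wi [] at hc
  by_cases hwi : wi < F22R5.words.length
  · rw [List.getD_eq_getElem _ _ hwi] at hc
    exact h _ (List.getElem_mem hwi) c hc
  · rw [List.getD_eq_default _ _ (by omega)] at hc
    simp at hc

set_option maxRecDepth 1000000 in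
theorem wordOK_5 : ∀ wi, wi < F22R5.cert.nrel →
    wordOK2 (coverRels 5 m3 (EX5 ++ CL4) (EX5 ++ CL4) 1) (EX5 ++ CL4) EX5.length (F22R5.cert.W wi)
      (F22R5.cert.δ wi) (F22R5.origs.getD wi 0) = true := by decide +kernel

theorem hsubW_5 : ∀ wi, F22R5.cert.nrel ≤ wi → wi < F22R5.cert.nw →
    ∃ c, c < 2 * 4 ∧ F22R5.cert.W wi = [c] := by
  intro wi h1 h2
  have h1' : 40 ≤ wi := h1
  have h2' : wi < 44 := h2
  interval_cases wi
  · exact ⟨0, by norm_num, by decide +kernel⟩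
  · exact ⟨2, by norm_num, by decide +kernel⟩
  · exact ⟨4, by norm_num, by decide +kernel⟩
  · exact ⟨6, by norm_num, by decide +kernel⟩

theorem card5 : Finite (CovG 5 m3 CL5 CL5 1) ∧ Nat.card (CovG 5 m3 CL5 CL5 1) ≤ 25920 := by
  have h := TowerW.step 4 5 m3 CL4 EX5 1 (by norm_num) CL4_lt EX5_lt (by norm_num) (by decide)
    960 card4 F22R5.cert rfl rfl rfl words_lt_5
    (fun wi => F22R5.origs.getD wi 0) wordOK_5 hsubW_5 F22R5.hchk F22R5.tab (by decide +kernel)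
    (by decide) F22R5.hT F22R5.js F22R5.hjs 0 1 (by norm_num) (by norm_num) F22R5.cs0 F22R5.h0
    (fun i => F22R5.as_.getD i 0) (fun i => F22R5.css.getD i []) F22R5.hgs
  have hN : F22R5.tab.N = 27 := rfl
  rw [hN] at h
  exact ⟨h.1, h.2.trans (by decide)⟩

theorem CL5_lt : ∀ r ∈ CL5, ∀ c ∈ r, c < 2 * 5 := by decide

theorem EX6_lt : ∀ r ∈ EX6, ∀ c ∈ r, c < 2 * 6 := by decide

theorem words_lt_6 : ∀ wi, ∀ c ∈ F22R6.cert.W wi, c < 2 * 6 := by
  intro wi c hc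
  have h : ∀ w ∈ F22R6.words, ∀ c ∈ w, c < 12 := by decide +kernel
  change c ∈ F22R6.words.getD wi [] at hc
  by_cases hwi : wi < F22R6.words.length
  · rw [List.getD_eq_getElem _ _ hwi] at hc
    exact h _ (List.getElem_mem hwi) c hc
  · rw [List.getD_eq_default _ _ (by omega)] at hc
    simp at hc

set_option maxRecDepth 1000000 in
theorem wordOK_6 : ∀ wi, wi < F22R6.cert.nrel →
    wordOK2 (coverRels 6 m3 (EX6 ++ CL5) (EX6 ++ CL5) 1) (EX6 ++ CL5) EX6.length (F22R6.cert.W wi)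
      (F22R6.cert.δ wi) (F22R6.origs.getD wi 0) = true := by decide +kernel

theorem hsubW_6 : ∀ wi, F22R6.cert.nrel ≤ wi → wi < F22R6.cert.nw →
    ∃ c, c < 2 * 5 ∧ F22R6.cert.W wi = [c] := by
  intro wi h1 h2
  have h1' : 61 ≤ wi := h1
  have h2' : wi < 66 := h2
  interval_cases wi
  · exact ⟨0, by norm_num, by decide +kernel⟩
  · exact ⟨2, by norm_num, by decide +kernel⟩
  · exact ⟨4, by norm_num, by decide +kernel⟩
  · exact ⟨6, by norm_num, by decide +kernel⟩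
  · exact ⟨8, by norm_num, by decide +kernel⟩

theorem card6 : Finite (CovG 6 m3 CL6 CL6 1) ∧ Nat.card (CovG 6 m3 CL6 CL6 1) ≤ 1451520 := by
  have h := TowerW.step 5 6 m3 CL5 EX6 1 (by norm_num) CL5_lt EX6_lt (by norm_num) (by decide)
    25920 card5 F22R6.cert rfl rfl rfl words_lt_6
    (fun wi => F22R6.origs.getD wi 0) wordOK_6 hsubW_6 F22R6.hchk F22R6.tab (by decide +kernel)
    (by decide) F22R6.hT F22R6.js F22R6.hjs 0 1 (by norm_num) (by norm_num) F22R6.cs0 F22R6.h0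
    (fun i => F22R6.as_.getD i 0) (fun i => F22R6.css.getD i []) F22R6.hgs
  have hN : F22R6.tab.N = 56 := rfl
  rw [hN] at h
  exact ⟨h.1, h.2.trans (by decide)⟩

theorem CL6_lt : ∀ r ∈ CL6, ∀ c ∈ r, c < 2 * 6 := by decide

theorem EX7_lt : ∀ r ∈ EX7, ∀ c ∈ r, c < 2 * 7 := by decide

theorem words_lt_7 : ∀ wi, ∀ c ∈ F22R7.cert.W wi, c < 2 * 7 := by
  intro wi c hc
  have h : ∀ w ∈ F22R7.words, ∀ c ∈ w, c < 14 := by decide +kernel
  change c ∈ F22R7.words.getD wi [] at hc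
  by_cases hwi : wi < F22R7.words.length
  · rw [List.getD_eq_getElem _ _ hwi] at hc
    exact h _ (List.getElem_mem hwi) c hc
  · rw [List.getD_eq_default _ _ (by omega)] at hc
    simp at hc

set_option maxRecDepth 1000000 in
theorem wordOK_7 : ∀ wi, wi < F22R7.cert.nrel →
    wordOK2 (coverRels 7 m3 (EX7 ++ CL6) (EX7 ++ CL6) 1) (EX7 ++ CL6) EX7.length (F22R7.cert.W wi)
      (F22R7.cert.δ wi) (F22R7.origs.getD wi 0) = true := by decide +kernel

theorem hsubW_7 : ∀ wi, F22R7.cert.nrel ≤ wi → wi < F22R7.cert.nw →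
    ∃ c, c < 2 * 6 ∧ F22R7.cert.W wi = [c] := by
  intro wi h1 h2
  have h1' : 92 ≤ wi := h1
  have h2' : wi < 98 := h2
  interval_cases wi
  · exact ⟨0, by norm_num, by decide +kernel⟩
  · exact ⟨2, by norm_num, by decide +kernel⟩
  · exact ⟨4, by norm_num, by decide +kernel⟩
  · exact ⟨6, by norm_num, by decide +kernel⟩
  · exact ⟨8, by norm_num, by decide +kernel⟩
  · exact ⟨10, by norm_num, by decide +kernel⟩

theorem card7 : Finite (CovG 7 m3 CL7 CL7 1) ∧ Nat.card (CovG 7 m3 CL7 CL7 1) ≤ 4585351680 := by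
  have h := TowerW.step 6 7 m3 CL6 EX7 1 (by norm_num) CL6_lt EX7_lt (by norm_num) (by decide)
    1451520 card6 F22R7.cert rfl rfl rfl words_lt_7
    (fun wi => F22R7.origs.getD wi 0) wordOK_7 hsubW_7 F22R7.hchk F22R7.tab (by decide +kernel)
    (by decide) F22R7.hT F22R7.js F22R7.hjs 0 1 (by norm_num) (by norm_num) F22R7.cs0 F22R7.h0
    (fun i => F22R7.as_.getD i 0) (fun i => F22R7.css.getD i []) F22R7.hgs
  have hN : F22R7.tab.N = 3159 := rfl
  rw [hN] at h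
  exact ⟨h.1, h.2.trans (by decide)⟩

end Cfsg.Agent.Helper4.F22R
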