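import Cfsg.Agent.Helper4.O73MADat

/-! generated permutation model, checks: O73MA -/

set_option autoImplicit false
set_option Elab.async false
set_option maxRecDepth 1000000

namespace Cfsg.Agent.Helper4.O73MA
open Cfsg.Agent.Helper5.TC Cfsg.Agent.Helper5.TCI Cfsg.Agent.Helper5.LP

theorem fixc_6_0 : fixPtsF W_6 2160 0 = true := by decide +kernel

theorem fixc_10_0 : fixPtsF W_10 2160 0 = true := by decide +kernel

theorem fixc_11_0 : fixPtsF W_11 2160 0 = true := by decide +kernel

theorem fixc_4_0 : fixPtsF W_4 2160 0 = true := by decide +kernel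

theorem fixc_7_0 : fixPtsF W_7 2160 0 = true := by decide +kernel

theorem fixc_12_0 : fixPtsF W_12 2160 0 = true := by decide +kernel

theorem fixc_21_0 : fixPtsF W_21 2160 0 = true := by decide +kernel

theorem fixc_18_0 : fixPtsF W_18 2160 0 = true := by decide +kernel

theorem fixc_19_0 : fixPtsF W_19 2160 0 = true := by decide +kernel

theorem fixc_1_0 : fixPtsF W_1 2160 0 = true := by decide +kernel

theorem fixc_3_0 : fixPtsF W_3 2160 0 = true := by decide +kernel

theorem invc_1_0 : invRowFI mT 2160 1 0 2160 0 = true := by decide +kernel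

theorem invc_3_0 : invRowFI mT 2160 3 2 2160 0 = true := by decide +kernel

theorem invc_5_0 : invRowFI mT 2160 5 4 2160 0 = true := by decide +kernel

theorem invc_7_0 : invRowFI mT 2160 7 6 2160 0 = true := by decide +kernel

theorem invc_9_0 : invRowFI mT 2160 9 8 2160 0 = true := by decide +kernel

end Cfsg.Agent.Helper4.O73MA
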