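import Cfsg.Agent.Helper4.O73MBCk0
import Cfsg.Agent.Helper4.O73MBCk1

/-! generated permutation model, summary: O73MB -/

set_option autoImplicit false
set_option maxRecDepth 1000000

namespace Cfsg.Agent.Helper4.O73MB
open Cfsg.Agent.Helper5.TC Cfsg.Agent.Helper5.TCI Cfsg.Agent.Helper5.LP Cfsg.Agent.Helper5.StemP
  Cfsg.Agent.Helper4.ShM

theorem inv_0 : ∀ v, v < 2268 → mT 0 v < 2268 ∧ mT 1 (mT 0 v) = v :=
  (inv_step (fun v hv => absurd hv (by omega)) 2268 invc_0_0)

theorem inv_1 : ∀ v, v < 2268 → mT 1 v < 2268 ∧ mT 0 (mT 1 v) = v :=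
  (inv_step (fun v hv => absurd hv (by omega)) 2268 invc_1_0)

theorem inv_2 : ∀ v, v < 2268 → mT 2 v < 2268 ∧ mT 3 (mT 2 v) = v :=
  (inv_step (fun v hv => absurd hv (by omega)) 2268 invc_2_0)

theorem inv_3 : ∀ v, v < 2268 → mT 3 v < 2268 ∧ mT 2 (mT 3 v) = v :=
  (inv_step (fun v hv => absurd hv (by omega)) 2268 invc_3_0)

theorem inv_4 : ∀ v, v < 2268 → mT 4 v < 2268 ∧ mT 5 (mT 4 v) = v :=
  (inv_step (fun v hv => absurd hv (by omega)) 2268 invc_4_0)

theorem inv_5 : ∀ v, v < 2268 → mT 5 v < 2268 ∧ mT 4 (mT 5 v) = v :=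
  (inv_step (fun v hv => absurd hv (by omega)) 2268 invc_5_0)

theorem inv_6 : ∀ v, v < 2268 → mT 6 v < 2268 ∧ mT 7 (mT 6 v) = v :=
  (inv_step (fun v hv => absurd hv (by omega)) 2268 invc_6_0)

theorem inv_7 : ∀ v, v < 2268 → mT 7 v < 2268 ∧ mT 6 (mT 7 v) = v :=
  (inv_step (fun v hv => absurd hv (by omega)) 2268 invc_7_0)

theorem inv_8 : ∀ v, v < 2268 → mT 8 v < 2268 ∧ mT 9 (mT 8 v) = v :=
  (inv_step (fun v hv => absurd hv (by omega)) 2268 invc_8_0)

theorem inv_9 : ∀ v, v < 2268 → mT 9 v < 2268 ∧ mT 8 (mT 9 v) = v :=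
  (inv_step (fun v hv => absurd hv (by omega)) 2268 invc_9_0)

theorem tableOK : TableOKI (2 * (4 + 1)) 2268 linv mT := by
  intro x hx v hv
  have hx' : x < 10 := hx
  interval_cases x
  · exact inv_0 v hv
  · exact inv_1 v hv
  · exact inv_2 v hv
  · exact inv_3 v hv
  · exact inv_4 v hv
  · exact inv_5 v hv
  · exact inv_6 v hv
  · exact inv_7 v hv
  · exact inv_8 v hv
  · exact inv_9 v hv

theorem actw_0 : ∀ v, actL mT w_0 v = W_0 v := by
  intro v
  simp (maxSteps := 100000000) only [w_0, actL, W_0, forceL_eq]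
  rfl

theorem fixW_0 : ∀ v, v < 2268 → W_0 v = v :=
  (fixW_step (fun v hv => absurd hv (by omega)) 2268 fixc_0_0)

theorem fix_0 : ∀ v, v < 2268 → actL mT w_0 v = v := fun v hv => by
  rw [actw_0]
  exact fixW_0 v hv

theorem actw_1 : ∀ v, actL mT w_1 v = W_1 v := by
  intro v
  simp (maxSteps := 100000000) only [w_1, actL, W_1, forceL_eq]
  rfl

theorem fixW_1 : ∀ v, v < 2268 → W_1 v = v :=
  (fixW_step (fun v hv => absurd hv (by omega)) 2268 fixc_1_0)

theorem fix_1 : ∀ v, v < 2268 → actL mT w_1 v = v := fun v hv => by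
  rw [actw_1]
  exact fixW_1 v hv

theorem actw_2 : ∀ v, actL mT w_2 v = W_2 v := by
  intro v
  simp (maxSteps := 100000000) only [w_2, actL, W_2, forceL_eq]
  rfl

theorem fixW_2 : ∀ v, v < 2268 → W_2 v = v :=
  (fixW_step (fun v hv => absurd hv (by omega)) 2268 fixc_2_0)

theorem fix_2 : ∀ v, v < 2268 → actL mT w_2 v = v := fun v hv => by
  rw [actw_2]
  exact fixW_2 v hv

theorem actw_3 : ∀ v, actL mT w_3 v = W_3 v := by
  intro v
  simp (maxSteps := 100000000) only [w_3, actL, W_3, forceL_eq]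
  rfl

theorem fixW_3 : ∀ v, v < 2268 → W_3 v = v :=
  (fixW_step (fun v hv => absurd hv (by omega)) 2268 fixc_3_0)

theorem fix_3 : ∀ v, v < 2268 → actL mT w_3 v = v := fun v hv => by
  rw [actw_3]
  exact fixW_3 v hv

theorem actw_4 : ∀ v, actL mT w_4 v = W_4 v := by
  intro v
  simp (maxSteps := 100000000) only [w_4, actL, W_4, forceL_eq]
  rfl

theorem fixW_4 : ∀ v, v < 2268 → W_4 v = v :=
  (fixW_step (fun v hv => absurd hv (by omega)) 2268 fixc_4_0)

theorem fix_4 : ∀ v, v < 2268 → actL mT w_4 v = v := fun v hv => by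
  rw [actw_4]
  exact fixW_4 v hv

theorem actw_5 : ∀ v, actL mT w_5 v = W_5 v := by
  intro v
  simp (maxSteps := 100000000) only [w_5, actL, W_5, forceL_eq]
  rfl

theorem fixW_5 : ∀ v, v < 2268 → W_5 v = v :=
  (fixW_step (fun v hv => absurd hv (by omega)) 2268 fixc_5_0)

theorem fix_5 : ∀ v, v < 2268 → actL mT w_5 v = v := fun v hv => by
  rw [actw_5]
  exact fixW_5 v hv

theorem actw_6 : ∀ v, actL mT w_6 v = W_6 v := by
  intro v
  simp (maxSteps := 100000000) only [w_6, actL, W_6, forceL_eq]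
  rfl

theorem fixW_6 : ∀ v, v < 2268 → W_6 v = v :=
  (fixW_step (fun v hv => absurd hv (by omega)) 2268 fixc_6_0)

theorem fix_6 : ∀ v, v < 2268 → actL mT w_6 v = v := fun v hv => by
  rw [actw_6]
  exact fixW_6 v hv

theorem actw_7 : ∀ v, actL mT w_7 v = W_7 v := by
  intro v
  simp (maxSteps := 100000000) only [w_7, actL, W_7, forceL_eq]
  rfl

theorem fixW_7 : ∀ v, v < 2268 → W_7 v = v :=
  (fixW_step (fun v hv => absurd hv (by omega)) 2268 fixc_7_0)

theorem fix_7 : ∀ v, v < 2268 → actL mT w_7 v = v := fun v hv => by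
  rw [actw_7]
  exact fixW_7 v hv

theorem actw_8 : ∀ v, actL mT w_8 v = W_8 v := by
  intro v
  simp (maxSteps := 100000000) only [w_8, actL, W_8, forceL_eq]
  rfl

theorem fixW_8 : ∀ v, v < 2268 → W_8 v = v :=
  (fixW_step (fun v hv => absurd hv (by omega)) 2268 fixc_8_0)

theorem fix_8 : ∀ v, v < 2268 → actL mT w_8 v = v := fun v hv => by
  rw [actw_8]
  exact fixW_8 v hv

theorem actw_9 : ∀ v, actL mT w_9 v = W_9 v := by
  intro v
  simp (maxSteps := 100000000) only [w_9, actL, W_9, forceL_eq]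
  rfl

theorem fixW_9 : ∀ v, v < 2268 → W_9 v = v :=
  (fixW_step (fun v hv => absurd hv (by omega)) 2268 fixc_9_0)

theorem fix_9 : ∀ v, v < 2268 → actL mT w_9 v = v := fun v hv => by
  rw [actw_9]
  exact fixW_9 v hv

theorem actw_10 : ∀ v, actL mT w_10 v = W_10 v := by
  intro v
  simp (maxSteps := 100000000) only [w_10, actL, W_10, forceL_eq]
  rfl

theorem fixW_10 : ∀ v, v < 2268 → W_10 v = v :=
  (fixW_step (fun v hv => absurd hv (by omega)) 2268 fixc_10_0)

theorem fix_10 : ∀ v, v < 2268 → actL mT w_10 v = v := fun v hv => by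
  rw [actw_10]
  exact fixW_10 v hv

theorem actw_11 : ∀ v, actL mT w_11 v = W_11 v := by
  intro v
  simp (maxSteps := 100000000) only [w_11, actL, W_11, forceL_eq]
  rfl

theorem fixW_11 : ∀ v, v < 2268 → W_11 v = v :=
  (fixW_step (fun v hv => absurd hv (by omega)) 2268 fixc_11_0)

theorem fix_11 : ∀ v, v < 2268 → actL mT w_11 v = v := fun v hv => by
  rw [actw_11]
  exact fixW_11 v hv

theorem actw_12 : ∀ v, actL mT w_12 v = W_12 v := by
  intro v
  simp (maxSteps := 100000000) only [w_12, actL, W_12, forceL_eq]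
  rfl

theorem fixW_12 : ∀ v, v < 2268 → W_12 v = v :=
  (fixW_step (fun v hv => absurd hv (by omega)) 2268 fixc_12_0)

theorem fix_12 : ∀ v, v < 2268 → actL mT w_12 v = v := fun v hv => by
  rw [actw_12]
  exact fixW_12 v hv

theorem actw_13 : ∀ v, actL mT w_13 v = W_13 v := by
  intro v
  simp (maxSteps := 100000000) only [w_13, actL, W_13, forceL_eq]
  rfl

theorem fixW_13 : ∀ v, v < 2268 → W_13 v = v :=
  (fixW_step (fun v hv => absurd hv (by omega)) 2268 fixc_13_0)

theorem fix_13 : ∀ v, v < 2268 → actL mT w_13 v = v := fun v hv => by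
  rw [actw_13]
  exact fixW_13 v hv

theorem actw_14 : ∀ v, actL mT w_14 v = W_14 v := by
  intro v
  simp (maxSteps := 100000000) only [w_14, actL, W_14, forceL_eq]
  rfl

theorem fixW_14 : ∀ v, v < 2268 → W_14 v = v :=
  (fixW_step (fun v hv => absurd hv (by omega)) 2268 fixc_14_0)

theorem fix_14 : ∀ v, v < 2268 → actL mT w_14 v = v := fun v hv => by
  rw [actw_14]
  exact fixW_14 v hv

theorem actw_15 : ∀ v, actL mT w_15 v = W_15 v := by
  intro v
  simp (maxSteps := 100000000) only [w_15, actL, W_15, forceL_eq]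
  rfl

theorem fixW_15 : ∀ v, v < 2268 → W_15 v = v :=
  (fixW_step (fun v hv => absurd hv (by omega)) 2268 fixc_15_0)

theorem fix_15 : ∀ v, v < 2268 → actL mT w_15 v = v := fun v hv => by
  rw [actw_15]
  exact fixW_15 v hv

theorem actw_16 : ∀ v, actL mT w_16 v = W_16 v := by
  intro v
  simp (maxSteps := 100000000) only [w_16, actL, W_16, forceL_eq]
  rfl

theorem fixW_16 : ∀ v, v < 2268 → W_16 v = v :=
  (fixW_step (fun v hv => absurd hv (by omega)) 2268 fixc_16_0)

theorem fix_16 : ∀ v, v < 2268 → actL mT w_16 v = v := fun v hv => by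
  rw [actw_16]
  exact fixW_16 v hv

theorem actw_17 : ∀ v, actL mT w_17 v = W_17 v := by
  intro v
  simp (maxSteps := 100000000) only [w_17, actL, W_17, forceL_eq]
  rfl

theorem fixW_17 : ∀ v, v < 2268 → W_17 v = v :=
  (fixW_step (fun v hv => absurd hv (by omega)) 2268 fixc_17_0)

theorem fix_17 : ∀ v, v < 2268 → actL mT w_17 v = v := fun v hv => by
  rw [actw_17]
  exact fixW_17 v hv

theorem actw_18 : ∀ v, actL mT w_18 v = W_18 v := by
  intro v
  simp (maxSteps := 100000000) only [w_18, actL, W_18, forceL_eq]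
  rfl

theorem fixW_18 : ∀ v, v < 2268 → W_18 v = v :=
  (fixW_step (fun v hv => absurd hv (by omega)) 2268 fixc_18_0)

theorem fix_18 : ∀ v, v < 2268 → actL mT w_18 v = v := fun v hv => by
  rw [actw_18]
  exact fixW_18 v hv

theorem actw_19 : ∀ v, actL mT w_19 v = W_19 v := by
  intro v
  simp (maxSteps := 100000000) only [w_19, actL, W_19, forceL_eq]
  rfl

theorem fixW_19 : ∀ v, v < 2268 → W_19 v = v :=
  (fixW_step (fun v hv => absurd hv (by omega)) 2268 fixc_19_0)

theorem fix_19 : ∀ v, v < 2268 → actL mT w_19 v = v := fun v hv => by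
  rw [actw_19]
  exact fixW_19 v hv

theorem actw_20 : ∀ v, actL mT w_20 v = W_20 v := by
  intro v
  simp (maxSteps := 100000000) only [w_20, actL, W_20, forceL_eq]
  rfl

theorem fixW_20 : ∀ v, v < 2268 → W_20 v = v :=
  (fixW_step (fun v hv => absurd hv (by omega)) 2268 fixc_20_0)

theorem fix_20 : ∀ v, v < 2268 → actL mT w_20 v = v := fun v hv => by
  rw [actw_20]
  exact fixW_20 v hv

theorem actw_21 : ∀ v, actL mT w_21 v = W_21 v := by
  intro v
  simp (maxSteps := 100000000) only [w_21, actL, W_21, forceL_eq]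
  rfl

theorem fixW_21 : ∀ v, v < 2268 → W_21 v = v :=
  (fixW_step (fun v hv => absurd hv (by omega)) 2268 fixc_21_0)

theorem fix_21 : ∀ v, v < 2268 → actL mT w_21 v = v := fun v hv => by
  rw [actw_21]
  exact fixW_21 v hv

theorem actw_22 : ∀ v, actL mT w_22 v = W_22 v := by
  intro v
  simp (maxSteps := 100000000) only [w_22, actL, W_22, forceL_eq]
  rfl

theorem fixW_22 : ∀ v, v < 2268 → W_22 v = v :=
  (fixW_step (fun v hv => absurd hv (by omega)) 2268 fixc_22_0)

theorem fix_22 : ∀ v, v < 2268 → actL mT w_22 v = v := fun v hv => by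
  rw [actw_22]
  exact fixW_22 v hv

theorem hcomm : ∀ i, i < 4 → ∀ v, v < 2268 → actL mT [2 * i, 2 * 4, 2 * i + 1, 2 * 4 + 1] v = v := by
  intro i hi
  interval_cases i
  · exact fix_0
  · exact fix_1
  · exact fix_2
  · exact fix_3

theorem hcent : ∀ r ∈ cw, ∃ k, ∀ v, v < 2268 → actL mT (r ++ List.replicate k (2 * 4)) v = v := by
  intro r hr
  simp only [cw, List.mem_cons, List.not_mem_nil, or_false] at hr
  rcases hr with rfl | rfl | rfl | rfl | rfl | rfl | rfl | rfl | rfl | rfl | rfl | rfl | rfl | rfl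
  · exact ⟨1, fix_4⟩
  · exact ⟨2, fix_5⟩
  · exact ⟨2, fix_6⟩
  · exact ⟨0, fix_7⟩
  · exact ⟨0, fix_8⟩
  · exact ⟨0, fix_9⟩
  · exact ⟨2, fix_10⟩
  · exact ⟨0, fix_11⟩
  · exact ⟨1, fix_12⟩
  · exact ⟨2, fix_13⟩
  · exact ⟨2, fix_14⟩
  · exact ⟨0, fix_15⟩
  · exact ⟨0, fix_16⟩
  · exact ⟨0, fix_17⟩

theorem hpow : ∀ i, i < 4 → ∀ v, v < 2268 → actL mT (List.replicate (mml.getD i 0) (2 * i)) v = v := by
  intro i hi
  interval_cases i
  · exact fix_18
  · exact fix_19
  · exact fix_20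
  · exact fix_21

theorem hsh : ∀ v, v < 2268 → actL mT (List.replicate 3 (2 * 4)) v = v := fix_22

end Cfsg.Agent.Helper4.O73MB
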