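import Mathlib
import Cfsg.Agent.Helper4.O73MDat
import Cfsg.Agent.Helper5.O73LPD
import Cfsg.Agent.Helper5.LPX
import Cfsg.Agent.Helper5.LPL
import Cfsg.Agent.Helper5.StemPF

/-!
# Generators of `O₇(3)` for the Schur multiplier

In the group presented on eight involutions (simple of order 4585351680, `Helper5.O73LP`), acting
on 364 points: elements `a, b` of order 7 and `c, x` of order 13 (`a, b, c` generating `G₂(3)` and
satisfying the relators of `Helper5.G23`, `x` a conjugate of `c` under an involution centralising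
`a, b`), their relators, and generation.
-/

set_option autoImplicit false

namespace Cfsg.Agent.Helper4.O73M

open Cfsg.Agent.Helper5.LP Cfsg.Agent.Helper5.StemP Cfsg.Agent.Helper5.TC Cfsg.Agent.Helper5.TCI
open Cfsg.Agent.Helper5.O73LP (R8 lettersA)
open Cfsg.Agent.Helper5

/-- the presented group. -/
abbrev P : Type := LPG 8 R8

theorem invol8 : Invol 8 R8 := by
  intro c hc
  interval_cases c <;> decide

theorem hT8 : TableOK 8 364 FiXBTC.ctF :=
  tableOK_of_cert FiXBTC.iota (fun _ => rfl) rfl FiXBTC.hT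

theorem hR8 : RelsFix R8 364 FiXBTC.ctF :=
  relsFix_of_cert (letterWords 7) rfl O73LP.wordsB FiXBTC.hrelT

/-- the permutation representation on 364 points. -/
noncomputable def rho : P →* Equiv.Perm (Fin 364) := tableHom lettersA hT8 hR8

theorem hA8 : ActsOn rho (ev 8 R8) 8 FiXBTC.ctF :=
  ⟨fun l hl v => tableHom_ev lettersA hT8 hR8 l hl v⟩

instance finP : Finite P := O73LP.ubB.1

theorem card_P : Nat.card P = 4585351680 := O73LP.simple_card.2

theorem rho_inj : Function.Injective rho :=
  injective_of_chain hA8 O73LP.levels O73LP.chain_ok (by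
    rw [O73LP.chain_prod, card_P])

/-- the generators. -/
noncomputable def g (i : ℕ) : P := ev 8 R8 (W (2 * i))

theorem W_lt : ∀ c, c < 8 → ∀ x ∈ W c, x < 8 := by decide

theorem W_rev : W 1 = (W 0).reverse ∧ W 3 = (W 2).reverse ∧ W 5 = (W 4).reverse ∧
    W 7 = (W 6).reverse := by decide

theorem letW_lt : ∀ c, c < 8 → ∀ x ∈ letW c, x < 8 := by decide

theorem lval_g : ∀ c, c < 8 → lval g c = ev 8 R8 (W c) := by
  intro c hc
  obtain ⟨h1, h3, h5, h7⟩ := W_rev
  interval_cases c
  · rfl
  · rw [h1, ev_reverse invol8]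
    rfl
  · rfl
  · rw [h3, ev_reverse invol8]
    rfl
  · rfl
  · rw [h5, ev_reverse invol8]
    rfl
  · rfl
  · rw [h7, ev_reverse invol8]
    rfl

theorem flat_lt (l : List ℕ) (hl : ∀ c ∈ l, c < 8) : ∀ x ∈ l.flatMap W, x < 8 := by
  intro x hx
  obtain ⟨c, hc, hxc⟩ := List.mem_flatMap.mp hx
  exact W_lt c (hl c hc) x hxc

theorem word_ev : ∀ l : List ℕ, (∀ c ∈ l, c < 8) →
    (l.map (lval g)).prod = ev 8 R8 (l.flatMap W)
  | [], _ => by
    rw [List.map_nil, List.prod_nil, List.flatMap_nil, ev_nil]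
  | c :: l, h => by
    rw [List.map_cons, List.prod_cons, word_ev l (fun c hc => h c (List.mem_cons_of_mem _ hc)),
      lval_g c (h c List.mem_cons_self), List.flatMap_cons, ev_append]

/-- the action of the eight letters on the 364 points. -/
def tabF (c v : ℕ) : ℕ := pLook 682 (tabB c) v

set_option maxRecDepth 1000000 in
theorem tab_agree0 : agreeRangeF FiXBTC.ctF (W 0) (tabF 0) 364 0 = true := by decide +kernel

set_option maxRecDepth 1000000 in
theorem tab_agree1 : agreeRangeF FiXBTC.ctF (W 1) (tabF 1) 364 0 = true := by decide +kernel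

set_option maxRecDepth 1000000 in
theorem tab_agree2 : agreeRangeF FiXBTC.ctF (W 2) (tabF 2) 364 0 = true := by decide +kernel

set_option maxRecDepth 1000000 in
theorem tab_agree3 : agreeRangeF FiXBTC.ctF (W 3) (tabF 3) 364 0 = true := by decide +kernel

set_option maxRecDepth 1000000 in
theorem tab_agree4 : agreeRangeF FiXBTC.ctF (W 4) (tabF 4) 364 0 = true := by decide +kernel

set_option maxRecDepth 1000000 in
theorem tab_agree5 : agreeRangeF FiXBTC.ctF (W 5) (tabF 5) 364 0 = true := by decide +kernel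

set_option maxRecDepth 1000000 in
theorem tab_agree6 : agreeRangeF FiXBTC.ctF (W 6) (tabF 6) 364 0 = true := by decide +kernel

set_option maxRecDepth 1000000 in
theorem tab_agree7 : agreeRangeF FiXBTC.ctF (W 7) (tabF 7) 364 0 = true := by decide +kernel

theorem tab_agree : ∀ c, c < 8 → agreeRangeF FiXBTC.ctF (W c) (tabF c) 364 0 = true := by
  intro c hc
  interval_cases c
  · exact tab_agree0
  · exact tab_agree1
  · exact tab_agree2
  · exact tab_agree3
  · exact tab_agree4
  · exact tab_agree5
  · exact tab_agree6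
  · exact tab_agree7

theorem tabF_eq (c : ℕ) (hc : c < 8) (v : ℕ) (hv : v < 364) :
    tabF c v = actL FiXBTC.ctF (W c) v :=
  agreeRangeF_spec _ _ _ 364 0 (tab_agree c hc) v (Nat.zero_le _) (by omega)

theorem rho_lval (c : ℕ) (hc : c < 8) (v : Fin 364) :
    (rho (lval g c) v).val = tabF c v.val := by
  rw [lval_g c hc, hA8.act (W c) (W_lt c hc) v, tabF_eq c hc v.val v.isLt]

theorem rho_word : ∀ l : List ℕ, (∀ c ∈ l, c < 8) → ∀ v : Fin 364,
    (rho ((l.map (lval g)).prod) v).val = actL tabF l v.val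
  | [], _, v => by
    rw [List.map_nil, List.prod_nil, map_one]
    rfl
  | c :: l, h, v => by
    rw [List.map_cons, List.prod_cons, map_mul, Equiv.Perm.mul_apply,
      rho_lval c (h c List.mem_cons_self),
      rho_word l (fun c hc => h c (List.mem_cons_of_mem _ hc)) v]
    rfl

theorem word_eq_one (l : List ℕ) (hl : ∀ c ∈ l, c < 8)
    (h : fixRangeF tabF l 364 0 = true) : (l.map (lval g)).prod = 1 := by
  apply rho_inj
  ext v
  rw [rho_word l hl v, map_one,
    fixRange_spec _ _ 364 0 (fixRange_of_F h) v.val (Nat.zero_le _) (by have := v.isLt; omega)]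
  rfl

theorem CL_lt : ∀ r ∈ CL, ∀ c ∈ r, c < 2 * 3 := by decide

theorem EX_lt : ∀ r ∈ EX, ∀ c ∈ r, c < 2 * 4 := by decide

theorem CC_lt : ∀ r ∈ CC, ∀ c ∈ r, c < 2 * 4 := by decide

set_option maxRecDepth 1000000 in
theorem chk_rels : ∀ r ∈ CC, fixRangeF tabF r 364 0 = true := by
  decide +kernel

theorem CC_rel : ∀ r ∈ CC, (r.map (lval g)).prod = 1 := fun r hr =>
  word_eq_one r (CC_lt r hr) (chk_rels r hr)

set_option maxRecDepth 1000000 in
theorem chk_pow : fixRangeF tabF (List.replicate 7 0) 364 0 = true ∧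
    fixRangeF tabF (List.replicate 7 2) 364 0 = true ∧
    fixRangeF tabF (List.replicate 13 4) 364 0 = true ∧
    fixRangeF tabF (List.replicate 13 6) 364 0 = true := by decide +kernel

theorem pow_eq_one {i n : ℕ} (hi : i < 4)
    (h : fixRangeF tabF (List.replicate n (2 * i)) 364 0 = true) :
    g i ^ n = 1 := by
  have h1 : ((List.replicate n (2 * i)).map (lval g)).prod = 1 := by
    apply word_eq_one _ _ h
    intro c hc
    rw [List.eq_of_mem_replicate hc]
    omega
  rwa [List.map_replicate, List.prod_replicate, lval_even] at h1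

theorem g_pow : ∀ i, i < 4 → g i ^ mm i = 1 := by
  intro i hi
  interval_cases i
  · exact pow_eq_one (by norm_num) chk_pow.1
  · exact pow_eq_one (by norm_num) chk_pow.2.1
  · exact pow_eq_one (by norm_num) chk_pow.2.2.1
  · exact pow_eq_one (by norm_num) chk_pow.2.2.2

/-! ### generation -/

theorem word_mem (l : List ℕ) (hl : ∀ c ∈ l, c < 8) :
    (l.map (lval g)).prod ∈ Subgroup.closure {y : P | ∃ i, i < 4 ∧ y = g i} := by
  apply Subgroup.list_prod_mem
  intro y hy
  obtain ⟨c, hc, rfl⟩ := List.mem_map.mp hy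
  have hi : c / 2 < 4 := by have := hl c hc; omega
  unfold lval
  split_ifs
  · exact Subgroup.subset_closure ⟨c / 2, hi, rfl⟩
  · exact inv_mem (Subgroup.subset_closure ⟨c / 2, hi, rfl⟩)

set_option maxRecDepth 1000000 in
theorem chk_let : ∀ c, c < 8 →
    agreeRangeF tabF (letW c) (FiXBTC.ctF c) 364 0 = true := by decide +kernel

theorem letter_eq (c : ℕ) (hc : c < 8) : ev 8 R8 [c] = ((letW c).map (lval g)).prod := by
  apply rho_inj
  ext v
  rw [rho_word _ (letW_lt c hc) v, hA8.act [c] (by
    intro x hx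
    rw [List.mem_singleton] at hx
    omega) v,
    ← agreeRangeF_spec _ _ _ 364 0 (chk_let c hc) v.val (Nat.zero_le _) (by have := v.isLt; omega)]
  rfl

/-- the four generators generate the group. -/
theorem g_closure : Subgroup.closure {y : P | ∃ i, i < 4 ∧ y = g i} = ⊤ := by
  rw [eq_top_iff, ← closure_gens (k := 8) (R := R8), Subgroup.closure_le]
  rintro x ⟨c, hc, rfl⟩
  rw [letter_eq c hc]
  exact word_mem _ (letW_lt c hc)

end Cfsg.Agent.Helper4.O73M
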