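import Cfsg.Agent.Helper4.O73LXJu0
import Cfsg.Agent.Helper4.O73LXJu1
import Cfsg.Agent.Helper4.O73LXJu2
import Cfsg.Agent.Helper4.O73LXJu3
import Cfsg.Agent.Helper4.O73LXJu4
import Cfsg.Agent.Helper4.O73LXJu5
import Cfsg.Agent.Helper4.O73LXJu6
import Cfsg.Agent.Helper4.O73LXJu7
import Cfsg.Agent.Helper4.O73LXJu8
import Cfsg.Agent.Helper4.O73LXJu9
import Cfsg.Agent.Helper4.O73LXJu10
import Cfsg.Agent.Helper4.O73LXJu11
import Cfsg.Agent.Helper4.O73LXJu12
import Cfsg.Agent.Helper4.O73LXJu13
import Cfsg.Agent.Helper4.O73LXTb0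

/-! generated labelled Todd-Coxeter certificate, summary: O73LX -/

set_option autoImplicit false
set_option maxRecDepth 1000000

namespace Cfsg.Agent.Helper4.O73LX
open Cfsg.Agent.Helper5.LTC

theorem upto_0 : ∀ j, j < 0 → ∃ r, checkFact cert j r = true := fun j hj => absurd hj (by omega)

theorem upto_1 : ∀ j, j < 1500 → ∃ r, checkFact cert j r = true :=
  upto_step cert upto_0 ju_0 1500 len_0 chk_0

theorem upto_2 : ∀ j, j < 3000 → ∃ r, checkFact cert j r = true :=
  upto_step cert upto_1 ju_1 1500 len_1 chk_1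

theorem upto_3 : ∀ j, j < 4500 → ∃ r, checkFact cert j r = true :=
  upto_step cert upto_2 ju_2 1500 len_2 chk_2

theorem upto_4 : ∀ j, j < 6000 → ∃ r, checkFact cert j r = true :=
  upto_step cert upto_3 ju_3 1500 len_3 chk_3

theorem upto_5 : ∀ j, j < 7500 → ∃ r, checkFact cert j r = true :=
  upto_step cert upto_4 ju_4 1500 len_4 chk_4

theorem upto_6 : ∀ j, j < 9000 → ∃ r, checkFact cert j r = true :=
  upto_step cert upto_5 ju_5 1500 len_5 chk_5

theorem upto_7 : ∀ j, j < 10500 → ∃ r, checkFact cert j r = true :=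
  upto_step cert upto_6 ju_6 1500 len_6 chk_6

theorem upto_8 : ∀ j, j < 12000 → ∃ r, checkFact cert j r = true :=
  upto_step cert upto_7 ju_7 1500 len_7 chk_7

theorem upto_9 : ∀ j, j < 13500 → ∃ r, checkFact cert j r = true :=
  upto_step cert upto_8 ju_8 1500 len_8 chk_8

theorem upto_10 : ∀ j, j < 15000 → ∃ r, checkFact cert j r = true :=
  upto_step cert upto_9 ju_9 1500 len_9 chk_9

theorem upto_11 : ∀ j, j < 16500 → ∃ r, checkFact cert j r = true :=
  upto_step cert upto_10 ju_10 1500 len_10 chk_10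

theorem upto_12 : ∀ j, j < 18000 → ∃ r, checkFact cert j r = true :=
  upto_step cert upto_11 ju_11 1500 len_11 chk_11

theorem upto_13 : ∀ j, j < 19500 → ∃ r, checkFact cert j r = true :=
  upto_step cert upto_12 ju_12 1500 len_12 chk_12

theorem upto_14 : ∀ j, j < 20007 → ∃ r, checkFact cert j r = true :=
  upto_step cert upto_13 ju_13 507 len_13 chk_13

theorem hchk : ∀ j, j < cert.nf → ∃ r, checkFact cert j r = true := upto_14

theorem rowsto_0 : ∀ n, n < 0 → ∀ x, x < cert.k → tabEntryOK cert tab n x = true :=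
  fun n hn => absurd hn (by omega)

theorem rowsto_1 : ∀ n, n < 1080 → ∀ x, x < cert.k → tabEntryOK cert tab n x = true :=
  rows_step cert tab rowsto_0 1080 rows_0

theorem hT : ∀ n, n < tab.N → ∀ x, x < cert.k → tabEntryOK cert tab n x = true := rowsto_1

theorem hjs : ∀ j ∈ js, relFactOK cert j = true := by decide +kernel

theorem h0 : ordOK cert js cs0 3 2 = true := by decide +kernel

theorem hgs : ∀ i, i < 8 → genOK cert js (css.getD i []) i 3 (as_.getD i 0) = true := by decide +kernel

end Cfsg.Agent.Helper4.O73LX
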