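import Mathlib
import Cfsg.Agent.Helper4.O73MDat
import Cfsg.Agent.Helper4.Tower
import Cfsg.Agent.Helper4.O73LXSum
import Cfsg.Agent.Helper5.G23CovB

/-!
# The covering group of exponent 36 of `O₇(3)`: the order bound

The covering group of exponent 36 of `G₂(3)` has order at most `3 * 4245696` (`Helper5.G23`); a
labelled Todd–Coxeter certificate over its image (1080 cosets, label group of order 2) bounds the
order of the covering group of `O₇(3)` on the generators `a, b, c, x` by `6 * 4585351680`.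
-/

set_option autoImplicit false

namespace Cfsg.Agent.Helper4.O73M

open Cfsg Cfsg.Agent.Helper5.StemP Cfsg.Agent.Helper5.LP Cfsg.Agent.Helper5.LTC
  Cfsg.Agent.Helper5.TC Cfsg.Agent.Helper5.TCI

theorem CL_lt' : ∀ r ∈ CL, ∀ c ∈ r, c < 2 * 3 := by decide

theorem EX_lt' : ∀ r ∈ EX, ∀ c ∈ r, c < 2 * 4 := by decide

theorem coverRels_eq : coverRels 3 mm CL CL 36 =
    coverRels 3 Cfsg.Agent.Helper5.G23.mm Cfsg.Agent.Helper5.G23.CC Cfsg.Agent.Helper5.G23.CC 36 := by
  unfold coverRels
  have h : ((List.range 3).flatMap fun i =>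
      [[2 * i, 2 * i + 1], [2 * i + 1, 2 * i], List.replicate (mm i) (2 * i)]) =
      ((List.range 3).flatMap fun i =>
      [[2 * i, 2 * i + 1], [2 * i + 1, 2 * i],
        List.replicate (Cfsg.Agent.Helper5.G23.mm i) (2 * i)]) := by decide
  rw [h]
  rfl

/-- the covering group of exponent 36 on the first 3 generators (`Helper5.G23`). -/
theorem card_G : Finite (CovG 3 mm CL CL 36) ∧ Nat.card (CovG 3 mm CL CL 36) ≤ 12737088 := by
  show Finite (LPG (2 * 3) (coverRels 3 mm CL CL 36)) ∧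
    Nat.card (LPG (2 * 3) (coverRels 3 mm CL CL 36)) ≤ 12737088
  rw [coverRels_eq]
  exact ⟨Cfsg.Agent.Helper5.G23.card_le_F.1, Cfsg.Agent.Helper5.G23.card_le_F.2.trans (by norm_num)⟩

theorem words_lt_X : ∀ wi, ∀ c ∈ O73LX.cert.W wi, c < 2 * 4 := by
  intro wi c hc
  have h : ∀ w ∈ O73LX.words, ∀ c ∈ w, c < 8 := by decide +kernel
  change c ∈ O73LX.words.getD wi [] at hc
  by_cases hwi : wi < O73LX.words.length
  · rw [List.getD_eq_getElem _ _ hwi] at hc
    exact h _ (List.getElem_mem hwi) c hc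
  · rw [List.getD_eq_default _ _ (by omega)] at hc
    simp at hc

set_option maxRecDepth 1000000 in
theorem wordOK_X : ∀ wi, wi < O73LX.cert.nrel →
    wordOK2 (coverRels 4 mm (EX ++ CL) (EX ++ CL) 36) (EX ++ CL) EX.length (O73LX.cert.W wi)
      (O73LX.cert.δ wi) (O73LX.origs.getD wi 0) = true := by decide +kernel

theorem hsubW_X : ∀ wi, O73LX.cert.nrel ≤ wi → wi < O73LX.cert.nw →
    ∃ c, c < 2 * 3 ∧ O73LX.cert.W wi = [c] := by
  intro wi h1 h2
  have h1' : 179 ≤ wi := h1
  have h2' : wi < 182 := h2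
  interval_cases wi
  · exact ⟨0, by norm_num, by decide +kernel⟩
  · exact ⟨2, by norm_num, by decide +kernel⟩
  · exact ⟨4, by norm_num, by decide +kernel⟩

/-- the covering group of exponent 36 on the 4 generators. -/
theorem card_X : Finite (CovG 4 mm CC CC 36) ∧ Nat.card (CovG 4 mm CC CC 36) ≤ 27512110080 := by
  have h := Tower.step 3 4 mm CL EX 36 (by norm_num) CL_lt' EX_lt' (by norm_num) (by decide)
    12737088 card_G O73LX.cert rfl rfl rfl words_lt_X
    (fun wi => O73LX.origs.getD wi 0) wordOK_X hsubW_X O73LX.hchk O73LX.tab (by decide +kernel)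
    (by decide) O73LX.hT O73LX.js O73LX.hjs 3 2 (by norm_num) (by norm_num) O73LX.cs0 O73LX.h0
    (fun i => O73LX.as_.getD i 0) (fun i => O73LX.css.getD i []) O73LX.hgs
  have hN : O73LX.tab.N = 1080 := rfl
  rw [hN] at h
  exact ⟨h.1, h.2.trans (by decide)⟩

end Cfsg.Agent.Helper4.O73M
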