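import Mathlib
import Cfsg.Agent.Helper4.O73MGen
import Cfsg.Agent.Helper4.O73MTow
import Cfsg.Agent.Helper4.O73MASum
import Cfsg.Agent.Helper4.O73MBSum
import Cfsg.Agent.Helper4.ShiftModel
import Cfsg.Agent.Helper4.StemX
import Cfsg.Agent.Helper5.LPE
import Cfsg.Agent.Helper5.StemPL
import Cfsg.Agent.Helper5.StemPH
import Cfsg.Agent.Helper5.StemPM
import Cfsg.Agent.Helper5.StemPK
import Cfsg.Agent.Helper5.StemPI

/-!
# The Schur multiplier of `O₇(3)` is cyclic of order 6

The covering group of exponent 36 of the presentation on `a, b, c, x` has order at most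
`6 * |O₇(3)|` (`O73MTow`); it acts on 2160 points (cosets of `G₂(3)`, doubled) and on 2268 points
(cosets of `L₄(3)`, tripled), where a central word acts as a shift of order 2 and 3: the kernel is
cyclic of order 6, and it bounds the kernel of every stem extension.
-/

set_option autoImplicit false

namespace Cfsg.Agent.Helper4.O73M

open Cfsg Cfsg.Agent.Helper5.StemP Cfsg.Agent.Helper5.LP Cfsg.Agent.Helper5.LTC
  Cfsg.Agent.Helper5.TC Cfsg.Agent.Helper5.TCI Cfsg.Agent.Helper4.ShM Cfsg.Agent.Helper4.StemX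

theorem CC2_lt : ∀ r ∈ CC ++ CC, ∀ c ∈ r, c < 2 * 4 := by
  intro r hr
  rcases List.mem_append.mp hr with h | h <;> exact CC_lt r h

theorem CC2_rel : ∀ r ∈ CC ++ CC, (r.map (lval g)).prod = 1 := by
  intro r hr
  rcases List.mem_append.mp hr with h | h <;> exact CC_rel r h

/-- the covering homomorphism of exponent 36. -/
noncomputable def piF : CovG 4 mm CC CC 36 →* P :=
  coverHomU 4 mm CC CC 36 CC2_lt g g_pow CC2_rel

theorem piF_surj : Function.Surjective piF :=
  coverHomU_surjective 4 mm CC CC 36 CC2_lt g g_pow CC2_rel g_closure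

instance fin_F : Finite (CovG 4 mm CC CC 36) := card_X.1

/-! ### the two models -/

theorem cwA_eq : O73MA.cw = CC := by decide

theorem cwB_eq : O73MB.cw = CC := by decide

theorem modelA : ∃ ρ : CovG 4 mm CC CC 36 →* Equiv.Perm (Fin 2160),
    ActsOn ρ (ev (2 * 4) (coverRels 4 mm CC CC 36)) (2 * 4) O73MA.mT := by
  refine exists_model 4 mm CC 36 2160 O73MA.mT O73MA.tableOK CC_lt O73MA.hcomm ?_ ?_ 2
    O73MA.hsh (by norm_num)
  · intro r hr
    exact O73MA.hcent r (by rw [cwA_eq]; exact hr)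
  · intro i hi
    have h := O73MA.hpow i hi
    interval_cases i <;> exact h

theorem modelB : ∃ ρ : CovG 4 mm CC CC 36 →* Equiv.Perm (Fin 2268),
    ActsOn ρ (ev (2 * 4) (coverRels 4 mm CC CC 36)) (2 * 4) O73MB.mT := by
  refine exists_model 4 mm CC 36 2268 O73MB.mT O73MB.tableOK CC_lt O73MB.hcomm ?_ ?_ 3
    O73MB.hsh (by norm_num)
  · intro r hr
    exact O73MB.hcent r (by rw [cwB_eq]; exact hr)
  · intro i hi
    have h := O73MB.hpow i hi
    interval_cases i <;> exact h

/-- the first central word (order 2 in the covering group). -/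
def zw2 : List ℕ := EX.getD 3 []

/-- the second central word (order 3 in the covering group). -/
def zw3 : List ℕ := EX.getD 0 []

/-- the word of a central element of order 6. -/
def zw : List ℕ := zw2 ++ zw3

theorem zw2_mem : zw2 ∈ CC := by decide

theorem zw3_mem : zw3 ∈ CC := by decide

theorem zw_lt : ∀ c ∈ zw, c < 2 * 4 := by
  intro c hc
  rcases List.mem_append.mp hc with h | h
  · exact CC_lt zw2 zw2_mem c h
  · exact CC_lt zw3 zw3_mem c h

set_option maxRecDepth 1000000 in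
theorem moveA : actL O73MA.mT zw 0 ≠ 0 ∧ actL O73MA.mT (List.replicate 3 zw).flatten 0 ≠ 0 ∧
    actL O73MA.mT (List.replicate 5 zw).flatten 0 ≠ 0 := by decide +kernel

set_option maxRecDepth 1000000 in
theorem moveB : actL O73MB.mT (List.replicate 2 zw).flatten 0 ≠ 0 ∧
    actL O73MB.mT (List.replicate 4 zw).flatten 0 ≠ 0 := by decide +kernel

/-- the central element of order 6. -/
noncomputable def z0 : CovG 4 mm CC CC 36 := ev (2 * 4) (coverRels 4 mm CC CC 36) zw

theorem rep_lt (k : ℕ) : ∀ c ∈ (List.replicate k zw).flatten, c < 2 * 4 := by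
  intro c hc
  obtain ⟨l, hl, hcl⟩ := List.mem_flatten.mp hc
  rw [List.eq_of_mem_replicate hl] at hcl
  exact zw_lt c hcl

theorem z0_pow_ne : z0 ^ 1 ≠ 1 ∧ z0 ^ 2 ≠ 1 ∧ z0 ^ 3 ≠ 1 ∧ z0 ^ 4 ≠ 1 ∧ z0 ^ 5 ≠ 1 := by
  obtain ⟨ρ2, hA2⟩ := modelA
  obtain ⟨ρ3, hA3⟩ := modelB
  unfold z0
  refine ⟨?_, ?_, ?_, ?_, ?_⟩
  · rw [pow_one]
    exact ne_one_of_move hA2 _ zw_lt 0 (by norm_num) moveA.1
  · rw [ev_pow]
    exact ne_one_of_move hA3 _ (rep_lt 2) 0 (by norm_num) moveB.1
  · rw [ev_pow]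
    exact ne_one_of_move hA2 _ (rep_lt 3) 0 (by norm_num) moveA.2.1
  · rw [ev_pow]
    exact ne_one_of_move hA3 _ (rep_lt 4) 0 (by norm_num) moveB.2
  · rw [ev_pow]
    exact ne_one_of_move hA2 _ (rep_lt 5) 0 (by norm_num) moveA.2.2

theorem z0_eq : z0 = ev (2 * 4) (coverRels 4 mm CC CC 36) zw2 *
    ev (2 * 4) (coverRels 4 mm CC CC 36) zw3 := by
  unfold z0 zw
  rw [ev_append]

theorem z0_center : z0 ∈ Subgroup.center (CovG 4 mm CC CC 36) := by
  rw [z0_eq]
  exact Subgroup.mul_mem _ (cover_center 4 mm CC CC 36 zw2_mem (CC_lt zw2 zw2_mem))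
    (cover_center 4 mm CC CC 36 zw3_mem (CC_lt zw3 zw3_mem))

theorem z0_ker : z0 ∈ piF.ker := by
  rw [z0_eq]
  exact Subgroup.mul_mem _ (coverHomU_ker 4 mm CC CC 36 CC2_lt g g_pow CC2_rel zw2_mem)
    (coverHomU_ker 4 mm CC CC 36 CC2_lt g g_pow CC2_rel zw3_mem)

theorem card_ker_le : Nat.card piF.ker ≤ 6 := by
  have hmul := card_eq_card_mul_ker piF piF_surj
  have h := card_X.2
  rw [hmul, card_P] at h
  have h6 : (27512110080 : ℕ) = 4585351680 * 6 := by norm_num
  rw [h6] at h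
  exact Nat.le_of_mul_le_mul_left h (by norm_num)

theorem order_z0 : orderOf z0 = 6 := by
  have hdk : orderOf z0 ∣ Nat.card piF.ker := by
    rw [← Subgroup.orderOf_mk z0 z0_ker]
    exact orderOf_dvd_natCard _
  have hle : orderOf z0 ≤ 6 := (Nat.le_of_dvd Nat.card_pos hdk).trans card_ker_le
  have hpos : 0 < orderOf z0 := orderOf_pos z0
  have hpow := pow_orderOf_eq_one z0
  obtain ⟨h1, h2, h3, h4, h5⟩ := z0_pow_ne
  interval_cases h : orderOf z0
  · exact absurd hpow h1
  · exact absurd hpow h2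
  · exact absurd hpow h3
  · exact absurd hpow h4
  · exact absurd hpow h5
  · rfl

theorem card_ker : Nat.card piF.ker = 6 := by
  have hdk : orderOf z0 ∣ Nat.card piF.ker := by
    rw [← Subgroup.orderOf_mk z0 z0_ker]
    exact orderOf_dvd_natCard _
  rw [order_z0] at hdk
  exact le_antisymm card_ker_le (Nat.le_of_dvd Nat.card_pos hdk)

theorem card_F : Nat.card (CovG 4 mm CC CC 36) = Nat.card P * 6 := by
  rw [card_eq_card_mul_ker piF piF_surj, card_ker]

theorem mm_dvd91 : ∀ i, mm i ∣ 91 := by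
  intro i
  unfold mm
  split_ifs <;> decide

theorem cgen_pow91 : ∀ x ∈ {x : CovG 4 mm CC CC 36 | ∃ i, i < 4 ∧ x = cgen 4 mm CC CC 36 i},
    x ^ 91 = 1 := by
  rintro x ⟨i, hi, rfl⟩
  obtain ⟨c, hc⟩ := mm_dvd91 i
  rw [hc, pow_mul, cgen_pow 4 mm CC CC 36 (i := i) hi, one_pow]

theorem stem_F : Cfsg.IsStemExtension piF ∧
    Nonempty (piF.ker ≃* Multiplicative (ZMod 6)) := by
  refine stem_cyclic piF piF_surj 6 (by norm_num) (by rw [card_F]) z0 z0_center z0_ker ?_
    _ (closure_cgen 4 mm CC CC 36) 91 cgen_pow91 (by decide)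
  intro p hp hpd
  obtain ⟨h1, h2, h3, h4, h5⟩ := z0_pow_ne
  have hp6 : p ≤ 6 := Nat.le_of_dvd (by norm_num) hpd
  interval_cases p
  · exact absurd hp (by decide)
  · exact absurd hp (by decide)
  · exact h3
  · exact h2
  · exact absurd hpd (by decide)
  · exact absurd hpd (by decide)
  · exact absurd hp (by decide)

/-! ### the bound for the stem extensions -/

theorem mm_cop (s : ℕ) (hs : Nat.Coprime 7 s ∧ Nat.Coprime 13 s) :
    ∀ i, i < 4 → g i ^ mm i = 1 ∧ (mm i).Coprime s := by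
  intro i hi
  refine ⟨g_pow i hi, ?_⟩
  unfold mm
  split_ifs
  · exact hs.1
  · exact hs.2

/-- a group of order dividing 6 all of whose elements are killed by a power of 2 has order at
most 2. -/
theorem card_le_two_of_dvd_six {H : Type*} [Group H] [Finite H] (h6 : Nat.card H ∣ 6) (s : ℕ)
    (hs : ∀ y : H, y ^ 2 ^ s = 1) : Nat.card H ≤ 2 := by
  by_contra hgt
  rw [not_le] at hgt
  have h3 : 3 ∣ Nat.card H := by
    have hle : Nat.card H ≤ 6 := Nat.le_of_dvd (by norm_num) h6
    interval_cases hc : Nat.card H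
    · exact dvd_refl 3
    · exact absurd h6 (by decide)
    · exact absurd h6 (by decide)
    · exact ⟨2, rfl⟩
  have : Fact (Nat.Prime 3) := ⟨Nat.prime_three⟩
  obtain ⟨x, hx⟩ := exists_prime_orderOf_dvd_card' 3 h3
  have hd : orderOf x ∣ 2 ^ s := orderOf_dvd_of_pow_eq_one (hs x)
  rw [hx] at hd
  have := (Nat.Prime.dvd_of_dvd_pow Nat.prime_three hd)
  exact absurd this (by decide)

/-- a group of order dividing 6 all of whose elements are killed by a power of 3 has order at
most 3. -/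
theorem card_le_three_of_dvd_six {H : Type*} [Group H] [Finite H] (h6 : Nat.card H ∣ 6) (s : ℕ)
    (hs : ∀ y : H, y ^ 3 ^ s = 1) : Nat.card H ≤ 3 := by
  by_contra hgt
  rw [not_le] at hgt
  have h2 : 2 ∣ Nat.card H := by
    have hle : Nat.card H ≤ 6 := Nat.le_of_dvd (by norm_num) h6
    interval_cases hc : Nat.card H
    · exact absurd h6 (by decide)
    · exact absurd h6 (by decide)
    · exact ⟨3, rfl⟩
  have : Fact (Nat.Prime 2) := ⟨Nat.prime_two⟩
  obtain ⟨x, hx⟩ := exists_prime_orderOf_dvd_card' 2 h2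
  have hd : orderOf x ∣ 3 ^ s := orderOf_dvd_of_pow_eq_one (hs x)
  rw [hx] at hd
  have := (Nat.Prime.dvd_of_dvd_pow Nat.prime_two hd)
  exact absurd this (by decide)

theorem bound (Γ : Type) [Group Γ] [Finite Γ] (σ : Γ →* P)
    (hσ : Cfsg.IsStemExtension σ) : Nat.card σ.ker ≤ 6 := by
  have hc := hσ.2.1
  have : Finite (LPG (2 * 4) (coverRels 4 mm CC CC 36)) := card_X.1
  have hcard : Nat.card (LPG (2 * 4) (coverRels 4 mm CC CC 36)) ∣ Nat.card P * 6 := by
    show Nat.card (CovG 4 mm CC CC 36) ∣ _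
    rw [card_F]
  have h2 : Nat.card (qmap σ hc 8955765).ker ∣ 6 :=
    card_qmap_ker_dvd_of_pow_dvd σ hσ hc 2 Nat.prime_two 9 2 8955765 36 (by norm_num)
      (by rw [card_P]; norm_num)
      4 mm CC CC CC2_lt g g_closure (mm_cop _ (by decide)) CC2_rel 6 hcard (by decide)
  have h3 : Nat.card (qmap σ hc 232960).ker ∣ 6 :=
    card_qmap_ker_dvd_of_pow_dvd σ hσ hc 3 Nat.prime_three 9 2 232960 36 (by norm_num)
      (by rw [card_P]; norm_num)
      4 mm CC CC CC2_lt g g_closure (mm_cop _ (by decide)) CC2_rel 6 hcard (by decide)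
  have h2' : Nat.card (qmap σ hc 8955765).ker ≤ 2 := by
    apply card_le_two_of_dvd_six h2 9
    intro y
    have := qmap_ker_pow σ hσ hc (s := 2 ^ 9) (t := 8955765) (by rw [card_P]; norm_num) y.1 y.2
    exact Subtype.ext this
  have h3' : Nat.card (qmap σ hc 232960).ker ≤ 3 := by
    apply card_le_three_of_dvd_six h3 9
    intro y
    have := qmap_ker_pow σ hσ hc (s := 3 ^ 9) (t := 232960) (by rw [card_P]; norm_num) y.1 y.2
    exact Subtype.ext this
  have h7 : ∀ z ∈ σ.ker, z ^ Nat.gcd 8955765 232960 = 1 → z = 1 := by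
    intro z hz hz1
    have e455 : Nat.gcd 8955765 232960 = 5 * (7 * 13) := by decide
    rw [e455] at hz1
    refine eq_one_of_pow_eq_one σ hσ (5 * (7 * 13)) ?_ z hz hz1
    intro q hq hqd
    rw [card_P]
    rcases (Nat.Prime.dvd_mul hq).mp hqd with h | h
    · rw [(Nat.prime_dvd_prime_iff_eq hq (by norm_num)).mp h]
      decide
    · rcases (Nat.Prime.dvd_mul hq).mp h with h | h
      · rw [(Nat.prime_dvd_prime_iff_eq hq (by norm_num)).mp h]
        decide
      · rw [(Nat.prime_dvd_prime_iff_eq hq (by norm_num)).mp h]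
        decide
  have h8 := card_ker_le_mul σ hc 8955765 232960 h7
  calc Nat.card σ.ker ≤ Nat.card (qmap σ hc 8955765).ker *
        Nat.card (qmap σ hc 232960).ker := h8
    _ ≤ 2 * 3 := Nat.mul_le_mul h2' h3'
    _ = 6 := by norm_num

theorem main : Cfsg.HasCyclicSchurMultiplier P 6 := by
  have c6 : Nat.card (Multiplicative (ZMod 6)) = 6 := by
    change Nat.card (ZMod 6) = 6
    rw [Nat.card_zmod]
  apply hasSchurMultiplier_of_exists_of_card_le
  · exact ⟨CovG 4 mm CC CC 36, inferInstance, card_X.1, piF, stem_F.1, stem_F.2⟩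
  · intro Γ _ _ σ hσ
    rw [c6]
    exact bound Γ σ hσ

end Cfsg.Agent.Helper4.O73M
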