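import Mathlib
import Cfsg.Agent.Helper4.F22RTow
import Cfsg.Agent.Helper4.O73MCov
import Cfsg.Agent.Helper4.EvenGen
import Cfsg.Agent.Helper4.CovFin

/-!
# `O₇(3)` on seven elements of order 3, and its covering group of exponent 4

In the group `P = LPG 8 R8` (`Helper5.O73LP`, acting on 364 points): the elements
`r_e = s_i s_j` for seven edges of the Coxeter tree, their relators (`F22RDef`), generation; the
covering group of exponent 4 on these generators has order dividing `2 * |O₇(3)|`.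
-/

set_option autoImplicit false

namespace Cfsg.Agent.Helper4.F22R

open Cfsg Cfsg.Agent.Helper5.LP Cfsg.Agent.Helper5.StemP Cfsg.Agent.Helper5.TC Cfsg.Agent.Helper5.TCI
open Cfsg.Agent.Helper5.O73LP (R8 lettersA)
open Cfsg.Agent.Helper5
open Cfsg.Agent.Helper4.O73M (P rho hA8 rho_inj invol8 card_P)

/-- the letters `r_1, r_1⁻¹, …, r_8, r_8⁻¹` as words in the nine involutions. -/
def W : ℕ → List ℕ
  | 0 => [2, 1]
  | 1 => [1, 2]
  | 2 => [2, 3]
  | 3 => [3, 2]
  | 4 => [2, 4]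
  | 5 => [4, 2]
  | 6 => [3, 6]
  | 7 => [6, 3]
  | 8 => [4, 5]
  | 9 => [5, 4]
  | 10 => [6, 7]
  | 11 => [7, 6]
  | 12 => [1, 0]
  | 13 => [0, 1]
  | 14 => [0, 8]
  | 15 => [8, 0]
  | _ => []

theorem W_odd : ∀ i, i < 8 → W (2 * i + 1) = (W (2 * i)).reverse := by decide

theorem W_lt8 : ∀ c, c < 14 → ∀ x ∈ W c, x < 8 := by decide

/-- the generators of `O₇(3)`. -/
noncomputable def gK (i : ℕ) : P := ev 8 R8 (W (2 * i))

theorem lval_gK : ∀ c, c < 14 → lval gK c = ev 8 R8 (W c) := by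
  intro c hc
  obtain ⟨i, rfl | rfl⟩ : ∃ i, c = 2 * i ∨ c = 2 * i + 1 := ⟨c / 2, by omega⟩
  · rw [lval_even]
    rfl
  · rw [lval_odd, W_odd i (by omega), ev_reverse invol8]
    rfl

theorem wordK_ev : ∀ l : List ℕ, (∀ c ∈ l, c < 14) →
    (l.map (lval gK)).prod = ev 8 R8 (l.flatMap W)
  | [], _ => by
    rw [List.map_nil, List.prod_nil, List.flatMap_nil, ev_nil]
  | c :: l, h => by
    rw [List.map_cons, List.prod_cons, wordK_ev l (fun c hc => h c (List.mem_cons_of_mem _ hc)),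
      lval_gK c (h c List.mem_cons_self), List.flatMap_cons, ev_append]

/-- the action of the letters on the 364 points. -/
def tabK (c v : ℕ) : ℕ := actLF FiXBTC.ctF (W c) v

theorem rho_lvalK (c : ℕ) (hc : c < 14) (v : Fin 364) :
    (rho (lval gK c) v).val = tabK c v.val := by
  rw [lval_gK c hc, hA8.act (W c) (W_lt8 c hc) v]
  unfold tabK
  rw [actLF_eq]

theorem rho_wordK : ∀ l : List ℕ, (∀ c ∈ l, c < 14) → ∀ v : Fin 364,
    (rho ((l.map (lval gK)).prod) v).val = actL tabK l v.val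
  | [], _, v => by
    rw [List.map_nil, List.prod_nil, map_one]
    rfl
  | c :: l, h, v => by
    rw [List.map_cons, List.prod_cons, map_mul, Equiv.Perm.mul_apply,
      rho_lvalK c (h c List.mem_cons_self),
      rho_wordK l (fun c hc => h c (List.mem_cons_of_mem _ hc)) v]
    rfl

theorem wordK_eq_one (l : List ℕ) (hl : ∀ c ∈ l, c < 14)
    (h : fixRangeF tabK l 364 0 = true) : (l.map (lval gK)).prod = 1 := by
  apply rho_inj
  ext v
  rw [rho_wordK l hl v, map_one,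
    fixRange_spec _ _ 364 0 (fixRange_of_F h) v.val (Nat.zero_le _) (by have := v.isLt; omega)]
  rfl

theorem CL7_lt : ∀ r ∈ CL7, ∀ c ∈ r, c < 2 * 7 := by decide

set_option maxRecDepth 1000000 in
theorem chk_relsK : ∀ r ∈ CL7, fixRangeF tabK r 364 0 = true := by decide +kernel

theorem CL7_rel : ∀ r ∈ CL7, (r.map (lval gK)).prod = 1 := fun r hr =>
  wordK_eq_one r (CL7_lt r hr) (chk_relsK r hr)

theorem CL7_lt2 : ∀ r ∈ CL7 ++ CL7, ∀ c ∈ r, c < 2 * 7 := by
  intro r hr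
  rcases List.mem_append.mp hr with h | h <;> exact CL7_lt r h

theorem CL7_rel2 : ∀ r ∈ CL7 ++ CL7, (r.map (lval gK)).prod = 1 := by
  intro r hr
  rcases List.mem_append.mp hr with h | h <;> exact CL7_rel r h

theorem gK_pow : ∀ i, i < 7 → gK i ^ m3 i = 1 := by
  intro i hi
  show ev 8 R8 (W (2 * i)) ^ 3 = 1
  have h : ∀ i, i < 7 → (W (2 * i) ++ W (2 * i) ++ W (2 * i)).rotate 1 ∈ R8 ∨
      (W (2 * i) ++ W (2 * i) ++ W (2 * i)) ∈ R8 := by decide +kernel
  have h3 : ev 8 R8 (W (2 * i) ++ W (2 * i) ++ W (2 * i)) = 1 := by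
    rcases h i hi with h | h
    · have hw : W (2 * i) = [(W (2 * i)).headD 0, (W (2 * i)).getD 1 0] := by
        interval_cases i <;> rfl
      generalize (W (2 * i)).headD 0 = a at hw
      generalize (W (2 * i)).getD 1 0 = b at hw
      rw [hw] at h ⊢
      have h1 : ev 8 R8 [b, a, b, a, b, a] = 1 := ev_rel h
      have e1 : ev 8 R8 ([a, b] ++ [a, b] ++ [a, b]) =
          ev 8 R8 [a] * ev 8 R8 [b, a, b, a, b, a] * ev 8 R8 [a] := by
        rw [show ([a, b] ++ [a, b] ++ [a, b] : List ℕ) = [a] ++ [b, a, b, a, b] from rfl,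
          show ([b, a, b, a, b, a] : List ℕ) = [b, a, b, a, b] ++ [a] from rfl, ev_append, ev_append,
          mul_assoc, mul_assoc, ev_sq invol8 a, mul_one]
      rw [e1, h1, mul_one, ev_sq invol8 a]
    · exact ev_rel h
  rw [pow_succ, pow_two, ← ev_append, ← ev_append]
  exact h3

/-- the seven generators generate the group. -/
theorem gK_closure : Subgroup.closure {y : P | ∃ i, i < 7 ∧ y = gK i} = ⊤ := by
  set H := Subgroup.closure {y : P | ∃ i, i < 7 ∧ y = gK i} with hH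
  have hg : ∀ i, i < 7 → ev 8 R8 (W (2 * i)) ∈ H := fun i hi =>
    Subgroup.subset_closure ⟨i, hi, rfl⟩
  have e21 : ev 8 R8 [2, 1] ∈ H := hg 0 (by norm_num)
  have e23 : ev 8 R8 [2, 3] ∈ H := hg 1 (by norm_num)
  have e24 : ev 8 R8 [2, 4] ∈ H := hg 2 (by norm_num)
  have e36 : ev 8 R8 [3, 6] ∈ H := hg 3 (by norm_num)
  have e45 : ev 8 R8 [4, 5] ∈ H := hg 4 (by norm_num)
  have e67 : ev 8 R8 [6, 7] ∈ H := hg 5 (by norm_num)
  have e10 : ev 8 R8 [1, 0] ∈ H := hg 6 (by norm_num)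
  have s := @EvenGen.pair_symm 8 R8 invol8 H
  have t := @EvenGen.pair_trans 8 R8 invol8 H
  have r1 : ev 8 R8 [1, 2] ∈ H := s e21
  have r3 : ev 8 R8 [3, 2] ∈ H := s e23
  have r4 : ev 8 R8 [4, 2] ∈ H := s e24
  have r6 : ev 8 R8 [6, 2] ∈ H := t (s e36) r3
  have r5 : ev 8 R8 [5, 2] ∈ H := t (s e45) r4
  have r7 : ev 8 R8 [7, 2] ∈ H := t (s e67) r6
  have r0 : ev 8 R8 [0, 2] ∈ H := t (s e10) r1
  have r2 : ev 8 R8 [2, 2] ∈ H := EvenGen.pair_self invol8 H 2
  have hr : ∀ a, a < 8 → ev 8 R8 [a, 2] ∈ H := by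
    intro a ha
    interval_cases a
    · exact r0
    · exact r1
    · exact r2
    · exact r3
    · exact r4
    · exact r5
    · exact r6
    · exact r7
  exact EvenGen.eq_top_of_pairs invol8 H 2 (by norm_num) hr (R8.getLast (by decide))
    (List.getLast_mem _) (by decide +kernel) (by decide +kernel)

/-- the covering group of exponent 4. -/
abbrev X : Type := CovG 7 m3 CL7 CL7 4

/-- the covering homomorphism. -/
noncomputable def piX : X →* P := coverHomU 7 m3 CL7 CL7 4 CL7_lt2 gK gK_pow CL7_rel2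

theorem card7' : Finite (CovG 7 m3 CL7 CL7 1) ∧ Nat.card (CovG 7 m3 CL7 CL7 1) ≤ Nat.card P := by
  rw [card_P]
  exact card7

theorem stemX : Finite X ∧ Cfsg.IsStemExtension piX ∧ piX.ker = CovFin.zsub 7 m3 CL7 4 :=
  CovFin.stem_of_card_le 7 m3 CL7 4 (by norm_num) CL7_lt CL7_lt2 gK gK_closure gK_pow CL7_rel2
    card7' 3 (fun i _ => dvd_refl 3) (by decide)

instance finX : Finite X := stemX.1

theorem card_X : Nat.card X ∣ 4585351680 * 2 := by
  have h := (CovFin.card_dvd_of_cyclic 7 m3 CL7 4 (by norm_num) CL7_lt CL7_lt2 gK gK_closure gK_pow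
    CL7_rel2 card7' 3 (fun i _ => dvd_refl 3) (by decide) 6 (by norm_num)
    Cfsg.Agent.Helper4.O73M.main).2
  rw [card_P] at h
  exact h

end Cfsg.Agent.Helper4.F22R
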