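import Mathlib

/-!
# Killing a central element in the image of a subgroup's covering group

If, under `φ : X →* F`, two pairs of elements become conjugate up to central factors, their
commutators have the same image as soon as one of the images is central.  A nontrivial element of
the kernel halves the image.
-/

set_option autoImplicit false

namespace Cfsg.Agent.Helper4.KillLemma

open scoped commutatorElement

variable {X F : Type*} [Group X] [Group F]

theorem comm_central_left (c a b : F) (hc : c ∈ Subgroup.center F) : ⁅c * a, b⁆ = ⁅a, b⁆ := by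
  rw [commutatorElement_def, commutatorElement_def, mul_inv_rev]
  have h := Subgroup.mem_center_iff.mp hc
  calc c * a * b * (a⁻¹ * c⁻¹) * b⁻¹ = c * (a * b * a⁻¹) * c⁻¹ * b⁻¹ := by group
    _ = (a * b * a⁻¹) * c * c⁻¹ * b⁻¹ := by rw [h (a * b * a⁻¹)]
    _ = a * b * a⁻¹ * b⁻¹ := by group

theorem comm_central_right (c a b : F) (hc : c ∈ Subgroup.center F) : ⁅a, c * b⁆ = ⁅a, b⁆ := by
  rw [← commutatorElement_inv (c * b) a, comm_central_left c b a hc, commutatorElement_inv]

theorem conj_comm (g x y : F) : g⁻¹ * ⁅x, y⁆ * g = ⁅g⁻¹ * x * g, g⁻¹ * y * g⁆ := by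
  simp only [commutatorElement_def]
  group

/-- **the kill lemma.** -/
theorem map_comm_mul_inv (φ : X →* F) (al as bl bs : X) (g : F)
    (hl : g⁻¹ * φ al * g * (φ bl)⁻¹ ∈ Subgroup.center F)
    (hs : g⁻¹ * φ as * g * (φ bs)⁻¹ ∈ Subgroup.center F)
    (hb : φ ⁅bl, bs⁆ ∈ Subgroup.center F) :
    φ (⁅al, as⁆ * ⁅bl, bs⁆⁻¹) = 1 := by
  have e1 : g⁻¹ * φ al * g = (g⁻¹ * φ al * g * (φ bl)⁻¹) * φ bl := by group
  have e2 : g⁻¹ * φ as * g = (g⁻¹ * φ as * g * (φ bs)⁻¹) * φ bs := by group
  have h1 : g⁻¹ * ⁅φ al, φ as⁆ * g = ⁅φ bl, φ bs⁆ := by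
    rw [conj_comm, e1, e2, comm_central_left _ _ _ hl, comm_central_right _ _ _ hs]
  have h2 : ⁅φ al, φ as⁆ = ⁅φ bl, φ bs⁆ := by
    have hc : ⁅φ bl, φ bs⁆ ∈ Subgroup.center F := by
      rw [← map_commutatorElement]
      exact hb
    have h3 : ⁅φ al, φ as⁆ = g * ⁅φ bl, φ bs⁆ * g⁻¹ := by
      rw [← h1]
      group
    rw [h3, (Subgroup.mem_center_iff.mp hc) g, mul_inv_cancel_right]
  rw [map_mul, map_inv, map_commutatorElement, map_commutatorElement, h2, mul_inv_cancel]

/-- a nontrivial element of the kernel halves the image. -/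
theorem two_mul_card_range_le [Finite X] (φ : X →* F) (x : X) (hx : x ≠ 1) (hφ : φ x = 1) :
    2 * Nat.card φ.range ≤ Nat.card X := by
  have h1 := Subgroup.card_eq_card_quotient_mul_card_subgroup φ.ker
  have h2 : Nat.card (X ⧸ φ.ker) = Nat.card φ.range :=
    Nat.card_congr (QuotientGroup.quotientKerEquivRange φ).toEquiv
  have h3 : 1 < Nat.card φ.ker := by
    rw [Subgroup.one_lt_card_iff_ne_bot]
    intro hbot
    have : x ∈ φ.ker := hφ
    rw [hbot, Subgroup.mem_bot] at this
    exact hx this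
  rw [h1, h2, mul_comm]
  exact Nat.mul_le_mul_left _ h3

end Cfsg.Agent.Helper4.KillLemma
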