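import Mathlib
import Cfsg.Agent.Helper4.F22RGenK
import Cfsg.Agent.Helper4.F22MXSum
import Cfsg.Agent.Helper4.ShiftModel
import Cfsg.Agent.Helper4.KillLemma
import Cfsg.Agent.Helper4.TowerW

/-!
# The covering group of exponent 4 of `Fi₂₂` on eight elements of order 3: the image of `O₇(3)`

The covering group `X` of exponent 4 of `O₇(3)` (order dividing `2 * |O₇(3)|`) acts on 2160 points;
a commutator of two words is a nontrivial central element of `X` there, and is killed in the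
covering group `F` of `Fi₂₂`, because the two words are conjugate in `F`, up to central factors, to
words whose commutator is central.  So the image of `X` in `F` has at most the order of `O₇(3)`,
and a labelled Todd–Coxeter certificate (14080 cosets, label group of order 2) bounds `F` by
`2 * |Fi₂₂|`.
-/

set_option autoImplicit false

namespace Cfsg.Agent.Helper4.F22R

open Cfsg Cfsg.Agent.Helper5.StemP Cfsg.Agent.Helper5.LP Cfsg.Agent.Helper4.LTW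
  Cfsg.Agent.Helper4.ShM Cfsg.Agent.Helper4.Tower
open scoped commutatorElement

/-- the central words with the generator `r_8`. -/
def EXF : List (List ℕ) := [[15, 13, 15, 13],
  [15, 13, 1, 3, 0, 12, 14, 3],
  [15, 13, 1, 4, 9, 5, 0, 12, 14, 9],
  [15, 13, 1, 2, 6, 11, 7, 3, 0, 12, 14, 11],
  [15, 1, 6, 5, 0, 12, 14, 13, 2, 7, 3, 4, 15, 1, 6, 5, 0, 12, 14, 13, 2, 7, 3, 4, 15, 1, 6, 5, 0, 12, 14, 13, 2, 7, 3, 4, 15, 1, 6, 5, 0, 12, 14, 13, 2, 7, 3, 4, 15, 1, 6, 13, 2, 10, 5, 0, 12, 1, 6, 11, 7, 3, 4, 13, 2, 10, 5, 0, 12, 1, 6, 11, 7, 3, 4, 13, 2, 10, 5, 0, 12, 1, 6, 11, 7, 3, 4, 13, 2, 10, 5, 0, 12, 1, 6, 11, 7, 3, 4, 13, 2, 10],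
  [15, 1, 6, 5, 9, 3, 12, 15, 7, 5, 2, 14, 13, 2, 8, 4, 7, 0, 14, 3, 4, 6],
  [15, 1, 6, 5, 9, 3, 12, 15, 11, 3, 12, 8, 4, 1, 6, 4, 1, 3, 11, 13, 2, 5, 1, 14, 13, 2, 8, 4, 7, 0, 14, 11, 3, 13, 8, 2, 8, 0, 13, 2, 5, 7, 1, 11, 3, 5]]

/-- all the central words. -/
def CCF : List (List ℕ) := EXF ++ CL7

/-- the conjugating word. -/
def gw : List ℕ := [14, 13, 2, 8, 4, 7, 0, 14]

def ul : List ℕ := [11, 3, 12, 8, 4, 1, 6, 4, 1, 3, 11, 13, 2, 5, 1]

def ulp : List ℕ := [4, 2, 10, 0, 6, 4, 3, 12, 1, 9, 3, 9, 12, 2, 10]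

def us : List ℕ := [7, 5, 2]

/-- the commutator word. -/
def cw (a b : List ℕ) : List ℕ := a ++ b ++ winv a ++ winv b

/-- the word of the central element that is killed. -/
def xw : List ℕ := cw ul us ++ winv (cw ulp us)

theorem EXF_lt : ∀ r ∈ EXF, ∀ c ∈ r, c < 2 * 8 := by decide

theorem EXF_len : EXF.length = 7 := rfl

theorem kill_mem : winv gw ++ ul ++ gw ++ winv ulp ∈ EXF ∧ winv gw ++ us ++ gw ++ winv us ∈ EXF := by
  decide

theorem ul_lt : ∀ c ∈ ul, c < 2 * 7 := by decide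
theorem ulp_lt : ∀ c ∈ ulp, c < 2 * 7 := by decide
theorem us_lt : ∀ c ∈ us, c < 2 * 7 := by decide
theorem gw_lt : ∀ c ∈ gw, c < 2 * 8 := by decide
theorem xw_lt : ∀ c ∈ xw, c < 2 * 7 := by decide
theorem cwp_lt : ∀ c ∈ cw ulp us, c < 2 * 7 := by decide

/-! ### the model of `X` -/

theorem cwX_eq : F22MX.cw = CL7 := by decide

theorem modelX : ∃ ρ : X →* Equiv.Perm (Fin 2160),
    ActsOn ρ (ev (2 * 7) (coverRels 7 m3 CL7 CL7 4)) (2 * 7) F22MX.mT := by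
  refine exists_model 7 m3 CL7 4 2160 F22MX.mT F22MX.tableOK CL7_lt F22MX.hcomm ?_ ?_ 2
    F22MX.hsh (by norm_num)
  · intro r hr
    exact F22MX.hcent r (by rw [cwX_eq]; exact hr)
  · intro i hi
    have h := F22MX.hpow i hi
    interval_cases i <;> exact h

set_option maxRecDepth 1000000 in
theorem moveX : actL F22MX.mT xw 0 ≠ 0 := by decide +kernel

/-- the element of `X` that is killed. -/
noncomputable def x0 : X := ev (2 * 7) (coverRels 7 m3 CL7 CL7 4) xw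

theorem x0_ne : x0 ≠ 1 := by
  obtain ⟨ρ, hA⟩ := modelX
  exact ne_one_of_move hA xw xw_lt 0 (by norm_num) moveX

theorem ev_cw (d : ℕ) (CC : List (List ℕ)) (e : ℕ) (a b : List ℕ) (ha : ∀ c ∈ a, c < 2 * d)
    (hb : ∀ c ∈ b, c < 2 * d) :
    ev (2 * d) (coverRels d m3 CC CC e) (cw a b) =
      ⁅ev (2 * d) (coverRels d m3 CC CC e) a, ev (2 * d) (coverRels d m3 CC CC e) b⁆ := by
  unfold cw
  rw [ev_append, ev_append, ev_append, ev_winv d m3 CC CC e ha, ev_winv d m3 CC CC e hb,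
    commutatorElement_def]

theorem x0_eq : x0 = ⁅ev (2 * 7) (coverRels 7 m3 CL7 CL7 4) ul,
      ev (2 * 7) (coverRels 7 m3 CL7 CL7 4) us⁆ *
    ⁅ev (2 * 7) (coverRels 7 m3 CL7 CL7 4) ulp, ev (2 * 7) (coverRels 7 m3 CL7 CL7 4) us⁆⁻¹ := by
  unfold x0 xw
  rw [ev_append, ev_winv 7 m3 CL7 CL7 4 cwp_lt, ev_cw 7 CL7 4 ul us ul_lt us_lt,
    ev_cw 7 CL7 4 ulp us ulp_lt us_lt]

/-! ### the map to the covering group of `Fi₂₂` -/

/-- the covering group of exponent 4 of `Fi₂₂`. -/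
abbrev F : Type := CovG 8 m3 CCF CCF 4

/-- the natural map. -/
noncomputable def phiX : X →* F := phiT 7 8 m3 CL7 EXF 4 (by norm_num) CL7_lt

theorem phiX_ev (l : List ℕ) (hl : ∀ c ∈ l, c < 2 * 7) :
    phiX (ev (2 * 7) (coverRels 7 m3 CL7 CL7 4) l) = ev (2 * 8) (coverRels 8 m3 CCF CCF 4) l :=
  phiT_ev 7 8 m3 CL7 EXF 4 (by norm_num) CL7_lt l hl

theorem CCF_lt : ∀ r ∈ CCF, ∀ c ∈ r, c < 2 * 8 :=
  CC_lt 7 8 CL7 EXF (by norm_num) CL7_lt EXF_lt

theorem lt_of_lt7 {l : List ℕ} (hl : ∀ c ∈ l, c < 2 * 7) : ∀ c ∈ l, c < 2 * 8 := by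
  intro c hc
  have := hl c hc
  omega

theorem conj_center (u up : List ℕ) (hu : ∀ c ∈ u, c < 2 * 7) (hup : ∀ c ∈ up, c < 2 * 7)
    (hmem : winv gw ++ u ++ gw ++ winv up ∈ EXF) :
    (ev (2 * 8) (coverRels 8 m3 CCF CCF 4) gw)⁻¹ *
      phiX (ev (2 * 7) (coverRels 7 m3 CL7 CL7 4) u) * ev (2 * 8) (coverRels 8 m3 CCF CCF 4) gw *
      (phiX (ev (2 * 7) (coverRels 7 m3 CL7 CL7 4) up))⁻¹ ∈ Subgroup.center F := by
  have hm : winv gw ++ u ++ gw ++ winv up ∈ CCF := List.mem_append_left _ hmem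
  have h := cover_center 8 m3 CCF CCF 4 hm (CCF_lt _ hm)
  rw [ev_append, ev_append, ev_append, ev_winv 8 m3 CCF CCF 4 gw_lt,
    ev_winv 8 m3 CCF CCF 4 (lt_of_lt7 hup)] at h
  rw [phiX_ev u hu, phiX_ev up hup]
  exact h

/-- the image of the central subgroup of `X` is central. -/
theorem phiX_zsub : ∀ z ∈ CovFin.zsub 7 m3 CL7 4, phiX z ∈ Subgroup.center F := by
  intro z hz
  have hle : CovFin.zsub 7 m3 CL7 4 ≤ (Subgroup.center F).comap phiX := by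
    unfold CovFin.zsub
    rw [Subgroup.closure_le]
    rintro y ⟨r, hr, rfl⟩
    rw [SetLike.mem_coe, Subgroup.mem_comap, phiX_ev r (CL7_lt r hr)]
    have hm : r ∈ CCF := List.mem_append_right _ hr
    exact cover_center 8 m3 CCF CCF 4 hm (CCF_lt _ hm)
  exact hle hz

set_option maxRecDepth 1000000 in
theorem chk_cwp : fixRangeF tabK (cw ulp us) 364 0 = true := by decide +kernel

theorem cwp_ker : ⁅ev (2 * 7) (coverRels 7 m3 CL7 CL7 4) ulp,
    ev (2 * 7) (coverRels 7 m3 CL7 CL7 4) us⁆ ∈ CovFin.zsub 7 m3 CL7 4 := by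
  rw [← stemX.2.2, ← ev_cw 7 CL7 4 ulp us ulp_lt us_lt, MonoidHom.mem_ker]
  unfold piX
  rw [coverHomU_ev 7 m3 CL7 CL7 4 CL7_lt2 gK gK_pow CL7_rel2 _ cwp_lt]
  exact wordK_eq_one _ cwp_lt chk_cwp

theorem phiX_x0 : phiX x0 = 1 := by
  rw [x0_eq]
  exact KillLemma.map_comm_mul_inv phiX _ _ _ _ (ev (2 * 8) (coverRels 8 m3 CCF CCF 4) gw)
    (conj_center ul ulp ul_lt ulp_lt kill_mem.1) (conj_center us us us_lt us_lt kill_mem.2)
    (phiX_zsub _ cwp_ker)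

/-- the image of `X` has at most the order of `O₇(3)`. -/
theorem card_range : Nat.card phiX.range ≤ 4585351680 := by
  have h1 := KillLemma.two_mul_card_range_le phiX x0 x0_ne phiX_x0
  have h2 := Nat.le_of_dvd (by norm_num) card_X
  omega

end Cfsg.Agent.Helper4.F22R
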