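import Mathlib
import Cfsg.Agent.Helper4.F22FKill
import Cfsg.Agent.Helper4.F22FSum

/-!
# The covering group of exponent 4 of `Fi₂₂` on eight elements of order 3: the order bound

The image of the covering group of `O₇(3)` has at most the order of `O₇(3)` (`F22FKill`); a
labelled Todd–Coxeter certificate (14080 cosets, label group of order 2) bounds the covering group
of `Fi₂₂` by `2 * |Fi₂₂|`.
-/

set_option autoImplicit false

namespace Cfsg.Agent.Helper4.F22R

open Cfsg Cfsg.Agent.Helper5.StemP Cfsg.Agent.Helper5.LP Cfsg.Agent.Helper4.LTW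
  Cfsg.Agent.Helper4.Tower



theorem words_lt_F : ∀ wi, ∀ c ∈ F22F.cert.W wi, c < 2 * 8 := by
  intro wi c hc
  have h : ∀ w ∈ F22F.words, ∀ c ∈ w, c < 16 := by decide +kernel
  change c ∈ F22F.words.getD wi [] at hc
  by_cases hwi : wi < F22F.words.length
  · rw [List.getD_eq_getElem _ _ hwi] at hc
    exact h _ (List.getElem_mem hwi) c hc
  · rw [List.getD_eq_default _ _ (by omega)] at hc
    simp at hc

set_option maxRecDepth 1000000 in
theorem wordOK_F : ∀ wi, wi < F22F.cert.nrel →
    wordOK2 (coverRels 8 m3 (EXF ++ CL7) (EXF ++ CL7) 4) (EXF ++ CL7) EXF.length (F22F.cert.W wi)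
      (F22F.cert.δ wi) (F22F.origs.getD wi 0) = true := by decide +kernel

theorem hsubW_F : ∀ wi, F22F.cert.nrel ≤ wi → wi < F22F.cert.nw →
    ∃ c, c < 2 * 7 ∧ F22F.cert.W wi = [c] := by
  intro wi h1 h2
  have h1' : 297 ≤ wi := h1
  have h2' : wi < 304 := h2
  interval_cases wi
  · exact ⟨0, by norm_num, by decide +kernel⟩
  · exact ⟨2, by norm_num, by decide +kernel⟩
  · exact ⟨4, by norm_num, by decide +kernel⟩
  · exact ⟨6, by norm_num, by decide +kernel⟩
  · exact ⟨8, by norm_num, by decide +kernel⟩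
  · exact ⟨10, by norm_num, by decide +kernel⟩
  · exact ⟨12, by norm_num, by decide +kernel⟩

/-- the covering group of exponent 4 of `Fi₂₂` on eight elements of order 3. -/
theorem card_F : Finite F ∧ Nat.card F ≤ 64561751654400 * 2 := by
  have h := TowerW.step_range 7 8 m3 CL7 EXF 4 (by norm_num) CL7_lt EXF_lt (by norm_num) (by decide)
    stemX.1 F22F.cert rfl rfl rfl words_lt_F
    (fun wi => F22F.origs.getD wi 0) wordOK_F hsubW_F F22F.hchk F22F.tab (by decide +kernel)
    (by decide) F22F.hT F22F.js F22F.hjs 4 2 (by norm_num) (by norm_num) F22F.cs0 F22F.h0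
    (fun i => F22F.as_.getD i 0) (fun i => F22F.css.getD i []) F22F.hgs
  have hN : F22F.tab.N = 14080 := rfl
  rw [hN] at h
  refine ⟨h.1, h.2.trans ?_⟩
  have hr : Nat.card (phiT 7 8 m3 CL7 EXF 4 (by norm_num) CL7_lt).range ≤ 4585351680 := card_range
  calc Nat.card (phiT 7 8 m3 CL7 EXF 4 (by norm_num) CL7_lt).range * 14080 * 2
      ≤ 4585351680 * 14080 * 2 := Nat.mul_le_mul_right _ (Nat.mul_le_mul_right _ hr)
    _ = 64561751654400 * 2 := by norm_num

end Cfsg.Agent.Helper4.F22R
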