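import Mathlib
import Cfsg.Agent.Helper4.CovCox
import Cfsg.Agent.Helper5.Fi22LPA

/-!
# The covering presentation of `Fi₂₂` on its nine Coxeter involutions (exponent 45)

The central words: the relators of `O₇(3)` (letters 0 to 7) of length at least 3, and six words
with the letter 8.
-/

set_option autoImplicit false

namespace Cfsg.Agent.Helper4.F22T

open Cfsg Cfsg.Agent.Helper5.StemP Cfsg.Agent.Helper5.LP Cfsg.Agent.Helper4.CovCox
open Cfsg.Agent.Helper5.Fi22LP (R8 R9)

/-- the central words of the subgroup `O₇(3)`. -/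
def CL : List (List ℕ) := cwords R8

/-- the central words with the letter 8, undoubled. -/
def EX0 : List (List ℕ) := [[0, 8, 0, 8, 0, 8],
  [8, 0, 1, 2, 3, 6, 4, 8, 0, 1, 2, 3, 6, 4, 8, 0, 1, 2, 3, 6, 4, 8, 0, 1, 2, 3, 6, 4,
   8, 0, 1, 2, 3, 6, 4, 8, 0, 1, 2, 3, 6, 4, 8, 0, 1, 2, 3, 6, 4, 8, 0, 1, 2, 3, 6, 4,
   8, 0, 1, 2, 3, 6, 4],
  [8, 1, 8, 1], [8, 2, 3, 8, 3, 2], [8, 4, 5, 8, 5, 4], [8, 6, 7, 8, 7, 6]]

/-- the central words with the letter 8. -/
def EX : List (List ℕ) := EX0.map dbl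

/-- all the central words. -/
def CC : List (List ℕ) := EX ++ CL

theorem invol8 : Invol 8 R8 := by
  intro c hc
  interval_cases c <;> decide

theorem invol9 : Invol 9 R9 := by
  intro c hc
  interval_cases c <;> decide

theorem letters8 : LettersLt 8 R8 := by decide +kernel

theorem letters9 : LettersLt 9 R9 := by decide +kernel

theorem CL_lt : ∀ r ∈ CL, ∀ c ∈ r, c < 2 * 8 := cwords_lt 8 R8 letters8

theorem EX_lt : ∀ r ∈ EX, ∀ c ∈ r, c < 2 * 9 := by decide

theorem EX_len : EX.length = 6 := rfl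

end Cfsg.Agent.Helper4.F22T
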