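import Mathlib
import Cfsg.Agent.Helper4.F22TDef
import Cfsg.Agent.Helper5.Fi22LPD
import Cfsg.Agent.Helper5.O73LPD
import Cfsg.Agent.Helper5.LPX
import Cfsg.Agent.Helper5.LPL
import Cfsg.Agent.Helper4.ShiftModel

/-!
# The presented group `Fi₂₂` on 14080 points

`P9 = LPG 9 R9` (`Helper5.Fi22LP`) acts faithfully on 14080 points; a word is trivial if it fixes
all the points (the checks may be split into ranges of points).
-/

set_option autoImplicit false

namespace Cfsg.Agent.Helper4.F22P

open Cfsg Cfsg.Agent.Helper5.LP Cfsg.Agent.Helper5.StemP Cfsg.Agent.Helper5.TC Cfsg.Agent.Helper5.TCI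
open Cfsg.Agent.Helper5.Fi22LP (R9)
open Cfsg.Agent.Helper5.O73LP (R8)
open Cfsg.Agent.Helper5

/-- the presented group. -/
abbrev P9 : Type := LPG 9 R9

theorem hT9 : TableOK 9 14080 FiXATC.ctF :=
  tableOK_of_cert FiXATC.iota (fun _ => rfl) rfl FiXATC.hT

theorem hR9 : RelsFix R9 14080 FiXATC.ctF :=
  relsFix_of_cert (letterWords 8) rfl Fi22LP.wordsA FiXATC.hrelT

/-- the permutation representation on 14080 points. -/
noncomputable def rho9 : P9 →* Equiv.Perm (Fin 14080) := tableHom Fi22LP.lettersA hT9 hR9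

theorem hA9 : ActsOn rho9 (ev 9 R9) 9 FiXATC.ctF :=
  ⟨fun l hl v => tableHom_ev Fi22LP.lettersA hT9 hR9 l hl v⟩

instance finP9 : Finite P9 := Fi22LP.ubA.1

theorem card_P9 : Nat.card P9 = 64561751654400 := Fi22LP.simple_card.2

theorem rho9_inj : Function.Injective rho9 :=
  injective_of_chain hA9 Fi22LP.levels Fi22LP.chain_ok (by
    rw [Fi22LP.chain_prod, card_P9])

/-- a word fixing all the points is trivial. -/
theorem ev_eq_one (l : List ℕ) (hl : ∀ c ∈ l, c < 9)
    (h : ∀ v, v < 14080 → actL FiXATC.ctF l v = v) : ev 9 R9 l = 1 := by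
  apply rho9_inj
  ext v
  rw [hA9.act l hl v, map_one, h v.val v.isLt]
  rfl

/-- the inclusion of the presented group `O₇(3)`. -/
noncomputable def iota : LPG 8 R8 →* P9 :=
  lift (fun c => ev 9 R9 [c]) Cfsg.Agent.Helper5.O73LP.lettersA (by
    have hsub : ∀ l ∈ R8, l ∈ R9 := by decide +kernel
    intro l hl
    have : ∀ l : List ℕ, (l.map (fun c => ev 9 R9 [c])).prod = ev 9 R9 l := by
      intro l
      induction l with
      | nil => simp [ev_nil]
      | cons c l ih => rw [List.map_cons, List.prod_cons, ih, ev_cons c l]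
    rw [this]
    exact ev_rel (hsub l hl))

theorem iota_ev (l : List ℕ) (hl : ∀ c ∈ l, c < 8) : iota (ev 8 R8 l) = ev 9 R9 l := by
  unfold iota
  rw [lift_ev _ _ _ l hl]
  induction l with
  | nil => simp [ev_nil]
  | cons c l ih =>
    rw [List.map_cons, List.prod_cons, ih (fun c hc => hl c (List.mem_cons_of_mem _ hc)),
      ev_cons c l]

end Cfsg.Agent.Helper4.F22P
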