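import Cfsg.Agent.Helper4.F22PWDat

/-! generated checks: F22PW -/

set_option autoImplicit false
set_option Elab.async false
set_option maxRecDepth 1000000

namespace Cfsg.Agent.Helper4.F22PW
open Cfsg.Agent.Helper5.TC Cfsg.Agent.Helper5.TCI Cfsg.Agent.Helper5.LP

theorem fixc_0_0 : fixPtsF W_0 14080 0 = true := by decide +kernel

theorem fixc_1_0 : fixPtsF W_1 14080 0 = true := by decide +kernel

theorem fixc_2_0 : fixPtsF W_2 14080 0 = true := by decide +kernel

theorem fixc_6_0 : fixPtsF W_6 10000 0 = true := by decide +kernel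

theorem fixc_8_4900 : fixPtsF W_8 980 4900 = true := by decide +kernel

theorem fixc_8_10780 : fixPtsF W_8 980 10780 = true := by decide +kernel

theorem fixc_10_6519 : fixPtsF W_10 2173 6519 = true := by decide +kernel

end Cfsg.Agent.Helper4.F22PW
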