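import Cfsg.Agent.Helper4.F22PWDat

/-! generated checks: F22PW -/

set_option autoImplicit false
set_option Elab.async false
set_option maxRecDepth 1000000

namespace Cfsg.Agent.Helper4.F22PW
open Cfsg.Agent.Helper5.TC Cfsg.Agent.Helper5.TCI Cfsg.Agent.Helper5.LP

theorem fixc_4_0 : fixPtsF W_4 14080 0 = true := by decide +kernel

theorem fixc_6_10000 : fixPtsF W_6 4080 10000 = true := by decide +kernel

theorem fixc_7_0 : fixPtsF W_7 8333 0 = true := by decide +kernel

theorem fixc_8_2940 : fixPtsF W_8 980 2940 = true := by decide +kernel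

theorem fixc_8_8820 : fixPtsF W_8 980 8820 = true := by decide +kernel

theorem fixc_9_13635 : fixPtsF W_9 445 13635 = true := by decide +kernel

theorem fixc_10_2173 : fixPtsF W_10 2173 2173 = true := by decide +kernel

end Cfsg.Agent.Helper4.F22PW
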