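import Cfsg.Agent.Helper4.F22PWDat

/-! generated checks: F22PW -/

set_option autoImplicit false
set_option Elab.async false
set_option maxRecDepth 1000000

namespace Cfsg.Agent.Helper4.F22PW
open Cfsg.Agent.Helper5.TC Cfsg.Agent.Helper5.TCI Cfsg.Agent.Helper5.LP

theorem fixc_8_0 : fixPtsF W_8 980 0 = true := by decide +kernel

theorem fixc_8_5880 : fixPtsF W_8 980 5880 = true := by decide +kernel

theorem fixc_8_11760 : fixPtsF W_8 980 11760 = true := by decide +kernel

theorem fixc_9_0 : fixPtsF W_9 4545 0 = true := by decide +kernel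

theorem fixc_10_10865 : fixPtsF W_10 2173 10865 = true := by decide +kernel

end Cfsg.Agent.Helper4.F22PW
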