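import Cfsg.Agent.Helper4.F22PWDat

/-! generated checks: F22PW -/

set_option autoImplicit false
set_option Elab.async false
set_option maxRecDepth 1000000

namespace Cfsg.Agent.Helper4.F22PW
open Cfsg.Agent.Helper5.TC Cfsg.Agent.Helper5.TCI Cfsg.Agent.Helper5.LP

theorem fixc_7_8333 : fixPtsF W_7 5747 8333 = true := by decide +kernel

theorem fixc_8_980 : fixPtsF W_8 980 980 = true := by decide +kernel

theorem fixc_8_6860 : fixPtsF W_8 980 6860 = true := by decide +kernel

theorem fixc_8_12740 : fixPtsF W_8 980 12740 = true := by decide +kernel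

theorem fixc_8_13720 : fixPtsF W_8 360 13720 = true := by decide +kernel

theorem fixc_9_4545 : fixPtsF W_9 4545 4545 = true := by decide +kernel

end Cfsg.Agent.Helper4.F22PW
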