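import Cfsg.Agent.Helper4.F22PWCk0
import Cfsg.Agent.Helper4.F22PWCk1
import Cfsg.Agent.Helper4.F22PWCk2
import Cfsg.Agent.Helper4.F22PWCk3
import Cfsg.Agent.Helper4.F22PWCk4
import Cfsg.Agent.Helper4.F22PWCk5

/-! generated checks, summary: F22PW -/

set_option autoImplicit false
set_option maxRecDepth 1000000

namespace Cfsg.Agent.Helper4.F22PW
open Cfsg.Agent.Helper5.TC Cfsg.Agent.Helper5.TCI Cfsg.Agent.Helper5.LP Cfsg.Agent.Helper5.StemP
  Cfsg.Agent.Helper4.ShM Cfsg.Agent.Helper5.FiXATC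

theorem actw_0 : ∀ v, actL ctF w_0 v = W_0 v := by
  intro v
  simp (maxSteps := 100000000) only [w_0, actL, W_0, forceL_eq]
  rfl

theorem fixW_0 : ∀ v, v < 14080 → W_0 v = v :=
  (fixW_step (fun v hv => absurd hv (by omega)) 14080 fixc_0_0)

theorem fix_0 : ∀ v, v < 14080 → actL ctF w_0 v = v := fun v hv => by
  rw [actw_0]
  exact fixW_0 v hv

theorem actw_1 : ∀ v, actL ctF w_1 v = W_1 v := by
  intro v
  simp (maxSteps := 100000000) only [w_1, actL, W_1, forceL_eq]
  rfl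

theorem fixW_1 : ∀ v, v < 14080 → W_1 v = v :=
  (fixW_step (fun v hv => absurd hv (by omega)) 14080 fixc_1_0)

theorem fix_1 : ∀ v, v < 14080 → actL ctF w_1 v = v := fun v hv => by
  rw [actw_1]
  exact fixW_1 v hv

theorem actw_2 : ∀ v, actL ctF w_2 v = W_2 v := by
  intro v
  simp (maxSteps := 100000000) only [w_2, actL, W_2, forceL_eq]
  rfl

theorem fixW_2 : ∀ v, v < 14080 → W_2 v = v :=
  (fixW_step (fun v hv => absurd hv (by omega)) 14080 fixc_2_0)

theorem fix_2 : ∀ v, v < 14080 → actL ctF w_2 v = v := fun v hv => by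
  rw [actw_2]
  exact fixW_2 v hv

theorem actw_3 : ∀ v, actL ctF w_3 v = W_3 v := by
  intro v
  simp (maxSteps := 100000000) only [w_3, actL, W_3, forceL_eq]
  rfl

theorem fixW_3 : ∀ v, v < 14080 → W_3 v = v :=
  (fixW_step (fun v hv => absurd hv (by omega)) 14080 fixc_3_0)

theorem fix_3 : ∀ v, v < 14080 → actL ctF w_3 v = v := fun v hv => by
  rw [actw_3]
  exact fixW_3 v hv

theorem actw_4 : ∀ v, actL ctF w_4 v = W_4 v := by
  intro v
  simp (maxSteps := 100000000) only [w_4, actL, W_4, forceL_eq]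
  rfl

theorem fixW_4 : ∀ v, v < 14080 → W_4 v = v :=
  (fixW_step (fun v hv => absurd hv (by omega)) 14080 fixc_4_0)

theorem fix_4 : ∀ v, v < 14080 → actL ctF w_4 v = v := fun v hv => by
  rw [actw_4]
  exact fixW_4 v hv

theorem actw_5 : ∀ v, actL ctF w_5 v = W_5 v := by
  intro v
  simp (maxSteps := 100000000) only [w_5, actL, W_5, forceL_eq]
  rfl

theorem fixW_5 : ∀ v, v < 14080 → W_5 v = v :=
  (fixW_step (fixW_step (fun v hv => absurd hv (by omega)) 12500 fixc_5_0) 1580 fixc_5_12500)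

theorem fix_5 : ∀ v, v < 14080 → actL ctF w_5 v = v := fun v hv => by
  rw [actw_5]
  exact fixW_5 v hv

theorem actw_6 : ∀ v, actL ctF w_6 v = W_6 v := by
  intro v
  simp (maxSteps := 100000000) only [w_6, actL, W_6, forceL_eq]
  rfl

theorem fixW_6 : ∀ v, v < 14080 → W_6 v = v :=
  (fixW_step (fixW_step (fun v hv => absurd hv (by omega)) 10000 fixc_6_0) 4080 fixc_6_10000)

theorem fix_6 : ∀ v, v < 14080 → actL ctF w_6 v = v := fun v hv => by
  rw [actw_6]
  exact fixW_6 v hv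

theorem actw_7 : ∀ v, actL ctF w_7 v = W_7 v := by
  intro v
  simp (maxSteps := 100000000) only [w_7, actL, W_7, forceL_eq]
  rfl

theorem fixW_7 : ∀ v, v < 14080 → W_7 v = v :=
  (fixW_step (fixW_step (fun v hv => absurd hv (by omega)) 8333 fixc_7_0) 5747 fixc_7_8333)

theorem fix_7 : ∀ v, v < 14080 → actL ctF w_7 v = v := fun v hv => by
  rw [actw_7]
  exact fixW_7 v hv

theorem actw_8 : ∀ v, actL ctF w_8 v = W_8 v := by
  intro v
  simp (maxSteps := 100000000) only [w_8, actL, W_8, forceL_eq]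
  rfl

theorem fixW_8 : ∀ v, v < 14080 → W_8 v = v :=
  (fixW_step (fixW_step (fixW_step (fixW_step (fixW_step (fixW_step (fixW_step (fixW_step (fixW_step (fixW_step (fixW_step (fixW_step (fixW_step (fixW_step (fixW_step (fun v hv => absurd hv (by omega)) 980 fixc_8_0) 980 fixc_8_980) 980 fixc_8_1960) 980 fixc_8_2940) 980 fixc_8_3920) 980 fixc_8_4900) 980 fixc_8_5880) 980 fixc_8_6860) 980 fixc_8_7840) 980 fixc_8_8820) 980 fixc_8_9800) 980 fixc_8_10780) 980 fixc_8_11760) 980 fixc_8_12740) 360 fixc_8_13720)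

theorem fix_8 : ∀ v, v < 14080 → actL ctF w_8 v = v := fun v hv => by
  rw [actw_8]
  exact fixW_8 v hv

theorem actw_9 : ∀ v, actL ctF w_9 v = W_9 v := by
  intro v
  simp (maxSteps := 100000000) only [w_9, actL, W_9, forceL_eq]
  rfl

theorem fixW_9 : ∀ v, v < 14080 → W_9 v = v :=
  (fixW_step (fixW_step (fixW_step (fixW_step (fun v hv => absurd hv (by omega)) 4545 fixc_9_0) 4545 fixc_9_4545) 4545 fixc_9_9090) 445 fixc_9_13635)

theorem fix_9 : ∀ v, v < 14080 → actL ctF w_9 v = v := fun v hv => by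
  rw [actw_9]
  exact fixW_9 v hv

theorem actw_10 : ∀ v, actL ctF w_10 v = W_10 v := by
  intro v
  simp (maxSteps := 100000000) only [w_10, actL, W_10, forceL_eq]
  rfl

theorem fixW_10 : ∀ v, v < 14080 → W_10 v = v :=
  (fixW_step (fixW_step (fixW_step (fixW_step (fixW_step (fixW_step (fixW_step (fun v hv => absurd hv (by omega)) 2173 fixc_10_0) 2173 fixc_10_2173) 2173 fixc_10_4346) 2173 fixc_10_6519) 2173 fixc_10_8692) 2173 fixc_10_10865) 1042 fixc_10_13038)

theorem fix_10 : ∀ v, v < 14080 → actL ctF w_10 v = v := fun v hv => by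
  rw [actw_10]
  exact fixW_10 v hv

end Cfsg.Agent.Helper4.F22PW
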