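import Mathlib
import Cfsg.Agent.Helper4.F22FKill
import Cfsg.Agent.Helper4.F22PGen
import Cfsg.Agent.Helper4.F22PWSum

/-!
# `Fi₂₂` on eight elements of order 3

In `P9 = LPG 9 R9`: the elements `r_e = s_i s_j` for the eight edges of the Coxeter tree, the
central words of the covering presentation are trivial, generation.
-/

set_option autoImplicit false

namespace Cfsg.Agent.Helper4.F22R

open Cfsg Cfsg.Agent.Helper5.LP Cfsg.Agent.Helper5.StemP Cfsg.Agent.Helper5.TC Cfsg.Agent.Helper5.TCI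
open Cfsg.Agent.Helper5.Fi22LP (R9)
open Cfsg.Agent.Helper5
open Cfsg.Agent.Helper4.F22P (P9 iota iota_ev)
open Cfsg.Agent.Helper4.F22T (invol9)

theorem W_lt9 : ∀ c, c < 16 → ∀ x ∈ W c, x < 9 := by decide

/-- the generators of `Fi₂₂`. -/
noncomputable def gF (i : ℕ) : P9 := ev 9 R9 (W (2 * i))

theorem lval_gF : ∀ c, c < 16 → lval gF c = ev 9 R9 (W c) := by
  intro c hc
  obtain ⟨i, rfl | rfl⟩ : ∃ i, c = 2 * i ∨ c = 2 * i + 1 := ⟨c / 2, by omega⟩
  · rw [lval_even]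
    rfl
  · rw [lval_odd, W_odd i (by omega), ev_reverse invol9]
    rfl

theorem wordF_ev : ∀ l : List ℕ, (∀ c ∈ l, c < 16) →
    (l.map (lval gF)).prod = ev 9 R9 (l.flatMap W)
  | [], _ => by
    rw [List.map_nil, List.prod_nil, List.flatMap_nil, ev_nil]
  | c :: l, h => by
    rw [List.map_cons, List.prod_cons, wordF_ev l (fun c hc => h c (List.mem_cons_of_mem _ hc)),
      lval_gF c (h c List.mem_cons_self), List.flatMap_cons, ev_append]

theorem flat_lt8 (l : List ℕ) (hl : ∀ c ∈ l, c < 14) : ∀ x ∈ l.flatMap W, x < 8 := by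
  intro x hx
  obtain ⟨c, hc, hxc⟩ := List.mem_flatMap.mp hx
  exact W_lt8 c (hl c hc) x hxc

theorem CL7_relF : ∀ r ∈ CL7, (r.map (lval gF)).prod = 1 := by
  intro r hr
  have hl := CL7_lt r hr
  rw [wordF_ev r (fun c hc => by have := hl c hc; omega), ← iota_ev _ (flat_lt8 r hl),
    ← wordK_ev r hl, CL7_rel r hr, map_one]

set_option maxRecDepth 1000000 in
theorem flat_eq : EXF.map (fun r => r.flatMap W) =
    [F22PW.w_4, F22PW.w_5, F22PW.w_6, F22PW.w_7, F22PW.w_8, F22PW.w_9, F22PW.w_10] := by decide +kernel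

set_option maxRecDepth 1000000 in
theorem w_lt9 : ∀ w ∈ [F22PW.w_4, F22PW.w_5, F22PW.w_6, F22PW.w_7, F22PW.w_8, F22PW.w_9,
    F22PW.w_10], ∀ c ∈ w, c < 9 := by decide +kernel

theorem w_fix : ∀ w ∈ [F22PW.w_4, F22PW.w_5, F22PW.w_6, F22PW.w_7, F22PW.w_8, F22PW.w_9,
    F22PW.w_10], ∀ v, v < 14080 → actL FiXATC.ctF w v = v := by
  intro w hw
  simp only [List.mem_cons, List.not_mem_nil, or_false] at hw
  rcases hw with rfl | rfl | rfl | rfl | rfl | rfl | rfl
  · exact F22PW.fix_4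
  · exact F22PW.fix_5
  · exact F22PW.fix_6
  · exact F22PW.fix_7
  · exact F22PW.fix_8
  · exact F22PW.fix_9
  · exact F22PW.fix_10

theorem EXF_rel : ∀ r ∈ EXF, (r.map (lval gF)).prod = 1 := by
  intro r hr
  rw [wordF_ev r (EXF_lt r hr)]
  have hmem : r.flatMap W ∈ EXF.map (fun r => r.flatMap W) := List.mem_map.mpr ⟨r, hr, rfl⟩
  rw [flat_eq] at hmem
  exact F22P.ev_eq_one _ (w_lt9 _ hmem) (w_fix _ hmem)

theorem CCF_rel : ∀ r ∈ CCF, (r.map (lval gF)).prod = 1 := by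
  intro r hr
  rcases List.mem_append.mp hr with h | h
  · exact EXF_rel r h
  · exact CL7_relF r h

theorem CCF_lt2 : ∀ r ∈ CCF ++ CCF, ∀ c ∈ r, c < 2 * 8 := by
  intro r hr
  rcases List.mem_append.mp hr with h | h <;> exact CCF_lt r h

theorem CCF_rel2 : ∀ r ∈ CCF ++ CCF, (r.map (lval gF)).prod = 1 := by
  intro r hr
  rcases List.mem_append.mp hr with h | h <;> exact CCF_rel r h

theorem gF_pow : ∀ i, i < 8 → gF i ^ m3 i = 1 := by
  intro i hi
  show ev 9 R9 (W (2 * i)) ^ 3 = 1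
  have h : ∀ i, i < 8 → (W (2 * i) ++ W (2 * i) ++ W (2 * i)).rotate 1 ∈ R9 ∨
      (W (2 * i) ++ W (2 * i) ++ W (2 * i)) ∈ R9 := by decide +kernel
  have h3 : ev 9 R9 (W (2 * i) ++ W (2 * i) ++ W (2 * i)) = 1 := by
    rcases h i hi with h | h
    · have hw : W (2 * i) = [(W (2 * i)).headD 0, (W (2 * i)).getD 1 0] := by
        interval_cases i <;> rfl
      generalize (W (2 * i)).headD 0 = a at hw
      generalize (W (2 * i)).getD 1 0 = b at hw
      rw [hw] at h ⊢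
      have h1 : ev 9 R9 [b, a, b, a, b, a] = 1 := ev_rel h
      have e1 : ev 9 R9 ([a, b] ++ [a, b] ++ [a, b]) =
          ev 9 R9 [a] * ev 9 R9 [b, a, b, a, b, a] * ev 9 R9 [a] := by
        rw [show ([a, b] ++ [a, b] ++ [a, b] : List ℕ) = [a] ++ [b, a, b, a, b] from rfl,
          show ([b, a, b, a, b, a] : List ℕ) = [b, a, b, a, b] ++ [a] from rfl, ev_append, ev_append,
          mul_assoc, mul_assoc, ev_sq invol9 a, mul_one]
      rw [e1, h1, mul_one, ev_sq invol9 a]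
    · exact ev_rel h
  rw [pow_succ, pow_two, ← ev_append, ← ev_append]
  exact h3

/-- the eight generators generate the group. -/
theorem gF_closure : Subgroup.closure {y : P9 | ∃ i, i < 8 ∧ y = gF i} = ⊤ := by
  set H := Subgroup.closure {y : P9 | ∃ i, i < 8 ∧ y = gF i} with hH
  have hg : ∀ i, i < 8 → ev 9 R9 (W (2 * i)) ∈ H := fun i hi =>
    Subgroup.subset_closure ⟨i, hi, rfl⟩
  have e21 : ev 9 R9 [2, 1] ∈ H := hg 0 (by norm_num)
  have e23 : ev 9 R9 [2, 3] ∈ H := hg 1 (by norm_num)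
  have e24 : ev 9 R9 [2, 4] ∈ H := hg 2 (by norm_num)
  have e36 : ev 9 R9 [3, 6] ∈ H := hg 3 (by norm_num)
  have e45 : ev 9 R9 [4, 5] ∈ H := hg 4 (by norm_num)
  have e67 : ev 9 R9 [6, 7] ∈ H := hg 5 (by norm_num)
  have e10 : ev 9 R9 [1, 0] ∈ H := hg 6 (by norm_num)
  have e08 : ev 9 R9 [0, 8] ∈ H := hg 7 (by norm_num)
  have s := @EvenGen.pair_symm 9 R9 invol9 H
  have t := @EvenGen.pair_trans 9 R9 invol9 H
  have r1 : ev 9 R9 [1, 2] ∈ H := s e21
  have r3 : ev 9 R9 [3, 2] ∈ H := s e23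
  have r4 : ev 9 R9 [4, 2] ∈ H := s e24
  have r6 : ev 9 R9 [6, 2] ∈ H := t (s e36) r3
  have r5 : ev 9 R9 [5, 2] ∈ H := t (s e45) r4
  have r7 : ev 9 R9 [7, 2] ∈ H := t (s e67) r6
  have r0 : ev 9 R9 [0, 2] ∈ H := t (s e10) r1
  have r8 : ev 9 R9 [8, 2] ∈ H := t (s e08) r0
  have r2 : ev 9 R9 [2, 2] ∈ H := EvenGen.pair_self invol9 H 2
  have hr : ∀ a, a < 9 → ev 9 R9 [a, 2] ∈ H := by
    intro a ha
    interval_cases a
    · exact r0
    · exact r1
    · exact r2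
    · exact r3
    · exact r4
    · exact r5
    · exact r6
    · exact r7
    · exact r8
  exact EvenGen.eq_top_of_pairs invol9 H 2 (by norm_num) hr (R9.getLast (by decide))
    (List.getLast_mem _) (by decide +kernel) (by decide +kernel)

/-- the covering homomorphism. -/
noncomputable def piFr : F →* P9 := coverHomU 8 m3 CCF CCF 4 CCF_lt2 gF gF_pow CCF_rel2

theorem piFr_surj : Function.Surjective piFr :=
  coverHomU_surjective 8 m3 CCF CCF 4 CCF_lt2 gF gF_pow CCF_rel2 gF_closure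

end Cfsg.Agent.Helper4.F22R
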