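import Cfsg.Agent.Helper4.F22CJu0
import Cfsg.Agent.Helper4.F22CJu1
import Cfsg.Agent.Helper4.F22CJu2
import Cfsg.Agent.Helper4.F22CJu3
import Cfsg.Agent.Helper4.F22CJu4
import Cfsg.Agent.Helper4.F22CJu5
import Cfsg.Agent.Helper4.F22CJu6
import Cfsg.Agent.Helper4.F22CJu7
import Cfsg.Agent.Helper4.F22CJu8
import Cfsg.Agent.Helper4.F22CJu9
import Cfsg.Agent.Helper4.F22CJu10
import Cfsg.Agent.Helper4.F22CJu11
import Cfsg.Agent.Helper4.F22CJu12
import Cfsg.Agent.Helper4.F22CJu13
import Cfsg.Agent.Helper4.F22CJu14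
import Cfsg.Agent.Helper4.F22CJu15
import Cfsg.Agent.Helper4.F22CJu16
import Cfsg.Agent.Helper4.F22CJu17
import Cfsg.Agent.Helper4.F22CJu18
import Cfsg.Agent.Helper4.F22CJu19
import Cfsg.Agent.Helper4.F22CJu20
import Cfsg.Agent.Helper4.F22CJu21
import Cfsg.Agent.Helper4.F22CJu22
import Cfsg.Agent.Helper4.F22CJu23
import Cfsg.Agent.Helper4.F22CJu24
import Cfsg.Agent.Helper4.F22CJu25
import Cfsg.Agent.Helper4.F22CJu26
import Cfsg.Agent.Helper4.F22CJu27
import Cfsg.Agent.Helper4.F22CJu28
import Cfsg.Agent.Helper4.F22CJu29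
import Cfsg.Agent.Helper4.F22CJu30
import Cfsg.Agent.Helper4.F22CJu31
import Cfsg.Agent.Helper4.F22CJu32
import Cfsg.Agent.Helper4.F22CJu33
import Cfsg.Agent.Helper4.F22CJu34
import Cfsg.Agent.Helper4.F22CJu35
import Cfsg.Agent.Helper4.F22CJu36
import Cfsg.Agent.Helper4.F22CJu37
import Cfsg.Agent.Helper4.F22CJu38
import Cfsg.Agent.Helper4.F22CJu39
import Cfsg.Agent.Helper4.F22CJu40
import Cfsg.Agent.Helper4.F22CJu41
import Cfsg.Agent.Helper4.F22CTb0
import Cfsg.Agent.Helper4.F22CTb1
import Cfsg.Agent.Helper4.F22CTb2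
import Cfsg.Agent.Helper4.F22CTb3

/-! generated labelled Todd-Coxeter certificate, summary: F22C -/

set_option autoImplicit false
set_option maxRecDepth 1000000

namespace Cfsg.Agent.Helper4.F22C
open Cfsg.Agent.Helper4.LTW

theorem upto_0 : ∀ j, j < 0 → ∃ r, checkFact cert j r = true := fun j hj => absurd hj (by omega)

theorem upto_1 : ∀ j, j < 4000 → ∃ r, checkFact cert j r = true :=
  upto_step cert upto_0 ju_0 4000 len_0 chk_0

theorem upto_2 : ∀ j, j < 8000 → ∃ r, checkFact cert j r = true :=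
  upto_step cert upto_1 ju_1 4000 len_1 chk_1

theorem upto_3 : ∀ j, j < 12000 → ∃ r, checkFact cert j r = true :=
  upto_step cert upto_2 ju_2 4000 len_2 chk_2

theorem upto_4 : ∀ j, j < 16000 → ∃ r, checkFact cert j r = true :=
  upto_step cert upto_3 ju_3 4000 len_3 chk_3

theorem upto_5 : ∀ j, j < 20000 → ∃ r, checkFact cert j r = true :=
  upto_step cert upto_4 ju_4 4000 len_4 chk_4

theorem upto_6 : ∀ j, j < 24000 → ∃ r, checkFact cert j r = true :=
  upto_step cert upto_5 ju_5 4000 len_5 chk_5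

theorem upto_7 : ∀ j, j < 28000 → ∃ r, checkFact cert j r = true :=
  upto_step cert upto_6 ju_6 4000 len_6 chk_6

theorem upto_8 : ∀ j, j < 32000 → ∃ r, checkFact cert j r = true :=
  upto_step cert upto_7 ju_7 4000 len_7 chk_7

theorem upto_9 : ∀ j, j < 36000 → ∃ r, checkFact cert j r = true :=
  upto_step cert upto_8 ju_8 4000 len_8 chk_8

theorem upto_10 : ∀ j, j < 40000 → ∃ r, checkFact cert j r = true :=
  upto_step cert upto_9 ju_9 4000 len_9 chk_9

theorem upto_11 : ∀ j, j < 44000 → ∃ r, checkFact cert j r = true :=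
  upto_step cert upto_10 ju_10 4000 len_10 chk_10

theorem upto_12 : ∀ j, j < 48000 → ∃ r, checkFact cert j r = true :=
  upto_step cert upto_11 ju_11 4000 len_11 chk_11

theorem upto_13 : ∀ j, j < 52000 → ∃ r, checkFact cert j r = true :=
  upto_step cert upto_12 ju_12 4000 len_12 chk_12

theorem upto_14 : ∀ j, j < 56000 → ∃ r, checkFact cert j r = true :=
  upto_step cert upto_13 ju_13 4000 len_13 chk_13

theorem upto_15 : ∀ j, j < 60000 → ∃ r, checkFact cert j r = true :=
  upto_step cert upto_14 ju_14 4000 len_14 chk_14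

theorem upto_16 : ∀ j, j < 64000 → ∃ r, checkFact cert j r = true :=
  upto_step cert upto_15 ju_15 4000 len_15 chk_15

theorem upto_17 : ∀ j, j < 68000 → ∃ r, checkFact cert j r = true :=
  upto_step cert upto_16 ju_16 4000 len_16 chk_16

theorem upto_18 : ∀ j, j < 72000 → ∃ r, checkFact cert j r = true :=
  upto_step cert upto_17 ju_17 4000 len_17 chk_17

theorem upto_19 : ∀ j, j < 76000 → ∃ r, checkFact cert j r = true :=
  upto_step cert upto_18 ju_18 4000 len_18 chk_18

theorem upto_20 : ∀ j, j < 80000 → ∃ r, checkFact cert j r = true :=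
  upto_step cert upto_19 ju_19 4000 len_19 chk_19

theorem upto_21 : ∀ j, j < 84000 → ∃ r, checkFact cert j r = true :=
  upto_step cert upto_20 ju_20 4000 len_20 chk_20

theorem upto_22 : ∀ j, j < 88000 → ∃ r, checkFact cert j r = true :=
  upto_step cert upto_21 ju_21 4000 len_21 chk_21

theorem upto_23 : ∀ j, j < 92000 → ∃ r, checkFact cert j r = true :=
  upto_step cert upto_22 ju_22 4000 len_22 chk_22

theorem upto_24 : ∀ j, j < 96000 → ∃ r, checkFact cert j r = true :=
  upto_step cert upto_23 ju_23 4000 len_23 chk_23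

theorem upto_25 : ∀ j, j < 100000 → ∃ r, checkFact cert j r = true :=
  upto_step cert upto_24 ju_24 4000 len_24 chk_24

theorem upto_26 : ∀ j, j < 104000 → ∃ r, checkFact cert j r = true :=
  upto_step cert upto_25 ju_25 4000 len_25 chk_25

theorem upto_27 : ∀ j, j < 108000 → ∃ r, checkFact cert j r = true :=
  upto_step cert upto_26 ju_26 4000 len_26 chk_26

theorem upto_28 : ∀ j, j < 112000 → ∃ r, checkFact cert j r = true :=
  upto_step cert upto_27 ju_27 4000 len_27 chk_27

theorem upto_29 : ∀ j, j < 116000 → ∃ r, checkFact cert j r = true :=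
  upto_step cert upto_28 ju_28 4000 len_28 chk_28

theorem upto_30 : ∀ j, j < 120000 → ∃ r, checkFact cert j r = true :=
  upto_step cert upto_29 ju_29 4000 len_29 chk_29

theorem upto_31 : ∀ j, j < 124000 → ∃ r, checkFact cert j r = true :=
  upto_step cert upto_30 ju_30 4000 len_30 chk_30

theorem upto_32 : ∀ j, j < 128000 → ∃ r, checkFact cert j r = true :=
  upto_step cert upto_31 ju_31 4000 len_31 chk_31

theorem upto_33 : ∀ j, j < 132000 → ∃ r, checkFact cert j r = true :=
  upto_step cert upto_32 ju_32 4000 len_32 chk_32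

theorem upto_34 : ∀ j, j < 136000 → ∃ r, checkFact cert j r = true :=
  upto_step cert upto_33 ju_33 4000 len_33 chk_33

theorem upto_35 : ∀ j, j < 140000 → ∃ r, checkFact cert j r = true :=
  upto_step cert upto_34 ju_34 4000 len_34 chk_34

theorem upto_36 : ∀ j, j < 144000 → ∃ r, checkFact cert j r = true :=
  upto_step cert upto_35 ju_35 4000 len_35 chk_35

theorem upto_37 : ∀ j, j < 148000 → ∃ r, checkFact cert j r = true :=
  upto_step cert upto_36 ju_36 4000 len_36 chk_36

theorem upto_38 : ∀ j, j < 152000 → ∃ r, checkFact cert j r = true :=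
  upto_step cert upto_37 ju_37 4000 len_37 chk_37

theorem upto_39 : ∀ j, j < 156000 → ∃ r, checkFact cert j r = true :=
  upto_step cert upto_38 ju_38 4000 len_38 chk_38

theorem upto_40 : ∀ j, j < 160000 → ∃ r, checkFact cert j r = true :=
  upto_step cert upto_39 ju_39 4000 len_39 chk_39

theorem upto_41 : ∀ j, j < 164000 → ∃ r, checkFact cert j r = true :=
  upto_step cert upto_40 ju_40 4000 len_40 chk_40

theorem upto_42 : ∀ j, j < 165779 → ∃ r, checkFact cert j r = true :=
  upto_step cert upto_41 ju_41 1779 len_41 chk_41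

theorem hchk : ∀ j, j < cert.nf → ∃ r, checkFact cert j r = true := upto_42

theorem rowsto_0 : ∀ n, n < 0 → ∀ x, x < cert.k → tabEntryOK cert tab n x = true :=
  fun n hn => absurd hn (by omega)

theorem rowsto_1 : ∀ n, n < 4000 → ∀ x, x < cert.k → tabEntryOK cert tab n x = true :=
  rows_step cert tab rowsto_0 4000 rows_0

theorem rowsto_2 : ∀ n, n < 8000 → ∀ x, x < cert.k → tabEntryOK cert tab n x = true :=
  rows_step cert tab rowsto_1 4000 rows_1

theorem rowsto_3 : ∀ n, n < 12000 → ∀ x, x < cert.k → tabEntryOK cert tab n x = true :=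
  rows_step cert tab rowsto_2 4000 rows_2

theorem rowsto_4 : ∀ n, n < 14080 → ∀ x, x < cert.k → tabEntryOK cert tab n x = true :=
  rows_step cert tab rowsto_3 2080 rows_3

theorem hT : ∀ n, n < tab.N → ∀ x, x < cert.k → tabEntryOK cert tab n x = true := rowsto_4

theorem hjs : ∀ j ∈ js, relFactOK cert j = true := by decide +kernel

theorem h0 : ordOK cert js cs0 0 1 = true := by decide +kernel

theorem hgs : ∀ i, i < 6 → genOK cert js (css.getD i []) i 0 (as_.getD i 0) = true := by decide +kernel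

end Cfsg.Agent.Helper4.F22C
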