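import Mathlib
import Cfsg.Agent.Helper4.F22TDef
import Cfsg.Agent.Helper4.TowerW
import Cfsg.Agent.Helper4.F22CSum
import Cfsg.Agent.Helper4.O73MCov

/-!
# The covering group of exponent 45 of `Fi₂₂` on nine involutions: the order bound

The covering group of exponent 45 of `O₇(3)` on eight involutions has order dividing
`3 * |O₇(3)|`, the Schur multiplier of `O₇(3)` being cyclic of order 6 (`O73M.main`); a labelled
Todd–Coxeter certificate over its image (14080 cosets, all the labels in the image) bounds the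
covering group of `Fi₂₂` by `3 * |Fi₂₂|`.
-/

set_option autoImplicit false

namespace Cfsg.Agent.Helper4.F22T

open Cfsg Cfsg.Agent.Helper5.StemP Cfsg.Agent.Helper5.LP Cfsg.Agent.Helper4.LTW
  Cfsg.Agent.Helper4.CovCox
open Cfsg.Agent.Helper5.Fi22LP (R8 R9)

theorem R8_eq : R8 = Cfsg.Agent.Helper5.O73LP.R8 := by decide +kernel

theorem R8_len : ∀ r ∈ R8, 2 ≤ r.length := by decide +kernel

theorem R8_sq : ∀ r ∈ R8, r.length = 2 → ∃ c, r = [c, c] := by
  intro r hr h2
  have h : ∀ r ∈ R8, r.length = 2 → r = [r.headD 0, r.headD 0] := by decide +kernel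
  exact ⟨_, h r hr h2⟩

instance finK : Finite (LPG 8 R8) := Cfsg.Agent.Helper5.Fi22LP.ubB.1

theorem CL2_lt : ∀ r ∈ CL ++ CL, ∀ c ∈ r, c < 2 * 8 := by
  intro r hr
  rcases List.mem_append.mp hr with h | h <;> exact CL_lt r h

theorem CL2_rel : ∀ r ∈ CL ++ CL, (r.map (lval (gen 8 R8))).prod = 1 := by
  intro r hr
  rcases List.mem_append.mp hr with h | h <;> exact cwords_rel 8 R8 r h

theorem main8 : Cfsg.HasCyclicSchurMultiplier (LPG 8 R8) 6 := by
  have h := Cfsg.Agent.Helper4.O73M.main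
  unfold Cfsg.Agent.Helper4.O73M.P at h
  rw [← R8_eq] at h
  exact h

theorem card8 : Nat.card (LPG 8 R8) = 4585351680 := by
  have h := Cfsg.Agent.Helper4.O73M.card_P
  unfold Cfsg.Agent.Helper4.O73M.P at h
  rw [← R8_eq] at h
  exact h

/-- the covering group of exponent 45 of `O₇(3)` on eight involutions. -/
theorem card_K : Finite (CovG 8 m2 CL CL 45) ∧ Nat.card (CovG 8 m2 CL CL 45) ≤ 13756055040 := by
  have h := Cfsg.Agent.Helper4.CovFin.card_dvd_of_cyclic (P := LPG 8 R8) 8 m2 CL 45 (by norm_num)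
    CL_lt CL2_lt (gen 8 R8) (gen_closure 8 R8) (gen_pow 8 R8 invol8) CL2_rel
    (cov_one_le 8 R8 letters8 R8_len R8_sq) 2 (fun i _ => dvd_refl 2) (by decide) 6 (by norm_num)
    main8
  refine ⟨h.1, ?_⟩
  have : Finite (CovG 8 m2 CL CL 45) := h.1
  have h2 := Nat.le_of_dvd (by rw [card8]; norm_num) h.2
  rw [card8] at h2
  exact h2.trans (by decide)

theorem words_lt_C : ∀ wi, ∀ c ∈ F22C.cert.W wi, c < 2 * 9 := by
  intro wi c hc
  have h : ∀ w ∈ F22C.words, ∀ c ∈ w, c < 18 := by decide +kernel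
  change c ∈ F22C.words.getD wi [] at hc
  by_cases hwi : wi < F22C.words.length
  · rw [List.getD_eq_getElem _ _ hwi] at hc
    exact h _ (List.getElem_mem hwi) c hc
  · rw [List.getD_eq_default _ _ (by omega)] at hc
    simp at hc

set_option maxRecDepth 1000000 in
theorem wordOK_C : ∀ wi, wi < F22C.cert.nrel →
    wordOK2 (coverRels 9 m2 (EX ++ CL) (EX ++ CL) 45) (EX ++ CL) EX.length (F22C.cert.W wi)
      (F22C.cert.δ wi) (F22C.origs.getD wi 0) = true := by decide +kernel

theorem hsubW_C : ∀ wi, F22C.cert.nrel ≤ wi → wi < F22C.cert.nw →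
    ∃ c, c < 2 * 8 ∧ F22C.cert.W wi = [c] := by
  intro wi h1 h2
  have h1' : 129 ≤ wi := h1
  have h2' : wi < 137 := h2
  interval_cases wi
  · exact ⟨0, by norm_num, by decide +kernel⟩
  · exact ⟨2, by norm_num, by decide +kernel⟩
  · exact ⟨4, by norm_num, by decide +kernel⟩
  · exact ⟨6, by norm_num, by decide +kernel⟩
  · exact ⟨8, by norm_num, by decide +kernel⟩
  · exact ⟨10, by norm_num, by decide +kernel⟩
  · exact ⟨12, by norm_num, by decide +kernel⟩
  · exact ⟨14, by norm_num, by decide +kernel⟩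

/-- the covering group of exponent 45 of `Fi₂₂` on nine involutions. -/
theorem card_F : Finite (CovG 9 m2 CC CC 45) ∧
    Nat.card (CovG 9 m2 CC CC 45) ≤ 64561751654400 * 3 := by
  have h := TowerW.step 8 9 m2 CL EX 45 (by norm_num) CL_lt EX_lt (by norm_num) (by decide)
    13756055040 card_K F22C.cert rfl rfl rfl words_lt_C
    (fun wi => F22C.origs.getD wi 0) wordOK_C hsubW_C F22C.hchk F22C.tab (by decide +kernel)
    (by decide) F22C.hT F22C.js F22C.hjs 0 1 (by norm_num) (by norm_num) F22C.cs0 F22C.h0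
    (fun i => F22C.as_.getD i 0) (fun i => F22C.css.getD i []) F22C.hgs
  have hN : F22C.tab.N = 14080 := rfl
  rw [hN] at h
  exact ⟨h.1, h.2.trans (by decide)⟩

end Cfsg.Agent.Helper4.F22T
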