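import Mathlib
import Cfsg.Agent.Helper4.F22TTow
import Cfsg.Agent.Helper4.F22PGen
import Cfsg.Agent.Helper4.F22PWSum

/-!
# `Fi₂₂` on nine involutions: the covering homomorphism of exponent 45
-/

set_option autoImplicit false

namespace Cfsg.Agent.Helper4.F22T

open Cfsg Cfsg.Agent.Helper5.LP Cfsg.Agent.Helper5.StemP Cfsg.Agent.Helper5.TC Cfsg.Agent.Helper5.TCI
  Cfsg.Agent.Helper4.CovCox
open Cfsg.Agent.Helper5.Fi22LP (R8 R9)
open Cfsg.Agent.Helper5
open Cfsg.Agent.Helper4.F22P (P9)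

theorem R8_sub : ∀ l ∈ R8, l ∈ R9 := by decide +kernel

theorem CL_rel9 : ∀ r ∈ CL, (r.map (lval (gen 9 R9))).prod = 1 := by
  intro r hr
  unfold CL cwords at hr
  obtain ⟨l, hl, rfl⟩ := List.mem_map.mp hr
  rw [prod_dbl]
  exact ev_rel (R8_sub l (List.mem_filter.mp hl).1)

theorem EX0_lt : ∀ l ∈ EX0, ∀ c ∈ l, c < 9 := by decide

theorem EX0_fix : ∀ l ∈ EX0, ∀ v, v < 14080 → actL FiXATC.ctF l v = v := by
  intro l hl
  have h2 : l ∈ R9 ∨ l ∈ [F22PW.w_0, F22PW.w_1, F22PW.w_2, F22PW.w_3] := by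
    revert l
    decide +kernel
  rcases h2 with h | h
  · exact F22P.hR9 l h
  · simp only [List.mem_cons, List.not_mem_nil, or_false] at h
    rcases h with rfl | rfl | rfl | rfl
    · exact F22PW.fix_0
    · exact F22PW.fix_1
    · exact F22PW.fix_2
    · exact F22PW.fix_3

theorem EX_rel9 : ∀ r ∈ EX, (r.map (lval (gen 9 R9))).prod = 1 := by
  intro r hr
  unfold EX at hr
  obtain ⟨l, hl, rfl⟩ := List.mem_map.mp hr
  rw [prod_dbl]
  exact F22P.ev_eq_one l (EX0_lt l hl) (EX0_fix l hl)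

theorem CC_lt : ∀ r ∈ CC, ∀ c ∈ r, c < 2 * 9 :=
  Cfsg.Agent.Helper4.Tower.CC_lt 8 9 CL EX (by norm_num) CL_lt EX_lt

theorem CC_rel9 : ∀ r ∈ CC, (r.map (lval (gen 9 R9))).prod = 1 := by
  intro r hr
  rcases List.mem_append.mp hr with h | h
  · exact EX_rel9 r h
  · exact CL_rel9 r h

theorem CC_lt2 : ∀ r ∈ CC ++ CC, ∀ c ∈ r, c < 2 * 9 := by
  intro r hr
  rcases List.mem_append.mp hr with h | h <;> exact CC_lt r h

theorem CC_rel2 : ∀ r ∈ CC ++ CC, (r.map (lval (gen 9 R9))).prod = 1 := by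
  intro r hr
  rcases List.mem_append.mp hr with h | h <;> exact CC_rel9 r h

/-- the covering homomorphism of exponent 45. -/
noncomputable def piT : CovG 9 m2 CC CC 45 →* P9 :=
  coverHomU 9 m2 CC CC 45 CC_lt2 (gen 9 R9) (gen_pow 9 R9 invol9) CC_rel2

theorem piT_surj : Function.Surjective piT :=
  coverHomU_surjective 9 m2 CC CC 45 CC_lt2 (gen 9 R9) (gen_pow 9 R9 invol9) CC_rel2
    (gen_closure 9 R9)

end Cfsg.Agent.Helper4.F22T
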