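import Mathlib
import Cfsg.Agent.Helper5.StemPM

/-!
# The kernel of a stem extension and three quotients: divisibility

`card_ker_dvd_mul3`: the order of the kernel of a stem extension divides the product of the orders
of the kernels of three quotients (`Helper5.StemP.card_ker_le_mul3` with divisibility).
-/

set_option autoImplicit false

namespace Cfsg.Agent.Helper4.StemDvd

open Cfsg.Agent.Helper5.StemP

universe u v

variable {Γ : Type u} {G : Type v} [Group Γ] [Group G]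

theorem card_ker_dvd_mul3 (σ : Γ →* G) (hc : σ.ker ≤ Subgroup.center Γ) (t1 t2 t3 : ℕ)
    (h : ∀ z ∈ σ.ker, z ^ Nat.gcd (Nat.gcd t1 t2) t3 = 1 → z = 1) :
    Nat.card σ.ker ∣ Nat.card (qmap σ hc t1).ker * Nat.card (qmap σ hc t2).ker *
      Nat.card (qmap σ hc t3).ker := by
  rw [← Nat.card_prod, ← Nat.card_prod]
  let Φ : σ.ker →* ((qmap σ hc t1).ker × (qmap σ hc t2).ker) × (qmap σ hc t3).ker :=
    { toFun := fun z => (((⟨QuotientGroup.mk z.1, z.2⟩ : (qmap σ hc t1).ker),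
        (⟨QuotientGroup.mk z.1, z.2⟩ : (qmap σ hc t2).ker)),
        (⟨QuotientGroup.mk z.1, z.2⟩ : (qmap σ hc t3).ker))
      map_one' := rfl
      map_mul' := fun _ _ => rfl }
  apply Subgroup.card_dvd_of_injective Φ
  intro a b hab
  have h1 : (QuotientGroup.mk a.1 : Γ ⧸ torPart σ hc t1) = QuotientGroup.mk b.1 :=
    congrArg (fun p => (p.1.1 : Γ ⧸ torPart σ hc t1)) hab
  have h2 : (QuotientGroup.mk a.1 : Γ ⧸ torPart σ hc t2) = QuotientGroup.mk b.1 :=
    congrArg (fun p => (p.1.2 : Γ ⧸ torPart σ hc t2)) hab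
  have h3 : (QuotientGroup.mk a.1 : Γ ⧸ torPart σ hc t3) = QuotientGroup.mk b.1 :=
    congrArg (fun p => (p.2 : Γ ⧸ torPart σ hc t3)) hab
  rw [QuotientGroup.eq] at h1 h2 h3
  have h4 : (a.1⁻¹ * b.1) ^ Nat.gcd t1 t2 = 1 := pow_gcd_eq_one.mpr ⟨h1.2, h2.2⟩
  have h5 : (a.1⁻¹ * b.1) ^ Nat.gcd (Nat.gcd t1 t2) t3 = 1 := pow_gcd_eq_one.mpr ⟨h4, h3.2⟩
  have h6 := h _ h1.1 h5
  apply Subtype.ext
  exact inv_mul_eq_one.mp h6

/-- a finite group all of whose elements are killed by a power of the prime `p` has order prime to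
every other prime. -/
theorem not_dvd_card_of_pow {H : Type*} [Group H] [Finite H] (p q s : ℕ) (hp : p.Prime)
    (hq : q.Prime) (hne : q ≠ p) (hs : ∀ y : H, y ^ p ^ s = 1) : ¬ q ∣ Nat.card H := by
  intro hd
  have : Fact q.Prime := ⟨hq⟩
  obtain ⟨x, hx⟩ := exists_prime_orderOf_dvd_card' q hd
  have h1 : orderOf x ∣ p ^ s := orderOf_dvd_of_pow_eq_one (hs x)
  rw [hx] at h1
  have h2 := (Nat.prime_dvd_prime_iff_eq hq hp).mp (hq.dvd_of_dvd_pow h1)
  exact hne h2

end Cfsg.Agent.Helper4.StemDvd
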