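import Mathlib
import Cfsg.Agent.Helper4.F22TGen
import Cfsg.Agent.Helper4.F22RGenF
import Cfsg.Agent.Helper4.F22FTow
import Cfsg.Agent.Helper4.StemDvd
import Cfsg.Agent.Helper5.Fi22Iso
import Cfsg.Agent.Helper5.StemPL
import Cfsg.Agent.Helper5.StemPH
import Cfsg.Agent.Helper5.StemPM
import Cfsg.Agent.Helper5.StemPK
import Cfsg.Agent.Helper5.StemPI

/-!
# The kernel of a stem extension of `Fi₂₂` has order dividing 6

From the order bounds of two covering groups of the presented group `P9 = LPG 9 R9`: of exponent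
4 on eight elements of order 3 (order at most `2 * |Fi₂₂|`) and of exponent 45 on the nine
involutions (order at most `3 * |Fi₂₂|`); the primes 7, 11, 13 divide the order only once.  No
model of a covering group is needed for this half.
-/

set_option autoImplicit false

namespace Cfsg.Agent.Helper4.F22M

open Cfsg Cfsg.Agent.Helper5.StemP Cfsg.Agent.Helper5.LP Cfsg.Agent.Helper4.CovCox
open Cfsg.Agent.Helper5.Fi22LP (R9)
open Cfsg.Agent.Helper4.F22P (P9 card_P9)
open Cfsg.Agent.Helper4.F22R (F CCF EXF CL7 m3 gF piFr)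
open Cfsg.Agent.Helper4.F22T (CC piT)

instance finF : Finite F := F22R.card_F.1

/-- the covering group of exponent 45. -/
abbrev T : Type := CovG 9 m2 CC CC 45

instance finT : Finite T := F22T.card_F.1

theorem card_kerA_le : Nat.card piFr.ker ≤ 2 := by
  have hmul := card_eq_card_mul_ker piFr F22R.piFr_surj
  have h := F22R.card_F.2
  rw [hmul, card_P9] at h
  exact Nat.le_of_mul_le_mul_left h (by norm_num)

theorem card_kerB_le : Nat.card piT.ker ≤ 3 := by
  have hmul := card_eq_card_mul_ker piT F22T.piT_surj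
  have h := F22T.card_F.2
  rw [hmul, card_P9] at h
  exact Nat.le_of_mul_le_mul_left h (by norm_num)

theorem card_F_dvd : Nat.card F ∣ Nat.card P9 * 2 := by
  rw [card_eq_card_mul_ker piFr F22R.piFr_surj]
  apply Nat.mul_dvd_mul_left
  have h := card_kerA_le
  have hpos : 0 < Nat.card piFr.ker := Nat.card_pos
  interval_cases Nat.card piFr.ker <;> decide

theorem card_T_dvd : Nat.card T ∣ Nat.card P9 * 6 := by
  rw [card_eq_card_mul_ker piT F22T.piT_surj]
  apply Nat.mul_dvd_mul_left
  have h := card_kerB_le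
  have hpos : 0 < Nat.card piT.ker := Nat.card_pos
  interval_cases Nat.card piT.ker <;> decide

theorem card_P9_eq2 : Nat.card P9 = 2 ^ 17 * 492567075 := by rw [card_P9]; norm_num
theorem card_P9_eq3 : Nat.card P9 = 3 ^ 9 * 3280076800 := by rw [card_P9]; norm_num
theorem card_P9_eq5 : Nat.card P9 = 5 ^ 2 * 2582470066176 := by rw [card_P9]; norm_num

/-- **the kernel of a finite stem extension of the presented group has order dividing 6.** -/
theorem card_ker_dvd (Γ : Type) [Group Γ] [Finite Γ] (σ : Γ →* P9)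
    (hσ : Cfsg.IsStemExtension σ) : Nat.card σ.ker ∣ 6 := by
  have hc := hσ.2.1
  have : Finite (LPG (2 * 8) (coverRels 8 m3 CCF CCF 4)) := F22R.card_F.1
  have : Finite (LPG (2 * 9) (coverRels 9 m2 CC CC 45)) := F22T.card_F.1
  have hcardA : Nat.card (LPG (2 * 8) (coverRels 8 m3 CCF CCF 4)) ∣ Nat.card P9 * 2 := card_F_dvd
  have hcardB : Nat.card (LPG (2 * 9) (coverRels 9 m2 CC CC 45)) ∣ Nat.card P9 * 6 := card_T_dvd
  have h2 : Nat.card (qmap σ hc 492567075).ker ∣ 2 :=
    card_qmap_ker_dvd_of_pow_dvd σ hσ hc 2 Nat.prime_two 17 2 492567075 4 (by norm_num)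
      card_P9_eq2 8 m3 CCF CCF F22R.CCF_lt2 gF F22R.gF_closure
      (fun i hi => ⟨F22R.gF_pow i hi, by change Nat.Coprime 3 (2 ^ 17); norm_num⟩) F22R.CCF_rel2 2 hcardA (by decide)
  have h3 : Nat.card (qmap σ hc 3280076800).ker ∣ 6 :=
    card_qmap_ker_dvd_of_pow_dvd σ hσ hc 3 Nat.prime_three 9 2 3280076800 45 (by norm_num)
      card_P9_eq3 9 m2 CC CC F22T.CC_lt2 (gen 9 R9) (gen_closure 9 R9)
      (fun i hi => ⟨gen_pow 9 R9 F22T.invol9 i hi, by change Nat.Coprime 2 (3 ^ 9); norm_num⟩) F22T.CC_rel2 6 hcardB (by decide)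
  have h5 : Nat.card (qmap σ hc 2582470066176).ker ∣ 6 :=
    card_qmap_ker_dvd_of_pow_dvd σ hσ hc 5 Nat.prime_five 2 1 2582470066176 45 (by norm_num)
      card_P9_eq5 9 m2 CC CC F22T.CC_lt2 (gen 9 R9) (gen_closure 9 R9)
      (fun i hi => ⟨gen_pow 9 R9 F22T.invol9 i hi, by change Nat.Coprime 2 (5 ^ 2); norm_num⟩) F22T.CC_rel2 6 hcardB (by decide)
  have h3' : Nat.card (qmap σ hc 3280076800).ker ∣ 3 := by
    have hn2 : ¬ 2 ∣ Nat.card (qmap σ hc 3280076800).ker := by
      apply StemDvd.not_dvd_card_of_pow 3 2 9 Nat.prime_three Nat.prime_two (by decide)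
      intro y
      have := qmap_ker_pow σ hσ hc (s := 3 ^ 9) (t := 3280076800) card_P9_eq3 y.1 y.2
      exact Subtype.ext this
    have hle : Nat.card (qmap σ hc 3280076800).ker ≤ 6 := Nat.le_of_dvd (by norm_num) h3
    have hpos : 0 < Nat.card (qmap σ hc 3280076800).ker := Nat.card_pos
    interval_cases hcd : Nat.card (qmap σ hc 3280076800).ker
    · decide
    · exact absurd (dvd_refl 2) hn2
    · decide
    · exact absurd (by decide : 2 ∣ 4) hn2
    · exact absurd h3 (by decide)
    · exact absurd (by decide : 2 ∣ 6) hn2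
  have h5' : Nat.card (qmap σ hc 2582470066176).ker = 1 := by
    have hpow : ∀ y : (qmap σ hc 2582470066176).ker, y ^ 5 ^ 2 = 1 := by
      intro y
      have := qmap_ker_pow σ hσ hc (s := 5 ^ 2) (t := 2582470066176) card_P9_eq5 y.1 y.2
      exact Subtype.ext this
    have hn2 : ¬ 2 ∣ Nat.card (qmap σ hc 2582470066176).ker :=
      StemDvd.not_dvd_card_of_pow 5 2 2 Nat.prime_five Nat.prime_two (by decide) hpow
    have hn3 : ¬ 3 ∣ Nat.card (qmap σ hc 2582470066176).ker :=
      StemDvd.not_dvd_card_of_pow 5 3 2 Nat.prime_five Nat.prime_three (by decide) hpow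
    have hle : Nat.card (qmap σ hc 2582470066176).ker ≤ 6 := Nat.le_of_dvd (by norm_num) h5
    have hpos : 0 < Nat.card (qmap σ hc 2582470066176).ker := Nat.card_pos
    interval_cases hcd : Nat.card (qmap σ hc 2582470066176).ker
    · rfl
    · exact absurd (dvd_refl 2) hn2
    · exact absurd (dvd_refl 3) hn3
    · exact absurd (by decide : 2 ∣ 4) hn2
    · exact absurd h5 (by decide)
    · exact absurd (by decide : 2 ∣ 6) hn2
  have h7 : ∀ z ∈ σ.ker, z ^ Nat.gcd (Nat.gcd 492567075 3280076800) 2582470066176 = 1 → z = 1 := by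
    intro z hz hz1
    have e1001 : Nat.gcd (Nat.gcd 492567075 3280076800) 2582470066176 = 7 * (11 * 13) := by decide
    rw [e1001] at hz1
    refine eq_one_of_pow_eq_one σ hσ (7 * (11 * 13)) ?_ z hz hz1
    intro q hq hqd
    rw [card_P9]
    rcases (Nat.Prime.dvd_mul hq).mp hqd with h | h
    · rw [(Nat.prime_dvd_prime_iff_eq hq (by norm_num)).mp h]
      decide
    · rcases (Nat.Prime.dvd_mul hq).mp h with h | h
      · rw [(Nat.prime_dvd_prime_iff_eq hq (by norm_num)).mp h]
        decide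
      · rw [(Nat.prime_dvd_prime_iff_eq hq (by norm_num)).mp h]
        decide
  have h8 := StemDvd.card_ker_dvd_mul3 σ hc 492567075 3280076800 2582470066176 h7
  rw [h5', mul_one] at h8
  exact h8.trans (Nat.mul_dvd_mul h2 h3')

/-- **the kernel of a finite stem extension of `Fi₂₂` has order dividing 6.** -/
theorem card_ker_dvd_Fi22 (Δ : Type) [Group Δ] [Finite Δ] (ρ : Δ →* Cfsg.Spor.Fi22)
    (hρ : Cfsg.IsStemExtension ρ) : Nat.card ρ.ker ∣ 6 := by
  obtain ⟨e⟩ := Cfsg.Agent.Helper5.Fi22LP.spor_equiv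
  obtain ⟨hs, hk⟩ := isStem_comp_equiv ρ hρ e
  have h := card_ker_dvd Δ (e.toMonoidHom.comp ρ) hs
  rw [hk] at h
  exact h

end Cfsg.Agent.Helper4.F22M
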