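import Cfsg.Agent.Helper4.F22MADat

/-! generated permutation model, checks: F22MA -/

set_option autoImplicit false
set_option Elab.async false
set_option maxRecDepth 1000000

namespace Cfsg.Agent.Helper4.F22MA
open Cfsg.Agent.Helper5.TC Cfsg.Agent.Helper5.TCI Cfsg.Agent.Helper5.LP

theorem fixc_10_0 : fixPtsF W_10 20000 0 = true := by decide +kernel

theorem fixc_22_19998 : fixPtsF W_22 3333 19998 = true := by decide +kernel

theorem fixc_12_15528 : fixPtsF W_12 1941 15528 = true := by decide +kernel

theorem fixc_19_0 : fixPtsF W_19 28160 0 = true := by decide +kernel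

theorem fixc_26_0 : fixPtsF W_26 28160 0 = true := by decide +kernel

theorem fixc_14_25530 : fixPtsF W_14 2630 25530 = true := by decide +kernel

theorem fixc_7_0 : fixPtsF W_7 28160 0 = true := by decide +kernel

theorem fixc_22_26664 : fixPtsF W_22 1496 26664 = true := by decide +kernel

theorem fixc_10_20000 : fixPtsF W_10 8160 20000 = true := by decide +kernel

theorem invc_16_0 : invRowFI mT 28160 16 17 28160 0 = true := by decide +kernel

end Cfsg.Agent.Helper4.F22MA
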