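import Cfsg.Agent.Helper4.F22MADat

/-! generated permutation model, checks: F22MA -/

set_option autoImplicit false
set_option Elab.async false
set_option maxRecDepth 1000000

namespace Cfsg.Agent.Helper4.F22MA
open Cfsg.Agent.Helper5.TC Cfsg.Agent.Helper5.TCI Cfsg.Agent.Helper5.LP

theorem fixc_30_0 : fixPtsF W_30 22222 0 = true := by decide +kernel

theorem fixc_22_13332 : fixPtsF W_22 3333 13332 = true := by decide +kernel

theorem fixc_12_11646 : fixPtsF W_12 1941 11646 = true := by decide +kernel

theorem fixc_17_0 : fixPtsF W_17 28160 0 = true := by decide +kernel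

theorem fixc_24_0 : fixPtsF W_24 28160 0 = true := by decide +kernel

theorem fixc_37_0 : fixPtsF W_37 28160 0 = true := by decide +kernel

theorem fixc_40_0 : fixPtsF W_40 28160 0 = true := by decide +kernel

theorem fixc_48_0 : fixPtsF W_48 28160 0 = true := by decide +kernel

theorem invc_8_0 : invRowFI mT 28160 8 9 28160 0 = true := by decide +kernel

theorem fixc_49_0 : fixPtsF W_49 28160 0 = true := by decide +kernel

end Cfsg.Agent.Helper4.F22MA
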