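import Cfsg.Agent.Helper4.F22MADat

/-! generated permutation model, checks: F22MA -/

set_option autoImplicit false
set_option Elab.async false
set_option maxRecDepth 1000000

namespace Cfsg.Agent.Helper4.F22MA
open Cfsg.Agent.Helper5.TC Cfsg.Agent.Helper5.TCI Cfsg.Agent.Helper5.LP

theorem fixc_11_0 : fixPtsF W_11 16666 0 = true := by decide +kernel

theorem fixc_22_9999 : fixPtsF W_22 3333 9999 = true := by decide +kernel

theorem fixc_12_9705 : fixPtsF W_12 1941 9705 = true := by decide +kernel

theorem fixc_16_0 : fixPtsF W_16 28160 0 = true := by decide +kernel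

theorem fixc_21_0 : fixPtsF W_21 28160 0 = true := by decide +kernel

theorem fixc_36_0 : fixPtsF W_36 28160 0 = true := by decide +kernel

theorem fixc_39_0 : fixPtsF W_39 28160 0 = true := by decide +kernel

theorem fixc_47_0 : fixPtsF W_47 28160 0 = true := by decide +kernel

theorem invc_7_0 : invRowFI mT 28160 7 6 28160 0 = true := by decide +kernel

theorem invc_17_0 : invRowFI mT 28160 17 16 28160 0 = true := by decide +kernel

end Cfsg.Agent.Helper4.F22MA
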