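import Cfsg.Agent.Helper4.F22MADat

/-! generated permutation model, checks: F22MA -/

set_option autoImplicit false
set_option Elab.async false
set_option maxRecDepth 1000000

namespace Cfsg.Agent.Helper4.F22MA
open Cfsg.Agent.Helper5.TC Cfsg.Agent.Helper5.TCI Cfsg.Agent.Helper5.LP

theorem fixc_14_0 : fixPtsF W_14 4255 0 = true := by decide +kernel

theorem fixc_13_0 : fixPtsF W_13 9090 0 = true := by decide +kernel

theorem fixc_22_23331 : fixPtsF W_22 3333 23331 = true := by decide +kernel

theorem fixc_20_0 : fixPtsF W_20 28160 0 = true := by decide +kernel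

theorem fixc_27_0 : fixPtsF W_27 28160 0 = true := by decide +kernel

theorem fixc_0_0 : fixPtsF W_0 28160 0 = true := by decide +kernel

theorem fixc_6_0 : fixPtsF W_6 28160 0 = true := by decide +kernel

theorem fixc_12_27174 : fixPtsF W_12 986 27174 = true := by decide +kernel

theorem invc_0_0 : invRowFI mT 28160 0 1 28160 0 = true := by decide +kernel

theorem invc_9_0 : invRowFI mT 28160 9 8 28160 0 = true := by decide +kernel

theorem fixc_30_22222 : fixPtsF W_30 5938 22222 = true := by decide +kernel

end Cfsg.Agent.Helper4.F22MA
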