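import Cfsg.Agent.Helper4.F22MADat

/-! generated permutation model, checks: F22MA -/

set_option autoImplicit false
set_option Elab.async false
set_option maxRecDepth 1000000

namespace Cfsg.Agent.Helper4.F22MA
open Cfsg.Agent.Helper5.TC Cfsg.Agent.Helper5.TCI Cfsg.Agent.Helper5.LP

theorem fixc_14_4255 : fixPtsF W_14 4255 4255 = true := by decide +kernel

theorem fixc_13_9090 : fixPtsF W_13 9090 9090 = true := by decide +kernel

theorem fixc_12_0 : fixPtsF W_12 1941 0 = true := by decide +kernel

theorem fixc_12_17469 : fixPtsF W_12 1941 17469 = true := by decide +kernel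

theorem fixc_28_0 : fixPtsF W_28 28160 0 = true := by decide +kernel

theorem fixc_1_0 : fixPtsF W_1 28160 0 = true := by decide +kernel

theorem fixc_15_0 : fixPtsF W_15 28160 0 = true := by decide +kernel

theorem fixc_42_0 : fixPtsF W_42 28160 0 = true := by decide +kernel

theorem invc_2_0 : invRowFI mT 28160 2 3 28160 0 = true := by decide +kernel

theorem invc_11_0 : invRowFI mT 28160 11 10 28160 0 = true := by decide +kernel

theorem fixc_13_27270 : fixPtsF W_13 890 27270 = true := by decide +kernel

end Cfsg.Agent.Helper4.F22MA
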