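import Cfsg.Agent.Helper4.F22MADat

/-! generated permutation model, checks: F22MA -/

set_option autoImplicit false
set_option Elab.async false
set_option maxRecDepth 1000000

namespace Cfsg.Agent.Helper4.F22MA
open Cfsg.Agent.Helper5.TC Cfsg.Agent.Helper5.TCI Cfsg.Agent.Helper5.LP

theorem fixc_14_8510 : fixPtsF W_14 4255 8510 = true := by decide +kernel

theorem fixc_13_18180 : fixPtsF W_13 9090 18180 = true := by decide +kernel

theorem fixc_12_1941 : fixPtsF W_12 1941 1941 = true := by decide +kernel

theorem fixc_12_19410 : fixPtsF W_12 1941 19410 = true := by decide +kernel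

theorem fixc_29_0 : fixPtsF W_29 28160 0 = true := by decide +kernel

theorem fixc_2_0 : fixPtsF W_2 28160 0 = true := by decide +kernel

theorem fixc_23_0 : fixPtsF W_23 28160 0 = true := by decide +kernel

theorem fixc_43_0 : fixPtsF W_43 28160 0 = true := by decide +kernel

theorem invc_3_0 : invRowFI mT 28160 3 2 28160 0 = true := by decide +kernel

theorem invc_12_0 : invRowFI mT 28160 12 13 28160 0 = true := by decide +kernel

end Cfsg.Agent.Helper4.F22MA
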