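import Cfsg.Agent.Helper4.F22MADat

/-! generated permutation model, checks: F22MA -/

set_option autoImplicit false
set_option Elab.async false
set_option maxRecDepth 1000000

namespace Cfsg.Agent.Helper4.F22MA
open Cfsg.Agent.Helper5.TC Cfsg.Agent.Helper5.TCI Cfsg.Agent.Helper5.LP

theorem fixc_14_12765 : fixPtsF W_14 4255 12765 = true := by decide +kernel

theorem fixc_22_0 : fixPtsF W_22 3333 0 = true := by decide +kernel

theorem fixc_12_3882 : fixPtsF W_12 1941 3882 = true := by decide +kernel

theorem fixc_12_21351 : fixPtsF W_12 1941 21351 = true := by decide +kernel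

theorem fixc_32_0 : fixPtsF W_32 28160 0 = true := by decide +kernel

theorem fixc_3_0 : fixPtsF W_3 28160 0 = true := by decide +kernel

theorem fixc_31_0 : fixPtsF W_31 28160 0 = true := by decide +kernel

theorem fixc_44_0 : fixPtsF W_44 28160 0 = true := by decide +kernel

theorem invc_4_0 : invRowFI mT 28160 4 5 28160 0 = true := by decide +kernel

theorem invc_13_0 : invRowFI mT 28160 13 12 28160 0 = true := by decide +kernel

end Cfsg.Agent.Helper4.F22MA
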