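import Cfsg.Agent.Helper4.F22MADat

/-! generated permutation model, checks: F22MA -/

set_option autoImplicit false
set_option Elab.async false
set_option maxRecDepth 1000000

namespace Cfsg.Agent.Helper4.F22MA
open Cfsg.Agent.Helper5.TC Cfsg.Agent.Helper5.TCI Cfsg.Agent.Helper5.LP

theorem fixc_14_17020 : fixPtsF W_14 4255 17020 = true := by decide +kernel

theorem fixc_22_3333 : fixPtsF W_22 3333 3333 = true := by decide +kernel

theorem fixc_12_5823 : fixPtsF W_12 1941 5823 = true := by decide +kernel

theorem fixc_12_23292 : fixPtsF W_12 1941 23292 = true := by decide +kernel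

theorem fixc_33_0 : fixPtsF W_33 28160 0 = true := by decide +kernel

theorem fixc_4_0 : fixPtsF W_4 28160 0 = true := by decide +kernel

theorem fixc_35_0 : fixPtsF W_35 28160 0 = true := by decide +kernel

theorem fixc_45_0 : fixPtsF W_45 28160 0 = true := by decide +kernel

theorem invc_5_0 : invRowFI mT 28160 5 4 28160 0 = true := by decide +kernel

theorem invc_14_0 : invRowFI mT 28160 14 15 28160 0 = true := by decide +kernel

end Cfsg.Agent.Helper4.F22MA
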