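import Cfsg.Agent.Helper4.F22MADat

/-! generated permutation model, checks: F22MA -/

set_option autoImplicit false
set_option Elab.async false
set_option maxRecDepth 1000000

namespace Cfsg.Agent.Helper4.F22MA
open Cfsg.Agent.Helper5.TC Cfsg.Agent.Helper5.TCI Cfsg.Agent.Helper5.LP

theorem fixc_14_21275 : fixPtsF W_14 4255 21275 = true := by decide +kernel

theorem fixc_22_6666 : fixPtsF W_22 3333 6666 = true := by decide +kernel

theorem fixc_12_7764 : fixPtsF W_12 1941 7764 = true := by decide +kernel

theorem fixc_12_25233 : fixPtsF W_12 1941 25233 = true := by decide +kernel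

theorem fixc_34_0 : fixPtsF W_34 28160 0 = true := by decide +kernel

theorem fixc_5_0 : fixPtsF W_5 28160 0 = true := by decide +kernel

theorem fixc_38_0 : fixPtsF W_38 28160 0 = true := by decide +kernel

theorem fixc_46_0 : fixPtsF W_46 28160 0 = true := by decide +kernel

theorem invc_6_0 : invRowFI mT 28160 6 7 28160 0 = true := by decide +kernel

theorem invc_15_0 : invRowFI mT 28160 15 14 28160 0 = true := by decide +kernel

end Cfsg.Agent.Helper4.F22MA
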