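import Cfsg.Agent.Helper4.F22MACk0
import Cfsg.Agent.Helper4.F22MACk1
import Cfsg.Agent.Helper4.F22MACk2
import Cfsg.Agent.Helper4.F22MACk3
import Cfsg.Agent.Helper4.F22MACk4
import Cfsg.Agent.Helper4.F22MACk5
import Cfsg.Agent.Helper4.F22MACk6
import Cfsg.Agent.Helper4.F22MACk7
import Cfsg.Agent.Helper4.F22MACk8
import Cfsg.Agent.Helper4.F22MACk9

/-! generated permutation model, summary: F22MA -/

set_option autoImplicit false
set_option maxRecDepth 1000000

namespace Cfsg.Agent.Helper4.F22MA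
open Cfsg.Agent.Helper5.TC Cfsg.Agent.Helper5.TCI Cfsg.Agent.Helper5.LP Cfsg.Agent.Helper5.StemP
  Cfsg.Agent.Helper4.ShM

theorem inv_0 : ∀ v, v < 28160 → mT 0 v < 28160 ∧ mT 1 (mT 0 v) = v :=
  (inv_step (fun v hv => absurd hv (by omega)) 28160 invc_0_0)

theorem inv_1 : ∀ v, v < 28160 → mT 1 v < 28160 ∧ mT 0 (mT 1 v) = v :=
  (inv_step (fun v hv => absurd hv (by omega)) 28160 invc_1_0)

theorem inv_2 : ∀ v, v < 28160 → mT 2 v < 28160 ∧ mT 3 (mT 2 v) = v :=
  (inv_step (fun v hv => absurd hv (by omega)) 28160 invc_2_0)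

theorem inv_3 : ∀ v, v < 28160 → mT 3 v < 28160 ∧ mT 2 (mT 3 v) = v :=
  (inv_step (fun v hv => absurd hv (by omega)) 28160 invc_3_0)

theorem inv_4 : ∀ v, v < 28160 → mT 4 v < 28160 ∧ mT 5 (mT 4 v) = v :=
  (inv_step (fun v hv => absurd hv (by omega)) 28160 invc_4_0)

theorem inv_5 : ∀ v, v < 28160 → mT 5 v < 28160 ∧ mT 4 (mT 5 v) = v :=
  (inv_step (fun v hv => absurd hv (by omega)) 28160 invc_5_0)

theorem inv_6 : ∀ v, v < 28160 → mT 6 v < 28160 ∧ mT 7 (mT 6 v) = v :=
  (inv_step (fun v hv => absurd hv (by omega)) 28160 invc_6_0)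

theorem inv_7 : ∀ v, v < 28160 → mT 7 v < 28160 ∧ mT 6 (mT 7 v) = v :=
  (inv_step (fun v hv => absurd hv (by omega)) 28160 invc_7_0)

theorem inv_8 : ∀ v, v < 28160 → mT 8 v < 28160 ∧ mT 9 (mT 8 v) = v :=
  (inv_step (fun v hv => absurd hv (by omega)) 28160 invc_8_0)

theorem inv_9 : ∀ v, v < 28160 → mT 9 v < 28160 ∧ mT 8 (mT 9 v) = v :=
  (inv_step (fun v hv => absurd hv (by omega)) 28160 invc_9_0)

theorem inv_10 : ∀ v, v < 28160 → mT 10 v < 28160 ∧ mT 11 (mT 10 v) = v :=
  (inv_step (fun v hv => absurd hv (by omega)) 28160 invc_10_0)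

theorem inv_11 : ∀ v, v < 28160 → mT 11 v < 28160 ∧ mT 10 (mT 11 v) = v :=
  (inv_step (fun v hv => absurd hv (by omega)) 28160 invc_11_0)

theorem inv_12 : ∀ v, v < 28160 → mT 12 v < 28160 ∧ mT 13 (mT 12 v) = v :=
  (inv_step (fun v hv => absurd hv (by omega)) 28160 invc_12_0)

theorem inv_13 : ∀ v, v < 28160 → mT 13 v < 28160 ∧ mT 12 (mT 13 v) = v :=
  (inv_step (fun v hv => absurd hv (by omega)) 28160 invc_13_0)

theorem inv_14 : ∀ v, v < 28160 → mT 14 v < 28160 ∧ mT 15 (mT 14 v) = v :=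
  (inv_step (fun v hv => absurd hv (by omega)) 28160 invc_14_0)

theorem inv_15 : ∀ v, v < 28160 → mT 15 v < 28160 ∧ mT 14 (mT 15 v) = v :=
  (inv_step (fun v hv => absurd hv (by omega)) 28160 invc_15_0)

theorem inv_16 : ∀ v, v < 28160 → mT 16 v < 28160 ∧ mT 17 (mT 16 v) = v :=
  (inv_step (fun v hv => absurd hv (by omega)) 28160 invc_16_0)

theorem inv_17 : ∀ v, v < 28160 → mT 17 v < 28160 ∧ mT 16 (mT 17 v) = v :=
  (inv_step (fun v hv => absurd hv (by omega)) 28160 invc_17_0)

theorem tableOK : TableOKI (2 * (8 + 1)) 28160 linv mT := by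
  intro x hx v hv
  have hx' : x < 18 := hx
  interval_cases x
  · exact inv_0 v hv
  · exact inv_1 v hv
  · exact inv_2 v hv
  · exact inv_3 v hv
  · exact inv_4 v hv
  · exact inv_5 v hv
  · exact inv_6 v hv
  · exact inv_7 v hv
  · exact inv_8 v hv
  · exact inv_9 v hv
  · exact inv_10 v hv
  · exact inv_11 v hv
  · exact inv_12 v hv
  · exact inv_13 v hv
  · exact inv_14 v hv
  · exact inv_15 v hv
  · exact inv_16 v hv
  · exact inv_17 v hv

theorem actw_0 : ∀ v, actL mT w_0 v = W_0 v := by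
  intro v
  simp (maxSteps := 100000000) only [w_0, actL, W_0, forceL_eq]
  rfl

theorem fixW_0 : ∀ v, v < 28160 → W_0 v = v :=
  (fixW_step (fun v hv => absurd hv (by omega)) 28160 fixc_0_0)

theorem fix_0 : ∀ v, v < 28160 → actL mT w_0 v = v := fun v hv => by
  rw [actw_0]
  exact fixW_0 v hv

theorem actw_1 : ∀ v, actL mT w_1 v = W_1 v := by
  intro v
  simp (maxSteps := 100000000) only [w_1, actL, W_1, forceL_eq]
  rfl

theorem fixW_1 : ∀ v, v < 28160 → W_1 v = v :=
  (fixW_step (fun v hv => absurd hv (by omega)) 28160 fixc_1_0)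

theorem fix_1 : ∀ v, v < 28160 → actL mT w_1 v = v := fun v hv => by
  rw [actw_1]
  exact fixW_1 v hv

theorem actw_2 : ∀ v, actL mT w_2 v = W_2 v := by
  intro v
  simp (maxSteps := 100000000) only [w_2, actL, W_2, forceL_eq]
  rfl

theorem fixW_2 : ∀ v, v < 28160 → W_2 v = v :=
  (fixW_step (fun v hv => absurd hv (by omega)) 28160 fixc_2_0)

theorem fix_2 : ∀ v, v < 28160 → actL mT w_2 v = v := fun v hv => by
  rw [actw_2]
  exact fixW_2 v hv

theorem actw_3 : ∀ v, actL mT w_3 v = W_3 v := by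
  intro v
  simp (maxSteps := 100000000) only [w_3, actL, W_3, forceL_eq]
  rfl

theorem fixW_3 : ∀ v, v < 28160 → W_3 v = v :=
  (fixW_step (fun v hv => absurd hv (by omega)) 28160 fixc_3_0)

theorem fix_3 : ∀ v, v < 28160 → actL mT w_3 v = v := fun v hv => by
  rw [actw_3]
  exact fixW_3 v hv

theorem actw_4 : ∀ v, actL mT w_4 v = W_4 v := by
  intro v
  simp (maxSteps := 100000000) only [w_4, actL, W_4, forceL_eq]
  rfl

theorem fixW_4 : ∀ v, v < 28160 → W_4 v = v :=
  (fixW_step (fun v hv => absurd hv (by omega)) 28160 fixc_4_0)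

theorem fix_4 : ∀ v, v < 28160 → actL mT w_4 v = v := fun v hv => by
  rw [actw_4]
  exact fixW_4 v hv

theorem actw_5 : ∀ v, actL mT w_5 v = W_5 v := by
  intro v
  simp (maxSteps := 100000000) only [w_5, actL, W_5, forceL_eq]
  rfl

theorem fixW_5 : ∀ v, v < 28160 → W_5 v = v :=
  (fixW_step (fun v hv => absurd hv (by omega)) 28160 fixc_5_0)

theorem fix_5 : ∀ v, v < 28160 → actL mT w_5 v = v := fun v hv => by
  rw [actw_5]
  exact fixW_5 v hv

theorem actw_6 : ∀ v, actL mT w_6 v = W_6 v := by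
  intro v
  simp (maxSteps := 100000000) only [w_6, actL, W_6, forceL_eq]
  rfl

theorem fixW_6 : ∀ v, v < 28160 → W_6 v = v :=
  (fixW_step (fun v hv => absurd hv (by omega)) 28160 fixc_6_0)

theorem fix_6 : ∀ v, v < 28160 → actL mT w_6 v = v := fun v hv => by
  rw [actw_6]
  exact fixW_6 v hv

theorem actw_7 : ∀ v, actL mT w_7 v = W_7 v := by
  intro v
  simp (maxSteps := 100000000) only [w_7, actL, W_7, forceL_eq]
  rfl

theorem fixW_7 : ∀ v, v < 28160 → W_7 v = v :=
  (fixW_step (fun v hv => absurd hv (by omega)) 28160 fixc_7_0)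

theorem fix_7 : ∀ v, v < 28160 → actL mT w_7 v = v := fun v hv => by
  rw [actw_7]
  exact fixW_7 v hv

theorem actw_8 : ∀ v, actL mT w_8 v = W_8 v := by
  intro v
  simp (maxSteps := 100000000) only [w_8, actL, W_8, forceL_eq]
  rfl

theorem fixW_8 : ∀ v, v < 28160 → W_8 v = v :=
  (fixW_step (fun v hv => absurd hv (by omega)) 28160 fixc_8_0)

theorem fix_8 : ∀ v, v < 28160 → actL mT w_8 v = v := fun v hv => by
  rw [actw_8]
  exact fixW_8 v hv

theorem actw_9 : ∀ v, actL mT w_9 v = W_9 v := by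
  intro v
  simp (maxSteps := 100000000) only [w_9, actL, W_9, forceL_eq]
  rfl

theorem fixW_9 : ∀ v, v < 28160 → W_9 v = v :=
  (fixW_step (fixW_step (fun v hv => absurd hv (by omega)) 25000 fixc_9_0) 3160 fixc_9_25000)

theorem fix_9 : ∀ v, v < 28160 → actL mT w_9 v = v := fun v hv => by
  rw [actw_9]
  exact fixW_9 v hv

theorem actw_10 : ∀ v, actL mT w_10 v = W_10 v := by
  intro v
  simp (maxSteps := 100000000) only [w_10, actL, W_10, forceL_eq]
  rfl

theorem fixW_10 : ∀ v, v < 28160 → W_10 v = v :=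
  (fixW_step (fixW_step (fun v hv => absurd hv (by omega)) 20000 fixc_10_0) 8160 fixc_10_20000)

theorem fix_10 : ∀ v, v < 28160 → actL mT w_10 v = v := fun v hv => by
  rw [actw_10]
  exact fixW_10 v hv

theorem actw_11 : ∀ v, actL mT w_11 v = W_11 v := by
  intro v
  simp (maxSteps := 100000000) only [w_11, actL, W_11, forceL_eq]
  rfl

theorem fixW_11 : ∀ v, v < 28160 → W_11 v = v :=
  (fixW_step (fixW_step (fun v hv => absurd hv (by omega)) 16666 fixc_11_0) 11494 fixc_11_16666)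

theorem fix_11 : ∀ v, v < 28160 → actL mT w_11 v = v := fun v hv => by
  rw [actw_11]
  exact fixW_11 v hv

theorem actw_12 : ∀ v, actL mT w_12 v = W_12 v := by
  intro v
  simp (maxSteps := 100000000) only [w_12, actL, W_12, forceL_eq]
  rfl

theorem fixW_12 : ∀ v, v < 28160 → W_12 v = v :=
  (fixW_step (fixW_step (fixW_step (fixW_step (fixW_step (fixW_step (fixW_step (fixW_step (fixW_step (fixW_step (fixW_step (fixW_step (fixW_step (fixW_step (fixW_step (fun v hv => absurd hv (by omega)) 1941 fixc_12_0) 1941 fixc_12_1941) 1941 fixc_12_3882) 1941 fixc_12_5823) 1941 fixc_12_7764) 1941 fixc_12_9705) 1941 fixc_12_11646) 1941 fixc_12_13587) 1941 fixc_12_15528) 1941 fixc_12_17469) 1941 fixc_12_19410) 1941 fixc_12_21351) 1941 fixc_12_23292) 1941 fixc_12_25233) 986 fixc_12_27174)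

theorem fix_12 : ∀ v, v < 28160 → actL mT w_12 v = v := fun v hv => by
  rw [actw_12]
  exact fixW_12 v hv

theorem actw_13 : ∀ v, actL mT w_13 v = W_13 v := by
  intro v
  simp (maxSteps := 100000000) only [w_13, actL, W_13, forceL_eq]
  rfl

theorem fixW_13 : ∀ v, v < 28160 → W_13 v = v :=
  (fixW_step (fixW_step (fixW_step (fixW_step (fun v hv => absurd hv (by omega)) 9090 fixc_13_0) 9090 fixc_13_9090) 9090 fixc_13_18180) 890 fixc_13_27270)

theorem fix_13 : ∀ v, v < 28160 → actL mT w_13 v = v := fun v hv => by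
  rw [actw_13]
  exact fixW_13 v hv

theorem actw_14 : ∀ v, actL mT w_14 v = W_14 v := by
  intro v
  simp (maxSteps := 100000000) only [w_14, actL, W_14, forceL_eq]
  rfl

theorem fixW_14 : ∀ v, v < 28160 → W_14 v = v :=
  (fixW_step (fixW_step (fixW_step (fixW_step (fixW_step (fixW_step (fixW_step (fun v hv => absurd hv (by omega)) 4255 fixc_14_0) 4255 fixc_14_4255) 4255 fixc_14_8510) 4255 fixc_14_12765) 4255 fixc_14_17020) 4255 fixc_14_21275) 2630 fixc_14_25530)

theorem fix_14 : ∀ v, v < 28160 → actL mT w_14 v = v := fun v hv => by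
  rw [actw_14]
  exact fixW_14 v hv

theorem actw_15 : ∀ v, actL mT w_15 v = W_15 v := by
  intro v
  simp (maxSteps := 100000000) only [w_15, actL, W_15, forceL_eq]
  rfl

theorem fixW_15 : ∀ v, v < 28160 → W_15 v = v :=
  (fixW_step (fun v hv => absurd hv (by omega)) 28160 fixc_15_0)

theorem fix_15 : ∀ v, v < 28160 → actL mT w_15 v = v := fun v hv => by
  rw [actw_15]
  exact fixW_15 v hv

theorem actw_16 : ∀ v, actL mT w_16 v = W_16 v := by
  intro v
  simp (maxSteps := 100000000) only [w_16, actL, W_16, forceL_eq]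
  rfl

theorem fixW_16 : ∀ v, v < 28160 → W_16 v = v :=
  (fixW_step (fun v hv => absurd hv (by omega)) 28160 fixc_16_0)

theorem fix_16 : ∀ v, v < 28160 → actL mT w_16 v = v := fun v hv => by
  rw [actw_16]
  exact fixW_16 v hv

theorem actw_17 : ∀ v, actL mT w_17 v = W_17 v := by
  intro v
  simp (maxSteps := 100000000) only [w_17, actL, W_17, forceL_eq]
  rfl

theorem fixW_17 : ∀ v, v < 28160 → W_17 v = v :=
  (fixW_step (fun v hv => absurd hv (by omega)) 28160 fixc_17_0)

theorem fix_17 : ∀ v, v < 28160 → actL mT w_17 v = v := fun v hv => by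
  rw [actw_17]
  exact fixW_17 v hv

theorem actw_18 : ∀ v, actL mT w_18 v = W_18 v := by
  intro v
  simp (maxSteps := 100000000) only [w_18, actL, W_18, forceL_eq]
  rfl

theorem fixW_18 : ∀ v, v < 28160 → W_18 v = v :=
  (fixW_step (fun v hv => absurd hv (by omega)) 28160 fixc_18_0)

theorem fix_18 : ∀ v, v < 28160 → actL mT w_18 v = v := fun v hv => by
  rw [actw_18]
  exact fixW_18 v hv

theorem actw_19 : ∀ v, actL mT w_19 v = W_19 v := by
  intro v
  simp (maxSteps := 100000000) only [w_19, actL, W_19, forceL_eq]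
  rfl

theorem fixW_19 : ∀ v, v < 28160 → W_19 v = v :=
  (fixW_step (fun v hv => absurd hv (by omega)) 28160 fixc_19_0)

theorem fix_19 : ∀ v, v < 28160 → actL mT w_19 v = v := fun v hv => by
  rw [actw_19]
  exact fixW_19 v hv

theorem actw_20 : ∀ v, actL mT w_20 v = W_20 v := by
  intro v
  simp (maxSteps := 100000000) only [w_20, actL, W_20, forceL_eq]
  rfl

theorem fixW_20 : ∀ v, v < 28160 → W_20 v = v :=
  (fixW_step (fun v hv => absurd hv (by omega)) 28160 fixc_20_0)

theorem fix_20 : ∀ v, v < 28160 → actL mT w_20 v = v := fun v hv => by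
  rw [actw_20]
  exact fixW_20 v hv

theorem actw_21 : ∀ v, actL mT w_21 v = W_21 v := by
  intro v
  simp (maxSteps := 100000000) only [w_21, actL, W_21, forceL_eq]
  rfl

theorem fixW_21 : ∀ v, v < 28160 → W_21 v = v :=
  (fixW_step (fun v hv => absurd hv (by omega)) 28160 fixc_21_0)

theorem fix_21 : ∀ v, v < 28160 → actL mT w_21 v = v := fun v hv => by
  rw [actw_21]
  exact fixW_21 v hv

theorem actw_22 : ∀ v, actL mT w_22 v = W_22 v := by
  intro v
  simp (maxSteps := 100000000) only [w_22, actL, W_22, forceL_eq]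
  rfl

theorem fixW_22 : ∀ v, v < 28160 → W_22 v = v :=
  (fixW_step (fixW_step (fixW_step (fixW_step (fixW_step (fixW_step (fixW_step (fixW_step (fixW_step (fun v hv => absurd hv (by omega)) 3333 fixc_22_0) 3333 fixc_22_3333) 3333 fixc_22_6666) 3333 fixc_22_9999) 3333 fixc_22_13332) 3333 fixc_22_16665) 3333 fixc_22_19998) 3333 fixc_22_23331) 1496 fixc_22_26664)

theorem fix_22 : ∀ v, v < 28160 → actL mT w_22 v = v := fun v hv => by
  rw [actw_22]
  exact fixW_22 v hv

theorem actw_23 : ∀ v, actL mT w_23 v = W_23 v := by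
  intro v
  simp (maxSteps := 100000000) only [w_23, actL, W_23, forceL_eq]
  rfl

theorem fixW_23 : ∀ v, v < 28160 → W_23 v = v :=
  (fixW_step (fun v hv => absurd hv (by omega)) 28160 fixc_23_0)

theorem fix_23 : ∀ v, v < 28160 → actL mT w_23 v = v := fun v hv => by
  rw [actw_23]
  exact fixW_23 v hv

theorem actw_24 : ∀ v, actL mT w_24 v = W_24 v := by
  intro v
  simp (maxSteps := 100000000) only [w_24, actL, W_24, forceL_eq]
  rfl

theorem fixW_24 : ∀ v, v < 28160 → W_24 v = v :=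
  (fixW_step (fun v hv => absurd hv (by omega)) 28160 fixc_24_0)

theorem fix_24 : ∀ v, v < 28160 → actL mT w_24 v = v := fun v hv => by
  rw [actw_24]
  exact fixW_24 v hv

theorem actw_25 : ∀ v, actL mT w_25 v = W_25 v := by
  intro v
  simp (maxSteps := 100000000) only [w_25, actL, W_25, forceL_eq]
  rfl

theorem fixW_25 : ∀ v, v < 28160 → W_25 v = v :=
  (fixW_step (fun v hv => absurd hv (by omega)) 28160 fixc_25_0)

theorem fix_25 : ∀ v, v < 28160 → actL mT w_25 v = v := fun v hv => by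
  rw [actw_25]
  exact fixW_25 v hv

theorem actw_26 : ∀ v, actL mT w_26 v = W_26 v := by
  intro v
  simp (maxSteps := 100000000) only [w_26, actL, W_26, forceL_eq]
  rfl

theorem fixW_26 : ∀ v, v < 28160 → W_26 v = v :=
  (fixW_step (fun v hv => absurd hv (by omega)) 28160 fixc_26_0)

theorem fix_26 : ∀ v, v < 28160 → actL mT w_26 v = v := fun v hv => by
  rw [actw_26]
  exact fixW_26 v hv

theorem actw_27 : ∀ v, actL mT w_27 v = W_27 v := by
  intro v
  simp (maxSteps := 100000000) only [w_27, actL, W_27, forceL_eq]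
  rfl

theorem fixW_27 : ∀ v, v < 28160 → W_27 v = v :=
  (fixW_step (fun v hv => absurd hv (by omega)) 28160 fixc_27_0)

theorem fix_27 : ∀ v, v < 28160 → actL mT w_27 v = v := fun v hv => by
  rw [actw_27]
  exact fixW_27 v hv

theorem actw_28 : ∀ v, actL mT w_28 v = W_28 v := by
  intro v
  simp (maxSteps := 100000000) only [w_28, actL, W_28, forceL_eq]
  rfl

theorem fixW_28 : ∀ v, v < 28160 → W_28 v = v :=
  (fixW_step (fun v hv => absurd hv (by omega)) 28160 fixc_28_0)

theorem fix_28 : ∀ v, v < 28160 → actL mT w_28 v = v := fun v hv => by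
  rw [actw_28]
  exact fixW_28 v hv

theorem actw_29 : ∀ v, actL mT w_29 v = W_29 v := by
  intro v
  simp (maxSteps := 100000000) only [w_29, actL, W_29, forceL_eq]
  rfl

theorem fixW_29 : ∀ v, v < 28160 → W_29 v = v :=
  (fixW_step (fun v hv => absurd hv (by omega)) 28160 fixc_29_0)

theorem fix_29 : ∀ v, v < 28160 → actL mT w_29 v = v := fun v hv => by
  rw [actw_29]
  exact fixW_29 v hv

theorem actw_30 : ∀ v, actL mT w_30 v = W_30 v := by
  intro v
  simp (maxSteps := 100000000) only [w_30, actL, W_30, forceL_eq]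
  rfl

theorem fixW_30 : ∀ v, v < 28160 → W_30 v = v :=
  (fixW_step (fixW_step (fun v hv => absurd hv (by omega)) 22222 fixc_30_0) 5938 fixc_30_22222)

theorem fix_30 : ∀ v, v < 28160 → actL mT w_30 v = v := fun v hv => by
  rw [actw_30]
  exact fixW_30 v hv

theorem actw_31 : ∀ v, actL mT w_31 v = W_31 v := by
  intro v
  simp (maxSteps := 100000000) only [w_31, actL, W_31, forceL_eq]
  rfl

theorem fixW_31 : ∀ v, v < 28160 → W_31 v = v :=
  (fixW_step (fun v hv => absurd hv (by omega)) 28160 fixc_31_0)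

theorem fix_31 : ∀ v, v < 28160 → actL mT w_31 v = v := fun v hv => by
  rw [actw_31]
  exact fixW_31 v hv

theorem actw_32 : ∀ v, actL mT w_32 v = W_32 v := by
  intro v
  simp (maxSteps := 100000000) only [w_32, actL, W_32, forceL_eq]
  rfl

theorem fixW_32 : ∀ v, v < 28160 → W_32 v = v :=
  (fixW_step (fun v hv => absurd hv (by omega)) 28160 fixc_32_0)

theorem fix_32 : ∀ v, v < 28160 → actL mT w_32 v = v := fun v hv => by
  rw [actw_32]
  exact fixW_32 v hv

theorem actw_33 : ∀ v, actL mT w_33 v = W_33 v := by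
  intro v
  simp (maxSteps := 100000000) only [w_33, actL, W_33, forceL_eq]
  rfl

theorem fixW_33 : ∀ v, v < 28160 → W_33 v = v :=
  (fixW_step (fun v hv => absurd hv (by omega)) 28160 fixc_33_0)

theorem fix_33 : ∀ v, v < 28160 → actL mT w_33 v = v := fun v hv => by
  rw [actw_33]
  exact fixW_33 v hv

theorem actw_34 : ∀ v, actL mT w_34 v = W_34 v := by
  intro v
  simp (maxSteps := 100000000) only [w_34, actL, W_34, forceL_eq]
  rfl

theorem fixW_34 : ∀ v, v < 28160 → W_34 v = v :=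
  (fixW_step (fun v hv => absurd hv (by omega)) 28160 fixc_34_0)

theorem fix_34 : ∀ v, v < 28160 → actL mT w_34 v = v := fun v hv => by
  rw [actw_34]
  exact fixW_34 v hv

theorem actw_35 : ∀ v, actL mT w_35 v = W_35 v := by
  intro v
  simp (maxSteps := 100000000) only [w_35, actL, W_35, forceL_eq]
  rfl

theorem fixW_35 : ∀ v, v < 28160 → W_35 v = v :=
  (fixW_step (fun v hv => absurd hv (by omega)) 28160 fixc_35_0)

theorem fix_35 : ∀ v, v < 28160 → actL mT w_35 v = v := fun v hv => by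
  rw [actw_35]
  exact fixW_35 v hv

theorem actw_36 : ∀ v, actL mT w_36 v = W_36 v := by
  intro v
  simp (maxSteps := 100000000) only [w_36, actL, W_36, forceL_eq]
  rfl

theorem fixW_36 : ∀ v, v < 28160 → W_36 v = v :=
  (fixW_step (fun v hv => absurd hv (by omega)) 28160 fixc_36_0)

theorem fix_36 : ∀ v, v < 28160 → actL mT w_36 v = v := fun v hv => by
  rw [actw_36]
  exact fixW_36 v hv

theorem actw_37 : ∀ v, actL mT w_37 v = W_37 v := by
  intro v
  simp (maxSteps := 100000000) only [w_37, actL, W_37, forceL_eq]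
  rfl

theorem fixW_37 : ∀ v, v < 28160 → W_37 v = v :=
  (fixW_step (fun v hv => absurd hv (by omega)) 28160 fixc_37_0)

theorem fix_37 : ∀ v, v < 28160 → actL mT w_37 v = v := fun v hv => by
  rw [actw_37]
  exact fixW_37 v hv

theorem actw_38 : ∀ v, actL mT w_38 v = W_38 v := by
  intro v
  simp (maxSteps := 100000000) only [w_38, actL, W_38, forceL_eq]
  rfl

theorem fixW_38 : ∀ v, v < 28160 → W_38 v = v :=
  (fixW_step (fun v hv => absurd hv (by omega)) 28160 fixc_38_0)

theorem fix_38 : ∀ v, v < 28160 → actL mT w_38 v = v := fun v hv => by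
  rw [actw_38]
  exact fixW_38 v hv

theorem actw_39 : ∀ v, actL mT w_39 v = W_39 v := by
  intro v
  simp (maxSteps := 100000000) only [w_39, actL, W_39, forceL_eq]
  rfl

theorem fixW_39 : ∀ v, v < 28160 → W_39 v = v :=
  (fixW_step (fun v hv => absurd hv (by omega)) 28160 fixc_39_0)

theorem fix_39 : ∀ v, v < 28160 → actL mT w_39 v = v := fun v hv => by
  rw [actw_39]
  exact fixW_39 v hv

theorem actw_40 : ∀ v, actL mT w_40 v = W_40 v := by
  intro v
  simp (maxSteps := 100000000) only [w_40, actL, W_40, forceL_eq]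
  rfl

theorem fixW_40 : ∀ v, v < 28160 → W_40 v = v :=
  (fixW_step (fun v hv => absurd hv (by omega)) 28160 fixc_40_0)

theorem fix_40 : ∀ v, v < 28160 → actL mT w_40 v = v := fun v hv => by
  rw [actw_40]
  exact fixW_40 v hv

theorem actw_41 : ∀ v, actL mT w_41 v = W_41 v := by
  intro v
  simp (maxSteps := 100000000) only [w_41, actL, W_41, forceL_eq]
  rfl

theorem fixW_41 : ∀ v, v < 28160 → W_41 v = v :=
  (fixW_step (fun v hv => absurd hv (by omega)) 28160 fixc_41_0)

theorem fix_41 : ∀ v, v < 28160 → actL mT w_41 v = v := fun v hv => by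
  rw [actw_41]
  exact fixW_41 v hv

theorem actw_42 : ∀ v, actL mT w_42 v = W_42 v := by
  intro v
  simp (maxSteps := 100000000) only [w_42, actL, W_42, forceL_eq]
  rfl

theorem fixW_42 : ∀ v, v < 28160 → W_42 v = v :=
  (fixW_step (fun v hv => absurd hv (by omega)) 28160 fixc_42_0)

theorem fix_42 : ∀ v, v < 28160 → actL mT w_42 v = v := fun v hv => by
  rw [actw_42]
  exact fixW_42 v hv

theorem actw_43 : ∀ v, actL mT w_43 v = W_43 v := by
  intro v
  simp (maxSteps := 100000000) only [w_43, actL, W_43, forceL_eq]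
  rfl

theorem fixW_43 : ∀ v, v < 28160 → W_43 v = v :=
  (fixW_step (fun v hv => absurd hv (by omega)) 28160 fixc_43_0)

theorem fix_43 : ∀ v, v < 28160 → actL mT w_43 v = v := fun v hv => by
  rw [actw_43]
  exact fixW_43 v hv

theorem actw_44 : ∀ v, actL mT w_44 v = W_44 v := by
  intro v
  simp (maxSteps := 100000000) only [w_44, actL, W_44, forceL_eq]
  rfl

theorem fixW_44 : ∀ v, v < 28160 → W_44 v = v :=
  (fixW_step (fun v hv => absurd hv (by omega)) 28160 fixc_44_0)

theorem fix_44 : ∀ v, v < 28160 → actL mT w_44 v = v := fun v hv => by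
  rw [actw_44]
  exact fixW_44 v hv

theorem actw_45 : ∀ v, actL mT w_45 v = W_45 v := by
  intro v
  simp (maxSteps := 100000000) only [w_45, actL, W_45, forceL_eq]
  rfl

theorem fixW_45 : ∀ v, v < 28160 → W_45 v = v :=
  (fixW_step (fun v hv => absurd hv (by omega)) 28160 fixc_45_0)

theorem fix_45 : ∀ v, v < 28160 → actL mT w_45 v = v := fun v hv => by
  rw [actw_45]
  exact fixW_45 v hv

theorem actw_46 : ∀ v, actL mT w_46 v = W_46 v := by
  intro v
  simp (maxSteps := 100000000) only [w_46, actL, W_46, forceL_eq]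
  rfl

theorem fixW_46 : ∀ v, v < 28160 → W_46 v = v :=
  (fixW_step (fun v hv => absurd hv (by omega)) 28160 fixc_46_0)

theorem fix_46 : ∀ v, v < 28160 → actL mT w_46 v = v := fun v hv => by
  rw [actw_46]
  exact fixW_46 v hv

theorem actw_47 : ∀ v, actL mT w_47 v = W_47 v := by
  intro v
  simp (maxSteps := 100000000) only [w_47, actL, W_47, forceL_eq]
  rfl

theorem fixW_47 : ∀ v, v < 28160 → W_47 v = v :=
  (fixW_step (fun v hv => absurd hv (by omega)) 28160 fixc_47_0)

theorem fix_47 : ∀ v, v < 28160 → actL mT w_47 v = v := fun v hv => by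
  rw [actw_47]
  exact fixW_47 v hv

theorem actw_48 : ∀ v, actL mT w_48 v = W_48 v := by
  intro v
  simp (maxSteps := 100000000) only [w_48, actL, W_48, forceL_eq]
  rfl

theorem fixW_48 : ∀ v, v < 28160 → W_48 v = v :=
  (fixW_step (fun v hv => absurd hv (by omega)) 28160 fixc_48_0)

theorem fix_48 : ∀ v, v < 28160 → actL mT w_48 v = v := fun v hv => by
  rw [actw_48]
  exact fixW_48 v hv

theorem actw_49 : ∀ v, actL mT w_49 v = W_49 v := by
  intro v
  simp (maxSteps := 100000000) only [w_49, actL, W_49, forceL_eq]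
  rfl

theorem fixW_49 : ∀ v, v < 28160 → W_49 v = v :=
  (fixW_step (fun v hv => absurd hv (by omega)) 28160 fixc_49_0)

theorem fix_49 : ∀ v, v < 28160 → actL mT w_49 v = v := fun v hv => by
  rw [actw_49]
  exact fixW_49 v hv

theorem hcomm : ∀ i, i < 8 → ∀ v, v < 28160 → actL mT [2 * i, 2 * 8, 2 * i + 1, 2 * 8 + 1] v = v := by
  intro i hi
  interval_cases i
  · exact fix_0
  · exact fix_1
  · exact fix_2
  · exact fix_3
  · exact fix_4
  · exact fix_5
  · exact fix_6
  · exact fix_7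

theorem hcent : ∀ r ∈ cw, ∃ k, ∀ v, v < 28160 → actL mT (r ++ List.replicate k (2 * 8)) v = v := by
  intro r hr
  simp only [cw, List.mem_cons, List.not_mem_nil, or_false] at hr
  rcases hr with rfl | rfl | rfl | rfl | rfl | rfl | rfl | rfl | rfl | rfl | rfl | rfl | rfl | rfl | rfl | rfl | rfl | rfl | rfl | rfl | rfl | rfl | rfl | rfl | rfl | rfl | rfl | rfl | rfl | rfl | rfl | rfl | rfl
  · exact ⟨0, fix_8⟩
  · exact ⟨0, fix_9⟩
  · exact ⟨0, fix_10⟩
  · exact ⟨0, fix_11⟩
  · exact ⟨1, fix_12⟩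
  · exact ⟨0, fix_13⟩
  · exact ⟨1, fix_14⟩
  · exact ⟨0, fix_15⟩
  · exact ⟨0, fix_16⟩
  · exact ⟨0, fix_17⟩
  · exact ⟨0, fix_18⟩
  · exact ⟨0, fix_19⟩
  · exact ⟨0, fix_20⟩
  · exact ⟨0, fix_21⟩
  · exact ⟨0, fix_22⟩
  · exact ⟨0, fix_23⟩
  · exact ⟨0, fix_24⟩
  · exact ⟨0, fix_25⟩
  · exact ⟨0, fix_26⟩
  · exact ⟨0, fix_27⟩
  · exact ⟨0, fix_28⟩
  · exact ⟨0, fix_29⟩
  · exact ⟨0, fix_30⟩
  · exact ⟨0, fix_31⟩
  · exact ⟨0, fix_32⟩
  · exact ⟨0, fix_33⟩
  · exact ⟨0, fix_34⟩
  · exact ⟨0, fix_35⟩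
  · exact ⟨0, fix_36⟩
  · exact ⟨0, fix_37⟩
  · exact ⟨0, fix_38⟩
  · exact ⟨0, fix_39⟩
  · exact ⟨0, fix_40⟩

theorem hpow : ∀ i, i < 8 → ∀ v, v < 28160 → actL mT (List.replicate (mml.getD i 0) (2 * i)) v = v := by
  intro i hi
  interval_cases i
  · exact fix_41
  · exact fix_42
  · exact fix_43
  · exact fix_44
  · exact fix_45
  · exact fix_46
  · exact fix_47
  · exact fix_48

theorem hsh : ∀ v, v < 28160 → actL mT (List.replicate 2 (2 * 8)) v = v := fix_49

end Cfsg.Agent.Helper4.F22MA
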