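import Cfsg.Agent.Helper4.F22MBDat

/-! generated permutation model, checks: F22MB -/

set_option autoImplicit false
set_option Elab.async false
set_option maxRecDepth 1000000

namespace Cfsg.Agent.Helper4.F22MB
open Cfsg.Agent.Helper5.TC Cfsg.Agent.Helper5.TCI Cfsg.Agent.Helper5.LP

theorem invc_1_0 : invRowFI mT 185328 1 0 100000 0 = true := by decide +kernel

theorem fixc_7_0 : fixPtsF W_7 50000 0 = true := by decide +kernel

theorem fixc_27_50000 : fixPtsF W_27 50000 50000 = true := by decide +kernel

theorem fixc_53_0 : fixPtsF W_53 100000 0 = true := by decide +kernel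

theorem fixc_10_63480 : fixPtsF W_10 3174 63480 = true := by decide +kernel

theorem fixc_10_130134 : fixPtsF W_10 3174 130134 = true := by decide +kernel

theorem fixc_44_73002 : fixPtsF W_44 3174 73002 = true := by decide +kernel

theorem fixc_43_10985 : fixPtsF W_43 2197 10985 = true := by decide +kernel

theorem fixc_43_65910 : fixPtsF W_43 2197 65910 = true := by decide +kernel

theorem fixc_43_153790 : fixPtsF W_43 2197 153790 = true := by decide +kernel

theorem fixc_24_150000 : fixPtsF W_24 35328 150000 = true := by decide +kernel

end Cfsg.Agent.Helper4.F22MB
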