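import Cfsg.Agent.Helper4.F22MBDat

/-! generated permutation model, checks: F22MB -/

set_option autoImplicit false
set_option Elab.async false
set_option maxRecDepth 1000000

namespace Cfsg.Agent.Helper4.F22MB
open Cfsg.Agent.Helper5.TC Cfsg.Agent.Helper5.TCI Cfsg.Agent.Helper5.LP

theorem invc_10_0 : invRowFI mT 185328 10 11 100000 0 = true := by decide +kernel

theorem fixc_16_0 : fixPtsF W_16 50000 0 = true := by decide +kernel

theorem fixc_32_50000 : fixPtsF W_32 50000 50000 = true := by decide +kernel

theorem fixc_12_99999 : fixPtsF W_12 33333 99999 = true := by decide +kernel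

theorem fixc_37_33333 : fixPtsF W_37 33333 33333 = true := by decide +kernel

theorem fixc_10_158700 : fixPtsF W_10 3174 158700 = true := by decide +kernel

theorem fixc_44_101568 : fixPtsF W_44 3174 101568 = true := by decide +kernel

theorem fixc_43_30758 : fixPtsF W_43 2197 30758 = true := by decide +kernel

theorem fixc_43_118638 : fixPtsF W_43 2197 118638 = true := by decide +kernel

theorem invc_10_100000 : invRowFI mT 185328 10 11 85328 100000 = true := by decide +kernel

theorem fixc_1_150000 : fixPtsF W_1 35328 150000 = true := by decide +kernel

theorem fixc_12_166665 : fixPtsF W_12 18663 166665 = true := by decide +kernel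

end Cfsg.Agent.Helper4.F22MB
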