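import Cfsg.Agent.Helper4.F22MBDat

/-! generated permutation model, checks: F22MB -/

set_option autoImplicit false
set_option Elab.async false
set_option maxRecDepth 1000000

namespace Cfsg.Agent.Helper4.F22MB
open Cfsg.Agent.Helper5.TC Cfsg.Agent.Helper5.TCI Cfsg.Agent.Helper5.LP

theorem invc_12_0 : invRowFI mT 185328 12 13 100000 0 = true := by decide +kernel

theorem fixc_16_100000 : fixPtsF W_16 50000 100000 = true := by decide +kernel

theorem fixc_33_0 : fixPtsF W_33 50000 0 = true := by decide +kernel

theorem fixc_13_0 : fixPtsF W_13 33333 0 = true := by decide +kernel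

theorem fixc_37_99999 : fixPtsF W_37 33333 99999 = true := by decide +kernel

theorem fixc_10_165048 : fixPtsF W_10 3174 165048 = true := by decide +kernel

theorem fixc_44_107916 : fixPtsF W_44 3174 107916 = true := by decide +kernel

theorem fixc_43_35152 : fixPtsF W_43 2197 35152 = true := by decide +kernel

theorem fixc_43_123032 : fixPtsF W_43 2197 123032 = true := by decide +kernel

theorem invc_12_100000 : invRowFI mT 185328 12 13 85328 100000 = true := by decide +kernel

theorem fixc_3_150000 : fixPtsF W_3 35328 150000 = true := by decide +kernel

theorem fixc_14_166665 : fixPtsF W_14 18663 166665 = true := by decide +kernel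

end Cfsg.Agent.Helper4.F22MB
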