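import Cfsg.Agent.Helper4.F22MBDat

/-! generated permutation model, checks: F22MB -/

set_option autoImplicit false
set_option Elab.async false
set_option maxRecDepth 1000000

namespace Cfsg.Agent.Helper4.F22MB
open Cfsg.Agent.Helper5.TC Cfsg.Agent.Helper5.TCI Cfsg.Agent.Helper5.LP

theorem invc_13_0 : invRowFI mT 185328 13 12 100000 0 = true := by decide +kernel

theorem fixc_17_0 : fixPtsF W_17 50000 0 = true := by decide +kernel

theorem fixc_33_50000 : fixPtsF W_33 50000 50000 = true := by decide +kernel

theorem fixc_13_33333 : fixPtsF W_13 33333 33333 = true := by decide +kernel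

theorem fixc_37_133332 : fixPtsF W_37 33333 133332 = true := by decide +kernel

theorem fixc_10_168222 : fixPtsF W_10 3174 168222 = true := by decide +kernel

theorem fixc_44_111090 : fixPtsF W_44 3174 111090 = true := by decide +kernel

theorem fixc_43_37349 : fixPtsF W_43 2197 37349 = true := by decide +kernel

theorem fixc_43_125229 : fixPtsF W_43 2197 125229 = true := by decide +kernel

theorem invc_13_100000 : invRowFI mT 185328 13 12 85328 100000 = true := by decide +kernel

theorem fixc_4_150000 : fixPtsF W_4 35328 150000 = true := by decide +kernel

theorem fixc_15_166665 : fixPtsF W_15 18663 166665 = true := by decide +kernel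

end Cfsg.Agent.Helper4.F22MB
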