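import Cfsg.Agent.Helper4.F22MBDat

/-! generated permutation model, checks: F22MB -/

set_option autoImplicit false
set_option Elab.async false
set_option maxRecDepth 1000000

namespace Cfsg.Agent.Helper4.F22MB
open Cfsg.Agent.Helper5.TC Cfsg.Agent.Helper5.TCI Cfsg.Agent.Helper5.LP

theorem invc_15_0 : invRowFI mT 185328 15 14 100000 0 = true := by decide +kernel

theorem fixc_17_100000 : fixPtsF W_17 50000 100000 = true := by decide +kernel

theorem fixc_34_0 : fixPtsF W_34 50000 0 = true := by decide +kernel

theorem fixc_13_99999 : fixPtsF W_13 33333 99999 = true := by decide +kernel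

theorem fixc_42_33333 : fixPtsF W_42 33333 33333 = true := by decide +kernel

theorem fixc_10_174570 : fixPtsF W_10 3174 174570 = true := by decide +kernel

theorem fixc_44_117438 : fixPtsF W_44 3174 117438 = true := by decide +kernel

theorem fixc_43_41743 : fixPtsF W_43 2197 41743 = true := by decide +kernel

theorem fixc_43_129623 : fixPtsF W_43 2197 129623 = true := by decide +kernel

theorem invc_15_100000 : invRowFI mT 185328 15 14 85328 100000 = true := by decide +kernel

theorem fixc_6_150000 : fixPtsF W_6 35328 150000 = true := by decide +kernel

theorem fixc_28_166665 : fixPtsF W_28 18663 166665 = true := by decide +kernel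

end Cfsg.Agent.Helper4.F22MB
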