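import Cfsg.Agent.Helper4.F22MBDat

/-! generated permutation model, checks: F22MB -/

set_option autoImplicit false
set_option Elab.async false
set_option maxRecDepth 1000000

namespace Cfsg.Agent.Helper4.F22MB
open Cfsg.Agent.Helper5.TC Cfsg.Agent.Helper5.TCI Cfsg.Agent.Helper5.LP

theorem invc_16_0 : invRowFI mT 185328 16 17 100000 0 = true := by decide +kernel

theorem fixc_18_0 : fixPtsF W_18 50000 0 = true := by decide +kernel

theorem fixc_34_50000 : fixPtsF W_34 50000 50000 = true := by decide +kernel

theorem fixc_13_133332 : fixPtsF W_13 33333 133332 = true := by decide +kernel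

theorem fixc_42_66666 : fixPtsF W_42 33333 66666 = true := by decide +kernel

theorem fixc_10_177744 : fixPtsF W_10 3174 177744 = true := by decide +kernel

theorem fixc_44_120612 : fixPtsF W_44 3174 120612 = true := by decide +kernel

theorem fixc_43_43940 : fixPtsF W_43 2197 43940 = true := by decide +kernel

theorem fixc_43_131820 : fixPtsF W_43 2197 131820 = true := by decide +kernel

theorem invc_16_100000 : invRowFI mT 185328 16 17 85328 100000 = true := by decide +kernel

theorem fixc_7_150000 : fixPtsF W_7 35328 150000 = true := by decide +kernel

theorem fixc_29_166665 : fixPtsF W_29 18663 166665 = true := by decide +kernel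

end Cfsg.Agent.Helper4.F22MB
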