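import Cfsg.Agent.Helper4.F22MBDat

/-! generated permutation model, checks: F22MB -/

set_option autoImplicit false
set_option Elab.async false
set_option maxRecDepth 1000000

namespace Cfsg.Agent.Helper4.F22MB
open Cfsg.Agent.Helper5.TC Cfsg.Agent.Helper5.TCI Cfsg.Agent.Helper5.LP

theorem invc_17_0 : invRowFI mT 185328 17 16 100000 0 = true := by decide +kernel

theorem fixc_18_50000 : fixPtsF W_18 50000 50000 = true := by decide +kernel

theorem fixc_34_100000 : fixPtsF W_34 50000 100000 = true := by decide +kernel

theorem fixc_14_0 : fixPtsF W_14 33333 0 = true := by decide +kernel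

theorem fixc_42_99999 : fixPtsF W_42 33333 99999 = true := by decide +kernel

theorem fixc_10_180918 : fixPtsF W_10 3174 180918 = true := by decide +kernel

theorem fixc_44_123786 : fixPtsF W_44 3174 123786 = true := by decide +kernel

theorem fixc_43_46137 : fixPtsF W_43 2197 46137 = true := by decide +kernel

theorem fixc_43_134017 : fixPtsF W_43 2197 134017 = true := by decide +kernel

theorem invc_17_100000 : invRowFI mT 185328 17 16 85328 100000 = true := by decide +kernel

theorem fixc_8_150000 : fixPtsF W_8 35328 150000 = true := by decide +kernel

theorem fixc_35_166665 : fixPtsF W_35 18663 166665 = true := by decide +kernel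

end Cfsg.Agent.Helper4.F22MB
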