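import Cfsg.Agent.Helper4.F22MBDat

/-! generated permutation model, checks: F22MB -/

set_option autoImplicit false
set_option Elab.async false
set_option maxRecDepth 1000000

namespace Cfsg.Agent.Helper4.F22MB
open Cfsg.Agent.Helper5.TC Cfsg.Agent.Helper5.TCI Cfsg.Agent.Helper5.LP

theorem invc_18_0 : invRowFI mT 185328 18 19 100000 0 = true := by decide +kernel

theorem fixc_18_100000 : fixPtsF W_18 50000 100000 = true := by decide +kernel

theorem fixc_36_0 : fixPtsF W_36 50000 0 = true := by decide +kernel

theorem fixc_14_33333 : fixPtsF W_14 33333 33333 = true := by decide +kernel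

theorem fixc_42_133332 : fixPtsF W_42 33333 133332 = true := by decide +kernel

theorem fixc_44_0 : fixPtsF W_44 3174 0 = true := by decide +kernel

theorem fixc_44_126960 : fixPtsF W_44 3174 126960 = true := by decide +kernel

theorem fixc_43_48334 : fixPtsF W_43 2197 48334 = true := by decide +kernel

theorem fixc_43_136214 : fixPtsF W_43 2197 136214 = true := by decide +kernel

theorem invc_18_100000 : invRowFI mT 185328 18 19 85328 100000 = true := by decide +kernel

theorem fixc_11_150000 : fixPtsF W_11 35328 150000 = true := by decide +kernel

theorem fixc_37_166665 : fixPtsF W_37 18663 166665 = true := by decide +kernel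

end Cfsg.Agent.Helper4.F22MB
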