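import Cfsg.Agent.Helper4.F22MBDat

/-! generated permutation model, checks: F22MB -/

set_option autoImplicit false
set_option Elab.async false
set_option maxRecDepth 1000000

namespace Cfsg.Agent.Helper4.F22MB
open Cfsg.Agent.Helper5.TC Cfsg.Agent.Helper5.TCI Cfsg.Agent.Helper5.LP

theorem invc_19_0 : invRowFI mT 185328 19 18 100000 0 = true := by decide +kernel

theorem fixc_19_0 : fixPtsF W_19 50000 0 = true := by decide +kernel

theorem fixc_36_50000 : fixPtsF W_36 50000 50000 = true := by decide +kernel

theorem fixc_14_66666 : fixPtsF W_14 33333 66666 = true := by decide +kernel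

theorem fixc_54_0 : fixPtsF W_54 66666 0 = true := by decide +kernel

theorem fixc_44_3174 : fixPtsF W_44 3174 3174 = true := by decide +kernel

theorem fixc_44_130134 : fixPtsF W_44 3174 130134 = true := by decide +kernel

theorem fixc_43_50531 : fixPtsF W_43 2197 50531 = true := by decide +kernel

theorem fixc_43_138411 : fixPtsF W_43 2197 138411 = true := by decide +kernel

theorem invc_19_100000 : invRowFI mT 185328 19 18 85328 100000 = true := by decide +kernel

theorem fixc_16_150000 : fixPtsF W_16 35328 150000 = true := by decide +kernel

theorem fixc_42_166665 : fixPtsF W_42 18663 166665 = true := by decide +kernel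

end Cfsg.Agent.Helper4.F22MB
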