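import Cfsg.Agent.Helper4.F22MBDat

/-! generated permutation model, checks: F22MB -/

set_option autoImplicit false
set_option Elab.async false
set_option maxRecDepth 1000000

namespace Cfsg.Agent.Helper4.F22MB
open Cfsg.Agent.Helper5.TC Cfsg.Agent.Helper5.TCI Cfsg.Agent.Helper5.LP

theorem invc_2_0 : invRowFI mT 185328 2 3 100000 0 = true := by decide +kernel

theorem fixc_7_50000 : fixPtsF W_7 50000 50000 = true := by decide +kernel

theorem fixc_27_100000 : fixPtsF W_27 50000 100000 = true := by decide +kernel

theorem fixc_9_0 : fixPtsF W_9 33333 0 = true := by decide +kernel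

theorem fixc_29_99999 : fixPtsF W_29 33333 99999 = true := by decide +kernel

theorem fixc_10_133308 : fixPtsF W_10 3174 133308 = true := by decide +kernel

theorem fixc_44_76176 : fixPtsF W_44 3174 76176 = true := by decide +kernel

theorem fixc_43_13182 : fixPtsF W_43 2197 13182 = true := by decide +kernel

theorem fixc_43_101062 : fixPtsF W_43 2197 101062 = true := by decide +kernel

theorem invc_2_100000 : invRowFI mT 185328 2 3 85328 100000 = true := by decide +kernel

theorem fixc_48_100000 : fixPtsF W_48 85328 100000 = true := by decide +kernel

end Cfsg.Agent.Helper4.F22MB
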