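import Cfsg.Agent.Helper4.F22MBDat

/-! generated permutation model, checks: F22MB -/

set_option autoImplicit false
set_option Elab.async false
set_option maxRecDepth 1000000

namespace Cfsg.Agent.Helper4.F22MB
open Cfsg.Agent.Helper5.TC Cfsg.Agent.Helper5.TCI Cfsg.Agent.Helper5.LP

theorem fixc_0_0 : fixPtsF W_0 50000 0 = true := by decide +kernel

theorem fixc_19_50000 : fixPtsF W_19 50000 50000 = true := by decide +kernel

theorem fixc_36_100000 : fixPtsF W_36 50000 100000 = true := by decide +kernel

theorem fixc_14_99999 : fixPtsF W_14 33333 99999 = true := by decide +kernel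

theorem fixc_54_66666 : fixPtsF W_54 66666 66666 = true := by decide +kernel

theorem fixc_44_6348 : fixPtsF W_44 3174 6348 = true := by decide +kernel

theorem fixc_44_133308 : fixPtsF W_44 3174 133308 = true := by decide +kernel

theorem fixc_43_52728 : fixPtsF W_43 2197 52728 = true := by decide +kernel

theorem fixc_43_140608 : fixPtsF W_43 2197 140608 = true := by decide +kernel

theorem fixc_45_100000 : fixPtsF W_45 85328 100000 = true := by decide +kernel

theorem fixc_17_150000 : fixPtsF W_17 35328 150000 = true := by decide +kernel

theorem fixc_10_184092 : fixPtsF W_10 1236 184092 = true := by decide +kernel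

end Cfsg.Agent.Helper4.F22MB
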