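import Cfsg.Agent.Helper4.F22MBDat

/-! generated permutation model, checks: F22MB -/

set_option autoImplicit false
set_option Elab.async false
set_option maxRecDepth 1000000

namespace Cfsg.Agent.Helper4.F22MB
open Cfsg.Agent.Helper5.TC Cfsg.Agent.Helper5.TCI Cfsg.Agent.Helper5.LP

theorem fixc_0_50000 : fixPtsF W_0 50000 50000 = true := by decide +kernel

theorem fixc_19_100000 : fixPtsF W_19 50000 100000 = true := by decide +kernel

theorem fixc_38_0 : fixPtsF W_38 50000 0 = true := by decide +kernel

theorem fixc_14_133332 : fixPtsF W_14 33333 133332 = true := by decide +kernel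

theorem fixc_10_0 : fixPtsF W_10 3174 0 = true := by decide +kernel

theorem fixc_10_66654 : fixPtsF W_10 3174 66654 = true := by decide +kernel

theorem fixc_44_9522 : fixPtsF W_44 3174 9522 = true := by decide +kernel

theorem fixc_44_136482 : fixPtsF W_44 3174 136482 = true := by decide +kernel

theorem fixc_43_68107 : fixPtsF W_43 2197 68107 = true := by decide +kernel

theorem fixc_43_155987 : fixPtsF W_43 2197 155987 = true := by decide +kernel

theorem fixc_25_150000 : fixPtsF W_25 35328 150000 = true := by decide +kernel

end Cfsg.Agent.Helper4.F22MB
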