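import Cfsg.Agent.Helper4.F22MBDat

/-! generated permutation model, checks: F22MB -/

set_option autoImplicit false
set_option Elab.async false
set_option maxRecDepth 1000000

namespace Cfsg.Agent.Helper4.F22MB
open Cfsg.Agent.Helper5.TC Cfsg.Agent.Helper5.TCI Cfsg.Agent.Helper5.LP

theorem fixc_0_100000 : fixPtsF W_0 50000 100000 = true := by decide +kernel

theorem fixc_20_0 : fixPtsF W_20 50000 0 = true := by decide +kernel

theorem fixc_38_50000 : fixPtsF W_38 50000 50000 = true := by decide +kernel

theorem fixc_15_0 : fixPtsF W_15 33333 0 = true := by decide +kernel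

theorem fixc_10_3174 : fixPtsF W_10 3174 3174 = true := by decide +kernel

theorem fixc_10_69828 : fixPtsF W_10 3174 69828 = true := by decide +kernel

theorem fixc_44_12696 : fixPtsF W_44 3174 12696 = true := by decide +kernel

theorem fixc_44_139656 : fixPtsF W_44 3174 139656 = true := by decide +kernel

theorem fixc_43_70304 : fixPtsF W_43 2197 70304 = true := by decide +kernel

theorem fixc_43_158184 : fixPtsF W_43 2197 158184 = true := by decide +kernel

theorem fixc_26_150000 : fixPtsF W_26 35328 150000 = true := by decide +kernel

end Cfsg.Agent.Helper4.F22MB
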