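import Cfsg.Agent.Helper4.F22MBDat

/-! generated permutation model, checks: F22MB -/

set_option autoImplicit false
set_option Elab.async false
set_option maxRecDepth 1000000

namespace Cfsg.Agent.Helper4.F22MB
open Cfsg.Agent.Helper5.TC Cfsg.Agent.Helper5.TCI Cfsg.Agent.Helper5.LP

theorem fixc_1_0 : fixPtsF W_1 50000 0 = true := by decide +kernel

theorem fixc_20_50000 : fixPtsF W_20 50000 50000 = true := by decide +kernel

theorem fixc_38_100000 : fixPtsF W_38 50000 100000 = true := by decide +kernel

theorem fixc_15_33333 : fixPtsF W_15 33333 33333 = true := by decide +kernel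

theorem fixc_10_6348 : fixPtsF W_10 3174 6348 = true := by decide +kernel

theorem fixc_10_73002 : fixPtsF W_10 3174 73002 = true := by decide +kernel

theorem fixc_44_15870 : fixPtsF W_44 3174 15870 = true := by decide +kernel

theorem fixc_44_142830 : fixPtsF W_44 3174 142830 = true := by decide +kernel

theorem fixc_43_72501 : fixPtsF W_43 2197 72501 = true := by decide +kernel

theorem fixc_43_160381 : fixPtsF W_43 2197 160381 = true := by decide +kernel

theorem fixc_27_150000 : fixPtsF W_27 35328 150000 = true := by decide +kernel

end Cfsg.Agent.Helper4.F22MB
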