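import Cfsg.Agent.Helper4.F22MBDat

/-! generated permutation model, checks: F22MB -/

set_option autoImplicit false
set_option Elab.async false
set_option maxRecDepth 1000000

namespace Cfsg.Agent.Helper4.F22MB
open Cfsg.Agent.Helper5.TC Cfsg.Agent.Helper5.TCI Cfsg.Agent.Helper5.LP

theorem fixc_1_50000 : fixPtsF W_1 50000 50000 = true := by decide +kernel

theorem fixc_20_100000 : fixPtsF W_20 50000 100000 = true := by decide +kernel

theorem fixc_39_0 : fixPtsF W_39 50000 0 = true := by decide +kernel

theorem fixc_15_66666 : fixPtsF W_15 33333 66666 = true := by decide +kernel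

theorem fixc_10_9522 : fixPtsF W_10 3174 9522 = true := by decide +kernel

theorem fixc_10_76176 : fixPtsF W_10 3174 76176 = true := by decide +kernel

theorem fixc_44_19044 : fixPtsF W_44 3174 19044 = true := by decide +kernel

theorem fixc_44_146004 : fixPtsF W_44 3174 146004 = true := by decide +kernel

theorem fixc_43_74698 : fixPtsF W_43 2197 74698 = true := by decide +kernel

theorem fixc_43_162578 : fixPtsF W_43 2197 162578 = true := by decide +kernel

theorem fixc_30_150000 : fixPtsF W_30 35328 150000 = true := by decide +kernel

end Cfsg.Agent.Helper4.F22MB
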