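import Cfsg.Agent.Helper4.F22MBDat

/-! generated permutation model, checks: F22MB -/

set_option autoImplicit false
set_option Elab.async false
set_option maxRecDepth 1000000

namespace Cfsg.Agent.Helper4.F22MB
open Cfsg.Agent.Helper5.TC Cfsg.Agent.Helper5.TCI Cfsg.Agent.Helper5.LP

theorem fixc_2_0 : fixPtsF W_2 50000 0 = true := by decide +kernel

theorem fixc_21_50000 : fixPtsF W_21 50000 50000 = true := by decide +kernel

theorem fixc_39_100000 : fixPtsF W_39 50000 100000 = true := by decide +kernel

theorem fixc_15_133332 : fixPtsF W_15 33333 133332 = true := by decide +kernel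

theorem fixc_10_15870 : fixPtsF W_10 3174 15870 = true := by decide +kernel

theorem fixc_10_82524 : fixPtsF W_10 3174 82524 = true := by decide +kernel

theorem fixc_44_25392 : fixPtsF W_44 3174 25392 = true := by decide +kernel

theorem fixc_44_152352 : fixPtsF W_44 3174 152352 = true := by decide +kernel

theorem fixc_43_79092 : fixPtsF W_43 2197 79092 = true := by decide +kernel

theorem fixc_43_166972 : fixPtsF W_43 2197 166972 = true := by decide +kernel

theorem fixc_32_150000 : fixPtsF W_32 35328 150000 = true := by decide +kernel

end Cfsg.Agent.Helper4.F22MB
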