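import Cfsg.Agent.Helper4.F22MBDat

/-! generated permutation model, checks: F22MB -/

set_option autoImplicit false
set_option Elab.async false
set_option maxRecDepth 1000000

namespace Cfsg.Agent.Helper4.F22MB
open Cfsg.Agent.Helper5.TC Cfsg.Agent.Helper5.TCI Cfsg.Agent.Helper5.LP

theorem fixc_2_50000 : fixPtsF W_2 50000 50000 = true := by decide +kernel

theorem fixc_21_100000 : fixPtsF W_21 50000 100000 = true := by decide +kernel

theorem fixc_40_0 : fixPtsF W_40 50000 0 = true := by decide +kernel

theorem fixc_22_0 : fixPtsF W_22 33333 0 = true := by decide +kernel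

theorem fixc_10_19044 : fixPtsF W_10 3174 19044 = true := by decide +kernel

theorem fixc_10_85698 : fixPtsF W_10 3174 85698 = true := by decide +kernel

theorem fixc_44_28566 : fixPtsF W_44 3174 28566 = true := by decide +kernel

theorem fixc_44_155526 : fixPtsF W_44 3174 155526 = true := by decide +kernel

theorem fixc_43_81289 : fixPtsF W_43 2197 81289 = true := by decide +kernel

theorem fixc_43_169169 : fixPtsF W_43 2197 169169 = true := by decide +kernel

theorem fixc_33_150000 : fixPtsF W_33 35328 150000 = true := by decide +kernel

end Cfsg.Agent.Helper4.F22MB
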