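import Cfsg.Agent.Helper4.F22MBDat

/-! generated permutation model, checks: F22MB -/

set_option autoImplicit false
set_option Elab.async false
set_option maxRecDepth 1000000

namespace Cfsg.Agent.Helper4.F22MB
open Cfsg.Agent.Helper5.TC Cfsg.Agent.Helper5.TCI Cfsg.Agent.Helper5.LP

theorem invc_3_0 : invRowFI mT 185328 3 2 100000 0 = true := by decide +kernel

theorem fixc_7_100000 : fixPtsF W_7 50000 100000 = true := by decide +kernel

theorem fixc_30_0 : fixPtsF W_30 50000 0 = true := by decide +kernel

theorem fixc_9_33333 : fixPtsF W_9 33333 33333 = true := by decide +kernel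

theorem fixc_29_133332 : fixPtsF W_29 33333 133332 = true := by decide +kernel

theorem fixc_10_136482 : fixPtsF W_10 3174 136482 = true := by decide +kernel

theorem fixc_44_79350 : fixPtsF W_44 3174 79350 = true := by decide +kernel

theorem fixc_43_15379 : fixPtsF W_43 2197 15379 = true := by decide +kernel

theorem fixc_43_103259 : fixPtsF W_43 2197 103259 = true := by decide +kernel

theorem invc_3_100000 : invRowFI mT 185328 3 2 85328 100000 = true := by decide +kernel

theorem fixc_49_100000 : fixPtsF W_49 85328 100000 = true := by decide +kernel

end Cfsg.Agent.Helper4.F22MB
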