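import Cfsg.Agent.Helper4.F22MBDat

/-! generated permutation model, checks: F22MB -/

set_option autoImplicit false
set_option Elab.async false
set_option maxRecDepth 1000000

namespace Cfsg.Agent.Helper4.F22MB
open Cfsg.Agent.Helper5.TC Cfsg.Agent.Helper5.TCI Cfsg.Agent.Helper5.LP

theorem fixc_3_50000 : fixPtsF W_3 50000 50000 = true := by decide +kernel

theorem fixc_23_100000 : fixPtsF W_23 50000 100000 = true := by decide +kernel

theorem fixc_41_0 : fixPtsF W_41 50000 0 = true := by decide +kernel

theorem fixc_22_99999 : fixPtsF W_22 33333 99999 = true := by decide +kernel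

theorem fixc_10_28566 : fixPtsF W_10 3174 28566 = true := by decide +kernel

theorem fixc_10_95220 : fixPtsF W_10 3174 95220 = true := by decide +kernel

theorem fixc_44_38088 : fixPtsF W_44 3174 38088 = true := by decide +kernel

theorem fixc_44_165048 : fixPtsF W_44 3174 165048 = true := by decide +kernel

theorem fixc_43_87880 : fixPtsF W_43 2197 87880 = true := by decide +kernel

theorem fixc_43_175760 : fixPtsF W_43 2197 175760 = true := by decide +kernel

theorem fixc_38_150000 : fixPtsF W_38 35328 150000 = true := by decide +kernel

end Cfsg.Agent.Helper4.F22MB
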