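import Cfsg.Agent.Helper4.F22MBDat

/-! generated permutation model, checks: F22MB -/

set_option autoImplicit false
set_option Elab.async false
set_option maxRecDepth 1000000

namespace Cfsg.Agent.Helper4.F22MB
open Cfsg.Agent.Helper5.TC Cfsg.Agent.Helper5.TCI Cfsg.Agent.Helper5.LP

theorem fixc_3_100000 : fixPtsF W_3 50000 100000 = true := by decide +kernel

theorem fixc_24_0 : fixPtsF W_24 50000 0 = true := by decide +kernel

theorem fixc_41_50000 : fixPtsF W_41 50000 50000 = true := by decide +kernel

theorem fixc_22_133332 : fixPtsF W_22 33333 133332 = true := by decide +kernel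

theorem fixc_10_31740 : fixPtsF W_10 3174 31740 = true := by decide +kernel

theorem fixc_10_98394 : fixPtsF W_10 3174 98394 = true := by decide +kernel

theorem fixc_44_41262 : fixPtsF W_44 3174 41262 = true := by decide +kernel

theorem fixc_44_168222 : fixPtsF W_44 3174 168222 = true := by decide +kernel

theorem fixc_43_90077 : fixPtsF W_43 2197 90077 = true := by decide +kernel

theorem fixc_43_177957 : fixPtsF W_43 2197 177957 = true := by decide +kernel

theorem fixc_39_150000 : fixPtsF W_39 35328 150000 = true := by decide +kernel

end Cfsg.Agent.Helper4.F22MB
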