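import Cfsg.Agent.Helper4.F22MBDat

/-! generated permutation model, checks: F22MB -/

set_option autoImplicit false
set_option Elab.async false
set_option maxRecDepth 1000000

namespace Cfsg.Agent.Helper4.F22MB
open Cfsg.Agent.Helper5.TC Cfsg.Agent.Helper5.TCI Cfsg.Agent.Helper5.LP

theorem fixc_4_0 : fixPtsF W_4 50000 0 = true := by decide +kernel

theorem fixc_24_50000 : fixPtsF W_24 50000 50000 = true := by decide +kernel

theorem fixc_41_100000 : fixPtsF W_41 50000 100000 = true := by decide +kernel

theorem fixc_28_0 : fixPtsF W_28 33333 0 = true := by decide +kernel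

theorem fixc_10_34914 : fixPtsF W_10 3174 34914 = true := by decide +kernel

theorem fixc_10_101568 : fixPtsF W_10 3174 101568 = true := by decide +kernel

theorem fixc_44_44436 : fixPtsF W_44 3174 44436 = true := by decide +kernel

theorem fixc_44_171396 : fixPtsF W_44 3174 171396 = true := by decide +kernel

theorem fixc_43_92274 : fixPtsF W_43 2197 92274 = true := by decide +kernel

theorem fixc_43_180154 : fixPtsF W_43 2197 180154 = true := by decide +kernel

theorem fixc_40_150000 : fixPtsF W_40 35328 150000 = true := by decide +kernel

end Cfsg.Agent.Helper4.F22MB
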