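import Cfsg.Agent.Helper4.F22MBDat

/-! generated permutation model, checks: F22MB -/

set_option autoImplicit false
set_option Elab.async false
set_option maxRecDepth 1000000

namespace Cfsg.Agent.Helper4.F22MB
open Cfsg.Agent.Helper5.TC Cfsg.Agent.Helper5.TCI Cfsg.Agent.Helper5.LP

theorem fixc_4_50000 : fixPtsF W_4 50000 50000 = true := by decide +kernel

theorem fixc_24_100000 : fixPtsF W_24 50000 100000 = true := by decide +kernel

theorem fixc_45_0 : fixPtsF W_45 100000 0 = true := by decide +kernel

theorem fixc_28_33333 : fixPtsF W_28 33333 33333 = true := by decide +kernel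

theorem fixc_10_38088 : fixPtsF W_10 3174 38088 = true := by decide +kernel

theorem fixc_10_104742 : fixPtsF W_10 3174 104742 = true := by decide +kernel

theorem fixc_44_47610 : fixPtsF W_44 3174 47610 = true := by decide +kernel

theorem fixc_44_174570 : fixPtsF W_44 3174 174570 = true := by decide +kernel

theorem fixc_43_94471 : fixPtsF W_43 2197 94471 = true := by decide +kernel

theorem fixc_43_182351 : fixPtsF W_43 2197 182351 = true := by decide +kernel

theorem fixc_41_150000 : fixPtsF W_41 35328 150000 = true := by decide +kernel

end Cfsg.Agent.Helper4.F22MB
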