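import Cfsg.Agent.Helper4.F22MBDat

/-! generated permutation model, checks: F22MB -/

set_option autoImplicit false
set_option Elab.async false
set_option maxRecDepth 1000000

namespace Cfsg.Agent.Helper4.F22MB
open Cfsg.Agent.Helper5.TC Cfsg.Agent.Helper5.TCI Cfsg.Agent.Helper5.LP

theorem fixc_4_100000 : fixPtsF W_4 50000 100000 = true := by decide +kernel

theorem fixc_25_0 : fixPtsF W_25 50000 0 = true := by decide +kernel

theorem fixc_46_0 : fixPtsF W_46 100000 0 = true := by decide +kernel

theorem fixc_28_66666 : fixPtsF W_28 33333 66666 = true := by decide +kernel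

theorem fixc_10_41262 : fixPtsF W_10 3174 41262 = true := by decide +kernel

theorem fixc_10_107916 : fixPtsF W_10 3174 107916 = true := by decide +kernel

theorem fixc_44_50784 : fixPtsF W_44 3174 50784 = true := by decide +kernel

theorem fixc_44_177744 : fixPtsF W_44 3174 177744 = true := by decide +kernel

theorem fixc_43_96668 : fixPtsF W_43 2197 96668 = true := by decide +kernel

theorem invc_0_100000 : invRowFI mT 185328 0 1 85328 100000 = true := by decide +kernel

theorem fixc_46_100000 : fixPtsF W_46 85328 100000 = true := by decide +kernel

end Cfsg.Agent.Helper4.F22MB
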