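import Cfsg.Agent.Helper4.F22MBDat

/-! generated permutation model, checks: F22MB -/

set_option autoImplicit false
set_option Elab.async false
set_option maxRecDepth 1000000

namespace Cfsg.Agent.Helper4.F22MB
open Cfsg.Agent.Helper5.TC Cfsg.Agent.Helper5.TCI Cfsg.Agent.Helper5.LP

theorem fixc_5_0 : fixPtsF W_5 50000 0 = true := by decide +kernel

theorem fixc_25_50000 : fixPtsF W_25 50000 50000 = true := by decide +kernel

theorem fixc_47_0 : fixPtsF W_47 100000 0 = true := by decide +kernel

theorem fixc_28_99999 : fixPtsF W_28 33333 99999 = true := by decide +kernel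

theorem fixc_10_44436 : fixPtsF W_10 3174 44436 = true := by decide +kernel

theorem fixc_10_111090 : fixPtsF W_10 3174 111090 = true := by decide +kernel

theorem fixc_44_53958 : fixPtsF W_44 3174 53958 = true := by decide +kernel

theorem fixc_44_180918 : fixPtsF W_44 3174 180918 = true := by decide +kernel

theorem fixc_43_98865 : fixPtsF W_43 2197 98865 = true := by decide +kernel

theorem invc_1_100000 : invRowFI mT 185328 1 0 85328 100000 = true := by decide +kernel

theorem fixc_47_100000 : fixPtsF W_47 85328 100000 = true := by decide +kernel

end Cfsg.Agent.Helper4.F22MB
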