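import Cfsg.Agent.Helper4.F22MBDat

/-! generated permutation model, checks: F22MB -/

set_option autoImplicit false
set_option Elab.async false
set_option maxRecDepth 1000000

namespace Cfsg.Agent.Helper4.F22MB
open Cfsg.Agent.Helper5.TC Cfsg.Agent.Helper5.TCI Cfsg.Agent.Helper5.LP

theorem fixc_5_50000 : fixPtsF W_5 50000 50000 = true := by decide +kernel

theorem fixc_25_100000 : fixPtsF W_25 50000 100000 = true := by decide +kernel

theorem fixc_48_0 : fixPtsF W_48 100000 0 = true := by decide +kernel

theorem fixc_28_133332 : fixPtsF W_28 33333 133332 = true := by decide +kernel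

theorem fixc_10_47610 : fixPtsF W_10 3174 47610 = true := by decide +kernel

theorem fixc_10_114264 : fixPtsF W_10 3174 114264 = true := by decide +kernel

theorem fixc_44_57132 : fixPtsF W_44 3174 57132 = true := by decide +kernel

theorem fixc_43_0 : fixPtsF W_43 2197 0 = true := by decide +kernel

theorem fixc_43_54925 : fixPtsF W_43 2197 54925 = true := by decide +kernel

theorem fixc_43_142805 : fixPtsF W_43 2197 142805 = true := by decide +kernel

theorem fixc_18_150000 : fixPtsF W_18 35328 150000 = true := by decide +kernel

theorem fixc_43_184548 : fixPtsF W_43 780 184548 = true := by decide +kernel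

end Cfsg.Agent.Helper4.F22MB
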