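import Cfsg.Agent.Helper4.F22MBDat

/-! generated permutation model, checks: F22MB -/

set_option autoImplicit false
set_option Elab.async false
set_option maxRecDepth 1000000

namespace Cfsg.Agent.Helper4.F22MB
open Cfsg.Agent.Helper5.TC Cfsg.Agent.Helper5.TCI Cfsg.Agent.Helper5.LP

theorem fixc_5_100000 : fixPtsF W_5 50000 100000 = true := by decide +kernel

theorem fixc_26_0 : fixPtsF W_26 50000 0 = true := by decide +kernel

theorem fixc_49_0 : fixPtsF W_49 100000 0 = true := by decide +kernel

theorem fixc_29_0 : fixPtsF W_29 33333 0 = true := by decide +kernel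

theorem fixc_10_50784 : fixPtsF W_10 3174 50784 = true := by decide +kernel

theorem fixc_10_117438 : fixPtsF W_10 3174 117438 = true := by decide +kernel

theorem fixc_44_60306 : fixPtsF W_44 3174 60306 = true := by decide +kernel

theorem fixc_43_2197 : fixPtsF W_43 2197 2197 = true := by decide +kernel

theorem fixc_43_57122 : fixPtsF W_43 2197 57122 = true := by decide +kernel

theorem fixc_43_145002 : fixPtsF W_43 2197 145002 = true := by decide +kernel

theorem fixc_19_150000 : fixPtsF W_19 35328 150000 = true := by decide +kernel

end Cfsg.Agent.Helper4.F22MB
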