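import Cfsg.Agent.Helper4.F22MBDat

/-! generated permutation model, checks: F22MB -/

set_option autoImplicit false
set_option Elab.async false
set_option maxRecDepth 1000000

namespace Cfsg.Agent.Helper4.F22MB
open Cfsg.Agent.Helper5.TC Cfsg.Agent.Helper5.TCI Cfsg.Agent.Helper5.LP

theorem fixc_6_0 : fixPtsF W_6 50000 0 = true := by decide +kernel

theorem fixc_26_50000 : fixPtsF W_26 50000 50000 = true := by decide +kernel

theorem fixc_50_0 : fixPtsF W_50 100000 0 = true := by decide +kernel

theorem fixc_29_33333 : fixPtsF W_29 33333 33333 = true := by decide +kernel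

theorem fixc_10_53958 : fixPtsF W_10 3174 53958 = true := by decide +kernel

theorem fixc_10_120612 : fixPtsF W_10 3174 120612 = true := by decide +kernel

theorem fixc_44_63480 : fixPtsF W_44 3174 63480 = true := by decide +kernel

theorem fixc_43_4394 : fixPtsF W_43 2197 4394 = true := by decide +kernel

theorem fixc_43_59319 : fixPtsF W_43 2197 59319 = true := by decide +kernel

theorem fixc_43_147199 : fixPtsF W_43 2197 147199 = true := by decide +kernel

theorem fixc_20_150000 : fixPtsF W_20 35328 150000 = true := by decide +kernel

end Cfsg.Agent.Helper4.F22MB
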