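import Cfsg.Agent.Helper4.F22MBDat

/-! generated permutation model, checks: F22MB -/

set_option autoImplicit false
set_option Elab.async false
set_option maxRecDepth 1000000

namespace Cfsg.Agent.Helper4.F22MB
open Cfsg.Agent.Helper5.TC Cfsg.Agent.Helper5.TCI Cfsg.Agent.Helper5.LP

theorem fixc_6_50000 : fixPtsF W_6 50000 50000 = true := by decide +kernel

theorem fixc_26_100000 : fixPtsF W_26 50000 100000 = true := by decide +kernel

theorem fixc_51_0 : fixPtsF W_51 100000 0 = true := by decide +kernel

theorem fixc_29_66666 : fixPtsF W_29 33333 66666 = true := by decide +kernel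

theorem fixc_10_57132 : fixPtsF W_10 3174 57132 = true := by decide +kernel

theorem fixc_10_123786 : fixPtsF W_10 3174 123786 = true := by decide +kernel

theorem fixc_44_66654 : fixPtsF W_44 3174 66654 = true := by decide +kernel

theorem fixc_43_6591 : fixPtsF W_43 2197 6591 = true := by decide +kernel

theorem fixc_43_61516 : fixPtsF W_43 2197 61516 = true := by decide +kernel

theorem fixc_43_149396 : fixPtsF W_43 2197 149396 = true := by decide +kernel

theorem fixc_21_150000 : fixPtsF W_21 35328 150000 = true := by decide +kernel

end Cfsg.Agent.Helper4.F22MB
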