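import Cfsg.Agent.Helper4.F22MBDat

/-! generated permutation model, checks: F22MB -/

set_option autoImplicit false
set_option Elab.async false
set_option maxRecDepth 1000000

namespace Cfsg.Agent.Helper4.F22MB
open Cfsg.Agent.Helper5.TC Cfsg.Agent.Helper5.TCI Cfsg.Agent.Helper5.LP

theorem invc_4_0 : invRowFI mT 185328 4 5 100000 0 = true := by decide +kernel

theorem fixc_8_0 : fixPtsF W_8 50000 0 = true := by decide +kernel

theorem fixc_30_50000 : fixPtsF W_30 50000 50000 = true := by decide +kernel

theorem fixc_9_66666 : fixPtsF W_9 33333 66666 = true := by decide +kernel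

theorem fixc_35_0 : fixPtsF W_35 33333 0 = true := by decide +kernel

theorem fixc_10_139656 : fixPtsF W_10 3174 139656 = true := by decide +kernel

theorem fixc_44_82524 : fixPtsF W_44 3174 82524 = true := by decide +kernel

theorem fixc_43_17576 : fixPtsF W_43 2197 17576 = true := by decide +kernel

theorem fixc_43_105456 : fixPtsF W_43 2197 105456 = true := by decide +kernel

theorem invc_4_100000 : invRowFI mT 185328 4 5 85328 100000 = true := by decide +kernel

theorem fixc_50_100000 : fixPtsF W_50 85328 100000 = true := by decide +kernel

end Cfsg.Agent.Helper4.F22MB
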