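import Cfsg.Agent.Helper4.F22MBDat

/-! generated permutation model, checks: F22MB -/

set_option autoImplicit false
set_option Elab.async false
set_option maxRecDepth 1000000

namespace Cfsg.Agent.Helper4.F22MB
open Cfsg.Agent.Helper5.TC Cfsg.Agent.Helper5.TCI Cfsg.Agent.Helper5.LP

theorem invc_5_0 : invRowFI mT 185328 5 4 100000 0 = true := by decide +kernel

theorem fixc_8_50000 : fixPtsF W_8 50000 50000 = true := by decide +kernel

theorem fixc_30_100000 : fixPtsF W_30 50000 100000 = true := by decide +kernel

theorem fixc_9_99999 : fixPtsF W_9 33333 99999 = true := by decide +kernel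

theorem fixc_35_33333 : fixPtsF W_35 33333 33333 = true := by decide +kernel

theorem fixc_10_142830 : fixPtsF W_10 3174 142830 = true := by decide +kernel

theorem fixc_44_85698 : fixPtsF W_44 3174 85698 = true := by decide +kernel

theorem fixc_43_19773 : fixPtsF W_43 2197 19773 = true := by decide +kernel

theorem fixc_43_107653 : fixPtsF W_43 2197 107653 = true := by decide +kernel

theorem invc_5_100000 : invRowFI mT 185328 5 4 85328 100000 = true := by decide +kernel

theorem fixc_51_100000 : fixPtsF W_51 85328 100000 = true := by decide +kernel

end Cfsg.Agent.Helper4.F22MB
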