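import Cfsg.Agent.Helper4.F22MBDat

/-! generated permutation model, checks: F22MB -/

set_option autoImplicit false
set_option Elab.async false
set_option maxRecDepth 1000000

namespace Cfsg.Agent.Helper4.F22MB
open Cfsg.Agent.Helper5.TC Cfsg.Agent.Helper5.TCI Cfsg.Agent.Helper5.LP

theorem invc_6_0 : invRowFI mT 185328 6 7 100000 0 = true := by decide +kernel

theorem fixc_8_100000 : fixPtsF W_8 50000 100000 = true := by decide +kernel

theorem fixc_31_0 : fixPtsF W_31 50000 0 = true := by decide +kernel

theorem fixc_9_133332 : fixPtsF W_9 33333 133332 = true := by decide +kernel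

theorem fixc_35_66666 : fixPtsF W_35 33333 66666 = true := by decide +kernel

theorem fixc_10_146004 : fixPtsF W_10 3174 146004 = true := by decide +kernel

theorem fixc_44_88872 : fixPtsF W_44 3174 88872 = true := by decide +kernel

theorem fixc_43_21970 : fixPtsF W_43 2197 21970 = true := by decide +kernel

theorem fixc_43_109850 : fixPtsF W_43 2197 109850 = true := by decide +kernel

theorem invc_6_100000 : invRowFI mT 185328 6 7 85328 100000 = true := by decide +kernel

theorem fixc_52_100000 : fixPtsF W_52 85328 100000 = true := by decide +kernel

end Cfsg.Agent.Helper4.F22MB
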