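import Cfsg.Agent.Helper4.F22MBDat

/-! generated permutation model, checks: F22MB -/

set_option autoImplicit false
set_option Elab.async false
set_option maxRecDepth 1000000

namespace Cfsg.Agent.Helper4.F22MB
open Cfsg.Agent.Helper5.TC Cfsg.Agent.Helper5.TCI Cfsg.Agent.Helper5.LP

theorem invc_7_0 : invRowFI mT 185328 7 6 100000 0 = true := by decide +kernel

theorem fixc_11_0 : fixPtsF W_11 50000 0 = true := by decide +kernel

theorem fixc_31_50000 : fixPtsF W_31 50000 50000 = true := by decide +kernel

theorem fixc_12_0 : fixPtsF W_12 33333 0 = true := by decide +kernel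

theorem fixc_35_99999 : fixPtsF W_35 33333 99999 = true := by decide +kernel

theorem fixc_10_149178 : fixPtsF W_10 3174 149178 = true := by decide +kernel

theorem fixc_44_92046 : fixPtsF W_44 3174 92046 = true := by decide +kernel

theorem fixc_43_24167 : fixPtsF W_43 2197 24167 = true := by decide +kernel

theorem fixc_43_112047 : fixPtsF W_43 2197 112047 = true := by decide +kernel

theorem invc_7_100000 : invRowFI mT 185328 7 6 85328 100000 = true := by decide +kernel

theorem fixc_53_100000 : fixPtsF W_53 85328 100000 = true := by decide +kernel

end Cfsg.Agent.Helper4.F22MB
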