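import Cfsg.Agent.Helper4.F22MBDat

/-! generated permutation model, checks: F22MB -/

set_option autoImplicit false
set_option Elab.async false
set_option maxRecDepth 1000000

namespace Cfsg.Agent.Helper4.F22MB
open Cfsg.Agent.Helper5.TC Cfsg.Agent.Helper5.TCI Cfsg.Agent.Helper5.LP

theorem invc_8_0 : invRowFI mT 185328 8 9 100000 0 = true := by decide +kernel

theorem fixc_11_50000 : fixPtsF W_11 50000 50000 = true := by decide +kernel

theorem fixc_31_100000 : fixPtsF W_31 50000 100000 = true := by decide +kernel

theorem fixc_12_33333 : fixPtsF W_12 33333 33333 = true := by decide +kernel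

theorem fixc_35_133332 : fixPtsF W_35 33333 133332 = true := by decide +kernel

theorem fixc_10_152352 : fixPtsF W_10 3174 152352 = true := by decide +kernel

theorem fixc_44_95220 : fixPtsF W_44 3174 95220 = true := by decide +kernel

theorem fixc_43_26364 : fixPtsF W_43 2197 26364 = true := by decide +kernel

theorem fixc_43_114244 : fixPtsF W_43 2197 114244 = true := by decide +kernel

theorem invc_8_100000 : invRowFI mT 185328 8 9 85328 100000 = true := by decide +kernel

theorem fixc_54_133332 : fixPtsF W_54 51996 133332 = true := by decide +kernel

theorem fixc_44_184092 : fixPtsF W_44 1236 184092 = true := by decide +kernel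

end Cfsg.Agent.Helper4.F22MB
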