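import Cfsg.Agent.Helper4.F22MBDat

/-! generated permutation model, checks: F22MB -/

set_option autoImplicit false
set_option Elab.async false
set_option maxRecDepth 1000000

namespace Cfsg.Agent.Helper4.F22MB
open Cfsg.Agent.Helper5.TC Cfsg.Agent.Helper5.TCI Cfsg.Agent.Helper5.LP

theorem invc_9_0 : invRowFI mT 185328 9 8 100000 0 = true := by decide +kernel

theorem fixc_11_100000 : fixPtsF W_11 50000 100000 = true := by decide +kernel

theorem fixc_32_0 : fixPtsF W_32 50000 0 = true := by decide +kernel

theorem fixc_12_66666 : fixPtsF W_12 33333 66666 = true := by decide +kernel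

theorem fixc_37_0 : fixPtsF W_37 33333 0 = true := by decide +kernel

theorem fixc_10_155526 : fixPtsF W_10 3174 155526 = true := by decide +kernel

theorem fixc_44_98394 : fixPtsF W_44 3174 98394 = true := by decide +kernel

theorem fixc_43_28561 : fixPtsF W_43 2197 28561 = true := by decide +kernel

theorem fixc_43_116441 : fixPtsF W_43 2197 116441 = true := by decide +kernel

theorem invc_9_100000 : invRowFI mT 185328 9 8 85328 100000 = true := by decide +kernel

theorem fixc_0_150000 : fixPtsF W_0 35328 150000 = true := by decide +kernel

theorem fixc_9_166665 : fixPtsF W_9 18663 166665 = true := by decide +kernel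

end Cfsg.Agent.Helper4.F22MB
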