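import Cfsg.Agent.Helper4.F22MBCk0
import Cfsg.Agent.Helper4.F22MBCk1
import Cfsg.Agent.Helper4.F22MBCk2
import Cfsg.Agent.Helper4.F22MBCk3
import Cfsg.Agent.Helper4.F22MBCk4
import Cfsg.Agent.Helper4.F22MBCk5
import Cfsg.Agent.Helper4.F22MBCk6
import Cfsg.Agent.Helper4.F22MBCk7
import Cfsg.Agent.Helper4.F22MBCk8
import Cfsg.Agent.Helper4.F22MBCk9
import Cfsg.Agent.Helper4.F22MBCk10
import Cfsg.Agent.Helper4.F22MBCk11
import Cfsg.Agent.Helper4.F22MBCk12
import Cfsg.Agent.Helper4.F22MBCk13
import Cfsg.Agent.Helper4.F22MBCk14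
import Cfsg.Agent.Helper4.F22MBCk15
import Cfsg.Agent.Helper4.F22MBCk16
import Cfsg.Agent.Helper4.F22MBCk17
import Cfsg.Agent.Helper4.F22MBCk18
import Cfsg.Agent.Helper4.F22MBCk19
import Cfsg.Agent.Helper4.F22MBCk20
import Cfsg.Agent.Helper4.F22MBCk21
import Cfsg.Agent.Helper4.F22MBCk22
import Cfsg.Agent.Helper4.F22MBCk23
import Cfsg.Agent.Helper4.F22MBCk24
import Cfsg.Agent.Helper4.F22MBCk25
import Cfsg.Agent.Helper4.F22MBCk26
import Cfsg.Agent.Helper4.F22MBCk27
import Cfsg.Agent.Helper4.F22MBCk28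
import Cfsg.Agent.Helper4.F22MBCk29
import Cfsg.Agent.Helper4.F22MBCk30
import Cfsg.Agent.Helper4.F22MBCk31
import Cfsg.Agent.Helper4.F22MBCk32
import Cfsg.Agent.Helper4.F22MBCk33
import Cfsg.Agent.Helper4.F22MBCk34
import Cfsg.Agent.Helper4.F22MBCk35
import Cfsg.Agent.Helper4.F22MBCk36
import Cfsg.Agent.Helper4.F22MBCk37
import Cfsg.Agent.Helper4.F22MBCk38
import Cfsg.Agent.Helper4.F22MBCk39

/-! generated permutation model, summary: F22MB -/

set_option autoImplicit false
set_option maxRecDepth 1000000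

namespace Cfsg.Agent.Helper4.F22MB
open Cfsg.Agent.Helper5.TC Cfsg.Agent.Helper5.TCI Cfsg.Agent.Helper5.LP Cfsg.Agent.Helper5.StemP
  Cfsg.Agent.Helper4.ShM

theorem inv_0 : ∀ v, v < 185328 → mT 0 v < 185328 ∧ mT 1 (mT 0 v) = v :=
  (inv_step (inv_step (fun v hv => absurd hv (by omega)) 100000 invc_0_0) 85328 invc_0_100000)

theorem inv_1 : ∀ v, v < 185328 → mT 1 v < 185328 ∧ mT 0 (mT 1 v) = v :=
  (inv_step (inv_step (fun v hv => absurd hv (by omega)) 100000 invc_1_0) 85328 invc_1_100000)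

theorem inv_2 : ∀ v, v < 185328 → mT 2 v < 185328 ∧ mT 3 (mT 2 v) = v :=
  (inv_step (inv_step (fun v hv => absurd hv (by omega)) 100000 invc_2_0) 85328 invc_2_100000)

theorem inv_3 : ∀ v, v < 185328 → mT 3 v < 185328 ∧ mT 2 (mT 3 v) = v :=
  (inv_step (inv_step (fun v hv => absurd hv (by omega)) 100000 invc_3_0) 85328 invc_3_100000)

theorem inv_4 : ∀ v, v < 185328 → mT 4 v < 185328 ∧ mT 5 (mT 4 v) = v :=
  (inv_step (inv_step (fun v hv => absurd hv (by omega)) 100000 invc_4_0) 85328 invc_4_100000)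

theorem inv_5 : ∀ v, v < 185328 → mT 5 v < 185328 ∧ mT 4 (mT 5 v) = v :=
  (inv_step (inv_step (fun v hv => absurd hv (by omega)) 100000 invc_5_0) 85328 invc_5_100000)

theorem inv_6 : ∀ v, v < 185328 → mT 6 v < 185328 ∧ mT 7 (mT 6 v) = v :=
  (inv_step (inv_step (fun v hv => absurd hv (by omega)) 100000 invc_6_0) 85328 invc_6_100000)

theorem inv_7 : ∀ v, v < 185328 → mT 7 v < 185328 ∧ mT 6 (mT 7 v) = v :=
  (inv_step (inv_step (fun v hv => absurd hv (by omega)) 100000 invc_7_0) 85328 invc_7_100000)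

theorem inv_8 : ∀ v, v < 185328 → mT 8 v < 185328 ∧ mT 9 (mT 8 v) = v :=
  (inv_step (inv_step (fun v hv => absurd hv (by omega)) 100000 invc_8_0) 85328 invc_8_100000)

theorem inv_9 : ∀ v, v < 185328 → mT 9 v < 185328 ∧ mT 8 (mT 9 v) = v :=
  (inv_step (inv_step (fun v hv => absurd hv (by omega)) 100000 invc_9_0) 85328 invc_9_100000)

theorem inv_10 : ∀ v, v < 185328 → mT 10 v < 185328 ∧ mT 11 (mT 10 v) = v :=
  (inv_step (inv_step (fun v hv => absurd hv (by omega)) 100000 invc_10_0) 85328 invc_10_100000)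

theorem inv_11 : ∀ v, v < 185328 → mT 11 v < 185328 ∧ mT 10 (mT 11 v) = v :=
  (inv_step (inv_step (fun v hv => absurd hv (by omega)) 100000 invc_11_0) 85328 invc_11_100000)

theorem inv_12 : ∀ v, v < 185328 → mT 12 v < 185328 ∧ mT 13 (mT 12 v) = v :=
  (inv_step (inv_step (fun v hv => absurd hv (by omega)) 100000 invc_12_0) 85328 invc_12_100000)

theorem inv_13 : ∀ v, v < 185328 → mT 13 v < 185328 ∧ mT 12 (mT 13 v) = v :=
  (inv_step (inv_step (fun v hv => absurd hv (by omega)) 100000 invc_13_0) 85328 invc_13_100000)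

theorem inv_14 : ∀ v, v < 185328 → mT 14 v < 185328 ∧ mT 15 (mT 14 v) = v :=
  (inv_step (inv_step (fun v hv => absurd hv (by omega)) 100000 invc_14_0) 85328 invc_14_100000)

theorem inv_15 : ∀ v, v < 185328 → mT 15 v < 185328 ∧ mT 14 (mT 15 v) = v :=
  (inv_step (inv_step (fun v hv => absurd hv (by omega)) 100000 invc_15_0) 85328 invc_15_100000)

theorem inv_16 : ∀ v, v < 185328 → mT 16 v < 185328 ∧ mT 17 (mT 16 v) = v :=
  (inv_step (inv_step (fun v hv => absurd hv (by omega)) 100000 invc_16_0) 85328 invc_16_100000)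

theorem inv_17 : ∀ v, v < 185328 → mT 17 v < 185328 ∧ mT 16 (mT 17 v) = v :=
  (inv_step (inv_step (fun v hv => absurd hv (by omega)) 100000 invc_17_0) 85328 invc_17_100000)

theorem inv_18 : ∀ v, v < 185328 → mT 18 v < 185328 ∧ mT 19 (mT 18 v) = v :=
  (inv_step (inv_step (fun v hv => absurd hv (by omega)) 100000 invc_18_0) 85328 invc_18_100000)

theorem inv_19 : ∀ v, v < 185328 → mT 19 v < 185328 ∧ mT 18 (mT 19 v) = v :=
  (inv_step (inv_step (fun v hv => absurd hv (by omega)) 100000 invc_19_0) 85328 invc_19_100000)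

theorem tableOK : TableOKI (2 * (9 + 1)) 185328 linv mT := by
  intro x hx v hv
  have hx' : x < 20 := hx
  interval_cases x
  · exact inv_0 v hv
  · exact inv_1 v hv
  · exact inv_2 v hv
  · exact inv_3 v hv
  · exact inv_4 v hv
  · exact inv_5 v hv
  · exact inv_6 v hv
  · exact inv_7 v hv
  · exact inv_8 v hv
  · exact inv_9 v hv
  · exact inv_10 v hv
  · exact inv_11 v hv
  · exact inv_12 v hv
  · exact inv_13 v hv
  · exact inv_14 v hv
  · exact inv_15 v hv
  · exact inv_16 v hv
  · exact inv_17 v hv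
  · exact inv_18 v hv
  · exact inv_19 v hv

theorem actw_0 : ∀ v, actL mT w_0 v = W_0 v := by
  intro v
  simp (maxSteps := 100000000) only [w_0, actL, W_0, forceL_eq]
  rfl

theorem fixW_0 : ∀ v, v < 185328 → W_0 v = v :=
  (fixW_step (fixW_step (fixW_step (fixW_step (fun v hv => absurd hv (by omega)) 50000 fixc_0_0) 50000 fixc_0_50000) 50000 fixc_0_100000) 35328 fixc_0_150000)

theorem fix_0 : ∀ v, v < 185328 → actL mT w_0 v = v := fun v hv => by
  rw [actw_0]
  exact fixW_0 v hv

theorem actw_1 : ∀ v, actL mT w_1 v = W_1 v := by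
  intro v
  simp (maxSteps := 100000000) only [w_1, actL, W_1, forceL_eq]
  rfl

theorem fixW_1 : ∀ v, v < 185328 → W_1 v = v :=
  (fixW_step (fixW_step (fixW_step (fixW_step (fun v hv => absurd hv (by omega)) 50000 fixc_1_0) 50000 fixc_1_50000) 50000 fixc_1_100000) 35328 fixc_1_150000)

theorem fix_1 : ∀ v, v < 185328 → actL mT w_1 v = v := fun v hv => by
  rw [actw_1]
  exact fixW_1 v hv

theorem actw_2 : ∀ v, actL mT w_2 v = W_2 v := by
  intro v
  simp (maxSteps := 100000000) only [w_2, actL, W_2, forceL_eq]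
  rfl

theorem fixW_2 : ∀ v, v < 185328 → W_2 v = v :=
  (fixW_step (fixW_step (fixW_step (fixW_step (fun v hv => absurd hv (by omega)) 50000 fixc_2_0) 50000 fixc_2_50000) 50000 fixc_2_100000) 35328 fixc_2_150000)

theorem fix_2 : ∀ v, v < 185328 → actL mT w_2 v = v := fun v hv => by
  rw [actw_2]
  exact fixW_2 v hv

theorem actw_3 : ∀ v, actL mT w_3 v = W_3 v := by
  intro v
  simp (maxSteps := 100000000) only [w_3, actL, W_3, forceL_eq]
  rfl

theorem fixW_3 : ∀ v, v < 185328 → W_3 v = v :=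
  (fixW_step (fixW_step (fixW_step (fixW_step (fun v hv => absurd hv (by omega)) 50000 fixc_3_0) 50000 fixc_3_50000) 50000 fixc_3_100000) 35328 fixc_3_150000)

theorem fix_3 : ∀ v, v < 185328 → actL mT w_3 v = v := fun v hv => by
  rw [actw_3]
  exact fixW_3 v hv

theorem actw_4 : ∀ v, actL mT w_4 v = W_4 v := by
  intro v
  simp (maxSteps := 100000000) only [w_4, actL, W_4, forceL_eq]
  rfl

theorem fixW_4 : ∀ v, v < 185328 → W_4 v = v :=
  (fixW_step (fixW_step (fixW_step (fixW_step (fun v hv => absurd hv (by omega)) 50000 fixc_4_0) 50000 fixc_4_50000) 50000 fixc_4_100000) 35328 fixc_4_150000)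

theorem fix_4 : ∀ v, v < 185328 → actL mT w_4 v = v := fun v hv => by
  rw [actw_4]
  exact fixW_4 v hv

theorem actw_5 : ∀ v, actL mT w_5 v = W_5 v := by
  intro v
  simp (maxSteps := 100000000) only [w_5, actL, W_5, forceL_eq]
  rfl

theorem fixW_5 : ∀ v, v < 185328 → W_5 v = v :=
  (fixW_step (fixW_step (fixW_step (fixW_step (fun v hv => absurd hv (by omega)) 50000 fixc_5_0) 50000 fixc_5_50000) 50000 fixc_5_100000) 35328 fixc_5_150000)

theorem fix_5 : ∀ v, v < 185328 → actL mT w_5 v = v := fun v hv => by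
  rw [actw_5]
  exact fixW_5 v hv

theorem actw_6 : ∀ v, actL mT w_6 v = W_6 v := by
  intro v
  simp (maxSteps := 100000000) only [w_6, actL, W_6, forceL_eq]
  rfl

theorem fixW_6 : ∀ v, v < 185328 → W_6 v = v :=
  (fixW_step (fixW_step (fixW_step (fixW_step (fun v hv => absurd hv (by omega)) 50000 fixc_6_0) 50000 fixc_6_50000) 50000 fixc_6_100000) 35328 fixc_6_150000)

theorem fix_6 : ∀ v, v < 185328 → actL mT w_6 v = v := fun v hv => by
  rw [actw_6]
  exact fixW_6 v hv

theorem actw_7 : ∀ v, actL mT w_7 v = W_7 v := by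
  intro v
  simp (maxSteps := 100000000) only [w_7, actL, W_7, forceL_eq]
  rfl

theorem fixW_7 : ∀ v, v < 185328 → W_7 v = v :=
  (fixW_step (fixW_step (fixW_step (fixW_step (fun v hv => absurd hv (by omega)) 50000 fixc_7_0) 50000 fixc_7_50000) 50000 fixc_7_100000) 35328 fixc_7_150000)

theorem fix_7 : ∀ v, v < 185328 → actL mT w_7 v = v := fun v hv => by
  rw [actw_7]
  exact fixW_7 v hv

theorem actw_8 : ∀ v, actL mT w_8 v = W_8 v := by
  intro v
  simp (maxSteps := 100000000) only [w_8, actL, W_8, forceL_eq]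
  rfl

theorem fixW_8 : ∀ v, v < 185328 → W_8 v = v :=
  (fixW_step (fixW_step (fixW_step (fixW_step (fun v hv => absurd hv (by omega)) 50000 fixc_8_0) 50000 fixc_8_50000) 50000 fixc_8_100000) 35328 fixc_8_150000)

theorem fix_8 : ∀ v, v < 185328 → actL mT w_8 v = v := fun v hv => by
  rw [actw_8]
  exact fixW_8 v hv

theorem actw_9 : ∀ v, actL mT w_9 v = W_9 v := by
  intro v
  simp (maxSteps := 100000000) only [w_9, actL, W_9, forceL_eq]
  rfl

theorem fixW_9 : ∀ v, v < 185328 → W_9 v = v :=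
  (fixW_step (fixW_step (fixW_step (fixW_step (fixW_step (fixW_step (fun v hv => absurd hv (by omega)) 33333 fixc_9_0) 33333 fixc_9_33333) 33333 fixc_9_66666) 33333 fixc_9_99999) 33333 fixc_9_133332) 18663 fixc_9_166665)

theorem fix_9 : ∀ v, v < 185328 → actL mT w_9 v = v := fun v hv => by
  rw [actw_9]
  exact fixW_9 v hv

theorem actw_10 : ∀ v, actL mT w_10 v = W_10 v := by
  intro v
  simp (maxSteps := 100000000) only [w_10, actL, W_10, forceL_eq]
  rfl

theorem fixW_10 : ∀ v, v < 185328 → W_10 v = v :=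
  (fixW_step (fixW_step (fixW_step (fixW_step (fixW_step (fixW_step (fixW_step (fixW_step (fixW_step (fixW_step (fixW_step (fixW_step (fixW_step (fixW_step (fixW_step (fixW_step (fixW_step (fixW_step (fixW_step (fixW_step (fixW_step (fixW_step (fixW_step (fixW_step (fixW_step (fixW_step (fixW_step (fixW_step (fixW_step (fixW_step (fixW_step (fixW_step (fixW_step (fixW_step (fixW_step (fixW_step (fixW_step (fixW_step (fixW_step (fixW_step (fixW_step (fixW_step (fixW_step (fixW_step (fixW_step (fixW_step (fixW_step (fixW_step (fixW_step (fixW_step (fixW_step (fixW_step (fixW_step (fixW_step (fixW_step (fixW_step (fixW_step (fixW_step (fixW_step (fun v hv => absurd hv (by omega)) 3174 fixc_10_0) 3174 fixc_10_3174) 3174 fixc_10_6348) 3174 fixc_10_9522) 3174 fixc_10_12696) 3174 fixc_10_15870) 3174 fixc_10_19044) 3174 fixc_10_22218) 3174 fixc_10_25392) 3174 fixc_10_28566) 3174 fixc_10_31740) 3174 fixc_10_34914) 3174 fixc_10_38088) 3174 fixc_10_41262) 3174 fixc_10_44436) 3174 fixc_10_47610)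 3174 fixc_10_50784) 3174 fixc_10_53958) 3174 fixc_10_57132) 3174 fixc_10_60306) 3174 fixc_10_63480) 3174 fixc_10_66654) 3174 fixc_10_69828) 3174 fixc_10_73002) 3174 fixc_10_76176) 3174 fixc_10_79350) 3174 fixc_10_82524) 3174 fixc_10_85698) 3174 fixc_10_88872) 3174 fixc_10_92046) 3174 fixc_10_95220) 3174 fixc_10_98394) 3174 fixc_10_101568) 3174 fixc_10_104742) 3174 fixc_10_107916) 3174 fixc_10_111090) 3174 fixc_10_114264) 3174 fixc_10_117438) 3174 fixc_10_120612) 3174 fixc_10_123786) 3174 fixc_10_126960) 3174 fixc_10_130134) 3174 fixc_10_133308) 3174 fixc_10_136482) 3174 fixc_10_139656) 3174 fixc_10_142830) 3174 fixc_10_146004) 3174 fixc_10_149178) 3174 fixc_10_152352) 3174 fixc_10_155526) 3174 fixc_10_158700) 3174 fixc_10_161874) 3174 fixc_10_165048) 3174 fixc_10_168222) 3174 fixc_10_171396) 3174 fixc_10_174570) 3174 fixc_10_177744) 3174 fixc_10_180918) 1236 fixc_10_184092)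

theorem fix_10 : ∀ v, v < 185328 → actL mT w_10 v = v := fun v hv => by
  rw [actw_10]
  exact fixW_10 v hv

theorem actw_11 : ∀ v, actL mT w_11 v = W_11 v := by
  intro v
  simp (maxSteps := 100000000) only [w_11, actL, W_11, forceL_eq]
  rfl

theorem fixW_11 : ∀ v, v < 185328 → W_11 v = v :=
  (fixW_step (fixW_step (fixW_step (fixW_step (fun v hv => absurd hv (by omega)) 50000 fixc_11_0) 50000 fixc_11_50000) 50000 fixc_11_100000) 35328 fixc_11_150000)

theorem fix_11 : ∀ v, v < 185328 → actL mT w_11 v = v := fun v hv => by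
  rw [actw_11]
  exact fixW_11 v hv

theorem actw_12 : ∀ v, actL mT w_12 v = W_12 v := by
  intro v
  simp (maxSteps := 100000000) only [w_12, actL, W_12, forceL_eq]
  rfl

theorem fixW_12 : ∀ v, v < 185328 → W_12 v = v :=
  (fixW_step (fixW_step (fixW_step (fixW_step (fixW_step (fixW_step (fun v hv => absurd hv (by omega)) 33333 fixc_12_0) 33333 fixc_12_33333) 33333 fixc_12_66666) 33333 fixc_12_99999) 33333 fixc_12_133332) 18663 fixc_12_166665)

theorem fix_12 : ∀ v, v < 185328 → actL mT w_12 v = v := fun v hv => by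
  rw [actw_12]
  exact fixW_12 v hv

theorem actw_13 : ∀ v, actL mT w_13 v = W_13 v := by
  intro v
  simp (maxSteps := 100000000) only [w_13, actL, W_13, forceL_eq]
  rfl

theorem fixW_13 : ∀ v, v < 185328 → W_13 v = v :=
  (fixW_step (fixW_step (fixW_step (fixW_step (fixW_step (fixW_step (fun v hv => absurd hv (by omega)) 33333 fixc_13_0) 33333 fixc_13_33333) 33333 fixc_13_66666) 33333 fixc_13_99999) 33333 fixc_13_133332) 18663 fixc_13_166665)

theorem fix_13 : ∀ v, v < 185328 → actL mT w_13 v = v := fun v hv => by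
  rw [actw_13]
  exact fixW_13 v hv

theorem actw_14 : ∀ v, actL mT w_14 v = W_14 v := by
  intro v
  simp (maxSteps := 100000000) only [w_14, actL, W_14, forceL_eq]
  rfl

theorem fixW_14 : ∀ v, v < 185328 → W_14 v = v :=
  (fixW_step (fixW_step (fixW_step (fixW_step (fixW_step (fixW_step (fun v hv => absurd hv (by omega)) 33333 fixc_14_0) 33333 fixc_14_33333) 33333 fixc_14_66666) 33333 fixc_14_99999) 33333 fixc_14_133332) 18663 fixc_14_166665)

theorem fix_14 : ∀ v, v < 185328 → actL mT w_14 v = v := fun v hv => by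
  rw [actw_14]
  exact fixW_14 v hv

theorem actw_15 : ∀ v, actL mT w_15 v = W_15 v := by
  intro v
  simp (maxSteps := 100000000) only [w_15, actL, W_15, forceL_eq]
  rfl

theorem fixW_15 : ∀ v, v < 185328 → W_15 v = v :=
  (fixW_step (fixW_step (fixW_step (fixW_step (fixW_step (fixW_step (fun v hv => absurd hv (by omega)) 33333 fixc_15_0) 33333 fixc_15_33333) 33333 fixc_15_66666) 33333 fixc_15_99999) 33333 fixc_15_133332) 18663 fixc_15_166665)

theorem fix_15 : ∀ v, v < 185328 → actL mT w_15 v = v := fun v hv => by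
  rw [actw_15]
  exact fixW_15 v hv

theorem actw_16 : ∀ v, actL mT w_16 v = W_16 v := by
  intro v
  simp (maxSteps := 100000000) only [w_16, actL, W_16, forceL_eq]
  rfl

theorem fixW_16 : ∀ v, v < 185328 → W_16 v = v :=
  (fixW_step (fixW_step (fixW_step (fixW_step (fun v hv => absurd hv (by omega)) 50000 fixc_16_0) 50000 fixc_16_50000) 50000 fixc_16_100000) 35328 fixc_16_150000)

theorem fix_16 : ∀ v, v < 185328 → actL mT w_16 v = v := fun v hv => by
  rw [actw_16]
  exact fixW_16 v hv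

theorem actw_17 : ∀ v, actL mT w_17 v = W_17 v := by
  intro v
  simp (maxSteps := 100000000) only [w_17, actL, W_17, forceL_eq]
  rfl

theorem fixW_17 : ∀ v, v < 185328 → W_17 v = v :=
  (fixW_step (fixW_step (fixW_step (fixW_step (fun v hv => absurd hv (by omega)) 50000 fixc_17_0) 50000 fixc_17_50000) 50000 fixc_17_100000) 35328 fixc_17_150000)

theorem fix_17 : ∀ v, v < 185328 → actL mT w_17 v = v := fun v hv => by
  rw [actw_17]
  exact fixW_17 v hv

theorem actw_18 : ∀ v, actL mT w_18 v = W_18 v := by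
  intro v
  simp (maxSteps := 100000000) only [w_18, actL, W_18, forceL_eq]
  rfl

theorem fixW_18 : ∀ v, v < 185328 → W_18 v = v :=
  (fixW_step (fixW_step (fixW_step (fixW_step (fun v hv => absurd hv (by omega)) 50000 fixc_18_0) 50000 fixc_18_50000) 50000 fixc_18_100000) 35328 fixc_18_150000)

theorem fix_18 : ∀ v, v < 185328 → actL mT w_18 v = v := fun v hv => by
  rw [actw_18]
  exact fixW_18 v hv

theorem actw_19 : ∀ v, actL mT w_19 v = W_19 v := by
  intro v
  simp (maxSteps := 100000000) only [w_19, actL, W_19, forceL_eq]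
  rfl

theorem fixW_19 : ∀ v, v < 185328 → W_19 v = v :=
  (fixW_step (fixW_step (fixW_step (fixW_step (fun v hv => absurd hv (by omega)) 50000 fixc_19_0) 50000 fixc_19_50000) 50000 fixc_19_100000) 35328 fixc_19_150000)

theorem fix_19 : ∀ v, v < 185328 → actL mT w_19 v = v := fun v hv => by
  rw [actw_19]
  exact fixW_19 v hv

theorem actw_20 : ∀ v, actL mT w_20 v = W_20 v := by
  intro v
  simp (maxSteps := 100000000) only [w_20, actL, W_20, forceL_eq]
  rfl

theorem fixW_20 : ∀ v, v < 185328 → W_20 v = v :=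
  (fixW_step (fixW_step (fixW_step (fixW_step (fun v hv => absurd hv (by omega)) 50000 fixc_20_0) 50000 fixc_20_50000) 50000 fixc_20_100000) 35328 fixc_20_150000)

theorem fix_20 : ∀ v, v < 185328 → actL mT w_20 v = v := fun v hv => by
  rw [actw_20]
  exact fixW_20 v hv

theorem actw_21 : ∀ v, actL mT w_21 v = W_21 v := by
  intro v
  simp (maxSteps := 100000000) only [w_21, actL, W_21, forceL_eq]
  rfl

theorem fixW_21 : ∀ v, v < 185328 → W_21 v = v :=
  (fixW_step (fixW_step (fixW_step (fixW_step (fun v hv => absurd hv (by omega)) 50000 fixc_21_0) 50000 fixc_21_50000) 50000 fixc_21_100000) 35328 fixc_21_150000)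

theorem fix_21 : ∀ v, v < 185328 → actL mT w_21 v = v := fun v hv => by
  rw [actw_21]
  exact fixW_21 v hv

theorem actw_22 : ∀ v, actL mT w_22 v = W_22 v := by
  intro v
  simp (maxSteps := 100000000) only [w_22, actL, W_22, forceL_eq]
  rfl

theorem fixW_22 : ∀ v, v < 185328 → W_22 v = v :=
  (fixW_step (fixW_step (fixW_step (fixW_step (fixW_step (fixW_step (fun v hv => absurd hv (by omega)) 33333 fixc_22_0) 33333 fixc_22_33333) 33333 fixc_22_66666) 33333 fixc_22_99999) 33333 fixc_22_133332) 18663 fixc_22_166665)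

theorem fix_22 : ∀ v, v < 185328 → actL mT w_22 v = v := fun v hv => by
  rw [actw_22]
  exact fixW_22 v hv

theorem actw_23 : ∀ v, actL mT w_23 v = W_23 v := by
  intro v
  simp (maxSteps := 100000000) only [w_23, actL, W_23, forceL_eq]
  rfl

theorem fixW_23 : ∀ v, v < 185328 → W_23 v = v :=
  (fixW_step (fixW_step (fixW_step (fixW_step (fun v hv => absurd hv (by omega)) 50000 fixc_23_0) 50000 fixc_23_50000) 50000 fixc_23_100000) 35328 fixc_23_150000)

theorem fix_23 : ∀ v, v < 185328 → actL mT w_23 v = v := fun v hv => by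
  rw [actw_23]
  exact fixW_23 v hv

theorem actw_24 : ∀ v, actL mT w_24 v = W_24 v := by
  intro v
  simp (maxSteps := 100000000) only [w_24, actL, W_24, forceL_eq]
  rfl

theorem fixW_24 : ∀ v, v < 185328 → W_24 v = v :=
  (fixW_step (fixW_step (fixW_step (fixW_step (fun v hv => absurd hv (by omega)) 50000 fixc_24_0) 50000 fixc_24_50000) 50000 fixc_24_100000) 35328 fixc_24_150000)

theorem fix_24 : ∀ v, v < 185328 → actL mT w_24 v = v := fun v hv => by
  rw [actw_24]
  exact fixW_24 v hv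

theorem actw_25 : ∀ v, actL mT w_25 v = W_25 v := by
  intro v
  simp (maxSteps := 100000000) only [w_25, actL, W_25, forceL_eq]
  rfl

theorem fixW_25 : ∀ v, v < 185328 → W_25 v = v :=
  (fixW_step (fixW_step (fixW_step (fixW_step (fun v hv => absurd hv (by omega)) 50000 fixc_25_0) 50000 fixc_25_50000) 50000 fixc_25_100000) 35328 fixc_25_150000)

theorem fix_25 : ∀ v, v < 185328 → actL mT w_25 v = v := fun v hv => by
  rw [actw_25]
  exact fixW_25 v hv

theorem actw_26 : ∀ v, actL mT w_26 v = W_26 v := by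
  intro v
  simp (maxSteps := 100000000) only [w_26, actL, W_26, forceL_eq]
  rfl

theorem fixW_26 : ∀ v, v < 185328 → W_26 v = v :=
  (fixW_step (fixW_step (fixW_step (fixW_step (fun v hv => absurd hv (by omega)) 50000 fixc_26_0) 50000 fixc_26_50000) 50000 fixc_26_100000) 35328 fixc_26_150000)

theorem fix_26 : ∀ v, v < 185328 → actL mT w_26 v = v := fun v hv => by
  rw [actw_26]
  exact fixW_26 v hv

theorem actw_27 : ∀ v, actL mT w_27 v = W_27 v := by
  intro v
  simp (maxSteps := 100000000) only [w_27, actL, W_27, forceL_eq]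
  rfl

theorem fixW_27 : ∀ v, v < 185328 → W_27 v = v :=
  (fixW_step (fixW_step (fixW_step (fixW_step (fun v hv => absurd hv (by omega)) 50000 fixc_27_0) 50000 fixc_27_50000) 50000 fixc_27_100000) 35328 fixc_27_150000)

theorem fix_27 : ∀ v, v < 185328 → actL mT w_27 v = v := fun v hv => by
  rw [actw_27]
  exact fixW_27 v hv

theorem actw_28 : ∀ v, actL mT w_28 v = W_28 v := by
  intro v
  simp (maxSteps := 100000000) only [w_28, actL, W_28, forceL_eq]
  rfl

theorem fixW_28 : ∀ v, v < 185328 → W_28 v = v :=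
  (fixW_step (fixW_step (fixW_step (fixW_step (fixW_step (fixW_step (fun v hv => absurd hv (by omega)) 33333 fixc_28_0) 33333 fixc_28_33333) 33333 fixc_28_66666) 33333 fixc_28_99999) 33333 fixc_28_133332) 18663 fixc_28_166665)

theorem fix_28 : ∀ v, v < 185328 → actL mT w_28 v = v := fun v hv => by
  rw [actw_28]
  exact fixW_28 v hv

theorem actw_29 : ∀ v, actL mT w_29 v = W_29 v := by
  intro v
  simp (maxSteps := 100000000) only [w_29, actL, W_29, forceL_eq]
  rfl

theorem fixW_29 : ∀ v, v < 185328 → W_29 v = v :=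
  (fixW_step (fixW_step (fixW_step (fixW_step (fixW_step (fixW_step (fun v hv => absurd hv (by omega)) 33333 fixc_29_0) 33333 fixc_29_33333) 33333 fixc_29_66666) 33333 fixc_29_99999) 33333 fixc_29_133332) 18663 fixc_29_166665)

theorem fix_29 : ∀ v, v < 185328 → actL mT w_29 v = v := fun v hv => by
  rw [actw_29]
  exact fixW_29 v hv

theorem actw_30 : ∀ v, actL mT w_30 v = W_30 v := by
  intro v
  simp (maxSteps := 100000000) only [w_30, actL, W_30, forceL_eq]
  rfl

theorem fixW_30 : ∀ v, v < 185328 → W_30 v = v :=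
  (fixW_step (fixW_step (fixW_step (fixW_step (fun v hv => absurd hv (by omega)) 50000 fixc_30_0) 50000 fixc_30_50000) 50000 fixc_30_100000) 35328 fixc_30_150000)

theorem fix_30 : ∀ v, v < 185328 → actL mT w_30 v = v := fun v hv => by
  rw [actw_30]
  exact fixW_30 v hv

theorem actw_31 : ∀ v, actL mT w_31 v = W_31 v := by
  intro v
  simp (maxSteps := 100000000) only [w_31, actL, W_31, forceL_eq]
  rfl

theorem fixW_31 : ∀ v, v < 185328 → W_31 v = v :=
  (fixW_step (fixW_step (fixW_step (fixW_step (fun v hv => absurd hv (by omega)) 50000 fixc_31_0) 50000 fixc_31_50000) 50000 fixc_31_100000) 35328 fixc_31_150000)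

theorem fix_31 : ∀ v, v < 185328 → actL mT w_31 v = v := fun v hv => by
  rw [actw_31]
  exact fixW_31 v hv

theorem actw_32 : ∀ v, actL mT w_32 v = W_32 v := by
  intro v
  simp (maxSteps := 100000000) only [w_32, actL, W_32, forceL_eq]
  rfl

theorem fixW_32 : ∀ v, v < 185328 → W_32 v = v :=
  (fixW_step (fixW_step (fixW_step (fixW_step (fun v hv => absurd hv (by omega)) 50000 fixc_32_0) 50000 fixc_32_50000) 50000 fixc_32_100000) 35328 fixc_32_150000)

theorem fix_32 : ∀ v, v < 185328 → actL mT w_32 v = v := fun v hv => by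
  rw [actw_32]
  exact fixW_32 v hv

theorem actw_33 : ∀ v, actL mT w_33 v = W_33 v := by
  intro v
  simp (maxSteps := 100000000) only [w_33, actL, W_33, forceL_eq]
  rfl

theorem fixW_33 : ∀ v, v < 185328 → W_33 v = v :=
  (fixW_step (fixW_step (fixW_step (fixW_step (fun v hv => absurd hv (by omega)) 50000 fixc_33_0) 50000 fixc_33_50000) 50000 fixc_33_100000) 35328 fixc_33_150000)

theorem fix_33 : ∀ v, v < 185328 → actL mT w_33 v = v := fun v hv => by
  rw [actw_33]
  exact fixW_33 v hv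

theorem actw_34 : ∀ v, actL mT w_34 v = W_34 v := by
  intro v
  simp (maxSteps := 100000000) only [w_34, actL, W_34, forceL_eq]
  rfl

theorem fixW_34 : ∀ v, v < 185328 → W_34 v = v :=
  (fixW_step (fixW_step (fixW_step (fixW_step (fun v hv => absurd hv (by omega)) 50000 fixc_34_0) 50000 fixc_34_50000) 50000 fixc_34_100000) 35328 fixc_34_150000)

theorem fix_34 : ∀ v, v < 185328 → actL mT w_34 v = v := fun v hv => by
  rw [actw_34]
  exact fixW_34 v hv

theorem actw_35 : ∀ v, actL mT w_35 v = W_35 v := by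
  intro v
  simp (maxSteps := 100000000) only [w_35, actL, W_35, forceL_eq]
  rfl

theorem fixW_35 : ∀ v, v < 185328 → W_35 v = v :=
  (fixW_step (fixW_step (fixW_step (fixW_step (fixW_step (fixW_step (fun v hv => absurd hv (by omega)) 33333 fixc_35_0) 33333 fixc_35_33333) 33333 fixc_35_66666) 33333 fixc_35_99999) 33333 fixc_35_133332) 18663 fixc_35_166665)

theorem fix_35 : ∀ v, v < 185328 → actL mT w_35 v = v := fun v hv => by
  rw [actw_35]
  exact fixW_35 v hv

theorem actw_36 : ∀ v, actL mT w_36 v = W_36 v := by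
  intro v
  simp (maxSteps := 100000000) only [w_36, actL, W_36, forceL_eq]
  rfl

theorem fixW_36 : ∀ v, v < 185328 → W_36 v = v :=
  (fixW_step (fixW_step (fixW_step (fixW_step (fun v hv => absurd hv (by omega)) 50000 fixc_36_0) 50000 fixc_36_50000) 50000 fixc_36_100000) 35328 fixc_36_150000)

theorem fix_36 : ∀ v, v < 185328 → actL mT w_36 v = v := fun v hv => by
  rw [actw_36]
  exact fixW_36 v hv

theorem actw_37 : ∀ v, actL mT w_37 v = W_37 v := by
  intro v
  simp (maxSteps := 100000000) only [w_37, actL, W_37, forceL_eq]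
  rfl

theorem fixW_37 : ∀ v, v < 185328 → W_37 v = v :=
  (fixW_step (fixW_step (fixW_step (fixW_step (fixW_step (fixW_step (fun v hv => absurd hv (by omega)) 33333 fixc_37_0) 33333 fixc_37_33333) 33333 fixc_37_66666) 33333 fixc_37_99999) 33333 fixc_37_133332) 18663 fixc_37_166665)

theorem fix_37 : ∀ v, v < 185328 → actL mT w_37 v = v := fun v hv => by
  rw [actw_37]
  exact fixW_37 v hv

theorem actw_38 : ∀ v, actL mT w_38 v = W_38 v := by
  intro v
  simp (maxSteps := 100000000) only [w_38, actL, W_38, forceL_eq]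
  rfl

theorem fixW_38 : ∀ v, v < 185328 → W_38 v = v :=
  (fixW_step (fixW_step (fixW_step (fixW_step (fun v hv => absurd hv (by omega)) 50000 fixc_38_0) 50000 fixc_38_50000) 50000 fixc_38_100000) 35328 fixc_38_150000)

theorem fix_38 : ∀ v, v < 185328 → actL mT w_38 v = v := fun v hv => by
  rw [actw_38]
  exact fixW_38 v hv

theorem actw_39 : ∀ v, actL mT w_39 v = W_39 v := by
  intro v
  simp (maxSteps := 100000000) only [w_39, actL, W_39, forceL_eq]
  rfl

theorem fixW_39 : ∀ v, v < 185328 → W_39 v = v :=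
  (fixW_step (fixW_step (fixW_step (fixW_step (fun v hv => absurd hv (by omega)) 50000 fixc_39_0) 50000 fixc_39_50000) 50000 fixc_39_100000) 35328 fixc_39_150000)

theorem fix_39 : ∀ v, v < 185328 → actL mT w_39 v = v := fun v hv => by
  rw [actw_39]
  exact fixW_39 v hv

theorem actw_40 : ∀ v, actL mT w_40 v = W_40 v := by
  intro v
  simp (maxSteps := 100000000) only [w_40, actL, W_40, forceL_eq]
  rfl

theorem fixW_40 : ∀ v, v < 185328 → W_40 v = v :=
  (fixW_step (fixW_step (fixW_step (fixW_step (fun v hv => absurd hv (by omega)) 50000 fixc_40_0) 50000 fixc_40_50000) 50000 fixc_40_100000) 35328 fixc_40_150000)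

theorem fix_40 : ∀ v, v < 185328 → actL mT w_40 v = v := fun v hv => by
  rw [actw_40]
  exact fixW_40 v hv

theorem actw_41 : ∀ v, actL mT w_41 v = W_41 v := by
  intro v
  simp (maxSteps := 100000000) only [w_41, actL, W_41, forceL_eq]
  rfl

theorem fixW_41 : ∀ v, v < 185328 → W_41 v = v :=
  (fixW_step (fixW_step (fixW_step (fixW_step (fun v hv => absurd hv (by omega)) 50000 fixc_41_0) 50000 fixc_41_50000) 50000 fixc_41_100000) 35328 fixc_41_150000)

theorem fix_41 : ∀ v, v < 185328 → actL mT w_41 v = v := fun v hv => by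
  rw [actw_41]
  exact fixW_41 v hv

theorem actw_42 : ∀ v, actL mT w_42 v = W_42 v := by
  intro v
  simp (maxSteps := 100000000) only [w_42, actL, W_42, forceL_eq]
  rfl

theorem fixW_42 : ∀ v, v < 185328 → W_42 v = v :=
  (fixW_step (fixW_step (fixW_step (fixW_step (fixW_step (fixW_step (fun v hv => absurd hv (by omega)) 33333 fixc_42_0) 33333 fixc_42_33333) 33333 fixc_42_66666) 33333 fixc_42_99999) 33333 fixc_42_133332) 18663 fixc_42_166665)

theorem fix_42 : ∀ v, v < 185328 → actL mT w_42 v = v := fun v hv => by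
  rw [actw_42]
  exact fixW_42 v hv

theorem actw_43 : ∀ v, actL mT w_43 v = W_43 v := by
  intro v
  simp (maxSteps := 100000000) only [w_43, actL, W_43, forceL_eq]
  rfl

theorem fixW_43 : ∀ v, v < 185328 → W_43 v = v :=
  (fixW_step (fixW_step (fixW_step (fixW_step (fixW_step (fixW_step (fixW_step (fixW_step (fixW_step (fixW_step (fixW_step (fixW_step (fixW_step (fixW_step (fixW_step (fixW_step (fixW_step (fixW_step (fixW_step (fixW_step (fixW_step (fixW_step (fixW_step (fixW_step (fixW_step (fixW_step (fixW_step (fixW_step (fixW_step (fixW_step (fixW_step (fixW_step (fixW_step (fixW_step (fixW_step (fixW_step (fixW_step (fixW_step (fixW_step (fixW_step (fixW_step (fixW_step (fixW_step (fixW_step (fixW_step (fixW_step (fixW_step (fixW_step (fixW_step (fixW_step (fixW_step (fixW_step (fixW_step (fixW_step (fixW_step (fixW_step (fixW_step (fixW_step (fixW_step (fixW_step (fixW_step (fixW_step (fixW_step (fixW_step (fixW_step (fixW_step (fixW_step (fixW_step (fixW_step (fixW_step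 (fixW_step (fixW_step (fixW_step (fixW_step (fixW_step (fixW_step (fixW_step (fixW_step (fixW_step (fixW_step (fixW_step (fixW_step (fixW_step (fixW_step (fixW_step (fun v hv => absurd hv (by omega)) 2197 fixc_43_0) 2197 fixc_43_2197) 2197 fixc_43_4394) 2197 fixc_43_6591) 2197 fixc_43_8788) 2197 fixc_43_10985) 2197 fixc_43_13182) 2197 fixc_43_15379) 2197 fixc_43_17576) 2197 fixc_43_19773) 2197 fixc_43_21970) 2197 fixc_43_24167) 2197 fixc_43_26364) 2197 fixc_43_28561) 2197 fixc_43_30758) 2197 fixc_43_32955) 2197 fixc_43_35152) 2197 fixc_43_37349) 2197 fixc_43_39546) 2197 fixc_43_41743) 2197 fixc_43_43940) 2197 fixc_43_46137) 2197 fixc_43_48334) 2197 fixc_43_50531) 2197 fixc_43_52728) 2197 fixc_43_54925) 2197 fixc_43_57122) 2197 fixc_43_59319) 2197 fixc_43_61516) 2197 fixc_43_63713) 2197 fixc_43_65910) 2197 fixc_43_68107) 2197 fixc_43_70304) 2197 fixc_43_72501) 2197 fixc_43_74698) 2197 fixc_43_76895) 2197 fixc_43_79092) 2197 fixc_43_81289) 2197 fixc_43_83486) 2197 fixc_43_85683)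 2197 fixc_43_87880) 2197 fixc_43_90077) 2197 fixc_43_92274) 2197 fixc_43_94471) 2197 fixc_43_96668) 2197 fixc_43_98865) 2197 fixc_43_101062) 2197 fixc_43_103259) 2197 fixc_43_105456) 2197 fixc_43_107653) 2197 fixc_43_109850) 2197 fixc_43_112047) 2197 fixc_43_114244) 2197 fixc_43_116441) 2197 fixc_43_118638) 2197 fixc_43_120835) 2197 fixc_43_123032) 2197 fixc_43_125229) 2197 fixc_43_127426) 2197 fixc_43_129623) 2197 fixc_43_131820) 2197 fixc_43_134017) 2197 fixc_43_136214) 2197 fixc_43_138411) 2197 fixc_43_140608) 2197 fixc_43_142805) 2197 fixc_43_145002) 2197 fixc_43_147199) 2197 fixc_43_149396) 2197 fixc_43_151593) 2197 fixc_43_153790) 2197 fixc_43_155987) 2197 fixc_43_158184) 2197 fixc_43_160381) 2197 fixc_43_162578) 2197 fixc_43_164775) 2197 fixc_43_166972) 2197 fixc_43_169169) 2197 fixc_43_171366) 2197 fixc_43_173563) 2197 fixc_43_175760) 2197 fixc_43_177957) 2197 fixc_43_180154) 2197 fixc_43_182351) 780 fixc_43_184548)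

theorem fix_43 : ∀ v, v < 185328 → actL mT w_43 v = v := fun v hv => by
  rw [actw_43]
  exact fixW_43 v hv

theorem actw_44 : ∀ v, actL mT w_44 v = W_44 v := by
  intro v
  simp (maxSteps := 100000000) only [w_44, actL, W_44, forceL_eq]
  rfl

theorem fixW_44 : ∀ v, v < 185328 → W_44 v = v :=
  (fixW_step (fixW_step (fixW_step (fixW_step (fixW_step (fixW_step (fixW_step (fixW_step (fixW_step (fixW_step (fixW_step (fixW_step (fixW_step (fixW_step (fixW_step (fixW_step (fixW_step (fixW_step (fixW_step (fixW_step (fixW_step (fixW_step (fixW_step (fixW_step (fixW_step (fixW_step (fixW_step (fixW_step (fixW_step (fixW_step (fixW_step (fixW_step (fixW_step (fixW_step (fixW_step (fixW_step (fixW_step (fixW_step (fixW_step (fixW_step (fixW_step (fixW_step (fixW_step (fixW_step (fixW_step (fixW_step (fixW_step (fixW_step (fixW_step (fixW_step (fixW_step (fixW_step (fixW_step (fixW_step (fixW_step (fixW_step (fixW_step (fixW_step (fixW_step (fun v hv => absurd hv (by omega)) 3174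 fixc_44_0) 3174 fixc_44_3174) 3174 fixc_44_6348) 3174 fixc_44_9522) 3174 fixc_44_12696) 3174 fixc_44_15870) 3174 fixc_44_19044) 3174 fixc_44_22218) 3174 fixc_44_25392) 3174 fixc_44_28566) 3174 fixc_44_31740) 3174 fixc_44_34914) 3174 fixc_44_38088) 3174 fixc_44_41262) 3174 fixc_44_44436) 3174 fixc_44_47610) 3174 fixc_44_50784) 3174 fixc_44_53958) 3174 fixc_44_57132) 3174 fixc_44_60306) 3174 fixc_44_63480) 3174 fixc_44_66654) 3174 fixc_44_69828) 3174 fixc_44_73002) 3174 fixc_44_76176) 3174 fixc_44_79350) 3174 fixc_44_82524) 3174 fixc_44_85698) 3174 fixc_44_88872) 3174 fixc_44_92046) 3174 fixc_44_95220) 3174 fixc_44_98394) 3174 fixc_44_101568) 3174 fixc_44_104742) 3174 fixc_44_107916) 3174 fixc_44_111090) 3174 fixc_44_114264) 3174 fixc_44_117438) 3174 fixc_44_120612) 3174 fixc_44_123786) 3174 fixc_44_126960) 3174 fixc_44_130134) 3174 fixc_44_133308) 3174 fixc_44_136482) 3174 fixc_44_139656) 3174 fixc_44_142830) 3174 fixc_44_146004) 3174 fixc_44_149178) 3174 fixc_44_152352) 3174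 fixc_44_155526) 3174 fixc_44_158700) 3174 fixc_44_161874) 3174 fixc_44_165048) 3174 fixc_44_168222) 3174 fixc_44_171396) 3174 fixc_44_174570) 3174 fixc_44_177744) 3174 fixc_44_180918) 1236 fixc_44_184092)

theorem fix_44 : ∀ v, v < 185328 → actL mT w_44 v = v := fun v hv => by
  rw [actw_44]
  exact fixW_44 v hv

theorem actw_45 : ∀ v, actL mT w_45 v = W_45 v := by
  intro v
  simp (maxSteps := 100000000) only [w_45, actL, W_45, forceL_eq]
  rfl

theorem fixW_45 : ∀ v, v < 185328 → W_45 v = v :=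
  (fixW_step (fixW_step (fun v hv => absurd hv (by omega)) 100000 fixc_45_0) 85328 fixc_45_100000)

theorem fix_45 : ∀ v, v < 185328 → actL mT w_45 v = v := fun v hv => by
  rw [actw_45]
  exact fixW_45 v hv

theorem actw_46 : ∀ v, actL mT w_46 v = W_46 v := by
  intro v
  simp (maxSteps := 100000000) only [w_46, actL, W_46, forceL_eq]
  rfl

theorem fixW_46 : ∀ v, v < 185328 → W_46 v = v :=
  (fixW_step (fixW_step (fun v hv => absurd hv (by omega)) 100000 fixc_46_0) 85328 fixc_46_100000)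

theorem fix_46 : ∀ v, v < 185328 → actL mT w_46 v = v := fun v hv => by
  rw [actw_46]
  exact fixW_46 v hv

theorem actw_47 : ∀ v, actL mT w_47 v = W_47 v := by
  intro v
  simp (maxSteps := 100000000) only [w_47, actL, W_47, forceL_eq]
  rfl

theorem fixW_47 : ∀ v, v < 185328 → W_47 v = v :=
  (fixW_step (fixW_step (fun v hv => absurd hv (by omega)) 100000 fixc_47_0) 85328 fixc_47_100000)

theorem fix_47 : ∀ v, v < 185328 → actL mT w_47 v = v := fun v hv => by
  rw [actw_47]
  exact fixW_47 v hv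

theorem actw_48 : ∀ v, actL mT w_48 v = W_48 v := by
  intro v
  simp (maxSteps := 100000000) only [w_48, actL, W_48, forceL_eq]
  rfl

theorem fixW_48 : ∀ v, v < 185328 → W_48 v = v :=
  (fixW_step (fixW_step (fun v hv => absurd hv (by omega)) 100000 fixc_48_0) 85328 fixc_48_100000)

theorem fix_48 : ∀ v, v < 185328 → actL mT w_48 v = v := fun v hv => by
  rw [actw_48]
  exact fixW_48 v hv

theorem actw_49 : ∀ v, actL mT w_49 v = W_49 v := by
  intro v
  simp (maxSteps := 100000000) only [w_49, actL, W_49, forceL_eq]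
  rfl

theorem fixW_49 : ∀ v, v < 185328 → W_49 v = v :=
  (fixW_step (fixW_step (fun v hv => absurd hv (by omega)) 100000 fixc_49_0) 85328 fixc_49_100000)

theorem fix_49 : ∀ v, v < 185328 → actL mT w_49 v = v := fun v hv => by
  rw [actw_49]
  exact fixW_49 v hv

theorem actw_50 : ∀ v, actL mT w_50 v = W_50 v := by
  intro v
  simp (maxSteps := 100000000) only [w_50, actL, W_50, forceL_eq]
  rfl

theorem fixW_50 : ∀ v, v < 185328 → W_50 v = v :=
  (fixW_step (fixW_step (fun v hv => absurd hv (by omega)) 100000 fixc_50_0) 85328 fixc_50_100000)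

theorem fix_50 : ∀ v, v < 185328 → actL mT w_50 v = v := fun v hv => by
  rw [actw_50]
  exact fixW_50 v hv

theorem actw_51 : ∀ v, actL mT w_51 v = W_51 v := by
  intro v
  simp (maxSteps := 100000000) only [w_51, actL, W_51, forceL_eq]
  rfl

theorem fixW_51 : ∀ v, v < 185328 → W_51 v = v :=
  (fixW_step (fixW_step (fun v hv => absurd hv (by omega)) 100000 fixc_51_0) 85328 fixc_51_100000)

theorem fix_51 : ∀ v, v < 185328 → actL mT w_51 v = v := fun v hv => by
  rw [actw_51]
  exact fixW_51 v hv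

theorem actw_52 : ∀ v, actL mT w_52 v = W_52 v := by
  intro v
  simp (maxSteps := 100000000) only [w_52, actL, W_52, forceL_eq]
  rfl

theorem fixW_52 : ∀ v, v < 185328 → W_52 v = v :=
  (fixW_step (fixW_step (fun v hv => absurd hv (by omega)) 100000 fixc_52_0) 85328 fixc_52_100000)

theorem fix_52 : ∀ v, v < 185328 → actL mT w_52 v = v := fun v hv => by
  rw [actw_52]
  exact fixW_52 v hv

theorem actw_53 : ∀ v, actL mT w_53 v = W_53 v := by
  intro v
  simp (maxSteps := 100000000) only [w_53, actL, W_53, forceL_eq]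
  rfl

theorem fixW_53 : ∀ v, v < 185328 → W_53 v = v :=
  (fixW_step (fixW_step (fun v hv => absurd hv (by omega)) 100000 fixc_53_0) 85328 fixc_53_100000)

theorem fix_53 : ∀ v, v < 185328 → actL mT w_53 v = v := fun v hv => by
  rw [actw_53]
  exact fixW_53 v hv

theorem actw_54 : ∀ v, actL mT w_54 v = W_54 v := by
  intro v
  simp (maxSteps := 100000000) only [w_54, actL, W_54, forceL_eq]
  rfl

theorem fixW_54 : ∀ v, v < 185328 → W_54 v = v :=
  (fixW_step (fixW_step (fixW_step (fun v hv => absurd hv (by omega)) 66666 fixc_54_0) 66666 fixc_54_66666) 51996 fixc_54_133332)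

theorem fix_54 : ∀ v, v < 185328 → actL mT w_54 v = v := fun v hv => by
  rw [actw_54]
  exact fixW_54 v hv

theorem hcomm : ∀ i, i < 9 → ∀ v, v < 185328 → actL mT [2 * i, 2 * 9, 2 * i + 1, 2 * 9 + 1] v = v := by
  intro i hi
  interval_cases i
  · exact fix_0
  · exact fix_1
  · exact fix_2
  · exact fix_3
  · exact fix_4
  · exact fix_5
  · exact fix_6
  · exact fix_7
  · exact fix_8

theorem hcent : ∀ r ∈ cw, ∃ k, ∀ v, v < 185328 → actL mT (r ++ List.replicate k (2 * 9)) v = v := by
  intro r hr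
  simp only [cw, List.mem_cons, List.not_mem_nil, or_false] at hr
  rcases hr with rfl | rfl | rfl | rfl | rfl | rfl | rfl | rfl | rfl | rfl | rfl | rfl | rfl | rfl | rfl | rfl | rfl | rfl | rfl | rfl | rfl | rfl | rfl | rfl | rfl | rfl | rfl | rfl | rfl | rfl | rfl | rfl | rfl | rfl | rfl | rfl
  · exact ⟨0, fix_9⟩
  · exact ⟨0, fix_10⟩
  · exact ⟨0, fix_11⟩
  · exact ⟨0, fix_12⟩
  · exact ⟨0, fix_13⟩
  · exact ⟨0, fix_14⟩
  · exact ⟨0, fix_15⟩
  · exact ⟨0, fix_16⟩
  · exact ⟨0, fix_17⟩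
  · exact ⟨0, fix_18⟩
  · exact ⟨0, fix_19⟩
  · exact ⟨0, fix_20⟩
  · exact ⟨0, fix_21⟩
  · exact ⟨0, fix_22⟩
  · exact ⟨0, fix_23⟩
  · exact ⟨0, fix_24⟩
  · exact ⟨0, fix_25⟩
  · exact ⟨0, fix_26⟩
  · exact ⟨0, fix_27⟩
  · exact ⟨0, fix_28⟩
  · exact ⟨0, fix_29⟩
  · exact ⟨0, fix_30⟩
  · exact ⟨0, fix_31⟩
  · exact ⟨0, fix_32⟩
  · exact ⟨0, fix_33⟩
  · exact ⟨0, fix_34⟩
  · exact ⟨0, fix_35⟩
  · exact ⟨0, fix_36⟩
  · exact ⟨0, fix_37⟩
  · exact ⟨0, fix_38⟩
  · exact ⟨0, fix_39⟩
  · exact ⟨0, fix_40⟩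
  · exact ⟨0, fix_41⟩
  · exact ⟨0, fix_42⟩
  · exact ⟨1, fix_43⟩
  · exact ⟨0, fix_44⟩

theorem hpow : ∀ i, i < 9 → ∀ v, v < 185328 → actL mT (List.replicate (mml.getD i 0) (2 * i)) v = v := by
  intro i hi
  interval_cases i
  · exact fix_45
  · exact fix_46
  · exact fix_47
  · exact fix_48
  · exact fix_49
  · exact fix_50
  · exact fix_51
  · exact fix_52
  · exact fix_53

theorem hsh : ∀ v, v < 185328 → actL mT (List.replicate 3 (2 * 9)) v = v := fix_54

end Cfsg.Agent.Helper4.F22MB
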