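import Mathlib
import Cfsg.Agent.Helper4.F22Bound
import Cfsg.Agent.Helper4.F22MASum
import Cfsg.Agent.Helper4.F22MBSum
import Cfsg.Agent.Helper4.ShiftModel
import Cfsg.Agent.Helper5.LPE
import Cfsg.Agent.Helper5.StemPL
import Cfsg.Agent.Helper5.StemPH
import Cfsg.Agent.Helper5.StemPM
import Cfsg.Agent.Helper5.StemPK
import Cfsg.Agent.Helper5.StemPI

/-!
# The Schur multiplier of `Fi₂₂` is cyclic of order 6

Two covering groups of the presented group `P9 = LPG 9 R9`: of exponent 4 on eight elements of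
order 3 (order at most `2 * |Fi₂₂|`, acting on 28160 points with a central word as a shift of
order 2), and of exponent 45 on the nine involutions (order at most `3 * |Fi₂₂|`, acting on 185328
points with a central word as a shift of order 3).  They are stem extensions with kernels of
orders 2 and 3, and they bound the 2-, 3- and 5-parts of the kernel of every stem extension; the
primes 7, 11, 13 divide the order only once.
-/

set_option autoImplicit false

namespace Cfsg.Agent.Helper4.F22M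

open Cfsg Cfsg.Agent.Helper5.StemP Cfsg.Agent.Helper5.LP Cfsg.Agent.Helper5.TC
  Cfsg.Agent.Helper5.TCI Cfsg.Agent.Helper4.ShM Cfsg.Agent.Helper4.CovCox
open Cfsg.Agent.Helper5.Fi22LP (R9)
open Cfsg.Agent.Helper4.F22P (P9 card_P9)
open Cfsg.Agent.Helper4.F22R (F CCF EXF CL7 m3 gF piFr)
open Cfsg.Agent.Helper4.F22T (CC piT)

/-! ### the 2-part -/

theorem cwA_eq : F22MA.cw = CCF := by decide

theorem modelA : ∃ ρ : F →* Equiv.Perm (Fin 28160),
    ActsOn ρ (ev (2 * 8) (coverRels 8 m3 CCF CCF 4)) (2 * 8) F22MA.mT := by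
  refine exists_model 8 m3 CCF 4 28160 F22MA.mT F22MA.tableOK F22R.CCF_lt F22MA.hcomm ?_ ?_ 2
    F22MA.hsh (by norm_num)
  · intro r hr
    exact F22MA.hcent r (by rw [cwA_eq]; exact hr)
  · intro i hi
    have h := F22MA.hpow i hi
    interval_cases i <;> exact h

/-- the central word of order 2. -/
def zwA : List ℕ := EXF.getD 4 []

theorem zwA_mem : zwA ∈ CCF := by decide

set_option maxRecDepth 1000000 in
theorem moveA : actL F22MA.mT zwA 0 ≠ 0 := by decide +kernel

/-- the central element of order 2. -/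
noncomputable def zA : F := ev (2 * 8) (coverRels 8 m3 CCF CCF 4) zwA

theorem zA_ne : zA ≠ 1 := by
  obtain ⟨ρ, hA⟩ := modelA
  exact ne_one_of_move hA zwA (F22R.CCF_lt zwA zwA_mem) 0 (by norm_num) moveA

theorem zA_center : zA ∈ Subgroup.center F :=
  cover_center 8 m3 CCF CCF 4 zwA_mem (F22R.CCF_lt zwA zwA_mem)

theorem zA_ker : zA ∈ piFr.ker :=
  coverHomU_ker 8 m3 CCF CCF 4 F22R.CCF_lt2 gF F22R.gF_pow F22R.CCF_rel2 zwA_mem

theorem card_kerA : Nat.card piFr.ker = 2 := by
  have hle := card_kerA_le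
  have hlt : 1 < Nat.card piFr.ker := by
    rw [Subgroup.one_lt_card_iff_ne_bot]
    intro hbot
    have := zA_ker
    rw [hbot, Subgroup.mem_bot] at this
    exact zA_ne this
  omega

theorem card_FA : Nat.card F = Nat.card P9 * 2 := by
  rw [card_eq_card_mul_ker piFr F22R.piFr_surj, card_kerA]

theorem cgen_pow3 : ∀ x ∈ {x : F | ∃ i, i < 8 ∧ x = cgen 8 m3 CCF CCF 4 i}, x ^ 3 = 1 := by
  rintro x ⟨i, hi, rfl⟩
  exact cgen_pow 8 m3 CCF CCF 4 (i := i) hi

theorem stem_A : Cfsg.IsStemExtension piFr ∧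
    Nonempty (piFr.ker ≃* Multiplicative (ZMod 2)) := by
  refine stem_cyclic piFr F22R.piFr_surj 2 (by norm_num) (by rw [card_FA]) zA zA_center zA_ker ?_
    _ (closure_cgen 8 m3 CCF CCF 4) 3 cgen_pow3 (by decide)
  intro p hp hpd
  have hp2 : p = 2 := (Nat.prime_dvd_prime_iff_eq hp Nat.prime_two).mp hpd
  rw [hp2, Nat.div_self (by norm_num), pow_one]
  exact zA_ne

/-! ### the 3-part -/

theorem cwB_eq : F22MB.cw = CC := by decide +kernel

theorem modelB : ∃ ρ : T →* Equiv.Perm (Fin 185328),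
    ActsOn ρ (ev (2 * 9) (coverRels 9 m2 CC CC 45)) (2 * 9) F22MB.mT := by
  refine exists_model 9 m2 CC 45 185328 F22MB.mT F22MB.tableOK F22T.CC_lt F22MB.hcomm ?_ ?_ 3
    F22MB.hsh (by norm_num)
  · intro r hr
    exact F22MB.hcent r (by rw [cwB_eq]; exact hr)
  · intro i hi
    have h := F22MB.hpow i hi
    interval_cases i <;> exact h

/-- the central word of order 3. -/
def zwB : List ℕ := CC.getD 34 []

theorem zwB_mem : zwB ∈ CC := by decide +kernel

set_option maxRecDepth 1000000 in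
theorem moveB : actL F22MB.mT zwB 0 ≠ 0 := by decide +kernel

/-- the central element of order 3. -/
noncomputable def zB : T := ev (2 * 9) (coverRels 9 m2 CC CC 45) zwB

theorem zB_ne : zB ≠ 1 := by
  obtain ⟨ρ, hA⟩ := modelB
  exact ne_one_of_move hA zwB (F22T.CC_lt zwB zwB_mem) 0 (by norm_num) moveB

theorem zB_center : zB ∈ Subgroup.center T :=
  cover_center 9 m2 CC CC 45 zwB_mem (F22T.CC_lt zwB zwB_mem)

theorem zB_ker : zB ∈ piT.ker :=
  coverHomU_ker 9 m2 CC CC 45 F22T.CC_lt2 (gen 9 R9) (gen_pow 9 R9 F22T.invol9) F22T.CC_rel2 zwB_mem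

theorem zB_pow : zB ^ 45 = 1 := by
  unfold zB
  rw [ev_pow]
  exact ev_rel (Cfsg.Agent.Helper5.LTC.mem_coverRels_T 9 m2 CC CC 45 zwB_mem)

theorem card_kerB : Nat.card piT.ker = 3 := by
  have hle := card_kerB_le
  have hdk : orderOf zB ∣ Nat.card piT.ker := by
    rw [← Subgroup.orderOf_mk zB zB_ker]
    exact orderOf_dvd_natCard _
  have hd45 : orderOf zB ∣ 45 := orderOf_dvd_of_pow_eq_one zB_pow
  have hne : orderOf zB ≠ 1 := by
    rw [Ne, orderOf_eq_one_iff]
    exact zB_ne
  have hpos : 0 < Nat.card piT.ker := Nat.card_pos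
  have hole : orderOf zB ≤ 3 := (Nat.le_of_dvd hpos hdk).trans hle
  have ho3 : orderOf zB = 3 := by
    have hop : 0 < orderOf zB := orderOf_pos zB
    interval_cases h : orderOf zB
    · exact absurd rfl hne
    · exact absurd hd45 (by decide)
    · rfl
  rw [ho3] at hdk
  exact le_antisymm hle (Nat.le_of_dvd hpos hdk)

theorem card_TB : Nat.card T = Nat.card P9 * 3 := by
  rw [card_eq_card_mul_ker piT F22T.piT_surj, card_kerB]

theorem cgen_pow2 : ∀ x ∈ {x : T | ∃ i, i < 9 ∧ x = cgen 9 m2 CC CC 45 i}, x ^ 2 = 1 := by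
  rintro x ⟨i, hi, rfl⟩
  exact cgen_pow 9 m2 CC CC 45 (i := i) hi

theorem stem_B : Cfsg.IsStemExtension piT ∧
    Nonempty (piT.ker ≃* Multiplicative (ZMod 3)) := by
  refine stem_cyclic piT F22T.piT_surj 3 (by norm_num) (by rw [card_TB]) zB zB_center zB_ker ?_
    _ (closure_cgen 9 m2 CC CC 45) 2 cgen_pow2 (by decide)
  intro p hp hpd
  have hp3 : p = 3 := (Nat.prime_dvd_prime_iff_eq hp Nat.prime_three).mp hpd
  rw [hp3, Nat.div_self (by norm_num), pow_one]
  exact zB_ne

/-! ### the multiplier -/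

theorem main : Cfsg.HasCyclicSchurMultiplier P9 6 := by
  have c2 : Nat.card (Multiplicative (ZMod 2)) = 2 := by
    change Nat.card (ZMod 2) = 2
    rw [Nat.card_zmod]
  have c3 : Nat.card (Multiplicative (ZMod 3)) = 3 := by
    change Nat.card (ZMod 3) = 3
    rw [Nat.card_zmod]
  have hprod : Cfsg.HasSchurMultiplier P9
      (Multiplicative (ZMod 2) × Multiplicative (ZMod 3)) := by
    apply hasSchurMultiplier_prod
    · rw [c2, c3]; decide
    · exact ⟨F, inferInstance, F22R.card_F.1, piFr, stem_A.1, stem_A.2⟩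
    · exact ⟨T, inferInstance, F22T.card_F.1, piT, stem_B.1, stem_B.2⟩
    · intro Γ _ _ σ hσ
      rw [c2, c3]
      exact Nat.le_of_dvd (by norm_num) (card_ker_dvd Γ σ hσ)
  have e1 : Multiplicative (ZMod 6) ≃* Multiplicative (ZMod 2 × ZMod 3) :=
    AddEquiv.toMultiplicative
      (ZMod.chineseRemainder (show Nat.Coprime 2 3 by decide)).toAddEquiv
  have e2 : Multiplicative (ZMod 2 × ZMod 3) ≃* Multiplicative (ZMod 2) × Multiplicative (ZMod 3) :=
    MulEquiv.prodMultiplicative _ _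
  exact hasSchurMultiplier_congr_right (e1.trans e2).symm hprod

end Cfsg.Agent.Helper4.F22M
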