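import Cfsg.Agent.Helper4.F22MADat

/-! generated permutation model, checks: F22MA -/

set_option autoImplicit false
set_option Elab.async false
set_option maxRecDepth 1000000

namespace Cfsg.Agent.Helper4.F22MA
open Cfsg.Agent.Helper5.TC Cfsg.Agent.Helper5.TCI Cfsg.Agent.Helper5.LP

theorem fixc_9_0 : fixPtsF W_9 25000 0 = true := by decide +kernel

theorem fixc_22_16665 : fixPtsF W_22 3333 16665 = true := by decide +kernel

theorem fixc_12_13587 : fixPtsF W_12 1941 13587 = true := by decide +kernel

theorem fixc_18_0 : fixPtsF W_18 28160 0 = true := by decide +kernel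

theorem fixc_25_0 : fixPtsF W_25 28160 0 = true := by decide +kernel

theorem fixc_11_16666 : fixPtsF W_11 11494 16666 = true := by decide +kernel

theorem fixc_8_0 : fixPtsF W_8 28160 0 = true := by decide +kernel

theorem fixc_41_0 : fixPtsF W_41 28160 0 = true := by decide +kernel

theorem invc_1_0 : invRowFI mT 28160 1 0 28160 0 = true := by decide +kernel

theorem invc_10_0 : invRowFI mT 28160 10 11 28160 0 = true := by decide +kernel

theorem fixc_9_25000 : fixPtsF W_9 3160 25000 = true := by decide +kernel

end Cfsg.Agent.Helper4.F22MA
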