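import Cfsg.Agent.Helper4.F22MBDat

/-! generated permutation model, checks: F22MB -/

set_option autoImplicit false
set_option Elab.async false
set_option maxRecDepth 1000000

namespace Cfsg.Agent.Helper4.F22MB
open Cfsg.Agent.Helper5.TC Cfsg.Agent.Helper5.TCI Cfsg.Agent.Helper5.LP

theorem invc_0_0 : invRowFI mT 185328 0 1 100000 0 = true := by decide +kernel

theorem fixc_6_100000 : fixPtsF W_6 50000 100000 = true := by decide +kernel

theorem fixc_27_0 : fixPtsF W_27 50000 0 = true := by decide +kernel

theorem fixc_52_0 : fixPtsF W_52 100000 0 = true := by decide +kernel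

theorem fixc_10_60306 : fixPtsF W_10 3174 60306 = true := by decide +kernel

theorem fixc_10_126960 : fixPtsF W_10 3174 126960 = true := by decide +kernel

theorem fixc_44_69828 : fixPtsF W_44 3174 69828 = true := by decide +kernel

theorem fixc_43_8788 : fixPtsF W_43 2197 8788 = true := by decide +kernel

theorem fixc_43_63713 : fixPtsF W_43 2197 63713 = true := by decide +kernel

theorem fixc_43_151593 : fixPtsF W_43 2197 151593 = true := by decide +kernel

theorem fixc_23_150000 : fixPtsF W_23 35328 150000 = true := by decide +kernel

end Cfsg.Agent.Helper4.F22MB
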