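import Cfsg.Agent.Helper4.F22MBDat

/-! generated permutation model, checks: F22MB -/

set_option autoImplicit false
set_option Elab.async false
set_option maxRecDepth 1000000

namespace Cfsg.Agent.Helper4.F22MB
open Cfsg.Agent.Helper5.TC Cfsg.Agent.Helper5.TCI Cfsg.Agent.Helper5.LP

theorem invc_14_0 : invRowFI mT 185328 14 15 100000 0 = true := by decide +kernel

theorem fixc_17_50000 : fixPtsF W_17 50000 50000 = true := by decide +kernel

theorem fixc_33_100000 : fixPtsF W_33 50000 100000 = true := by decide +kernel

theorem fixc_13_66666 : fixPtsF W_13 33333 66666 = true := by decide +kernel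

theorem fixc_42_0 : fixPtsF W_42 33333 0 = true := by decide +kernel

theorem fixc_10_171396 : fixPtsF W_10 3174 171396 = true := by decide +kernel

theorem fixc_44_114264 : fixPtsF W_44 3174 114264 = true := by decide +kernel

theorem fixc_43_39546 : fixPtsF W_43 2197 39546 = true := by decide +kernel

theorem fixc_43_127426 : fixPtsF W_43 2197 127426 = true := by decide +kernel

theorem invc_14_100000 : invRowFI mT 185328 14 15 85328 100000 = true := by decide +kernel

theorem fixc_5_150000 : fixPtsF W_5 35328 150000 = true := by decide +kernel

theorem fixc_22_166665 : fixPtsF W_22 18663 166665 = true := by decide +kernel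

end Cfsg.Agent.Helper4.F22MB
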