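import Cfsg.Agent.Helper4.F22MBDat

/-! generated permutation model, checks: F22MB -/

set_option autoImplicit false
set_option Elab.async false
set_option maxRecDepth 1000000

namespace Cfsg.Agent.Helper4.F22MB
open Cfsg.Agent.Helper5.TC Cfsg.Agent.Helper5.TCI Cfsg.Agent.Helper5.LP

theorem fixc_2_100000 : fixPtsF W_2 50000 100000 = true := by decide +kernel

theorem fixc_23_0 : fixPtsF W_23 50000 0 = true := by decide +kernel

theorem fixc_40_50000 : fixPtsF W_40 50000 50000 = true := by decide +kernel

theorem fixc_22_33333 : fixPtsF W_22 33333 33333 = true := by decide +kernel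

theorem fixc_10_22218 : fixPtsF W_10 3174 22218 = true := by decide +kernel

theorem fixc_10_88872 : fixPtsF W_10 3174 88872 = true := by decide +kernel

theorem fixc_44_31740 : fixPtsF W_44 3174 31740 = true := by decide +kernel

theorem fixc_44_158700 : fixPtsF W_44 3174 158700 = true := by decide +kernel

theorem fixc_43_83486 : fixPtsF W_43 2197 83486 = true := by decide +kernel

theorem fixc_43_171366 : fixPtsF W_43 2197 171366 = true := by decide +kernel

theorem fixc_34_150000 : fixPtsF W_34 35328 150000 = true := by decide +kernel

end Cfsg.Agent.Helper4.F22MB
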