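import Cfsg.Agent.Helper4.F22MXDat

/-! generated permutation model, checks: F22MX -/

set_option autoImplicit false
set_option Elab.async false
set_option maxRecDepth 1000000

namespace Cfsg.Agent.Helper4.F22MX
open Cfsg.Agent.Helper5.TC Cfsg.Agent.Helper5.TCI Cfsg.Agent.Helper5.LP

theorem fixc_14_0 : fixPtsF W_14 2160 0 = true := by decide +kernel

theorem fixc_9_0 : fixPtsF W_9 2160 0 = true := by decide +kernel

theorem fixc_11_0 : fixPtsF W_11 2160 0 = true := by decide +kernel

theorem fixc_17_0 : fixPtsF W_17 2160 0 = true := by decide +kernel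

theorem fixc_19_0 : fixPtsF W_19 2160 0 = true := by decide +kernel

theorem fixc_24_0 : fixPtsF W_24 2160 0 = true := by decide +kernel

theorem fixc_15_0 : fixPtsF W_15 2160 0 = true := by decide +kernel

theorem fixc_27_0 : fixPtsF W_27 2160 0 = true := by decide +kernel

theorem fixc_31_0 : fixPtsF W_31 2160 0 = true := by decide +kernel

theorem fixc_0_0 : fixPtsF W_0 2160 0 = true := by decide +kernel

theorem fixc_1_0 : fixPtsF W_1 2160 0 = true := by decide +kernel

theorem fixc_3_0 : fixPtsF W_3 2160 0 = true := by decide +kernel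

theorem fixc_5_0 : fixPtsF W_5 2160 0 = true := by decide +kernel

theorem fixc_33_0 : fixPtsF W_33 2160 0 = true := by decide +kernel

theorem fixc_35_0 : fixPtsF W_35 2160 0 = true := by decide +kernel

theorem fixc_37_0 : fixPtsF W_37 2160 0 = true := by decide +kernel

theorem fixc_39_0 : fixPtsF W_39 2160 0 = true := by decide +kernel

theorem invc_2_0 : invRowFI mT 2160 2 3 2160 0 = true := by decide +kernel

theorem invc_4_0 : invRowFI mT 2160 4 5 2160 0 = true := by decide +kernel

theorem invc_6_0 : invRowFI mT 2160 6 7 2160 0 = true := by decide +kernel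

theorem invc_8_0 : invRowFI mT 2160 8 9 2160 0 = true := by decide +kernel

theorem invc_10_0 : invRowFI mT 2160 10 11 2160 0 = true := by decide +kernel

theorem invc_12_0 : invRowFI mT 2160 12 13 2160 0 = true := by decide +kernel

theorem invc_14_0 : invRowFI mT 2160 14 15 2160 0 = true := by decide +kernel

theorem fixc_40_0 : fixPtsF W_40 2160 0 = true := by decide +kernel

end Cfsg.Agent.Helper4.F22MX
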