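import Cfsg.Agent.Helper4.F22PWDat

/-! generated checks: F22PW -/

set_option autoImplicit false
set_option Elab.async false
set_option maxRecDepth 1000000

namespace Cfsg.Agent.Helper4.F22PW
open Cfsg.Agent.Helper5.TC Cfsg.Agent.Helper5.TCI Cfsg.Agent.Helper5.LP

theorem fixc_3_0 : fixPtsF W_3 14080 0 = true := by decide +kernel

theorem fixc_5_0 : fixPtsF W_5 12500 0 = true := by decide +kernel

theorem fixc_5_12500 : fixPtsF W_5 1580 12500 = true := by decide +kernel

theorem fixc_8_3920 : fixPtsF W_8 980 3920 = true := by decide +kernel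

theorem fixc_8_9800 : fixPtsF W_8 980 9800 = true := by decide +kernel

theorem fixc_10_4346 : fixPtsF W_10 2173 4346 = true := by decide +kernel

theorem fixc_10_13038 : fixPtsF W_10 1042 13038 = true := by decide +kernel

end Cfsg.Agent.Helper4.F22PW
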