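import Cfsg.Agent.Helper5.FiXATCDatT
import Cfsg.Agent.Helper5.TC3A
import Cfsg.Agent.Helper4.ShiftModel

/-! generated: words of the nine involutions of `Fi₂₂` fixing all the 14080 points (helper4) -/

set_option autoImplicit false
set_option Elab.async false

namespace Cfsg.Agent.Helper4.F22PW
open Cfsg.Agent.Helper5.TC Cfsg.Agent.Helper5.TCI Cfsg.Agent.Helper5.LP Cfsg.Agent.Helper5.FiXATC

def w_0 : List ℕ := [8, 1, 8, 1]

set_option maxRecDepth 1000000 in
def W_0 (v : ℕ) : ℕ := forceL (ct1F v) (fun a1 => forceL (ct8F a1) (fun a2 => forceL (ct1F a2) (fun a3 => forceL (ct8F a3) (fun a4 => a4))))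

def w_1 : List ℕ := [8, 2, 3, 8, 3, 2]

set_option maxRecDepth 1000000 in
def W_1 (v : ℕ) : ℕ := forceL (ct2F v) (fun a1 => forceL (ct3F a1) (fun a2 => forceL (ct8F a2) (fun a3 => forceL (ct3F a3) (fun a4 => forceL (ct2F a4) (fun a5 => forceL (ct8F a5) (fun a6 => a6))))))

def w_2 : List ℕ := [8, 4, 5, 8, 5, 4]

set_option maxRecDepth 1000000 in
def W_2 (v : ℕ) : ℕ := forceL (ct4F v) (fun a1 => forceL (ct5F a1) (fun a2 => forceL (ct8F a2) (fun a3 => forceL (ct5F a3) (fun a4 => forceL (ct4F a4) (fun a5 => forceL (ct8F a5) (fun a6 => a6))))))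

def w_3 : List ℕ := [8, 6, 7, 8, 7, 6]

set_option maxRecDepth 1000000 in
def W_3 (v : ℕ) : ℕ := forceL (ct6F v) (fun a1 => forceL (ct7F a1) (fun a2 => forceL (ct8F a2) (fun a3 => forceL (ct7F a3) (fun a4 => forceL (ct6F a4) (fun a5 => forceL (ct8F a5) (fun a6 => a6))))))

def w_4 : List ℕ := [8, 0, 0, 1, 8, 0, 0, 1]

set_option maxRecDepth 1000000 in
def W_4 (v : ℕ) : ℕ := forceL (ct1F v) (fun a1 => forceL (ct0F a1) (fun a2 => forceL (ct0F a2) (fun a3 => forceL (ct8F a3) (fun a4 => forceL (ct1F a4) (fun a5 => forceL (ct0F a5) (fun a6 => forceL (ct0F a6) (fun a7 => forceL (ct8F a7) (fun a8 => a8))))))))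

def w_5 : List ℕ := [8, 0, 0, 1, 1, 2, 3, 2, 2, 1, 1, 0, 0, 8, 3, 2]

set_option maxRecDepth 1000000 in
def W_5 (v : ℕ) : ℕ := forceL (ct2F v) (fun a1 => forceL (ct3F a1) (fun a2 => forceL (ct8F a2) (fun a3 => forceL (ct0F a3) (fun a4 => forceL (ct0F a4) (fun a5 => forceL (ct1F a5) (fun a6 => forceL (ct1F a6) (fun a7 => forceL (ct2F a7) (fun a8 => forceL (ct2F a8) (fun a9 => forceL (ct3F a9) (fun a10 => forceL (ct2F a10) (fun a11 => forceL (ct1F a11) (fun a12 => forceL (ct1F a12) (fun a13 => forceL (ct0F a13) (fun a14 => forceL (ct0F a14) (fun a15 => forceL (ct8F a15) (fun a16 => a16))))))))))))))))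

def w_6 : List ℕ := [8, 0, 0, 1, 1, 2, 2, 4, 5, 4, 4, 2, 2, 1, 1, 0, 0, 8, 5, 4]

set_option maxRecDepth 1000000 in
def W_6 (v : ℕ) : ℕ := forceL (ct4F v) (fun a1 => forceL (ct5F a1) (fun a2 => forceL (ct8F a2) (fun a3 => forceL (ct0F a3) (fun a4 => forceL (ct0F a4) (fun a5 => forceL (ct1F a5) (fun a6 => forceL (ct1F a6) (fun a7 => forceL (ct2F a7) (fun a8 => forceL (ct2F a8) (fun a9 => forceL (ct4F a9) (fun a10 => forceL (ct4F a10) (fun a11 => forceL (ct5F a11) (fun a12 => forceL (ct4F a12) (fun a13 => forceL (ct2F a13) (fun a14 => forceL (ct2F a14) (fun a15 => forceL (ct1F a15) (fun a16 => forceL (ct1F a16) (fun a17 => forceL (ct0F a17) (fun a18 => forceL (ct0F a18) (fun a19 => forceL (ct8F a19) (fun a20 => a20))))))))))))))))))))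

def w_7 : List ℕ := [8, 0, 0, 1, 1, 2, 2, 3, 3, 6, 7, 6, 6, 3, 3, 2, 2, 1, 1, 0, 0, 8, 7, 6]

set_option maxRecDepth 1000000 in
def W_7 (v : ℕ) : ℕ := forceL (ct6F v) (fun a1 => forceL (ct7F a1) (fun a2 => forceL (ct8F a2) (fun a3 => forceL (ct0F a3) (fun a4 => forceL (ct0F a4) (fun a5 => forceL (ct1F a5) (fun a6 => forceL (ct1F a6) (fun a7 => forceL (ct2F a7) (fun a8 => forceL (ct2F a8) (fun a9 => forceL (ct3F a9) (fun a10 => forceL (ct3F a10) (fun a11 => forceL (ct6F a11) (fun a12 => forceL (ct6F a12) (fun a13 => forceL (ct7F a13) (fun a14 => forceL (ct6F a14) (fun a15 => forceL (ct3F a15) (fun a16 => forceL (ct3F a16) (fun a17 => forceL (ct2F a17) (fun a18 => forceL (ct2F a18) (fun a19 => forceL (ct1F a19) (fun a20 => forceL (ct1F a20) (fun a21 => forceL (ct0F a21) (fun a22 => forceL (ct0F a22) (fun a23 => forceL (ct8F a23) (fun a24 => a24))))))))))))))))))))))))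

def w_8 : List ℕ := [8, 0, 1, 2, 3, 6, 4, 2, 2, 1, 1, 0, 0, 8, 0, 1, 2, 3, 6, 3, 3, 2, 2, 4, 8, 0, 1, 2, 3, 6, 4, 2, 2, 1, 1, 0, 0, 8, 0, 1, 2, 3, 6, 3, 3, 2, 2, 4, 8, 0, 1, 2, 3, 6, 4, 2, 2, 1, 1, 0, 0, 8, 0, 1, 2, 3, 6, 3, 3, 2, 2, 4, 8, 0, 1, 2, 3, 6, 4, 2, 2, 1, 1, 0, 0, 8, 0, 1, 2, 3, 6, 3, 3, 2, 2, 4, 8, 0, 1, 2, 3, 6, 0, 1, 2, 3, 6, 7, 4, 2, 2, 1, 1, 0, 1, 2, 3, 6, 7, 6, 6, 3, 3, 2, 2, 4, 0, 1, 2, 3, 6, 7, 4, 2, 2, 1, 1, 0, 1, 2, 3, 6, 7, 6, 6, 3, 3, 2, 2, 4, 0, 1, 2, 3, 6, 7, 4, 2, 2, 1, 1, 0, 1, 2, 3, 6, 7, 6, 6, 3, 3, 2, 2, 4, 0, 1, 2, 3, 6, 7, 4, 2, 2, 1, 1, 0, 1, 2, 3, 6, 7, 6, 6, 3, 3, 2, 2, 4, 0, 1, 2, 3, 6, 7]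

set_option maxRecDepth 1000000 in
def W_8 (v : ℕ) : ℕ := forceL (ct7F v) (fun a1 => forceL (ct6F a1) (fun a2 => forceL (ct3F a2) (fun a3 => forceL (ct2F a3) (fun a4 => forceL (ct1F a4) (fun a5 => forceL (ct0F a5) (fun a6 => forceL (ct4F a6) (fun a7 => forceL (ct2F a7) (fun a8 => forceL (ct2F a8) (fun a9 => forceL (ct3F a9) (fun a10 => forceL (ct3F a10) (fun a11 => forceL (ct6F a11) (fun a12 => forceL (ct6F a12) (fun a13 => forceL (ct7F a13) (fun a14 => forceL (ct6F a14) (fun a15 => forceL (ct3F a15) (fun a16 => forceL (ct2F a16) (fun a17 => forceL (ct1F a17) (fun a18 => forceL (ct0F a18) (fun a19 => forceL (ct1F a19) (fun a20 => forceL (ct1F a20) (fun a21 => forceL (ct2F a21) (fun a22 => forceL (ct2F a22) (fun a23 => forceL (ct4F a23) (fun a24 => forceL (ct7F a24) (fun a25 => forceL (ct6F a25) (fun a26 => forceL (ct3F a26) (fun a27 => forceL (ct2F a27) (fun a28 => forceL (ct1F a28) (fun a29 => forceL (ct0F a29) (fun a30 => forceL (ct4F a30)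 (fun a31 => forceL (ct2F a31) (fun a32 => forceL (ct2F a32) (fun a33 => forceL (ct3F a33) (fun a34 => forceL (ct3F a34) (fun a35 => forceL (ct6F a35) (fun a36 => forceL (ct6F a36) (fun a37 => forceL (ct7F a37) (fun a38 => forceL (ct6F a38) (fun a39 => forceL (ct3F a39) (fun a40 => forceL (ct2F a40) (fun a41 => forceL (ct1F a41) (fun a42 => forceL (ct0F a42) (fun a43 => forceL (ct1F a43) (fun a44 => forceL (ct1F a44) (fun a45 => forceL (ct2F a45) (fun a46 => forceL (ct2F a46) (fun a47 => forceL (ct4F a47) (fun a48 => forceL (ct7F a48) (fun a49 => forceL (ct6F a49) (fun a50 => forceL (ct3F a50) (fun a51 => forceL (ct2F a51) (fun a52 => forceL (ct1F a52) (fun a53 => forceL (ct0F a53) (fun a54 => forceL (ct4F a54) (fun a55 => forceL (ct2F a55) (fun a56 => forceL (ct2F a56) (fun a57 => forceL (ct3F a57) (fun a58 => forceL (ct3F a58) (fun a59 => forceL (ct6F a59) (fun a60 => forceL (ct6F a60) (fun a61 => forceL (ct7F a61) (fun a62 => forceL (ct6F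 a62) (fun a63 => forceL (ct3F a63) (fun a64 => forceL (ct2F a64) (fun a65 => forceL (ct1F a65) (fun a66 => forceL (ct0F a66) (fun a67 => forceL (ct1F a67) (fun a68 => forceL (ct1F a68) (fun a69 => forceL (ct2F a69) (fun a70 => forceL (ct2F a70) (fun a71 => forceL (ct4F a71) (fun a72 => forceL (ct7F a72) (fun a73 => forceL (ct6F a73) (fun a74 => forceL (ct3F a74) (fun a75 => forceL (ct2F a75) (fun a76 => forceL (ct1F a76) (fun a77 => forceL (ct0F a77) (fun a78 => forceL (ct4F a78) (fun a79 => forceL (ct2F a79) (fun a80 => forceL (ct2F a80) (fun a81 => forceL (ct3F a81) (fun a82 => forceL (ct3F a82) (fun a83 => forceL (ct6F a83) (fun a84 => forceL (ct6F a84) (fun a85 => forceL (ct7F a85) (fun a86 => forceL (ct6F a86) (fun a87 => forceL (ct3F a87) (fun a88 => forceL (ct2F a88) (fun a89 => forceL (ct1F a89) (fun a90 => forceL (ct0F a90) (fun a91 => forceL (ct1F a91) (fun a92 => forceL (ct1F a92) (fun a93 => forceL (ct2F a93) (fun a94 => forceL (ct2F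 a94) (fun a95 => forceL (ct4F a95) (fun a96 => forceL (ct7F a96) (fun a97 => forceL (ct6F a97) (fun a98 => forceL (ct3F a98) (fun a99 => forceL (ct2F a99) (fun a100 => forceL (ct1F a100) (fun a101 => forceL (ct0F a101) (fun a102 => forceL (ct6F a102) (fun a103 => forceL (ct3F a103) (fun a104 => forceL (ct2F a104) (fun a105 => forceL (ct1F a105) (fun a106 => forceL (ct0F a106) (fun a107 => forceL (ct8F a107) (fun a108 => forceL (ct4F a108) (fun a109 => forceL (ct2F a109) (fun a110 => forceL (ct2F a110) (fun a111 => forceL (ct3F a111) (fun a112 => forceL (ct3F a112) (fun a113 => forceL (ct6F a113) (fun a114 => forceL (ct3F a114) (fun a115 => forceL (ct2F a115) (fun a116 => forceL (ct1F a116) (fun a117 => forceL (ct0F a117) (fun a118 => forceL (ct8F a118) (fun a119 => forceL (ct0F a119) (fun a120 => forceL (ct0F a120) (fun a121 => forceL (ct1F a121) (fun a122 => forceL (ct1F a122) (fun a123 => forceL (ct2F a123) (fun a124 => forceL (ct2F a124)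 (fun a125 => forceL (ct4F a125) (fun a126 => forceL (ct6F a126) (fun a127 => forceL (ct3F a127) (fun a128 => forceL (ct2F a128) (fun a129 => forceL (ct1F a129) (fun a130 => forceL (ct0F a130) (fun a131 => forceL (ct8F a131) (fun a132 => forceL (ct4F a132) (fun a133 => forceL (ct2F a133) (fun a134 => forceL (ct2F a134) (fun a135 => forceL (ct3F a135) (fun a136 => forceL (ct3F a136) (fun a137 => forceL (ct6F a137) (fun a138 => forceL (ct3F a138) (fun a139 => forceL (ct2F a139) (fun a140 => forceL (ct1F a140) (fun a141 => forceL (ct0F a141) (fun a142 => forceL (ct8F a142) (fun a143 => forceL (ct0F a143) (fun a144 => forceL (ct0F a144) (fun a145 => forceL (ct1F a145) (fun a146 => forceL (ct1F a146) (fun a147 => forceL (ct2F a147) (fun a148 => forceL (ct2F a148) (fun a149 => forceL (ct4F a149) (fun a150 => forceL (ct6F a150) (fun a151 => forceL (ct3F a151) (fun a152 => forceL (ct2F a152) (fun a153 => forceL (ct1F a153) (fun a154 => forceL (ct0F a154)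 (fun a155 => forceL (ct8F a155) (fun a156 => forceL (ct4F a156) (fun a157 => forceL (ct2F a157) (fun a158 => forceL (ct2F a158) (fun a159 => forceL (ct3F a159) (fun a160 => forceL (ct3F a160) (fun a161 => forceL (ct6F a161) (fun a162 => forceL (ct3F a162) (fun a163 => forceL (ct2F a163) (fun a164 => forceL (ct1F a164) (fun a165 => forceL (ct0F a165) (fun a166 => forceL (ct8F a166) (fun a167 => forceL (ct0F a167) (fun a168 => forceL (ct0F a168) (fun a169 => forceL (ct1F a169) (fun a170 => forceL (ct1F a170) (fun a171 => forceL (ct2F a171) (fun a172 => forceL (ct2F a172) (fun a173 => forceL (ct4F a173) (fun a174 => forceL (ct6F a174) (fun a175 => forceL (ct3F a175) (fun a176 => forceL (ct2F a176) (fun a177 => forceL (ct1F a177) (fun a178 => forceL (ct0F a178) (fun a179 => forceL (ct8F a179) (fun a180 => forceL (ct4F a180) (fun a181 => forceL (ct2F a181) (fun a182 => forceL (ct2F a182) (fun a183 => forceL (ct3F a183) (fun a184 => forceL (ct3F a184)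 (fun a185 => forceL (ct6F a185) (fun a186 => forceL (ct3F a186) (fun a187 => forceL (ct2F a187) (fun a188 => forceL (ct1F a188) (fun a189 => forceL (ct0F a189) (fun a190 => forceL (ct8F a190) (fun a191 => forceL (ct0F a191) (fun a192 => forceL (ct0F a192) (fun a193 => forceL (ct1F a193) (fun a194 => forceL (ct1F a194) (fun a195 => forceL (ct2F a195) (fun a196 => forceL (ct2F a196) (fun a197 => forceL (ct4F a197) (fun a198 => forceL (ct6F a198) (fun a199 => forceL (ct3F a199) (fun a200 => forceL (ct2F a200) (fun a201 => forceL (ct1F a201) (fun a202 => forceL (ct0F a202) (fun a203 => forceL (ct8F a203) (fun a204 => a204))))))))))))))))))))))))))))))))))))))))))))))))))))))))))))))))))))))))))))))))))))))))))))))))))))))))))))))))))))))))))))))))))))))))))))))))))))))))))))))))))))))))))))))))))))))))))))))))))))))))))))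

def w_9 : List ℕ := [8, 0, 1, 2, 3, 6, 4, 2, 5, 4, 3, 2, 1, 0, 8, 0, 6, 3, 4, 2, 2, 3, 0, 8, 0, 1, 2, 3, 4, 5, 2, 4, 6, 3, 2, 1, 0, 8, 3, 2, 2, 4, 3, 6]

set_option maxRecDepth 1000000 in
def W_9 (v : ℕ) : ℕ := forceL (ct6F v) (fun a1 => forceL (ct3F a1) (fun a2 => forceL (ct4F a2) (fun a3 => forceL (ct2F a3) (fun a4 => forceL (ct2F a4) (fun a5 => forceL (ct3F a5) (fun a6 => forceL (ct8F a6) (fun a7 => forceL (ct0F a7) (fun a8 => forceL (ct1F a8) (fun a9 => forceL (ct2F a9) (fun a10 => forceL (ct3F a10) (fun a11 => forceL (ct6F a11) (fun a12 => forceL (ct4F a12) (fun a13 => forceL (ct2F a13) (fun a14 => forceL (ct5F a14) (fun a15 => forceL (ct4F a15) (fun a16 => forceL (ct3F a16) (fun a17 => forceL (ct2F a17) (fun a18 => forceL (ct1F a18) (fun a19 => forceL (ct0F a19) (fun a20 => forceL (ct8F a20) (fun a21 => forceL (ct0F a21) (fun a22 => forceL (ct3F a22) (fun a23 => forceL (ct2F a23) (fun a24 => forceL (ct2F a24) (fun a25 => forceL (ct4F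 a25) (fun a26 => forceL (ct3F a26) (fun a27 => forceL (ct6F a27) (fun a28 => forceL (ct0F a28) (fun a29 => forceL (ct8F a29) (fun a30 => forceL (ct0F a30) (fun a31 => forceL (ct1F a31) (fun a32 => forceL (ct2F a32) (fun a33 => forceL (ct3F a33) (fun a34 => forceL (ct4F a34) (fun a35 => forceL (ct5F a35) (fun a36 => forceL (ct2F a36) (fun a37 => forceL (ct4F a37) (fun a38 => forceL (ct6F a38) (fun a39 => forceL (ct3F a39) (fun a40 => forceL (ct2F a40) (fun a41 => forceL (ct1F a41) (fun a42 => forceL (ct0F a42) (fun a43 => forceL (ct8F a43) (fun a44 => a44))))))))))))))))))))))))))))))))))))))))))))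

def w_10 : List ℕ := [8, 0, 1, 2, 3, 6, 4, 2, 5, 4, 3, 2, 1, 0, 8, 0, 7, 6, 3, 2, 1, 0, 4, 5, 2, 4, 1, 2, 3, 6, 2, 4, 1, 2, 3, 2, 7, 6, 0, 1, 2, 3, 4, 2, 1, 2, 0, 8, 0, 1, 2, 3, 4, 5, 2, 4, 6, 3, 2, 1, 0, 8, 7, 6, 3, 2, 0, 1, 4, 5, 2, 3, 4, 5, 2, 1, 0, 1, 2, 3, 4, 2, 6, 3, 1, 2, 7, 6, 3, 2, 4, 2]

set_option maxRecDepth 1000000 in
def W_10 (v : ℕ) : ℕ := forceL (ct2F v) (fun a1 => forceL (ct4F a1) (fun a2 => forceL (ct2F a2) (fun a3 => forceL (ct3F a3) (fun a4 => forceL (ct6F a4) (fun a5 => forceL (ct7F a5) (fun a6 => forceL (ct2F a6) (fun a7 => forceL (ct1F a7) (fun a8 => forceL (ct3F a8) (fun a9 => forceL (ct6F a9) (fun a10 => forceL (ct2F a10) (fun a11 => forceL (ct4F a11) (fun a12 => forceL (ct3F a12) (fun a13 => forceL (ct2F a13) (fun a14 => forceL (ct1F a14) (fun a15 => forceL (ct0F a15) (fun a16 => forceL (ct1F a16) (fun a17 => forceL (ct2F a17) (fun a18 => forceL (ct5F a18) (fun a19 => forceL (ct4F a19) (fun a20 => forceL (ct3F a20)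 (fun a21 => forceL (ct2F a21) (fun a22 => forceL (ct5F a22) (fun a23 => forceL (ct4F a23) (fun a24 => forceL (ct1F a24) (fun a25 => forceL (ct0F a25) (fun a26 => forceL (ct2F a26) (fun a27 => forceL (ct3F a27) (fun a28 => forceL (ct6F a28) (fun a29 => forceL (ct7F a29) (fun a30 => forceL (ct8F a30) (fun a31 => forceL (ct0F a31) (fun a32 => forceL (ct1F a32) (fun a33 => forceL (ct2F a33) (fun a34 => forceL (ct3F a34) (fun a35 => forceL (ct6F a35) (fun a36 => forceL (ct4F a36) (fun a37 => forceL (ct2F a37) (fun a38 => forceL (ct5F a38) (fun a39 => forceL (ct4F a39) (fun a40 => forceL (ct3F a40) (fun a41 => forceL (ct2F a41) (fun a42 => forceL (ct1F a42) (fun a43 => forceL (ct0F a43) (fun a44 => forceL (ct8F a44) (fun a45 => forceL (ct0F a45) (fun a46 => forceL (ct2F a46) (fun a47 => forceL (ct1F a47) (fun a48 => forceL (ct2F a48) (fun a49 => forceL (ct4F a49) (fun a50 => forceL (ct3F a50) (fun a51 => forceL (ct2F a51) (fun a52 => forceL (ct1F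 a52) (fun a53 => forceL (ct0F a53) (fun a54 => forceL (ct6F a54) (fun a55 => forceL (ct7F a55) (fun a56 => forceL (ct2F a56) (fun a57 => forceL (ct3F a57) (fun a58 => forceL (ct2F a58) (fun a59 => forceL (ct1F a59) (fun a60 => forceL (ct4F a60) (fun a61 => forceL (ct2F a61) (fun a62 => forceL (ct6F a62) (fun a63 => forceL (ct3F a63) (fun a64 => forceL (ct2F a64) (fun a65 => forceL (ct1F a65) (fun a66 => forceL (ct4F a66) (fun a67 => forceL (ct2F a67) (fun a68 => forceL (ct5F a68) (fun a69 => forceL (ct4F a69) (fun a70 => forceL (ct0F a70) (fun a71 => forceL (ct1F a71) (fun a72 => forceL (ct2F a72) (fun a73 => forceL (ct3F a73) (fun a74 => forceL (ct6F a74) (fun a75 => forceL (ct7F a75) (fun a76 => forceL (ct0F a76) (fun a77 => forceL (ct8F a77) (fun a78 => forceL (ct0F a78) (fun a79 => forceL (ct1F a79) (fun a80 => forceL (ct2F a80) (fun a81 => forceL (ct3F a81) (fun a82 => forceL (ct4F a82) (fun a83 => forceL (ct5F a83) (fun a84 => forceL (ct2F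 a84) (fun a85 => forceL (ct4F a85) (fun a86 => forceL (ct6F a86) (fun a87 => forceL (ct3F a87) (fun a88 => forceL (ct2F a88) (fun a89 => forceL (ct1F a89) (fun a90 => forceL (ct0F a90) (fun a91 => forceL (ct8F a91) (fun a92 => a92))))))))))))))))))))))))))))))))))))))))))))))))))))))))))))))))))))))))))))))))))))))))))))

end Cfsg.Agent.Helper4.F22PW
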