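import Cfsg.Agent.Helper4.LTWG

/-! generated labelled Todd-Coxeter certificate data: F22R2 (helper4 prover) -/

set_option autoImplicit false
set_option Elab.async false

namespace Cfsg.Agent.Helper4.F22R2
open Cfsg.Agent.Helper4.LTW

def words : List (List ℕ) := [[0, 1], [1, 0], [2, 3], [3, 2], [], [0, 0, 0], [2, 2, 2], [0, 3, 0, 3], [3, 0, 3, 0], [0]]

def deltas : List ℕ := [0, 0, 0, 0, 0, 0, 0, 1, 1, 0]

def origs : List ℕ := [0, 0, 0, 0, 0, 0, 0, 1, 129, 0]

def par2 : List (List ℕ) := [[0x1000001000000000000]]

def gen2 : List (List ℕ) := [[0x20200]]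

def fa2 : List (List ℕ) := [[0xc400003000000000000000000081000030000000000000000000c1000010000000000000000000410000200000000000000000000300002000000000000000000083000010000000000000000000430000000000000000000000000100000]]

def lv2 : List (List ℕ) := [[0x3000002000001000000]]

def tb2 : List (List ℕ) := [[0x300000e00000300000f00000100000b00000200000c00000100000500000000000600000300000d00000100000800000000000300000200000400000200000900000300000a000002000007000001000002000000000001000000000000]]

def cert : Cert where
  k := 4
  ι := Cfsg.Agent.Helper5.StemP.linv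
  E := 1
  W := fun wi => words.getD wi []
  nrel := 9
  nw := 10
  δ := fun wi => L8.dec (deltas.getD wi 0)
  par := fun v => lk2 24 par2 v
  gen := fun v => lk2 8 gen2 v
  fa := fun j => lk2 104 fa2 j
  nf := 8

def tab : Tab where
  N := 4
  LV := fun n => lk2 24 lv2 n
  TB := fun n x => lk2 48 tb2 (Nat.add (Nat.mul 4 n) x)

def js : List ℕ := []

def cs0 : List ℕ := []

def as_ : List ℕ := [0]

def css : List (List ℕ) := [[]]

end Cfsg.Agent.Helper4.F22R2
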