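import Cfsg.Agent.Helper4.F22R2Dat

/-! generated labelled Todd-Coxeter certificate: F22R2 -/

set_option autoImplicit false
set_option Elab.async false
set_option maxRecDepth 1000000

namespace Cfsg.Agent.Helper4.F22R2
open Cfsg.Agent.Helper4.LTW

def ju_0 : List ℕ := [0x27, 0x0, 0x0, 0xc000010004004000040101b, 0x800000400001c0080040000001023, 0x0, 0x240000280040040000401017, 0x34000010000028008004000040101f]

theorem len_0 : ju_0.length = 8 := by decide +kernel

theorem chk_0 : checkList cert 0 ju_0 = true := by decide +kernel

end Cfsg.Agent.Helper4.F22R2
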