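import Cfsg.Agent.Helper4.LTWG

/-! generated labelled Todd-Coxeter certificate data: F22R3 (helper4 prover) -/

set_option autoImplicit false
set_option Elab.async false

namespace Cfsg.Agent.Helper4.F22R3
open Cfsg.Agent.Helper4.LTW

def words : List (List ℕ) := [[0, 1], [1, 0], [2, 3], [3, 2], [4, 5], [5, 4], [], [0, 0, 0], [2, 2, 2], [4, 4, 4], [0, 5, 0, 5], [5, 0, 5, 0], [2, 5, 2, 5], [5, 2, 5, 2], [0, 3, 0, 3], [3, 0, 3, 0], [0], [2]]

def deltas : List ℕ := [0, 0, 0, 0, 0, 0, 0, 0, 0, 0, 1, 1, 128, 128, 0, 0, 0, 0]

def origs : List ℕ := [0, 0, 0, 0, 0, 0, 0, 0, 0, 0, 1, 129, 3, 131, 5, 133, 0, 0]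

def par2 : List (List ℕ) := [[0x6000003000004000001000001000001000000000000]]

def gen2 : List (List ℕ) := [[0x400030002040400]]

def fa2 : List (List ℕ) := [[0x1c3000070000000000000000001c100007000000000000000000145000070000000000000000001c50000600000000000000000014300006000000000000000000104000060000000000000000001460000600000000000000000014100006000000000000000000181000030000000000000000000c100005000000000000000000144000040000000000000000001060000400000000000000000008100004000000000000000000101000010000000000000000000c600003000000000000000000083000030000000000000000000c30000100000000000000000004300002000000000000000000041000020000000000000000000050000200000000000000000008500001000000000000000000045000000000000000000000000030000000000000000000000000100000]]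

def lv2 : List (List ℕ) := [[0x7000006000005000004000003000002000001000000]]

def tb2 : List (List ℕ) := [[0x600002900000500002a00000700002f00000700002e00000700002d00000700002c00000500002200000700002800000400002400000500002600000300001f00000500002000000700002b00000600002300000600002700000400001b00000600002100000300001c00000400001800000400001900000500001a00000600002500000100001500000200001600000300001200000300001300000100000f00000200001000000500001d00000600001e00000100000700000000000800000300001100000100000c00000400001700000100000a00000000000500000200000600000200000d00000300000e00000200000b000004000014000002000009000001000004000000000003000000000002000000000001000000000000]]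

def cert : Cert where
  k := 6
  ι := Cfsg.Agent.Helper5.StemP.linv
  E := 1
  W := fun wi => words.getD wi []
  nrel := 16
  nw := 18
  δ := fun wi => L8.dec (deltas.getD wi 0)
  par := fun v => lk2 24 par2 v
  gen := fun v => lk2 8 gen2 v
  fa := fun j => lk2 104 fa2 j
  nf := 24

def tab : Tab where
  N := 8
  LV := fun n => lk2 24 lv2 n
  TB := fun n x => lk2 48 tb2 (Nat.add (Nat.mul 6 n) x)

def js : List ℕ := []

def cs0 : List ℕ := []

def as_ : List ℕ := [0, 0]

def css : List (List ℕ) := [[], []]

end Cfsg.Agent.Helper4.F22R3
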