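import Cfsg.Agent.Helper4.F22R3Dat

/-! generated labelled Todd-Coxeter certificate: F22R3 -/

set_option autoImplicit false
set_option Elab.async false
set_option maxRecDepth 1000000

namespace Cfsg.Agent.Helper4.F22R3
open Cfsg.Agent.Helper4.LTW

def ju_0 : List ℕ := [0x43, 0x47, 0x0, 0x0, 0x140000180040040000401027, 0x10000004000024008004000000102f, 0x1000000c0000240080040000001037, 0x0, 0x340000380040040000401023, 0x440000180000380080040000401033, 0x0, 0x2c000050004004000040101f, 0x5c000018000050008004000040102b, 0x0, 0x38000054000068008004000100103f, 0x0, 0x740000780040040000c0101f, 0x7400004c0000780080040000c0102b, 0x5c0000400000780080040000c0103b, 0x680000940040040001001023, 0x0, 0x880000a00040040001801027, 0xac0000800000a400000c0001c0302f, 0xac0000980000a400000c0001c03037]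

theorem len_0 : ju_0.length = 24 := by decide +kernel

theorem chk_0 : checkList cert 0 ju_0 = true := by decide +kernel

end Cfsg.Agent.Helper4.F22R3
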