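import Cfsg.Agent.Helper4.LTWG

/-! generated labelled Todd-Coxeter certificate data: F22R4 (helper4 prover) -/

set_option autoImplicit false
set_option Elab.async false

namespace Cfsg.Agent.Helper4.F22R4
open Cfsg.Agent.Helper4.LTW

def words : List (List ℕ) := [[0, 1], [1, 0], [2, 3], [3, 2], [4, 5], [5, 4], [6, 7], [7, 6], [], [0, 0, 0], [2, 2, 2], [4, 4, 4], [6, 6, 6], [2, 6, 2, 6], [6, 2, 6, 2], [0, 7, 3, 0, 7, 3], [7, 3, 0, 7, 3, 0], [3, 0, 7, 3, 0, 7], [2, 7, 5, 2, 7, 5], [7, 5, 2, 7, 5, 2], [5, 2, 7, 5, 2, 7], [0, 5, 0, 5], [5, 0, 5, 0], [2, 5, 2, 5], [5, 2, 5, 2], [0, 3, 0, 3], [3, 0, 3, 0], [0], [2], [4]]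

def deltas : List ℕ := [0, 0, 0, 0, 0, 0, 0, 0, 0, 0, 0, 0, 0, 1, 1, 128, 128, 128, 16384, 16384, 16384, 0, 0, 0, 0, 0, 0, 0, 0, 0]

def origs : List ℕ := [0, 0, 0, 0, 0, 0, 0, 0, 0, 0, 0, 0, 0, 1, 129, 3, 131, 259, 5, 133, 261, 7, 135, 9, 137, 11, 139, 0, 0, 0]

def par2 : List (List ℕ) := [[0x6000007000004000005000002000002000002000001000000000000]]

def gen2 : List (List ℕ) := [[0x6020005000405060600]]

def fa2 : List (List ℕ) := [[0x24600009000000000000000000241000090000000000000000002430000900000000000000000020700009000000000000000000247000060000000000000000002010000800000000000000000020600008000000000000000000187000080000000000000000001830000800000000000000000020300007000000000000000000185000070000000000000000001c8000070000000000000000001840000700000000000000000014600007000000000000000000181000070000000000000000001c100004000000000000000000101000060000000000000000001860000500000000000000000014800005000000000000000000144000050000000000000000000c1000050000000000000000001410000200000000000000000010800004000000000000000000103000040000000000000000000c50000400000000000000000010500002000000000000000000081000030000000000000000000c7000030000000000000000000c30000200000000000000000004600001000000000000000000043000030000000000000000000c6000020000000000000000000410000100000000000000000008300001000000000000000000007000020000000000000000000870000100000000000000000004700000000000000000000000005000000000000000000000000030000000000000000000000000100000]]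

def lv2 : List (List ℕ) := [[0x9000008000007000006000005000004000003000002000001000000]]

def tb2 : List (List ℕ) := [[0x600004700000800004800000900004e00000900004f00000900004b00000900004a00000900004d00000900004c00000900004900000600004000000800004200000800004300000700003d00000600003e00000800004500000800004400000700003800000700003900000500003400000600003a00000600003600000800003c00000400003100000600003200000800004100000900004600000700003b00000500002d00000800003f00000700003700000700003300000400002e00000500002a00000500002b00000600002c00000700003500000500002800000500002900000200002500000300002600000400002200000400002300000200001d00000300001e00000400002100000400002000000600002f00000700003000000300001900000300001800000400001f00000200001100000200001700000100001200000500002700000200001a00000100000900000000000a00000300001000000400001c00000100000d00000300001600000300001b00000500002400000000000700000200000800000100001400000100001500000300001300000200000c00000100000f00000100000e00000200000b000001000006000000000005000000000004000000000003000000000002000000000001000000000000]]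

def cert : Cert where
  k := 8
  ι := Cfsg.Agent.Helper5.StemP.linv
  E := 1
  W := fun wi => words.getD wi []
  nrel := 27
  nw := 30
  δ := fun wi => L8.dec (deltas.getD wi 0)
  par := fun v => lk2 24 par2 v
  gen := fun v => lk2 8 gen2 v
  fa := fun j => lk2 104 fa2 j
  nf := 40

def tab : Tab where
  N := 10
  LV := fun n => lk2 24 lv2 n
  TB := fun n x => lk2 48 tb2 (Nat.add (Nat.mul 8 n) x)

def js : List ℕ := []

def cs0 : List ℕ := []

def as_ : List ℕ := [0, 0, 0]

def css : List (List ℕ) := [[], [], []]

end Cfsg.Agent.Helper4.F22R4
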