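import Cfsg.Agent.Helper4.F22R4Dat

/-! generated labelled Todd-Coxeter certificate: F22R4 -/

set_option autoImplicit false
set_option Elab.async false
set_option maxRecDepth 1000000

namespace Cfsg.Agent.Helper4.F22R4
open Cfsg.Agent.Helper4.LTW

def ju_0 : List ℕ := [0x6f, 0x73, 0x77, 0x0, 0x0, 0x1c0000200040040000401033, 0x1800000800002800000c000080303b, 0x1800000800000400003400002c00c0080000002043, 0x0, 0x1800001000000c0000280000400100040000801053, 0x340000480000400040080000802063, 0x300000480000080000c0202b, 0x5800002000004800000c0000c03037, 0x3000003c00004c008004000040106b, 0x0, 0x40000070004004000080102f, 0x7c00005800007400000c0001003063, 0x7000005c000060000078000080010004000100104b, 0x0, 0x6c0000900040040000801027, 0x9c0000580000900080040000801067, 0x9000005c0000640000980000a00000140001405047, 0x0, 0x700000940000b0008004000140105b, 0x0, 0xbc0000c00040040001001027, 0x9c0000780000c00080040001001057, 0xbc0000800000c00080040001001067, 0xc00000840000880000b80000d80000140001c05047, 0xb00000d4004004000140102f, 0x0, 0xd80000f00040040001c0102b, 0xd80000e00000f00080040001c01037, 0xfc0000e80000f00080040001c0105f, 0xfc0000c80000f400000c000200306b,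 0x0, 0x1040001180040040001801033, 0x1240000fc000118008004000180103b, 0x12c0001240001100000fc00011c0000140002405043, 0x12c0001240000f00000ec00011c004010000240404f]

theorem len_0 : ju_0.length = 40 := by decide +kernel

theorem chk_0 : checkList cert 0 ju_0 = true := by decide +kernel

end Cfsg.Agent.Helper4.F22R4
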