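import Mathlib

set_option autoImplicit false
set_option linter.unusedSectionVars false

/-!
Vectors and square matrices over the field with two elements coded by natural numbers: a vector is
the number whose binary digits are its coordinates, a matrix is the list of the codes of its
columns.  The products are computed on the codes.
-/

namespace Cfsg.Agent.Helper4.F2Code

variable {ι : Type} [Fintype ι] [DecidableEq ι] {n : ℕ}

/-- the digit of `x` at the place `p`, as an element of the field with two elements. -/
def bit (x p : ℕ) : ZMod 2 := if x.testBit p then 1 else 0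

theorem bit_xor (x y p : ℕ) : bit (x ^^^ y) p = bit x p + bit y p := by
  unfold bit
  rw [Nat.testBit_xor]
  cases x.testBit p <;> cases y.testBit p <;> decide

theorem bit_zero (p : ℕ) : bit 0 p = 0 := by
  unfold bit
  simp

/-- the vector with code `c`. -/
def vec (e : ι ≃ Fin n) (c : ℕ) : ι → ZMod 2 := fun i => bit c (e i)

/-- the matrix with the codes of the columns in the list `A`. -/
def mat (e : ι ≃ Fin n) (A : List ℕ) : Matrix ι ι (ZMod 2) :=
  fun i j => bit (A.getD (e j) 0) (e i)

/-- the partial products of a matrix and a vector on the codes. -/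
def mulVecAux (A : List ℕ) (c : ℕ) (m : ℕ) : ℕ :=
  (List.range m).foldl (fun acc j => if c.testBit j then acc ^^^ A.getD j 0 else acc) 0

/-- the product of a matrix and a vector on the codes. -/
def mulVecCode (n : ℕ) (A : List ℕ) (c : ℕ) : ℕ := mulVecAux A c n

theorem mulVecAux_succ (A : List ℕ) (c m : ℕ) :
    mulVecAux A c (m + 1) =
      if c.testBit m then mulVecAux A c m ^^^ A.getD m 0 else mulVecAux A c m := by
  unfold mulVecAux
  rw [List.range_succ, List.foldl_append]
  rfl

theorem bit_mulVecAux (A : List ℕ) (c p : ℕ) (m : ℕ) :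
    bit (mulVecAux A c m) p = ∑ k : Fin m, bit (A.getD k 0) p * bit c k := by
  induction m with
  | zero =>
    simp [mulVecAux, bit_zero]
  | succ m ih =>
    rw [mulVecAux_succ, Fin.sum_univ_castSucc]
    simp only [Fin.val_castSucc, Fin.val_last]
    rw [← ih]
    by_cases h : c.testBit m
    · rw [if_pos h, bit_xor]
      have : bit c m = 1 := by unfold bit; rw [if_pos h]
      rw [this, mul_one]
    · rw [if_neg h]
      have : bit c m = 0 := by unfold bit; rw [if_neg h]
      rw [this, mul_zero, add_zero]

theorem mat_mulVec (e : ι ≃ Fin n) (A : List ℕ) (c : ℕ) :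
    Matrix.mulVec (mat e A) (vec e c) = vec e (mulVecCode n A c) := by
  funext i
  rw [Matrix.mulVec, dotProduct]
  show ∑ j, bit (A.getD (e j) 0) (e i) * bit c (e j) = bit (mulVecAux A c n) (e i)
  rw [bit_mulVecAux]
  exact Fintype.sum_equiv e _ _ (fun j => rfl)

/-- the product of two matrices on the codes. -/
def mulCode (n : ℕ) (A B : List ℕ) : List ℕ :=
  (List.range n).map (fun j => mulVecCode n A (B.getD j 0))

theorem getD_mulCode (A B : List ℕ) (k : Fin n) :
    (mulCode n A B).getD k 0 = mulVecCode n A (B.getD k 0) := by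
  unfold mulCode
  rw [List.getD_eq_getElem _ _ (by simp)]
  simp

theorem mat_mul (e : ι ≃ Fin n) (A B : List ℕ) :
    mat e A * mat e B = mat e (mulCode n A B) := by
  funext i j
  have h1 : (mat e A * mat e B) i j = Matrix.mulVec (mat e A) (vec e (B.getD (e j) 0)) i := rfl
  rw [h1, mat_mulVec]
  show bit _ _ = bit _ _
  rw [getD_mulCode]

/-- the code of the identity matrix. -/
def idCode (n : ℕ) : List ℕ := (List.range n).map (fun j => 2 ^ j)

theorem mat_id (e : ι ≃ Fin n) : mat e (idCode n) = 1 := by
  funext i j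
  show bit ((idCode n).getD (e j) 0) (e i) = _
  have h1 : (idCode n).getD (e j) 0 = 2 ^ (e j : ℕ) := by
    unfold idCode
    rw [List.getD_eq_getElem _ _ (by simp)]
    simp
  rw [h1]
  unfold bit
  rw [Nat.testBit_two_pow]
  by_cases h : i = j
  · subst h
    simp
  · have : (e j : ℕ) ≠ (e i : ℕ) := by
      intro h2
      apply h
      exact (e.injective (Fin.ext h2)).symm
    rw [Matrix.one_apply_ne h]
    simp [this]

theorem vec_surj (e : ι ≃ Fin n) (w : ι → ZMod 2) : ∃ c, c < 2 ^ n ∧ vec e c = w := by
  refine ⟨Nat.ofBits (fun k : Fin n => decide (w (e.symm k) = 1)), Nat.ofBits_lt_two_pow _, ?_⟩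
  funext i
  show bit _ _ = _
  unfold bit
  rw [Nat.testBit_ofBits_lt _ _ (e i).isLt]
  simp only [Fin.eta, Equiv.symm_apply_apply, decide_eq_true_eq]
  have : ∀ x : ZMod 2, (if x = 1 then (1 : ZMod 2) else 0) = x := by decide
  exact this _

theorem vec_inj (e : ι ≃ Fin n) {c c' : ℕ} (hc : c < 2 ^ n) (hc' : c' < 2 ^ n)
    (h : vec e c = vec e c') : c = c' := by
  apply Nat.eq_of_testBit_eq
  intro p
  by_cases hp : p < n
  · have h1 := congrFun h (e.symm ⟨p, hp⟩)
    unfold vec bit at h1
    simp only [Equiv.apply_symm_apply] at h1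
    cases hx : c.testBit p <;> cases hy : c'.testBit p <;> simp_all
  · have hp' : n ≤ p := Nat.le_of_not_lt hp
    rw [Nat.testBit_lt_two_pow (lt_of_lt_of_le hc (Nat.pow_le_pow_right (by norm_num) hp')),
      Nat.testBit_lt_two_pow (lt_of_lt_of_le hc' (Nat.pow_le_pow_right (by norm_num) hp'))]

theorem vec_zero (e : ι ≃ Fin n) : vec e 0 = 0 := by
  funext i
  exact bit_zero _

theorem vec_xor (e : ι ≃ Fin n) (c d : ℕ) : vec e (c ^^^ d) = vec e c + vec e d := by
  funext i
  exact bit_xor _ _ _

end Cfsg.Agent.Helper4.F2Code
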