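import Mathlib
import Cfsg.Agent.Helper4.F2Code

set_option autoImplicit false
set_option linter.unusedSectionVars false

/-!
Lower bounds for the order of a subgroup of `GL(ι, 𝔽₂)` given by generators: chains of
stabilisers of vectors, with transversals given by straight-line programs on coded matrices.
-/

namespace Cfsg.Agent.Helper4.F2Chain

open Cfsg.Agent.Helper4.F2Code

variable {ι : Type} [Fintype ι] [DecidableEq ι] {n : ℕ}

/-- the invertible matrix with codes `A` and inverse with codes `A'`. -/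
def unitOf (e : ι ≃ Fin n) (A A' : List ℕ) (h1 : mulCode n A A' = idCode n)
    (h2 : mulCode n A' A = idCode n) : Matrix.GeneralLinearGroup ι (ZMod 2) :=
  ⟨mat e A, mat e A', by rw [mat_mul, h1, mat_id], by rw [mat_mul, h2, mat_id]⟩

theorem unitOf_val (e : ι ≃ Fin n) (A A' : List ℕ) (h1 : mulCode n A A' = idCode n)
    (h2 : mulCode n A' A = idCode n) :
    ((unitOf e A A' h1 h2 : Matrix.GeneralLinearGroup ι (ZMod 2)) : Matrix ι ι (ZMod 2)) =
      mat e A := rfl

theorem unitOf_inv_val (e : ι ≃ Fin n) (A A' : List ℕ) (h1 : mulCode n A A' = idCode n)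
    (h2 : mulCode n A' A = idCode n) :
    (((unitOf e A A' h1 h2)⁻¹ : Matrix.GeneralLinearGroup ι (ZMod 2)) : Matrix ι ι (ZMod 2)) =
      mat e A' := rfl

/-- the subgroup of the invertible matrices fixing each vector of a list. -/
def fixL (l : List (ι → ZMod 2)) : Subgroup (Matrix.GeneralLinearGroup ι (ZMod 2)) where
  carrier := {g | ∀ b ∈ l, Matrix.mulVec (g : Matrix ι ι (ZMod 2)) b = b}
  one_mem' := by
    intro b _
    simp
  mul_mem' := by
    intro g h hg hh b hb
    rw [Units.val_mul, ← Matrix.mulVec_mulVec, hh b hb, hg b hb]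
  inv_mem' := by
    intro g hg b hb
    have h1 := hg b hb
    have h2 : Matrix.mulVec ((g⁻¹ : Matrix.GeneralLinearGroup ι (ZMod 2)) : Matrix ι ι (ZMod 2))
        (Matrix.mulVec (g : Matrix ι ι (ZMod 2)) b) = b := by
      rw [Matrix.mulVec_mulVec, ← Units.val_mul, inv_mul_cancel]
      simp
    rw [h1] at h2
    exact h2

theorem mem_fixL (l : List (ι → ZMod 2)) (g : Matrix.GeneralLinearGroup ι (ZMod 2)) :
    g ∈ fixL l ↔ ∀ b ∈ l, Matrix.mulVec (g : Matrix ι ι (ZMod 2)) b = b := Iff.rfl

theorem fixL_nil : fixL ([] : List (ι → ZMod 2)) = ⊤ := by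
  ext g
  simp [mem_fixL]

/-- one step of the chain: a list of elements of the stabiliser of `l` in `H` carrying `x` to
different vectors. -/
theorem card_step (H : Subgroup (Matrix.GeneralLinearGroup ι (ZMod 2))) (l : List (ι → ZMod 2))
    (x : ι → ZMod 2) (Ms : List (Matrix ι ι (ZMod 2)))
    (hM : ∀ M ∈ Ms, ∃ g ∈ H ⊓ fixL l, (g : Matrix ι ι (ZMod 2)) = M)
    (hnd : (Ms.map (fun M => Matrix.mulVec M x)).Nodup) :
    Ms.length * Nat.card ↥(H ⊓ fixL (x :: l)) ≤ Nat.card ↥(H ⊓ fixL l) := by
  classical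
  choose! γ hγ using hM
  have hle : H ⊓ fixL (x :: l) ≤ H ⊓ fixL l := by
    intro g hg
    refine ⟨hg.1, fun b hb => hg.2 b (List.mem_cons_of_mem _ hb)⟩
  let φ : Fin Ms.length × ↥(H ⊓ fixL (x :: l)) → ↥(H ⊓ fixL l) := fun p =>
    ⟨γ (Ms.get p.1) * (p.2 : Matrix.GeneralLinearGroup ι (ZMod 2)),
      Subgroup.mul_mem _ (hγ _ (List.get_mem _ _)).1 (hle p.2.2)⟩
  have hφ : Function.Injective φ := by
    rintro ⟨i, b⟩ ⟨j, c⟩ h
    have h1 : γ (Ms.get i) * (b : Matrix.GeneralLinearGroup ι (ZMod 2)) =
        γ (Ms.get j) * (c : Matrix.GeneralLinearGroup ι (ZMod 2)) := congrArg Subtype.val h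
    have hb : Matrix.mulVec ((b : Matrix.GeneralLinearGroup ι (ZMod 2)) : Matrix ι ι (ZMod 2)) x = x :=
      b.2.2 x List.mem_cons_self
    have hc : Matrix.mulVec ((c : Matrix.GeneralLinearGroup ι (ZMod 2)) : Matrix ι ι (ZMod 2)) x = x :=
      c.2.2 x List.mem_cons_self
    have h2 : Matrix.mulVec (Ms.get i) x = Matrix.mulVec (Ms.get j) x := by
      have h3 := congrArg (fun g : Matrix.GeneralLinearGroup ι (ZMod 2) =>
        Matrix.mulVec (g : Matrix ι ι (ZMod 2)) x) h1
      simp only [Units.val_mul, ← Matrix.mulVec_mulVec, hb, hc] at h3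
      rw [(hγ _ (List.get_mem _ _)).2, (hγ _ (List.get_mem _ _)).2] at h3
      exact h3
    have hij : i = j := by
      have h4 := List.nodup_iff_injective_get.mp hnd
      have h5 : (Ms.map (fun M => Matrix.mulVec M x)).get ⟨i, by simp⟩ =
          (Ms.map (fun M => Matrix.mulVec M x)).get ⟨j, by simp⟩ := by
        simp only [List.get_eq_getElem, List.getElem_map]
        exact h2
      have h6 := h4 h5
      exact Fin.ext (Fin.mk.inj h6)
    subst hij
    have h7 : (b : Matrix.GeneralLinearGroup ι (ZMod 2)) = c := mul_left_cancel h1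
    rw [Prod.mk.injEq]
    exact ⟨rfl, Subtype.ext h7⟩
  have h8 := Nat.card_le_card_of_injective φ hφ
  rw [Nat.card_prod, Nat.card_fin] at h8
  exact h8

/-! ### straight-line programs -/

/-- a step of a straight-line program: a generator, a product of two earlier entries, or the
inverse of an earlier entry. -/
inductive Step
  | gen (i : ℕ)
  | mul (i j : ℕ)
  | inv (i : ℕ)
  deriving DecidableEq

/-- the check of one entry of a program. -/
def okStep (n : ℕ) (gens : List (List ℕ)) (C : List (List ℕ)) (k : ℕ) : Step → Bool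
  | Step.gen i => decide (i < gens.length) && decide (C.getD k [] = gens.getD i [])
  | Step.mul i j => decide (i < k) && decide (j < k) &&
      decide (C.getD k [] = mulCode n (C.getD i []) (C.getD j []))
  | Step.inv i => decide (i < k) && decide (mulCode n (C.getD k []) (C.getD i []) = idCode n)

/-- the check of a program. -/
def okProg (n : ℕ) (gens : List (List ℕ)) (C : List (List ℕ)) (S : List Step) : Bool :=
  decide (S.length = C.length) &&
    (List.range C.length).all (fun k => okStep n gens C k (S.getD k (Step.gen 0)))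

theorem prog_sound (e : ι ≃ Fin n) (H : Subgroup (Matrix.GeneralLinearGroup ι (ZMod 2)))
    (gens : List (List ℕ))
    (hgens : ∀ A ∈ gens, ∃ g ∈ H, (g : Matrix ι ι (ZMod 2)) = mat e A)
    (C : List (List ℕ)) (S : List Step) (hok : okProg n gens C S = true) :
    ∀ k, k < C.length → ∃ g ∈ H, (g : Matrix ι ι (ZMod 2)) = mat e (C.getD k []) := by
  unfold okProg at hok
  rw [Bool.and_eq_true, List.all_eq_true] at hok
  obtain ⟨-, hall⟩ := hok
  intro k
  induction k using Nat.strong_induction_on with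
  | _ k ih =>
    intro hk
    have h1 := hall k (List.mem_range.mpr hk)
    generalize S.getD k (Step.gen 0) = s at h1
    cases s with
    | gen i =>
      simp only [okStep, Bool.and_eq_true, decide_eq_true_eq] at h1
      obtain ⟨hi, hC⟩ := h1
      rw [hC]
      apply hgens
      rw [List.getD_eq_getElem _ _ hi]
      exact List.getElem_mem _
    | mul i j =>
      simp only [okStep, Bool.and_eq_true, decide_eq_true_eq] at h1
      obtain ⟨⟨hi, hj⟩, hC⟩ := h1
      obtain ⟨g, hg, hgv⟩ := ih i hi (lt_trans hi hk)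
      obtain ⟨h, hh, hhv⟩ := ih j hj (lt_trans hj hk)
      refine ⟨g * h, H.mul_mem hg hh, ?_⟩
      rw [Units.val_mul, hgv, hhv, mat_mul, ← hC]
    | inv i =>
      simp only [okStep, Bool.and_eq_true, decide_eq_true_eq] at h1
      obtain ⟨hi, hC⟩ := h1
      obtain ⟨g, hg, hgv⟩ := ih i hi (lt_trans hi hk)
      refine ⟨g⁻¹, H.inv_mem hg, ?_⟩
      have h2 : mat e (C.getD k []) * (g : Matrix ι ι (ZMod 2)) = 1 := by
        rw [hgv, mat_mul, hC, mat_id]
      have h3 : (g : Matrix ι ι (ZMod 2)) *
          ((g⁻¹ : Matrix.GeneralLinearGroup ι (ZMod 2)) : Matrix ι ι (ZMod 2)) = 1 := by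
        rw [← Units.val_mul, mul_inv_cancel]
        rfl
      calc ((g⁻¹ : Matrix.GeneralLinearGroup ι (ZMod 2)) : Matrix ι ι (ZMod 2))
          = (mat e (C.getD k []) * (g : Matrix ι ι (ZMod 2))) *
              ((g⁻¹ : Matrix.GeneralLinearGroup ι (ZMod 2)) : Matrix ι ι (ZMod 2)) := by
            rw [h2, one_mul]
        _ = mat e (C.getD k []) := by rw [mul_assoc, h3, mul_one]

/-- the check of one level of the chain: the entries with the indices `idx` fix the vectors with
codes `bs` and carry the vector with code `x` to the vectors with codes `ys`. -/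
def okLevel (n : ℕ) (C : List (List ℕ)) (idx : List ℕ) (bs : List ℕ) (x : ℕ) (ys : List ℕ) :
    Bool :=
  idx.all (fun k => decide (k < C.length) && bs.all (fun b => mulVecCode n (C.getD k []) b == b))
    && decide (idx.map (fun k => mulVecCode n (C.getD k []) x) = ys)
    && ys.all (fun y => decide (y < 2 ^ n)) && decide ys.Nodup

theorem level_step (e : ι ≃ Fin n) (H : Subgroup (Matrix.GeneralLinearGroup ι (ZMod 2)))
    (C : List (List ℕ))
    (hC : ∀ k, k < C.length → ∃ g ∈ H, (g : Matrix ι ι (ZMod 2)) = mat e (C.getD k []))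
    (idx : List ℕ) (bs : List ℕ) (x : ℕ) (ys : List ℕ)
    (hok : okLevel n C idx bs x ys = true) :
    ys.length * Nat.card ↥(H ⊓ fixL (vec e x :: bs.map (vec e))) ≤
      Nat.card ↥(H ⊓ fixL (bs.map (vec e))) := by
  unfold okLevel at hok
  simp only [Bool.and_eq_true, List.all_eq_true, decide_eq_true_eq, beq_iff_eq] at hok
  obtain ⟨⟨⟨h1, h2⟩, h3⟩, h4⟩ := hok
  have hlen : ys.length = (idx.map (fun k => mat e (C.getD k []))).length := by
    rw [← h2]
    simp
  rw [hlen]
  apply card_step
  · intro M hM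
    rw [List.mem_map] at hM
    obtain ⟨k, hk, rfl⟩ := hM
    obtain ⟨hkC, hfix⟩ := h1 k hk
    obtain ⟨g, hg, hgv⟩ := hC k hkC
    refine ⟨g, ⟨hg, ?_⟩, hgv⟩
    intro b hb
    rw [List.mem_map] at hb
    obtain ⟨c, hc, rfl⟩ := hb
    rw [hgv, mat_mulVec, hfix c hc]
  · rw [List.map_map]
    have h5 : (idx.map ((fun M => Matrix.mulVec M (vec e x)) ∘ fun k => mat e (C.getD k []))) =
        ys.map (vec e) := by
      rw [← h2, List.map_map]
      apply List.map_congr_left
      intro k _
      simp only [Function.comp]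
      rw [mat_mulVec]
    rw [h5]
    apply List.Nodup.map_on _ h4
    intro a ha b hb hab
    exact vec_inj e (h3 a ha) (h3 b hb) hab

end Cfsg.Agent.Helper4.F2Chain
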