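import Mathlib
import Cfsg.Prelude.Def_Classical
import Cfsg.Agent.Helper4.F2Chain

set_option autoImplicit false
set_option linter.unusedSectionVars false
set_option linter.style.haveILetI false

/-!
Vanishing of the first cohomology of `Ω(Q)` on the natural module over the field with two
elements, from a certificate: two commutators generating a subgroup of index at most 2 in the
isometry group (a chain of stabilisers), some relators, and the solution of the linear equations
they give.
-/

namespace Cfsg.Agent.Helper4.F2H1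

open Cfsg.Agent.Helper4.F2Code Cfsg.Agent.Helper4.F2Chain

/-- evaluate a number before using it. -/
def forceNat {α : Type} (x : ℕ) (f : ℕ → α) : α :=
  match x with
  | 0 => f 0
  | k + 1 => f (k + 1)

theorem forceNat_eq {α : Type} (x : ℕ) (f : ℕ → α) : forceNat x f = f x := by
  cases x <;> rfl

/-- a subgroup of index at most two contains the commutator subgroup. -/
theorem commutator_le_of_card {X : Type*} [Group X] [Finite X] (K : Subgroup X)
    (h : Nat.card X ≤ 2 * Nat.card K) : _root_.commutator X ≤ K := by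
  have h1 := K.card_mul_index
  have hpos : 0 < Nat.card K := Nat.card_pos
  have hidx : K.index ≤ 2 := by
    by_contra hc
    push Not at hc
    have : 3 * Nat.card K ≤ Nat.card K * K.index := by
      rw [mul_comm]
      exact Nat.mul_le_mul_left _ hc
    omega
  have hne : K.index ≠ 0 := Subgroup.index_ne_zero_of_finite
  interval_cases hk : K.index
  · exact absurd rfl hne
  · rw [Subgroup.index_eq_one] at hk
    rw [hk]
    exact le_top
  · haveI : K.Normal := Subgroup.normal_of_index_eq_two hk
    rw [← Subgroup.Normal.quotient_commutative_iff_commutator_le]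
    have hc : Nat.card (X ⧸ K) = 2 := hk
    haveI : Fact (Nat.Prime 2) := ⟨Nat.prime_two⟩
    haveI := isCyclic_of_prime_card hc
    exact ⟨⟨fun a b => IsCyclic.commGroup.mul_comm a b⟩⟩

/-! ### the chain -/

/-- the check of the levels of a chain. -/
def okChain (n : ℕ) (C : List (List ℕ)) : List ℕ → List (List ℕ × ℕ × List ℕ) → Bool
  | _, [] => true
  | bs, (idx, x, ys) :: rest => okLevel n C idx bs x ys && okChain n C (x :: bs) rest

/-- the product of the lengths of the orbits of a chain. -/
def chainProd : List (List ℕ × ℕ × List ℕ) → ℕ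
  | [] => 1
  | (_, _, ys) :: rest => ys.length * chainProd rest

variable {ι : Type} [Fintype ι] [DecidableEq ι] {n : ℕ}

theorem chain_bound (e : ι ≃ Fin n) (H : Subgroup (Matrix.GeneralLinearGroup ι (ZMod 2)))
    (C : List (List ℕ))
    (hC : ∀ k, k < C.length → ∃ g ∈ H, (g : Matrix ι ι (ZMod 2)) = mat e (C.getD k [])) :
    ∀ (levels : List (List ℕ × ℕ × List ℕ)) (bs : List ℕ), okChain n C bs levels = true →
      chainProd levels ≤ Nat.card ↥(H ⊓ fixL (bs.map (vec e))) := by
  intro levels
  induction levels with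
  | nil =>
    intro bs _
    exact Nat.card_pos
  | cons lv rest ih =>
    intro bs h
    obtain ⟨idx, x, ys⟩ := lv
    simp only [okChain, Bool.and_eq_true] at h
    have h1 := level_step e H C hC idx bs x ys h.1
    have h2 := ih (x :: bs) h.2
    rw [List.map_cons] at h2
    calc chainProd ((idx, x, ys) :: rest) = ys.length * chainProd rest := rfl
      _ ≤ ys.length * Nat.card ↥(H ⊓ fixL (vec e x :: bs.map (vec e))) :=
          Nat.mul_le_mul_left _ h2
      _ ≤ _ := h1

/-! ### the coded cocycles -/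

/-- the strict product of a matrix and a vector. -/
def sMulVec (n : ℕ) (A : List ℕ) (c : ℕ) : ℕ := forceNat c (mulVecCode n A)

theorem sMulVec_eq (n : ℕ) (A : List ℕ) (c : ℕ) : sMulVec n A c = mulVecCode n A c :=
  forceNat_eq _ _

/-- the choice of one of the two generators. -/
def gsel {α : Type} (x0 x1 : α) (i : Fin 2) : α := if i = 0 then x0 else x1

/-- the image of a coded vector under a word in the two generators. -/
def evVec (n : ℕ) (S0 S1 : List ℕ) : List (Fin 2) → ℕ → ℕ
  | [], c => c
  | i :: w, c => sMulVec n (gsel S0 S1 i) (evVec n S0 S1 w c)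

/-- the value at a word of the cocycle with the coded values `α0`, `α1` at the generators. -/
def foxCode (n : ℕ) (S0 S1 : List ℕ) (α0 α1 : ℕ) : List (Fin 2) → ℕ
  | [] => 0
  | i :: w => forceNat (foxCode n S0 S1 α0 α1 w)
      (fun acc => gsel α0 α1 i ^^^ mulVecCode n (gsel S0 S1 i) acc)

theorem foxCode_cons (n : ℕ) (S0 S1 : List ℕ) (α0 α1 : ℕ) (i : Fin 2) (w : List (Fin 2)) :
    foxCode n S0 S1 α0 α1 (i :: w) =
      gsel α0 α1 i ^^^ mulVecCode n (gsel S0 S1 i) (foxCode n S0 S1 α0 α1 w) := by
  rw [foxCode, forceNat_eq]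

theorem foxCode_zero_letters (n : ℕ) (S0 S1 : List ℕ) (α0 α1 : ℕ) (w : List (Fin 2))
    (hw : ∀ i ∈ w, i = 0) : foxCode n S0 S1 α0 α1 w = foxCode n S0 S1 α0 0 w := by
  induction w with
  | nil => rfl
  | cons i w ih =>
    have hi : i = 0 := hw i List.mem_cons_self
    subst hi
    rw [foxCode_cons, foxCode_cons, ih (fun j hj => hw j (List.mem_cons_of_mem _ hj))]
    rfl

/-- all the relators of a list give zero. -/
def relsZero (n : ℕ) (S0 S1 : List ℕ) (rs : List (List (Fin 2))) (α0 α1 : ℕ) : Bool :=
  rs.all (fun w => foxCode n S0 S1 α0 α1 w % 2 ^ n == 0)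

/-- the final check: each solution of the equations of the relators is a coboundary. -/
def finChk (n : ℕ) (S0 S1 L0 L1 : List ℕ) (rels0 rels : List (List (Fin 2))) : Bool :=
  (List.range (2 ^ n)).all fun α0 => !(relsZero n S0 S1 rels0 α0 0) ||
    (List.range (2 ^ n)).all fun α1 => !(relsZero n S0 S1 rels α0 α1) ||
      forceNat (mulVecCode n L0 α0 ^^^ mulVecCode n L1 α1) fun β =>
        ((mulVecCode n S0 β ^^^ β) % 2 ^ n == α0) && ((mulVecCode n S1 β ^^^ β) % 2 ^ n == α1)

theorem finChk_sound (n : ℕ) (S0 S1 L0 L1 : List ℕ) (rels0 rels : List (List (Fin 2)))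
    (hrels0 : ∀ w ∈ rels0, w ∈ rels ∧ ∀ i ∈ w, i = 0)
    (h : finChk n S0 S1 L0 L1 rels0 rels = true) (α0 α1 : ℕ) (h0 : α0 < 2 ^ n) (h1 : α1 < 2 ^ n)
    (hz : ∀ w ∈ rels, foxCode n S0 S1 α0 α1 w % 2 ^ n = 0) :
    ∃ β, (mulVecCode n S0 β ^^^ β) % 2 ^ n = α0 ∧ (mulVecCode n S1 β ^^^ β) % 2 ^ n = α1 := by
  unfold finChk at h
  rw [List.all_eq_true] at h
  have h2 := h α0 (List.mem_range.mpr h0)
  have h3 : relsZero n S0 S1 rels0 α0 0 = true := by
    unfold relsZero
    rw [List.all_eq_true]
    intro w hw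
    rw [beq_iff_eq, ← foxCode_zero_letters n S0 S1 α0 α1 w (hrels0 w hw).2]
    exact hz w (hrels0 w hw).1
  rw [h3, Bool.not_true, Bool.false_or, List.all_eq_true] at h2
  have h4 := h2 α1 (List.mem_range.mpr h1)
  have h5 : relsZero n S0 S1 rels α0 α1 = true := by
    unfold relsZero
    rw [List.all_eq_true]
    intro w hw
    rw [beq_iff_eq]
    exact hz w hw
  rw [h5, Bool.not_true, Bool.false_or, forceNat_eq, Bool.and_eq_true, beq_iff_eq, beq_iff_eq] at h4
  exact ⟨_, h4⟩

theorem vec_mod (e : ι ≃ Fin n) (c : ℕ) : vec e (c % 2 ^ n) = vec e c := by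
  funext i
  show F2Code.bit _ _ = F2Code.bit _ _
  unfold F2Code.bit
  rw [Nat.testBit_mod_two_pow]
  simp [(e i).isLt]

theorem mod_eq_zero_of_vec (e : ι ≃ Fin n) (c : ℕ) (h : vec e c = 0) : c % 2 ^ n = 0 := by
  have h1 : vec e (c % 2 ^ n) = vec e 0 := by rw [vec_mod, h, vec_zero]
  exact vec_inj e (Nat.mod_lt _ (by positivity)) (by positivity) h1

end Cfsg.Agent.Helper4.F2H1
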