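import Mathlib
import Cfsg.Prelude.Def_Classical
import Cfsg.Agent.Helper4.F2H1

set_option autoImplicit false
set_option linter.unusedSectionVars false
set_option linter.style.haveILetI false

/-!
The main theorem: the certificate gives the vanishing of the first cohomology.
-/

namespace Cfsg.Agent.Helper4.F2H1

open Cfsg.Agent.Helper4.F2Code Cfsg.Agent.Helper4.F2Chain
open scoped commutatorElement

variable {ι : Type} [Fintype ι] [DecidableEq ι] {n : ℕ}

/-! ### crossed homomorphisms -/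

section Crossed

variable {X : Type*} [Group X] (ρ : X →* Matrix ι ι (ZMod 2)) (f : X → ι → ZMod 2)

theorem crossed_one (hf : ∀ g h, f (g * h) = f g + Matrix.mulVec (ρ g) (f h)) : f 1 = 0 := by
  have h := hf 1 1
  rw [mul_one, map_one, Matrix.one_mulVec] at h
  exact left_eq_add.mp h

/-- the elements where the cocycle is the coboundary of `v`. -/
def cobSub (hf : ∀ g h, f (g * h) = f g + Matrix.mulVec (ρ g) (f h)) (v : ι → ZMod 2) :
    Subgroup X where
  carrier := {g | f g = Matrix.mulVec (ρ g) v - v}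
  one_mem' := by
    show f 1 = _
    rw [crossed_one ρ f hf, map_one, Matrix.one_mulVec, sub_self]
  mul_mem' := by
    intro g h hg hh
    show f (g * h) = _
    rw [hf, show f g = _ from hg, show f h = _ from hh, map_mul, Matrix.mulVec_sub,
      Matrix.mulVec_mulVec]
    abel
  inv_mem' := by
    intro g hg
    show f g⁻¹ = _
    have h1 := hf g⁻¹ g
    rw [inv_mul_cancel, crossed_one ρ f hf, show f g = _ from hg, Matrix.mulVec_sub,
      Matrix.mulVec_mulVec, ← map_mul, inv_mul_cancel, map_one, Matrix.one_mulVec] at h1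
    have h2 : f g⁻¹ = -(v - Matrix.mulVec (ρ g⁻¹) v) := eq_neg_of_add_eq_zero_left h1.symm
    rw [h2]
    abel

theorem fox_eval (hf : ∀ g h, f (g * h) = f g + Matrix.mulVec (ρ g) (f h)) (σ : Fin 2 → X)
    (e : ι ≃ Fin n) (S0 S1 : List ℕ) (α0 α1 : ℕ)
    (hρ : ∀ i, ρ (σ i) = mat e (gsel S0 S1 i)) (hα : ∀ i, f (σ i) = vec e (gsel α0 α1 i))
    (w : List (Fin 2)) : f (w.map σ).prod = vec e (foxCode n S0 S1 α0 α1 w) := by
  induction w with
  | nil =>
    rw [List.map_nil, List.prod_nil, crossed_one ρ f hf]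
    exact (vec_zero e).symm
  | cons i w ih =>
    rw [List.map_cons, List.prod_cons, hf, ih, foxCode_cons, vec_xor, hα, hρ, mat_mulVec]

theorem ev_eval (σ : Fin 2 → X) (e : ι ≃ Fin n) (S0 S1 : List ℕ)
    (hρ : ∀ i, ρ (σ i) = mat e (gsel S0 S1 i)) (w : List (Fin 2)) (c : ℕ) :
    Matrix.mulVec (ρ (w.map σ).prod) (vec e c) = vec e (evVec n S0 S1 w c) := by
  induction w with
  | nil =>
    rw [List.map_nil, List.prod_nil, map_one, Matrix.one_mulVec]
    rfl
  | cons i w ih =>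
    rw [List.map_cons, List.prod_cons, map_mul, ← Matrix.mulVec_mulVec, ih, hρ, mat_mulVec]
    show _ = vec e (sMulVec n (gsel S0 S1 i) (evVec n S0 S1 w c))
    rw [sMulVec_eq]

end Crossed

theorem sub_eq_add_two (a b : ι → ZMod 2) : a - b = a + b := by
  funext i
  have : ∀ x y : ZMod 2, x - y = x + y := by decide
  exact this _ _

/-- the main theorem. -/
theorem main (e : ι ≃ Fin n) (Q : (ι → ZMod 2) → ZMod 2) (N : ℕ)
    (hcard : Nat.card ↥(Cfsg.isometryGroup (ZMod 2) Q) ≤ 2 * N)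
    (A0 A0' B0 B0' A1 A1' B1 B1' S0 S1 : List ℕ)
    (hA0 : mulCode n A0 A0' = idCode n) (hA0' : mulCode n A0' A0 = idCode n)
    (hB0 : mulCode n B0 B0' = idCode n) (hB0' : mulCode n B0' B0 = idCode n)
    (hA1 : mulCode n A1 A1' = idCode n) (hA1' : mulCode n A1' A1 = idCode n)
    (hB1 : mulCode n B1 B1' = idCode n) (hB1' : mulCode n B1' B1 = idCode n)
    (hiso : ∀ A ∈ [A0, B0, A1, B1], ∀ c, c < 2 ^ n →
      Q (vec e (mulVecCode n A c)) = Q (vec e c))
    (hS0 : mulCode n (mulCode n (mulCode n A0 B0) A0') B0' = S0)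
    (hS1 : mulCode n (mulCode n (mulCode n A1 B1) A1') B1' = S1)
    (C : List (List ℕ)) (St : List Step) (hprog : okProg n [S0, S1] C St = true)
    (levels : List (List ℕ × ℕ × List ℕ)) (hchain : okChain n C [] levels = true)
    (hN : N ≤ chainProd levels)
    (L0 L1 : List ℕ) (rels0 rels : List (List (Fin 2)))
    (hrels0 : ∀ w ∈ rels0, w ∈ rels ∧ ∀ i ∈ w, i = 0)
    (hrels : ∀ w ∈ rels, ∀ c, c < 2 ^ n → evVec n S0 S1 w c = c)
    (hfin : finChk n S0 S1 L0 L1 rels0 rels = true)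
    (f : ↥(Cfsg.Omega (ZMod 2) Q) → (ι → ZMod 2))
    (hf : ∀ g h : ↥(Cfsg.Omega (ZMod 2) Q), f (g * h) = f g + Matrix.mulVec
      (((g : ↥(Cfsg.isometryGroup (ZMod 2) Q)) : Matrix.GeneralLinearGroup ι (ZMod 2)) :
        Matrix ι ι (ZMod 2)) (f h)) :
    ∃ v : ι → ZMod 2, ∀ g : ↥(Cfsg.Omega (ZMod 2) Q), f g = Matrix.mulVec
      (((g : ↥(Cfsg.isometryGroup (ZMod 2) Q)) : Matrix.GeneralLinearGroup ι (ZMod 2)) :
        Matrix ι ι (ZMod 2)) v - v := by
  classical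
  -- membership in the isometry group
  have memO : ∀ (A A' : List ℕ) (h1 : mulCode n A A' = idCode n)
      (h2 : mulCode n A' A = idCode n),
      (∀ c, c < 2 ^ n → Q (vec e (mulVecCode n A c)) = Q (vec e c)) →
      unitOf e A A' h1 h2 ∈ Cfsg.isometryGroup (ZMod 2) Q := by
    intro A A' h1 h2 h u _
    obtain ⟨c, hc, rfl⟩ := vec_surj e u
    show Q (Matrix.mulVec (mat e A) (vec e c)) = Q (vec e c)
    rw [mat_mulVec]
    exact h c hc
  let a0 : ↥(Cfsg.isometryGroup (ZMod 2) Q) :=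
    ⟨unitOf e A0 A0' hA0 hA0', memO _ _ _ _ (hiso A0 (by simp))⟩
  let b0 : ↥(Cfsg.isometryGroup (ZMod 2) Q) :=
    ⟨unitOf e B0 B0' hB0 hB0', memO _ _ _ _ (hiso B0 (by simp))⟩
  let a1 : ↥(Cfsg.isometryGroup (ZMod 2) Q) :=
    ⟨unitOf e A1 A1' hA1 hA1', memO _ _ _ _ (hiso A1 (by simp))⟩
  let b1 : ↥(Cfsg.isometryGroup (ZMod 2) Q) :=
    ⟨unitOf e B1 B1' hB1 hB1', memO _ _ _ _ (hiso B1 (by simp))⟩
  have hcomm : ∀ (A A' B B' : List ℕ) (h1 h2 h3 h4) (ha hb),
      (((⁅(⟨unitOf e A A' h1 h2, ha⟩ : ↥(Cfsg.isometryGroup (ZMod 2) Q)),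
        (⟨unitOf e B B' h3 h4, hb⟩ : ↥(Cfsg.isometryGroup (ZMod 2) Q))⁆ :
          ↥(Cfsg.isometryGroup (ZMod 2) Q)) : Matrix.GeneralLinearGroup ι (ZMod 2)) :
            Matrix ι ι (ZMod 2)) = mat e (mulCode n (mulCode n (mulCode n A B) A') B') := by
    intro A A' B B' h1 h2 h3 h4 ha hb
    rw [commutatorElement_def]
    simp only [Subgroup.coe_mul, Subgroup.coe_inv, Units.val_mul, unitOf_val, unitOf_inv_val,
      mat_mul]
  let s : Fin 2 → ↥(Cfsg.isometryGroup (ZMod 2) Q) := fun i => gsel ⁅a0, b0⁆ ⁅a1, b1⁆ i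
  have hsv : ∀ i, (((s i : ↥(Cfsg.isometryGroup (ZMod 2) Q)) :
      Matrix.GeneralLinearGroup ι (ZMod 2)) : Matrix ι ι (ZMod 2)) = mat e (gsel S0 S1 i) := by
    intro i
    fin_cases i
    · show (((⁅a0, b0⁆ : ↥(Cfsg.isometryGroup (ZMod 2) Q)) :
        Matrix.GeneralLinearGroup ι (ZMod 2)) : Matrix ι ι (ZMod 2)) = mat e S0
      rw [hcomm, hS0]
    · show (((⁅a1, b1⁆ : ↥(Cfsg.isometryGroup (ZMod 2) Q)) :
        Matrix.GeneralLinearGroup ι (ZMod 2)) : Matrix ι ι (ZMod 2)) = mat e S1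
      rw [hcomm, hS1]
  have hsΩ : ∀ i, s i ∈ Cfsg.Omega (ZMod 2) Q := by
    intro i
    fin_cases i
    · exact Subgroup.commutator_mem_commutator (Subgroup.mem_top _) (Subgroup.mem_top _)
    · exact Subgroup.commutator_mem_commutator (Subgroup.mem_top _) (Subgroup.mem_top _)
  -- the subgroup generated
  let K' : Subgroup ↥(Cfsg.isometryGroup (ZMod 2) Q) := Subgroup.closure (Set.range s)
  have hK'Ω : K' ≤ Cfsg.Omega (ZMod 2) Q := by
    rw [Subgroup.closure_le]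
    rintro _ ⟨i, rfl⟩
    exact hsΩ i
  let KG : Subgroup (Matrix.GeneralLinearGroup ι (ZMod 2)) :=
    K'.map (Cfsg.isometryGroup (ZMod 2) Q).subtype
  have hgens : ∀ A ∈ [S0, S1], ∃ g ∈ KG, (g : Matrix ι ι (ZMod 2)) = mat e A := by
    intro A hA
    simp only [List.mem_cons, List.not_mem_nil, or_false] at hA
    rcases hA with rfl | rfl
    · exact ⟨_, ⟨s 0, Subgroup.subset_closure ⟨0, rfl⟩, rfl⟩, hsv 0⟩
    · exact ⟨_, ⟨s 1, Subgroup.subset_closure ⟨1, rfl⟩, rfl⟩, hsv 1⟩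
  have hC := prog_sound e KG [S0, S1] hgens C St hprog
  have hbound := chain_bound e KG C hC levels [] hchain
  have hKG : Nat.card ↥(KG ⊓ fixL (([] : List ℕ).map (vec e))) = Nat.card ↥K' := by
    rw [List.map_nil, fixL_nil, inf_top_eq]
    exact Subgroup.card_map_of_injective (Subgroup.subtype_injective _)
  rw [hKG] at hbound
  have hΩK : Cfsg.Omega (ZMod 2) Q ≤ K' := by
    apply commutator_le_of_card
    calc Nat.card ↥(Cfsg.isometryGroup (ZMod 2) Q) ≤ 2 * N := hcard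
      _ ≤ 2 * Nat.card ↥K' := Nat.mul_le_mul_left _ (hN.trans hbound)
  -- the cocycle
  let ρ : ↥(Cfsg.Omega (ZMod 2) Q) →* Matrix ι ι (ZMod 2) :=
    (Units.coeHom (Matrix ι ι (ZMod 2))).comp
      ((Cfsg.isometryGroup (ZMod 2) Q).subtype.comp (Cfsg.Omega (ZMod 2) Q).subtype)
  have hρ : ∀ g : ↥(Cfsg.Omega (ZMod 2) Q), ρ g =
      (((g : ↥(Cfsg.isometryGroup (ZMod 2) Q)) : Matrix.GeneralLinearGroup ι (ZMod 2)) :
        Matrix ι ι (ZMod 2)) := fun g => rfl
  have hf' : ∀ g h, f (g * h) = f g + Matrix.mulVec (ρ g) (f h) := hf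
  let σ : Fin 2 → ↥(Cfsg.Omega (ZMod 2) Q) := fun i => ⟨s i, hsΩ i⟩
  have hρσ : ∀ i, ρ (σ i) = mat e (gsel S0 S1 i) := fun i => hsv i
  obtain ⟨α0, hα0, hα0v⟩ := vec_surj e (f (σ 0))
  obtain ⟨α1, hα1, hα1v⟩ := vec_surj e (f (σ 1))
  have hα : ∀ i, f (σ i) = vec e (gsel α0 α1 i) := by
    intro i
    fin_cases i
    · exact hα0v.symm
    · exact hα1v.symm
  have hz : ∀ w ∈ rels, foxCode n S0 S1 α0 α1 w % 2 ^ n = 0 := by
    intro w hw
    apply mod_eq_zero_of_vec e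
    rw [← fox_eval ρ f hf' σ e S0 S1 α0 α1 hρσ hα w]
    have h1 : (w.map σ).prod = 1 := by
      have h2 : ρ (w.map σ).prod = 1 := by
        apply Matrix.toLin'.injective
        apply LinearMap.ext
        intro u
        obtain ⟨c, hc, rfl⟩ := vec_surj e u
        rw [Matrix.toLin'_apply, ev_eval ρ σ e S0 S1 hρσ w c, hrels w hw c hc]
        simp
      apply Subtype.ext
      apply Subtype.ext
      apply Units.ext
      exact h2
    rw [h1]
    exact crossed_one ρ f hf'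
  obtain ⟨β, hβ0, hβ1⟩ := finChk_sound n S0 S1 L0 L1 rels0 rels hrels0 hfin α0 α1 hα0 hα1 hz
  refine ⟨vec e β, ?_⟩
  have hgen : ∀ i, σ i ∈ cobSub ρ f hf' (vec e β) := by
    intro i
    show f (σ i) = Matrix.mulVec (ρ (σ i)) (vec e β) - vec e β
    rw [hρσ, mat_mulVec, sub_eq_add_two, ← vec_xor, hα]
    fin_cases i
    · show vec e α0 = vec e (mulVecCode n S0 β ^^^ β)
      rw [← hβ0, vec_mod]
    · show vec e α1 = vec e (mulVecCode n S1 β ^^^ β)
      rw [← hβ1, vec_mod]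
  intro g
  have hgK : (g : ↥(Cfsg.isometryGroup (ZMod 2) Q)) ∈ K' := hΩK g.2
  have key : ∀ x ∈ K', ∀ hx : x ∈ Cfsg.Omega (ZMod 2) Q,
      (⟨x, hx⟩ : ↥(Cfsg.Omega (ZMod 2) Q)) ∈ cobSub ρ f hf' (vec e β) := by
    intro x hxK
    induction hxK using Subgroup.closure_induction with
    | mem x hx =>
      intro hxΩ
      obtain ⟨i, rfl⟩ := hx
      exact hgen i
    | one =>
      intro _
      exact Subgroup.one_mem _
    | mul x y hx hy ihx ihy =>
      intro _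
      have hxΩ := hK'Ω hx
      have hyΩ := hK'Ω hy
      exact Subgroup.mul_mem _ (ihx hxΩ) (ihy hyΩ)
    | inv x hx ihx =>
      intro _
      have hxΩ := hK'Ω hx
      exact Subgroup.inv_mem _ (ihx hxΩ)
  exact key _ hgK g.2

end Cfsg.Agent.Helper4.F2H1
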