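import Cfsg.Agent.Helper4.F42CJu0
import Cfsg.Agent.Helper4.F42CJu1
import Cfsg.Agent.Helper4.F42CJu2
import Cfsg.Agent.Helper4.F42CJu3
import Cfsg.Agent.Helper4.F42CJu4
import Cfsg.Agent.Helper4.F42CJu5
import Cfsg.Agent.Helper4.F42CJu6
import Cfsg.Agent.Helper4.F42CJu7
import Cfsg.Agent.Helper4.F42CJu8
import Cfsg.Agent.Helper4.F42CJu9
import Cfsg.Agent.Helper4.F42CJu10
import Cfsg.Agent.Helper4.F42CJu11
import Cfsg.Agent.Helper4.F42CJu12
import Cfsg.Agent.Helper4.F42CJu13
import Cfsg.Agent.Helper4.F42CJu14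
import Cfsg.Agent.Helper4.F42CJu15
import Cfsg.Agent.Helper4.F42CJu16
import Cfsg.Agent.Helper4.F42CJu17
import Cfsg.Agent.Helper4.F42CJu18
import Cfsg.Agent.Helper4.F42CJu19
import Cfsg.Agent.Helper4.F42CJu20
import Cfsg.Agent.Helper4.F42CJu21
import Cfsg.Agent.Helper4.F42CJu22
import Cfsg.Agent.Helper4.F42CJu23
import Cfsg.Agent.Helper4.F42CJu24
import Cfsg.Agent.Helper4.F42CJu25
import Cfsg.Agent.Helper4.F42CJu26
import Cfsg.Agent.Helper4.F42CJu27
import Cfsg.Agent.Helper4.F42CJu28
import Cfsg.Agent.Helper4.F42CJu29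
import Cfsg.Agent.Helper4.F42CJu30
import Cfsg.Agent.Helper4.F42CJu31
import Cfsg.Agent.Helper4.F42CJu32
import Cfsg.Agent.Helper4.F42CJu33
import Cfsg.Agent.Helper4.F42CJu34
import Cfsg.Agent.Helper4.F42CJu35
import Cfsg.Agent.Helper4.F42CJu36
import Cfsg.Agent.Helper4.F42CJu37
import Cfsg.Agent.Helper4.F42CJu38
import Cfsg.Agent.Helper4.F42CJu39
import Cfsg.Agent.Helper4.F42CJu40
import Cfsg.Agent.Helper4.F42CJu41
import Cfsg.Agent.Helper4.F42CJu42
import Cfsg.Agent.Helper4.F42CJu43
import Cfsg.Agent.Helper4.F42CJu44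
import Cfsg.Agent.Helper4.F42CJu45
import Cfsg.Agent.Helper4.F42CJu46
import Cfsg.Agent.Helper4.F42CJu47
import Cfsg.Agent.Helper4.F42CJu48
import Cfsg.Agent.Helper4.F42CJu49
import Cfsg.Agent.Helper4.F42CJu50
import Cfsg.Agent.Helper4.F42CJu51
import Cfsg.Agent.Helper4.F42CJu52
import Cfsg.Agent.Helper4.F42CJu53
import Cfsg.Agent.Helper4.F42CJu54
import Cfsg.Agent.Helper4.F42CJu55
import Cfsg.Agent.Helper4.F42CJu56
import Cfsg.Agent.Helper4.F42CJu57
import Cfsg.Agent.Helper4.F42CJu58
import Cfsg.Agent.Helper4.F42CJu59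
import Cfsg.Agent.Helper4.F42CJu60
import Cfsg.Agent.Helper4.F42CJu61
import Cfsg.Agent.Helper4.F42CJu62
import Cfsg.Agent.Helper4.F42CJu63
import Cfsg.Agent.Helper4.F42CJu64
import Cfsg.Agent.Helper4.F42CJu65
import Cfsg.Agent.Helper4.F42CJu66
import Cfsg.Agent.Helper4.F42CJu67
import Cfsg.Agent.Helper4.F42CJu68
import Cfsg.Agent.Helper4.F42CJu69
import Cfsg.Agent.Helper4.F42CJu70
import Cfsg.Agent.Helper4.F42CJu71
import Cfsg.Agent.Helper4.F42CJu72
import Cfsg.Agent.Helper4.F42CJu73
import Cfsg.Agent.Helper4.F42CJu74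
import Cfsg.Agent.Helper4.F42CJu75
import Cfsg.Agent.Helper4.F42CJu76
import Cfsg.Agent.Helper4.F42CJu77
import Cfsg.Agent.Helper4.F42CJu78
import Cfsg.Agent.Helper4.F42CJu79
import Cfsg.Agent.Helper4.F42CJu80
import Cfsg.Agent.Helper4.F42CJu81
import Cfsg.Agent.Helper4.F42CJu82
import Cfsg.Agent.Helper4.F42CJu83
import Cfsg.Agent.Helper4.F42CJu84
import Cfsg.Agent.Helper4.F42CJu85
import Cfsg.Agent.Helper4.F42CJu86
import Cfsg.Agent.Helper4.F42CJu87
import Cfsg.Agent.Helper4.F42CJu88
import Cfsg.Agent.Helper4.F42CJu89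
import Cfsg.Agent.Helper4.F42CJu90
import Cfsg.Agent.Helper4.F42CJu91
import Cfsg.Agent.Helper4.F42CJu92
import Cfsg.Agent.Helper4.F42CJu93
import Cfsg.Agent.Helper4.F42CJu94
import Cfsg.Agent.Helper4.F42CJu95
import Cfsg.Agent.Helper4.F42CJu96
import Cfsg.Agent.Helper4.F42CJu97
import Cfsg.Agent.Helper4.F42CJu98
import Cfsg.Agent.Helper4.F42CJu99
import Cfsg.Agent.Helper4.F42CJu100
import Cfsg.Agent.Helper4.F42CJu101
import Cfsg.Agent.Helper4.F42CJu102
import Cfsg.Agent.Helper4.F42CJu103
import Cfsg.Agent.Helper4.F42CJu104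
import Cfsg.Agent.Helper4.F42CJu105
import Cfsg.Agent.Helper4.F42CJu106
import Cfsg.Agent.Helper4.F42CJu107
import Cfsg.Agent.Helper4.F42CJu108
import Cfsg.Agent.Helper4.F42CJu109
import Cfsg.Agent.Helper4.F42CJu110
import Cfsg.Agent.Helper4.F42CJu111
import Cfsg.Agent.Helper4.F42CJu112
import Cfsg.Agent.Helper4.F42CJu113
import Cfsg.Agent.Helper4.F42CJu114
import Cfsg.Agent.Helper4.F42CJu115
import Cfsg.Agent.Helper4.F42CJu116
import Cfsg.Agent.Helper4.F42CJu117
import Cfsg.Agent.Helper4.F42CJu118
import Cfsg.Agent.Helper4.F42CJu119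
import Cfsg.Agent.Helper4.F42CJu120
import Cfsg.Agent.Helper4.F42CJu121
import Cfsg.Agent.Helper4.F42CJu122
import Cfsg.Agent.Helper4.F42CJu123
import Cfsg.Agent.Helper4.F42CJu124
import Cfsg.Agent.Helper4.F42CJu125
import Cfsg.Agent.Helper4.F42CJu126
import Cfsg.Agent.Helper4.F42CJu127
import Cfsg.Agent.Helper4.F42CTb0
import Cfsg.Agent.Helper4.F42CTb1
import Cfsg.Agent.Helper4.F42CTb2
import Cfsg.Agent.Helper4.F42CTb3
import Cfsg.Agent.Helper4.F42CTb4
import Cfsg.Agent.Helper4.F42CTb5
import Cfsg.Agent.Helper4.F42CTb6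
import Cfsg.Agent.Helper4.F42CTb7
import Cfsg.Agent.Helper4.F42CTb8
import Cfsg.Agent.Helper4.F42CTb9
import Cfsg.Agent.Helper4.F42CTb10
import Cfsg.Agent.Helper4.F42CTb11
import Cfsg.Agent.Helper4.F42CTb12

/-! generated labelled Todd-Coxeter certificate, summary: F42C -/

set_option autoImplicit false
set_option maxRecDepth 1000000

namespace Cfsg.Agent.Helper4.F42C
open Cfsg.Agent.Helper4.LTV

theorem upto_0 : ∀ j, j < 0 → ∃ r, checkFact cert j r = true := fun j hj => absurd hj (by omega)

theorem upto_1 : ∀ j, j < 4000 → ∃ r, checkFact cert j r = true :=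
  upto_step cert upto_0 ju_0 4000 len_0 chk_0

theorem upto_2 : ∀ j, j < 8000 → ∃ r, checkFact cert j r = true :=
  upto_step cert upto_1 ju_1 4000 len_1 chk_1

theorem upto_3 : ∀ j, j < 12000 → ∃ r, checkFact cert j r = true :=
  upto_step cert upto_2 ju_2 4000 len_2 chk_2

theorem upto_4 : ∀ j, j < 16000 → ∃ r, checkFact cert j r = true :=
  upto_step cert upto_3 ju_3 4000 len_3 chk_3

theorem upto_5 : ∀ j, j < 20000 → ∃ r, checkFact cert j r = true :=
  upto_step cert upto_4 ju_4 4000 len_4 chk_4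

theorem upto_6 : ∀ j, j < 24000 → ∃ r, checkFact cert j r = true :=
  upto_step cert upto_5 ju_5 4000 len_5 chk_5

theorem upto_7 : ∀ j, j < 28000 → ∃ r, checkFact cert j r = true :=
  upto_step cert upto_6 ju_6 4000 len_6 chk_6

theorem upto_8 : ∀ j, j < 32000 → ∃ r, checkFact cert j r = true :=
  upto_step cert upto_7 ju_7 4000 len_7 chk_7

theorem upto_9 : ∀ j, j < 36000 → ∃ r, checkFact cert j r = true :=
  upto_step cert upto_8 ju_8 4000 len_8 chk_8

theorem upto_10 : ∀ j, j < 40000 → ∃ r, checkFact cert j r = true :=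
  upto_step cert upto_9 ju_9 4000 len_9 chk_9

theorem upto_11 : ∀ j, j < 44000 → ∃ r, checkFact cert j r = true :=
  upto_step cert upto_10 ju_10 4000 len_10 chk_10

theorem upto_12 : ∀ j, j < 48000 → ∃ r, checkFact cert j r = true :=
  upto_step cert upto_11 ju_11 4000 len_11 chk_11

theorem upto_13 : ∀ j, j < 52000 → ∃ r, checkFact cert j r = true :=
  upto_step cert upto_12 ju_12 4000 len_12 chk_12

theorem upto_14 : ∀ j, j < 56000 → ∃ r, checkFact cert j r = true :=
  upto_step cert upto_13 ju_13 4000 len_13 chk_13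

theorem upto_15 : ∀ j, j < 60000 → ∃ r, checkFact cert j r = true :=
  upto_step cert upto_14 ju_14 4000 len_14 chk_14

theorem upto_16 : ∀ j, j < 64000 → ∃ r, checkFact cert j r = true :=
  upto_step cert upto_15 ju_15 4000 len_15 chk_15

theorem upto_17 : ∀ j, j < 68000 → ∃ r, checkFact cert j r = true :=
  upto_step cert upto_16 ju_16 4000 len_16 chk_16

theorem upto_18 : ∀ j, j < 72000 → ∃ r, checkFact cert j r = true :=
  upto_step cert upto_17 ju_17 4000 len_17 chk_17

theorem upto_19 : ∀ j, j < 76000 → ∃ r, checkFact cert j r = true :=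
  upto_step cert upto_18 ju_18 4000 len_18 chk_18

theorem upto_20 : ∀ j, j < 80000 → ∃ r, checkFact cert j r = true :=
  upto_step cert upto_19 ju_19 4000 len_19 chk_19

theorem upto_21 : ∀ j, j < 84000 → ∃ r, checkFact cert j r = true :=
  upto_step cert upto_20 ju_20 4000 len_20 chk_20

theorem upto_22 : ∀ j, j < 88000 → ∃ r, checkFact cert j r = true :=
  upto_step cert upto_21 ju_21 4000 len_21 chk_21

theorem upto_23 : ∀ j, j < 92000 → ∃ r, checkFact cert j r = true :=
  upto_step cert upto_22 ju_22 4000 len_22 chk_22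

theorem upto_24 : ∀ j, j < 96000 → ∃ r, checkFact cert j r = true :=
  upto_step cert upto_23 ju_23 4000 len_23 chk_23

theorem upto_25 : ∀ j, j < 100000 → ∃ r, checkFact cert j r = true :=
  upto_step cert upto_24 ju_24 4000 len_24 chk_24

theorem upto_26 : ∀ j, j < 104000 → ∃ r, checkFact cert j r = true :=
  upto_step cert upto_25 ju_25 4000 len_25 chk_25

theorem upto_27 : ∀ j, j < 108000 → ∃ r, checkFact cert j r = true :=
  upto_step cert upto_26 ju_26 4000 len_26 chk_26

theorem upto_28 : ∀ j, j < 112000 → ∃ r, checkFact cert j r = true :=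
  upto_step cert upto_27 ju_27 4000 len_27 chk_27

theorem upto_29 : ∀ j, j < 116000 → ∃ r, checkFact cert j r = true :=
  upto_step cert upto_28 ju_28 4000 len_28 chk_28

theorem upto_30 : ∀ j, j < 120000 → ∃ r, checkFact cert j r = true :=
  upto_step cert upto_29 ju_29 4000 len_29 chk_29

theorem upto_31 : ∀ j, j < 124000 → ∃ r, checkFact cert j r = true :=
  upto_step cert upto_30 ju_30 4000 len_30 chk_30

theorem upto_32 : ∀ j, j < 128000 → ∃ r, checkFact cert j r = true :=
  upto_step cert upto_31 ju_31 4000 len_31 chk_31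

theorem upto_33 : ∀ j, j < 132000 → ∃ r, checkFact cert j r = true :=
  upto_step cert upto_32 ju_32 4000 len_32 chk_32

theorem upto_34 : ∀ j, j < 136000 → ∃ r, checkFact cert j r = true :=
  upto_step cert upto_33 ju_33 4000 len_33 chk_33

theorem upto_35 : ∀ j, j < 140000 → ∃ r, checkFact cert j r = true :=
  upto_step cert upto_34 ju_34 4000 len_34 chk_34

theorem upto_36 : ∀ j, j < 144000 → ∃ r, checkFact cert j r = true :=
  upto_step cert upto_35 ju_35 4000 len_35 chk_35

theorem upto_37 : ∀ j, j < 148000 → ∃ r, checkFact cert j r = true :=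
  upto_step cert upto_36 ju_36 4000 len_36 chk_36

theorem upto_38 : ∀ j, j < 152000 → ∃ r, checkFact cert j r = true :=
  upto_step cert upto_37 ju_37 4000 len_37 chk_37

theorem upto_39 : ∀ j, j < 156000 → ∃ r, checkFact cert j r = true :=
  upto_step cert upto_38 ju_38 4000 len_38 chk_38

theorem upto_40 : ∀ j, j < 160000 → ∃ r, checkFact cert j r = true :=
  upto_step cert upto_39 ju_39 4000 len_39 chk_39

theorem upto_41 : ∀ j, j < 164000 → ∃ r, checkFact cert j r = true :=
  upto_step cert upto_40 ju_40 4000 len_40 chk_40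

theorem upto_42 : ∀ j, j < 168000 → ∃ r, checkFact cert j r = true :=
  upto_step cert upto_41 ju_41 4000 len_41 chk_41

theorem upto_43 : ∀ j, j < 172000 → ∃ r, checkFact cert j r = true :=
  upto_step cert upto_42 ju_42 4000 len_42 chk_42

theorem upto_44 : ∀ j, j < 176000 → ∃ r, checkFact cert j r = true :=
  upto_step cert upto_43 ju_43 4000 len_43 chk_43

theorem upto_45 : ∀ j, j < 180000 → ∃ r, checkFact cert j r = true :=
  upto_step cert upto_44 ju_44 4000 len_44 chk_44

theorem upto_46 : ∀ j, j < 184000 → ∃ r, checkFact cert j r = true :=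
  upto_step cert upto_45 ju_45 4000 len_45 chk_45

theorem upto_47 : ∀ j, j < 188000 → ∃ r, checkFact cert j r = true :=
  upto_step cert upto_46 ju_46 4000 len_46 chk_46

theorem upto_48 : ∀ j, j < 192000 → ∃ r, checkFact cert j r = true :=
  upto_step cert upto_47 ju_47 4000 len_47 chk_47

theorem upto_49 : ∀ j, j < 196000 → ∃ r, checkFact cert j r = true :=
  upto_step cert upto_48 ju_48 4000 len_48 chk_48

theorem upto_50 : ∀ j, j < 200000 → ∃ r, checkFact cert j r = true :=
  upto_step cert upto_49 ju_49 4000 len_49 chk_49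

theorem upto_51 : ∀ j, j < 204000 → ∃ r, checkFact cert j r = true :=
  upto_step cert upto_50 ju_50 4000 len_50 chk_50

theorem upto_52 : ∀ j, j < 208000 → ∃ r, checkFact cert j r = true :=
  upto_step cert upto_51 ju_51 4000 len_51 chk_51

theorem upto_53 : ∀ j, j < 212000 → ∃ r, checkFact cert j r = true :=
  upto_step cert upto_52 ju_52 4000 len_52 chk_52

theorem upto_54 : ∀ j, j < 216000 → ∃ r, checkFact cert j r = true :=
  upto_step cert upto_53 ju_53 4000 len_53 chk_53

theorem upto_55 : ∀ j, j < 220000 → ∃ r, checkFact cert j r = true :=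
  upto_step cert upto_54 ju_54 4000 len_54 chk_54

theorem upto_56 : ∀ j, j < 224000 → ∃ r, checkFact cert j r = true :=
  upto_step cert upto_55 ju_55 4000 len_55 chk_55

theorem upto_57 : ∀ j, j < 228000 → ∃ r, checkFact cert j r = true :=
  upto_step cert upto_56 ju_56 4000 len_56 chk_56

theorem upto_58 : ∀ j, j < 232000 → ∃ r, checkFact cert j r = true :=
  upto_step cert upto_57 ju_57 4000 len_57 chk_57

theorem upto_59 : ∀ j, j < 236000 → ∃ r, checkFact cert j r = true :=
  upto_step cert upto_58 ju_58 4000 len_58 chk_58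

theorem upto_60 : ∀ j, j < 240000 → ∃ r, checkFact cert j r = true :=
  upto_step cert upto_59 ju_59 4000 len_59 chk_59

theorem upto_61 : ∀ j, j < 244000 → ∃ r, checkFact cert j r = true :=
  upto_step cert upto_60 ju_60 4000 len_60 chk_60

theorem upto_62 : ∀ j, j < 248000 → ∃ r, checkFact cert j r = true :=
  upto_step cert upto_61 ju_61 4000 len_61 chk_61

theorem upto_63 : ∀ j, j < 252000 → ∃ r, checkFact cert j r = true :=
  upto_step cert upto_62 ju_62 4000 len_62 chk_62

theorem upto_64 : ∀ j, j < 256000 → ∃ r, checkFact cert j r = true :=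
  upto_step cert upto_63 ju_63 4000 len_63 chk_63

theorem upto_65 : ∀ j, j < 260000 → ∃ r, checkFact cert j r = true :=
  upto_step cert upto_64 ju_64 4000 len_64 chk_64

theorem upto_66 : ∀ j, j < 264000 → ∃ r, checkFact cert j r = true :=
  upto_step cert upto_65 ju_65 4000 len_65 chk_65

theorem upto_67 : ∀ j, j < 268000 → ∃ r, checkFact cert j r = true :=
  upto_step cert upto_66 ju_66 4000 len_66 chk_66

theorem upto_68 : ∀ j, j < 272000 → ∃ r, checkFact cert j r = true :=
  upto_step cert upto_67 ju_67 4000 len_67 chk_67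

theorem upto_69 : ∀ j, j < 276000 → ∃ r, checkFact cert j r = true :=
  upto_step cert upto_68 ju_68 4000 len_68 chk_68

theorem upto_70 : ∀ j, j < 280000 → ∃ r, checkFact cert j r = true :=
  upto_step cert upto_69 ju_69 4000 len_69 chk_69

theorem upto_71 : ∀ j, j < 284000 → ∃ r, checkFact cert j r = true :=
  upto_step cert upto_70 ju_70 4000 len_70 chk_70

theorem upto_72 : ∀ j, j < 288000 → ∃ r, checkFact cert j r = true :=
  upto_step cert upto_71 ju_71 4000 len_71 chk_71

theorem upto_73 : ∀ j, j < 292000 → ∃ r, checkFact cert j r = true :=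
  upto_step cert upto_72 ju_72 4000 len_72 chk_72

theorem upto_74 : ∀ j, j < 296000 → ∃ r, checkFact cert j r = true :=
  upto_step cert upto_73 ju_73 4000 len_73 chk_73

theorem upto_75 : ∀ j, j < 300000 → ∃ r, checkFact cert j r = true :=
  upto_step cert upto_74 ju_74 4000 len_74 chk_74

theorem upto_76 : ∀ j, j < 304000 → ∃ r, checkFact cert j r = true :=
  upto_step cert upto_75 ju_75 4000 len_75 chk_75

theorem upto_77 : ∀ j, j < 308000 → ∃ r, checkFact cert j r = true :=
  upto_step cert upto_76 ju_76 4000 len_76 chk_76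

theorem upto_78 : ∀ j, j < 312000 → ∃ r, checkFact cert j r = true :=
  upto_step cert upto_77 ju_77 4000 len_77 chk_77

theorem upto_79 : ∀ j, j < 316000 → ∃ r, checkFact cert j r = true :=
  upto_step cert upto_78 ju_78 4000 len_78 chk_78

theorem upto_80 : ∀ j, j < 320000 → ∃ r, checkFact cert j r = true :=
  upto_step cert upto_79 ju_79 4000 len_79 chk_79

theorem upto_81 : ∀ j, j < 324000 → ∃ r, checkFact cert j r = true :=
  upto_step cert upto_80 ju_80 4000 len_80 chk_80

theorem upto_82 : ∀ j, j < 328000 → ∃ r, checkFact cert j r = true :=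
  upto_step cert upto_81 ju_81 4000 len_81 chk_81

theorem upto_83 : ∀ j, j < 332000 → ∃ r, checkFact cert j r = true :=
  upto_step cert upto_82 ju_82 4000 len_82 chk_82

theorem upto_84 : ∀ j, j < 336000 → ∃ r, checkFact cert j r = true :=
  upto_step cert upto_83 ju_83 4000 len_83 chk_83

theorem upto_85 : ∀ j, j < 340000 → ∃ r, checkFact cert j r = true :=
  upto_step cert upto_84 ju_84 4000 len_84 chk_84

theorem upto_86 : ∀ j, j < 344000 → ∃ r, checkFact cert j r = true :=
  upto_step cert upto_85 ju_85 4000 len_85 chk_85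

theorem upto_87 : ∀ j, j < 348000 → ∃ r, checkFact cert j r = true :=
  upto_step cert upto_86 ju_86 4000 len_86 chk_86

theorem upto_88 : ∀ j, j < 352000 → ∃ r, checkFact cert j r = true :=
  upto_step cert upto_87 ju_87 4000 len_87 chk_87

theorem upto_89 : ∀ j, j < 356000 → ∃ r, checkFact cert j r = true :=
  upto_step cert upto_88 ju_88 4000 len_88 chk_88

theorem upto_90 : ∀ j, j < 360000 → ∃ r, checkFact cert j r = true :=
  upto_step cert upto_89 ju_89 4000 len_89 chk_89

theorem upto_91 : ∀ j, j < 364000 → ∃ r, checkFact cert j r = true :=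
  upto_step cert upto_90 ju_90 4000 len_90 chk_90

theorem upto_92 : ∀ j, j < 368000 → ∃ r, checkFact cert j r = true :=
  upto_step cert upto_91 ju_91 4000 len_91 chk_91

theorem upto_93 : ∀ j, j < 372000 → ∃ r, checkFact cert j r = true :=
  upto_step cert upto_92 ju_92 4000 len_92 chk_92

theorem upto_94 : ∀ j, j < 376000 → ∃ r, checkFact cert j r = true :=
  upto_step cert upto_93 ju_93 4000 len_93 chk_93

theorem upto_95 : ∀ j, j < 380000 → ∃ r, checkFact cert j r = true :=
  upto_step cert upto_94 ju_94 4000 len_94 chk_94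

theorem upto_96 : ∀ j, j < 384000 → ∃ r, checkFact cert j r = true :=
  upto_step cert upto_95 ju_95 4000 len_95 chk_95

theorem upto_97 : ∀ j, j < 388000 → ∃ r, checkFact cert j r = true :=
  upto_step cert upto_96 ju_96 4000 len_96 chk_96

theorem upto_98 : ∀ j, j < 392000 → ∃ r, checkFact cert j r = true :=
  upto_step cert upto_97 ju_97 4000 len_97 chk_97

theorem upto_99 : ∀ j, j < 396000 → ∃ r, checkFact cert j r = true :=
  upto_step cert upto_98 ju_98 4000 len_98 chk_98

theorem upto_100 : ∀ j, j < 400000 → ∃ r, checkFact cert j r = true :=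
  upto_step cert upto_99 ju_99 4000 len_99 chk_99

theorem upto_101 : ∀ j, j < 404000 → ∃ r, checkFact cert j r = true :=
  upto_step cert upto_100 ju_100 4000 len_100 chk_100

theorem upto_102 : ∀ j, j < 408000 → ∃ r, checkFact cert j r = true :=
  upto_step cert upto_101 ju_101 4000 len_101 chk_101

theorem upto_103 : ∀ j, j < 412000 → ∃ r, checkFact cert j r = true :=
  upto_step cert upto_102 ju_102 4000 len_102 chk_102

theorem upto_104 : ∀ j, j < 416000 → ∃ r, checkFact cert j r = true :=
  upto_step cert upto_103 ju_103 4000 len_103 chk_103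

theorem upto_105 : ∀ j, j < 420000 → ∃ r, checkFact cert j r = true :=
  upto_step cert upto_104 ju_104 4000 len_104 chk_104

theorem upto_106 : ∀ j, j < 424000 → ∃ r, checkFact cert j r = true :=
  upto_step cert upto_105 ju_105 4000 len_105 chk_105

theorem upto_107 : ∀ j, j < 428000 → ∃ r, checkFact cert j r = true :=
  upto_step cert upto_106 ju_106 4000 len_106 chk_106

theorem upto_108 : ∀ j, j < 432000 → ∃ r, checkFact cert j r = true :=
  upto_step cert upto_107 ju_107 4000 len_107 chk_107

theorem upto_109 : ∀ j, j < 436000 → ∃ r, checkFact cert j r = true :=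
  upto_step cert upto_108 ju_108 4000 len_108 chk_108

theorem upto_110 : ∀ j, j < 440000 → ∃ r, checkFact cert j r = true :=
  upto_step cert upto_109 ju_109 4000 len_109 chk_109

theorem upto_111 : ∀ j, j < 444000 → ∃ r, checkFact cert j r = true :=
  upto_step cert upto_110 ju_110 4000 len_110 chk_110

theorem upto_112 : ∀ j, j < 448000 → ∃ r, checkFact cert j r = true :=
  upto_step cert upto_111 ju_111 4000 len_111 chk_111

theorem upto_113 : ∀ j, j < 452000 → ∃ r, checkFact cert j r = true :=
  upto_step cert upto_112 ju_112 4000 len_112 chk_112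

theorem upto_114 : ∀ j, j < 456000 → ∃ r, checkFact cert j r = true :=
  upto_step cert upto_113 ju_113 4000 len_113 chk_113

theorem upto_115 : ∀ j, j < 460000 → ∃ r, checkFact cert j r = true :=
  upto_step cert upto_114 ju_114 4000 len_114 chk_114

theorem upto_116 : ∀ j, j < 464000 → ∃ r, checkFact cert j r = true :=
  upto_step cert upto_115 ju_115 4000 len_115 chk_115

theorem upto_117 : ∀ j, j < 468000 → ∃ r, checkFact cert j r = true :=
  upto_step cert upto_116 ju_116 4000 len_116 chk_116

theorem upto_118 : ∀ j, j < 472000 → ∃ r, checkFact cert j r = true :=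
  upto_step cert upto_117 ju_117 4000 len_117 chk_117

theorem upto_119 : ∀ j, j < 476000 → ∃ r, checkFact cert j r = true :=
  upto_step cert upto_118 ju_118 4000 len_118 chk_118

theorem upto_120 : ∀ j, j < 480000 → ∃ r, checkFact cert j r = true :=
  upto_step cert upto_119 ju_119 4000 len_119 chk_119

theorem upto_121 : ∀ j, j < 484000 → ∃ r, checkFact cert j r = true :=
  upto_step cert upto_120 ju_120 4000 len_120 chk_120

theorem upto_122 : ∀ j, j < 488000 → ∃ r, checkFact cert j r = true :=
  upto_step cert upto_121 ju_121 4000 len_121 chk_121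

theorem upto_123 : ∀ j, j < 492000 → ∃ r, checkFact cert j r = true :=
  upto_step cert upto_122 ju_122 4000 len_122 chk_122

theorem upto_124 : ∀ j, j < 496000 → ∃ r, checkFact cert j r = true :=
  upto_step cert upto_123 ju_123 4000 len_123 chk_123

theorem upto_125 : ∀ j, j < 500000 → ∃ r, checkFact cert j r = true :=
  upto_step cert upto_124 ju_124 4000 len_124 chk_124

theorem upto_126 : ∀ j, j < 504000 → ∃ r, checkFact cert j r = true :=
  upto_step cert upto_125 ju_125 4000 len_125 chk_125

theorem upto_127 : ∀ j, j < 508000 → ∃ r, checkFact cert j r = true :=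
  upto_step cert upto_126 ju_126 4000 len_126 chk_126

theorem upto_128 : ∀ j, j < 509503 → ∃ r, checkFact cert j r = true :=
  upto_step cert upto_127 ju_127 1503 len_127 chk_127

theorem hchk : ∀ j, j < cert.nf → ∃ r, checkFact cert j r = true := upto_128

theorem rowsto_0 : ∀ n, n < 0 → ∀ x, x < cert.k → tabEntryOK cert tab n x = true :=
  fun n hn => absurd hn (by omega)

theorem rowsto_1 : ∀ n, n < 4000 → ∀ x, x < cert.k → tabEntryOK cert tab n x = true :=
  rows_step cert tab rowsto_0 4000 rows_0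

theorem rowsto_2 : ∀ n, n < 8000 → ∀ x, x < cert.k → tabEntryOK cert tab n x = true :=
  rows_step cert tab rowsto_1 4000 rows_1

theorem rowsto_3 : ∀ n, n < 12000 → ∀ x, x < cert.k → tabEntryOK cert tab n x = true :=
  rows_step cert tab rowsto_2 4000 rows_2

theorem rowsto_4 : ∀ n, n < 16000 → ∀ x, x < cert.k → tabEntryOK cert tab n x = true :=
  rows_step cert tab rowsto_3 4000 rows_3

theorem rowsto_5 : ∀ n, n < 20000 → ∀ x, x < cert.k → tabEntryOK cert tab n x = true :=
  rows_step cert tab rowsto_4 4000 rows_4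

theorem rowsto_6 : ∀ n, n < 24000 → ∀ x, x < cert.k → tabEntryOK cert tab n x = true :=
  rows_step cert tab rowsto_5 4000 rows_5

theorem rowsto_7 : ∀ n, n < 28000 → ∀ x, x < cert.k → tabEntryOK cert tab n x = true :=
  rows_step cert tab rowsto_6 4000 rows_6

theorem rowsto_8 : ∀ n, n < 32000 → ∀ x, x < cert.k → tabEntryOK cert tab n x = true :=
  rows_step cert tab rowsto_7 4000 rows_7

theorem rowsto_9 : ∀ n, n < 36000 → ∀ x, x < cert.k → tabEntryOK cert tab n x = true :=
  rows_step cert tab rowsto_8 4000 rows_8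

theorem rowsto_10 : ∀ n, n < 40000 → ∀ x, x < cert.k → tabEntryOK cert tab n x = true :=
  rows_step cert tab rowsto_9 4000 rows_9

theorem rowsto_11 : ∀ n, n < 44000 → ∀ x, x < cert.k → tabEntryOK cert tab n x = true :=
  rows_step cert tab rowsto_10 4000 rows_10

theorem rowsto_12 : ∀ n, n < 48000 → ∀ x, x < cert.k → tabEntryOK cert tab n x = true :=
  rows_step cert tab rowsto_11 4000 rows_11

theorem rowsto_13 : ∀ n, n < 48384 → ∀ x, x < cert.k → tabEntryOK cert tab n x = true :=
  rows_step cert tab rowsto_12 384 rows_12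

theorem hT : ∀ n, n < tab.N → ∀ x, x < cert.k → tabEntryOK cert tab n x = true := rowsto_13

theorem hjs : ∀ j ∈ js, relFactOK cert j = true := by decide +kernel

theorem h0 : ordOK cert js cs0 0 1 = true := by decide +kernel

theorem hgs : ∀ i, i < 4 → genOK cert js (css.getD i []) i 0 (as_.getD i 0) = true := by decide +kernel

end Cfsg.Agent.Helper4.F42C
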