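import Mathlib
import Cfsg.Agent.Helper4.F42Dat
import Cfsg.Agent.Helper5.PackLA
import Cfsg.Agent.Helper5.PackLB

/-!
# Checks for `F₄(2)`, in packed linear algebra

The identities between words in the packed matrices of `F42Dat`, checked on the packed basis
vectors.  The checks are cut into pieces, to bound the memory used by the kernel.
-/

set_option autoImplicit false
set_option Elab.async false

namespace Cfsg.Agent.Helper4.F42

open Cfsg.Agent.Helper5.PackLA

instance (B p n : ℕ) (cs : List ℕ) : Decidable (ColsOK B p n cs) := by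
  unfold ColsOK; infer_instance

/-- two words act in the same way on the packed basis vectors. -/
def Chk (w₁ w₂ : List ℕ) : Prop :=
  ∀ j, j < 52 → actN 256 2 52 cols w₁ (256 ^ j) = actN 256 2 52 cols w₂ (256 ^ j)

instance (w₁ w₂ : List ℕ) : Decidable (Chk w₁ w₂) := by
  unfold Chk; infer_instance


set_option maxRecDepth 100000 in
theorem cols_ok_0 : ∀ c, c < 10 → ColsOK 256 2 52 (cols c) := by decide +kernel

set_option maxRecDepth 100000 in
theorem cols_ok_1 : ∀ c, c < 20 → 10 ≤ c → ColsOK 256 2 52 (cols c) := by decide +kernel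

set_option maxRecDepth 100000 in
theorem cols_ok_2 : ∀ c, c < 30 → 20 ≤ c → ColsOK 256 2 52 (cols c) := by decide +kernel

set_option maxRecDepth 100000 in
theorem cols_ok_3 : ∀ c, c < 40 → 30 ≤ c → ColsOK 256 2 52 (cols c) := by decide +kernel

set_option maxRecDepth 100000 in
theorem cols_ok_4 : ∀ c, c < 50 → 40 ≤ c → ColsOK 256 2 52 (cols c) := by decide +kernel

set_option maxRecDepth 100000 in
theorem cols_ok_5 : ∀ c, c < 59 → 50 ≤ c → ColsOK 256 2 52 (cols c) := by decide +kernel

theorem cols_ok : ∀ c, c < 59 → ColsOK 256 2 52 (cols c) := by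
  intro c h1
  by_cases h_0 : c < 10
  · exact cols_ok_0 c h_0
  by_cases h_1 : c < 20
  · exact cols_ok_1 c h_1 (by omega)
  by_cases h_2 : c < 30
  · exact cols_ok_2 c h_2 (by omega)
  by_cases h_3 : c < 40
  · exact cols_ok_3 c h_3 (by omega)
  by_cases h_4 : c < 50
  · exact cols_ok_4 c h_4 (by omega)
  exact cols_ok_5 c (by omega) (by omega)

set_option maxRecDepth 100000 in
theorem chk_genW_0 : ∀ i, i < 1 → Chk [i] (genW i) := by decide +kernel

set_option maxRecDepth 100000 in
theorem chk_genW_1 : ∀ i, i < 2 → 1 ≤ i → Chk [i] (genW i) := by decide +kernel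

set_option maxRecDepth 100000 in
theorem chk_genW_2 : ∀ i, i < 3 → 2 ≤ i → Chk [i] (genW i) := by decide +kernel

set_option maxRecDepth 100000 in
theorem chk_genW_3 : ∀ i, i < 4 → 3 ≤ i → Chk [i] (genW i) := by decide +kernel

set_option maxRecDepth 100000 in
theorem chk_genW_4 : ∀ i, i < 5 → 4 ≤ i → Chk [i] (genW i) := by decide +kernel

set_option maxRecDepth 100000 in
theorem chk_genW_5 : ∀ i, i < 6 → 5 ≤ i → Chk [i] (genW i) := by decide +kernel

set_option maxRecDepth 100000 in
theorem chk_genW_6 : ∀ i, i < 7 → 6 ≤ i → Chk [i] (genW i) := by decide +kernel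

set_option maxRecDepth 100000 in
theorem chk_genW_7 : ∀ i, i < 8 → 7 ≤ i → Chk [i] (genW i) := by decide +kernel

set_option maxRecDepth 100000 in
theorem chk_genW_8 : ∀ i, i < 9 → 8 ≤ i → Chk [i] (genW i) := by decide +kernel

set_option maxRecDepth 100000 in
theorem chk_genW_9 : ∀ i, i < 10 → 9 ≤ i → Chk [i] (genW i) := by decide +kernel

theorem chk_genW : ∀ i, i < 10 → Chk [i] (genW i) := by
  intro i h1
  by_cases h_0 : i < 1
  · exact chk_genW_0 i h_0
  by_cases h_1 : i < 2
  · exact chk_genW_1 i h_1 (by omega)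
  by_cases h_2 : i < 3
  · exact chk_genW_2 i h_2 (by omega)
  by_cases h_3 : i < 4
  · exact chk_genW_3 i h_3 (by omega)
  by_cases h_4 : i < 5
  · exact chk_genW_4 i h_4 (by omega)
  by_cases h_5 : i < 6
  · exact chk_genW_5 i h_5 (by omega)
  by_cases h_6 : i < 7
  · exact chk_genW_6 i h_6 (by omega)
  by_cases h_7 : i < 8
  · exact chk_genW_7 i h_7 (by omega)
  by_cases h_8 : i < 9
  · exact chk_genW_8 i h_8 (by omega)
  exact chk_genW_9 i (by omega) (by omega)

set_option maxRecDepth 100000 in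
theorem genW_lt : ∀ i, i < 10 → ∀ x ∈ genW i, 10 ≤ x ∧ x < 58 := by decide +kernel

set_option maxRecDepth 100000 in
theorem chk_rinv_0 : ∀ x, x < 22 → 10 ≤ x → Chk [x, x] [] := by decide +kernel

set_option maxRecDepth 100000 in
theorem chk_rinv_1 : ∀ x, x < 34 → 22 ≤ x → Chk [x, x] [] := by decide +kernel

set_option maxRecDepth 100000 in
theorem chk_rinv_2 : ∀ x, x < 46 → 34 ≤ x → Chk [x, x] [] := by decide +kernel

set_option maxRecDepth 100000 in
theorem chk_rinv_3 : ∀ x, x < 58 → 46 ≤ x → Chk [x, x] [] := by decide +kernel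

theorem chk_rinv : ∀ x, 10 ≤ x → x < 58 → Chk [x, x] [] := by
  intro x h0 h1
  by_cases h_0 : x < 22
  · exact chk_rinv_0 x h_0 (by omega)
  by_cases h_1 : x < 34
  · exact chk_rinv_1 x h_1 (by omega)
  by_cases h_2 : x < 46
  · exact chk_rinv_2 x h_2 (by omega)
  exact chk_rinv_3 x (by omega) (by omega)

set_option maxRecDepth 100000 in
theorem chk_linv : ∀ i, i < 5 → Chk [2 * i, 2 * i + 1] [] ∧ Chk [2 * i + 1, 2 * i] [] := by
  decide +kernel

set_option maxRecDepth 100000 in
theorem chk_pow : Chk (List.replicate 17 0) [] ∧ Chk (List.replicate 3 2) [] ∧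
    Chk (List.replicate 3 4) [] ∧ Chk (List.replicate 5 6) [] ∧ Chk (List.replicate 3 8) [] := by
  decide +kernel

set_option maxRecDepth 100000 in
theorem chk_id : Chk [58] [] := by decide +kernel

end Cfsg.Agent.Helper4.F42
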