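import Mathlib
import Cfsg.Agent.Helper4.F42Chk

/-!
# Checks for `F₄(2)`: the root elements as words in the generators
-/

set_option autoImplicit false
set_option Elab.async false

namespace Cfsg.Agent.Helper4.F42

open Cfsg.Agent.Helper5.PackLA


set_option maxRecDepth 100000 in
theorem chk_root_0 : ∀ r, r < 4 → Chk [10 + r] (rootW r) := by decide +kernel

set_option maxRecDepth 100000 in
theorem chk_root_1 : ∀ r, r < 8 → 4 ≤ r → Chk [10 + r] (rootW r) := by decide +kernel

set_option maxRecDepth 100000 in
theorem chk_root_2 : ∀ r, r < 12 → 8 ≤ r → Chk [10 + r] (rootW r) := by decide +kernel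

set_option maxRecDepth 100000 in
theorem chk_root_3 : ∀ r, r < 16 → 12 ≤ r → Chk [10 + r] (rootW r) := by decide +kernel

set_option maxRecDepth 100000 in
theorem chk_root_4 : ∀ r, r < 20 → 16 ≤ r → Chk [10 + r] (rootW r) := by decide +kernel

set_option maxRecDepth 100000 in
theorem chk_root_5 : ∀ r, r < 24 → 20 ≤ r → Chk [10 + r] (rootW r) := by decide +kernel

set_option maxRecDepth 100000 in
theorem chk_root_6 : ∀ r, r < 28 → 24 ≤ r → Chk [10 + r] (rootW r) := by decide +kernel

set_option maxRecDepth 100000 in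
theorem chk_root_7 : ∀ r, r < 32 → 28 ≤ r → Chk [10 + r] (rootW r) := by decide +kernel

set_option maxRecDepth 100000 in
theorem chk_root_8 : ∀ r, r < 36 → 32 ≤ r → Chk [10 + r] (rootW r) := by decide +kernel

set_option maxRecDepth 100000 in
theorem chk_root_9 : ∀ r, r < 40 → 36 ≤ r → Chk [10 + r] (rootW r) := by decide +kernel

set_option maxRecDepth 100000 in
theorem chk_root_10 : ∀ r, r < 44 → 40 ≤ r → Chk [10 + r] (rootW r) := by decide +kernel

set_option maxRecDepth 100000 in
theorem chk_root_11 : ∀ r, r < 48 → 44 ≤ r → Chk [10 + r] (rootW r) := by decide +kernel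

theorem chk_root : ∀ r, r < 48 → Chk [10 + r] (rootW r) := by
  intro r h1
  by_cases h_0 : r < 4
  · exact chk_root_0 r h_0
  by_cases h_1 : r < 8
  · exact chk_root_1 r h_1 (by omega)
  by_cases h_2 : r < 12
  · exact chk_root_2 r h_2 (by omega)
  by_cases h_3 : r < 16
  · exact chk_root_3 r h_3 (by omega)
  by_cases h_4 : r < 20
  · exact chk_root_4 r h_4 (by omega)
  by_cases h_5 : r < 24
  · exact chk_root_5 r h_5 (by omega)
  by_cases h_6 : r < 28
  · exact chk_root_6 r h_6 (by omega)
  by_cases h_7 : r < 32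
  · exact chk_root_7 r h_7 (by omega)
  by_cases h_8 : r < 36
  · exact chk_root_8 r h_8 (by omega)
  by_cases h_9 : r < 40
  · exact chk_root_9 r h_9 (by omega)
  by_cases h_10 : r < 44
  · exact chk_root_10 r h_10 (by omega)
  exact chk_root_11 r (by omega) (by omega)

set_option maxRecDepth 100000 in
theorem rootW_lt : ∀ r, r < 48 → ∀ c ∈ rootW r, c < 10 := by decide +kernel

end Cfsg.Agent.Helper4.F42
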