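import Cfsg.Agent.Helper4.F42MDat

/-! generated permutation model, checks: F42M -/

set_option autoImplicit false
set_option Elab.async false
set_option maxRecDepth 1000000

namespace Cfsg.Agent.Helper4.F42M
open Cfsg.Agent.Helper5.TC Cfsg.Agent.Helper5.TCI Cfsg.Agent.Helper5.LP

theorem invc_1_0 : invRowFI mT 139776 1 0 125000 0 = true := by decide +kernel

theorem fixc_139_46875 : fixPtsF W_139 15625 46875 = true := by decide +kernel

theorem fixc_65_21738 : fixPtsF W_65 10869 21738 = true := by decide +kernel

theorem fixc_77_21738 : fixPtsF W_77 10869 21738 = true := by decide +kernel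

theorem fixc_93_21738 : fixPtsF W_93 10869 21738 = true := by decide +kernel

theorem fixc_37_22726 : fixPtsF W_37 11363 22726 = true := by decide +kernel

theorem fixc_49_22726 : fixPtsF W_49 11363 22726 = true := by decide +kernel

theorem fixc_144_0 : fixPtsF W_144 14705 0 = true := by decide +kernel

theorem fixc_24_47616 : fixPtsF W_24 11904 47616 = true := by decide +kernel

theorem fixc_118_17856 : fixPtsF W_118 8928 17856 = true := by decide +kernel

theorem fixc_128_35712 : fixPtsF W_128 8928 35712 = true := by decide +kernel

theorem fixc_118_62496 : fixPtsF W_118 7392 62496 = true := by decide +kernel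

theorem fixc_124_62496 : fixPtsF W_124 7392 62496 = true := by decide +kernel

end Cfsg.Agent.Helper4.F42M
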