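import Cfsg.Agent.Helper4.F42MDat

/-! generated permutation model, checks: F42M -/

set_option autoImplicit false
set_option Elab.async false
set_option maxRecDepth 1000000

namespace Cfsg.Agent.Helper4.F42M
open Cfsg.Agent.Helper5.TC Cfsg.Agent.Helper5.TCI Cfsg.Agent.Helper5.LP

theorem invc_10_0 : invRowFI mT 139776 10 11 125000 0 = true := by decide +kernel

theorem fixc_105_38460 : fixPtsF W_105 9615 38460 = true := by decide +kernel

theorem fixc_115_0 : fixPtsF W_115 9615 0 = true := by decide +kernel

theorem fixc_74_0 : fixPtsF W_74 10869 0 = true := by decide +kernel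

theorem fixc_90_0 : fixPtsF W_90 10869 0 = true := by decide +kernel

theorem fixc_34_0 : fixPtsF W_34 11363 0 = true := by decide +kernel

theorem fixc_46_0 : fixPtsF W_46 11363 0 = true := by decide +kernel

theorem fixc_88_0 : fixPtsF W_88 11363 0 = true := by decide +kernel

theorem fixc_22_0 : fixPtsF W_22 11904 0 = true := by decide +kernel

theorem fixc_116_17856 : fixPtsF W_116 8928 17856 = true := by decide +kernel

theorem fixc_126_35712 : fixPtsF W_126 8928 35712 = true := by decide +kernel

theorem fixc_21_59520 : fixPtsF W_21 10368 59520 = true := by decide +kernel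

theorem fixc_7_62500 : fixPtsF W_7 7388 62500 = true := by decide +kernel

theorem invc_7_125000 : invRowFI mT 139776 7 6 14776 125000 = true := by decide +kernel

end Cfsg.Agent.Helper4.F42M
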