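import Cfsg.Agent.Helper4.F42MDat

/-! generated permutation model, checks: F42M -/

set_option autoImplicit false
set_option Elab.async false
set_option maxRecDepth 1000000

namespace Cfsg.Agent.Helper4.F42M
open Cfsg.Agent.Helper5.TC Cfsg.Agent.Helper5.TCI Cfsg.Agent.Helper5.LP

theorem invc_11_0 : invRowFI mT 139776 11 10 125000 0 = true := by decide +kernel

theorem fixc_105_48075 : fixPtsF W_105 9615 48075 = true := by decide +kernel

theorem fixc_115_9615 : fixPtsF W_115 9615 9615 = true := by decide +kernel

theorem fixc_74_10869 : fixPtsF W_74 10869 10869 = true := by decide +kernel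

theorem fixc_90_10869 : fixPtsF W_90 10869 10869 = true := by decide +kernel

theorem fixc_34_11363 : fixPtsF W_34 11363 11363 = true := by decide +kernel

theorem fixc_46_11363 : fixPtsF W_46 11363 11363 = true := by decide +kernel

theorem fixc_88_11363 : fixPtsF W_88 11363 11363 = true := by decide +kernel

theorem fixc_22_11904 : fixPtsF W_22 11904 11904 = true := by decide +kernel

theorem fixc_116_26784 : fixPtsF W_116 8928 26784 = true := by decide +kernel

theorem fixc_126_44640 : fixPtsF W_126 8928 44640 = true := by decide +kernel

theorem fixc_22_59520 : fixPtsF W_22 10368 59520 = true := by decide +kernel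

theorem fixc_8_62500 : fixPtsF W_8 7388 62500 = true := by decide +kernel

theorem invc_8_125000 : invRowFI mT 139776 8 9 14776 125000 = true := by decide +kernel

end Cfsg.Agent.Helper4.F42M
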