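import Cfsg.Agent.Helper4.F42MDat

/-! generated permutation model, checks: F42M -/

set_option autoImplicit false
set_option Elab.async false
set_option maxRecDepth 1000000

namespace Cfsg.Agent.Helper4.F42M
open Cfsg.Agent.Helper5.TC Cfsg.Agent.Helper5.TCI Cfsg.Agent.Helper5.LP

theorem fixc_0_0 : fixPtsF W_0 62500 0 = true := by decide +kernel

theorem fixc_105_57690 : fixPtsF W_105 9615 57690 = true := by decide +kernel

theorem fixc_115_19230 : fixPtsF W_115 9615 19230 = true := by decide +kernel

theorem fixc_74_21738 : fixPtsF W_74 10869 21738 = true := by decide +kernel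

theorem fixc_90_21738 : fixPtsF W_90 10869 21738 = true := by decide +kernel

theorem fixc_34_22726 : fixPtsF W_34 11363 22726 = true := by decide +kernel

theorem fixc_46_22726 : fixPtsF W_46 11363 22726 = true := by decide +kernel

theorem fixc_88_22726 : fixPtsF W_88 11363 22726 = true := by decide +kernel

theorem fixc_22_23808 : fixPtsF W_22 11904 23808 = true := by decide +kernel

theorem fixc_116_35712 : fixPtsF W_116 8928 35712 = true := by decide +kernel

theorem fixc_126_53568 : fixPtsF W_126 8928 53568 = true := by decide +kernel

theorem fixc_23_59520 : fixPtsF W_23 10368 59520 = true := by decide +kernel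

theorem fixc_9_62500 : fixPtsF W_9 7388 62500 = true := by decide +kernel

theorem invc_9_125000 : invRowFI mT 139776 9 8 14776 125000 = true := by decide +kernel

end Cfsg.Agent.Helper4.F42M
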