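import Cfsg.Agent.Helper4.F42MDat

/-! generated permutation model, checks: F42M -/

set_option autoImplicit false
set_option Elab.async false
set_option maxRecDepth 1000000

namespace Cfsg.Agent.Helper4.F42M
open Cfsg.Agent.Helper5.TC Cfsg.Agent.Helper5.TCI Cfsg.Agent.Helper5.LP

theorem fixc_0_62500 : fixPtsF W_0 62500 62500 = true := by decide +kernel

theorem fixc_106_0 : fixPtsF W_106 9615 0 = true := by decide +kernel

theorem fixc_115_28845 : fixPtsF W_115 9615 28845 = true := by decide +kernel

theorem fixc_74_32607 : fixPtsF W_74 10869 32607 = true := by decide +kernel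

theorem fixc_90_32607 : fixPtsF W_90 10869 32607 = true := by decide +kernel

theorem fixc_34_34089 : fixPtsF W_34 11363 34089 = true := by decide +kernel

theorem fixc_46_34089 : fixPtsF W_46 11363 34089 = true := by decide +kernel

theorem fixc_88_34089 : fixPtsF W_88 11363 34089 = true := by decide +kernel

theorem fixc_22_35712 : fixPtsF W_22 11904 35712 = true := by decide +kernel

theorem fixc_116_44640 : fixPtsF W_116 8928 44640 = true := by decide +kernel

theorem fixc_127_0 : fixPtsF W_127 8928 0 = true := by decide +kernel

theorem fixc_24_59520 : fixPtsF W_24 10368 59520 = true := by decide +kernel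

theorem fixc_10_62500 : fixPtsF W_10 7388 62500 = true := by decide +kernel

theorem invc_10_125000 : invRowFI mT 139776 10 11 14776 125000 = true := by decide +kernel

end Cfsg.Agent.Helper4.F42M
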