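import Cfsg.Agent.Helper4.F42MDat

/-! generated permutation model, checks: F42M -/

set_option autoImplicit false
set_option Elab.async false
set_option maxRecDepth 1000000

namespace Cfsg.Agent.Helper4.F42M
open Cfsg.Agent.Helper5.TC Cfsg.Agent.Helper5.TCI Cfsg.Agent.Helper5.LP

theorem fixc_1_62500 : fixPtsF W_1 62500 62500 = true := by decide +kernel

theorem fixc_106_19230 : fixPtsF W_106 9615 19230 = true := by decide +kernel

theorem fixc_115_48075 : fixPtsF W_115 9615 48075 = true := by decide +kernel

theorem fixc_74_54345 : fixPtsF W_74 10869 54345 = true := by decide +kernel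

theorem fixc_90_54345 : fixPtsF W_90 10869 54345 = true := by decide +kernel

theorem fixc_34_56815 : fixPtsF W_34 11363 56815 = true := by decide +kernel

theorem fixc_46_56815 : fixPtsF W_46 11363 56815 = true := by decide +kernel

theorem fixc_88_56815 : fixPtsF W_88 11363 56815 = true := by decide +kernel

theorem fixc_23_0 : fixPtsF W_23 11904 0 = true := by decide +kernel

theorem fixc_117_0 : fixPtsF W_117 8928 0 = true := by decide +kernel

theorem fixc_127_17856 : fixPtsF W_127 8928 17856 = true := by decide +kernel

theorem fixc_26_59520 : fixPtsF W_26 10368 59520 = true := by decide +kernel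

theorem fixc_138_62500 : fixPtsF W_138 7388 62500 = true := by decide +kernel

theorem fixc_31_68178 : fixPtsF W_31 1710 68178 = true := by decide +kernel

theorem fixc_140_69440 : fixPtsF W_140 448 69440 = true := by decide +kernel

end Cfsg.Agent.Helper4.F42M
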