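import Cfsg.Agent.Helper4.F42MDat

/-! generated permutation model, checks: F42M -/

set_option autoImplicit false
set_option Elab.async false
set_option maxRecDepth 1000000

namespace Cfsg.Agent.Helper4.F42M
open Cfsg.Agent.Helper5.TC Cfsg.Agent.Helper5.TCI Cfsg.Agent.Helper5.LP

theorem fixc_2_0 : fixPtsF W_2 62500 0 = true := by decide +kernel

theorem fixc_106_28845 : fixPtsF W_106 9615 28845 = true := by decide +kernel

theorem fixc_115_57690 : fixPtsF W_115 9615 57690 = true := by decide +kernel

theorem fixc_75_0 : fixPtsF W_75 10869 0 = true := by decide +kernel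

theorem fixc_91_0 : fixPtsF W_91 10869 0 = true := by decide +kernel

theorem fixc_35_0 : fixPtsF W_35 11363 0 = true := by decide +kernel

theorem fixc_47_0 : fixPtsF W_47 11363 0 = true := by decide +kernel

theorem fixc_89_0 : fixPtsF W_89 11363 0 = true := by decide +kernel

theorem fixc_23_11904 : fixPtsF W_23 11904 11904 = true := by decide +kernel

theorem fixc_117_8928 : fixPtsF W_117 8928 8928 = true := by decide +kernel

theorem fixc_127_26784 : fixPtsF W_127 8928 26784 = true := by decide +kernel

theorem fixc_27_59520 : fixPtsF W_27 10368 59520 = true := by decide +kernel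

theorem fixc_139_62500 : fixPtsF W_139 7388 62500 = true := by decide +kernel

theorem fixc_32_68178 : fixPtsF W_32 1710 68178 = true := by decide +kernel

end Cfsg.Agent.Helper4.F42M
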