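import Cfsg.Agent.Helper4.F42MDat

/-! generated permutation model, checks: F42M -/

set_option autoImplicit false
set_option Elab.async false
set_option maxRecDepth 1000000

namespace Cfsg.Agent.Helper4.F42M
open Cfsg.Agent.Helper5.TC Cfsg.Agent.Helper5.TCI Cfsg.Agent.Helper5.LP

theorem fixc_2_62500 : fixPtsF W_2 62500 62500 = true := by decide +kernel

theorem fixc_106_38460 : fixPtsF W_106 9615 38460 = true := by decide +kernel

theorem fixc_133_0 : fixPtsF W_133 16666 0 = true := by decide +kernel

theorem fixc_75_10869 : fixPtsF W_75 10869 10869 = true := by decide +kernel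

theorem fixc_91_10869 : fixPtsF W_91 10869 10869 = true := by decide +kernel

theorem fixc_35_11363 : fixPtsF W_35 11363 11363 = true := by decide +kernel

theorem fixc_47_11363 : fixPtsF W_47 11363 11363 = true := by decide +kernel

theorem fixc_89_11363 : fixPtsF W_89 11363 11363 = true := by decide +kernel

theorem fixc_23_23808 : fixPtsF W_23 11904 23808 = true := by decide +kernel

theorem fixc_117_17856 : fixPtsF W_117 8928 17856 = true := by decide +kernel

theorem fixc_127_35712 : fixPtsF W_127 8928 35712 = true := by decide +kernel

theorem fixc_86_59520 : fixPtsF W_86 10368 59520 = true := by decide +kernel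

theorem fixc_58_65214 : fixPtsF W_58 4674 65214 = true := by decide +kernel

theorem fixc_137_66664 : fixPtsF W_137 3224 66664 = true := by decide +kernel

end Cfsg.Agent.Helper4.F42M
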