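import Cfsg.Agent.Helper4.F42MDat

/-! generated permutation model, checks: F42M -/

set_option autoImplicit false
set_option Elab.async false
set_option maxRecDepth 1000000

namespace Cfsg.Agent.Helper4.F42M
open Cfsg.Agent.Helper5.TC Cfsg.Agent.Helper5.TCI Cfsg.Agent.Helper5.LP

theorem fixc_3_0 : fixPtsF W_3 62500 0 = true := by decide +kernel

theorem fixc_106_48075 : fixPtsF W_106 9615 48075 = true := by decide +kernel

theorem fixc_133_16666 : fixPtsF W_133 16666 16666 = true := by decide +kernel

theorem fixc_75_21738 : fixPtsF W_75 10869 21738 = true := by decide +kernel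

theorem fixc_91_21738 : fixPtsF W_91 10869 21738 = true := by decide +kernel

theorem fixc_35_22726 : fixPtsF W_35 11363 22726 = true := by decide +kernel

theorem fixc_47_22726 : fixPtsF W_47 11363 22726 = true := by decide +kernel

theorem fixc_89_22726 : fixPtsF W_89 11363 22726 = true := by decide +kernel

theorem fixc_23_35712 : fixPtsF W_23 11904 35712 = true := by decide +kernel

theorem fixc_117_26784 : fixPtsF W_117 8928 26784 = true := by decide +kernel

theorem fixc_127_44640 : fixPtsF W_127 8928 44640 = true := by decide +kernel

theorem fixc_87_59520 : fixPtsF W_87 10368 59520 = true := by decide +kernel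

theorem fixc_59_65214 : fixPtsF W_59 4674 65214 = true := by decide +kernel

theorem fixc_28_68178 : fixPtsF W_28 1710 68178 = true := by decide +kernel

theorem invc_6_125000 : invRowFI mT 139776 6 7 14776 125000 = true := by decide +kernel

end Cfsg.Agent.Helper4.F42M
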