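import Cfsg.Agent.Helper4.F42MDat

/-! generated permutation model, checks: F42M -/

set_option autoImplicit false
set_option Elab.async false
set_option maxRecDepth 1000000

namespace Cfsg.Agent.Helper4.F42M
open Cfsg.Agent.Helper5.TC Cfsg.Agent.Helper5.TCI Cfsg.Agent.Helper5.LP

theorem fixc_3_62500 : fixPtsF W_3 62500 62500 = true := by decide +kernel

theorem fixc_106_57690 : fixPtsF W_106 9615 57690 = true := by decide +kernel

theorem fixc_133_33332 : fixPtsF W_133 16666 33332 = true := by decide +kernel

theorem fixc_75_32607 : fixPtsF W_75 10869 32607 = true := by decide +kernel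

theorem fixc_91_32607 : fixPtsF W_91 10869 32607 = true := by decide +kernel

theorem fixc_35_34089 : fixPtsF W_35 11363 34089 = true := by decide +kernel

theorem fixc_47_34089 : fixPtsF W_47 11363 34089 = true := by decide +kernel

theorem fixc_89_34089 : fixPtsF W_89 11363 34089 = true := by decide +kernel

theorem fixc_23_47616 : fixPtsF W_23 11904 47616 = true := by decide +kernel

theorem fixc_117_35712 : fixPtsF W_117 8928 35712 = true := by decide +kernel

theorem fixc_127_53568 : fixPtsF W_127 8928 53568 = true := by decide +kernel

theorem fixc_145_0 : fixPtsF W_145 69888 0 = true := by decide +kernel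

theorem fixc_128_62496 : fixPtsF W_128 7392 62496 = true := by decide +kernel

end Cfsg.Agent.Helper4.F42M
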