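import Cfsg.Agent.Helper4.F42MDat

/-! generated permutation model, checks: F42M -/

set_option autoImplicit false
set_option Elab.async false
set_option maxRecDepth 1000000

namespace Cfsg.Agent.Helper4.F42M
open Cfsg.Agent.Helper5.TC Cfsg.Agent.Helper5.TCI Cfsg.Agent.Helper5.LP

theorem invc_2_0 : invRowFI mT 139776 2 3 125000 0 = true := by decide +kernel

theorem fixc_141_0 : fixPtsF W_141 62500 0 = true := by decide +kernel

theorem fixc_65_32607 : fixPtsF W_65 10869 32607 = true := by decide +kernel

theorem fixc_77_32607 : fixPtsF W_77 10869 32607 = true := by decide +kernel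

theorem fixc_93_32607 : fixPtsF W_93 10869 32607 = true := by decide +kernel

theorem fixc_37_34089 : fixPtsF W_37 11363 34089 = true := by decide +kernel

theorem fixc_49_34089 : fixPtsF W_49 11363 34089 = true := by decide +kernel

theorem fixc_144_14705 : fixPtsF W_144 14705 14705 = true := by decide +kernel

theorem fixc_25_0 : fixPtsF W_25 11904 0 = true := by decide +kernel

theorem fixc_118_26784 : fixPtsF W_118 8928 26784 = true := by decide +kernel

theorem fixc_128_44640 : fixPtsF W_128 8928 44640 = true := by decide +kernel

theorem fixc_119_62496 : fixPtsF W_119 7392 62496 = true := by decide +kernel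

theorem fixc_125_62496 : fixPtsF W_125 7392 62496 = true := by decide +kernel

end Cfsg.Agent.Helper4.F42M
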