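import Cfsg.Agent.Helper4.F42MDat

/-! generated permutation model, checks: F42M -/

set_option autoImplicit false
set_option Elab.async false
set_option maxRecDepth 1000000

namespace Cfsg.Agent.Helper4.F42M
open Cfsg.Agent.Helper5.TC Cfsg.Agent.Helper5.TCI Cfsg.Agent.Helper5.LP

theorem fixc_4_0 : fixPtsF W_4 62500 0 = true := by decide +kernel

theorem fixc_107_0 : fixPtsF W_107 9615 0 = true := by decide +kernel

theorem fixc_133_49998 : fixPtsF W_133 16666 49998 = true := by decide +kernel

theorem fixc_75_43476 : fixPtsF W_75 10869 43476 = true := by decide +kernel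

theorem fixc_91_43476 : fixPtsF W_91 10869 43476 = true := by decide +kernel

theorem fixc_35_45452 : fixPtsF W_35 11363 45452 = true := by decide +kernel

theorem fixc_47_45452 : fixPtsF W_47 11363 45452 = true := by decide +kernel

theorem fixc_89_45452 : fixPtsF W_89 11363 45452 = true := by decide +kernel

theorem fixc_24_0 : fixPtsF W_24 11904 0 = true := by decide +kernel

theorem fixc_117_44640 : fixPtsF W_117 8928 44640 = true := by decide +kernel

theorem fixc_128_0 : fixPtsF W_128 8928 0 = true := by decide +kernel

theorem fixc_146_0 : fixPtsF W_146 69888 0 = true := by decide +kernel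

theorem fixc_129_62496 : fixPtsF W_129 7392 62496 = true := by decide +kernel

end Cfsg.Agent.Helper4.F42M
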