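import Cfsg.Agent.Helper4.F42MDat

/-! generated permutation model, checks: F42M -/

set_option autoImplicit false
set_option Elab.async false
set_option maxRecDepth 1000000

namespace Cfsg.Agent.Helper4.F42M
open Cfsg.Agent.Helper5.TC Cfsg.Agent.Helper5.TCI Cfsg.Agent.Helper5.LP

theorem fixc_7_0 : fixPtsF W_7 12500 0 = true := by decide +kernel

theorem fixc_107_19230 : fixPtsF W_107 9615 19230 = true := by decide +kernel

theorem fixc_136_16666 : fixPtsF W_136 16666 16666 = true := by decide +kernel

theorem fixc_76_0 : fixPtsF W_76 10869 0 = true := by decide +kernel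

theorem fixc_92_0 : fixPtsF W_92 10869 0 = true := by decide +kernel

theorem fixc_36_0 : fixPtsF W_36 11363 0 = true := by decide +kernel

theorem fixc_48_0 : fixPtsF W_48 11363 0 = true := by decide +kernel

theorem fixc_134_0 : fixPtsF W_134 14705 0 = true := by decide +kernel

theorem fixc_19_47616 : fixPtsF W_19 11904 47616 = true := by decide +kernel

theorem fixc_103_31248 : fixPtsF W_103 10416 31248 = true := by decide +kernel

theorem fixc_125_0 : fixPtsF W_125 8928 0 = true := by decide +kernel

theorem fixc_101_60000 : fixPtsF W_101 9888 60000 = true := by decide +kernel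

theorem fixc_62_65214 : fixPtsF W_62 4674 65214 = true := by decide +kernel

theorem fixc_36_68178 : fixPtsF W_36 1710 68178 = true := by decide +kernel

end Cfsg.Agent.Helper4.F42M
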