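import Cfsg.Agent.Helper4.F42MDat

/-! generated permutation model, checks: F42M -/

set_option autoImplicit false
set_option Elab.async false
set_option maxRecDepth 1000000

namespace Cfsg.Agent.Helper4.F42M
open Cfsg.Agent.Helper5.TC Cfsg.Agent.Helper5.TCI Cfsg.Agent.Helper5.LP

theorem fixc_7_12500 : fixPtsF W_7 12500 12500 = true := by decide +kernel

theorem fixc_107_28845 : fixPtsF W_107 9615 28845 = true := by decide +kernel

theorem fixc_136_33332 : fixPtsF W_136 16666 33332 = true := by decide +kernel

theorem fixc_76_10869 : fixPtsF W_76 10869 10869 = true := by decide +kernel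

theorem fixc_92_10869 : fixPtsF W_92 10869 10869 = true := by decide +kernel

theorem fixc_36_11363 : fixPtsF W_36 11363 11363 = true := by decide +kernel

theorem fixc_48_11363 : fixPtsF W_48 11363 11363 = true := by decide +kernel

theorem fixc_134_14705 : fixPtsF W_134 14705 14705 = true := by decide +kernel

theorem fixc_20_0 : fixPtsF W_20 11904 0 = true := by decide +kernel

theorem fixc_103_41664 : fixPtsF W_103 10416 41664 = true := by decide +kernel

theorem fixc_125_8928 : fixPtsF W_125 8928 8928 = true := by decide +kernel

theorem fixc_11_59520 : fixPtsF W_11 10368 59520 = true := by decide +kernel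

theorem fixc_131_62496 : fixPtsF W_131 7392 62496 = true := by decide +kernel

end Cfsg.Agent.Helper4.F42M
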