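import Cfsg.Agent.Helper4.F42MDat

/-! generated permutation model, checks: F42M -/

set_option autoImplicit false
set_option Elab.async false
set_option maxRecDepth 1000000

namespace Cfsg.Agent.Helper4.F42M
open Cfsg.Agent.Helper5.TC Cfsg.Agent.Helper5.TCI Cfsg.Agent.Helper5.LP

theorem fixc_7_25000 : fixPtsF W_7 12500 25000 = true := by decide +kernel

theorem fixc_107_38460 : fixPtsF W_107 9615 38460 = true := by decide +kernel

theorem fixc_136_49998 : fixPtsF W_136 16666 49998 = true := by decide +kernel

theorem fixc_76_21738 : fixPtsF W_76 10869 21738 = true := by decide +kernel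

theorem fixc_92_21738 : fixPtsF W_92 10869 21738 = true := by decide +kernel

theorem fixc_36_22726 : fixPtsF W_36 11363 22726 = true := by decide +kernel

theorem fixc_48_22726 : fixPtsF W_48 11363 22726 = true := by decide +kernel

theorem fixc_134_29410 : fixPtsF W_134 14705 29410 = true := by decide +kernel

theorem fixc_20_11904 : fixPtsF W_20 11904 11904 = true := by decide +kernel

theorem fixc_103_52080 : fixPtsF W_103 10416 52080 = true := by decide +kernel

theorem fixc_125_17856 : fixPtsF W_125 8928 17856 = true := by decide +kernel

theorem fixc_12_59520 : fixPtsF W_12 10368 59520 = true := by decide +kernel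

theorem fixc_134_58820 : fixPtsF W_134 11068 58820 = true := by decide +kernel

end Cfsg.Agent.Helper4.F42M
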