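import Cfsg.Agent.Helper4.F42MDat

/-! generated permutation model, checks: F42M -/

set_option autoImplicit false
set_option Elab.async false
set_option maxRecDepth 1000000

namespace Cfsg.Agent.Helper4.F42M
open Cfsg.Agent.Helper5.TC Cfsg.Agent.Helper5.TCI Cfsg.Agent.Helper5.LP

theorem fixc_7_37500 : fixPtsF W_7 12500 37500 = true := by decide +kernel

theorem fixc_107_48075 : fixPtsF W_107 9615 48075 = true := by decide +kernel

theorem fixc_137_0 : fixPtsF W_137 16666 0 = true := by decide +kernel

theorem fixc_76_32607 : fixPtsF W_76 10869 32607 = true := by decide +kernel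

theorem fixc_92_32607 : fixPtsF W_92 10869 32607 = true := by decide +kernel

theorem fixc_36_34089 : fixPtsF W_36 11363 34089 = true := by decide +kernel

theorem fixc_48_34089 : fixPtsF W_48 11363 34089 = true := by decide +kernel

theorem fixc_134_44115 : fixPtsF W_134 14705 44115 = true := by decide +kernel

theorem fixc_20_23808 : fixPtsF W_20 11904 23808 = true := by decide +kernel

theorem fixc_104_0 : fixPtsF W_104 10416 0 = true := by decide +kernel

theorem fixc_125_26784 : fixPtsF W_125 8928 26784 = true := by decide +kernel

theorem fixc_13_59520 : fixPtsF W_13 10368 59520 = true := by decide +kernel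

theorem fixc_135_58820 : fixPtsF W_135 11068 58820 = true := by decide +kernel

end Cfsg.Agent.Helper4.F42M
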