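import Cfsg.Agent.Helper4.F42MDat

/-! generated permutation model, checks: F42M -/

set_option autoImplicit false
set_option Elab.async false
set_option maxRecDepth 1000000

namespace Cfsg.Agent.Helper4.F42M
open Cfsg.Agent.Helper5.TC Cfsg.Agent.Helper5.TCI Cfsg.Agent.Helper5.LP

theorem fixc_7_50000 : fixPtsF W_7 12500 50000 = true := by decide +kernel

theorem fixc_107_57690 : fixPtsF W_107 9615 57690 = true := by decide +kernel

theorem fixc_137_16666 : fixPtsF W_137 16666 16666 = true := by decide +kernel

theorem fixc_76_43476 : fixPtsF W_76 10869 43476 = true := by decide +kernel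

theorem fixc_92_43476 : fixPtsF W_92 10869 43476 = true := by decide +kernel

theorem fixc_36_45452 : fixPtsF W_36 11363 45452 = true := by decide +kernel

theorem fixc_48_45452 : fixPtsF W_48 11363 45452 = true := by decide +kernel

theorem fixc_135_0 : fixPtsF W_135 14705 0 = true := by decide +kernel

theorem fixc_20_35712 : fixPtsF W_20 11904 35712 = true := by decide +kernel

theorem fixc_104_10416 : fixPtsF W_104 10416 10416 = true := by decide +kernel

theorem fixc_125_35712 : fixPtsF W_125 8928 35712 = true := by decide +kernel

theorem fixc_14_59520 : fixPtsF W_14 10368 59520 = true := by decide +kernel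

theorem fixc_144_58820 : fixPtsF W_144 11068 58820 = true := by decide +kernel

end Cfsg.Agent.Helper4.F42M
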