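import Cfsg.Agent.Helper4.F42MDat

/-! generated permutation model, checks: F42M -/

set_option autoImplicit false
set_option Elab.async false
set_option maxRecDepth 1000000

namespace Cfsg.Agent.Helper4.F42M
open Cfsg.Agent.Helper5.TC Cfsg.Agent.Helper5.TCI Cfsg.Agent.Helper5.LP

theorem fixc_8_0 : fixPtsF W_8 12500 0 = true := by decide +kernel

theorem fixc_108_0 : fixPtsF W_108 9615 0 = true := by decide +kernel

theorem fixc_137_33332 : fixPtsF W_137 16666 33332 = true := by decide +kernel

theorem fixc_76_54345 : fixPtsF W_76 10869 54345 = true := by decide +kernel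

theorem fixc_92_54345 : fixPtsF W_92 10869 54345 = true := by decide +kernel

theorem fixc_36_56815 : fixPtsF W_36 11363 56815 = true := by decide +kernel

theorem fixc_48_56815 : fixPtsF W_48 11363 56815 = true := by decide +kernel

theorem fixc_135_14705 : fixPtsF W_135 14705 14705 = true := by decide +kernel

theorem fixc_20_47616 : fixPtsF W_20 11904 47616 = true := by decide +kernel

theorem fixc_104_20832 : fixPtsF W_104 10416 20832 = true := by decide +kernel

theorem fixc_125_44640 : fixPtsF W_125 8928 44640 = true := by decide +kernel

theorem fixc_15_59520 : fixPtsF W_15 10368 59520 = true := by decide +kernel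

theorem fixc_96_62496 : fixPtsF W_96 7392 62496 = true := by decide +kernel

end Cfsg.Agent.Helper4.F42M
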