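import Cfsg.Agent.Helper4.F42MDat

/-! generated permutation model, checks: F42M -/

set_option autoImplicit false
set_option Elab.async false
set_option maxRecDepth 1000000

namespace Cfsg.Agent.Helper4.F42M
open Cfsg.Agent.Helper5.TC Cfsg.Agent.Helper5.TCI Cfsg.Agent.Helper5.LP

theorem invc_3_0 : invRowFI mT 139776 3 2 125000 0 = true := by decide +kernel

theorem fixc_142_0 : fixPtsF W_142 62500 0 = true := by decide +kernel

theorem fixc_65_43476 : fixPtsF W_65 10869 43476 = true := by decide +kernel

theorem fixc_77_43476 : fixPtsF W_77 10869 43476 = true := by decide +kernel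

theorem fixc_93_43476 : fixPtsF W_93 10869 43476 = true := by decide +kernel

theorem fixc_37_45452 : fixPtsF W_37 11363 45452 = true := by decide +kernel

theorem fixc_49_45452 : fixPtsF W_49 11363 45452 = true := by decide +kernel

theorem fixc_144_29410 : fixPtsF W_144 14705 29410 = true := by decide +kernel

theorem fixc_25_11904 : fixPtsF W_25 11904 11904 = true := by decide +kernel

theorem fixc_118_35712 : fixPtsF W_118 8928 35712 = true := by decide +kernel

theorem fixc_128_53568 : fixPtsF W_128 8928 53568 = true := by decide +kernel

theorem fixc_120_62496 : fixPtsF W_120 7392 62496 = true := by decide +kernel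

theorem fixc_126_62496 : fixPtsF W_126 7392 62496 = true := by decide +kernel

end Cfsg.Agent.Helper4.F42M
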