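import Cfsg.Agent.Helper4.F42MDat

/-! generated permutation model, checks: F42M -/

set_option autoImplicit false
set_option Elab.async false
set_option maxRecDepth 1000000

namespace Cfsg.Agent.Helper4.F42M
open Cfsg.Agent.Helper5.TC Cfsg.Agent.Helper5.TCI Cfsg.Agent.Helper5.LP

theorem fixc_8_37500 : fixPtsF W_8 12500 37500 = true := by decide +kernel

theorem fixc_108_28845 : fixPtsF W_108 9615 28845 = true := by decide +kernel

theorem fixc_58_10869 : fixPtsF W_58 10869 10869 = true := by decide +kernel

theorem fixc_66_21738 : fixPtsF W_66 10869 21738 = true := by decide +kernel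

theorem fixc_78_21738 : fixPtsF W_78 10869 21738 = true := by decide +kernel

theorem fixc_94_21738 : fixPtsF W_94 10869 21738 = true := by decide +kernel

theorem fixc_43_45452 : fixPtsF W_43 11363 45452 = true := by decide +kernel

theorem fixc_55_45452 : fixPtsF W_55 11363 45452 = true := by decide +kernel

theorem fixc_17_47616 : fixPtsF W_17 11904 47616 = true := by decide +kernel

theorem fixc_97_52080 : fixPtsF W_97 10416 52080 = true := by decide +kernel

theorem fixc_123_35712 : fixPtsF W_123 8928 35712 = true := by decide +kernel

theorem fixc_5_26314 : fixPtsF W_5 13157 26314 = true := by decide +kernel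

theorem fixc_65_65214 : fixPtsF W_65 4674 65214 = true := by decide +kernel

theorem fixc_39_68178 : fixPtsF W_39 1710 68178 = true := by decide +kernel

end Cfsg.Agent.Helper4.F42M
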