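import Cfsg.Agent.Helper4.F42MDat

/-! generated permutation model, checks: F42M -/

set_option autoImplicit false
set_option Elab.async false
set_option maxRecDepth 1000000

namespace Cfsg.Agent.Helper4.F42M
open Cfsg.Agent.Helper5.TC Cfsg.Agent.Helper5.TCI Cfsg.Agent.Helper5.LP

theorem fixc_8_50000 : fixPtsF W_8 12500 50000 = true := by decide +kernel

theorem fixc_108_38460 : fixPtsF W_108 9615 38460 = true := by decide +kernel

theorem fixc_58_21738 : fixPtsF W_58 10869 21738 = true := by decide +kernel

theorem fixc_66_32607 : fixPtsF W_66 10869 32607 = true := by decide +kernel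

theorem fixc_78_32607 : fixPtsF W_78 10869 32607 = true := by decide +kernel

theorem fixc_94_32607 : fixPtsF W_94 10869 32607 = true := by decide +kernel

theorem fixc_43_56815 : fixPtsF W_43 11363 56815 = true := by decide +kernel

theorem fixc_55_56815 : fixPtsF W_55 11363 56815 = true := by decide +kernel

theorem fixc_18_0 : fixPtsF W_18 11904 0 = true := by decide +kernel

theorem fixc_98_0 : fixPtsF W_98 10416 0 = true := by decide +kernel

theorem fixc_123_44640 : fixPtsF W_123 8928 44640 = true := by decide +kernel

theorem fixc_5_39471 : fixPtsF W_5 13157 39471 = true := by decide +kernel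

theorem fixc_66_65214 : fixPtsF W_66 4674 65214 = true := by decide +kernel

theorem fixc_40_68178 : fixPtsF W_40 1710 68178 = true := by decide +kernel

end Cfsg.Agent.Helper4.F42M
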