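import Cfsg.Agent.Helper4.F42MDat

/-! generated permutation model, checks: F42M -/

set_option autoImplicit false
set_option Elab.async false
set_option maxRecDepth 1000000

namespace Cfsg.Agent.Helper4.F42M
open Cfsg.Agent.Helper5.TC Cfsg.Agent.Helper5.TCI Cfsg.Agent.Helper5.LP

theorem fixc_9_0 : fixPtsF W_9 12500 0 = true := by decide +kernel

theorem fixc_108_48075 : fixPtsF W_108 9615 48075 = true := by decide +kernel

theorem fixc_58_32607 : fixPtsF W_58 10869 32607 = true := by decide +kernel

theorem fixc_66_43476 : fixPtsF W_66 10869 43476 = true := by decide +kernel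

theorem fixc_78_43476 : fixPtsF W_78 10869 43476 = true := by decide +kernel

theorem fixc_94_43476 : fixPtsF W_94 10869 43476 = true := by decide +kernel

theorem fixc_44_0 : fixPtsF W_44 11363 0 = true := by decide +kernel

theorem fixc_56_0 : fixPtsF W_56 11363 0 = true := by decide +kernel

theorem fixc_18_11904 : fixPtsF W_18 11904 11904 = true := by decide +kernel

theorem fixc_98_10416 : fixPtsF W_98 10416 10416 = true := by decide +kernel

theorem fixc_123_53568 : fixPtsF W_123 8928 53568 = true := by decide +kernel

theorem fixc_5_52628 : fixPtsF W_5 13157 52628 = true := by decide +kernel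

theorem fixc_67_65214 : fixPtsF W_67 4674 65214 = true := by decide +kernel

theorem fixc_41_68178 : fixPtsF W_41 1710 68178 = true := by decide +kernel

end Cfsg.Agent.Helper4.F42M
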