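import Cfsg.Agent.Helper4.F42MDat

/-! generated permutation model, checks: F42M -/

set_option autoImplicit false
set_option Elab.async false
set_option maxRecDepth 1000000

namespace Cfsg.Agent.Helper4.F42M
open Cfsg.Agent.Helper5.TC Cfsg.Agent.Helper5.TCI Cfsg.Agent.Helper5.LP

theorem fixc_9_12500 : fixPtsF W_9 12500 12500 = true := by decide +kernel

theorem fixc_108_57690 : fixPtsF W_108 9615 57690 = true := by decide +kernel

theorem fixc_58_43476 : fixPtsF W_58 10869 43476 = true := by decide +kernel

theorem fixc_66_54345 : fixPtsF W_66 10869 54345 = true := by decide +kernel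

theorem fixc_78_54345 : fixPtsF W_78 10869 54345 = true := by decide +kernel

theorem fixc_94_54345 : fixPtsF W_94 10869 54345 = true := by decide +kernel

theorem fixc_44_11363 : fixPtsF W_44 11363 11363 = true := by decide +kernel

theorem fixc_56_11363 : fixPtsF W_56 11363 11363 = true := by decide +kernel

theorem fixc_18_23808 : fixPtsF W_18 11904 23808 = true := by decide +kernel

theorem fixc_98_20832 : fixPtsF W_98 10416 20832 = true := by decide +kernel

theorem fixc_124_0 : fixPtsF W_124 8928 0 = true := by decide +kernel

theorem fixc_6_0 : fixPtsF W_6 13157 0 = true := by decide +kernel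

theorem fixc_68_65214 : fixPtsF W_68 4674 65214 = true := by decide +kernel

theorem fixc_42_68178 : fixPtsF W_42 1710 68178 = true := by decide +kernel

end Cfsg.Agent.Helper4.F42M
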