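import Cfsg.Agent.Helper4.F42MDat

/-! generated permutation model, checks: F42M -/

set_option autoImplicit false
set_option Elab.async false
set_option maxRecDepth 1000000

namespace Cfsg.Agent.Helper4.F42M
open Cfsg.Agent.Helper5.TC Cfsg.Agent.Helper5.TCI Cfsg.Agent.Helper5.LP

theorem fixc_9_25000 : fixPtsF W_9 12500 25000 = true := by decide +kernel

theorem fixc_109_0 : fixPtsF W_109 9615 0 = true := by decide +kernel

theorem fixc_58_54345 : fixPtsF W_58 10869 54345 = true := by decide +kernel

theorem fixc_67_0 : fixPtsF W_67 10869 0 = true := by decide +kernel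

theorem fixc_79_0 : fixPtsF W_79 10869 0 = true := by decide +kernel

theorem fixc_95_0 : fixPtsF W_95 10869 0 = true := by decide +kernel

theorem fixc_44_22726 : fixPtsF W_44 11363 22726 = true := by decide +kernel

theorem fixc_56_22726 : fixPtsF W_56 11363 22726 = true := by decide +kernel

theorem fixc_18_35712 : fixPtsF W_18 11904 35712 = true := by decide +kernel

theorem fixc_98_31248 : fixPtsF W_98 10416 31248 = true := by decide +kernel

theorem fixc_124_8928 : fixPtsF W_124 8928 8928 = true := by decide +kernel

theorem fixc_6_13157 : fixPtsF W_6 13157 13157 = true := by decide +kernel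

theorem fixc_69_65214 : fixPtsF W_69 4674 65214 = true := by decide +kernel

theorem fixc_43_68178 : fixPtsF W_43 1710 68178 = true := by decide +kernel

end Cfsg.Agent.Helper4.F42M
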