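import Cfsg.Agent.Helper4.F42MDat

/-! generated permutation model, checks: F42M -/

set_option autoImplicit false
set_option Elab.async false
set_option maxRecDepth 1000000

namespace Cfsg.Agent.Helper4.F42M
open Cfsg.Agent.Helper5.TC Cfsg.Agent.Helper5.TCI Cfsg.Agent.Helper5.LP

theorem fixc_9_37500 : fixPtsF W_9 12500 37500 = true := by decide +kernel

theorem fixc_109_9615 : fixPtsF W_109 9615 9615 = true := by decide +kernel

theorem fixc_59_0 : fixPtsF W_59 10869 0 = true := by decide +kernel

theorem fixc_67_10869 : fixPtsF W_67 10869 10869 = true := by decide +kernel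

theorem fixc_79_10869 : fixPtsF W_79 10869 10869 = true := by decide +kernel

theorem fixc_95_10869 : fixPtsF W_95 10869 10869 = true := by decide +kernel

theorem fixc_44_34089 : fixPtsF W_44 11363 34089 = true := by decide +kernel

theorem fixc_56_34089 : fixPtsF W_56 11363 34089 = true := by decide +kernel

theorem fixc_18_47616 : fixPtsF W_18 11904 47616 = true := by decide +kernel

theorem fixc_98_41664 : fixPtsF W_98 10416 41664 = true := by decide +kernel

theorem fixc_124_17856 : fixPtsF W_124 8928 17856 = true := by decide +kernel

theorem fixc_6_26314 : fixPtsF W_6 13157 26314 = true := by decide +kernel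

theorem fixc_70_65214 : fixPtsF W_70 4674 65214 = true := by decide +kernel

theorem fixc_44_68178 : fixPtsF W_44 1710 68178 = true := by decide +kernel

end Cfsg.Agent.Helper4.F42M
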