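import Cfsg.Agent.Helper4.F42MDat

/-! generated permutation model, checks: F42M -/

set_option autoImplicit false
set_option Elab.async false
set_option maxRecDepth 1000000

namespace Cfsg.Agent.Helper4.F42M
open Cfsg.Agent.Helper5.TC Cfsg.Agent.Helper5.TCI Cfsg.Agent.Helper5.LP

theorem fixc_9_50000 : fixPtsF W_9 12500 50000 = true := by decide +kernel

theorem fixc_109_19230 : fixPtsF W_109 9615 19230 = true := by decide +kernel

theorem fixc_59_10869 : fixPtsF W_59 10869 10869 = true := by decide +kernel

theorem fixc_67_21738 : fixPtsF W_67 10869 21738 = true := by decide +kernel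

theorem fixc_79_21738 : fixPtsF W_79 10869 21738 = true := by decide +kernel

theorem fixc_95_21738 : fixPtsF W_95 10869 21738 = true := by decide +kernel

theorem fixc_44_45452 : fixPtsF W_44 11363 45452 = true := by decide +kernel

theorem fixc_56_45452 : fixPtsF W_56 11363 45452 = true := by decide +kernel

theorem fixc_19_0 : fixPtsF W_19 11904 0 = true := by decide +kernel

theorem fixc_98_52080 : fixPtsF W_98 10416 52080 = true := by decide +kernel

theorem fixc_124_26784 : fixPtsF W_124 8928 26784 = true := by decide +kernel

theorem fixc_6_39471 : fixPtsF W_6 13157 39471 = true := by decide +kernel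

theorem fixc_71_65214 : fixPtsF W_71 4674 65214 = true := by decide +kernel

theorem fixc_45_68178 : fixPtsF W_45 1710 68178 = true := by decide +kernel

end Cfsg.Agent.Helper4.F42M
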