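import Cfsg.Agent.Helper4.F42MDat

/-! generated permutation model, checks: F42M -/

set_option autoImplicit false
set_option Elab.async false
set_option maxRecDepth 1000000

namespace Cfsg.Agent.Helper4.F42M
open Cfsg.Agent.Helper5.TC Cfsg.Agent.Helper5.TCI Cfsg.Agent.Helper5.LP

theorem fixc_10_0 : fixPtsF W_10 12500 0 = true := by decide +kernel

theorem fixc_109_28845 : fixPtsF W_109 9615 28845 = true := by decide +kernel

theorem fixc_59_21738 : fixPtsF W_59 10869 21738 = true := by decide +kernel

theorem fixc_67_32607 : fixPtsF W_67 10869 32607 = true := by decide +kernel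

theorem fixc_79_32607 : fixPtsF W_79 10869 32607 = true := by decide +kernel

theorem fixc_95_32607 : fixPtsF W_95 10869 32607 = true := by decide +kernel

theorem fixc_44_56815 : fixPtsF W_44 11363 56815 = true := by decide +kernel

theorem fixc_56_56815 : fixPtsF W_56 11363 56815 = true := by decide +kernel

theorem fixc_19_11904 : fixPtsF W_19 11904 11904 = true := by decide +kernel

theorem fixc_103_0 : fixPtsF W_103 10416 0 = true := by decide +kernel

theorem fixc_124_35712 : fixPtsF W_124 8928 35712 = true := by decide +kernel

theorem fixc_6_52628 : fixPtsF W_6 13157 52628 = true := by decide +kernel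

theorem fixc_72_65214 : fixPtsF W_72 4674 65214 = true := by decide +kernel

theorem fixc_46_68178 : fixPtsF W_46 1710 68178 = true := by decide +kernel

end Cfsg.Agent.Helper4.F42M
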