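import Cfsg.Agent.Helper4.F42MDat

/-! generated permutation model, checks: F42M -/

set_option autoImplicit false
set_option Elab.async false
set_option maxRecDepth 1000000

namespace Cfsg.Agent.Helper4.F42M
open Cfsg.Agent.Helper5.TC Cfsg.Agent.Helper5.TCI Cfsg.Agent.Helper5.LP

theorem fixc_10_12500 : fixPtsF W_10 12500 12500 = true := by decide +kernel

theorem fixc_109_38460 : fixPtsF W_109 9615 38460 = true := by decide +kernel

theorem fixc_59_32607 : fixPtsF W_59 10869 32607 = true := by decide +kernel

theorem fixc_67_43476 : fixPtsF W_67 10869 43476 = true := by decide +kernel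

theorem fixc_79_43476 : fixPtsF W_79 10869 43476 = true := by decide +kernel

theorem fixc_95_43476 : fixPtsF W_95 10869 43476 = true := by decide +kernel

theorem fixc_45_0 : fixPtsF W_45 11363 0 = true := by decide +kernel

theorem fixc_57_0 : fixPtsF W_57 11363 0 = true := by decide +kernel

theorem fixc_19_23808 : fixPtsF W_19 11904 23808 = true := by decide +kernel

theorem fixc_103_10416 : fixPtsF W_103 10416 10416 = true := by decide +kernel

theorem fixc_124_44640 : fixPtsF W_124 8928 44640 = true := by decide +kernel

theorem fixc_99_60000 : fixPtsF W_99 9888 60000 = true := by decide +kernel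

theorem fixc_60_65214 : fixPtsF W_60 4674 65214 = true := by decide +kernel

theorem fixc_34_68178 : fixPtsF W_34 1710 68178 = true := by decide +kernel

end Cfsg.Agent.Helper4.F42M
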