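import Cfsg.Agent.Helper4.F42MDat

/-! generated permutation model, checks: F42M -/

set_option autoImplicit false
set_option Elab.async false
set_option maxRecDepth 1000000

namespace Cfsg.Agent.Helper4.F42M
open Cfsg.Agent.Helper5.TC Cfsg.Agent.Helper5.TCI Cfsg.Agent.Helper5.LP

theorem fixc_10_25000 : fixPtsF W_10 12500 25000 = true := by decide +kernel

theorem fixc_109_48075 : fixPtsF W_109 9615 48075 = true := by decide +kernel

theorem fixc_59_43476 : fixPtsF W_59 10869 43476 = true := by decide +kernel

theorem fixc_67_54345 : fixPtsF W_67 10869 54345 = true := by decide +kernel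

theorem fixc_79_54345 : fixPtsF W_79 10869 54345 = true := by decide +kernel

theorem fixc_95_54345 : fixPtsF W_95 10869 54345 = true := by decide +kernel

theorem fixc_45_11363 : fixPtsF W_45 11363 11363 = true := by decide +kernel

theorem fixc_57_11363 : fixPtsF W_57 11363 11363 = true := by decide +kernel

theorem fixc_19_35712 : fixPtsF W_19 11904 35712 = true := by decide +kernel

theorem fixc_103_20832 : fixPtsF W_103 10416 20832 = true := by decide +kernel

theorem fixc_124_53568 : fixPtsF W_124 8928 53568 = true := by decide +kernel

theorem fixc_100_60000 : fixPtsF W_100 9888 60000 = true := by decide +kernel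

theorem fixc_61_65214 : fixPtsF W_61 4674 65214 = true := by decide +kernel

theorem fixc_35_68178 : fixPtsF W_35 1710 68178 = true := by decide +kernel

end Cfsg.Agent.Helper4.F42M
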