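import Cfsg.Agent.Helper4.F42MDat

/-! generated permutation model, checks: F42M -/

set_option autoImplicit false
set_option Elab.async false
set_option maxRecDepth 1000000

namespace Cfsg.Agent.Helper4.F42M
open Cfsg.Agent.Helper5.TC Cfsg.Agent.Helper5.TCI Cfsg.Agent.Helper5.LP

theorem invc_4_0 : invRowFI mT 139776 4 5 125000 0 = true := by decide +kernel

theorem fixc_147_0 : fixPtsF W_147 50000 0 = true := by decide +kernel

theorem fixc_65_54345 : fixPtsF W_65 10869 54345 = true := by decide +kernel

theorem fixc_77_54345 : fixPtsF W_77 10869 54345 = true := by decide +kernel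

theorem fixc_93_54345 : fixPtsF W_93 10869 54345 = true := by decide +kernel

theorem fixc_37_56815 : fixPtsF W_37 11363 56815 = true := by decide +kernel

theorem fixc_49_56815 : fixPtsF W_49 11363 56815 = true := by decide +kernel

theorem fixc_144_44115 : fixPtsF W_144 14705 44115 = true := by decide +kernel

theorem fixc_25_23808 : fixPtsF W_25 11904 23808 = true := by decide +kernel

theorem fixc_118_44640 : fixPtsF W_118 8928 44640 = true := by decide +kernel

theorem fixc_129_0 : fixPtsF W_129 8928 0 = true := by decide +kernel

theorem fixc_121_62496 : fixPtsF W_121 7392 62496 = true := by decide +kernel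

theorem fixc_127_62496 : fixPtsF W_127 7392 62496 = true := by decide +kernel

end Cfsg.Agent.Helper4.F42M
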