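import Cfsg.Agent.Helper4.F42MDat

/-! generated permutation model, checks: F42M -/

set_option autoImplicit false
set_option Elab.async false
set_option maxRecDepth 1000000

namespace Cfsg.Agent.Helper4.F42M
open Cfsg.Agent.Helper5.TC Cfsg.Agent.Helper5.TCI Cfsg.Agent.Helper5.LP

theorem fixc_10_37500 : fixPtsF W_10 12500 37500 = true := by decide +kernel

theorem fixc_109_57690 : fixPtsF W_109 9615 57690 = true := by decide +kernel

theorem fixc_59_54345 : fixPtsF W_59 10869 54345 = true := by decide +kernel

theorem fixc_68_0 : fixPtsF W_68 10869 0 = true := by decide +kernel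

theorem fixc_80_0 : fixPtsF W_80 10869 0 = true := by decide +kernel

theorem fixc_28_0 : fixPtsF W_28 11363 0 = true := by decide +kernel

theorem fixc_38_11363 : fixPtsF W_38 11363 11363 = true := by decide +kernel

theorem fixc_50_11363 : fixPtsF W_50 11363 11363 = true := by decide +kernel

theorem fixc_11_11904 : fixPtsF W_11 11904 11904 = true := by decide +kernel

theorem fixc_25_35712 : fixPtsF W_25 11904 35712 = true := by decide +kernel

theorem fixc_118_53568 : fixPtsF W_118 8928 53568 = true := by decide +kernel

theorem fixc_129_8928 : fixPtsF W_129 8928 8928 = true := by decide +kernel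

theorem fixc_73_65214 : fixPtsF W_73 4674 65214 = true := by decide +kernel

theorem fixc_47_68178 : fixPtsF W_47 1710 68178 = true := by decide +kernel

end Cfsg.Agent.Helper4.F42M
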