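import Cfsg.Agent.Helper4.F42MDat

/-! generated permutation model, checks: F42M -/

set_option autoImplicit false
set_option Elab.async false
set_option maxRecDepth 1000000

namespace Cfsg.Agent.Helper4.F42M
open Cfsg.Agent.Helper5.TC Cfsg.Agent.Helper5.TCI Cfsg.Agent.Helper5.LP

theorem fixc_10_50000 : fixPtsF W_10 12500 50000 = true := by decide +kernel

theorem fixc_110_0 : fixPtsF W_110 9615 0 = true := by decide +kernel

theorem fixc_60_0 : fixPtsF W_60 10869 0 = true := by decide +kernel

theorem fixc_68_10869 : fixPtsF W_68 10869 10869 = true := by decide +kernel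

theorem fixc_80_10869 : fixPtsF W_80 10869 10869 = true := by decide +kernel

theorem fixc_28_11363 : fixPtsF W_28 11363 11363 = true := by decide +kernel

theorem fixc_38_22726 : fixPtsF W_38 11363 22726 = true := by decide +kernel

theorem fixc_50_22726 : fixPtsF W_50 11363 22726 = true := by decide +kernel

theorem fixc_11_23808 : fixPtsF W_11 11904 23808 = true := by decide +kernel

theorem fixc_25_47616 : fixPtsF W_25 11904 47616 = true := by decide +kernel

theorem fixc_119_0 : fixPtsF W_119 8928 0 = true := by decide +kernel

theorem fixc_129_17856 : fixPtsF W_129 8928 17856 = true := by decide +kernel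

theorem fixc_74_65214 : fixPtsF W_74 4674 65214 = true := by decide +kernel

theorem fixc_48_68178 : fixPtsF W_48 1710 68178 = true := by decide +kernel

end Cfsg.Agent.Helper4.F42M
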