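import Cfsg.Agent.Helper4.F42MDat

/-! generated permutation model, checks: F42M -/

set_option autoImplicit false
set_option Elab.async false
set_option maxRecDepth 1000000

namespace Cfsg.Agent.Helper4.F42M
open Cfsg.Agent.Helper5.TC Cfsg.Agent.Helper5.TCI Cfsg.Agent.Helper5.LP

theorem fixc_99_10000 : fixPtsF W_99 10000 10000 = true := by decide +kernel

theorem fixc_110_19230 : fixPtsF W_110 9615 19230 = true := by decide +kernel

theorem fixc_60_21738 : fixPtsF W_60 10869 21738 = true := by decide +kernel

theorem fixc_68_32607 : fixPtsF W_68 10869 32607 = true := by decide +kernel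

theorem fixc_80_32607 : fixPtsF W_80 10869 32607 = true := by decide +kernel

theorem fixc_28_34089 : fixPtsF W_28 11363 34089 = true := by decide +kernel

theorem fixc_38_45452 : fixPtsF W_38 11363 45452 = true := by decide +kernel

theorem fixc_50_45452 : fixPtsF W_50 11363 45452 = true := by decide +kernel

theorem fixc_11_47616 : fixPtsF W_11 11904 47616 = true := by decide +kernel

theorem fixc_26_11904 : fixPtsF W_26 11904 11904 = true := by decide +kernel

theorem fixc_119_17856 : fixPtsF W_119 8928 17856 = true := by decide +kernel

theorem fixc_129_35712 : fixPtsF W_129 8928 35712 = true := by decide +kernel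

theorem fixc_76_65214 : fixPtsF W_76 4674 65214 = true := by decide +kernel

theorem fixc_50_68178 : fixPtsF W_50 1710 68178 = true := by decide +kernel

end Cfsg.Agent.Helper4.F42M
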