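import Cfsg.Agent.Helper4.F42MDat

/-! generated permutation model, checks: F42M -/

set_option autoImplicit false
set_option Elab.async false
set_option maxRecDepth 1000000

namespace Cfsg.Agent.Helper4.F42M
open Cfsg.Agent.Helper5.TC Cfsg.Agent.Helper5.TCI Cfsg.Agent.Helper5.LP

theorem fixc_99_20000 : fixPtsF W_99 10000 20000 = true := by decide +kernel

theorem fixc_110_28845 : fixPtsF W_110 9615 28845 = true := by decide +kernel

theorem fixc_60_32607 : fixPtsF W_60 10869 32607 = true := by decide +kernel

theorem fixc_68_43476 : fixPtsF W_68 10869 43476 = true := by decide +kernel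

theorem fixc_80_43476 : fixPtsF W_80 10869 43476 = true := by decide +kernel

theorem fixc_28_45452 : fixPtsF W_28 11363 45452 = true := by decide +kernel

theorem fixc_38_56815 : fixPtsF W_38 11363 56815 = true := by decide +kernel

theorem fixc_50_56815 : fixPtsF W_50 11363 56815 = true := by decide +kernel

theorem fixc_12_0 : fixPtsF W_12 11904 0 = true := by decide +kernel

theorem fixc_26_23808 : fixPtsF W_26 11904 23808 = true := by decide +kernel

theorem fixc_119_26784 : fixPtsF W_119 8928 26784 = true := by decide +kernel

theorem fixc_129_44640 : fixPtsF W_129 8928 44640 = true := by decide +kernel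

theorem fixc_77_65214 : fixPtsF W_77 4674 65214 = true := by decide +kernel

theorem fixc_51_68178 : fixPtsF W_51 1710 68178 = true := by decide +kernel

end Cfsg.Agent.Helper4.F42M
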