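import Cfsg.Agent.Helper4.F42MDat

/-! generated permutation model, checks: F42M -/

set_option autoImplicit false
set_option Elab.async false
set_option maxRecDepth 1000000

namespace Cfsg.Agent.Helper4.F42M
open Cfsg.Agent.Helper5.TC Cfsg.Agent.Helper5.TCI Cfsg.Agent.Helper5.LP

theorem fixc_99_30000 : fixPtsF W_99 10000 30000 = true := by decide +kernel

theorem fixc_110_38460 : fixPtsF W_110 9615 38460 = true := by decide +kernel

theorem fixc_60_43476 : fixPtsF W_60 10869 43476 = true := by decide +kernel

theorem fixc_68_54345 : fixPtsF W_68 10869 54345 = true := by decide +kernel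

theorem fixc_80_54345 : fixPtsF W_80 10869 54345 = true := by decide +kernel

theorem fixc_28_56815 : fixPtsF W_28 11363 56815 = true := by decide +kernel

theorem fixc_39_0 : fixPtsF W_39 11363 0 = true := by decide +kernel

theorem fixc_51_0 : fixPtsF W_51 11363 0 = true := by decide +kernel

theorem fixc_12_11904 : fixPtsF W_12 11904 11904 = true := by decide +kernel

theorem fixc_26_35712 : fixPtsF W_26 11904 35712 = true := by decide +kernel

theorem fixc_119_35712 : fixPtsF W_119 8928 35712 = true := by decide +kernel

theorem fixc_129_53568 : fixPtsF W_129 8928 53568 = true := by decide +kernel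

theorem fixc_78_65214 : fixPtsF W_78 4674 65214 = true := by decide +kernel

theorem fixc_52_68178 : fixPtsF W_52 1710 68178 = true := by decide +kernel

end Cfsg.Agent.Helper4.F42M
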