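import Cfsg.Agent.Helper4.F42MDat

/-! generated permutation model, checks: F42M -/

set_option autoImplicit false
set_option Elab.async false
set_option maxRecDepth 1000000

namespace Cfsg.Agent.Helper4.F42M
open Cfsg.Agent.Helper5.TC Cfsg.Agent.Helper5.TCI Cfsg.Agent.Helper5.LP

theorem fixc_99_40000 : fixPtsF W_99 10000 40000 = true := by decide +kernel

theorem fixc_110_48075 : fixPtsF W_110 9615 48075 = true := by decide +kernel

theorem fixc_60_54345 : fixPtsF W_60 10869 54345 = true := by decide +kernel

theorem fixc_69_0 : fixPtsF W_69 10869 0 = true := by decide +kernel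

theorem fixc_81_0 : fixPtsF W_81 10869 0 = true := by decide +kernel

theorem fixc_29_0 : fixPtsF W_29 11363 0 = true := by decide +kernel

theorem fixc_39_11363 : fixPtsF W_39 11363 11363 = true := by decide +kernel

theorem fixc_51_11363 : fixPtsF W_51 11363 11363 = true := by decide +kernel

theorem fixc_12_23808 : fixPtsF W_12 11904 23808 = true := by decide +kernel

theorem fixc_26_47616 : fixPtsF W_26 11904 47616 = true := by decide +kernel

theorem fixc_119_44640 : fixPtsF W_119 8928 44640 = true := by decide +kernel

theorem fixc_130_0 : fixPtsF W_130 8928 0 = true := by decide +kernel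

theorem fixc_79_65214 : fixPtsF W_79 4674 65214 = true := by decide +kernel

theorem fixc_53_68178 : fixPtsF W_53 1710 68178 = true := by decide +kernel

end Cfsg.Agent.Helper4.F42M
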