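import Cfsg.Agent.Helper4.F42MDat

/-! generated permutation model, checks: F42M -/

set_option autoImplicit false
set_option Elab.async false
set_option maxRecDepth 1000000

namespace Cfsg.Agent.Helper4.F42M
open Cfsg.Agent.Helper5.TC Cfsg.Agent.Helper5.TCI Cfsg.Agent.Helper5.LP

theorem fixc_99_50000 : fixPtsF W_99 10000 50000 = true := by decide +kernel

theorem fixc_110_57690 : fixPtsF W_110 9615 57690 = true := by decide +kernel

theorem fixc_61_0 : fixPtsF W_61 10869 0 = true := by decide +kernel

theorem fixc_69_10869 : fixPtsF W_69 10869 10869 = true := by decide +kernel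

theorem fixc_81_10869 : fixPtsF W_81 10869 10869 = true := by decide +kernel

theorem fixc_29_11363 : fixPtsF W_29 11363 11363 = true := by decide +kernel

theorem fixc_39_22726 : fixPtsF W_39 11363 22726 = true := by decide +kernel

theorem fixc_51_22726 : fixPtsF W_51 11363 22726 = true := by decide +kernel

theorem fixc_12_35712 : fixPtsF W_12 11904 35712 = true := by decide +kernel

theorem fixc_27_0 : fixPtsF W_27 11904 0 = true := by decide +kernel

theorem fixc_119_53568 : fixPtsF W_119 8928 53568 = true := by decide +kernel

theorem fixc_130_8928 : fixPtsF W_130 8928 8928 = true := by decide +kernel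

theorem fixc_80_65214 : fixPtsF W_80 4674 65214 = true := by decide +kernel

theorem fixc_54_68178 : fixPtsF W_54 1710 68178 = true := by decide +kernel

end Cfsg.Agent.Helper4.F42M
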