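import Cfsg.Agent.Helper4.F42MDat

/-! generated permutation model, checks: F42M -/

set_option autoImplicit false
set_option Elab.async false
set_option maxRecDepth 1000000

namespace Cfsg.Agent.Helper4.F42M
open Cfsg.Agent.Helper5.TC Cfsg.Agent.Helper5.TCI Cfsg.Agent.Helper5.LP

theorem fixc_100_0 : fixPtsF W_100 10000 0 = true := by decide +kernel

theorem fixc_111_0 : fixPtsF W_111 9615 0 = true := by decide +kernel

theorem fixc_61_10869 : fixPtsF W_61 10869 10869 = true := by decide +kernel

theorem fixc_69_21738 : fixPtsF W_69 10869 21738 = true := by decide +kernel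

theorem fixc_81_21738 : fixPtsF W_81 10869 21738 = true := by decide +kernel

theorem fixc_29_22726 : fixPtsF W_29 11363 22726 = true := by decide +kernel

theorem fixc_39_34089 : fixPtsF W_39 11363 34089 = true := by decide +kernel

theorem fixc_51_34089 : fixPtsF W_51 11363 34089 = true := by decide +kernel

theorem fixc_12_47616 : fixPtsF W_12 11904 47616 = true := by decide +kernel

theorem fixc_27_11904 : fixPtsF W_27 11904 11904 = true := by decide +kernel

theorem fixc_120_0 : fixPtsF W_120 8928 0 = true := by decide +kernel

theorem fixc_130_17856 : fixPtsF W_130 8928 17856 = true := by decide +kernel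

theorem fixc_81_65214 : fixPtsF W_81 4674 65214 = true := by decide +kernel

theorem fixc_55_68178 : fixPtsF W_55 1710 68178 = true := by decide +kernel

end Cfsg.Agent.Helper4.F42M
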