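import Cfsg.Agent.Helper4.F42MDat

/-! generated permutation model, checks: F42M -/

set_option autoImplicit false
set_option Elab.async false
set_option maxRecDepth 1000000

namespace Cfsg.Agent.Helper4.F42M
open Cfsg.Agent.Helper5.TC Cfsg.Agent.Helper5.TCI Cfsg.Agent.Helper5.LP

theorem fixc_100_10000 : fixPtsF W_100 10000 10000 = true := by decide +kernel

theorem fixc_111_9615 : fixPtsF W_111 9615 9615 = true := by decide +kernel

theorem fixc_61_21738 : fixPtsF W_61 10869 21738 = true := by decide +kernel

theorem fixc_69_32607 : fixPtsF W_69 10869 32607 = true := by decide +kernel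

theorem fixc_81_32607 : fixPtsF W_81 10869 32607 = true := by decide +kernel

theorem fixc_29_34089 : fixPtsF W_29 11363 34089 = true := by decide +kernel

theorem fixc_39_45452 : fixPtsF W_39 11363 45452 = true := by decide +kernel

theorem fixc_51_45452 : fixPtsF W_51 11363 45452 = true := by decide +kernel

theorem fixc_13_0 : fixPtsF W_13 11904 0 = true := by decide +kernel

theorem fixc_27_23808 : fixPtsF W_27 11904 23808 = true := by decide +kernel

theorem fixc_120_8928 : fixPtsF W_120 8928 8928 = true := by decide +kernel

theorem fixc_130_26784 : fixPtsF W_130 8928 26784 = true := by decide +kernel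

theorem fixc_82_65214 : fixPtsF W_82 4674 65214 = true := by decide +kernel

theorem fixc_56_68178 : fixPtsF W_56 1710 68178 = true := by decide +kernel

end Cfsg.Agent.Helper4.F42M
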