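import Cfsg.Agent.Helper4.F42MDat

/-! generated permutation model, checks: F42M -/

set_option autoImplicit false
set_option Elab.async false
set_option maxRecDepth 1000000

namespace Cfsg.Agent.Helper4.F42M
open Cfsg.Agent.Helper5.TC Cfsg.Agent.Helper5.TCI Cfsg.Agent.Helper5.LP

theorem invc_5_0 : invRowFI mT 139776 5 4 125000 0 = true := by decide +kernel

theorem fixc_149_0 : fixPtsF W_149 125000 0 = true := by decide +kernel

theorem fixc_66_0 : fixPtsF W_66 10869 0 = true := by decide +kernel

theorem fixc_78_0 : fixPtsF W_78 10869 0 = true := by decide +kernel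

theorem fixc_94_0 : fixPtsF W_94 10869 0 = true := by decide +kernel

theorem fixc_38_0 : fixPtsF W_38 11363 0 = true := by decide +kernel

theorem fixc_50_0 : fixPtsF W_50 11363 0 = true := by decide +kernel

theorem fixc_11_0 : fixPtsF W_11 11904 0 = true := by decide +kernel

theorem fixc_24_23808 : fixPtsF W_24 11904 23808 = true := by decide +kernel

theorem fixc_118_0 : fixPtsF W_118 8928 0 = true := by decide +kernel

theorem fixc_128_17856 : fixPtsF W_128 8928 17856 = true := by decide +kernel

theorem fixc_116_62496 : fixPtsF W_116 7392 62496 = true := by decide +kernel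

theorem fixc_122_62496 : fixPtsF W_122 7392 62496 = true := by decide +kernel

end Cfsg.Agent.Helper4.F42M
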