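import Cfsg.Agent.Helper4.F42MDat

/-! generated permutation model, checks: F42M -/

set_option autoImplicit false
set_option Elab.async false
set_option maxRecDepth 1000000

namespace Cfsg.Agent.Helper4.F42M
open Cfsg.Agent.Helper5.TC Cfsg.Agent.Helper5.TCI Cfsg.Agent.Helper5.LP

theorem fixc_100_20000 : fixPtsF W_100 10000 20000 = true := by decide +kernel

theorem fixc_111_19230 : fixPtsF W_111 9615 19230 = true := by decide +kernel

theorem fixc_61_32607 : fixPtsF W_61 10869 32607 = true := by decide +kernel

theorem fixc_69_43476 : fixPtsF W_69 10869 43476 = true := by decide +kernel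

theorem fixc_81_43476 : fixPtsF W_81 10869 43476 = true := by decide +kernel

theorem fixc_29_45452 : fixPtsF W_29 11363 45452 = true := by decide +kernel

theorem fixc_39_56815 : fixPtsF W_39 11363 56815 = true := by decide +kernel

theorem fixc_51_56815 : fixPtsF W_51 11363 56815 = true := by decide +kernel

theorem fixc_13_11904 : fixPtsF W_13 11904 11904 = true := by decide +kernel

theorem fixc_27_35712 : fixPtsF W_27 11904 35712 = true := by decide +kernel

theorem fixc_120_17856 : fixPtsF W_120 8928 17856 = true := by decide +kernel

theorem fixc_130_35712 : fixPtsF W_130 8928 35712 = true := by decide +kernel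

theorem fixc_83_65214 : fixPtsF W_83 4674 65214 = true := by decide +kernel

theorem fixc_57_68178 : fixPtsF W_57 1710 68178 = true := by decide +kernel

end Cfsg.Agent.Helper4.F42M
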