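import Cfsg.Agent.Helper4.F42MDat

/-! generated permutation model, checks: F42M -/

set_option autoImplicit false
set_option Elab.async false
set_option maxRecDepth 1000000

namespace Cfsg.Agent.Helper4.F42M
open Cfsg.Agent.Helper5.TC Cfsg.Agent.Helper5.TCI Cfsg.Agent.Helper5.LP

theorem fixc_100_30000 : fixPtsF W_100 10000 30000 = true := by decide +kernel

theorem fixc_111_28845 : fixPtsF W_111 9615 28845 = true := by decide +kernel

theorem fixc_61_43476 : fixPtsF W_61 10869 43476 = true := by decide +kernel

theorem fixc_69_54345 : fixPtsF W_69 10869 54345 = true := by decide +kernel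

theorem fixc_81_54345 : fixPtsF W_81 10869 54345 = true := by decide +kernel

theorem fixc_29_56815 : fixPtsF W_29 11363 56815 = true := by decide +kernel

theorem fixc_40_0 : fixPtsF W_40 11363 0 = true := by decide +kernel

theorem fixc_52_0 : fixPtsF W_52 11363 0 = true := by decide +kernel

theorem fixc_13_23808 : fixPtsF W_13 11904 23808 = true := by decide +kernel

theorem fixc_27_47616 : fixPtsF W_27 11904 47616 = true := by decide +kernel

theorem fixc_120_26784 : fixPtsF W_120 8928 26784 = true := by decide +kernel

theorem fixc_130_44640 : fixPtsF W_130 8928 44640 = true := by decide +kernel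

theorem fixc_84_65214 : fixPtsF W_84 4674 65214 = true := by decide +kernel

theorem fixc_88_68178 : fixPtsF W_88 1710 68178 = true := by decide +kernel

end Cfsg.Agent.Helper4.F42M
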