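import Cfsg.Agent.Helper4.F42MDat

/-! generated permutation model, checks: F42M -/

set_option autoImplicit false
set_option Elab.async false
set_option maxRecDepth 1000000

namespace Cfsg.Agent.Helper4.F42M
open Cfsg.Agent.Helper5.TC Cfsg.Agent.Helper5.TCI Cfsg.Agent.Helper5.LP

theorem fixc_100_40000 : fixPtsF W_100 10000 40000 = true := by decide +kernel

theorem fixc_111_38460 : fixPtsF W_111 9615 38460 = true := by decide +kernel

theorem fixc_61_54345 : fixPtsF W_61 10869 54345 = true := by decide +kernel

theorem fixc_70_0 : fixPtsF W_70 10869 0 = true := by decide +kernel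

theorem fixc_82_0 : fixPtsF W_82 10869 0 = true := by decide +kernel

theorem fixc_30_0 : fixPtsF W_30 11363 0 = true := by decide +kernel

theorem fixc_40_11363 : fixPtsF W_40 11363 11363 = true := by decide +kernel

theorem fixc_52_11363 : fixPtsF W_52 11363 11363 = true := by decide +kernel

theorem fixc_13_35712 : fixPtsF W_13 11904 35712 = true := by decide +kernel

theorem fixc_86_0 : fixPtsF W_86 11904 0 = true := by decide +kernel

theorem fixc_120_35712 : fixPtsF W_120 8928 35712 = true := by decide +kernel

theorem fixc_130_53568 : fixPtsF W_130 8928 53568 = true := by decide +kernel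

theorem fixc_85_65214 : fixPtsF W_85 4674 65214 = true := by decide +kernel

theorem fixc_89_68178 : fixPtsF W_89 1710 68178 = true := by decide +kernel

end Cfsg.Agent.Helper4.F42M
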