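import Cfsg.Agent.Helper4.F42MDat

/-! generated permutation model, checks: F42M -/

set_option autoImplicit false
set_option Elab.async false
set_option maxRecDepth 1000000

namespace Cfsg.Agent.Helper4.F42M
open Cfsg.Agent.Helper5.TC Cfsg.Agent.Helper5.TCI Cfsg.Agent.Helper5.LP

theorem fixc_101_0 : fixPtsF W_101 10000 0 = true := by decide +kernel

theorem fixc_111_57690 : fixPtsF W_111 9615 57690 = true := by decide +kernel

theorem fixc_62_10869 : fixPtsF W_62 10869 10869 = true := by decide +kernel

theorem fixc_70_21738 : fixPtsF W_70 10869 21738 = true := by decide +kernel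

theorem fixc_82_21738 : fixPtsF W_82 10869 21738 = true := by decide +kernel

theorem fixc_30_22726 : fixPtsF W_30 11363 22726 = true := by decide +kernel

theorem fixc_40_34089 : fixPtsF W_40 11363 34089 = true := by decide +kernel

theorem fixc_52_34089 : fixPtsF W_52 11363 34089 = true := by decide +kernel

theorem fixc_14_0 : fixPtsF W_14 11904 0 = true := by decide +kernel

theorem fixc_86_23808 : fixPtsF W_86 11904 23808 = true := by decide +kernel

theorem fixc_120_53568 : fixPtsF W_120 8928 53568 = true := by decide +kernel

theorem fixc_131_8928 : fixPtsF W_131 8928 8928 = true := by decide +kernel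

theorem fixc_91_65214 : fixPtsF W_91 4674 65214 = true := by decide +kernel

theorem invc_1_125000 : invRowFI mT 139776 1 0 14776 125000 = true := by decide +kernel

end Cfsg.Agent.Helper4.F42M
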