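import Cfsg.Agent.Helper4.F42MDat

/-! generated permutation model, checks: F42M -/

set_option autoImplicit false
set_option Elab.async false
set_option maxRecDepth 1000000

namespace Cfsg.Agent.Helper4.F42M
open Cfsg.Agent.Helper5.TC Cfsg.Agent.Helper5.TCI Cfsg.Agent.Helper5.LP

theorem fixc_101_10000 : fixPtsF W_101 10000 10000 = true := by decide +kernel

theorem fixc_112_0 : fixPtsF W_112 9615 0 = true := by decide +kernel

theorem fixc_62_21738 : fixPtsF W_62 10869 21738 = true := by decide +kernel

theorem fixc_70_32607 : fixPtsF W_70 10869 32607 = true := by decide +kernel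

theorem fixc_82_32607 : fixPtsF W_82 10869 32607 = true := by decide +kernel

theorem fixc_30_34089 : fixPtsF W_30 11363 34089 = true := by decide +kernel

theorem fixc_40_45452 : fixPtsF W_40 11363 45452 = true := by decide +kernel

theorem fixc_52_45452 : fixPtsF W_52 11363 45452 = true := by decide +kernel

theorem fixc_14_11904 : fixPtsF W_14 11904 11904 = true := by decide +kernel

theorem fixc_86_35712 : fixPtsF W_86 11904 35712 = true := by decide +kernel

theorem fixc_121_0 : fixPtsF W_121 8928 0 = true := by decide +kernel

theorem fixc_131_17856 : fixPtsF W_131 8928 17856 = true := by decide +kernel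

theorem fixc_92_65214 : fixPtsF W_92 4674 65214 = true := by decide +kernel

theorem invc_2_125000 : invRowFI mT 139776 2 3 14776 125000 = true := by decide +kernel

end Cfsg.Agent.Helper4.F42M
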