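import Cfsg.Agent.Helper4.F42MDat

/-! generated permutation model, checks: F42M -/

set_option autoImplicit false
set_option Elab.async false
set_option maxRecDepth 1000000

namespace Cfsg.Agent.Helper4.F42M
open Cfsg.Agent.Helper5.TC Cfsg.Agent.Helper5.TCI Cfsg.Agent.Helper5.LP

theorem fixc_101_30000 : fixPtsF W_101 10000 30000 = true := by decide +kernel

theorem fixc_112_19230 : fixPtsF W_112 9615 19230 = true := by decide +kernel

theorem fixc_62_43476 : fixPtsF W_62 10869 43476 = true := by decide +kernel

theorem fixc_70_54345 : fixPtsF W_70 10869 54345 = true := by decide +kernel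

theorem fixc_82_54345 : fixPtsF W_82 10869 54345 = true := by decide +kernel

theorem fixc_30_56815 : fixPtsF W_30 11363 56815 = true := by decide +kernel

theorem fixc_41_0 : fixPtsF W_41 11363 0 = true := by decide +kernel

theorem fixc_53_0 : fixPtsF W_53 11363 0 = true := by decide +kernel

theorem fixc_14_35712 : fixPtsF W_14 11904 35712 = true := by decide +kernel

theorem fixc_87_0 : fixPtsF W_87 11904 0 = true := by decide +kernel

theorem fixc_121_17856 : fixPtsF W_121 8928 17856 = true := by decide +kernel

theorem fixc_131_35712 : fixPtsF W_131 8928 35712 = true := by decide +kernel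

theorem fixc_94_65214 : fixPtsF W_94 4674 65214 = true := by decide +kernel

theorem invc_4_125000 : invRowFI mT 139776 4 5 14776 125000 = true := by decide +kernel

end Cfsg.Agent.Helper4.F42M
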