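import Cfsg.Agent.Helper4.F42MDat

/-! generated permutation model, checks: F42M -/

set_option autoImplicit false
set_option Elab.async false
set_option maxRecDepth 1000000

namespace Cfsg.Agent.Helper4.F42M
open Cfsg.Agent.Helper5.TC Cfsg.Agent.Helper5.TCI Cfsg.Agent.Helper5.LP

theorem fixc_101_40000 : fixPtsF W_101 10000 40000 = true := by decide +kernel

theorem fixc_112_28845 : fixPtsF W_112 9615 28845 = true := by decide +kernel

theorem fixc_62_54345 : fixPtsF W_62 10869 54345 = true := by decide +kernel

theorem fixc_71_0 : fixPtsF W_71 10869 0 = true := by decide +kernel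

theorem fixc_83_0 : fixPtsF W_83 10869 0 = true := by decide +kernel

theorem fixc_31_0 : fixPtsF W_31 11363 0 = true := by decide +kernel

theorem fixc_41_11363 : fixPtsF W_41 11363 11363 = true := by decide +kernel

theorem fixc_53_11363 : fixPtsF W_53 11363 11363 = true := by decide +kernel

theorem fixc_14_47616 : fixPtsF W_14 11904 47616 = true := by decide +kernel

theorem fixc_87_11904 : fixPtsF W_87 11904 11904 = true := by decide +kernel

theorem fixc_121_26784 : fixPtsF W_121 8928 26784 = true := by decide +kernel

theorem fixc_131_44640 : fixPtsF W_131 8928 44640 = true := by decide +kernel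

theorem fixc_95_65214 : fixPtsF W_95 4674 65214 = true := by decide +kernel

theorem invc_5_125000 : invRowFI mT 139776 5 4 14776 125000 = true := by decide +kernel

end Cfsg.Agent.Helper4.F42M
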