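import Cfsg.Agent.Helper4.F42MDat

/-! generated permutation model, checks: F42M -/

set_option autoImplicit false
set_option Elab.async false
set_option maxRecDepth 1000000

namespace Cfsg.Agent.Helper4.F42M
open Cfsg.Agent.Helper5.TC Cfsg.Agent.Helper5.TCI Cfsg.Agent.Helper5.LP

theorem fixc_101_50000 : fixPtsF W_101 10000 50000 = true := by decide +kernel

theorem fixc_112_38460 : fixPtsF W_112 9615 38460 = true := by decide +kernel

theorem fixc_63_0 : fixPtsF W_63 10869 0 = true := by decide +kernel

theorem fixc_71_10869 : fixPtsF W_71 10869 10869 = true := by decide +kernel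

theorem fixc_83_10869 : fixPtsF W_83 10869 10869 = true := by decide +kernel

theorem fixc_31_11363 : fixPtsF W_31 11363 11363 = true := by decide +kernel

theorem fixc_41_22726 : fixPtsF W_41 11363 22726 = true := by decide +kernel

theorem fixc_53_22726 : fixPtsF W_53 11363 22726 = true := by decide +kernel

theorem fixc_15_0 : fixPtsF W_15 11904 0 = true := by decide +kernel

theorem fixc_87_23808 : fixPtsF W_87 11904 23808 = true := by decide +kernel

theorem fixc_121_35712 : fixPtsF W_121 8928 35712 = true := by decide +kernel

theorem fixc_131_53568 : fixPtsF W_131 8928 53568 = true := by decide +kernel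

theorem fixc_147_50000 : fixPtsF W_147 19888 50000 = true := by decide +kernel

theorem fixc_33_68178 : fixPtsF W_33 1710 68178 = true := by decide +kernel

end Cfsg.Agent.Helper4.F42M
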