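import Cfsg.Agent.Helper4.F42MDat

/-! generated permutation model, checks: F42M -/

set_option autoImplicit false
set_option Elab.async false
set_option maxRecDepth 1000000

namespace Cfsg.Agent.Helper4.F42M
open Cfsg.Agent.Helper5.TC Cfsg.Agent.Helper5.TCI Cfsg.Agent.Helper5.LP

theorem fixc_102_0 : fixPtsF W_102 12500 0 = true := by decide +kernel

theorem fixc_112_48075 : fixPtsF W_112 9615 48075 = true := by decide +kernel

theorem fixc_63_10869 : fixPtsF W_63 10869 10869 = true := by decide +kernel

theorem fixc_71_21738 : fixPtsF W_71 10869 21738 = true := by decide +kernel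

theorem fixc_83_21738 : fixPtsF W_83 10869 21738 = true := by decide +kernel

theorem fixc_31_22726 : fixPtsF W_31 11363 22726 = true := by decide +kernel

theorem fixc_41_34089 : fixPtsF W_41 11363 34089 = true := by decide +kernel

theorem fixc_53_34089 : fixPtsF W_53 11363 34089 = true := by decide +kernel

theorem fixc_15_11904 : fixPtsF W_15 11904 11904 = true := by decide +kernel

theorem fixc_87_35712 : fixPtsF W_87 11904 35712 = true := by decide +kernel

theorem fixc_121_44640 : fixPtsF W_121 8928 44640 = true := by decide +kernel

theorem fixc_140_0 : fixPtsF W_140 13888 0 = true := by decide +kernel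

theorem fixc_5_65785 : fixPtsF W_5 4103 65785 = true := by decide +kernel

theorem fixc_29_68178 : fixPtsF W_29 1710 68178 = true := by decide +kernel

theorem fixc_142_62500 : fixPtsF W_142 7388 62500 = true := by decide +kernel

end Cfsg.Agent.Helper4.F42M
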