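import Cfsg.Agent.Helper4.F42MDat

/-! generated permutation model, checks: F42M -/

set_option autoImplicit false
set_option Elab.async false
set_option maxRecDepth 1000000

namespace Cfsg.Agent.Helper4.F42M
open Cfsg.Agent.Helper5.TC Cfsg.Agent.Helper5.TCI Cfsg.Agent.Helper5.LP

theorem fixc_102_12500 : fixPtsF W_102 12500 12500 = true := by decide +kernel

theorem fixc_112_57690 : fixPtsF W_112 9615 57690 = true := by decide +kernel

theorem fixc_63_21738 : fixPtsF W_63 10869 21738 = true := by decide +kernel

theorem fixc_71_32607 : fixPtsF W_71 10869 32607 = true := by decide +kernel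

theorem fixc_83_32607 : fixPtsF W_83 10869 32607 = true := by decide +kernel

theorem fixc_31_34089 : fixPtsF W_31 11363 34089 = true := by decide +kernel

theorem fixc_41_45452 : fixPtsF W_41 11363 45452 = true := by decide +kernel

theorem fixc_53_45452 : fixPtsF W_53 11363 45452 = true := by decide +kernel

theorem fixc_15_23808 : fixPtsF W_15 11904 23808 = true := by decide +kernel

theorem fixc_87_47616 : fixPtsF W_87 11904 47616 = true := by decide +kernel

theorem fixc_121_53568 : fixPtsF W_121 8928 53568 = true := by decide +kernel

theorem fixc_140_13888 : fixPtsF W_140 13888 13888 = true := by decide +kernel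

theorem fixc_6_65785 : fixPtsF W_6 4103 65785 = true := by decide +kernel

theorem fixc_30_68178 : fixPtsF W_30 1710 68178 = true := by decide +kernel

theorem fixc_149_125000 : fixPtsF W_149 14776 125000 = true := by decide +kernel

end Cfsg.Agent.Helper4.F42M
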