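import Cfsg.Agent.Helper4.F42MDat

/-! generated permutation model, checks: F42M -/

set_option autoImplicit false
set_option Elab.async false
set_option maxRecDepth 1000000

namespace Cfsg.Agent.Helper4.F42M
open Cfsg.Agent.Helper5.TC Cfsg.Agent.Helper5.TCI Cfsg.Agent.Helper5.LP

theorem fixc_102_25000 : fixPtsF W_102 12500 25000 = true := by decide +kernel

theorem fixc_113_0 : fixPtsF W_113 9615 0 = true := by decide +kernel

theorem fixc_63_32607 : fixPtsF W_63 10869 32607 = true := by decide +kernel

theorem fixc_71_43476 : fixPtsF W_71 10869 43476 = true := by decide +kernel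

theorem fixc_83_43476 : fixPtsF W_83 10869 43476 = true := by decide +kernel

theorem fixc_31_45452 : fixPtsF W_31 11363 45452 = true := by decide +kernel

theorem fixc_41_56815 : fixPtsF W_41 11363 56815 = true := by decide +kernel

theorem fixc_53_56815 : fixPtsF W_53 11363 56815 = true := by decide +kernel

theorem fixc_15_35712 : fixPtsF W_15 11904 35712 = true := by decide +kernel

theorem fixc_96_0 : fixPtsF W_96 10416 0 = true := by decide +kernel

theorem fixc_122_0 : fixPtsF W_122 8928 0 = true := by decide +kernel

theorem fixc_140_27776 : fixPtsF W_140 13888 27776 = true := by decide +kernel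

theorem fixc_105_67305 : fixPtsF W_105 2583 67305 = true := by decide +kernel

theorem fixc_114_67305 : fixPtsF W_114 2583 67305 = true := by decide +kernel

end Cfsg.Agent.Helper4.F42M
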