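import Cfsg.Agent.Helper4.F42MDat

/-! generated permutation model, checks: F42M -/

set_option autoImplicit false
set_option Elab.async false
set_option maxRecDepth 1000000

namespace Cfsg.Agent.Helper4.F42M
open Cfsg.Agent.Helper5.TC Cfsg.Agent.Helper5.TCI Cfsg.Agent.Helper5.LP

theorem fixc_102_37500 : fixPtsF W_102 12500 37500 = true := by decide +kernel

theorem fixc_113_9615 : fixPtsF W_113 9615 9615 = true := by decide +kernel

theorem fixc_63_43476 : fixPtsF W_63 10869 43476 = true := by decide +kernel

theorem fixc_71_54345 : fixPtsF W_71 10869 54345 = true := by decide +kernel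

theorem fixc_83_54345 : fixPtsF W_83 10869 54345 = true := by decide +kernel

theorem fixc_31_56815 : fixPtsF W_31 11363 56815 = true := by decide +kernel

theorem fixc_42_0 : fixPtsF W_42 11363 0 = true := by decide +kernel

theorem fixc_54_0 : fixPtsF W_54 11363 0 = true := by decide +kernel

theorem fixc_15_47616 : fixPtsF W_15 11904 47616 = true := by decide +kernel

theorem fixc_96_10416 : fixPtsF W_96 10416 10416 = true := by decide +kernel

theorem fixc_122_8928 : fixPtsF W_122 8928 8928 = true := by decide +kernel

theorem fixc_140_41664 : fixPtsF W_140 13888 41664 = true := by decide +kernel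

theorem fixc_106_67305 : fixPtsF W_106 2583 67305 = true := by decide +kernel

theorem fixc_115_67305 : fixPtsF W_115 2583 67305 = true := by decide +kernel

end Cfsg.Agent.Helper4.F42M
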