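import Cfsg.Agent.Helper4.F42MDat

/-! generated permutation model, checks: F42M -/

set_option autoImplicit false
set_option Elab.async false
set_option maxRecDepth 1000000

namespace Cfsg.Agent.Helper4.F42M
open Cfsg.Agent.Helper5.TC Cfsg.Agent.Helper5.TCI Cfsg.Agent.Helper5.LP

theorem fixc_102_50000 : fixPtsF W_102 12500 50000 = true := by decide +kernel

theorem fixc_113_19230 : fixPtsF W_113 9615 19230 = true := by decide +kernel

theorem fixc_63_54345 : fixPtsF W_63 10869 54345 = true := by decide +kernel

theorem fixc_72_0 : fixPtsF W_72 10869 0 = true := by decide +kernel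

theorem fixc_84_0 : fixPtsF W_84 10869 0 = true := by decide +kernel

theorem fixc_32_0 : fixPtsF W_32 11363 0 = true := by decide +kernel

theorem fixc_42_11363 : fixPtsF W_42 11363 11363 = true := by decide +kernel

theorem fixc_54_11363 : fixPtsF W_54 11363 11363 = true := by decide +kernel

theorem fixc_16_0 : fixPtsF W_16 11904 0 = true := by decide +kernel

theorem fixc_96_20832 : fixPtsF W_96 10416 20832 = true := by decide +kernel

theorem fixc_122_17856 : fixPtsF W_122 8928 17856 = true := by decide +kernel

theorem fixc_140_55552 : fixPtsF W_140 13888 55552 = true := by decide +kernel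

theorem fixc_107_67305 : fixPtsF W_107 2583 67305 = true := by decide +kernel

theorem fixc_0_125000 : fixPtsF W_0 14776 125000 = true := by decide +kernel

end Cfsg.Agent.Helper4.F42M
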