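import Cfsg.Agent.Helper4.F42MDat

/-! generated permutation model, checks: F42M -/

set_option autoImplicit false
set_option Elab.async false
set_option maxRecDepth 1000000

namespace Cfsg.Agent.Helper4.F42M
open Cfsg.Agent.Helper5.TC Cfsg.Agent.Helper5.TCI Cfsg.Agent.Helper5.LP

theorem fixc_132_0 : fixPtsF W_132 62500 0 = true := by decide +kernel

theorem fixc_113_28845 : fixPtsF W_113 9615 28845 = true := by decide +kernel

theorem fixc_64_0 : fixPtsF W_64 10869 0 = true := by decide +kernel

theorem fixc_72_10869 : fixPtsF W_72 10869 10869 = true := by decide +kernel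

theorem fixc_84_10869 : fixPtsF W_84 10869 10869 = true := by decide +kernel

theorem fixc_32_11363 : fixPtsF W_32 11363 11363 = true := by decide +kernel

theorem fixc_42_22726 : fixPtsF W_42 11363 22726 = true := by decide +kernel

theorem fixc_54_22726 : fixPtsF W_54 11363 22726 = true := by decide +kernel

theorem fixc_16_11904 : fixPtsF W_16 11904 11904 = true := by decide +kernel

theorem fixc_96_31248 : fixPtsF W_96 10416 31248 = true := by decide +kernel

theorem fixc_122_26784 : fixPtsF W_122 8928 26784 = true := by decide +kernel

theorem fixc_143_0 : fixPtsF W_143 10416 0 = true := by decide +kernel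

theorem fixc_108_67305 : fixPtsF W_108 2583 67305 = true := by decide +kernel

theorem fixc_1_125000 : fixPtsF W_1 14776 125000 = true := by decide +kernel

end Cfsg.Agent.Helper4.F42M
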