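import Cfsg.Agent.Helper4.F42MDat

/-! generated permutation model, checks: F42M -/

set_option autoImplicit false
set_option Elab.async false
set_option maxRecDepth 1000000

namespace Cfsg.Agent.Helper4.F42M
open Cfsg.Agent.Helper5.TC Cfsg.Agent.Helper5.TCI Cfsg.Agent.Helper5.LP

theorem fixc_138_0 : fixPtsF W_138 15625 0 = true := by decide +kernel

theorem fixc_113_38460 : fixPtsF W_113 9615 38460 = true := by decide +kernel

theorem fixc_64_10869 : fixPtsF W_64 10869 10869 = true := by decide +kernel

theorem fixc_72_21738 : fixPtsF W_72 10869 21738 = true := by decide +kernel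

theorem fixc_84_21738 : fixPtsF W_84 10869 21738 = true := by decide +kernel

theorem fixc_32_22726 : fixPtsF W_32 11363 22726 = true := by decide +kernel

theorem fixc_42_34089 : fixPtsF W_42 11363 34089 = true := by decide +kernel

theorem fixc_54_34089 : fixPtsF W_54 11363 34089 = true := by decide +kernel

theorem fixc_16_23808 : fixPtsF W_16 11904 23808 = true := by decide +kernel

theorem fixc_96_41664 : fixPtsF W_96 10416 41664 = true := by decide +kernel

theorem fixc_122_35712 : fixPtsF W_122 8928 35712 = true := by decide +kernel

theorem fixc_143_10416 : fixPtsF W_143 10416 10416 = true := by decide +kernel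

theorem fixc_109_67305 : fixPtsF W_109 2583 67305 = true := by decide +kernel

theorem fixc_2_125000 : fixPtsF W_2 14776 125000 = true := by decide +kernel

end Cfsg.Agent.Helper4.F42M
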