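import Cfsg.Agent.Helper4.F42MDat

/-! generated permutation model, checks: F42M -/

set_option autoImplicit false
set_option Elab.async false
set_option maxRecDepth 1000000

namespace Cfsg.Agent.Helper4.F42M
open Cfsg.Agent.Helper5.TC Cfsg.Agent.Helper5.TCI Cfsg.Agent.Helper5.LP

theorem fixc_138_15625 : fixPtsF W_138 15625 15625 = true := by decide +kernel

theorem fixc_113_48075 : fixPtsF W_113 9615 48075 = true := by decide +kernel

theorem fixc_64_21738 : fixPtsF W_64 10869 21738 = true := by decide +kernel

theorem fixc_72_32607 : fixPtsF W_72 10869 32607 = true := by decide +kernel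

theorem fixc_84_32607 : fixPtsF W_84 10869 32607 = true := by decide +kernel

theorem fixc_32_34089 : fixPtsF W_32 11363 34089 = true := by decide +kernel

theorem fixc_42_45452 : fixPtsF W_42 11363 45452 = true := by decide +kernel

theorem fixc_54_45452 : fixPtsF W_54 11363 45452 = true := by decide +kernel

theorem fixc_16_35712 : fixPtsF W_16 11904 35712 = true := by decide +kernel

theorem fixc_96_52080 : fixPtsF W_96 10416 52080 = true := by decide +kernel

theorem fixc_122_44640 : fixPtsF W_122 8928 44640 = true := by decide +kernel

theorem fixc_143_20832 : fixPtsF W_143 10416 20832 = true := by decide +kernel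

theorem fixc_110_67305 : fixPtsF W_110 2583 67305 = true := by decide +kernel

theorem fixc_3_125000 : fixPtsF W_3 14776 125000 = true := by decide +kernel

end Cfsg.Agent.Helper4.F42M
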