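import Cfsg.Agent.Helper4.F42MDat

/-! generated permutation model, checks: F42M -/

set_option autoImplicit false
set_option Elab.async false
set_option maxRecDepth 1000000

namespace Cfsg.Agent.Helper4.F42M
open Cfsg.Agent.Helper5.TC Cfsg.Agent.Helper5.TCI Cfsg.Agent.Helper5.LP

theorem fixc_138_31250 : fixPtsF W_138 15625 31250 = true := by decide +kernel

theorem fixc_113_57690 : fixPtsF W_113 9615 57690 = true := by decide +kernel

theorem fixc_64_32607 : fixPtsF W_64 10869 32607 = true := by decide +kernel

theorem fixc_72_43476 : fixPtsF W_72 10869 43476 = true := by decide +kernel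

theorem fixc_84_43476 : fixPtsF W_84 10869 43476 = true := by decide +kernel

theorem fixc_32_45452 : fixPtsF W_32 11363 45452 = true := by decide +kernel

theorem fixc_42_56815 : fixPtsF W_42 11363 56815 = true := by decide +kernel

theorem fixc_54_56815 : fixPtsF W_54 11363 56815 = true := by decide +kernel

theorem fixc_16_47616 : fixPtsF W_16 11904 47616 = true := by decide +kernel

theorem fixc_97_0 : fixPtsF W_97 10416 0 = true := by decide +kernel

theorem fixc_122_53568 : fixPtsF W_122 8928 53568 = true := by decide +kernel

theorem fixc_143_31248 : fixPtsF W_143 10416 31248 = true := by decide +kernel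

theorem fixc_111_67305 : fixPtsF W_111 2583 67305 = true := by decide +kernel

theorem fixc_4_125000 : fixPtsF W_4 14776 125000 = true := by decide +kernel

end Cfsg.Agent.Helper4.F42M
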