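import Cfsg.Agent.Helper4.F42MDat

/-! generated permutation model, checks: F42M -/

set_option autoImplicit false
set_option Elab.async false
set_option maxRecDepth 1000000

namespace Cfsg.Agent.Helper4.F42M
open Cfsg.Agent.Helper5.TC Cfsg.Agent.Helper5.TCI Cfsg.Agent.Helper5.LP

theorem fixc_138_46875 : fixPtsF W_138 15625 46875 = true := by decide +kernel

theorem fixc_114_0 : fixPtsF W_114 9615 0 = true := by decide +kernel

theorem fixc_64_43476 : fixPtsF W_64 10869 43476 = true := by decide +kernel

theorem fixc_72_54345 : fixPtsF W_72 10869 54345 = true := by decide +kernel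

theorem fixc_84_54345 : fixPtsF W_84 10869 54345 = true := by decide +kernel

theorem fixc_32_56815 : fixPtsF W_32 11363 56815 = true := by decide +kernel

theorem fixc_43_0 : fixPtsF W_43 11363 0 = true := by decide +kernel

theorem fixc_55_0 : fixPtsF W_55 11363 0 = true := by decide +kernel

theorem fixc_17_0 : fixPtsF W_17 11904 0 = true := by decide +kernel

theorem fixc_97_10416 : fixPtsF W_97 10416 10416 = true := by decide +kernel

theorem fixc_123_0 : fixPtsF W_123 8928 0 = true := by decide +kernel

theorem fixc_143_41664 : fixPtsF W_143 10416 41664 = true := by decide +kernel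

theorem fixc_112_67305 : fixPtsF W_112 2583 67305 = true := by decide +kernel

theorem fixc_133_66664 : fixPtsF W_133 3224 66664 = true := by decide +kernel

theorem fixc_132_62500 : fixPtsF W_132 7388 62500 = true := by decide +kernel

end Cfsg.Agent.Helper4.F42M
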