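import Cfsg.Agent.Helper4.F42MDat

/-! generated permutation model, checks: F42M -/

set_option autoImplicit false
set_option Elab.async false
set_option maxRecDepth 1000000

namespace Cfsg.Agent.Helper4.F42M
open Cfsg.Agent.Helper5.TC Cfsg.Agent.Helper5.TCI Cfsg.Agent.Helper5.LP

theorem fixc_139_15625 : fixPtsF W_139 15625 15625 = true := by decide +kernel

theorem fixc_114_19230 : fixPtsF W_114 9615 19230 = true := by decide +kernel

theorem fixc_65_0 : fixPtsF W_65 10869 0 = true := by decide +kernel

theorem fixc_73_10869 : fixPtsF W_73 10869 10869 = true := by decide +kernel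

theorem fixc_85_10869 : fixPtsF W_85 10869 10869 = true := by decide +kernel

theorem fixc_33_11363 : fixPtsF W_33 11363 11363 = true := by decide +kernel

theorem fixc_43_22726 : fixPtsF W_43 11363 22726 = true := by decide +kernel

theorem fixc_55_22726 : fixPtsF W_55 11363 22726 = true := by decide +kernel

theorem fixc_17_23808 : fixPtsF W_17 11904 23808 = true := by decide +kernel

theorem fixc_97_31248 : fixPtsF W_97 10416 31248 = true := by decide +kernel

theorem fixc_123_17856 : fixPtsF W_123 8928 17856 = true := by decide +kernel

theorem fixc_5_0 : fixPtsF W_5 13157 0 = true := by decide +kernel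

theorem fixc_63_65214 : fixPtsF W_63 4674 65214 = true := by decide +kernel

theorem fixc_37_68178 : fixPtsF W_37 1710 68178 = true := by decide +kernel

end Cfsg.Agent.Helper4.F42M
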