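import Cfsg.Agent.Helper4.F42MDat

/-! generated permutation model, checks: F42M -/

set_option autoImplicit false
set_option Elab.async false
set_option maxRecDepth 1000000

namespace Cfsg.Agent.Helper4.F42M
open Cfsg.Agent.Helper5.TC Cfsg.Agent.Helper5.TCI Cfsg.Agent.Helper5.LP

theorem invc_8_0 : invRowFI mT 139776 8 9 125000 0 = true := by decide +kernel

theorem fixc_105_19230 : fixPtsF W_105 9615 19230 = true := by decide +kernel

theorem fixc_114_48075 : fixPtsF W_114 9615 48075 = true := by decide +kernel

theorem fixc_73_43476 : fixPtsF W_73 10869 43476 = true := by decide +kernel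

theorem fixc_85_43476 : fixPtsF W_85 10869 43476 = true := by decide +kernel

theorem fixc_33_45452 : fixPtsF W_33 11363 45452 = true := by decide +kernel

theorem fixc_45_45452 : fixPtsF W_45 11363 45452 = true := by decide +kernel

theorem fixc_57_45452 : fixPtsF W_57 11363 45452 = true := by decide +kernel

theorem fixc_21_35712 : fixPtsF W_21 11904 35712 = true := by decide +kernel

theorem fixc_116_0 : fixPtsF W_116 8928 0 = true := by decide +kernel

theorem fixc_126_17856 : fixPtsF W_126 8928 17856 = true := by decide +kernel

theorem fixc_19_59520 : fixPtsF W_19 10368 59520 = true := by decide +kernel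

theorem fixc_104_62496 : fixPtsF W_104 7392 62496 = true := by decide +kernel

end Cfsg.Agent.Helper4.F42M
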