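import Cfsg.Agent.Helper4.F42MDat

/-! generated permutation model, checks: F42M -/

set_option autoImplicit false
set_option Elab.async false
set_option maxRecDepth 1000000

namespace Cfsg.Agent.Helper4.F42M
open Cfsg.Agent.Helper5.TC Cfsg.Agent.Helper5.TCI Cfsg.Agent.Helper5.LP

theorem invc_9_0 : invRowFI mT 139776 9 8 125000 0 = true := by decide +kernel

theorem fixc_105_28845 : fixPtsF W_105 9615 28845 = true := by decide +kernel

theorem fixc_114_57690 : fixPtsF W_114 9615 57690 = true := by decide +kernel

theorem fixc_73_54345 : fixPtsF W_73 10869 54345 = true := by decide +kernel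

theorem fixc_85_54345 : fixPtsF W_85 10869 54345 = true := by decide +kernel

theorem fixc_33_56815 : fixPtsF W_33 11363 56815 = true := by decide +kernel

theorem fixc_45_56815 : fixPtsF W_45 11363 56815 = true := by decide +kernel

theorem fixc_57_56815 : fixPtsF W_57 11363 56815 = true := by decide +kernel

theorem fixc_21_47616 : fixPtsF W_21 11904 47616 = true := by decide +kernel

theorem fixc_116_8928 : fixPtsF W_116 8928 8928 = true := by decide +kernel

theorem fixc_126_26784 : fixPtsF W_126 8928 26784 = true := by decide +kernel

theorem fixc_20_59520 : fixPtsF W_20 10368 59520 = true := by decide +kernel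

theorem fixc_143_62496 : fixPtsF W_143 7392 62496 = true := by decide +kernel

end Cfsg.Agent.Helper4.F42M
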