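import Cfsg.Agent.Helper4.F42MCk0
import Cfsg.Agent.Helper4.F42MCk1
import Cfsg.Agent.Helper4.F42MCk2
import Cfsg.Agent.Helper4.F42MCk3
import Cfsg.Agent.Helper4.F42MCk4
import Cfsg.Agent.Helper4.F42MCk5
import Cfsg.Agent.Helper4.F42MCk6
import Cfsg.Agent.Helper4.F42MCk7
import Cfsg.Agent.Helper4.F42MCk8
import Cfsg.Agent.Helper4.F42MCk9
import Cfsg.Agent.Helper4.F42MCk10
import Cfsg.Agent.Helper4.F42MCk11
import Cfsg.Agent.Helper4.F42MCk12
import Cfsg.Agent.Helper4.F42MCk13
import Cfsg.Agent.Helper4.F42MCk14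
import Cfsg.Agent.Helper4.F42MCk15
import Cfsg.Agent.Helper4.F42MCk16
import Cfsg.Agent.Helper4.F42MCk17
import Cfsg.Agent.Helper4.F42MCk18
import Cfsg.Agent.Helper4.F42MCk19
import Cfsg.Agent.Helper4.F42MCk20
import Cfsg.Agent.Helper4.F42MCk21
import Cfsg.Agent.Helper4.F42MCk22
import Cfsg.Agent.Helper4.F42MCk23
import Cfsg.Agent.Helper4.F42MCk24
import Cfsg.Agent.Helper4.F42MCk25
import Cfsg.Agent.Helper4.F42MCk26
import Cfsg.Agent.Helper4.F42MCk27
import Cfsg.Agent.Helper4.F42MCk28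
import Cfsg.Agent.Helper4.F42MCk29
import Cfsg.Agent.Helper4.F42MCk30
import Cfsg.Agent.Helper4.F42MCk31
import Cfsg.Agent.Helper4.F42MCk32
import Cfsg.Agent.Helper4.F42MCk33
import Cfsg.Agent.Helper4.F42MCk34
import Cfsg.Agent.Helper4.F42MCk35
import Cfsg.Agent.Helper4.F42MCk36
import Cfsg.Agent.Helper4.F42MCk37
import Cfsg.Agent.Helper4.F42MCk38
import Cfsg.Agent.Helper4.F42MCk39
import Cfsg.Agent.Helper4.F42MCk40
import Cfsg.Agent.Helper4.F42MCk41
import Cfsg.Agent.Helper4.F42MCk42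
import Cfsg.Agent.Helper4.F42MCk43
import Cfsg.Agent.Helper4.F42MCk44
import Cfsg.Agent.Helper4.F42MCk45
import Cfsg.Agent.Helper4.F42MCk46
import Cfsg.Agent.Helper4.F42MCk47
import Cfsg.Agent.Helper4.F42MCk48
import Cfsg.Agent.Helper4.F42MCk49
import Cfsg.Agent.Helper4.F42MCk50
import Cfsg.Agent.Helper4.F42MCk51
import Cfsg.Agent.Helper4.F42MCk52
import Cfsg.Agent.Helper4.F42MCk53
import Cfsg.Agent.Helper4.F42MCk54
import Cfsg.Agent.Helper4.F42MCk55
import Cfsg.Agent.Helper4.F42MCk56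
import Cfsg.Agent.Helper4.F42MCk57
import Cfsg.Agent.Helper4.F42MCk58
import Cfsg.Agent.Helper4.F42MCk59
import Cfsg.Agent.Helper4.F42MCk60
import Cfsg.Agent.Helper4.F42MCk61
import Cfsg.Agent.Helper4.F42MCk62
import Cfsg.Agent.Helper4.F42MCk63
import Cfsg.Agent.Helper4.F42MCk64
import Cfsg.Agent.Helper4.F42MCk65
import Cfsg.Agent.Helper4.F42MCk66
import Cfsg.Agent.Helper4.F42MCk67
import Cfsg.Agent.Helper4.F42MCk68
import Cfsg.Agent.Helper4.F42MCk69
import Cfsg.Agent.Helper4.F42MCk70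
import Cfsg.Agent.Helper4.F42MCk71

/-! generated permutation model, summary: F42M -/

set_option autoImplicit false
set_option maxRecDepth 1000000

namespace Cfsg.Agent.Helper4.F42M
open Cfsg.Agent.Helper5.TC Cfsg.Agent.Helper5.TCI Cfsg.Agent.Helper5.LP Cfsg.Agent.Helper5.StemP
  Cfsg.Agent.Helper4.ShM

theorem inv_0 : ∀ v, v < 139776 → mT 0 v < 139776 ∧ mT 1 (mT 0 v) = v :=
  (inv_step (inv_step (fun v hv => absurd hv (by omega)) 125000 invc_0_0) 14776 invc_0_125000)

theorem inv_1 : ∀ v, v < 139776 → mT 1 v < 139776 ∧ mT 0 (mT 1 v) = v :=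
  (inv_step (inv_step (fun v hv => absurd hv (by omega)) 125000 invc_1_0) 14776 invc_1_125000)

theorem inv_2 : ∀ v, v < 139776 → mT 2 v < 139776 ∧ mT 3 (mT 2 v) = v :=
  (inv_step (inv_step (fun v hv => absurd hv (by omega)) 125000 invc_2_0) 14776 invc_2_125000)

theorem inv_3 : ∀ v, v < 139776 → mT 3 v < 139776 ∧ mT 2 (mT 3 v) = v :=
  (inv_step (inv_step (fun v hv => absurd hv (by omega)) 125000 invc_3_0) 14776 invc_3_125000)

theorem inv_4 : ∀ v, v < 139776 → mT 4 v < 139776 ∧ mT 5 (mT 4 v) = v :=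
  (inv_step (inv_step (fun v hv => absurd hv (by omega)) 125000 invc_4_0) 14776 invc_4_125000)

theorem inv_5 : ∀ v, v < 139776 → mT 5 v < 139776 ∧ mT 4 (mT 5 v) = v :=
  (inv_step (inv_step (fun v hv => absurd hv (by omega)) 125000 invc_5_0) 14776 invc_5_125000)

theorem inv_6 : ∀ v, v < 139776 → mT 6 v < 139776 ∧ mT 7 (mT 6 v) = v :=
  (inv_step (inv_step (fun v hv => absurd hv (by omega)) 125000 invc_6_0) 14776 invc_6_125000)

theorem inv_7 : ∀ v, v < 139776 → mT 7 v < 139776 ∧ mT 6 (mT 7 v) = v :=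
  (inv_step (inv_step (fun v hv => absurd hv (by omega)) 125000 invc_7_0) 14776 invc_7_125000)

theorem inv_8 : ∀ v, v < 139776 → mT 8 v < 139776 ∧ mT 9 (mT 8 v) = v :=
  (inv_step (inv_step (fun v hv => absurd hv (by omega)) 125000 invc_8_0) 14776 invc_8_125000)

theorem inv_9 : ∀ v, v < 139776 → mT 9 v < 139776 ∧ mT 8 (mT 9 v) = v :=
  (inv_step (inv_step (fun v hv => absurd hv (by omega)) 125000 invc_9_0) 14776 invc_9_125000)

theorem inv_10 : ∀ v, v < 139776 → mT 10 v < 139776 ∧ mT 11 (mT 10 v) = v :=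
  (inv_step (inv_step (fun v hv => absurd hv (by omega)) 125000 invc_10_0) 14776 invc_10_125000)

theorem inv_11 : ∀ v, v < 139776 → mT 11 v < 139776 ∧ mT 10 (mT 11 v) = v :=
  (inv_step (inv_step (fun v hv => absurd hv (by omega)) 125000 invc_11_0) 14776 invc_11_125000)

theorem tableOK : TableOKI (2 * (5 + 1)) 139776 linv mT := by
  intro x hx v hv
  have hx' : x < 12 := hx
  interval_cases x
  · exact inv_0 v hv
  · exact inv_1 v hv
  · exact inv_2 v hv
  · exact inv_3 v hv
  · exact inv_4 v hv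
  · exact inv_5 v hv
  · exact inv_6 v hv
  · exact inv_7 v hv
  · exact inv_8 v hv
  · exact inv_9 v hv
  · exact inv_10 v hv
  · exact inv_11 v hv

theorem actw_0 : ∀ v, actL mT w_0 v = W_0 v := by
  intro v
  simp (maxSteps := 100000000) only [w_0, actL, W_0, forceL_eq]
  rfl

theorem fixW_0 : ∀ v, v < 139776 → W_0 v = v :=
  (fixW_step (fixW_step (fixW_step (fun v hv => absurd hv (by omega)) 62500 fixc_0_0) 62500 fixc_0_62500) 14776 fixc_0_125000)

theorem fix_0 : ∀ v, v < 139776 → actL mT w_0 v = v := fun v hv => by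
  rw [actw_0]
  exact fixW_0 v hv

theorem actw_1 : ∀ v, actL mT w_1 v = W_1 v := by
  intro v
  simp (maxSteps := 100000000) only [w_1, actL, W_1, forceL_eq]
  rfl

theorem fixW_1 : ∀ v, v < 139776 → W_1 v = v :=
  (fixW_step (fixW_step (fixW_step (fun v hv => absurd hv (by omega)) 62500 fixc_1_0) 62500 fixc_1_62500) 14776 fixc_1_125000)

theorem fix_1 : ∀ v, v < 139776 → actL mT w_1 v = v := fun v hv => by
  rw [actw_1]
  exact fixW_1 v hv

theorem actw_2 : ∀ v, actL mT w_2 v = W_2 v := by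
  intro v
  simp (maxSteps := 100000000) only [w_2, actL, W_2, forceL_eq]
  rfl

theorem fixW_2 : ∀ v, v < 139776 → W_2 v = v :=
  (fixW_step (fixW_step (fixW_step (fun v hv => absurd hv (by omega)) 62500 fixc_2_0) 62500 fixc_2_62500) 14776 fixc_2_125000)

theorem fix_2 : ∀ v, v < 139776 → actL mT w_2 v = v := fun v hv => by
  rw [actw_2]
  exact fixW_2 v hv

theorem actw_3 : ∀ v, actL mT w_3 v = W_3 v := by
  intro v
  simp (maxSteps := 100000000) only [w_3, actL, W_3, forceL_eq]
  rfl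

theorem fixW_3 : ∀ v, v < 139776 → W_3 v = v :=
  (fixW_step (fixW_step (fixW_step (fun v hv => absurd hv (by omega)) 62500 fixc_3_0) 62500 fixc_3_62500) 14776 fixc_3_125000)

theorem fix_3 : ∀ v, v < 139776 → actL mT w_3 v = v := fun v hv => by
  rw [actw_3]
  exact fixW_3 v hv

theorem actw_4 : ∀ v, actL mT w_4 v = W_4 v := by
  intro v
  simp (maxSteps := 100000000) only [w_4, actL, W_4, forceL_eq]
  rfl

theorem fixW_4 : ∀ v, v < 139776 → W_4 v = v :=
  (fixW_step (fixW_step (fixW_step (fun v hv => absurd hv (by omega)) 62500 fixc_4_0) 62500 fixc_4_62500) 14776 fixc_4_125000)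

theorem fix_4 : ∀ v, v < 139776 → actL mT w_4 v = v := fun v hv => by
  rw [actw_4]
  exact fixW_4 v hv

theorem hcomm : ∀ i, i < 5 → ∀ v, v < 139776 → actL mT [2 * i, 2 * 5, 2 * i + 1, 2 * 5 + 1] v = v := by
  intro i hi
  interval_cases i
  · exact fix_0
  · exact fix_1
  · exact fix_2
  · exact fix_3
  · exact fix_4

theorem hcov : ∀ v, v < 139776 → ∃ u, u < 69888 ∧ u < 139776 ∧ ∃ j, actL mT (List.replicate j (2 * 5)) u = v := by
  intro v hv
  by_cases h : v < 69888
  · exact ⟨v, h, hv, 0, rfl⟩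
  · refine ⟨v - 69888, by omega, by omega, 1, ?_⟩
    show (v - 69888) % 69888 + 69888 * (((v - 69888) / 69888 + 1) % 2) = v
    omega

theorem actw_5 : ∀ v, actL mT w_5 v = W_5 v := by
  intro v
  simp (maxSteps := 100000000) only [w_5, actL, W_5, forceL_eq]
  rfl

theorem fixW_5 : ∀ v, v < 69888 → W_5 v = v :=
  (fixW_step (fixW_step (fixW_step (fixW_step (fixW_step (fixW_step (fun v hv => absurd hv (by omega)) 13157 fixc_5_0) 13157 fixc_5_13157) 13157 fixc_5_26314) 13157 fixc_5_39471) 13157 fixc_5_52628) 4103 fixc_5_65785)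

theorem fixh_5 : ∀ v, v < 69888 → actL mT w_5 v = v := fun v hv => by
  rw [actw_5]
  exact fixW_5 v hv

theorem wlt_5 : ∀ c ∈ w_5, c < 2 * (5 + 1) := by decide

theorem fix_5 : ∀ v, v < 139776 → actL mT w_5 v = v :=
  fix_of_half tableOK hcomm 69888 hcov w_5 wlt_5 fixh_5

theorem actw_6 : ∀ v, actL mT w_6 v = W_6 v := by
  intro v
  simp (maxSteps := 100000000) only [w_6, actL, W_6, forceL_eq]
  rfl

theorem fixW_6 : ∀ v, v < 69888 → W_6 v = v :=
  (fixW_step (fixW_step (fixW_step (fixW_step (fixW_step (fixW_step (fun v hv => absurd hv (by omega)) 13157 fixc_6_0) 13157 fixc_6_13157) 13157 fixc_6_26314) 13157 fixc_6_39471) 13157 fixc_6_52628) 4103 fixc_6_65785)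

theorem fixh_6 : ∀ v, v < 69888 → actL mT w_6 v = v := fun v hv => by
  rw [actw_6]
  exact fixW_6 v hv

theorem wlt_6 : ∀ c ∈ w_6, c < 2 * (5 + 1) := by decide

theorem fix_6 : ∀ v, v < 139776 → actL mT w_6 v = v :=
  fix_of_half tableOK hcomm 69888 hcov w_6 wlt_6 fixh_6

theorem actw_7 : ∀ v, actL mT w_7 v = W_7 v := by
  intro v
  simp (maxSteps := 100000000) only [w_7, actL, W_7, forceL_eq]
  rfl

theorem fixW_7 : ∀ v, v < 69888 → W_7 v = v :=
  (fixW_step (fixW_step (fixW_step (fixW_step (fixW_step (fixW_step (fun v hv => absurd hv (by omega)) 12500 fixc_7_0) 12500 fixc_7_12500) 12500 fixc_7_25000) 12500 fixc_7_37500) 12500 fixc_7_50000) 7388 fixc_7_62500)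

theorem fixh_7 : ∀ v, v < 69888 → actL mT w_7 v = v := fun v hv => by
  rw [actw_7]
  exact fixW_7 v hv

theorem wlt_7 : ∀ c ∈ w_7, c < 2 * (5 + 1) := by decide

theorem fix_7 : ∀ v, v < 139776 → actL mT w_7 v = v :=
  fix_of_half tableOK hcomm 69888 hcov w_7 wlt_7 fixh_7

theorem actw_8 : ∀ v, actL mT w_8 v = W_8 v := by
  intro v
  simp (maxSteps := 100000000) only [w_8, actL, W_8, forceL_eq]
  rfl

theorem fixW_8 : ∀ v, v < 69888 → W_8 v = v :=
  (fixW_step (fixW_step (fixW_step (fixW_step (fixW_step (fixW_step (fun v hv => absurd hv (by omega)) 12500 fixc_8_0) 12500 fixc_8_12500) 12500 fixc_8_25000) 12500 fixc_8_37500) 12500 fixc_8_50000) 7388 fixc_8_62500)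

theorem fixh_8 : ∀ v, v < 69888 → actL mT w_8 v = v := fun v hv => by
  rw [actw_8]
  exact fixW_8 v hv

theorem wlt_8 : ∀ c ∈ w_8, c < 2 * (5 + 1) := by decide

theorem fix_8 : ∀ v, v < 139776 → actL mT w_8 v = v :=
  fix_of_half tableOK hcomm 69888 hcov w_8 wlt_8 fixh_8

theorem actw_9 : ∀ v, actL mT w_9 v = W_9 v := by
  intro v
  simp (maxSteps := 100000000) only [w_9, actL, W_9, forceL_eq]
  rfl

theorem fixW_9 : ∀ v, v < 69888 → W_9 v = v :=
  (fixW_step (fixW_step (fixW_step (fixW_step (fixW_step (fixW_step (fun v hv => absurd hv (by omega)) 12500 fixc_9_0) 12500 fixc_9_12500) 12500 fixc_9_25000) 12500 fixc_9_37500) 12500 fixc_9_50000) 7388 fixc_9_62500)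

theorem fixh_9 : ∀ v, v < 69888 → actL mT w_9 v = v := fun v hv => by
  rw [actw_9]
  exact fixW_9 v hv

theorem wlt_9 : ∀ c ∈ w_9, c < 2 * (5 + 1) := by decide

theorem fix_9 : ∀ v, v < 139776 → actL mT w_9 v = v :=
  fix_of_half tableOK hcomm 69888 hcov w_9 wlt_9 fixh_9

theorem actw_10 : ∀ v, actL mT w_10 v = W_10 v := by
  intro v
  simp (maxSteps := 100000000) only [w_10, actL, W_10, forceL_eq]
  rfl

theorem fixW_10 : ∀ v, v < 69888 → W_10 v = v :=
  (fixW_step (fixW_step (fixW_step (fixW_step (fixW_step (fixW_step (fun v hv => absurd hv (by omega)) 12500 fixc_10_0) 12500 fixc_10_12500) 12500 fixc_10_25000) 12500 fixc_10_37500) 12500 fixc_10_50000) 7388 fixc_10_62500)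

theorem fixh_10 : ∀ v, v < 69888 → actL mT w_10 v = v := fun v hv => by
  rw [actw_10]
  exact fixW_10 v hv

theorem wlt_10 : ∀ c ∈ w_10, c < 2 * (5 + 1) := by decide

theorem fix_10 : ∀ v, v < 139776 → actL mT w_10 v = v :=
  fix_of_half tableOK hcomm 69888 hcov w_10 wlt_10 fixh_10

theorem actw_11 : ∀ v, actL mT w_11 v = W_11 v := by
  intro v
  simp (maxSteps := 100000000) only [w_11, actL, W_11, forceL_eq]
  rfl

theorem fixW_11 : ∀ v, v < 69888 → W_11 v = v :=
  (fixW_step (fixW_step (fixW_step (fixW_step (fixW_step (fixW_step (fun v hv => absurd hv (by omega)) 11904 fixc_11_0) 11904 fixc_11_11904) 11904 fixc_11_23808) 11904 fixc_11_35712) 11904 fixc_11_47616) 10368 fixc_11_59520)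

theorem fixh_11 : ∀ v, v < 69888 → actL mT w_11 v = v := fun v hv => by
  rw [actw_11]
  exact fixW_11 v hv

theorem wlt_11 : ∀ c ∈ w_11, c < 2 * (5 + 1) := by decide

theorem fix_11 : ∀ v, v < 139776 → actL mT w_11 v = v :=
  fix_of_half tableOK hcomm 69888 hcov w_11 wlt_11 fixh_11

theorem actw_12 : ∀ v, actL mT w_12 v = W_12 v := by
  intro v
  simp (maxSteps := 100000000) only [w_12, actL, W_12, forceL_eq]
  rfl

theorem fixW_12 : ∀ v, v < 69888 → W_12 v = v :=
  (fixW_step (fixW_step (fixW_step (fixW_step (fixW_step (fixW_step (fun v hv => absurd hv (by omega)) 11904 fixc_12_0) 11904 fixc_12_11904) 11904 fixc_12_23808) 11904 fixc_12_35712) 11904 fixc_12_47616) 10368 fixc_12_59520)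

theorem fixh_12 : ∀ v, v < 69888 → actL mT w_12 v = v := fun v hv => by
  rw [actw_12]
  exact fixW_12 v hv

theorem wlt_12 : ∀ c ∈ w_12, c < 2 * (5 + 1) := by decide

theorem fix_12 : ∀ v, v < 139776 → actL mT w_12 v = v :=
  fix_of_half tableOK hcomm 69888 hcov w_12 wlt_12 fixh_12

theorem actw_13 : ∀ v, actL mT w_13 v = W_13 v := by
  intro v
  simp (maxSteps := 100000000) only [w_13, actL, W_13, forceL_eq]
  rfl

theorem fixW_13 : ∀ v, v < 69888 → W_13 v = v :=
  (fixW_step (fixW_step (fixW_step (fixW_step (fixW_step (fixW_step (fun v hv => absurd hv (by omega)) 11904 fixc_13_0) 11904 fixc_13_11904) 11904 fixc_13_23808) 11904 fixc_13_35712) 11904 fixc_13_47616) 10368 fixc_13_59520)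

theorem fixh_13 : ∀ v, v < 69888 → actL mT w_13 v = v := fun v hv => by
  rw [actw_13]
  exact fixW_13 v hv

theorem wlt_13 : ∀ c ∈ w_13, c < 2 * (5 + 1) := by decide

theorem fix_13 : ∀ v, v < 139776 → actL mT w_13 v = v :=
  fix_of_half tableOK hcomm 69888 hcov w_13 wlt_13 fixh_13

theorem actw_14 : ∀ v, actL mT w_14 v = W_14 v := by
  intro v
  simp (maxSteps := 100000000) only [w_14, actL, W_14, forceL_eq]
  rfl

theorem fixW_14 : ∀ v, v < 69888 → W_14 v = v :=
  (fixW_step (fixW_step (fixW_step (fixW_step (fixW_step (fixW_step (fun v hv => absurd hv (by omega)) 11904 fixc_14_0) 11904 fixc_14_11904) 11904 fixc_14_23808) 11904 fixc_14_35712) 11904 fixc_14_47616) 10368 fixc_14_59520)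

theorem fixh_14 : ∀ v, v < 69888 → actL mT w_14 v = v := fun v hv => by
  rw [actw_14]
  exact fixW_14 v hv

theorem wlt_14 : ∀ c ∈ w_14, c < 2 * (5 + 1) := by decide

theorem fix_14 : ∀ v, v < 139776 → actL mT w_14 v = v :=
  fix_of_half tableOK hcomm 69888 hcov w_14 wlt_14 fixh_14

theorem actw_15 : ∀ v, actL mT w_15 v = W_15 v := by
  intro v
  simp (maxSteps := 100000000) only [w_15, actL, W_15, forceL_eq]
  rfl

theorem fixW_15 : ∀ v, v < 69888 → W_15 v = v :=
  (fixW_step (fixW_step (fixW_step (fixW_step (fixW_step (fixW_step (fun v hv => absurd hv (by omega)) 11904 fixc_15_0) 11904 fixc_15_11904) 11904 fixc_15_23808) 11904 fixc_15_35712) 11904 fixc_15_47616) 10368 fixc_15_59520)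

theorem fixh_15 : ∀ v, v < 69888 → actL mT w_15 v = v := fun v hv => by
  rw [actw_15]
  exact fixW_15 v hv

theorem wlt_15 : ∀ c ∈ w_15, c < 2 * (5 + 1) := by decide

theorem fix_15 : ∀ v, v < 139776 → actL mT w_15 v = v :=
  fix_of_half tableOK hcomm 69888 hcov w_15 wlt_15 fixh_15

theorem actw_16 : ∀ v, actL mT w_16 v = W_16 v := by
  intro v
  simp (maxSteps := 100000000) only [w_16, actL, W_16, forceL_eq]
  rfl

theorem fixW_16 : ∀ v, v < 69888 → W_16 v = v :=
  (fixW_step (fixW_step (fixW_step (fixW_step (fixW_step (fixW_step (fun v hv => absurd hv (by omega)) 11904 fixc_16_0) 11904 fixc_16_11904) 11904 fixc_16_23808) 11904 fixc_16_35712) 11904 fixc_16_47616) 10368 fixc_16_59520)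

theorem fixh_16 : ∀ v, v < 69888 → actL mT w_16 v = v := fun v hv => by
  rw [actw_16]
  exact fixW_16 v hv

theorem wlt_16 : ∀ c ∈ w_16, c < 2 * (5 + 1) := by decide

theorem fix_16 : ∀ v, v < 139776 → actL mT w_16 v = v :=
  fix_of_half tableOK hcomm 69888 hcov w_16 wlt_16 fixh_16

theorem actw_17 : ∀ v, actL mT w_17 v = W_17 v := by
  intro v
  simp (maxSteps := 100000000) only [w_17, actL, W_17, forceL_eq]
  rfl

theorem fixW_17 : ∀ v, v < 69888 → W_17 v = v :=
  (fixW_step (fixW_step (fixW_step (fixW_step (fixW_step (fixW_step (fun v hv => absurd hv (by omega)) 11904 fixc_17_0) 11904 fixc_17_11904) 11904 fixc_17_23808) 11904 fixc_17_35712) 11904 fixc_17_47616) 10368 fixc_17_59520)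

theorem fixh_17 : ∀ v, v < 69888 → actL mT w_17 v = v := fun v hv => by
  rw [actw_17]
  exact fixW_17 v hv

theorem wlt_17 : ∀ c ∈ w_17, c < 2 * (5 + 1) := by decide

theorem fix_17 : ∀ v, v < 139776 → actL mT w_17 v = v :=
  fix_of_half tableOK hcomm 69888 hcov w_17 wlt_17 fixh_17

theorem actw_18 : ∀ v, actL mT w_18 v = W_18 v := by
  intro v
  simp (maxSteps := 100000000) only [w_18, actL, W_18, forceL_eq]
  rfl

theorem fixW_18 : ∀ v, v < 69888 → W_18 v = v :=
  (fixW_step (fixW_step (fixW_step (fixW_step (fixW_step (fixW_step (fun v hv => absurd hv (by omega)) 11904 fixc_18_0) 11904 fixc_18_11904) 11904 fixc_18_23808) 11904 fixc_18_35712) 11904 fixc_18_47616) 10368 fixc_18_59520)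

theorem fixh_18 : ∀ v, v < 69888 → actL mT w_18 v = v := fun v hv => by
  rw [actw_18]
  exact fixW_18 v hv

theorem wlt_18 : ∀ c ∈ w_18, c < 2 * (5 + 1) := by decide

theorem fix_18 : ∀ v, v < 139776 → actL mT w_18 v = v :=
  fix_of_half tableOK hcomm 69888 hcov w_18 wlt_18 fixh_18

theorem actw_19 : ∀ v, actL mT w_19 v = W_19 v := by
  intro v
  simp (maxSteps := 100000000) only [w_19, actL, W_19, forceL_eq]
  rfl

theorem fixW_19 : ∀ v, v < 69888 → W_19 v = v :=
  (fixW_step (fixW_step (fixW_step (fixW_step (fixW_step (fixW_step (fun v hv => absurd hv (by omega)) 11904 fixc_19_0) 11904 fixc_19_11904) 11904 fixc_19_23808) 11904 fixc_19_35712) 11904 fixc_19_47616) 10368 fixc_19_59520)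

theorem fixh_19 : ∀ v, v < 69888 → actL mT w_19 v = v := fun v hv => by
  rw [actw_19]
  exact fixW_19 v hv

theorem wlt_19 : ∀ c ∈ w_19, c < 2 * (5 + 1) := by decide

theorem fix_19 : ∀ v, v < 139776 → actL mT w_19 v = v :=
  fix_of_half tableOK hcomm 69888 hcov w_19 wlt_19 fixh_19

theorem actw_20 : ∀ v, actL mT w_20 v = W_20 v := by
  intro v
  simp (maxSteps := 100000000) only [w_20, actL, W_20, forceL_eq]
  rfl

theorem fixW_20 : ∀ v, v < 69888 → W_20 v = v :=
  (fixW_step (fixW_step (fixW_step (fixW_step (fixW_step (fixW_step (fun v hv => absurd hv (by omega)) 11904 fixc_20_0) 11904 fixc_20_11904) 11904 fixc_20_23808) 11904 fixc_20_35712) 11904 fixc_20_47616) 10368 fixc_20_59520)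

theorem fixh_20 : ∀ v, v < 69888 → actL mT w_20 v = v := fun v hv => by
  rw [actw_20]
  exact fixW_20 v hv

theorem wlt_20 : ∀ c ∈ w_20, c < 2 * (5 + 1) := by decide

theorem fix_20 : ∀ v, v < 139776 → actL mT w_20 v = v :=
  fix_of_half tableOK hcomm 69888 hcov w_20 wlt_20 fixh_20

theorem actw_21 : ∀ v, actL mT w_21 v = W_21 v := by
  intro v
  simp (maxSteps := 100000000) only [w_21, actL, W_21, forceL_eq]
  rfl

theorem fixW_21 : ∀ v, v < 69888 → W_21 v = v :=
  (fixW_step (fixW_step (fixW_step (fixW_step (fixW_step (fixW_step (fun v hv => absurd hv (by omega)) 11904 fixc_21_0) 11904 fixc_21_11904) 11904 fixc_21_23808) 11904 fixc_21_35712) 11904 fixc_21_47616) 10368 fixc_21_59520)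

theorem fixh_21 : ∀ v, v < 69888 → actL mT w_21 v = v := fun v hv => by
  rw [actw_21]
  exact fixW_21 v hv

theorem wlt_21 : ∀ c ∈ w_21, c < 2 * (5 + 1) := by decide

theorem fix_21 : ∀ v, v < 139776 → actL mT w_21 v = v :=
  fix_of_half tableOK hcomm 69888 hcov w_21 wlt_21 fixh_21

theorem actw_22 : ∀ v, actL mT w_22 v = W_22 v := by
  intro v
  simp (maxSteps := 100000000) only [w_22, actL, W_22, forceL_eq]
  rfl

theorem fixW_22 : ∀ v, v < 69888 → W_22 v = v :=
  (fixW_step (fixW_step (fixW_step (fixW_step (fixW_step (fixW_step (fun v hv => absurd hv (by omega)) 11904 fixc_22_0) 11904 fixc_22_11904) 11904 fixc_22_23808) 11904 fixc_22_35712) 11904 fixc_22_47616) 10368 fixc_22_59520)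

theorem fixh_22 : ∀ v, v < 69888 → actL mT w_22 v = v := fun v hv => by
  rw [actw_22]
  exact fixW_22 v hv

theorem wlt_22 : ∀ c ∈ w_22, c < 2 * (5 + 1) := by decide

theorem fix_22 : ∀ v, v < 139776 → actL mT w_22 v = v :=
  fix_of_half tableOK hcomm 69888 hcov w_22 wlt_22 fixh_22

theorem actw_23 : ∀ v, actL mT w_23 v = W_23 v := by
  intro v
  simp (maxSteps := 100000000) only [w_23, actL, W_23, forceL_eq]
  rfl

theorem fixW_23 : ∀ v, v < 69888 → W_23 v = v :=
  (fixW_step (fixW_step (fixW_step (fixW_step (fixW_step (fixW_step (fun v hv => absurd hv (by omega)) 11904 fixc_23_0) 11904 fixc_23_11904) 11904 fixc_23_23808) 11904 fixc_23_35712) 11904 fixc_23_47616) 10368 fixc_23_59520)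

theorem fixh_23 : ∀ v, v < 69888 → actL mT w_23 v = v := fun v hv => by
  rw [actw_23]
  exact fixW_23 v hv

theorem wlt_23 : ∀ c ∈ w_23, c < 2 * (5 + 1) := by decide

theorem fix_23 : ∀ v, v < 139776 → actL mT w_23 v = v :=
  fix_of_half tableOK hcomm 69888 hcov w_23 wlt_23 fixh_23

theorem actw_24 : ∀ v, actL mT w_24 v = W_24 v := by
  intro v
  simp (maxSteps := 100000000) only [w_24, actL, W_24, forceL_eq]
  rfl

theorem fixW_24 : ∀ v, v < 69888 → W_24 v = v :=
  (fixW_step (fixW_step (fixW_step (fixW_step (fixW_step (fixW_step (fun v hv => absurd hv (by omega)) 11904 fixc_24_0) 11904 fixc_24_11904) 11904 fixc_24_23808) 11904 fixc_24_35712) 11904 fixc_24_47616) 10368 fixc_24_59520)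

theorem fixh_24 : ∀ v, v < 69888 → actL mT w_24 v = v := fun v hv => by
  rw [actw_24]
  exact fixW_24 v hv

theorem wlt_24 : ∀ c ∈ w_24, c < 2 * (5 + 1) := by decide

theorem fix_24 : ∀ v, v < 139776 → actL mT w_24 v = v :=
  fix_of_half tableOK hcomm 69888 hcov w_24 wlt_24 fixh_24

theorem actw_25 : ∀ v, actL mT w_25 v = W_25 v := by
  intro v
  simp (maxSteps := 100000000) only [w_25, actL, W_25, forceL_eq]
  rfl

theorem fixW_25 : ∀ v, v < 69888 → W_25 v = v :=
  (fixW_step (fixW_step (fixW_step (fixW_step (fixW_step (fixW_step (fun v hv => absurd hv (by omega)) 11904 fixc_25_0) 11904 fixc_25_11904) 11904 fixc_25_23808) 11904 fixc_25_35712) 11904 fixc_25_47616) 10368 fixc_25_59520)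

theorem fixh_25 : ∀ v, v < 69888 → actL mT w_25 v = v := fun v hv => by
  rw [actw_25]
  exact fixW_25 v hv

theorem wlt_25 : ∀ c ∈ w_25, c < 2 * (5 + 1) := by decide

theorem fix_25 : ∀ v, v < 139776 → actL mT w_25 v = v :=
  fix_of_half tableOK hcomm 69888 hcov w_25 wlt_25 fixh_25

theorem actw_26 : ∀ v, actL mT w_26 v = W_26 v := by
  intro v
  simp (maxSteps := 100000000) only [w_26, actL, W_26, forceL_eq]
  rfl

theorem fixW_26 : ∀ v, v < 69888 → W_26 v = v :=
  (fixW_step (fixW_step (fixW_step (fixW_step (fixW_step (fixW_step (fun v hv => absurd hv (by omega)) 11904 fixc_26_0) 11904 fixc_26_11904) 11904 fixc_26_23808) 11904 fixc_26_35712) 11904 fixc_26_47616) 10368 fixc_26_59520)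

theorem fixh_26 : ∀ v, v < 69888 → actL mT w_26 v = v := fun v hv => by
  rw [actw_26]
  exact fixW_26 v hv

theorem wlt_26 : ∀ c ∈ w_26, c < 2 * (5 + 1) := by decide

theorem fix_26 : ∀ v, v < 139776 → actL mT w_26 v = v :=
  fix_of_half tableOK hcomm 69888 hcov w_26 wlt_26 fixh_26

theorem actw_27 : ∀ v, actL mT w_27 v = W_27 v := by
  intro v
  simp (maxSteps := 100000000) only [w_27, actL, W_27, forceL_eq]
  rfl

theorem fixW_27 : ∀ v, v < 69888 → W_27 v = v :=
  (fixW_step (fixW_step (fixW_step (fixW_step (fixW_step (fixW_step (fun v hv => absurd hv (by omega)) 11904 fixc_27_0) 11904 fixc_27_11904) 11904 fixc_27_23808) 11904 fixc_27_35712) 11904 fixc_27_47616) 10368 fixc_27_59520)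

theorem fixh_27 : ∀ v, v < 69888 → actL mT w_27 v = v := fun v hv => by
  rw [actw_27]
  exact fixW_27 v hv

theorem wlt_27 : ∀ c ∈ w_27, c < 2 * (5 + 1) := by decide

theorem fix_27 : ∀ v, v < 139776 → actL mT w_27 v = v :=
  fix_of_half tableOK hcomm 69888 hcov w_27 wlt_27 fixh_27

theorem actw_28 : ∀ v, actL mT w_28 v = W_28 v := by
  intro v
  simp (maxSteps := 100000000) only [w_28, actL, W_28, forceL_eq]
  rfl

theorem fixW_28 : ∀ v, v < 69888 → W_28 v = v :=
  (fixW_step (fixW_step (fixW_step (fixW_step (fixW_step (fixW_step (fixW_step (fun v hv => absurd hv (by omega)) 11363 fixc_28_0) 11363 fixc_28_11363) 11363 fixc_28_22726) 11363 fixc_28_34089) 11363 fixc_28_45452) 11363 fixc_28_56815) 1710 fixc_28_68178)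

theorem fixh_28 : ∀ v, v < 69888 → actL mT w_28 v = v := fun v hv => by
  rw [actw_28]
  exact fixW_28 v hv

theorem wlt_28 : ∀ c ∈ w_28, c < 2 * (5 + 1) := by decide

theorem fix_28 : ∀ v, v < 139776 → actL mT w_28 v = v :=
  fix_of_half tableOK hcomm 69888 hcov w_28 wlt_28 fixh_28

theorem actw_29 : ∀ v, actL mT w_29 v = W_29 v := by
  intro v
  simp (maxSteps := 100000000) only [w_29, actL, W_29, forceL_eq]
  rfl

theorem fixW_29 : ∀ v, v < 69888 → W_29 v = v :=
  (fixW_step (fixW_step (fixW_step (fixW_step (fixW_step (fixW_step (fixW_step (fun v hv => absurd hv (by omega)) 11363 fixc_29_0) 11363 fixc_29_11363) 11363 fixc_29_22726) 11363 fixc_29_34089) 11363 fixc_29_45452) 11363 fixc_29_56815) 1710 fixc_29_68178)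

theorem fixh_29 : ∀ v, v < 69888 → actL mT w_29 v = v := fun v hv => by
  rw [actw_29]
  exact fixW_29 v hv

theorem wlt_29 : ∀ c ∈ w_29, c < 2 * (5 + 1) := by decide

theorem fix_29 : ∀ v, v < 139776 → actL mT w_29 v = v :=
  fix_of_half tableOK hcomm 69888 hcov w_29 wlt_29 fixh_29

theorem actw_30 : ∀ v, actL mT w_30 v = W_30 v := by
  intro v
  simp (maxSteps := 100000000) only [w_30, actL, W_30, forceL_eq]
  rfl

theorem fixW_30 : ∀ v, v < 69888 → W_30 v = v :=
  (fixW_step (fixW_step (fixW_step (fixW_step (fixW_step (fixW_step (fixW_step (fun v hv => absurd hv (by omega)) 11363 fixc_30_0) 11363 fixc_30_11363) 11363 fixc_30_22726) 11363 fixc_30_34089) 11363 fixc_30_45452) 11363 fixc_30_56815) 1710 fixc_30_68178)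

theorem fixh_30 : ∀ v, v < 69888 → actL mT w_30 v = v := fun v hv => by
  rw [actw_30]
  exact fixW_30 v hv

theorem wlt_30 : ∀ c ∈ w_30, c < 2 * (5 + 1) := by decide

theorem fix_30 : ∀ v, v < 139776 → actL mT w_30 v = v :=
  fix_of_half tableOK hcomm 69888 hcov w_30 wlt_30 fixh_30

theorem actw_31 : ∀ v, actL mT w_31 v = W_31 v := by
  intro v
  simp (maxSteps := 100000000) only [w_31, actL, W_31, forceL_eq]
  rfl

theorem fixW_31 : ∀ v, v < 69888 → W_31 v = v :=
  (fixW_step (fixW_step (fixW_step (fixW_step (fixW_step (fixW_step (fixW_step (fun v hv => absurd hv (by omega)) 11363 fixc_31_0) 11363 fixc_31_11363) 11363 fixc_31_22726) 11363 fixc_31_34089) 11363 fixc_31_45452) 11363 fixc_31_56815) 1710 fixc_31_68178)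

theorem fixh_31 : ∀ v, v < 69888 → actL mT w_31 v = v := fun v hv => by
  rw [actw_31]
  exact fixW_31 v hv

theorem wlt_31 : ∀ c ∈ w_31, c < 2 * (5 + 1) := by decide

theorem fix_31 : ∀ v, v < 139776 → actL mT w_31 v = v :=
  fix_of_half tableOK hcomm 69888 hcov w_31 wlt_31 fixh_31

theorem actw_32 : ∀ v, actL mT w_32 v = W_32 v := by
  intro v
  simp (maxSteps := 100000000) only [w_32, actL, W_32, forceL_eq]
  rfl

theorem fixW_32 : ∀ v, v < 69888 → W_32 v = v :=
  (fixW_step (fixW_step (fixW_step (fixW_step (fixW_step (fixW_step (fixW_step (fun v hv => absurd hv (by omega)) 11363 fixc_32_0) 11363 fixc_32_11363) 11363 fixc_32_22726) 11363 fixc_32_34089) 11363 fixc_32_45452) 11363 fixc_32_56815) 1710 fixc_32_68178)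

theorem fixh_32 : ∀ v, v < 69888 → actL mT w_32 v = v := fun v hv => by
  rw [actw_32]
  exact fixW_32 v hv

theorem wlt_32 : ∀ c ∈ w_32, c < 2 * (5 + 1) := by decide

theorem fix_32 : ∀ v, v < 139776 → actL mT w_32 v = v :=
  fix_of_half tableOK hcomm 69888 hcov w_32 wlt_32 fixh_32

theorem actw_33 : ∀ v, actL mT w_33 v = W_33 v := by
  intro v
  simp (maxSteps := 100000000) only [w_33, actL, W_33, forceL_eq]
  rfl

theorem fixW_33 : ∀ v, v < 69888 → W_33 v = v :=
  (fixW_step (fixW_step (fixW_step (fixW_step (fixW_step (fixW_step (fixW_step (fun v hv => absurd hv (by omega)) 11363 fixc_33_0) 11363 fixc_33_11363) 11363 fixc_33_22726) 11363 fixc_33_34089) 11363 fixc_33_45452) 11363 fixc_33_56815) 1710 fixc_33_68178)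

theorem fixh_33 : ∀ v, v < 69888 → actL mT w_33 v = v := fun v hv => by
  rw [actw_33]
  exact fixW_33 v hv

theorem wlt_33 : ∀ c ∈ w_33, c < 2 * (5 + 1) := by decide

theorem fix_33 : ∀ v, v < 139776 → actL mT w_33 v = v :=
  fix_of_half tableOK hcomm 69888 hcov w_33 wlt_33 fixh_33

theorem actw_34 : ∀ v, actL mT w_34 v = W_34 v := by
  intro v
  simp (maxSteps := 100000000) only [w_34, actL, W_34, forceL_eq]
  rfl

theorem fixW_34 : ∀ v, v < 69888 → W_34 v = v :=
  (fixW_step (fixW_step (fixW_step (fixW_step (fixW_step (fixW_step (fixW_step (fun v hv => absurd hv (by omega)) 11363 fixc_34_0) 11363 fixc_34_11363) 11363 fixc_34_22726) 11363 fixc_34_34089) 11363 fixc_34_45452) 11363 fixc_34_56815) 1710 fixc_34_68178)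

theorem fixh_34 : ∀ v, v < 69888 → actL mT w_34 v = v := fun v hv => by
  rw [actw_34]
  exact fixW_34 v hv

theorem wlt_34 : ∀ c ∈ w_34, c < 2 * (5 + 1) := by decide

theorem fix_34 : ∀ v, v < 139776 → actL mT w_34 v = v :=
  fix_of_half tableOK hcomm 69888 hcov w_34 wlt_34 fixh_34

theorem actw_35 : ∀ v, actL mT w_35 v = W_35 v := by
  intro v
  simp (maxSteps := 100000000) only [w_35, actL, W_35, forceL_eq]
  rfl

theorem fixW_35 : ∀ v, v < 69888 → W_35 v = v :=
  (fixW_step (fixW_step (fixW_step (fixW_step (fixW_step (fixW_step (fixW_step (fun v hv => absurd hv (by omega)) 11363 fixc_35_0) 11363 fixc_35_11363) 11363 fixc_35_22726) 11363 fixc_35_34089) 11363 fixc_35_45452) 11363 fixc_35_56815) 1710 fixc_35_68178)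

theorem fixh_35 : ∀ v, v < 69888 → actL mT w_35 v = v := fun v hv => by
  rw [actw_35]
  exact fixW_35 v hv

theorem wlt_35 : ∀ c ∈ w_35, c < 2 * (5 + 1) := by decide

theorem fix_35 : ∀ v, v < 139776 → actL mT w_35 v = v :=
  fix_of_half tableOK hcomm 69888 hcov w_35 wlt_35 fixh_35

theorem actw_36 : ∀ v, actL mT w_36 v = W_36 v := by
  intro v
  simp (maxSteps := 100000000) only [w_36, actL, W_36, forceL_eq]
  rfl

theorem fixW_36 : ∀ v, v < 69888 → W_36 v = v :=
  (fixW_step (fixW_step (fixW_step (fixW_step (fixW_step (fixW_step (fixW_step (fun v hv => absurd hv (by omega)) 11363 fixc_36_0) 11363 fixc_36_11363) 11363 fixc_36_22726) 11363 fixc_36_34089) 11363 fixc_36_45452) 11363 fixc_36_56815) 1710 fixc_36_68178)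

theorem fixh_36 : ∀ v, v < 69888 → actL mT w_36 v = v := fun v hv => by
  rw [actw_36]
  exact fixW_36 v hv

theorem wlt_36 : ∀ c ∈ w_36, c < 2 * (5 + 1) := by decide

theorem fix_36 : ∀ v, v < 139776 → actL mT w_36 v = v :=
  fix_of_half tableOK hcomm 69888 hcov w_36 wlt_36 fixh_36

theorem actw_37 : ∀ v, actL mT w_37 v = W_37 v := by
  intro v
  simp (maxSteps := 100000000) only [w_37, actL, W_37, forceL_eq]
  rfl

theorem fixW_37 : ∀ v, v < 69888 → W_37 v = v :=
  (fixW_step (fixW_step (fixW_step (fixW_step (fixW_step (fixW_step (fixW_step (fun v hv => absurd hv (by omega)) 11363 fixc_37_0) 11363 fixc_37_11363) 11363 fixc_37_22726) 11363 fixc_37_34089) 11363 fixc_37_45452) 11363 fixc_37_56815) 1710 fixc_37_68178)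

theorem fixh_37 : ∀ v, v < 69888 → actL mT w_37 v = v := fun v hv => by
  rw [actw_37]
  exact fixW_37 v hv

theorem wlt_37 : ∀ c ∈ w_37, c < 2 * (5 + 1) := by decide

theorem fix_37 : ∀ v, v < 139776 → actL mT w_37 v = v :=
  fix_of_half tableOK hcomm 69888 hcov w_37 wlt_37 fixh_37

theorem actw_38 : ∀ v, actL mT w_38 v = W_38 v := by
  intro v
  simp (maxSteps := 100000000) only [w_38, actL, W_38, forceL_eq]
  rfl

theorem fixW_38 : ∀ v, v < 69888 → W_38 v = v :=
  (fixW_step (fixW_step (fixW_step (fixW_step (fixW_step (fixW_step (fixW_step (fun v hv => absurd hv (by omega)) 11363 fixc_38_0) 11363 fixc_38_11363) 11363 fixc_38_22726) 11363 fixc_38_34089) 11363 fixc_38_45452) 11363 fixc_38_56815) 1710 fixc_38_68178)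

theorem fixh_38 : ∀ v, v < 69888 → actL mT w_38 v = v := fun v hv => by
  rw [actw_38]
  exact fixW_38 v hv

theorem wlt_38 : ∀ c ∈ w_38, c < 2 * (5 + 1) := by decide

theorem fix_38 : ∀ v, v < 139776 → actL mT w_38 v = v :=
  fix_of_half tableOK hcomm 69888 hcov w_38 wlt_38 fixh_38

theorem actw_39 : ∀ v, actL mT w_39 v = W_39 v := by
  intro v
  simp (maxSteps := 100000000) only [w_39, actL, W_39, forceL_eq]
  rfl

theorem fixW_39 : ∀ v, v < 69888 → W_39 v = v :=
  (fixW_step (fixW_step (fixW_step (fixW_step (fixW_step (fixW_step (fixW_step (fun v hv => absurd hv (by omega)) 11363 fixc_39_0) 11363 fixc_39_11363) 11363 fixc_39_22726) 11363 fixc_39_34089) 11363 fixc_39_45452) 11363 fixc_39_56815) 1710 fixc_39_68178)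

theorem fixh_39 : ∀ v, v < 69888 → actL mT w_39 v = v := fun v hv => by
  rw [actw_39]
  exact fixW_39 v hv

theorem wlt_39 : ∀ c ∈ w_39, c < 2 * (5 + 1) := by decide

theorem fix_39 : ∀ v, v < 139776 → actL mT w_39 v = v :=
  fix_of_half tableOK hcomm 69888 hcov w_39 wlt_39 fixh_39

theorem actw_40 : ∀ v, actL mT w_40 v = W_40 v := by
  intro v
  simp (maxSteps := 100000000) only [w_40, actL, W_40, forceL_eq]
  rfl

theorem fixW_40 : ∀ v, v < 69888 → W_40 v = v :=
  (fixW_step (fixW_step (fixW_step (fixW_step (fixW_step (fixW_step (fixW_step (fun v hv => absurd hv (by omega)) 11363 fixc_40_0) 11363 fixc_40_11363) 11363 fixc_40_22726) 11363 fixc_40_34089) 11363 fixc_40_45452) 11363 fixc_40_56815) 1710 fixc_40_68178)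

theorem fixh_40 : ∀ v, v < 69888 → actL mT w_40 v = v := fun v hv => by
  rw [actw_40]
  exact fixW_40 v hv

theorem wlt_40 : ∀ c ∈ w_40, c < 2 * (5 + 1) := by decide

theorem fix_40 : ∀ v, v < 139776 → actL mT w_40 v = v :=
  fix_of_half tableOK hcomm 69888 hcov w_40 wlt_40 fixh_40

theorem actw_41 : ∀ v, actL mT w_41 v = W_41 v := by
  intro v
  simp (maxSteps := 100000000) only [w_41, actL, W_41, forceL_eq]
  rfl

theorem fixW_41 : ∀ v, v < 69888 → W_41 v = v :=
  (fixW_step (fixW_step (fixW_step (fixW_step (fixW_step (fixW_step (fixW_step (fun v hv => absurd hv (by omega)) 11363 fixc_41_0) 11363 fixc_41_11363) 11363 fixc_41_22726) 11363 fixc_41_34089) 11363 fixc_41_45452) 11363 fixc_41_56815) 1710 fixc_41_68178)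

theorem fixh_41 : ∀ v, v < 69888 → actL mT w_41 v = v := fun v hv => by
  rw [actw_41]
  exact fixW_41 v hv

theorem wlt_41 : ∀ c ∈ w_41, c < 2 * (5 + 1) := by decide

theorem fix_41 : ∀ v, v < 139776 → actL mT w_41 v = v :=
  fix_of_half tableOK hcomm 69888 hcov w_41 wlt_41 fixh_41

theorem actw_42 : ∀ v, actL mT w_42 v = W_42 v := by
  intro v
  simp (maxSteps := 100000000) only [w_42, actL, W_42, forceL_eq]
  rfl

theorem fixW_42 : ∀ v, v < 69888 → W_42 v = v :=
  (fixW_step (fixW_step (fixW_step (fixW_step (fixW_step (fixW_step (fixW_step (fun v hv => absurd hv (by omega)) 11363 fixc_42_0) 11363 fixc_42_11363) 11363 fixc_42_22726) 11363 fixc_42_34089) 11363 fixc_42_45452) 11363 fixc_42_56815) 1710 fixc_42_68178)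

theorem fixh_42 : ∀ v, v < 69888 → actL mT w_42 v = v := fun v hv => by
  rw [actw_42]
  exact fixW_42 v hv

theorem wlt_42 : ∀ c ∈ w_42, c < 2 * (5 + 1) := by decide

theorem fix_42 : ∀ v, v < 139776 → actL mT w_42 v = v :=
  fix_of_half tableOK hcomm 69888 hcov w_42 wlt_42 fixh_42

theorem actw_43 : ∀ v, actL mT w_43 v = W_43 v := by
  intro v
  simp (maxSteps := 100000000) only [w_43, actL, W_43, forceL_eq]
  rfl

theorem fixW_43 : ∀ v, v < 69888 → W_43 v = v :=
  (fixW_step (fixW_step (fixW_step (fixW_step (fixW_step (fixW_step (fixW_step (fun v hv => absurd hv (by omega)) 11363 fixc_43_0) 11363 fixc_43_11363) 11363 fixc_43_22726) 11363 fixc_43_34089) 11363 fixc_43_45452) 11363 fixc_43_56815) 1710 fixc_43_68178)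

theorem fixh_43 : ∀ v, v < 69888 → actL mT w_43 v = v := fun v hv => by
  rw [actw_43]
  exact fixW_43 v hv

theorem wlt_43 : ∀ c ∈ w_43, c < 2 * (5 + 1) := by decide

theorem fix_43 : ∀ v, v < 139776 → actL mT w_43 v = v :=
  fix_of_half tableOK hcomm 69888 hcov w_43 wlt_43 fixh_43

theorem actw_44 : ∀ v, actL mT w_44 v = W_44 v := by
  intro v
  simp (maxSteps := 100000000) only [w_44, actL, W_44, forceL_eq]
  rfl

theorem fixW_44 : ∀ v, v < 69888 → W_44 v = v :=
  (fixW_step (fixW_step (fixW_step (fixW_step (fixW_step (fixW_step (fixW_step (fun v hv => absurd hv (by omega)) 11363 fixc_44_0) 11363 fixc_44_11363) 11363 fixc_44_22726) 11363 fixc_44_34089) 11363 fixc_44_45452) 11363 fixc_44_56815) 1710 fixc_44_68178)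

theorem fixh_44 : ∀ v, v < 69888 → actL mT w_44 v = v := fun v hv => by
  rw [actw_44]
  exact fixW_44 v hv

theorem wlt_44 : ∀ c ∈ w_44, c < 2 * (5 + 1) := by decide

theorem fix_44 : ∀ v, v < 139776 → actL mT w_44 v = v :=
  fix_of_half tableOK hcomm 69888 hcov w_44 wlt_44 fixh_44

theorem actw_45 : ∀ v, actL mT w_45 v = W_45 v := by
  intro v
  simp (maxSteps := 100000000) only [w_45, actL, W_45, forceL_eq]
  rfl

theorem fixW_45 : ∀ v, v < 69888 → W_45 v = v :=
  (fixW_step (fixW_step (fixW_step (fixW_step (fixW_step (fixW_step (fixW_step (fun v hv => absurd hv (by omega)) 11363 fixc_45_0) 11363 fixc_45_11363) 11363 fixc_45_22726) 11363 fixc_45_34089) 11363 fixc_45_45452) 11363 fixc_45_56815) 1710 fixc_45_68178)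

theorem fixh_45 : ∀ v, v < 69888 → actL mT w_45 v = v := fun v hv => by
  rw [actw_45]
  exact fixW_45 v hv

theorem wlt_45 : ∀ c ∈ w_45, c < 2 * (5 + 1) := by decide

theorem fix_45 : ∀ v, v < 139776 → actL mT w_45 v = v :=
  fix_of_half tableOK hcomm 69888 hcov w_45 wlt_45 fixh_45

theorem actw_46 : ∀ v, actL mT w_46 v = W_46 v := by
  intro v
  simp (maxSteps := 100000000) only [w_46, actL, W_46, forceL_eq]
  rfl

theorem fixW_46 : ∀ v, v < 69888 → W_46 v = v :=
  (fixW_step (fixW_step (fixW_step (fixW_step (fixW_step (fixW_step (fixW_step (fun v hv => absurd hv (by omega)) 11363 fixc_46_0) 11363 fixc_46_11363) 11363 fixc_46_22726) 11363 fixc_46_34089) 11363 fixc_46_45452) 11363 fixc_46_56815) 1710 fixc_46_68178)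

theorem fixh_46 : ∀ v, v < 69888 → actL mT w_46 v = v := fun v hv => by
  rw [actw_46]
  exact fixW_46 v hv

theorem wlt_46 : ∀ c ∈ w_46, c < 2 * (5 + 1) := by decide

theorem fix_46 : ∀ v, v < 139776 → actL mT w_46 v = v :=
  fix_of_half tableOK hcomm 69888 hcov w_46 wlt_46 fixh_46

theorem actw_47 : ∀ v, actL mT w_47 v = W_47 v := by
  intro v
  simp (maxSteps := 100000000) only [w_47, actL, W_47, forceL_eq]
  rfl

theorem fixW_47 : ∀ v, v < 69888 → W_47 v = v :=
  (fixW_step (fixW_step (fixW_step (fixW_step (fixW_step (fixW_step (fixW_step (fun v hv => absurd hv (by omega)) 11363 fixc_47_0) 11363 fixc_47_11363) 11363 fixc_47_22726) 11363 fixc_47_34089) 11363 fixc_47_45452) 11363 fixc_47_56815) 1710 fixc_47_68178)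

theorem fixh_47 : ∀ v, v < 69888 → actL mT w_47 v = v := fun v hv => by
  rw [actw_47]
  exact fixW_47 v hv

theorem wlt_47 : ∀ c ∈ w_47, c < 2 * (5 + 1) := by decide

theorem fix_47 : ∀ v, v < 139776 → actL mT w_47 v = v :=
  fix_of_half tableOK hcomm 69888 hcov w_47 wlt_47 fixh_47

theorem actw_48 : ∀ v, actL mT w_48 v = W_48 v := by
  intro v
  simp (maxSteps := 100000000) only [w_48, actL, W_48, forceL_eq]
  rfl

theorem fixW_48 : ∀ v, v < 69888 → W_48 v = v :=
  (fixW_step (fixW_step (fixW_step (fixW_step (fixW_step (fixW_step (fixW_step (fun v hv => absurd hv (by omega)) 11363 fixc_48_0) 11363 fixc_48_11363) 11363 fixc_48_22726) 11363 fixc_48_34089) 11363 fixc_48_45452) 11363 fixc_48_56815) 1710 fixc_48_68178)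

theorem fixh_48 : ∀ v, v < 69888 → actL mT w_48 v = v := fun v hv => by
  rw [actw_48]
  exact fixW_48 v hv

theorem wlt_48 : ∀ c ∈ w_48, c < 2 * (5 + 1) := by decide

theorem fix_48 : ∀ v, v < 139776 → actL mT w_48 v = v :=
  fix_of_half tableOK hcomm 69888 hcov w_48 wlt_48 fixh_48

theorem actw_49 : ∀ v, actL mT w_49 v = W_49 v := by
  intro v
  simp (maxSteps := 100000000) only [w_49, actL, W_49, forceL_eq]
  rfl

theorem fixW_49 : ∀ v, v < 69888 → W_49 v = v :=
  (fixW_step (fixW_step (fixW_step (fixW_step (fixW_step (fixW_step (fixW_step (fun v hv => absurd hv (by omega)) 11363 fixc_49_0) 11363 fixc_49_11363) 11363 fixc_49_22726) 11363 fixc_49_34089) 11363 fixc_49_45452) 11363 fixc_49_56815) 1710 fixc_49_68178)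

theorem fixh_49 : ∀ v, v < 69888 → actL mT w_49 v = v := fun v hv => by
  rw [actw_49]
  exact fixW_49 v hv

theorem wlt_49 : ∀ c ∈ w_49, c < 2 * (5 + 1) := by decide

theorem fix_49 : ∀ v, v < 139776 → actL mT w_49 v = v :=
  fix_of_half tableOK hcomm 69888 hcov w_49 wlt_49 fixh_49

theorem actw_50 : ∀ v, actL mT w_50 v = W_50 v := by
  intro v
  simp (maxSteps := 100000000) only [w_50, actL, W_50, forceL_eq]
  rfl

theorem fixW_50 : ∀ v, v < 69888 → W_50 v = v :=
  (fixW_step (fixW_step (fixW_step (fixW_step (fixW_step (fixW_step (fixW_step (fun v hv => absurd hv (by omega)) 11363 fixc_50_0) 11363 fixc_50_11363) 11363 fixc_50_22726) 11363 fixc_50_34089) 11363 fixc_50_45452) 11363 fixc_50_56815) 1710 fixc_50_68178)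

theorem fixh_50 : ∀ v, v < 69888 → actL mT w_50 v = v := fun v hv => by
  rw [actw_50]
  exact fixW_50 v hv

theorem wlt_50 : ∀ c ∈ w_50, c < 2 * (5 + 1) := by decide

theorem fix_50 : ∀ v, v < 139776 → actL mT w_50 v = v :=
  fix_of_half tableOK hcomm 69888 hcov w_50 wlt_50 fixh_50

theorem actw_51 : ∀ v, actL mT w_51 v = W_51 v := by
  intro v
  simp (maxSteps := 100000000) only [w_51, actL, W_51, forceL_eq]
  rfl

theorem fixW_51 : ∀ v, v < 69888 → W_51 v = v :=
  (fixW_step (fixW_step (fixW_step (fixW_step (fixW_step (fixW_step (fixW_step (fun v hv => absurd hv (by omega)) 11363 fixc_51_0) 11363 fixc_51_11363) 11363 fixc_51_22726) 11363 fixc_51_34089) 11363 fixc_51_45452) 11363 fixc_51_56815) 1710 fixc_51_68178)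

theorem fixh_51 : ∀ v, v < 69888 → actL mT w_51 v = v := fun v hv => by
  rw [actw_51]
  exact fixW_51 v hv

theorem wlt_51 : ∀ c ∈ w_51, c < 2 * (5 + 1) := by decide

theorem fix_51 : ∀ v, v < 139776 → actL mT w_51 v = v :=
  fix_of_half tableOK hcomm 69888 hcov w_51 wlt_51 fixh_51

theorem actw_52 : ∀ v, actL mT w_52 v = W_52 v := by
  intro v
  simp (maxSteps := 100000000) only [w_52, actL, W_52, forceL_eq]
  rfl

theorem fixW_52 : ∀ v, v < 69888 → W_52 v = v :=
  (fixW_step (fixW_step (fixW_step (fixW_step (fixW_step (fixW_step (fixW_step (fun v hv => absurd hv (by omega)) 11363 fixc_52_0) 11363 fixc_52_11363) 11363 fixc_52_22726) 11363 fixc_52_34089) 11363 fixc_52_45452) 11363 fixc_52_56815) 1710 fixc_52_68178)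

theorem fixh_52 : ∀ v, v < 69888 → actL mT w_52 v = v := fun v hv => by
  rw [actw_52]
  exact fixW_52 v hv

theorem wlt_52 : ∀ c ∈ w_52, c < 2 * (5 + 1) := by decide

theorem fix_52 : ∀ v, v < 139776 → actL mT w_52 v = v :=
  fix_of_half tableOK hcomm 69888 hcov w_52 wlt_52 fixh_52

theorem actw_53 : ∀ v, actL mT w_53 v = W_53 v := by
  intro v
  simp (maxSteps := 100000000) only [w_53, actL, W_53, forceL_eq]
  rfl

theorem fixW_53 : ∀ v, v < 69888 → W_53 v = v :=
  (fixW_step (fixW_step (fixW_step (fixW_step (fixW_step (fixW_step (fixW_step (fun v hv => absurd hv (by omega)) 11363 fixc_53_0) 11363 fixc_53_11363) 11363 fixc_53_22726) 11363 fixc_53_34089) 11363 fixc_53_45452) 11363 fixc_53_56815) 1710 fixc_53_68178)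

theorem fixh_53 : ∀ v, v < 69888 → actL mT w_53 v = v := fun v hv => by
  rw [actw_53]
  exact fixW_53 v hv

theorem wlt_53 : ∀ c ∈ w_53, c < 2 * (5 + 1) := by decide

theorem fix_53 : ∀ v, v < 139776 → actL mT w_53 v = v :=
  fix_of_half tableOK hcomm 69888 hcov w_53 wlt_53 fixh_53

theorem actw_54 : ∀ v, actL mT w_54 v = W_54 v := by
  intro v
  simp (maxSteps := 100000000) only [w_54, actL, W_54, forceL_eq]
  rfl

theorem fixW_54 : ∀ v, v < 69888 → W_54 v = v :=
  (fixW_step (fixW_step (fixW_step (fixW_step (fixW_step (fixW_step (fixW_step (fun v hv => absurd hv (by omega)) 11363 fixc_54_0) 11363 fixc_54_11363) 11363 fixc_54_22726) 11363 fixc_54_34089) 11363 fixc_54_45452) 11363 fixc_54_56815) 1710 fixc_54_68178)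

theorem fixh_54 : ∀ v, v < 69888 → actL mT w_54 v = v := fun v hv => by
  rw [actw_54]
  exact fixW_54 v hv

theorem wlt_54 : ∀ c ∈ w_54, c < 2 * (5 + 1) := by decide

theorem fix_54 : ∀ v, v < 139776 → actL mT w_54 v = v :=
  fix_of_half tableOK hcomm 69888 hcov w_54 wlt_54 fixh_54

theorem actw_55 : ∀ v, actL mT w_55 v = W_55 v := by
  intro v
  simp (maxSteps := 100000000) only [w_55, actL, W_55, forceL_eq]
  rfl

theorem fixW_55 : ∀ v, v < 69888 → W_55 v = v :=
  (fixW_step (fixW_step (fixW_step (fixW_step (fixW_step (fixW_step (fixW_step (fun v hv => absurd hv (by omega)) 11363 fixc_55_0) 11363 fixc_55_11363) 11363 fixc_55_22726) 11363 fixc_55_34089) 11363 fixc_55_45452) 11363 fixc_55_56815) 1710 fixc_55_68178)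

theorem fixh_55 : ∀ v, v < 69888 → actL mT w_55 v = v := fun v hv => by
  rw [actw_55]
  exact fixW_55 v hv

theorem wlt_55 : ∀ c ∈ w_55, c < 2 * (5 + 1) := by decide

theorem fix_55 : ∀ v, v < 139776 → actL mT w_55 v = v :=
  fix_of_half tableOK hcomm 69888 hcov w_55 wlt_55 fixh_55

theorem actw_56 : ∀ v, actL mT w_56 v = W_56 v := by
  intro v
  simp (maxSteps := 100000000) only [w_56, actL, W_56, forceL_eq]
  rfl

theorem fixW_56 : ∀ v, v < 69888 → W_56 v = v :=
  (fixW_step (fixW_step (fixW_step (fixW_step (fixW_step (fixW_step (fixW_step (fun v hv => absurd hv (by omega)) 11363 fixc_56_0) 11363 fixc_56_11363) 11363 fixc_56_22726) 11363 fixc_56_34089) 11363 fixc_56_45452) 11363 fixc_56_56815) 1710 fixc_56_68178)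

theorem fixh_56 : ∀ v, v < 69888 → actL mT w_56 v = v := fun v hv => by
  rw [actw_56]
  exact fixW_56 v hv

theorem wlt_56 : ∀ c ∈ w_56, c < 2 * (5 + 1) := by decide

theorem fix_56 : ∀ v, v < 139776 → actL mT w_56 v = v :=
  fix_of_half tableOK hcomm 69888 hcov w_56 wlt_56 fixh_56

theorem actw_57 : ∀ v, actL mT w_57 v = W_57 v := by
  intro v
  simp (maxSteps := 100000000) only [w_57, actL, W_57, forceL_eq]
  rfl

theorem fixW_57 : ∀ v, v < 69888 → W_57 v = v :=
  (fixW_step (fixW_step (fixW_step (fixW_step (fixW_step (fixW_step (fixW_step (fun v hv => absurd hv (by omega)) 11363 fixc_57_0) 11363 fixc_57_11363) 11363 fixc_57_22726) 11363 fixc_57_34089) 11363 fixc_57_45452) 11363 fixc_57_56815) 1710 fixc_57_68178)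

theorem fixh_57 : ∀ v, v < 69888 → actL mT w_57 v = v := fun v hv => by
  rw [actw_57]
  exact fixW_57 v hv

theorem wlt_57 : ∀ c ∈ w_57, c < 2 * (5 + 1) := by decide

theorem fix_57 : ∀ v, v < 139776 → actL mT w_57 v = v :=
  fix_of_half tableOK hcomm 69888 hcov w_57 wlt_57 fixh_57

theorem actw_58 : ∀ v, actL mT w_58 v = W_58 v := by
  intro v
  simp (maxSteps := 100000000) only [w_58, actL, W_58, forceL_eq]
  rfl

theorem fixW_58 : ∀ v, v < 69888 → W_58 v = v :=
  (fixW_step (fixW_step (fixW_step (fixW_step (fixW_step (fixW_step (fixW_step (fun v hv => absurd hv (by omega)) 10869 fixc_58_0) 10869 fixc_58_10869) 10869 fixc_58_21738) 10869 fixc_58_32607) 10869 fixc_58_43476) 10869 fixc_58_54345) 4674 fixc_58_65214)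

theorem fixh_58 : ∀ v, v < 69888 → actL mT w_58 v = v := fun v hv => by
  rw [actw_58]
  exact fixW_58 v hv

theorem wlt_58 : ∀ c ∈ w_58, c < 2 * (5 + 1) := by decide

theorem fix_58 : ∀ v, v < 139776 → actL mT w_58 v = v :=
  fix_of_half tableOK hcomm 69888 hcov w_58 wlt_58 fixh_58

theorem actw_59 : ∀ v, actL mT w_59 v = W_59 v := by
  intro v
  simp (maxSteps := 100000000) only [w_59, actL, W_59, forceL_eq]
  rfl

theorem fixW_59 : ∀ v, v < 69888 → W_59 v = v :=
  (fixW_step (fixW_step (fixW_step (fixW_step (fixW_step (fixW_step (fixW_step (fun v hv => absurd hv (by omega)) 10869 fixc_59_0) 10869 fixc_59_10869) 10869 fixc_59_21738) 10869 fixc_59_32607) 10869 fixc_59_43476) 10869 fixc_59_54345) 4674 fixc_59_65214)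

theorem fixh_59 : ∀ v, v < 69888 → actL mT w_59 v = v := fun v hv => by
  rw [actw_59]
  exact fixW_59 v hv

theorem wlt_59 : ∀ c ∈ w_59, c < 2 * (5 + 1) := by decide

theorem fix_59 : ∀ v, v < 139776 → actL mT w_59 v = v :=
  fix_of_half tableOK hcomm 69888 hcov w_59 wlt_59 fixh_59

theorem actw_60 : ∀ v, actL mT w_60 v = W_60 v := by
  intro v
  simp (maxSteps := 100000000) only [w_60, actL, W_60, forceL_eq]
  rfl

theorem fixW_60 : ∀ v, v < 69888 → W_60 v = v :=
  (fixW_step (fixW_step (fixW_step (fixW_step (fixW_step (fixW_step (fixW_step (fun v hv => absurd hv (by omega)) 10869 fixc_60_0) 10869 fixc_60_10869) 10869 fixc_60_21738) 10869 fixc_60_32607) 10869 fixc_60_43476) 10869 fixc_60_54345) 4674 fixc_60_65214)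

theorem fixh_60 : ∀ v, v < 69888 → actL mT w_60 v = v := fun v hv => by
  rw [actw_60]
  exact fixW_60 v hv

theorem wlt_60 : ∀ c ∈ w_60, c < 2 * (5 + 1) := by decide

theorem fix_60 : ∀ v, v < 139776 → actL mT w_60 v = v :=
  fix_of_half tableOK hcomm 69888 hcov w_60 wlt_60 fixh_60

theorem actw_61 : ∀ v, actL mT w_61 v = W_61 v := by
  intro v
  simp (maxSteps := 100000000) only [w_61, actL, W_61, forceL_eq]
  rfl

theorem fixW_61 : ∀ v, v < 69888 → W_61 v = v :=
  (fixW_step (fixW_step (fixW_step (fixW_step (fixW_step (fixW_step (fixW_step (fun v hv => absurd hv (by omega)) 10869 fixc_61_0) 10869 fixc_61_10869) 10869 fixc_61_21738) 10869 fixc_61_32607) 10869 fixc_61_43476) 10869 fixc_61_54345) 4674 fixc_61_65214)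

theorem fixh_61 : ∀ v, v < 69888 → actL mT w_61 v = v := fun v hv => by
  rw [actw_61]
  exact fixW_61 v hv

theorem wlt_61 : ∀ c ∈ w_61, c < 2 * (5 + 1) := by decide

theorem fix_61 : ∀ v, v < 139776 → actL mT w_61 v = v :=
  fix_of_half tableOK hcomm 69888 hcov w_61 wlt_61 fixh_61

theorem actw_62 : ∀ v, actL mT w_62 v = W_62 v := by
  intro v
  simp (maxSteps := 100000000) only [w_62, actL, W_62, forceL_eq]
  rfl

theorem fixW_62 : ∀ v, v < 69888 → W_62 v = v :=
  (fixW_step (fixW_step (fixW_step (fixW_step (fixW_step (fixW_step (fixW_step (fun v hv => absurd hv (by omega)) 10869 fixc_62_0) 10869 fixc_62_10869) 10869 fixc_62_21738) 10869 fixc_62_32607) 10869 fixc_62_43476) 10869 fixc_62_54345) 4674 fixc_62_65214)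

theorem fixh_62 : ∀ v, v < 69888 → actL mT w_62 v = v := fun v hv => by
  rw [actw_62]
  exact fixW_62 v hv

theorem wlt_62 : ∀ c ∈ w_62, c < 2 * (5 + 1) := by decide

theorem fix_62 : ∀ v, v < 139776 → actL mT w_62 v = v :=
  fix_of_half tableOK hcomm 69888 hcov w_62 wlt_62 fixh_62

theorem actw_63 : ∀ v, actL mT w_63 v = W_63 v := by
  intro v
  simp (maxSteps := 100000000) only [w_63, actL, W_63, forceL_eq]
  rfl

theorem fixW_63 : ∀ v, v < 69888 → W_63 v = v :=
  (fixW_step (fixW_step (fixW_step (fixW_step (fixW_step (fixW_step (fixW_step (fun v hv => absurd hv (by omega)) 10869 fixc_63_0) 10869 fixc_63_10869) 10869 fixc_63_21738) 10869 fixc_63_32607) 10869 fixc_63_43476) 10869 fixc_63_54345) 4674 fixc_63_65214)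

theorem fixh_63 : ∀ v, v < 69888 → actL mT w_63 v = v := fun v hv => by
  rw [actw_63]
  exact fixW_63 v hv

theorem wlt_63 : ∀ c ∈ w_63, c < 2 * (5 + 1) := by decide

theorem fix_63 : ∀ v, v < 139776 → actL mT w_63 v = v :=
  fix_of_half tableOK hcomm 69888 hcov w_63 wlt_63 fixh_63

theorem actw_64 : ∀ v, actL mT w_64 v = W_64 v := by
  intro v
  simp (maxSteps := 100000000) only [w_64, actL, W_64, forceL_eq]
  rfl

theorem fixW_64 : ∀ v, v < 69888 → W_64 v = v :=
  (fixW_step (fixW_step (fixW_step (fixW_step (fixW_step (fixW_step (fixW_step (fun v hv => absurd hv (by omega)) 10869 fixc_64_0) 10869 fixc_64_10869) 10869 fixc_64_21738) 10869 fixc_64_32607) 10869 fixc_64_43476) 10869 fixc_64_54345) 4674 fixc_64_65214)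

theorem fixh_64 : ∀ v, v < 69888 → actL mT w_64 v = v := fun v hv => by
  rw [actw_64]
  exact fixW_64 v hv

theorem wlt_64 : ∀ c ∈ w_64, c < 2 * (5 + 1) := by decide

theorem fix_64 : ∀ v, v < 139776 → actL mT w_64 v = v :=
  fix_of_half tableOK hcomm 69888 hcov w_64 wlt_64 fixh_64

theorem actw_65 : ∀ v, actL mT w_65 v = W_65 v := by
  intro v
  simp (maxSteps := 100000000) only [w_65, actL, W_65, forceL_eq]
  rfl

theorem fixW_65 : ∀ v, v < 69888 → W_65 v = v :=
  (fixW_step (fixW_step (fixW_step (fixW_step (fixW_step (fixW_step (fixW_step (fun v hv => absurd hv (by omega)) 10869 fixc_65_0) 10869 fixc_65_10869) 10869 fixc_65_21738) 10869 fixc_65_32607) 10869 fixc_65_43476) 10869 fixc_65_54345) 4674 fixc_65_65214)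

theorem fixh_65 : ∀ v, v < 69888 → actL mT w_65 v = v := fun v hv => by
  rw [actw_65]
  exact fixW_65 v hv

theorem wlt_65 : ∀ c ∈ w_65, c < 2 * (5 + 1) := by decide

theorem fix_65 : ∀ v, v < 139776 → actL mT w_65 v = v :=
  fix_of_half tableOK hcomm 69888 hcov w_65 wlt_65 fixh_65

theorem actw_66 : ∀ v, actL mT w_66 v = W_66 v := by
  intro v
  simp (maxSteps := 100000000) only [w_66, actL, W_66, forceL_eq]
  rfl

theorem fixW_66 : ∀ v, v < 69888 → W_66 v = v :=
  (fixW_step (fixW_step (fixW_step (fixW_step (fixW_step (fixW_step (fixW_step (fun v hv => absurd hv (by omega)) 10869 fixc_66_0) 10869 fixc_66_10869) 10869 fixc_66_21738) 10869 fixc_66_32607) 10869 fixc_66_43476) 10869 fixc_66_54345) 4674 fixc_66_65214)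

theorem fixh_66 : ∀ v, v < 69888 → actL mT w_66 v = v := fun v hv => by
  rw [actw_66]
  exact fixW_66 v hv

theorem wlt_66 : ∀ c ∈ w_66, c < 2 * (5 + 1) := by decide

theorem fix_66 : ∀ v, v < 139776 → actL mT w_66 v = v :=
  fix_of_half tableOK hcomm 69888 hcov w_66 wlt_66 fixh_66

theorem actw_67 : ∀ v, actL mT w_67 v = W_67 v := by
  intro v
  simp (maxSteps := 100000000) only [w_67, actL, W_67, forceL_eq]
  rfl

theorem fixW_67 : ∀ v, v < 69888 → W_67 v = v :=
  (fixW_step (fixW_step (fixW_step (fixW_step (fixW_step (fixW_step (fixW_step (fun v hv => absurd hv (by omega)) 10869 fixc_67_0) 10869 fixc_67_10869) 10869 fixc_67_21738) 10869 fixc_67_32607) 10869 fixc_67_43476) 10869 fixc_67_54345) 4674 fixc_67_65214)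

theorem fixh_67 : ∀ v, v < 69888 → actL mT w_67 v = v := fun v hv => by
  rw [actw_67]
  exact fixW_67 v hv

theorem wlt_67 : ∀ c ∈ w_67, c < 2 * (5 + 1) := by decide

theorem fix_67 : ∀ v, v < 139776 → actL mT w_67 v = v :=
  fix_of_half tableOK hcomm 69888 hcov w_67 wlt_67 fixh_67

theorem actw_68 : ∀ v, actL mT w_68 v = W_68 v := by
  intro v
  simp (maxSteps := 100000000) only [w_68, actL, W_68, forceL_eq]
  rfl

theorem fixW_68 : ∀ v, v < 69888 → W_68 v = v :=
  (fixW_step (fixW_step (fixW_step (fixW_step (fixW_step (fixW_step (fixW_step (fun v hv => absurd hv (by omega)) 10869 fixc_68_0) 10869 fixc_68_10869) 10869 fixc_68_21738) 10869 fixc_68_32607) 10869 fixc_68_43476) 10869 fixc_68_54345) 4674 fixc_68_65214)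

theorem fixh_68 : ∀ v, v < 69888 → actL mT w_68 v = v := fun v hv => by
  rw [actw_68]
  exact fixW_68 v hv

theorem wlt_68 : ∀ c ∈ w_68, c < 2 * (5 + 1) := by decide

theorem fix_68 : ∀ v, v < 139776 → actL mT w_68 v = v :=
  fix_of_half tableOK hcomm 69888 hcov w_68 wlt_68 fixh_68

theorem actw_69 : ∀ v, actL mT w_69 v = W_69 v := by
  intro v
  simp (maxSteps := 100000000) only [w_69, actL, W_69, forceL_eq]
  rfl

theorem fixW_69 : ∀ v, v < 69888 → W_69 v = v :=
  (fixW_step (fixW_step (fixW_step (fixW_step (fixW_step (fixW_step (fixW_step (fun v hv => absurd hv (by omega)) 10869 fixc_69_0) 10869 fixc_69_10869) 10869 fixc_69_21738) 10869 fixc_69_32607) 10869 fixc_69_43476) 10869 fixc_69_54345) 4674 fixc_69_65214)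

theorem fixh_69 : ∀ v, v < 69888 → actL mT w_69 v = v := fun v hv => by
  rw [actw_69]
  exact fixW_69 v hv

theorem wlt_69 : ∀ c ∈ w_69, c < 2 * (5 + 1) := by decide

theorem fix_69 : ∀ v, v < 139776 → actL mT w_69 v = v :=
  fix_of_half tableOK hcomm 69888 hcov w_69 wlt_69 fixh_69

theorem actw_70 : ∀ v, actL mT w_70 v = W_70 v := by
  intro v
  simp (maxSteps := 100000000) only [w_70, actL, W_70, forceL_eq]
  rfl

theorem fixW_70 : ∀ v, v < 69888 → W_70 v = v :=
  (fixW_step (fixW_step (fixW_step (fixW_step (fixW_step (fixW_step (fixW_step (fun v hv => absurd hv (by omega)) 10869 fixc_70_0) 10869 fixc_70_10869) 10869 fixc_70_21738) 10869 fixc_70_32607) 10869 fixc_70_43476) 10869 fixc_70_54345) 4674 fixc_70_65214)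

theorem fixh_70 : ∀ v, v < 69888 → actL mT w_70 v = v := fun v hv => by
  rw [actw_70]
  exact fixW_70 v hv

theorem wlt_70 : ∀ c ∈ w_70, c < 2 * (5 + 1) := by decide

theorem fix_70 : ∀ v, v < 139776 → actL mT w_70 v = v :=
  fix_of_half tableOK hcomm 69888 hcov w_70 wlt_70 fixh_70

theorem actw_71 : ∀ v, actL mT w_71 v = W_71 v := by
  intro v
  simp (maxSteps := 100000000) only [w_71, actL, W_71, forceL_eq]
  rfl

theorem fixW_71 : ∀ v, v < 69888 → W_71 v = v :=
  (fixW_step (fixW_step (fixW_step (fixW_step (fixW_step (fixW_step (fixW_step (fun v hv => absurd hv (by omega)) 10869 fixc_71_0) 10869 fixc_71_10869) 10869 fixc_71_21738) 10869 fixc_71_32607) 10869 fixc_71_43476) 10869 fixc_71_54345) 4674 fixc_71_65214)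

theorem fixh_71 : ∀ v, v < 69888 → actL mT w_71 v = v := fun v hv => by
  rw [actw_71]
  exact fixW_71 v hv

theorem wlt_71 : ∀ c ∈ w_71, c < 2 * (5 + 1) := by decide

theorem fix_71 : ∀ v, v < 139776 → actL mT w_71 v = v :=
  fix_of_half tableOK hcomm 69888 hcov w_71 wlt_71 fixh_71

theorem actw_72 : ∀ v, actL mT w_72 v = W_72 v := by
  intro v
  simp (maxSteps := 100000000) only [w_72, actL, W_72, forceL_eq]
  rfl

theorem fixW_72 : ∀ v, v < 69888 → W_72 v = v :=
  (fixW_step (fixW_step (fixW_step (fixW_step (fixW_step (fixW_step (fixW_step (fun v hv => absurd hv (by omega)) 10869 fixc_72_0) 10869 fixc_72_10869) 10869 fixc_72_21738) 10869 fixc_72_32607) 10869 fixc_72_43476) 10869 fixc_72_54345) 4674 fixc_72_65214)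

theorem fixh_72 : ∀ v, v < 69888 → actL mT w_72 v = v := fun v hv => by
  rw [actw_72]
  exact fixW_72 v hv

theorem wlt_72 : ∀ c ∈ w_72, c < 2 * (5 + 1) := by decide

theorem fix_72 : ∀ v, v < 139776 → actL mT w_72 v = v :=
  fix_of_half tableOK hcomm 69888 hcov w_72 wlt_72 fixh_72

theorem actw_73 : ∀ v, actL mT w_73 v = W_73 v := by
  intro v
  simp (maxSteps := 100000000) only [w_73, actL, W_73, forceL_eq]
  rfl

theorem fixW_73 : ∀ v, v < 69888 → W_73 v = v :=
  (fixW_step (fixW_step (fixW_step (fixW_step (fixW_step (fixW_step (fixW_step (fun v hv => absurd hv (by omega)) 10869 fixc_73_0) 10869 fixc_73_10869) 10869 fixc_73_21738) 10869 fixc_73_32607) 10869 fixc_73_43476) 10869 fixc_73_54345) 4674 fixc_73_65214)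

theorem fixh_73 : ∀ v, v < 69888 → actL mT w_73 v = v := fun v hv => by
  rw [actw_73]
  exact fixW_73 v hv

theorem wlt_73 : ∀ c ∈ w_73, c < 2 * (5 + 1) := by decide

theorem fix_73 : ∀ v, v < 139776 → actL mT w_73 v = v :=
  fix_of_half tableOK hcomm 69888 hcov w_73 wlt_73 fixh_73

theorem actw_74 : ∀ v, actL mT w_74 v = W_74 v := by
  intro v
  simp (maxSteps := 100000000) only [w_74, actL, W_74, forceL_eq]
  rfl

theorem fixW_74 : ∀ v, v < 69888 → W_74 v = v :=
  (fixW_step (fixW_step (fixW_step (fixW_step (fixW_step (fixW_step (fixW_step (fun v hv => absurd hv (by omega)) 10869 fixc_74_0) 10869 fixc_74_10869) 10869 fixc_74_21738) 10869 fixc_74_32607) 10869 fixc_74_43476) 10869 fixc_74_54345) 4674 fixc_74_65214)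

theorem fixh_74 : ∀ v, v < 69888 → actL mT w_74 v = v := fun v hv => by
  rw [actw_74]
  exact fixW_74 v hv

theorem wlt_74 : ∀ c ∈ w_74, c < 2 * (5 + 1) := by decide

theorem fix_74 : ∀ v, v < 139776 → actL mT w_74 v = v :=
  fix_of_half tableOK hcomm 69888 hcov w_74 wlt_74 fixh_74

theorem actw_75 : ∀ v, actL mT w_75 v = W_75 v := by
  intro v
  simp (maxSteps := 100000000) only [w_75, actL, W_75, forceL_eq]
  rfl

theorem fixW_75 : ∀ v, v < 69888 → W_75 v = v :=
  (fixW_step (fixW_step (fixW_step (fixW_step (fixW_step (fixW_step (fixW_step (fun v hv => absurd hv (by omega)) 10869 fixc_75_0) 10869 fixc_75_10869) 10869 fixc_75_21738) 10869 fixc_75_32607) 10869 fixc_75_43476) 10869 fixc_75_54345) 4674 fixc_75_65214)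

theorem fixh_75 : ∀ v, v < 69888 → actL mT w_75 v = v := fun v hv => by
  rw [actw_75]
  exact fixW_75 v hv

theorem wlt_75 : ∀ c ∈ w_75, c < 2 * (5 + 1) := by decide

theorem fix_75 : ∀ v, v < 139776 → actL mT w_75 v = v :=
  fix_of_half tableOK hcomm 69888 hcov w_75 wlt_75 fixh_75

theorem actw_76 : ∀ v, actL mT w_76 v = W_76 v := by
  intro v
  simp (maxSteps := 100000000) only [w_76, actL, W_76, forceL_eq]
  rfl

theorem fixW_76 : ∀ v, v < 69888 → W_76 v = v :=
  (fixW_step (fixW_step (fixW_step (fixW_step (fixW_step (fixW_step (fixW_step (fun v hv => absurd hv (by omega)) 10869 fixc_76_0) 10869 fixc_76_10869) 10869 fixc_76_21738) 10869 fixc_76_32607) 10869 fixc_76_43476) 10869 fixc_76_54345) 4674 fixc_76_65214)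

theorem fixh_76 : ∀ v, v < 69888 → actL mT w_76 v = v := fun v hv => by
  rw [actw_76]
  exact fixW_76 v hv

theorem wlt_76 : ∀ c ∈ w_76, c < 2 * (5 + 1) := by decide

theorem fix_76 : ∀ v, v < 139776 → actL mT w_76 v = v :=
  fix_of_half tableOK hcomm 69888 hcov w_76 wlt_76 fixh_76

theorem actw_77 : ∀ v, actL mT w_77 v = W_77 v := by
  intro v
  simp (maxSteps := 100000000) only [w_77, actL, W_77, forceL_eq]
  rfl

theorem fixW_77 : ∀ v, v < 69888 → W_77 v = v :=
  (fixW_step (fixW_step (fixW_step (fixW_step (fixW_step (fixW_step (fixW_step (fun v hv => absurd hv (by omega)) 10869 fixc_77_0) 10869 fixc_77_10869) 10869 fixc_77_21738) 10869 fixc_77_32607) 10869 fixc_77_43476) 10869 fixc_77_54345) 4674 fixc_77_65214)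

theorem fixh_77 : ∀ v, v < 69888 → actL mT w_77 v = v := fun v hv => by
  rw [actw_77]
  exact fixW_77 v hv

theorem wlt_77 : ∀ c ∈ w_77, c < 2 * (5 + 1) := by decide

theorem fix_77 : ∀ v, v < 139776 → actL mT w_77 v = v :=
  fix_of_half tableOK hcomm 69888 hcov w_77 wlt_77 fixh_77

theorem actw_78 : ∀ v, actL mT w_78 v = W_78 v := by
  intro v
  simp (maxSteps := 100000000) only [w_78, actL, W_78, forceL_eq]
  rfl

theorem fixW_78 : ∀ v, v < 69888 → W_78 v = v :=
  (fixW_step (fixW_step (fixW_step (fixW_step (fixW_step (fixW_step (fixW_step (fun v hv => absurd hv (by omega)) 10869 fixc_78_0) 10869 fixc_78_10869) 10869 fixc_78_21738) 10869 fixc_78_32607) 10869 fixc_78_43476) 10869 fixc_78_54345) 4674 fixc_78_65214)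

theorem fixh_78 : ∀ v, v < 69888 → actL mT w_78 v = v := fun v hv => by
  rw [actw_78]
  exact fixW_78 v hv

theorem wlt_78 : ∀ c ∈ w_78, c < 2 * (5 + 1) := by decide

theorem fix_78 : ∀ v, v < 139776 → actL mT w_78 v = v :=
  fix_of_half tableOK hcomm 69888 hcov w_78 wlt_78 fixh_78

theorem actw_79 : ∀ v, actL mT w_79 v = W_79 v := by
  intro v
  simp (maxSteps := 100000000) only [w_79, actL, W_79, forceL_eq]
  rfl

theorem fixW_79 : ∀ v, v < 69888 → W_79 v = v :=
  (fixW_step (fixW_step (fixW_step (fixW_step (fixW_step (fixW_step (fixW_step (fun v hv => absurd hv (by omega)) 10869 fixc_79_0) 10869 fixc_79_10869) 10869 fixc_79_21738) 10869 fixc_79_32607) 10869 fixc_79_43476) 10869 fixc_79_54345) 4674 fixc_79_65214)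

theorem fixh_79 : ∀ v, v < 69888 → actL mT w_79 v = v := fun v hv => by
  rw [actw_79]
  exact fixW_79 v hv

theorem wlt_79 : ∀ c ∈ w_79, c < 2 * (5 + 1) := by decide

theorem fix_79 : ∀ v, v < 139776 → actL mT w_79 v = v :=
  fix_of_half tableOK hcomm 69888 hcov w_79 wlt_79 fixh_79

theorem actw_80 : ∀ v, actL mT w_80 v = W_80 v := by
  intro v
  simp (maxSteps := 100000000) only [w_80, actL, W_80, forceL_eq]
  rfl

theorem fixW_80 : ∀ v, v < 69888 → W_80 v = v :=
  (fixW_step (fixW_step (fixW_step (fixW_step (fixW_step (fixW_step (fixW_step (fun v hv => absurd hv (by omega)) 10869 fixc_80_0) 10869 fixc_80_10869) 10869 fixc_80_21738) 10869 fixc_80_32607) 10869 fixc_80_43476) 10869 fixc_80_54345) 4674 fixc_80_65214)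

theorem fixh_80 : ∀ v, v < 69888 → actL mT w_80 v = v := fun v hv => by
  rw [actw_80]
  exact fixW_80 v hv

theorem wlt_80 : ∀ c ∈ w_80, c < 2 * (5 + 1) := by decide

theorem fix_80 : ∀ v, v < 139776 → actL mT w_80 v = v :=
  fix_of_half tableOK hcomm 69888 hcov w_80 wlt_80 fixh_80

theorem actw_81 : ∀ v, actL mT w_81 v = W_81 v := by
  intro v
  simp (maxSteps := 100000000) only [w_81, actL, W_81, forceL_eq]
  rfl

theorem fixW_81 : ∀ v, v < 69888 → W_81 v = v :=
  (fixW_step (fixW_step (fixW_step (fixW_step (fixW_step (fixW_step (fixW_step (fun v hv => absurd hv (by omega)) 10869 fixc_81_0) 10869 fixc_81_10869) 10869 fixc_81_21738) 10869 fixc_81_32607) 10869 fixc_81_43476) 10869 fixc_81_54345) 4674 fixc_81_65214)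

theorem fixh_81 : ∀ v, v < 69888 → actL mT w_81 v = v := fun v hv => by
  rw [actw_81]
  exact fixW_81 v hv

theorem wlt_81 : ∀ c ∈ w_81, c < 2 * (5 + 1) := by decide

theorem fix_81 : ∀ v, v < 139776 → actL mT w_81 v = v :=
  fix_of_half tableOK hcomm 69888 hcov w_81 wlt_81 fixh_81

theorem actw_82 : ∀ v, actL mT w_82 v = W_82 v := by
  intro v
  simp (maxSteps := 100000000) only [w_82, actL, W_82, forceL_eq]
  rfl

theorem fixW_82 : ∀ v, v < 69888 → W_82 v = v :=
  (fixW_step (fixW_step (fixW_step (fixW_step (fixW_step (fixW_step (fixW_step (fun v hv => absurd hv (by omega)) 10869 fixc_82_0) 10869 fixc_82_10869) 10869 fixc_82_21738) 10869 fixc_82_32607) 10869 fixc_82_43476) 10869 fixc_82_54345) 4674 fixc_82_65214)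

theorem fixh_82 : ∀ v, v < 69888 → actL mT w_82 v = v := fun v hv => by
  rw [actw_82]
  exact fixW_82 v hv

theorem wlt_82 : ∀ c ∈ w_82, c < 2 * (5 + 1) := by decide

theorem fix_82 : ∀ v, v < 139776 → actL mT w_82 v = v :=
  fix_of_half tableOK hcomm 69888 hcov w_82 wlt_82 fixh_82

theorem actw_83 : ∀ v, actL mT w_83 v = W_83 v := by
  intro v
  simp (maxSteps := 100000000) only [w_83, actL, W_83, forceL_eq]
  rfl

theorem fixW_83 : ∀ v, v < 69888 → W_83 v = v :=
  (fixW_step (fixW_step (fixW_step (fixW_step (fixW_step (fixW_step (fixW_step (fun v hv => absurd hv (by omega)) 10869 fixc_83_0) 10869 fixc_83_10869) 10869 fixc_83_21738) 10869 fixc_83_32607) 10869 fixc_83_43476) 10869 fixc_83_54345) 4674 fixc_83_65214)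

theorem fixh_83 : ∀ v, v < 69888 → actL mT w_83 v = v := fun v hv => by
  rw [actw_83]
  exact fixW_83 v hv

theorem wlt_83 : ∀ c ∈ w_83, c < 2 * (5 + 1) := by decide

theorem fix_83 : ∀ v, v < 139776 → actL mT w_83 v = v :=
  fix_of_half tableOK hcomm 69888 hcov w_83 wlt_83 fixh_83

theorem actw_84 : ∀ v, actL mT w_84 v = W_84 v := by
  intro v
  simp (maxSteps := 100000000) only [w_84, actL, W_84, forceL_eq]
  rfl

theorem fixW_84 : ∀ v, v < 69888 → W_84 v = v :=
  (fixW_step (fixW_step (fixW_step (fixW_step (fixW_step (fixW_step (fixW_step (fun v hv => absurd hv (by omega)) 10869 fixc_84_0) 10869 fixc_84_10869) 10869 fixc_84_21738) 10869 fixc_84_32607) 10869 fixc_84_43476) 10869 fixc_84_54345) 4674 fixc_84_65214)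

theorem fixh_84 : ∀ v, v < 69888 → actL mT w_84 v = v := fun v hv => by
  rw [actw_84]
  exact fixW_84 v hv

theorem wlt_84 : ∀ c ∈ w_84, c < 2 * (5 + 1) := by decide

theorem fix_84 : ∀ v, v < 139776 → actL mT w_84 v = v :=
  fix_of_half tableOK hcomm 69888 hcov w_84 wlt_84 fixh_84

theorem actw_85 : ∀ v, actL mT w_85 v = W_85 v := by
  intro v
  simp (maxSteps := 100000000) only [w_85, actL, W_85, forceL_eq]
  rfl

theorem fixW_85 : ∀ v, v < 69888 → W_85 v = v :=
  (fixW_step (fixW_step (fixW_step (fixW_step (fixW_step (fixW_step (fixW_step (fun v hv => absurd hv (by omega)) 10869 fixc_85_0) 10869 fixc_85_10869) 10869 fixc_85_21738) 10869 fixc_85_32607) 10869 fixc_85_43476) 10869 fixc_85_54345) 4674 fixc_85_65214)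

theorem fixh_85 : ∀ v, v < 69888 → actL mT w_85 v = v := fun v hv => by
  rw [actw_85]
  exact fixW_85 v hv

theorem wlt_85 : ∀ c ∈ w_85, c < 2 * (5 + 1) := by decide

theorem fix_85 : ∀ v, v < 139776 → actL mT w_85 v = v :=
  fix_of_half tableOK hcomm 69888 hcov w_85 wlt_85 fixh_85

theorem actw_86 : ∀ v, actL mT w_86 v = W_86 v := by
  intro v
  simp (maxSteps := 100000000) only [w_86, actL, W_86, forceL_eq]
  rfl

theorem fixW_86 : ∀ v, v < 69888 → W_86 v = v :=
  (fixW_step (fixW_step (fixW_step (fixW_step (fixW_step (fixW_step (fun v hv => absurd hv (by omega)) 11904 fixc_86_0) 11904 fixc_86_11904) 11904 fixc_86_23808) 11904 fixc_86_35712) 11904 fixc_86_47616) 10368 fixc_86_59520)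

theorem fixh_86 : ∀ v, v < 69888 → actL mT w_86 v = v := fun v hv => by
  rw [actw_86]
  exact fixW_86 v hv

theorem wlt_86 : ∀ c ∈ w_86, c < 2 * (5 + 1) := by decide

theorem fix_86 : ∀ v, v < 139776 → actL mT w_86 v = v :=
  fix_of_half tableOK hcomm 69888 hcov w_86 wlt_86 fixh_86

theorem actw_87 : ∀ v, actL mT w_87 v = W_87 v := by
  intro v
  simp (maxSteps := 100000000) only [w_87, actL, W_87, forceL_eq]
  rfl

theorem fixW_87 : ∀ v, v < 69888 → W_87 v = v :=
  (fixW_step (fixW_step (fixW_step (fixW_step (fixW_step (fixW_step (fun v hv => absurd hv (by omega)) 11904 fixc_87_0) 11904 fixc_87_11904) 11904 fixc_87_23808) 11904 fixc_87_35712) 11904 fixc_87_47616) 10368 fixc_87_59520)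

theorem fixh_87 : ∀ v, v < 69888 → actL mT w_87 v = v := fun v hv => by
  rw [actw_87]
  exact fixW_87 v hv

theorem wlt_87 : ∀ c ∈ w_87, c < 2 * (5 + 1) := by decide

theorem fix_87 : ∀ v, v < 139776 → actL mT w_87 v = v :=
  fix_of_half tableOK hcomm 69888 hcov w_87 wlt_87 fixh_87

theorem actw_88 : ∀ v, actL mT w_88 v = W_88 v := by
  intro v
  simp (maxSteps := 100000000) only [w_88, actL, W_88, forceL_eq]
  rfl

theorem fixW_88 : ∀ v, v < 69888 → W_88 v = v :=
  (fixW_step (fixW_step (fixW_step (fixW_step (fixW_step (fixW_step (fixW_step (fun v hv => absurd hv (by omega)) 11363 fixc_88_0) 11363 fixc_88_11363) 11363 fixc_88_22726) 11363 fixc_88_34089) 11363 fixc_88_45452) 11363 fixc_88_56815) 1710 fixc_88_68178)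

theorem fixh_88 : ∀ v, v < 69888 → actL mT w_88 v = v := fun v hv => by
  rw [actw_88]
  exact fixW_88 v hv

theorem wlt_88 : ∀ c ∈ w_88, c < 2 * (5 + 1) := by decide

theorem fix_88 : ∀ v, v < 139776 → actL mT w_88 v = v :=
  fix_of_half tableOK hcomm 69888 hcov w_88 wlt_88 fixh_88

theorem actw_89 : ∀ v, actL mT w_89 v = W_89 v := by
  intro v
  simp (maxSteps := 100000000) only [w_89, actL, W_89, forceL_eq]
  rfl

theorem fixW_89 : ∀ v, v < 69888 → W_89 v = v :=
  (fixW_step (fixW_step (fixW_step (fixW_step (fixW_step (fixW_step (fixW_step (fun v hv => absurd hv (by omega)) 11363 fixc_89_0) 11363 fixc_89_11363) 11363 fixc_89_22726) 11363 fixc_89_34089) 11363 fixc_89_45452) 11363 fixc_89_56815) 1710 fixc_89_68178)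

theorem fixh_89 : ∀ v, v < 69888 → actL mT w_89 v = v := fun v hv => by
  rw [actw_89]
  exact fixW_89 v hv

theorem wlt_89 : ∀ c ∈ w_89, c < 2 * (5 + 1) := by decide

theorem fix_89 : ∀ v, v < 139776 → actL mT w_89 v = v :=
  fix_of_half tableOK hcomm 69888 hcov w_89 wlt_89 fixh_89

theorem actw_90 : ∀ v, actL mT w_90 v = W_90 v := by
  intro v
  simp (maxSteps := 100000000) only [w_90, actL, W_90, forceL_eq]
  rfl

theorem fixW_90 : ∀ v, v < 69888 → W_90 v = v :=
  (fixW_step (fixW_step (fixW_step (fixW_step (fixW_step (fixW_step (fixW_step (fun v hv => absurd hv (by omega)) 10869 fixc_90_0) 10869 fixc_90_10869) 10869 fixc_90_21738) 10869 fixc_90_32607) 10869 fixc_90_43476) 10869 fixc_90_54345) 4674 fixc_90_65214)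

theorem fixh_90 : ∀ v, v < 69888 → actL mT w_90 v = v := fun v hv => by
  rw [actw_90]
  exact fixW_90 v hv

theorem wlt_90 : ∀ c ∈ w_90, c < 2 * (5 + 1) := by decide

theorem fix_90 : ∀ v, v < 139776 → actL mT w_90 v = v :=
  fix_of_half tableOK hcomm 69888 hcov w_90 wlt_90 fixh_90

theorem actw_91 : ∀ v, actL mT w_91 v = W_91 v := by
  intro v
  simp (maxSteps := 100000000) only [w_91, actL, W_91, forceL_eq]
  rfl

theorem fixW_91 : ∀ v, v < 69888 → W_91 v = v :=
  (fixW_step (fixW_step (fixW_step (fixW_step (fixW_step (fixW_step (fixW_step (fun v hv => absurd hv (by omega)) 10869 fixc_91_0) 10869 fixc_91_10869) 10869 fixc_91_21738) 10869 fixc_91_32607) 10869 fixc_91_43476) 10869 fixc_91_54345) 4674 fixc_91_65214)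

theorem fixh_91 : ∀ v, v < 69888 → actL mT w_91 v = v := fun v hv => by
  rw [actw_91]
  exact fixW_91 v hv

theorem wlt_91 : ∀ c ∈ w_91, c < 2 * (5 + 1) := by decide

theorem fix_91 : ∀ v, v < 139776 → actL mT w_91 v = v :=
  fix_of_half tableOK hcomm 69888 hcov w_91 wlt_91 fixh_91

theorem actw_92 : ∀ v, actL mT w_92 v = W_92 v := by
  intro v
  simp (maxSteps := 100000000) only [w_92, actL, W_92, forceL_eq]
  rfl

theorem fixW_92 : ∀ v, v < 69888 → W_92 v = v :=
  (fixW_step (fixW_step (fixW_step (fixW_step (fixW_step (fixW_step (fixW_step (fun v hv => absurd hv (by omega)) 10869 fixc_92_0) 10869 fixc_92_10869) 10869 fixc_92_21738) 10869 fixc_92_32607) 10869 fixc_92_43476) 10869 fixc_92_54345) 4674 fixc_92_65214)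

theorem fixh_92 : ∀ v, v < 69888 → actL mT w_92 v = v := fun v hv => by
  rw [actw_92]
  exact fixW_92 v hv

theorem wlt_92 : ∀ c ∈ w_92, c < 2 * (5 + 1) := by decide

theorem fix_92 : ∀ v, v < 139776 → actL mT w_92 v = v :=
  fix_of_half tableOK hcomm 69888 hcov w_92 wlt_92 fixh_92

theorem actw_93 : ∀ v, actL mT w_93 v = W_93 v := by
  intro v
  simp (maxSteps := 100000000) only [w_93, actL, W_93, forceL_eq]
  rfl

theorem fixW_93 : ∀ v, v < 69888 → W_93 v = v :=
  (fixW_step (fixW_step (fixW_step (fixW_step (fixW_step (fixW_step (fixW_step (fun v hv => absurd hv (by omega)) 10869 fixc_93_0) 10869 fixc_93_10869) 10869 fixc_93_21738) 10869 fixc_93_32607) 10869 fixc_93_43476) 10869 fixc_93_54345) 4674 fixc_93_65214)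

theorem fixh_93 : ∀ v, v < 69888 → actL mT w_93 v = v := fun v hv => by
  rw [actw_93]
  exact fixW_93 v hv

theorem wlt_93 : ∀ c ∈ w_93, c < 2 * (5 + 1) := by decide

theorem fix_93 : ∀ v, v < 139776 → actL mT w_93 v = v :=
  fix_of_half tableOK hcomm 69888 hcov w_93 wlt_93 fixh_93

theorem actw_94 : ∀ v, actL mT w_94 v = W_94 v := by
  intro v
  simp (maxSteps := 100000000) only [w_94, actL, W_94, forceL_eq]
  rfl

theorem fixW_94 : ∀ v, v < 69888 → W_94 v = v :=
  (fixW_step (fixW_step (fixW_step (fixW_step (fixW_step (fixW_step (fixW_step (fun v hv => absurd hv (by omega)) 10869 fixc_94_0) 10869 fixc_94_10869) 10869 fixc_94_21738) 10869 fixc_94_32607) 10869 fixc_94_43476) 10869 fixc_94_54345) 4674 fixc_94_65214)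

theorem fixh_94 : ∀ v, v < 69888 → actL mT w_94 v = v := fun v hv => by
  rw [actw_94]
  exact fixW_94 v hv

theorem wlt_94 : ∀ c ∈ w_94, c < 2 * (5 + 1) := by decide

theorem fix_94 : ∀ v, v < 139776 → actL mT w_94 v = v :=
  fix_of_half tableOK hcomm 69888 hcov w_94 wlt_94 fixh_94

theorem actw_95 : ∀ v, actL mT w_95 v = W_95 v := by
  intro v
  simp (maxSteps := 100000000) only [w_95, actL, W_95, forceL_eq]
  rfl

theorem fixW_95 : ∀ v, v < 69888 → W_95 v = v :=
  (fixW_step (fixW_step (fixW_step (fixW_step (fixW_step (fixW_step (fixW_step (fun v hv => absurd hv (by omega)) 10869 fixc_95_0) 10869 fixc_95_10869) 10869 fixc_95_21738) 10869 fixc_95_32607) 10869 fixc_95_43476) 10869 fixc_95_54345) 4674 fixc_95_65214)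

theorem fixh_95 : ∀ v, v < 69888 → actL mT w_95 v = v := fun v hv => by
  rw [actw_95]
  exact fixW_95 v hv

theorem wlt_95 : ∀ c ∈ w_95, c < 2 * (5 + 1) := by decide

theorem fix_95 : ∀ v, v < 139776 → actL mT w_95 v = v :=
  fix_of_half tableOK hcomm 69888 hcov w_95 wlt_95 fixh_95

theorem actw_96 : ∀ v, actL mT w_96 v = W_96 v := by
  intro v
  simp (maxSteps := 100000000) only [w_96, actL, W_96, forceL_eq]
  rfl

theorem fixW_96 : ∀ v, v < 69888 → W_96 v = v :=
  (fixW_step (fixW_step (fixW_step (fixW_step (fixW_step (fixW_step (fixW_step (fun v hv => absurd hv (by omega)) 10416 fixc_96_0) 10416 fixc_96_10416) 10416 fixc_96_20832) 10416 fixc_96_31248) 10416 fixc_96_41664) 10416 fixc_96_52080) 7392 fixc_96_62496)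

theorem fixh_96 : ∀ v, v < 69888 → actL mT w_96 v = v := fun v hv => by
  rw [actw_96]
  exact fixW_96 v hv

theorem wlt_96 : ∀ c ∈ w_96, c < 2 * (5 + 1) := by decide

theorem fix_96 : ∀ v, v < 139776 → actL mT w_96 v = v :=
  fix_of_half tableOK hcomm 69888 hcov w_96 wlt_96 fixh_96

theorem actw_97 : ∀ v, actL mT w_97 v = W_97 v := by
  intro v
  simp (maxSteps := 100000000) only [w_97, actL, W_97, forceL_eq]
  rfl

theorem fixW_97 : ∀ v, v < 69888 → W_97 v = v :=
  (fixW_step (fixW_step (fixW_step (fixW_step (fixW_step (fixW_step (fixW_step (fun v hv => absurd hv (by omega)) 10416 fixc_97_0) 10416 fixc_97_10416) 10416 fixc_97_20832) 10416 fixc_97_31248) 10416 fixc_97_41664) 10416 fixc_97_52080) 7392 fixc_97_62496)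

theorem fixh_97 : ∀ v, v < 69888 → actL mT w_97 v = v := fun v hv => by
  rw [actw_97]
  exact fixW_97 v hv

theorem wlt_97 : ∀ c ∈ w_97, c < 2 * (5 + 1) := by decide

theorem fix_97 : ∀ v, v < 139776 → actL mT w_97 v = v :=
  fix_of_half tableOK hcomm 69888 hcov w_97 wlt_97 fixh_97

theorem actw_98 : ∀ v, actL mT w_98 v = W_98 v := by
  intro v
  simp (maxSteps := 100000000) only [w_98, actL, W_98, forceL_eq]
  rfl

theorem fixW_98 : ∀ v, v < 69888 → W_98 v = v :=
  (fixW_step (fixW_step (fixW_step (fixW_step (fixW_step (fixW_step (fixW_step (fun v hv => absurd hv (by omega)) 10416 fixc_98_0) 10416 fixc_98_10416) 10416 fixc_98_20832) 10416 fixc_98_31248) 10416 fixc_98_41664) 10416 fixc_98_52080) 7392 fixc_98_62496)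

theorem fixh_98 : ∀ v, v < 69888 → actL mT w_98 v = v := fun v hv => by
  rw [actw_98]
  exact fixW_98 v hv

theorem wlt_98 : ∀ c ∈ w_98, c < 2 * (5 + 1) := by decide

theorem fix_98 : ∀ v, v < 139776 → actL mT w_98 v = v :=
  fix_of_half tableOK hcomm 69888 hcov w_98 wlt_98 fixh_98

theorem actw_99 : ∀ v, actL mT w_99 v = W_99 v := by
  intro v
  simp (maxSteps := 100000000) only [w_99, actL, W_99, forceL_eq]
  rfl

theorem fixW_99 : ∀ v, v < 69888 → W_99 v = v :=
  (fixW_step (fixW_step (fixW_step (fixW_step (fixW_step (fixW_step (fixW_step (fun v hv => absurd hv (by omega)) 10000 fixc_99_0) 10000 fixc_99_10000) 10000 fixc_99_20000) 10000 fixc_99_30000) 10000 fixc_99_40000) 10000 fixc_99_50000) 9888 fixc_99_60000)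

theorem fixh_99 : ∀ v, v < 69888 → actL mT w_99 v = v := fun v hv => by
  rw [actw_99]
  exact fixW_99 v hv

theorem wlt_99 : ∀ c ∈ w_99, c < 2 * (5 + 1) := by decide

theorem fix_99 : ∀ v, v < 139776 → actL mT w_99 v = v :=
  fix_of_half tableOK hcomm 69888 hcov w_99 wlt_99 fixh_99

theorem actw_100 : ∀ v, actL mT w_100 v = W_100 v := by
  intro v
  simp (maxSteps := 100000000) only [w_100, actL, W_100, forceL_eq]
  rfl

theorem fixW_100 : ∀ v, v < 69888 → W_100 v = v :=
  (fixW_step (fixW_step (fixW_step (fixW_step (fixW_step (fixW_step (fixW_step (fun v hv => absurd hv (by omega)) 10000 fixc_100_0) 10000 fixc_100_10000) 10000 fixc_100_20000) 10000 fixc_100_30000) 10000 fixc_100_40000) 10000 fixc_100_50000) 9888 fixc_100_60000)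

theorem fixh_100 : ∀ v, v < 69888 → actL mT w_100 v = v := fun v hv => by
  rw [actw_100]
  exact fixW_100 v hv

theorem wlt_100 : ∀ c ∈ w_100, c < 2 * (5 + 1) := by decide

theorem fix_100 : ∀ v, v < 139776 → actL mT w_100 v = v :=
  fix_of_half tableOK hcomm 69888 hcov w_100 wlt_100 fixh_100

theorem actw_101 : ∀ v, actL mT w_101 v = W_101 v := by
  intro v
  simp (maxSteps := 100000000) only [w_101, actL, W_101, forceL_eq]
  rfl

theorem fixW_101 : ∀ v, v < 69888 → W_101 v = v :=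
  (fixW_step (fixW_step (fixW_step (fixW_step (fixW_step (fixW_step (fixW_step (fun v hv => absurd hv (by omega)) 10000 fixc_101_0) 10000 fixc_101_10000) 10000 fixc_101_20000) 10000 fixc_101_30000) 10000 fixc_101_40000) 10000 fixc_101_50000) 9888 fixc_101_60000)

theorem fixh_101 : ∀ v, v < 69888 → actL mT w_101 v = v := fun v hv => by
  rw [actw_101]
  exact fixW_101 v hv

theorem wlt_101 : ∀ c ∈ w_101, c < 2 * (5 + 1) := by decide

theorem fix_101 : ∀ v, v < 139776 → actL mT w_101 v = v :=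
  fix_of_half tableOK hcomm 69888 hcov w_101 wlt_101 fixh_101

theorem actw_102 : ∀ v, actL mT w_102 v = W_102 v := by
  intro v
  simp (maxSteps := 100000000) only [w_102, actL, W_102, forceL_eq]
  rfl

theorem fixW_102 : ∀ v, v < 69888 → W_102 v = v :=
  (fixW_step (fixW_step (fixW_step (fixW_step (fixW_step (fixW_step (fun v hv => absurd hv (by omega)) 12500 fixc_102_0) 12500 fixc_102_12500) 12500 fixc_102_25000) 12500 fixc_102_37500) 12500 fixc_102_50000) 7388 fixc_102_62500)

theorem fixh_102 : ∀ v, v < 69888 → actL mT w_102 v = v := fun v hv => by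
  rw [actw_102]
  exact fixW_102 v hv

theorem wlt_102 : ∀ c ∈ w_102, c < 2 * (5 + 1) := by decide

theorem fix_102 : ∀ v, v < 139776 → actL mT w_102 v = v :=
  fix_of_half tableOK hcomm 69888 hcov w_102 wlt_102 fixh_102

theorem actw_103 : ∀ v, actL mT w_103 v = W_103 v := by
  intro v
  simp (maxSteps := 100000000) only [w_103, actL, W_103, forceL_eq]
  rfl

theorem fixW_103 : ∀ v, v < 69888 → W_103 v = v :=
  (fixW_step (fixW_step (fixW_step (fixW_step (fixW_step (fixW_step (fixW_step (fun v hv => absurd hv (by omega)) 10416 fixc_103_0) 10416 fixc_103_10416) 10416 fixc_103_20832) 10416 fixc_103_31248) 10416 fixc_103_41664) 10416 fixc_103_52080) 7392 fixc_103_62496)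

theorem fixh_103 : ∀ v, v < 69888 → actL mT w_103 v = v := fun v hv => by
  rw [actw_103]
  exact fixW_103 v hv

theorem wlt_103 : ∀ c ∈ w_103, c < 2 * (5 + 1) := by decide

theorem fix_103 : ∀ v, v < 139776 → actL mT w_103 v = v :=
  fix_of_half tableOK hcomm 69888 hcov w_103 wlt_103 fixh_103

theorem actw_104 : ∀ v, actL mT w_104 v = W_104 v := by
  intro v
  simp (maxSteps := 100000000) only [w_104, actL, W_104, forceL_eq]
  rfl

theorem fixW_104 : ∀ v, v < 69888 → W_104 v = v :=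
  (fixW_step (fixW_step (fixW_step (fixW_step (fixW_step (fixW_step (fixW_step (fun v hv => absurd hv (by omega)) 10416 fixc_104_0) 10416 fixc_104_10416) 10416 fixc_104_20832) 10416 fixc_104_31248) 10416 fixc_104_41664) 10416 fixc_104_52080) 7392 fixc_104_62496)

theorem fixh_104 : ∀ v, v < 69888 → actL mT w_104 v = v := fun v hv => by
  rw [actw_104]
  exact fixW_104 v hv

theorem wlt_104 : ∀ c ∈ w_104, c < 2 * (5 + 1) := by decide

theorem fix_104 : ∀ v, v < 139776 → actL mT w_104 v = v :=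
  fix_of_half tableOK hcomm 69888 hcov w_104 wlt_104 fixh_104

theorem actw_105 : ∀ v, actL mT w_105 v = W_105 v := by
  intro v
  simp (maxSteps := 100000000) only [w_105, actL, W_105, forceL_eq]
  rfl

theorem fixW_105 : ∀ v, v < 69888 → W_105 v = v :=
  (fixW_step (fixW_step (fixW_step (fixW_step (fixW_step (fixW_step (fixW_step (fixW_step (fun v hv => absurd hv (by omega)) 9615 fixc_105_0) 9615 fixc_105_9615) 9615 fixc_105_19230) 9615 fixc_105_28845) 9615 fixc_105_38460) 9615 fixc_105_48075) 9615 fixc_105_57690) 2583 fixc_105_67305)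

theorem fixh_105 : ∀ v, v < 69888 → actL mT w_105 v = v := fun v hv => by
  rw [actw_105]
  exact fixW_105 v hv

theorem wlt_105 : ∀ c ∈ w_105, c < 2 * (5 + 1) := by decide

theorem fix_105 : ∀ v, v < 139776 → actL mT w_105 v = v :=
  fix_of_half tableOK hcomm 69888 hcov w_105 wlt_105 fixh_105

theorem actw_106 : ∀ v, actL mT w_106 v = W_106 v := by
  intro v
  simp (maxSteps := 100000000) only [w_106, actL, W_106, forceL_eq]
  rfl

theorem fixW_106 : ∀ v, v < 69888 → W_106 v = v :=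
  (fixW_step (fixW_step (fixW_step (fixW_step (fixW_step (fixW_step (fixW_step (fixW_step (fun v hv => absurd hv (by omega)) 9615 fixc_106_0) 9615 fixc_106_9615) 9615 fixc_106_19230) 9615 fixc_106_28845) 9615 fixc_106_38460) 9615 fixc_106_48075) 9615 fixc_106_57690) 2583 fixc_106_67305)

theorem fixh_106 : ∀ v, v < 69888 → actL mT w_106 v = v := fun v hv => by
  rw [actw_106]
  exact fixW_106 v hv

theorem wlt_106 : ∀ c ∈ w_106, c < 2 * (5 + 1) := by decide

theorem fix_106 : ∀ v, v < 139776 → actL mT w_106 v = v :=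
  fix_of_half tableOK hcomm 69888 hcov w_106 wlt_106 fixh_106

theorem actw_107 : ∀ v, actL mT w_107 v = W_107 v := by
  intro v
  simp (maxSteps := 100000000) only [w_107, actL, W_107, forceL_eq]
  rfl

theorem fixW_107 : ∀ v, v < 69888 → W_107 v = v :=
  (fixW_step (fixW_step (fixW_step (fixW_step (fixW_step (fixW_step (fixW_step (fixW_step (fun v hv => absurd hv (by omega)) 9615 fixc_107_0) 9615 fixc_107_9615) 9615 fixc_107_19230) 9615 fixc_107_28845) 9615 fixc_107_38460) 9615 fixc_107_48075) 9615 fixc_107_57690) 2583 fixc_107_67305)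

theorem fixh_107 : ∀ v, v < 69888 → actL mT w_107 v = v := fun v hv => by
  rw [actw_107]
  exact fixW_107 v hv

theorem wlt_107 : ∀ c ∈ w_107, c < 2 * (5 + 1) := by decide

theorem fix_107 : ∀ v, v < 139776 → actL mT w_107 v = v :=
  fix_of_half tableOK hcomm 69888 hcov w_107 wlt_107 fixh_107

theorem actw_108 : ∀ v, actL mT w_108 v = W_108 v := by
  intro v
  simp (maxSteps := 100000000) only [w_108, actL, W_108, forceL_eq]
  rfl

theorem fixW_108 : ∀ v, v < 69888 → W_108 v = v :=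
  (fixW_step (fixW_step (fixW_step (fixW_step (fixW_step (fixW_step (fixW_step (fixW_step (fun v hv => absurd hv (by omega)) 9615 fixc_108_0) 9615 fixc_108_9615) 9615 fixc_108_19230) 9615 fixc_108_28845) 9615 fixc_108_38460) 9615 fixc_108_48075) 9615 fixc_108_57690) 2583 fixc_108_67305)

theorem fixh_108 : ∀ v, v < 69888 → actL mT w_108 v = v := fun v hv => by
  rw [actw_108]
  exact fixW_108 v hv

theorem wlt_108 : ∀ c ∈ w_108, c < 2 * (5 + 1) := by decide

theorem fix_108 : ∀ v, v < 139776 → actL mT w_108 v = v :=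
  fix_of_half tableOK hcomm 69888 hcov w_108 wlt_108 fixh_108

theorem actw_109 : ∀ v, actL mT w_109 v = W_109 v := by
  intro v
  simp (maxSteps := 100000000) only [w_109, actL, W_109, forceL_eq]
  rfl

theorem fixW_109 : ∀ v, v < 69888 → W_109 v = v :=
  (fixW_step (fixW_step (fixW_step (fixW_step (fixW_step (fixW_step (fixW_step (fixW_step (fun v hv => absurd hv (by omega)) 9615 fixc_109_0) 9615 fixc_109_9615) 9615 fixc_109_19230) 9615 fixc_109_28845) 9615 fixc_109_38460) 9615 fixc_109_48075) 9615 fixc_109_57690) 2583 fixc_109_67305)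

theorem fixh_109 : ∀ v, v < 69888 → actL mT w_109 v = v := fun v hv => by
  rw [actw_109]
  exact fixW_109 v hv

theorem wlt_109 : ∀ c ∈ w_109, c < 2 * (5 + 1) := by decide

theorem fix_109 : ∀ v, v < 139776 → actL mT w_109 v = v :=
  fix_of_half tableOK hcomm 69888 hcov w_109 wlt_109 fixh_109

theorem actw_110 : ∀ v, actL mT w_110 v = W_110 v := by
  intro v
  simp (maxSteps := 100000000) only [w_110, actL, W_110, forceL_eq]
  rfl

theorem fixW_110 : ∀ v, v < 69888 → W_110 v = v :=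
  (fixW_step (fixW_step (fixW_step (fixW_step (fixW_step (fixW_step (fixW_step (fixW_step (fun v hv => absurd hv (by omega)) 9615 fixc_110_0) 9615 fixc_110_9615) 9615 fixc_110_19230) 9615 fixc_110_28845) 9615 fixc_110_38460) 9615 fixc_110_48075) 9615 fixc_110_57690) 2583 fixc_110_67305)

theorem fixh_110 : ∀ v, v < 69888 → actL mT w_110 v = v := fun v hv => by
  rw [actw_110]
  exact fixW_110 v hv

theorem wlt_110 : ∀ c ∈ w_110, c < 2 * (5 + 1) := by decide

theorem fix_110 : ∀ v, v < 139776 → actL mT w_110 v = v :=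
  fix_of_half tableOK hcomm 69888 hcov w_110 wlt_110 fixh_110

theorem actw_111 : ∀ v, actL mT w_111 v = W_111 v := by
  intro v
  simp (maxSteps := 100000000) only [w_111, actL, W_111, forceL_eq]
  rfl

theorem fixW_111 : ∀ v, v < 69888 → W_111 v = v :=
  (fixW_step (fixW_step (fixW_step (fixW_step (fixW_step (fixW_step (fixW_step (fixW_step (fun v hv => absurd hv (by omega)) 9615 fixc_111_0) 9615 fixc_111_9615) 9615 fixc_111_19230) 9615 fixc_111_28845) 9615 fixc_111_38460) 9615 fixc_111_48075) 9615 fixc_111_57690) 2583 fixc_111_67305)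

theorem fixh_111 : ∀ v, v < 69888 → actL mT w_111 v = v := fun v hv => by
  rw [actw_111]
  exact fixW_111 v hv

theorem wlt_111 : ∀ c ∈ w_111, c < 2 * (5 + 1) := by decide

theorem fix_111 : ∀ v, v < 139776 → actL mT w_111 v = v :=
  fix_of_half tableOK hcomm 69888 hcov w_111 wlt_111 fixh_111

theorem actw_112 : ∀ v, actL mT w_112 v = W_112 v := by
  intro v
  simp (maxSteps := 100000000) only [w_112, actL, W_112, forceL_eq]
  rfl

theorem fixW_112 : ∀ v, v < 69888 → W_112 v = v :=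
  (fixW_step (fixW_step (fixW_step (fixW_step (fixW_step (fixW_step (fixW_step (fixW_step (fun v hv => absurd hv (by omega)) 9615 fixc_112_0) 9615 fixc_112_9615) 9615 fixc_112_19230) 9615 fixc_112_28845) 9615 fixc_112_38460) 9615 fixc_112_48075) 9615 fixc_112_57690) 2583 fixc_112_67305)

theorem fixh_112 : ∀ v, v < 69888 → actL mT w_112 v = v := fun v hv => by
  rw [actw_112]
  exact fixW_112 v hv

theorem wlt_112 : ∀ c ∈ w_112, c < 2 * (5 + 1) := by decide

theorem fix_112 : ∀ v, v < 139776 → actL mT w_112 v = v :=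
  fix_of_half tableOK hcomm 69888 hcov w_112 wlt_112 fixh_112

theorem actw_113 : ∀ v, actL mT w_113 v = W_113 v := by
  intro v
  simp (maxSteps := 100000000) only [w_113, actL, W_113, forceL_eq]
  rfl

theorem fixW_113 : ∀ v, v < 69888 → W_113 v = v :=
  (fixW_step (fixW_step (fixW_step (fixW_step (fixW_step (fixW_step (fixW_step (fixW_step (fun v hv => absurd hv (by omega)) 9615 fixc_113_0) 9615 fixc_113_9615) 9615 fixc_113_19230) 9615 fixc_113_28845) 9615 fixc_113_38460) 9615 fixc_113_48075) 9615 fixc_113_57690) 2583 fixc_113_67305)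

theorem fixh_113 : ∀ v, v < 69888 → actL mT w_113 v = v := fun v hv => by
  rw [actw_113]
  exact fixW_113 v hv

theorem wlt_113 : ∀ c ∈ w_113, c < 2 * (5 + 1) := by decide

theorem fix_113 : ∀ v, v < 139776 → actL mT w_113 v = v :=
  fix_of_half tableOK hcomm 69888 hcov w_113 wlt_113 fixh_113

theorem actw_114 : ∀ v, actL mT w_114 v = W_114 v := by
  intro v
  simp (maxSteps := 100000000) only [w_114, actL, W_114, forceL_eq]
  rfl

theorem fixW_114 : ∀ v, v < 69888 → W_114 v = v :=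
  (fixW_step (fixW_step (fixW_step (fixW_step (fixW_step (fixW_step (fixW_step (fixW_step (fun v hv => absurd hv (by omega)) 9615 fixc_114_0) 9615 fixc_114_9615) 9615 fixc_114_19230) 9615 fixc_114_28845) 9615 fixc_114_38460) 9615 fixc_114_48075) 9615 fixc_114_57690) 2583 fixc_114_67305)

theorem fixh_114 : ∀ v, v < 69888 → actL mT w_114 v = v := fun v hv => by
  rw [actw_114]
  exact fixW_114 v hv

theorem wlt_114 : ∀ c ∈ w_114, c < 2 * (5 + 1) := by decide

theorem fix_114 : ∀ v, v < 139776 → actL mT w_114 v = v :=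
  fix_of_half tableOK hcomm 69888 hcov w_114 wlt_114 fixh_114

theorem actw_115 : ∀ v, actL mT w_115 v = W_115 v := by
  intro v
  simp (maxSteps := 100000000) only [w_115, actL, W_115, forceL_eq]
  rfl

theorem fixW_115 : ∀ v, v < 69888 → W_115 v = v :=
  (fixW_step (fixW_step (fixW_step (fixW_step (fixW_step (fixW_step (fixW_step (fixW_step (fun v hv => absurd hv (by omega)) 9615 fixc_115_0) 9615 fixc_115_9615) 9615 fixc_115_19230) 9615 fixc_115_28845) 9615 fixc_115_38460) 9615 fixc_115_48075) 9615 fixc_115_57690) 2583 fixc_115_67305)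

theorem fixh_115 : ∀ v, v < 69888 → actL mT w_115 v = v := fun v hv => by
  rw [actw_115]
  exact fixW_115 v hv

theorem wlt_115 : ∀ c ∈ w_115, c < 2 * (5 + 1) := by decide

theorem fix_115 : ∀ v, v < 139776 → actL mT w_115 v = v :=
  fix_of_half tableOK hcomm 69888 hcov w_115 wlt_115 fixh_115

theorem actw_116 : ∀ v, actL mT w_116 v = W_116 v := by
  intro v
  simp (maxSteps := 100000000) only [w_116, actL, W_116, forceL_eq]
  rfl

theorem fixW_116 : ∀ v, v < 69888 → W_116 v = v :=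
  (fixW_step (fixW_step (fixW_step (fixW_step (fixW_step (fixW_step (fixW_step (fixW_step (fun v hv => absurd hv (by omega)) 8928 fixc_116_0) 8928 fixc_116_8928) 8928 fixc_116_17856) 8928 fixc_116_26784) 8928 fixc_116_35712) 8928 fixc_116_44640) 8928 fixc_116_53568) 7392 fixc_116_62496)

theorem fixh_116 : ∀ v, v < 69888 → actL mT w_116 v = v := fun v hv => by
  rw [actw_116]
  exact fixW_116 v hv

theorem wlt_116 : ∀ c ∈ w_116, c < 2 * (5 + 1) := by decide

theorem fix_116 : ∀ v, v < 139776 → actL mT w_116 v = v :=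
  fix_of_half tableOK hcomm 69888 hcov w_116 wlt_116 fixh_116

theorem actw_117 : ∀ v, actL mT w_117 v = W_117 v := by
  intro v
  simp (maxSteps := 100000000) only [w_117, actL, W_117, forceL_eq]
  rfl

theorem fixW_117 : ∀ v, v < 69888 → W_117 v = v :=
  (fixW_step (fixW_step (fixW_step (fixW_step (fixW_step (fixW_step (fixW_step (fixW_step (fun v hv => absurd hv (by omega)) 8928 fixc_117_0) 8928 fixc_117_8928) 8928 fixc_117_17856) 8928 fixc_117_26784) 8928 fixc_117_35712) 8928 fixc_117_44640) 8928 fixc_117_53568) 7392 fixc_117_62496)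

theorem fixh_117 : ∀ v, v < 69888 → actL mT w_117 v = v := fun v hv => by
  rw [actw_117]
  exact fixW_117 v hv

theorem wlt_117 : ∀ c ∈ w_117, c < 2 * (5 + 1) := by decide

theorem fix_117 : ∀ v, v < 139776 → actL mT w_117 v = v :=
  fix_of_half tableOK hcomm 69888 hcov w_117 wlt_117 fixh_117

theorem actw_118 : ∀ v, actL mT w_118 v = W_118 v := by
  intro v
  simp (maxSteps := 100000000) only [w_118, actL, W_118, forceL_eq]
  rfl

theorem fixW_118 : ∀ v, v < 69888 → W_118 v = v :=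
  (fixW_step (fixW_step (fixW_step (fixW_step (fixW_step (fixW_step (fixW_step (fixW_step (fun v hv => absurd hv (by omega)) 8928 fixc_118_0) 8928 fixc_118_8928) 8928 fixc_118_17856) 8928 fixc_118_26784) 8928 fixc_118_35712) 8928 fixc_118_44640) 8928 fixc_118_53568) 7392 fixc_118_62496)

theorem fixh_118 : ∀ v, v < 69888 → actL mT w_118 v = v := fun v hv => by
  rw [actw_118]
  exact fixW_118 v hv

theorem wlt_118 : ∀ c ∈ w_118, c < 2 * (5 + 1) := by decide

theorem fix_118 : ∀ v, v < 139776 → actL mT w_118 v = v :=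
  fix_of_half tableOK hcomm 69888 hcov w_118 wlt_118 fixh_118

theorem actw_119 : ∀ v, actL mT w_119 v = W_119 v := by
  intro v
  simp (maxSteps := 100000000) only [w_119, actL, W_119, forceL_eq]
  rfl

theorem fixW_119 : ∀ v, v < 69888 → W_119 v = v :=
  (fixW_step (fixW_step (fixW_step (fixW_step (fixW_step (fixW_step (fixW_step (fixW_step (fun v hv => absurd hv (by omega)) 8928 fixc_119_0) 8928 fixc_119_8928) 8928 fixc_119_17856) 8928 fixc_119_26784) 8928 fixc_119_35712) 8928 fixc_119_44640) 8928 fixc_119_53568) 7392 fixc_119_62496)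

theorem fixh_119 : ∀ v, v < 69888 → actL mT w_119 v = v := fun v hv => by
  rw [actw_119]
  exact fixW_119 v hv

theorem wlt_119 : ∀ c ∈ w_119, c < 2 * (5 + 1) := by decide

theorem fix_119 : ∀ v, v < 139776 → actL mT w_119 v = v :=
  fix_of_half tableOK hcomm 69888 hcov w_119 wlt_119 fixh_119

theorem actw_120 : ∀ v, actL mT w_120 v = W_120 v := by
  intro v
  simp (maxSteps := 100000000) only [w_120, actL, W_120, forceL_eq]
  rfl

theorem fixW_120 : ∀ v, v < 69888 → W_120 v = v :=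
  (fixW_step (fixW_step (fixW_step (fixW_step (fixW_step (fixW_step (fixW_step (fixW_step (fun v hv => absurd hv (by omega)) 8928 fixc_120_0) 8928 fixc_120_8928) 8928 fixc_120_17856) 8928 fixc_120_26784) 8928 fixc_120_35712) 8928 fixc_120_44640) 8928 fixc_120_53568) 7392 fixc_120_62496)

theorem fixh_120 : ∀ v, v < 69888 → actL mT w_120 v = v := fun v hv => by
  rw [actw_120]
  exact fixW_120 v hv

theorem wlt_120 : ∀ c ∈ w_120, c < 2 * (5 + 1) := by decide

theorem fix_120 : ∀ v, v < 139776 → actL mT w_120 v = v :=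
  fix_of_half tableOK hcomm 69888 hcov w_120 wlt_120 fixh_120

theorem actw_121 : ∀ v, actL mT w_121 v = W_121 v := by
  intro v
  simp (maxSteps := 100000000) only [w_121, actL, W_121, forceL_eq]
  rfl

theorem fixW_121 : ∀ v, v < 69888 → W_121 v = v :=
  (fixW_step (fixW_step (fixW_step (fixW_step (fixW_step (fixW_step (fixW_step (fixW_step (fun v hv => absurd hv (by omega)) 8928 fixc_121_0) 8928 fixc_121_8928) 8928 fixc_121_17856) 8928 fixc_121_26784) 8928 fixc_121_35712) 8928 fixc_121_44640) 8928 fixc_121_53568) 7392 fixc_121_62496)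

theorem fixh_121 : ∀ v, v < 69888 → actL mT w_121 v = v := fun v hv => by
  rw [actw_121]
  exact fixW_121 v hv

theorem wlt_121 : ∀ c ∈ w_121, c < 2 * (5 + 1) := by decide

theorem fix_121 : ∀ v, v < 139776 → actL mT w_121 v = v :=
  fix_of_half tableOK hcomm 69888 hcov w_121 wlt_121 fixh_121

theorem actw_122 : ∀ v, actL mT w_122 v = W_122 v := by
  intro v
  simp (maxSteps := 100000000) only [w_122, actL, W_122, forceL_eq]
  rfl

theorem fixW_122 : ∀ v, v < 69888 → W_122 v = v :=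
  (fixW_step (fixW_step (fixW_step (fixW_step (fixW_step (fixW_step (fixW_step (fixW_step (fun v hv => absurd hv (by omega)) 8928 fixc_122_0) 8928 fixc_122_8928) 8928 fixc_122_17856) 8928 fixc_122_26784) 8928 fixc_122_35712) 8928 fixc_122_44640) 8928 fixc_122_53568) 7392 fixc_122_62496)

theorem fixh_122 : ∀ v, v < 69888 → actL mT w_122 v = v := fun v hv => by
  rw [actw_122]
  exact fixW_122 v hv

theorem wlt_122 : ∀ c ∈ w_122, c < 2 * (5 + 1) := by decide

theorem fix_122 : ∀ v, v < 139776 → actL mT w_122 v = v :=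
  fix_of_half tableOK hcomm 69888 hcov w_122 wlt_122 fixh_122

theorem actw_123 : ∀ v, actL mT w_123 v = W_123 v := by
  intro v
  simp (maxSteps := 100000000) only [w_123, actL, W_123, forceL_eq]
  rfl

theorem fixW_123 : ∀ v, v < 69888 → W_123 v = v :=
  (fixW_step (fixW_step (fixW_step (fixW_step (fixW_step (fixW_step (fixW_step (fixW_step (fun v hv => absurd hv (by omega)) 8928 fixc_123_0) 8928 fixc_123_8928) 8928 fixc_123_17856) 8928 fixc_123_26784) 8928 fixc_123_35712) 8928 fixc_123_44640) 8928 fixc_123_53568) 7392 fixc_123_62496)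

theorem fixh_123 : ∀ v, v < 69888 → actL mT w_123 v = v := fun v hv => by
  rw [actw_123]
  exact fixW_123 v hv

theorem wlt_123 : ∀ c ∈ w_123, c < 2 * (5 + 1) := by decide

theorem fix_123 : ∀ v, v < 139776 → actL mT w_123 v = v :=
  fix_of_half tableOK hcomm 69888 hcov w_123 wlt_123 fixh_123

theorem actw_124 : ∀ v, actL mT w_124 v = W_124 v := by
  intro v
  simp (maxSteps := 100000000) only [w_124, actL, W_124, forceL_eq]
  rfl

theorem fixW_124 : ∀ v, v < 69888 → W_124 v = v :=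
  (fixW_step (fixW_step (fixW_step (fixW_step (fixW_step (fixW_step (fixW_step (fixW_step (fun v hv => absurd hv (by omega)) 8928 fixc_124_0) 8928 fixc_124_8928) 8928 fixc_124_17856) 8928 fixc_124_26784) 8928 fixc_124_35712) 8928 fixc_124_44640) 8928 fixc_124_53568) 7392 fixc_124_62496)

theorem fixh_124 : ∀ v, v < 69888 → actL mT w_124 v = v := fun v hv => by
  rw [actw_124]
  exact fixW_124 v hv

theorem wlt_124 : ∀ c ∈ w_124, c < 2 * (5 + 1) := by decide

theorem fix_124 : ∀ v, v < 139776 → actL mT w_124 v = v :=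
  fix_of_half tableOK hcomm 69888 hcov w_124 wlt_124 fixh_124

theorem actw_125 : ∀ v, actL mT w_125 v = W_125 v := by
  intro v
  simp (maxSteps := 100000000) only [w_125, actL, W_125, forceL_eq]
  rfl

theorem fixW_125 : ∀ v, v < 69888 → W_125 v = v :=
  (fixW_step (fixW_step (fixW_step (fixW_step (fixW_step (fixW_step (fixW_step (fixW_step (fun v hv => absurd hv (by omega)) 8928 fixc_125_0) 8928 fixc_125_8928) 8928 fixc_125_17856) 8928 fixc_125_26784) 8928 fixc_125_35712) 8928 fixc_125_44640) 8928 fixc_125_53568) 7392 fixc_125_62496)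

theorem fixh_125 : ∀ v, v < 69888 → actL mT w_125 v = v := fun v hv => by
  rw [actw_125]
  exact fixW_125 v hv

theorem wlt_125 : ∀ c ∈ w_125, c < 2 * (5 + 1) := by decide

theorem fix_125 : ∀ v, v < 139776 → actL mT w_125 v = v :=
  fix_of_half tableOK hcomm 69888 hcov w_125 wlt_125 fixh_125

theorem actw_126 : ∀ v, actL mT w_126 v = W_126 v := by
  intro v
  simp (maxSteps := 100000000) only [w_126, actL, W_126, forceL_eq]
  rfl

theorem fixW_126 : ∀ v, v < 69888 → W_126 v = v :=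
  (fixW_step (fixW_step (fixW_step (fixW_step (fixW_step (fixW_step (fixW_step (fixW_step (fun v hv => absurd hv (by omega)) 8928 fixc_126_0) 8928 fixc_126_8928) 8928 fixc_126_17856) 8928 fixc_126_26784) 8928 fixc_126_35712) 8928 fixc_126_44640) 8928 fixc_126_53568) 7392 fixc_126_62496)

theorem fixh_126 : ∀ v, v < 69888 → actL mT w_126 v = v := fun v hv => by
  rw [actw_126]
  exact fixW_126 v hv

theorem wlt_126 : ∀ c ∈ w_126, c < 2 * (5 + 1) := by decide

theorem fix_126 : ∀ v, v < 139776 → actL mT w_126 v = v :=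
  fix_of_half tableOK hcomm 69888 hcov w_126 wlt_126 fixh_126

theorem actw_127 : ∀ v, actL mT w_127 v = W_127 v := by
  intro v
  simp (maxSteps := 100000000) only [w_127, actL, W_127, forceL_eq]
  rfl

theorem fixW_127 : ∀ v, v < 69888 → W_127 v = v :=
  (fixW_step (fixW_step (fixW_step (fixW_step (fixW_step (fixW_step (fixW_step (fixW_step (fun v hv => absurd hv (by omega)) 8928 fixc_127_0) 8928 fixc_127_8928) 8928 fixc_127_17856) 8928 fixc_127_26784) 8928 fixc_127_35712) 8928 fixc_127_44640) 8928 fixc_127_53568) 7392 fixc_127_62496)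

theorem fixh_127 : ∀ v, v < 69888 → actL mT w_127 v = v := fun v hv => by
  rw [actw_127]
  exact fixW_127 v hv

theorem wlt_127 : ∀ c ∈ w_127, c < 2 * (5 + 1) := by decide

theorem fix_127 : ∀ v, v < 139776 → actL mT w_127 v = v :=
  fix_of_half tableOK hcomm 69888 hcov w_127 wlt_127 fixh_127

theorem actw_128 : ∀ v, actL mT w_128 v = W_128 v := by
  intro v
  simp (maxSteps := 100000000) only [w_128, actL, W_128, forceL_eq]
  rfl

theorem fixW_128 : ∀ v, v < 69888 → W_128 v = v :=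
  (fixW_step (fixW_step (fixW_step (fixW_step (fixW_step (fixW_step (fixW_step (fixW_step (fun v hv => absurd hv (by omega)) 8928 fixc_128_0) 8928 fixc_128_8928) 8928 fixc_128_17856) 8928 fixc_128_26784) 8928 fixc_128_35712) 8928 fixc_128_44640) 8928 fixc_128_53568) 7392 fixc_128_62496)

theorem fixh_128 : ∀ v, v < 69888 → actL mT w_128 v = v := fun v hv => by
  rw [actw_128]
  exact fixW_128 v hv

theorem wlt_128 : ∀ c ∈ w_128, c < 2 * (5 + 1) := by decide

theorem fix_128 : ∀ v, v < 139776 → actL mT w_128 v = v :=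
  fix_of_half tableOK hcomm 69888 hcov w_128 wlt_128 fixh_128

theorem actw_129 : ∀ v, actL mT w_129 v = W_129 v := by
  intro v
  simp (maxSteps := 100000000) only [w_129, actL, W_129, forceL_eq]
  rfl

theorem fixW_129 : ∀ v, v < 69888 → W_129 v = v :=
  (fixW_step (fixW_step (fixW_step (fixW_step (fixW_step (fixW_step (fixW_step (fixW_step (fun v hv => absurd hv (by omega)) 8928 fixc_129_0) 8928 fixc_129_8928) 8928 fixc_129_17856) 8928 fixc_129_26784) 8928 fixc_129_35712) 8928 fixc_129_44640) 8928 fixc_129_53568) 7392 fixc_129_62496)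

theorem fixh_129 : ∀ v, v < 69888 → actL mT w_129 v = v := fun v hv => by
  rw [actw_129]
  exact fixW_129 v hv

theorem wlt_129 : ∀ c ∈ w_129, c < 2 * (5 + 1) := by decide

theorem fix_129 : ∀ v, v < 139776 → actL mT w_129 v = v :=
  fix_of_half tableOK hcomm 69888 hcov w_129 wlt_129 fixh_129

theorem actw_130 : ∀ v, actL mT w_130 v = W_130 v := by
  intro v
  simp (maxSteps := 100000000) only [w_130, actL, W_130, forceL_eq]
  rfl

theorem fixW_130 : ∀ v, v < 69888 → W_130 v = v :=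
  (fixW_step (fixW_step (fixW_step (fixW_step (fixW_step (fixW_step (fixW_step (fixW_step (fun v hv => absurd hv (by omega)) 8928 fixc_130_0) 8928 fixc_130_8928) 8928 fixc_130_17856) 8928 fixc_130_26784) 8928 fixc_130_35712) 8928 fixc_130_44640) 8928 fixc_130_53568) 7392 fixc_130_62496)

theorem fixh_130 : ∀ v, v < 69888 → actL mT w_130 v = v := fun v hv => by
  rw [actw_130]
  exact fixW_130 v hv

theorem wlt_130 : ∀ c ∈ w_130, c < 2 * (5 + 1) := by decide

theorem fix_130 : ∀ v, v < 139776 → actL mT w_130 v = v :=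
  fix_of_half tableOK hcomm 69888 hcov w_130 wlt_130 fixh_130

theorem actw_131 : ∀ v, actL mT w_131 v = W_131 v := by
  intro v
  simp (maxSteps := 100000000) only [w_131, actL, W_131, forceL_eq]
  rfl

theorem fixW_131 : ∀ v, v < 69888 → W_131 v = v :=
  (fixW_step (fixW_step (fixW_step (fixW_step (fixW_step (fixW_step (fixW_step (fixW_step (fun v hv => absurd hv (by omega)) 8928 fixc_131_0) 8928 fixc_131_8928) 8928 fixc_131_17856) 8928 fixc_131_26784) 8928 fixc_131_35712) 8928 fixc_131_44640) 8928 fixc_131_53568) 7392 fixc_131_62496)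

theorem fixh_131 : ∀ v, v < 69888 → actL mT w_131 v = v := fun v hv => by
  rw [actw_131]
  exact fixW_131 v hv

theorem wlt_131 : ∀ c ∈ w_131, c < 2 * (5 + 1) := by decide

theorem fix_131 : ∀ v, v < 139776 → actL mT w_131 v = v :=
  fix_of_half tableOK hcomm 69888 hcov w_131 wlt_131 fixh_131

theorem actw_132 : ∀ v, actL mT w_132 v = W_132 v := by
  intro v
  simp (maxSteps := 100000000) only [w_132, actL, W_132, forceL_eq]
  rfl

theorem fixW_132 : ∀ v, v < 69888 → W_132 v = v :=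
  (fixW_step (fixW_step (fun v hv => absurd hv (by omega)) 62500 fixc_132_0) 7388 fixc_132_62500)

theorem fixh_132 : ∀ v, v < 69888 → actL mT w_132 v = v := fun v hv => by
  rw [actw_132]
  exact fixW_132 v hv

theorem wlt_132 : ∀ c ∈ w_132, c < 2 * (5 + 1) := by decide

theorem fix_132 : ∀ v, v < 139776 → actL mT w_132 v = v :=
  fix_of_half tableOK hcomm 69888 hcov w_132 wlt_132 fixh_132

theorem actw_133 : ∀ v, actL mT w_133 v = W_133 v := by
  intro v
  simp (maxSteps := 100000000) only [w_133, actL, W_133, forceL_eq]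
  rfl

theorem fixW_133 : ∀ v, v < 69888 → W_133 v = v :=
  (fixW_step (fixW_step (fixW_step (fixW_step (fixW_step (fun v hv => absurd hv (by omega)) 16666 fixc_133_0) 16666 fixc_133_16666) 16666 fixc_133_33332) 16666 fixc_133_49998) 3224 fixc_133_66664)

theorem fixh_133 : ∀ v, v < 69888 → actL mT w_133 v = v := fun v hv => by
  rw [actw_133]
  exact fixW_133 v hv

theorem wlt_133 : ∀ c ∈ w_133, c < 2 * (5 + 1) := by decide

theorem fix_133 : ∀ v, v < 139776 → actL mT w_133 v = v :=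
  fix_of_half tableOK hcomm 69888 hcov w_133 wlt_133 fixh_133

theorem actw_134 : ∀ v, actL mT w_134 v = W_134 v := by
  intro v
  simp (maxSteps := 100000000) only [w_134, actL, W_134, forceL_eq]
  rfl

theorem fixW_134 : ∀ v, v < 69888 → W_134 v = v :=
  (fixW_step (fixW_step (fixW_step (fixW_step (fixW_step (fun v hv => absurd hv (by omega)) 14705 fixc_134_0) 14705 fixc_134_14705) 14705 fixc_134_29410) 14705 fixc_134_44115) 11068 fixc_134_58820)

theorem fixh_134 : ∀ v, v < 69888 → actL mT w_134 v = v := fun v hv => by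
  rw [actw_134]
  exact fixW_134 v hv

theorem wlt_134 : ∀ c ∈ w_134, c < 2 * (5 + 1) := by decide

theorem fix_134 : ∀ v, v < 139776 → actL mT w_134 v = v :=
  fix_of_half tableOK hcomm 69888 hcov w_134 wlt_134 fixh_134

theorem actw_135 : ∀ v, actL mT w_135 v = W_135 v := by
  intro v
  simp (maxSteps := 100000000) only [w_135, actL, W_135, forceL_eq]
  rfl

theorem fixW_135 : ∀ v, v < 69888 → W_135 v = v :=
  (fixW_step (fixW_step (fixW_step (fixW_step (fixW_step (fun v hv => absurd hv (by omega)) 14705 fixc_135_0) 14705 fixc_135_14705) 14705 fixc_135_29410) 14705 fixc_135_44115) 11068 fixc_135_58820)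

theorem fixh_135 : ∀ v, v < 69888 → actL mT w_135 v = v := fun v hv => by
  rw [actw_135]
  exact fixW_135 v hv

theorem wlt_135 : ∀ c ∈ w_135, c < 2 * (5 + 1) := by decide

theorem fix_135 : ∀ v, v < 139776 → actL mT w_135 v = v :=
  fix_of_half tableOK hcomm 69888 hcov w_135 wlt_135 fixh_135

theorem actw_136 : ∀ v, actL mT w_136 v = W_136 v := by
  intro v
  simp (maxSteps := 100000000) only [w_136, actL, W_136, forceL_eq]
  rfl

theorem fixW_136 : ∀ v, v < 69888 → W_136 v = v :=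
  (fixW_step (fixW_step (fixW_step (fixW_step (fixW_step (fun v hv => absurd hv (by omega)) 16666 fixc_136_0) 16666 fixc_136_16666) 16666 fixc_136_33332) 16666 fixc_136_49998) 3224 fixc_136_66664)

theorem fixh_136 : ∀ v, v < 69888 → actL mT w_136 v = v := fun v hv => by
  rw [actw_136]
  exact fixW_136 v hv

theorem wlt_136 : ∀ c ∈ w_136, c < 2 * (5 + 1) := by decide

theorem fix_136 : ∀ v, v < 139776 → actL mT w_136 v = v :=
  fix_of_half tableOK hcomm 69888 hcov w_136 wlt_136 fixh_136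

theorem actw_137 : ∀ v, actL mT w_137 v = W_137 v := by
  intro v
  simp (maxSteps := 100000000) only [w_137, actL, W_137, forceL_eq]
  rfl

theorem fixW_137 : ∀ v, v < 69888 → W_137 v = v :=
  (fixW_step (fixW_step (fixW_step (fixW_step (fixW_step (fun v hv => absurd hv (by omega)) 16666 fixc_137_0) 16666 fixc_137_16666) 16666 fixc_137_33332) 16666 fixc_137_49998) 3224 fixc_137_66664)

theorem fixh_137 : ∀ v, v < 69888 → actL mT w_137 v = v := fun v hv => by
  rw [actw_137]
  exact fixW_137 v hv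

theorem wlt_137 : ∀ c ∈ w_137, c < 2 * (5 + 1) := by decide

theorem fix_137 : ∀ v, v < 139776 → actL mT w_137 v = v :=
  fix_of_half tableOK hcomm 69888 hcov w_137 wlt_137 fixh_137

theorem actw_138 : ∀ v, actL mT w_138 v = W_138 v := by
  intro v
  simp (maxSteps := 100000000) only [w_138, actL, W_138, forceL_eq]
  rfl

theorem fixW_138 : ∀ v, v < 69888 → W_138 v = v :=
  (fixW_step (fixW_step (fixW_step (fixW_step (fixW_step (fun v hv => absurd hv (by omega)) 15625 fixc_138_0) 15625 fixc_138_15625) 15625 fixc_138_31250) 15625 fixc_138_46875) 7388 fixc_138_62500)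

theorem fixh_138 : ∀ v, v < 69888 → actL mT w_138 v = v := fun v hv => by
  rw [actw_138]
  exact fixW_138 v hv

theorem wlt_138 : ∀ c ∈ w_138, c < 2 * (5 + 1) := by decide

theorem fix_138 : ∀ v, v < 139776 → actL mT w_138 v = v :=
  fix_of_half tableOK hcomm 69888 hcov w_138 wlt_138 fixh_138

theorem actw_139 : ∀ v, actL mT w_139 v = W_139 v := by
  intro v
  simp (maxSteps := 100000000) only [w_139, actL, W_139, forceL_eq]
  rfl

theorem fixW_139 : ∀ v, v < 69888 → W_139 v = v :=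
  (fixW_step (fixW_step (fixW_step (fixW_step (fixW_step (fun v hv => absurd hv (by omega)) 15625 fixc_139_0) 15625 fixc_139_15625) 15625 fixc_139_31250) 15625 fixc_139_46875) 7388 fixc_139_62500)

theorem fixh_139 : ∀ v, v < 69888 → actL mT w_139 v = v := fun v hv => by
  rw [actw_139]
  exact fixW_139 v hv

theorem wlt_139 : ∀ c ∈ w_139, c < 2 * (5 + 1) := by decide

theorem fix_139 : ∀ v, v < 139776 → actL mT w_139 v = v :=
  fix_of_half tableOK hcomm 69888 hcov w_139 wlt_139 fixh_139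

theorem actw_140 : ∀ v, actL mT w_140 v = W_140 v := by
  intro v
  simp (maxSteps := 100000000) only [w_140, actL, W_140, forceL_eq]
  rfl

theorem fixW_140 : ∀ v, v < 69888 → W_140 v = v :=
  (fixW_step (fixW_step (fixW_step (fixW_step (fixW_step (fixW_step (fun v hv => absurd hv (by omega)) 13888 fixc_140_0) 13888 fixc_140_13888) 13888 fixc_140_27776) 13888 fixc_140_41664) 13888 fixc_140_55552) 448 fixc_140_69440)

theorem fixh_140 : ∀ v, v < 69888 → actL mT w_140 v = v := fun v hv => by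
  rw [actw_140]
  exact fixW_140 v hv

theorem wlt_140 : ∀ c ∈ w_140, c < 2 * (5 + 1) := by decide

theorem fix_140 : ∀ v, v < 139776 → actL mT w_140 v = v :=
  fix_of_half tableOK hcomm 69888 hcov w_140 wlt_140 fixh_140

theorem actw_141 : ∀ v, actL mT w_141 v = W_141 v := by
  intro v
  simp (maxSteps := 100000000) only [w_141, actL, W_141, forceL_eq]
  rfl

theorem fixW_141 : ∀ v, v < 69888 → W_141 v = v :=
  (fixW_step (fixW_step (fun v hv => absurd hv (by omega)) 62500 fixc_141_0) 7388 fixc_141_62500)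

theorem fixh_141 : ∀ v, v < 69888 → actL mT w_141 v = v := fun v hv => by
  rw [actw_141]
  exact fixW_141 v hv

theorem wlt_141 : ∀ c ∈ w_141, c < 2 * (5 + 1) := by decide

theorem fix_141 : ∀ v, v < 139776 → actL mT w_141 v = v :=
  fix_of_half tableOK hcomm 69888 hcov w_141 wlt_141 fixh_141

theorem actw_142 : ∀ v, actL mT w_142 v = W_142 v := by
  intro v
  simp (maxSteps := 100000000) only [w_142, actL, W_142, forceL_eq]
  rfl

theorem fixW_142 : ∀ v, v < 69888 → W_142 v = v :=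
  (fixW_step (fixW_step (fun v hv => absurd hv (by omega)) 62500 fixc_142_0) 7388 fixc_142_62500)

theorem fixh_142 : ∀ v, v < 69888 → actL mT w_142 v = v := fun v hv => by
  rw [actw_142]
  exact fixW_142 v hv

theorem wlt_142 : ∀ c ∈ w_142, c < 2 * (5 + 1) := by decide

theorem fix_142 : ∀ v, v < 139776 → actL mT w_142 v = v :=
  fix_of_half tableOK hcomm 69888 hcov w_142 wlt_142 fixh_142

theorem actw_143 : ∀ v, actL mT w_143 v = W_143 v := by
  intro v
  simp (maxSteps := 100000000) only [w_143, actL, W_143, forceL_eq]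
  rfl

theorem fixW_143 : ∀ v, v < 69888 → W_143 v = v :=
  (fixW_step (fixW_step (fixW_step (fixW_step (fixW_step (fixW_step (fixW_step (fun v hv => absurd hv (by omega)) 10416 fixc_143_0) 10416 fixc_143_10416) 10416 fixc_143_20832) 10416 fixc_143_31248) 10416 fixc_143_41664) 10416 fixc_143_52080) 7392 fixc_143_62496)

theorem fixh_143 : ∀ v, v < 69888 → actL mT w_143 v = v := fun v hv => by
  rw [actw_143]
  exact fixW_143 v hv

theorem wlt_143 : ∀ c ∈ w_143, c < 2 * (5 + 1) := by decide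

theorem fix_143 : ∀ v, v < 139776 → actL mT w_143 v = v :=
  fix_of_half tableOK hcomm 69888 hcov w_143 wlt_143 fixh_143

theorem actw_144 : ∀ v, actL mT w_144 v = W_144 v := by
  intro v
  simp (maxSteps := 100000000) only [w_144, actL, W_144, forceL_eq]
  rfl

theorem fixW_144 : ∀ v, v < 69888 → W_144 v = v :=
  (fixW_step (fixW_step (fixW_step (fixW_step (fixW_step (fun v hv => absurd hv (by omega)) 14705 fixc_144_0) 14705 fixc_144_14705) 14705 fixc_144_29410) 14705 fixc_144_44115) 11068 fixc_144_58820)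

theorem fixh_144 : ∀ v, v < 69888 → actL mT w_144 v = v := fun v hv => by
  rw [actw_144]
  exact fixW_144 v hv

theorem wlt_144 : ∀ c ∈ w_144, c < 2 * (5 + 1) := by decide

theorem fix_144 : ∀ v, v < 139776 → actL mT w_144 v = v :=
  fix_of_half tableOK hcomm 69888 hcov w_144 wlt_144 fixh_144

theorem actw_145 : ∀ v, actL mT w_145 v = W_145 v := by
  intro v
  simp (maxSteps := 100000000) only [w_145, actL, W_145, forceL_eq]
  rfl

theorem fixW_145 : ∀ v, v < 69888 → W_145 v = v :=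
  (fixW_step (fun v hv => absurd hv (by omega)) 69888 fixc_145_0)

theorem fixh_145 : ∀ v, v < 69888 → actL mT w_145 v = v := fun v hv => by
  rw [actw_145]
  exact fixW_145 v hv

theorem wlt_145 : ∀ c ∈ w_145, c < 2 * (5 + 1) := by decide

theorem fix_145 : ∀ v, v < 139776 → actL mT w_145 v = v :=
  fix_of_half tableOK hcomm 69888 hcov w_145 wlt_145 fixh_145

theorem actw_146 : ∀ v, actL mT w_146 v = W_146 v := by
  intro v
  simp (maxSteps := 100000000) only [w_146, actL, W_146, forceL_eq]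
  rfl

theorem fixW_146 : ∀ v, v < 69888 → W_146 v = v :=
  (fixW_step (fun v hv => absurd hv (by omega)) 69888 fixc_146_0)

theorem fixh_146 : ∀ v, v < 69888 → actL mT w_146 v = v := fun v hv => by
  rw [actw_146]
  exact fixW_146 v hv

theorem wlt_146 : ∀ c ∈ w_146, c < 2 * (5 + 1) := by decide

theorem fix_146 : ∀ v, v < 139776 → actL mT w_146 v = v :=
  fix_of_half tableOK hcomm 69888 hcov w_146 wlt_146 fixh_146

theorem actw_147 : ∀ v, actL mT w_147 v = W_147 v := by
  intro v
  simp (maxSteps := 100000000) only [w_147, actL, W_147, forceL_eq]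
  rfl

theorem fixW_147 : ∀ v, v < 69888 → W_147 v = v :=
  (fixW_step (fixW_step (fun v hv => absurd hv (by omega)) 50000 fixc_147_0) 19888 fixc_147_50000)

theorem fixh_147 : ∀ v, v < 69888 → actL mT w_147 v = v := fun v hv => by
  rw [actw_147]
  exact fixW_147 v hv

theorem wlt_147 : ∀ c ∈ w_147, c < 2 * (5 + 1) := by decide

theorem fix_147 : ∀ v, v < 139776 → actL mT w_147 v = v :=
  fix_of_half tableOK hcomm 69888 hcov w_147 wlt_147 fixh_147

theorem actw_148 : ∀ v, actL mT w_148 v = W_148 v := by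
  intro v
  simp (maxSteps := 100000000) only [w_148, actL, W_148, forceL_eq]
  rfl

theorem fixW_148 : ∀ v, v < 69888 → W_148 v = v :=
  (fixW_step (fun v hv => absurd hv (by omega)) 69888 fixc_148_0)

theorem fixh_148 : ∀ v, v < 69888 → actL mT w_148 v = v := fun v hv => by
  rw [actw_148]
  exact fixW_148 v hv

theorem wlt_148 : ∀ c ∈ w_148, c < 2 * (5 + 1) := by decide

theorem fix_148 : ∀ v, v < 139776 → actL mT w_148 v = v :=
  fix_of_half tableOK hcomm 69888 hcov w_148 wlt_148 fixh_148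

theorem actw_149 : ∀ v, actL mT w_149 v = W_149 v := by
  intro v
  simp (maxSteps := 100000000) only [w_149, actL, W_149, forceL_eq]
  rfl

theorem fixW_149 : ∀ v, v < 139776 → W_149 v = v :=
  (fixW_step (fixW_step (fun v hv => absurd hv (by omega)) 125000 fixc_149_0) 14776 fixc_149_125000)

theorem fix_149 : ∀ v, v < 139776 → actL mT w_149 v = v := fun v hv => by
  rw [actw_149]
  exact fixW_149 v hv

theorem hcent : ∀ r ∈ cw, ∃ k, ∀ v, v < 139776 → actL mT (r ++ List.replicate k (2 * 5)) v = v := by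
  intro r hr
  simp only [cw, List.mem_cons, List.not_mem_nil, or_false] at hr
  rcases hr with rfl | rfl | rfl | rfl | rfl | rfl | rfl | rfl | rfl | rfl | rfl | rfl | rfl | rfl | rfl | rfl | rfl | rfl | rfl | rfl | rfl | rfl | rfl | rfl | rfl | rfl | rfl | rfl | rfl | rfl | rfl | rfl | rfl | rfl | rfl | rfl | rfl | rfl | rfl | rfl | rfl | rfl | rfl | rfl | rfl | rfl | rfl | rfl | rfl | rfl | rfl | rfl | rfl | rfl | rfl | rfl | rfl | rfl | rfl | rfl | rfl | rfl | rfl | rfl | rfl | rfl | rfl | rfl | rfl | rfl | rfl | rfl | rfl | rfl | rfl | rfl | rfl | rfl | rfl | rfl | rfl | rfl | rfl | rfl | rfl | rfl | rfl | rfl | rfl | rfl | rfl | rfl | rfl | rfl | rfl | rfl | rfl | rfl | rfl | rfl | rfl | rfl | rfl | rfl | rfl | rfl | rfl | rfl | rfl | rfl | rfl | rfl | rfl | rfl | rfl | rfl | rfl | rfl | rfl | rfl | rfl | rfl | rfl | rfl | rfl | rfl | rfl | rfl | rfl | rfl | rfl | rfl | rfl | rfl | rfl | rfl | rfl | rfl | rfl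
  · exact ⟨0, fix_5⟩
  · exact ⟨0, fix_6⟩
  · exact ⟨0, fix_7⟩
  · exact ⟨0, fix_8⟩
  · exact ⟨0, fix_9⟩
  · exact ⟨0, fix_10⟩
  · exact ⟨0, fix_11⟩
  · exact ⟨0, fix_12⟩
  · exact ⟨0, fix_13⟩
  · exact ⟨0, fix_14⟩
  · exact ⟨0, fix_15⟩
  · exact ⟨0, fix_16⟩
  · exact ⟨0, fix_17⟩
  · exact ⟨0, fix_18⟩
  · exact ⟨0, fix_19⟩
  · exact ⟨0, fix_20⟩
  · exact ⟨0, fix_21⟩
  · exact ⟨0, fix_22⟩
  · exact ⟨0, fix_23⟩
  · exact ⟨0, fix_24⟩
  · exact ⟨0, fix_25⟩
  · exact ⟨0, fix_26⟩
  · exact ⟨0, fix_27⟩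
  · exact ⟨0, fix_28⟩
  · exact ⟨0, fix_29⟩
  · exact ⟨0, fix_30⟩
  · exact ⟨0, fix_31⟩
  · exact ⟨0, fix_32⟩
  · exact ⟨0, fix_33⟩
  · exact ⟨0, fix_34⟩
  · exact ⟨0, fix_35⟩
  · exact ⟨0, fix_36⟩
  · exact ⟨0, fix_37⟩
  · exact ⟨0, fix_38⟩
  · exact ⟨0, fix_39⟩
  · exact ⟨0, fix_40⟩
  · exact ⟨0, fix_41⟩
  · exact ⟨0, fix_42⟩
  · exact ⟨0, fix_43⟩
  · exact ⟨0, fix_44⟩
  · exact ⟨0, fix_45⟩
  · exact ⟨0, fix_46⟩
  · exact ⟨0, fix_47⟩
  · exact ⟨0, fix_48⟩
  · exact ⟨0, fix_49⟩
  · exact ⟨0, fix_50⟩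
  · exact ⟨0, fix_51⟩
  · exact ⟨0, fix_52⟩
  · exact ⟨0, fix_53⟩
  · exact ⟨0, fix_54⟩
  · exact ⟨0, fix_55⟩
  · exact ⟨0, fix_56⟩
  · exact ⟨0, fix_57⟩
  · exact ⟨0, fix_58⟩
  · exact ⟨0, fix_59⟩
  · exact ⟨0, fix_60⟩
  · exact ⟨0, fix_61⟩
  · exact ⟨0, fix_62⟩
  · exact ⟨0, fix_63⟩
  · exact ⟨0, fix_64⟩
  · exact ⟨0, fix_65⟩
  · exact ⟨0, fix_66⟩
  · exact ⟨0, fix_67⟩
  · exact ⟨0, fix_68⟩
  · exact ⟨0, fix_69⟩
  · exact ⟨0, fix_70⟩
  · exact ⟨0, fix_71⟩
  · exact ⟨0, fix_72⟩
  · exact ⟨0, fix_73⟩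
  · exact ⟨0, fix_74⟩
  · exact ⟨0, fix_75⟩
  · exact ⟨0, fix_76⟩
  · exact ⟨0, fix_77⟩
  · exact ⟨0, fix_78⟩
  · exact ⟨0, fix_79⟩
  · exact ⟨0, fix_80⟩
  · exact ⟨0, fix_81⟩
  · exact ⟨0, fix_82⟩
  · exact ⟨0, fix_83⟩
  · exact ⟨0, fix_84⟩
  · exact ⟨0, fix_85⟩
  · exact ⟨0, fix_86⟩
  · exact ⟨0, fix_87⟩
  · exact ⟨0, fix_88⟩
  · exact ⟨0, fix_89⟩
  · exact ⟨0, fix_90⟩
  · exact ⟨0, fix_91⟩
  · exact ⟨0, fix_92⟩
  · exact ⟨0, fix_93⟩
  · exact ⟨0, fix_94⟩
  · exact ⟨0, fix_95⟩
  · exact ⟨1, fix_96⟩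
  · exact ⟨1, fix_97⟩
  · exact ⟨1, fix_98⟩
  · exact ⟨1, fix_99⟩
  · exact ⟨1, fix_100⟩
  · exact ⟨1, fix_101⟩
  · exact ⟨0, fix_102⟩
  · exact ⟨0, fix_103⟩
  · exact ⟨0, fix_104⟩
  · exact ⟨0, fix_105⟩
  · exact ⟨0, fix_106⟩
  · exact ⟨0, fix_107⟩
  · exact ⟨0, fix_108⟩
  · exact ⟨0, fix_109⟩
  · exact ⟨0, fix_110⟩
  · exact ⟨0, fix_111⟩
  · exact ⟨0, fix_112⟩
  · exact ⟨0, fix_113⟩
  · exact ⟨0, fix_114⟩
  · exact ⟨0, fix_115⟩
  · exact ⟨0, fix_116⟩
  · exact ⟨0, fix_117⟩
  · exact ⟨0, fix_118⟩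
  · exact ⟨0, fix_119⟩
  · exact ⟨0, fix_120⟩
  · exact ⟨0, fix_121⟩
  · exact ⟨0, fix_122⟩
  · exact ⟨0, fix_123⟩
  · exact ⟨0, fix_124⟩
  · exact ⟨0, fix_125⟩
  · exact ⟨0, fix_126⟩
  · exact ⟨0, fix_127⟩
  · exact ⟨0, fix_128⟩
  · exact ⟨0, fix_129⟩
  · exact ⟨0, fix_130⟩
  · exact ⟨0, fix_131⟩
  · exact ⟨0, fix_132⟩
  · exact ⟨0, fix_133⟩
  · exact ⟨0, fix_134⟩
  · exact ⟨0, fix_135⟩
  · exact ⟨0, fix_136⟩
  · exact ⟨0, fix_137⟩
  · exact ⟨0, fix_138⟩
  · exact ⟨0, fix_139⟩
  · exact ⟨0, fix_140⟩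
  · exact ⟨0, fix_141⟩
  · exact ⟨0, fix_142⟩
  · exact ⟨0, fix_143⟩

theorem hpow : ∀ i, i < 5 → ∀ v, v < 139776 → actL mT (List.replicate (mml.getD i 0) (2 * i)) v = v := by
  intro i hi
  interval_cases i
  · exact fix_144
  · exact fix_145
  · exact fix_146
  · exact fix_147
  · exact fix_148

theorem hsh : ∀ v, v < 139776 → actL mT (List.replicate 2 (2 * 5)) v = v := fix_149

end Cfsg.Agent.Helper4.F42M
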