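import Mathlib
import Cfsg.Prelude.Def_KGroupFacts

/-!
# Central extensions with a kernel of odd exponent: lifting involutions

Let `σ : Γ →* G` be surjective with central kernel, all of whose elements are killed by an odd
number `t`.  Every `g : G` with `g ^ 2 = 1` has a unique lift `ℓ g` with `(ℓ g) ^ 2 = 1`; the lift is
compatible with conjugation, and multiplicative on commuting elements.  A homomorphic section of
`σ` forces the kernel of a stem extension to be trivial.
-/

set_option autoImplicit false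

namespace Cfsg.Agent.Helper4.F42Odd

universe u v

variable {Γ : Type u} {G : Type v} [Group Γ] [Group G] (σ : Γ →* G)

/-- the hypotheses: `σ` is onto, its kernel is central and killed by the odd number `2 * m + 1`. -/
structure OddCentral (m : ℕ) : Prop where
  surj : Function.Surjective σ
  cent : σ.ker ≤ Subgroup.center Γ
  pow : ∀ z ∈ σ.ker, z ^ (2 * m + 1) = 1

variable {σ} {m : ℕ} (H : OddCentral σ m)

include H in
theorem exists_lift (g : G) (hg : g ^ 2 = 1) : ∃ x : Γ, σ x = g ∧ x ^ 2 = 1 := by
  obtain ⟨x0, hx0⟩ := H.surj g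
  have hk : x0 ^ 2 ∈ σ.ker := by
    rw [MonoidHom.mem_ker, map_pow, hx0, hg]
  refine ⟨x0 * (x0 ^ 2) ^ m, ?_, ?_⟩
  · rw [map_mul, map_pow, MonoidHom.mem_ker.mp hk, one_pow, mul_one, hx0]
  · have h1 : (x0 * (x0 ^ 2) ^ m) ^ 2 = (x0 ^ 2) ^ (2 * m + 1) := by
      rw [← pow_mul, ← pow_succ', ← pow_mul, ← pow_mul]
      congr 1
      ring
    rw [h1]
    exact H.pow _ hk

include H in
theorem lift_unique (x y : Γ) (hxy : σ x = σ y) (hx : x ^ 2 = 1) (hy : y ^ 2 = 1) : x = y := by
  have hc : x⁻¹ * y ∈ σ.ker := by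
    rw [MonoidHom.mem_ker, map_mul, map_inv, hxy, inv_mul_cancel]
  have hcen := Subgroup.mem_center_iff.mp (H.cent hc)
  set c := x⁻¹ * y with hcdef
  have hy' : y = x * c := by rw [hcdef, mul_inv_cancel_left]
  have hc2 : c ^ 2 = 1 := by
    have h1 : y ^ 2 = x ^ 2 * c ^ 2 := by
      rw [hy', pow_two, pow_two, pow_two]
      calc x * c * (x * c) = x * (c * x) * c := by group
        _ = x * (x * c) * c := by rw [hcen x]
        _ = x * x * (c * c) := by group
    rw [hy, hx, one_mul] at h1
    exact h1.symm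
  have hc1 : c = 1 := by
    have h2 := H.pow c hc
    rw [pow_succ, pow_mul, hc2, one_pow, one_mul] at h2
    exact h2
  rw [hy', hc1, mul_one]

open Classical in
/-- the lift of square one (1 if `g ^ 2 ≠ 1`). -/
noncomputable def ell (g : G) : Γ :=
  if hg : g ^ 2 = 1 then Classical.choose (exists_lift H g hg) else 1

theorem ell_spec (g : G) (hg : g ^ 2 = 1) : σ (ell H g) = g ∧ ell H g ^ 2 = 1 := by
  unfold ell
  rw [dif_pos hg]
  exact Classical.choose_spec (exists_lift H g hg)

theorem ell_eq (g : G) (x : Γ) (hx : σ x = g) (hx2 : x ^ 2 = 1) : ell H g = x := by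
  have hg : g ^ 2 = 1 := by rw [← hx, ← map_pow, hx2, map_one]
  obtain ⟨h1, h2⟩ := ell_spec H g hg
  exact lift_unique H _ _ (h1.trans hx.symm) h2 hx2

theorem ell_one : ell H (1 : G) = 1 := ell_eq H 1 1 (map_one σ) (one_pow 2)

theorem ell_conj (γ : Γ) (g : G) (hg : g ^ 2 = 1) :
    γ * ell H g * γ⁻¹ = ell H (σ γ * g * (σ γ)⁻¹) := by
  obtain ⟨h1, h2⟩ := ell_spec H g hg
  symm
  apply ell_eq
  · rw [map_mul, map_mul, map_inv, h1]
  · rw [conj_pow, h2, mul_one, mul_inv_cancel]

theorem ell_mul (g h : G) (hg : g ^ 2 = 1) (hh : h ^ 2 = 1) (hc : g * h = h * g) :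
    ell H (g * h) = ell H g * ell H h ∧ (g * h) ^ 2 = 1 := by
  obtain ⟨g1, g2⟩ := ell_spec H g hg
  obtain ⟨h1, h2⟩ := ell_spec H h hh
  have hcomm : ell H g * ell H h = ell H h * ell H g := by
    have e := ell_conj H (ell H g) h hh
    rw [g1] at e
    have e2 : g * h * g⁻¹ = h := by rw [hc, mul_inv_cancel_right]
    rw [e2] at e
    calc ell H g * ell H h = ell H g * ell H h * (ell H g)⁻¹ * ell H g := by group
      _ = ell H h * ell H g := by rw [e]
  have hsq : (ell H g * ell H h) ^ 2 = 1 := by
    rw [pow_two]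
    calc ell H g * ell H h * (ell H g * ell H h)
        = ell H g * (ell H h * ell H g) * ell H h := by group
      _ = ell H g * (ell H g * ell H h) * ell H h := by rw [hcomm]
      _ = ell H g ^ 2 * ell H h ^ 2 := by rw [pow_two, pow_two]; group
      _ = 1 := by rw [g2, h2, one_mul]
  have hgh : (g * h) ^ 2 = 1 := by
    rw [pow_two]
    calc g * h * (g * h) = g * (h * g) * h := by group
      _ = g * (g * h) * h := by rw [hc]
      _ = g ^ 2 * h ^ 2 := by rw [pow_two, pow_two]; group
      _ = 1 := by rw [hg, hh, one_mul]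
  exact ⟨ell_eq H _ _ (by rw [map_mul, g1, h1]) hsq, hgh⟩

/-- lifts of a list of pairwise commuting elements of square one. -/
theorem ell_list_prod : ∀ L : List G, (∀ g ∈ L, g ^ 2 = 1) →
    (∀ g ∈ L, ∀ h ∈ L, g * h = h * g) →
    ell H L.prod = (L.map (ell H)).prod ∧ L.prod ^ 2 = 1
  | [], _, _ => by
    simp only [List.prod_nil, List.map_nil, one_pow, and_true]
    exact ell_one H
  | g :: L, h2, hc => by
    have ih := ell_list_prod L (fun x hx => h2 x (List.mem_cons_of_mem _ hx))
      (fun x hx y hy => hc x (List.mem_cons_of_mem _ hx) y (List.mem_cons_of_mem _ hy))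
    have hgL : g * L.prod = L.prod * g := by
      have : ∀ M : List G, (∀ x ∈ M, g * x = x * g) → g * M.prod = M.prod * g := by
        intro M
        induction M with
        | nil => intro _; simp
        | cons x M ihM =>
          intro hM
          rw [List.prod_cons, ← mul_assoc, hM x List.mem_cons_self, mul_assoc,
            ihM (fun y hy => hM y (List.mem_cons_of_mem _ hy)), mul_assoc]
      exact this L (fun x hx => hc g List.mem_cons_self x (List.mem_cons_of_mem _ hx))
    have hm := ell_mul H g L.prod (h2 g List.mem_cons_self) ih.2 hgL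
    rw [List.prod_cons, List.map_cons, List.prod_cons, hm.1, ih.1]
    exact ⟨rfl, hm.2⟩

end Cfsg.Agent.Helper4.F42Odd
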