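import Mathlib
import Cfsg.Prelude.Def_SteinbergCover
import Cfsg.Agent.Helper4.F42OddA

/-!
# Root elements of the presented group of a Chevalley datum in characteristic 2

In the group presented by Steinberg's relators (R1), (R2) over a field of characteristic 2 the
generators have square one; two of them commute as soon as all the integers of the commutator
formula for their roots are even.
-/

set_option autoImplicit false

namespace Cfsg.Agent.Helper4.F42Odd

open Cfsg Cfsg.Lie

variable (D : ChevalleyDatum) {F : Type*} [Field F] [CharP F 2]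

/-- the generator of the presented group. -/
def scX (k : ℕ) (v : F) : D.SteinbergCover F := PresentedGroup.mk (D.steinbergRelsAB F) (D.stX k v)

omit [CharP F 2] in
theorem scX_of_not_lt {r : ℕ} (hr : ¬ r < D.nroots) (t : F) : scX D r t = 1 := by
  unfold scX ChevalleyDatum.stX
  rw [dif_neg hr, map_one]

omit [CharP F 2] in
theorem scX_add {r : ℕ} (hr : r < D.nroots) (t₁ t₂ : F) :
    scX D r t₁ * scX D r t₂ = scX D r (t₁ + t₂) := by
  have hmem : D.stX r t₁ * D.stX r t₂ * (D.stX r (t₁ + t₂))⁻¹ ∈ D.steinbergRelsAB F :=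
    Or.inl ⟨r, t₁, t₂, hr, rfl⟩
  have h := (PresentedGroup.one_of_mem hmem)
  unfold scX
  rw [← map_mul]
  have h2 : (PresentedGroup.mk (D.steinbergRelsAB F))
      (D.stX r t₁ * D.stX r t₂ * (D.stX r (t₁ + t₂))⁻¹) = 1 := h
  rw [map_mul, map_inv, mul_inv_eq_one] at h2
  exact h2

omit [CharP F 2] in
theorem scX_zero (r : ℕ) : scX D r (0 : F) = 1 := by
  by_cases hr : r < D.nroots
  · have h := scX_add D hr (0 : F) 0
    rw [add_zero] at h
    exact mul_eq_left.mp h |> fun h' => h'
  · exact scX_of_not_lt D hr 0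

theorem two_eq_zero' : (2 : F) = 0 := CharP.cast_eq_zero F 2

theorem scX_sq (r : ℕ) (t : F) : scX D r t ^ 2 = 1 := by
  by_cases hr : r < D.nroots
  · rw [pow_two, scX_add D hr, ← two_mul, two_eq_zero', zero_mul, scX_zero]
  · rw [scX_of_not_lt D hr, one_pow]

omit [CharP F 2] in
theorem scX_comm_same (r : ℕ) (t₁ t₂ : F) : scX D r t₁ * scX D r t₂ = scX D r t₂ * scX D r t₁ := by
  by_cases hr : r < D.nroots
  · rw [scX_add D hr, scX_add D hr, add_comm]
  · rw [scX_of_not_lt D hr, scX_of_not_lt D hr]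

omit [CharP F 2] in
/-- the image of a word. -/
theorem mk_stWord (w : List (ℕ × F)) :
    PresentedGroup.mk (D.steinbergRelsAB F) (D.stWord w) = (w.map fun p => scX D p.1 p.2).prod := by
  unfold ChevalleyDatum.stWord
  rw [map_list_prod, List.map_map]
  rfl

omit [CharP F 2] in
theorem scX_comm_rel {r s : ℕ} (hr : r < D.nroots) (hs : s < D.nroots) (h1 : s ≠ r)
    (h2 : s ≠ D.neg r) (t u : F) :
    (scX D s u)⁻¹ * (scX D r t)⁻¹ * scX D s u * scX D r t =
      ((D.commWord F r s t u).map fun p => scX D p.1 p.2).prod := by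
  have hmem : (D.stX s u)⁻¹ * (D.stX r t)⁻¹ * D.stX s u * D.stX r t *
      (D.stWord (D.commWord F r s t u))⁻¹ ∈ D.steinbergRelsAB F :=
    Or.inr ⟨r, s, t, u, hr, hs, h1, h2, rfl⟩
  have h := PresentedGroup.one_of_mem hmem
  have h3 : (PresentedGroup.mk (D.steinbergRelsAB F))
      ((D.stX s u)⁻¹ * (D.stX r t)⁻¹ * D.stX s u * D.stX r t *
        (D.stWord (D.commWord F r s t u))⁻¹) = 1 := h
  rw [map_mul, map_inv, mul_inv_eq_one, mk_stWord] at h3
  rw [← h3]
  simp only [map_mul, map_inv]
  rfl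

theorem int_cast_even (c : ℤ) (hc : c % 2 = 0) : ((c : ℤ) : F) = 0 := by
  obtain ⟨k, hk⟩ := Int.dvd_of_emod_eq_zero hc
  rw [hk, Int.cast_mul, Int.cast_ofNat, two_eq_zero', zero_mul]

/-- if all the integers of the commutator formula are even, the root elements commute. -/
theorem scX_comm_of_even {r s : ℕ} (hr : r < D.nroots) (hs : s < D.nroots) (h1 : s ≠ r)
    (h2 : s ≠ D.neg r) (hev : ∀ c ∈ D.commTerms r s, c.2.1 % 2 = 0) (t u : F) :
    scX D r t * scX D s u = scX D s u * scX D r t := by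
  have h := scX_comm_rel D hr hs h1 h2 t u
  have hone : ((D.commWord F r s t u).map fun p => scX D p.1 p.2).prod = 1 := by
    apply List.prod_eq_one
    intro x hx
    obtain ⟨p, hp, rfl⟩ := List.mem_map.mp hx
    unfold ChevalleyDatum.commWord at hp
    obtain ⟨c, hc, rfl⟩ := List.mem_map.mp hp
    show scX D c.1 (((c.2.1 : ℤ) : F) * (-t) ^ c.2.2.1 * u ^ c.2.2.2) = 1
    rw [int_cast_even c.2.1 (hev c hc), zero_mul, zero_mul, scX_zero]
  rw [hone] at h
  -- s⁻¹ r⁻¹ s r = 1
  have h4 : scX D s u * scX D r t = scX D r t * scX D s u := by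
    have : (scX D s u)⁻¹ * (scX D r t)⁻¹ * scX D s u * scX D r t = 1 := h
    calc scX D s u * scX D r t
        = scX D r t * scX D s u * ((scX D s u)⁻¹ * (scX D r t)⁻¹ * scX D s u * scX D r t) := by
          group
      _ = scX D r t * scX D s u := by rw [this, mul_one]
  exact h4.symm

end Cfsg.Agent.Helper4.F42Odd
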