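import Mathlib
import Cfsg.Agent.Helper4.F42OddB
import Cfsg.Agent.Helper4.KillLemma

/-!
# A section over the presented group in characteristic 2

Let `θ` map the group presented by Steinberg's relators (R1), (R2) over a field of characteristic 2
isomorphically onto `G`, and let `σ : Γ →* G` be a stem extension whose kernel is killed by an odd
number.  If, for every pair of roots `r, s`, the root `s` and the roots of the odd terms of the
commutator formula for `(r, s)` pairwise have commutator formulas with even integers only, the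
lifts of square one of the root elements satisfy the relators: `σ` has a section, and its kernel is
trivial.
-/

set_option autoImplicit false

namespace Cfsg.Agent.Helper4.F42Odd

open Cfsg Cfsg.Lie
open scoped commutatorElement

universe u v

/-- the root `s` and the roots of the odd terms of the commutator formula for `(r, s)`. -/
def oddRoots (D : ChevalleyDatum) (r s : ℕ) : List ℕ :=
  s :: ((D.commTerms r s).filter fun c => decide (c.2.1 % 2 ≠ 0)).map fun c => c.1

/-- the condition on a pair of roots, as a boolean. -/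
def pairOKb (D : ChevalleyDatum) (k₁ k₂ : ℕ) : Bool :=
  Nat.beq k₁ k₂ || (Nat.blt k₁ D.nroots && Nat.blt k₂ D.nroots && !(Nat.beq k₂ k₁) &&
    !(Nat.beq k₂ (D.neg k₁)) && (D.commTerms k₁ k₂).all fun c => decide (c.2.1 % 2 = 0))

/-- the combinatorial condition on the datum, as a boolean. -/
def commOKb (D : ChevalleyDatum) : Bool :=
  (List.range D.nroots).all fun r => (List.range D.nroots).all fun s =>
    Nat.beq s r || Nat.beq s (D.neg r) ||
      (oddRoots D r s).all fun k₁ => (oddRoots D r s).all fun k₂ => pairOKb D k₁ k₂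

/-- the combinatorial condition on the datum. -/
def CommOK (D : ChevalleyDatum) : Prop := commOKb D = true

theorem CommOK.spec {D : ChevalleyDatum} (h : CommOK D) :
    ∀ r, r < D.nroots → ∀ s, s < D.nroots → s ≠ r → s ≠ D.neg r →
    ∀ k₁ ∈ oddRoots D r s, ∀ k₂ ∈ oddRoots D r s, k₁ = k₂ ∨
      (k₁ < D.nroots ∧ k₂ < D.nroots ∧ k₂ ≠ k₁ ∧ k₂ ≠ D.neg k₁ ∧
        ∀ c ∈ D.commTerms k₁ k₂, c.2.1 % 2 = 0) := by
  intro r hr s hs h1 h2 k₁ hk₁ k₂ hk₂
  unfold CommOK commOKb at h
  have h3 := List.all_eq_true.mp h r (List.mem_range.mpr hr)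
  have h4 := List.all_eq_true.mp h3 s (List.mem_range.mpr hs)
  rw [Bool.or_eq_true, Bool.or_eq_true] at h4
  rcases h4 with (h4 | h4) | h4
  · exact absurd (Nat.eq_of_beq_eq_true h4) h1
  · exact absurd (Nat.eq_of_beq_eq_true h4) h2
  · have h5 := List.all_eq_true.mp h4 k₁ hk₁
    have h6 := List.all_eq_true.mp h5 k₂ hk₂
    unfold pairOKb at h6
    rw [Bool.or_eq_true] at h6
    rcases h6 with h6 | h6
    · exact Or.inl (Nat.eq_of_beq_eq_true h6)
    · right
      simp only [Bool.and_eq_true, Bool.not_eq_true', Nat.blt_eq, List.all_eq_true,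
        decide_eq_true_eq] at h6
      obtain ⟨⟨⟨⟨a1, a2⟩, a3⟩, a4⟩, a5⟩ := h6
      refine ⟨a1, a2, ?_, ?_, a5⟩
      · intro hh
        rw [hh] at a3
        simp at a3
      · intro hh
        rw [← hh] at a4
        simp at a4

variable (D : ChevalleyDatum) {F : Type*} [Field F] [CharP F 2] {G : Type v} [Group G]
  {Γ : Type u} [Group Γ] (θ : D.SteinbergCover F →* G) {σ : Γ →* G} {m : ℕ}
  (H : OddCentral σ m)

/-- the root elements in `G`. -/
def gX (k : ℕ) (v : F) : G := θ (scX D k v)

theorem gX_sq (k : ℕ) (v : F) : gX D θ k v ^ 2 = 1 := by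
  rw [gX, ← map_pow, scX_sq, map_one]

theorem gX_zero (k : ℕ) : gX D θ k (0 : F) = 1 := by
  rw [gX, scX_zero, map_one]

/-- two root elements with non-zero arguments among the odd roots commute. -/
theorem gX_comm (hD : CommOK D) {r s : ℕ} (hr : r < D.nroots) (hs : s < D.nroots) (h1 : s ≠ r)
    (h2 : s ≠ D.neg r) (k₁ k₂ : ℕ) (v₁ v₂ : F)
    (hk₁ : v₁ = 0 ∨ k₁ ∈ oddRoots D r s) (hk₂ : v₂ = 0 ∨ k₂ ∈ oddRoots D r s) :
    gX D θ k₁ v₁ * gX D θ k₂ v₂ = gX D θ k₂ v₂ * gX D θ k₁ v₁ := by
  rcases hk₁ with rfl | hk₁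
  · rw [gX_zero, one_mul, mul_one]
  rcases hk₂ with rfl | hk₂
  · rw [gX_zero, one_mul, mul_one]
  rcases hD.spec r hr s hs h1 h2 k₁ hk₁ k₂ hk₂ with rfl | ⟨a1, a2, a3, a4, a5⟩
  · unfold gX
    rw [← map_mul, ← map_mul, scX_comm_same]
  · unfold gX
    rw [← map_mul, ← map_mul, scX_comm_of_even D a1 a2 a3 a4 a5]

/-- the images of the generators: the lifts of square one. -/
noncomputable def liftFun : Fin D.nroots × F → Γ := fun p => ell H (gX D θ p.1.val p.2)

theorem lift_stX (k : ℕ) (v : F) :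
    FreeGroup.lift (liftFun D θ H) (D.stX k v) = ell H (gX D θ k v) := by
  by_cases hk : k < D.nroots
  · unfold ChevalleyDatum.stX
    rw [dif_pos hk, FreeGroup.lift_apply_of]
    rfl
  · unfold ChevalleyDatum.stX
    rw [dif_neg hk, map_one]
    unfold gX
    rw [scX_of_not_lt D hk, map_one, ell_one]

theorem lift_stWord (w : List (ℕ × F)) :
    FreeGroup.lift (liftFun D θ H) (D.stWord w) =
      ((w.map fun p => gX D θ p.1 p.2).map (ell H)).prod := by
  unfold ChevalleyDatum.stWord
  rw [map_list_prod, List.map_map, List.map_map]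
  congr 1
  apply List.map_congr_left
  intro p _
  exact lift_stX D θ H p.1 p.2

theorem mem_oddRoots_of_ne_zero {r s : ℕ} {t u : F} {p : ℕ × F} (hp : p ∈ D.commWord F r s t u) :
    p.2 = 0 ∨ p.1 ∈ oddRoots D r s := by
  unfold ChevalleyDatum.commWord at hp
  obtain ⟨c, hc, rfl⟩ := List.mem_map.mp hp
  by_cases hev : c.2.1 % 2 = 0
  · left
    show ((c.2.1 : ℤ) : F) * (-t) ^ c.2.2.1 * u ^ c.2.2.2 = 0
    rw [int_cast_even c.2.1 hev, zero_mul, zero_mul]
  · right
    unfold oddRoots
    apply List.mem_cons_of_mem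
    exact List.mem_map.mpr ⟨c, List.mem_filter.mpr ⟨hc, by simpa using hev⟩, rfl⟩

theorem lift_rels (hD : CommOK D) :
    ∀ rel ∈ D.steinbergRelsAB F, FreeGroup.lift (liftFun D θ H) rel = 1 := by
  rintro rel (⟨r, t₁, t₂, hr, rfl⟩ | ⟨r, s, t, u, hr, hs, h1, h2, rfl⟩)
  · rw [map_mul, map_mul, map_inv, lift_stX, lift_stX, lift_stX, mul_inv_eq_one]
    have hc : gX D θ r t₁ * gX D θ r t₂ = gX D θ r t₂ * gX D θ r t₁ := by
      unfold gX
      rw [← map_mul, ← map_mul, scX_comm_same]
    have hm := ell_mul H _ _ (gX_sq D θ r t₁) (gX_sq D θ r t₂) hc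
    rw [← hm.1]
    unfold gX
    rw [← map_mul, scX_add D hr]
  · rw [map_mul, map_mul, map_mul, map_mul, map_inv, map_inv, map_inv, lift_stX, lift_stX,
      lift_stWord]
    set gs := gX D θ s u with hgs
    set gr := gX D θ r t with hgr
    set LW := (D.commWord F r s t u).map fun p => gX D θ p.1 p.2 with hLW
    -- the relation in `G`
    have hrel : gs⁻¹ * gr⁻¹ * gs * gr = LW.prod := by
      have h := congrArg θ (scX_comm_rel D hr hs h1 h2 t u)
      rw [map_mul, map_mul, map_mul, map_inv, map_inv, map_list_prod, List.map_map] at h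
      exact h
    have hconj : gr⁻¹ * gs * gr = gs * LW.prod := by
      rw [← hrel]
      group
    obtain ⟨r1, r2⟩ := ell_spec H gr (gX_sq D θ r t)
    -- conjugation
    have hA : (ell H gr)⁻¹ * ell H gs * ell H gr = ell H (gs * LW.prod) := by
      have e := ell_conj H (ell H gr)⁻¹ gs (gX_sq D θ s u)
      rw [map_inv, r1, inv_inv, inv_inv] at e
      rw [e, hconj]
    -- the product of commuting elements
    have hB := ell_list_prod H (gs :: LW)
      (by
        intro x hx
        rcases List.mem_cons.mp hx with rfl | hx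
        · exact gX_sq D θ s u
        · obtain ⟨p, _, rfl⟩ := List.mem_map.mp hx
          exact gX_sq D θ p.1 p.2)
      (by
        have hmem : ∀ x ∈ gs :: LW, ∃ (k : ℕ) (v : F), x = gX D θ k v ∧
            (v = 0 ∨ k ∈ oddRoots D r s) := by
          intro x hx
          rcases List.mem_cons.mp hx with rfl | hx
          · exact ⟨s, u, rfl, Or.inr List.mem_cons_self⟩
          · obtain ⟨p, hp, rfl⟩ := List.mem_map.mp hx
            exact ⟨p.1, p.2, rfl, mem_oddRoots_of_ne_zero D hp⟩
        intro x hx y hy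
        obtain ⟨k₁, v₁, rfl, c1⟩ := hmem x hx
        obtain ⟨k₂, v₂, rfl, c2⟩ := hmem y hy
        exact gX_comm D θ hD hr hs h1 h2 k₁ k₂ v₁ v₂ c1 c2)
    rw [List.prod_cons, List.map_cons, List.prod_cons] at hB
    calc (ell H gs)⁻¹ * (ell H gr)⁻¹ * ell H gs * ell H gr * ((LW.map (ell H)).prod)⁻¹
        = (ell H gs)⁻¹ * ((ell H gr)⁻¹ * ell H gs * ell H gr) * ((LW.map (ell H)).prod)⁻¹ := by
          group
      _ = 1 := by
          rw [hA, hB.1]
          group

/-- the homomorphism from the presented group. -/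
noncomputable def psi (hD : CommOK D) : D.SteinbergCover F →* Γ :=
  PresentedGroup.toGroup (lift_rels D θ H hD)

theorem sigma_psi (hD : CommOK D) : σ.comp (psi D θ H hD) = θ := by
  apply PresentedGroup.ext
  intro p
  rw [MonoidHom.comp_apply]
  unfold psi
  rw [PresentedGroup.toGroup.of]
  show σ (ell H (gX D θ p.1.val p.2)) = _
  rw [(ell_spec H _ (gX_sq D θ p.1.val p.2)).1]
  unfold gX scX ChevalleyDatum.stX
  rw [dif_pos p.1.isLt]
  rfl

include H in
/-- **the kernel is trivial.** -/
theorem ker_eq_bot (hD : CommOK D) (hθ : Function.Bijective θ) (hstem : σ.ker ≤ commutator Γ) :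
    σ.ker = ⊥ := by
  let e : D.SteinbergCover F ≃* G := MulEquiv.ofBijective θ hθ
  let s : G →* Γ := (psi D θ H hD).comp e.symm.toMonoidHom
  have hs : ∀ g, σ (s g) = g := by
    intro g
    have h := congrArg (fun f => f (e.symm g)) (sigma_psi D θ H hD)
    simp only [MonoidHom.comp_apply] at h
    have h2 : θ (e.symm g) = g := e.apply_symm_apply g
    rw [h2] at h
    exact h
  have hcen : ∀ a : Γ, a * (s (σ a))⁻¹ ∈ Subgroup.center Γ := by
    intro a
    apply H.cent
    rw [MonoidHom.mem_ker, map_mul, map_inv, hs, mul_inv_cancel]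
  have hcomm : commutator Γ ≤ s.range := by
    rw [commutator_eq_closure, Subgroup.closure_le]
    rintro x ⟨a, b, rfl⟩
    have ea : a = (a * (s (σ a))⁻¹) * s (σ a) := by group
    have eb : b = (b * (s (σ b))⁻¹) * s (σ b) := by group
    have h1 : ⁅a, b⁆ = ⁅s (σ a), s (σ b)⁆ := by
      conv_lhs => rw [ea, eb]
      rw [KillLemma.comm_central_left _ _ _ (hcen a), KillLemma.comm_central_right _ _ _ (hcen b)]
    rw [h1, ← map_commutatorElement]
    exact ⟨_, rfl⟩
  rw [eq_bot_iff]
  intro z hz
  obtain ⟨g, rfl⟩ := hcomm (hstem hz)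
  have hg : g = 1 := by
    have := MonoidHom.mem_ker.mp hz
    rwa [hs] at this
  rw [hg, map_one]
  exact Subgroup.mem_bot.mpr rfl

end Cfsg.Agent.Helper4.F42Odd
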