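import Mathlib
import Cfsg.Prelude.Def_ChevF4
import Cfsg.Agent.Helper4.F42OddC

/-!
# The combinatorial condition for the datum of type `F₄`
-/

set_option autoImplicit false

namespace Cfsg.Agent.Helper4.F42Odd

set_option maxRecDepth 1000000 in
theorem commOK_F4 : CommOK Cfsg.Lie.chevF4 := by
  unfold CommOK
  decide +kernel

end Cfsg.Agent.Helper4.F42Odd
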