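import Mathlib
import Cfsg.Prelude.Def_ChevF4
import Cfsg.Agent.Helper4.F42OddD
import Cfsg.Agent.S2103

/-!
# Stem extensions of `F₄` in characteristic 2 with a kernel of odd exponent

A stem extension of the Chevalley group of type `F₄` over a finite field of characteristic 2 whose
kernel is killed by an odd number is an isomorphism: the group is presented by Steinberg's
relators (`Cfsg.Agent.S2103.exists_iso`), and the relators lift.
-/

set_option autoImplicit false

namespace Cfsg.Agent.Helper4.F42Odd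

open Cfsg Cfsg.Lie

universe u

theorem ker_eq_bot_F4 {F : Type*} [Field F] [Fintype F] [CharP F 2] {Γ : Type u} [Group Γ]
    (σ : Γ →* ↥(chevF4.group F)) (hσ : Cfsg.IsStemExtension σ) (m : ℕ)
    (hpow : ∀ z ∈ σ.ker, z ^ (2 * m + 1) = 1) : σ.ker = ⊥ := by
  obtain ⟨θ, hs, hi⟩ := Cfsg.Agent.S2103.exists_iso (F := F)
  exact ker_eq_bot chevF4 θ ⟨hσ.1, hσ.2.1, hpow⟩ commOK_F4 ⟨hi, hs⟩ hσ.2.2

end Cfsg.Agent.Helper4.F42Odd
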