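import Mathlib
import Cfsg.Agent.Helper5.StemPB

/-!
# generated: the central words of a tower of covering presentations for `F₄(2)`

Letters `2 i`, `2 i + 1`: the generator number `i` and its inverse; the generators `a, b, c, d, e` have
the orders 17, 3, 3, 5, 3, and `⟨a⟩ < ⟨a, b⟩ ≅ L₂(16) < ⟨a, b, c⟩ ≅ Sp₄(4) < ⟨a, b, c, d⟩ ≅ Sp₈(2) < F₄(2)`.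
The central words of the last step: labelled ones (`EX5`) and exact ones (`XX5`), of the form
`(X G X⁻¹) (Y H Y⁻¹)⁻¹` with powers `G`, `H` of generators.
-/

set_option autoImplicit false

namespace Cfsg.Agent.Helper4.F42

open Cfsg.Agent.Helper5.StemP

/-- the orders of the generators. -/
def mF (i : ℕ) : ℕ := if i = 0 then 17 else if i = 3 then 5 else 3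

/-- no central words for the cyclic group `⟨a⟩`. -/
def CL1 : List (List ℕ) := []

/-- the central words of `⟨a, b⟩` over `⟨a⟩`. -/
def EX2 : List (List ℕ) := [[0, 2, 0, 2],
  [0, 0, 0, 0, 0, 0, 0, 2, 0, 0, 0, 3, 0, 0, 0, 0, 0, 0, 0, 2, 0, 0, 0, 3]]

/-- the central words of `⟨a, b⟩`. -/
def CL2 : List (List ℕ) := EX2 ++ CL1

/-- the central words of `⟨a, b, c⟩` over `⟨a, b⟩`. -/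
def EX3 : List (List ℕ) := [[0, 0, 2, 4, 0, 5, 2, 1, 4, 0, 0, 5, 0, 3, 4],
  [0, 0, 2, 5, 2, 1, 1, 4, 1, 1, 2, 4, 0, 0, 5],
  [0, 0, 2, 4, 1, 2, 1, 5, 2, 1, 1, 4, 1, 1, 5, 3],
  [0, 2, 1, 4, 1, 4, 0, 5, 0, 4, 1, 4, 1, 5, 0, 5],
  [0, 0, 3, 0, 3, 5, 0, 4, 1, 5, 0, 5, 0, 0, 5, 1, 4, 3],
  [2, 4, 2, 4]]

/-- the central words of `⟨a, b, c⟩`. -/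
def CL3 : List (List ℕ) := EX3 ++ CL2

/-- the central words of `⟨a, b, c, d⟩` over `⟨a, b, c⟩`. -/
def EX4 : List (List ℕ) := [[4, 6, 4, 6],
  [0, 0, 3, 4, 0, 4, 1, 6, 3, 4, 1, 7, 0, 2, 5],
  [0, 0, 3, 1, 5, 1, 4, 7, 2, 1, 2, 6, 4, 1, 2, 0, 4],
  [0, 0, 3, 7, 2, 1, 4, 0, 0, 5, 1, 1, 5, 0, 3, 6, 3]]

/-- the central words of `⟨a, b, c, d⟩`. -/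
def CL4 : List (List ℕ) := EX4 ++ CL3

/-- the labelled central words of the last step. -/
def EX5 : List (List ℕ) := [[0, 3, 7, 7, 8, 6, 0, 5, 1, 4, 7, 4, 7, 1, 7, 3, 0, 3, 8],
  [0, 3, 7, 7, 8, 6, 0, 5, 1, 5, 6, 6, 4, 1, 7, 3, 0, 3, 8],
  [0, 2, 4, 9, 0, 6, 5, 0, 6, 9, 6, 4, 3, 7, 7, 2, 6, 6, 5, 6],
  [0, 2, 9, 0, 3, 6, 3, 9, 7, 4, 0, 7, 4, 7, 4, 0, 7, 3, 7, 7],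
  [0, 2, 9, 0, 3, 6, 3, 9, 7, 4, 0, 7, 5, 6, 5, 0, 7, 3, 7, 7],
  [0, 3, 0, 8, 3, 7, 0, 6, 6, 2, 8, 2, 1, 6, 4, 0, 6, 1, 6, 3],
  [0, 0, 0, 5, 6, 1, 9, 4, 6, 2, 1, 7, 9, 7, 0, 0, 5, 1, 7, 1, 6],
  [0, 0, 0, 7, 1, 7, 3, 7, 7, 0, 8, 1, 6, 0, 5, 8, 6, 3, 7, 7, 4],
  [0, 0, 6, 0, 7, 4, 2, 6, 1, 1, 3, 4, 1, 5, 8, 6, 0, 0, 7, 5, 8],
  [0, 0, 6, 0, 8, 0, 6, 0, 6, 6, 3, 6, 5, 1, 6, 0, 5, 2, 6, 8, 7],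
  [0, 0, 6, 1, 4, 6, 2, 6, 8, 4, 1, 7, 0, 8, 4, 0, 7, 7, 2, 7, 4],
  [0, 0, 6, 4, 0, 2, 6, 5, 1, 4, 7, 1, 5, 9, 4, 1, 7, 0, 9, 1, 2],
  [0, 0, 7, 1, 2, 7, 9, 4, 7, 0, 6, 3, 9, 7, 3, 7, 5, 1, 6, 1, 5],
  [0, 0, 7, 5, 8, 2, 6, 6, 0, 7, 1, 3, 7, 1, 5, 6, 5, 6, 1, 8, 6],
  [0, 2, 2, 6, 3, 9, 7, 4, 0, 7, 4, 7, 4, 0, 7, 3, 7, 7, 0, 2, 9],
  [0, 2, 2, 6, 3, 9, 7, 4, 0, 7, 5, 6, 5, 0, 7, 3, 7, 7, 0, 2, 9],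
  [0, 2, 4, 9, 0, 6, 4, 4, 0, 6, 9, 6, 4, 3, 7, 7, 2, 6, 6, 5, 6],
  [0, 2, 6, 6, 5, 0, 7, 3, 7, 9, 7, 2, 5, 0, 7, 1, 9, 2, 6, 3, 6],
  [0, 2, 7, 7, 0, 6, 8, 1, 6, 4, 3, 0, 5, 6, 6, 1, 5, 2, 7, 1, 8],
  [0, 2, 8, 0, 3, 6, 3, 8, 0, 7, 7, 3, 7, 7, 1, 4, 7, 1, 7, 0, 6],
  [0, 3, 4, 6, 4, 7, 8, 6, 0, 5, 1, 5, 6, 6, 4, 1, 7, 3, 0, 3, 8],
  [0, 3, 6, 3, 8, 1, 7, 1, 7, 1, 7, 7, 4, 1, 7, 3, 0, 4, 7, 2, 8],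
  [0, 3, 7, 1, 7, 1, 4, 6, 6, 3, 4, 1, 4, 9, 3, 7, 1, 7, 1, 6, 9],
  [0, 0, 0, 0, 7, 0, 9, 6, 0, 0, 7, 3, 1, 6, 1, 3, 5, 1, 6, 2, 6, 9],
  [0, 0, 0, 3, 7, 0, 3, 0, 7, 4, 3, 8, 1, 7, 1, 1, 6, 8, 3, 1, 5, 6],
  [0, 0, 0, 3, 7, 2, 1, 1, 3, 7, 3, 5, 7, 8, 3, 0, 6, 1, 6, 0, 8, 6],
  [0, 0, 0, 5, 1, 2, 7, 4, 1, 4, 8, 3, 7, 0, 4, 1, 7, 8, 1, 4, 3, 6],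
  [0, 0, 0, 8, 2, 1, 2, 0, 6, 1, 1, 6, 3, 7, 0, 5, 1, 2, 8, 0, 6, 6],
  [0, 0, 3, 0, 4, 7, 3, 6, 6, 8, 4, 1, 6, 1, 7, 8, 0, 6, 0, 3, 6, 3],
  [0, 0, 3, 0, 6, 3, 0, 7, 1, 9, 6, 1, 7, 3, 7, 2, 9, 3, 6, 1, 6, 5],
  [0, 0, 3, 4, 1, 6, 6, 8, 4, 1, 6, 1, 7, 8, 0, 6, 2, 6, 2, 1, 7, 4],
  [0, 0, 4, 0, 6, 2, 6, 3, 7, 0, 9, 1, 1, 6, 1, 1, 2, 9, 4, 3, 1, 7],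
  [0, 0, 4, 0, 8, 7, 1, 7, 3, 6, 1, 8, 2, 7, 7, 3, 6, 1, 2, 7, 2, 7],
  [0, 0, 4, 6, 2, 6, 5, 0, 6, 9, 6, 0, 0, 7, 5, 9, 1, 5, 1, 4, 2, 6],
  [0, 0, 5, 6, 3, 6, 1, 9, 5, 6, 6, 5, 3, 0, 9, 6, 0, 3, 0, 6, 4, 3],
  [0, 0, 6, 0, 9, 1, 1, 6, 1, 4, 3, 1, 6, 3, 0, 6, 3, 7, 2, 7, 9, 7],
  [0, 0, 6, 1, 5, 0, 7, 0, 7, 2, 6, 3, 8, 2, 4, 0, 7, 1, 1, 8, 1, 5],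
  [0, 0, 6, 5, 2, 1, 6, 9, 0, 4, 6, 6, 0, 6, 9, 1, 6, 1, 6, 6, 1, 6],
  [0, 0, 6, 5, 2, 1, 6, 9, 0, 7, 5, 6, 0, 6, 9, 1, 6, 1, 6, 6, 1, 6],
  [0, 0, 7, 3, 5, 0, 5, 8, 2, 7, 4, 2, 5, 1, 8, 6, 0, 7, 0, 7, 1, 6],
  [0, 0, 7, 7, 2, 8, 2, 4, 7, 1, 2, 6, 8, 7, 1, 7, 3, 7, 5, 1, 7, 4],
  [0, 0, 9, 5, 6, 0, 6, 4, 1, 6, 6, 0, 4, 7, 0, 7, 0, 9, 4, 7, 7, 2],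
  [0, 2, 4, 8, 0, 7, 0, 3, 7, 1, 8, 3, 0, 7, 2, 7, 2, 5, 0, 7, 1, 4],
  [0, 2, 6, 3, 9, 7, 1, 5, 6, 3, 1, 9, 0, 6, 3, 1, 6, 2, 6, 1, 4, 7],
  [0, 2, 6, 6, 1, 6, 8, 4, 6, 2, 1, 7, 8, 2, 6, 5, 3, 0, 6, 0, 7, 4],
  [0, 2, 9, 0, 4, 2, 7, 5, 3, 9, 7, 4, 0, 7, 5, 6, 5, 0, 7, 3, 7, 7],
  [0, 3, 6, 1, 2, 7, 0, 7, 4, 0, 3, 6, 6, 3, 8, 3, 7, 1, 7, 1, 6, 8],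
  [0, 3, 6, 2, 6, 5, 1, 7, 2, 9, 3, 7, 3, 7, 7, 5, 9, 3, 7, 7, 0, 6],
  [0, 3, 6, 5, 0, 6, 0, 6, 2, 1, 8, 1, 7, 0, 7, 1, 2, 8, 2, 6, 2, 6],
  [0, 5, 2, 6, 5, 0, 7, 4, 9, 7, 1, 4, 7, 1, 9, 5, 3, 7, 7, 3, 0, 6],
  [0, 5, 6, 2, 6, 6, 0, 7, 0, 7, 1, 5, 9, 7, 1, 4, 7, 1, 9, 7, 5, 3],
  [0, 7, 2, 9, 1, 2, 4, 7, 7, 4, 9, 5, 2, 6, 2, 7, 4, 7, 4, 3, 7, 7],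
  [0, 7, 2, 9, 1, 5, 3, 7, 7, 4, 9, 5, 2, 6, 2, 7, 4, 7, 4, 3, 7, 7],
  [0, 0, 0, 6, 5, 0, 3, 8, 1, 6, 2, 5, 0, 0, 8, 2, 7, 2, 1, 1, 6, 4, 3],
  [0, 0, 0, 9, 3, 6, 3, 0, 6, 6, 5, 1, 3, 0, 6, 2, 7, 0, 7, 9, 0, 6, 6],
  [0, 0, 0, 9, 6, 1, 6, 0, 5, 3, 0, 6, 6, 0, 6, 0, 4, 6, 1, 9, 0, 7, 4],
  [0, 0, 2, 5, 7, 0, 9, 0, 6, 1, 4, 3, 6, 9, 5, 3, 7, 3, 6, 6, 2, 7, 7],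
  [0, 0, 3, 0, 0, 6, 3, 6, 0, 8, 0, 0, 7, 4, 3, 0, 8, 7, 7, 2, 7, 1, 6],
  [0, 0, 3, 1, 6, 6, 2, 7, 7, 3, 8, 7, 0, 6, 6, 2, 6, 8, 5, 2, 7, 3, 7],
  [0, 0, 5, 0, 0, 6, 5, 1, 2, 7, 9, 5, 6, 0, 3, 0, 6, 9, 2, 6, 1, 6, 6],
  [0, 0, 5, 0, 0, 7, 2, 5, 0, 6, 6, 1, 5, 7, 8, 4, 6, 0, 2, 7, 2, 8, 5],
  [0, 0, 5, 0, 0, 7, 2, 5, 0, 6, 6, 1, 5, 7, 8, 4, 6, 3, 1, 7, 2, 8, 5],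
  [0, 0, 5, 1, 8, 0, 3, 4, 7, 1, 2, 6, 3, 1, 6, 6, 2, 5, 6, 5, 8, 2, 7],
  [0, 0, 6, 2, 7, 1, 1, 5, 8, 1, 2, 5, 6, 1, 1, 8, 6, 2, 1, 6, 0, 5, 2],
  [0, 0, 6, 5, 7, 0, 0, 6, 8, 7, 3, 0, 5, 7, 2, 8, 1, 2, 1, 2, 6, 2, 7],
  [0, 0, 7, 7, 9, 0, 2, 7, 4, 0, 6, 9, 6, 1, 6, 6, 5, 6, 2, 7, 7, 0, 4],
  [0, 0, 7, 8, 7, 3, 0, 6, 5, 3, 8, 3, 7, 7, 3, 7, 2, 6, 2, 1, 6, 3, 7],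
  [0, 0, 8, 2, 7, 0, 6, 0, 7, 7, 4, 1, 4, 7, 1, 7, 2, 6, 8, 1, 6, 5, 2],
  [0, 2, 2, 7, 5, 9, 7, 0, 7, 7, 3, 1, 5, 6, 1, 7, 1, 2, 4, 7, 3, 9, 6],
  [0, 2, 6, 3, 8, 3, 6, 0, 2, 7, 5, 8, 2, 7, 2, 1, 4, 7, 2, 7, 3, 6, 6],
  [0, 2, 6, 3, 8, 3, 6, 0, 5, 3, 6, 8, 2, 7, 2, 1, 4, 7, 2, 7, 3, 6, 6],
  [0, 2, 6, 3, 8, 3, 6, 3, 1, 7, 5, 8, 2, 7, 2, 1, 4, 7, 2, 7, 3, 6, 6],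
  [0, 2, 6, 6, 1, 7, 9, 6, 0, 4, 2, 6, 2, 9, 2, 1, 5, 1, 4, 7, 2, 7, 4],
  [0, 2, 7, 3, 4, 7, 9, 4, 7, 1, 6, 0, 7, 9, 0, 6, 1, 2, 7, 7, 2, 7, 7],
  [0, 3, 0, 6, 8, 1, 2, 1, 7, 0, 7, 7, 2, 1, 7, 7, 0, 7, 3, 7, 8, 5, 6],
  [0, 3, 5, 7, 5, 3, 8, 1, 7, 1, 7, 1, 7, 7, 4, 1, 7, 3, 0, 4, 7, 2, 8],
  [0, 3, 6, 6, 2, 7, 0, 4, 7, 9, 3, 6, 2, 6, 0, 7, 9, 3, 7, 7, 0, 6, 6],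
  [0, 3, 7, 1, 9, 2, 7, 2, 7, 2, 6, 3, 6, 2, 6, 6, 1, 6, 6, 5, 9, 0, 7],
  [0, 3, 7, 2, 7, 7, 3, 9, 3, 7, 0, 6, 6, 2, 9, 4, 0, 6, 3, 7, 0, 4, 7],
  [0, 4, 7, 0, 7, 7, 3, 5, 6, 9, 6, 5, 0, 5, 6, 3, 9, 6, 6, 0, 7, 1, 6],
  [0, 4, 7, 0, 9, 7, 3, 6, 0, 6, 5, 0, 5, 6, 6, 1, 7, 1, 6, 3, 9, 1, 2],
  [0, 0, 7, 3, 5, 0, 0, 9, 2, 8, 3, 9, 2, 8, 3, 0, 4, 1, 7, 2, 6],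
  [0, 4, 0, 4, 3, 0, 4, 6, 2, 6, 2, 7, 3, 4, 9, 3, 8, 2, 9, 3, 8],
  [0, 4, 0, 4, 3, 0, 4, 6, 2, 6, 2, 7, 3, 4, 9, 3, 8, 3, 3, 9, 3, 8],
  [0, 4, 0, 8, 6, 1, 9, 2, 8, 3, 9, 4, 2, 6, 0, 5, 6, 6, 1, 7, 0, 5],
  [0, 0, 0, 5, 1, 7, 0, 5, 6, 0, 3, 5, 6, 8, 2, 7, 9, 3, 8, 2, 9, 6, 6],
  [0, 0, 0, 8, 5, 9, 6, 1, 8, 2, 9, 3, 7, 4, 1, 7, 2, 0, 6, 5, 0, 0, 3],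
  [0, 0, 3, 7, 3, 9, 1, 8, 7, 4, 8, 4, 9, 0, 6, 4, 1, 6, 4, 1, 7, 2, 6],
  [0, 2, 4, 1, 6, 8, 3, 9, 6, 2, 9, 4, 8, 2, 0, 4, 1, 7, 3, 6, 4, 0, 7],
  [0, 3, 7, 2, 6, 6, 0, 7, 0, 6, 3, 8, 1, 9, 0, 8, 3, 6, 8, 5, 0, 4, 7],
  [0, 4, 1, 8, 2, 9, 6, 8, 2, 0, 8, 4, 1, 6, 3, 7, 0, 6, 0, 4, 7, 0, 6],
  [0, 0, 0, 5, 1, 7, 5, 1, 1, 5, 0, 3, 9, 6, 9, 6, 2, 9, 0, 8, 4, 8, 6],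
  [0, 4, 2, 0, 7, 5, 0, 7, 0, 7, 2, 8, 4, 7, 8, 6, 8, 4, 7, 8, 1, 9, 6],
  [0, 0, 0, 5, 1, 4, 6, 1, 1, 5, 0, 3, 9, 6, 9, 6, 2, 9, 0, 8, 4, 8, 6],
  [0, 0, 5, 2, 0, 4, 0, 6, 6, 0, 3, 0, 7, 8, 0, 8, 4, 9, 2, 5, 6, 9, 2, 9],
  [0, 3, 8, 2, 5, 6, 2, 6, 2, 6, 5, 0, 7, 4, 1, 7, 1, 8, 7, 9, 3, 9, 2, 9],
  [0, 0, 7, 7, 0, 3, 0, 0, 8, 0, 6, 8, 5, 9, 6, 8, 0, 7, 8, 1, 7, 7, 1, 7]]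

/-- the data `(X, c, k, Y, c', k')` of the exact central words `(X c^k X⁻¹) (Y c'^k' Y⁻¹)⁻¹`. -/
def XD : List (List ℕ × ℕ × ℕ × List ℕ × ℕ × ℕ) := [([8, 0, 6, 2, 1, 7], 4, 1, [0, 7, 7], 5, 1),
  ([8, 6, 6, 4, 0, 4, 1], 2, 1, [6, 5, 2, 1], 5, 1),
  ([8, 7, 1, 5, 0, 6], 2, 1, [0, 5, 3, 7, 7], 4, 1),
  ([8, 1, 1, 1, 6], 4, 1, [0, 7, 2, 6, 5, 0, 6], 2, 1),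
  ([8, 1, 4, 7, 0, 0, 6], 2, 1, [2, 6, 1, 7, 0], 2, 1),
  ([8, 1, 5, 0, 4, 7, 4], 2, 1, [0, 4, 0, 4, 1], 4, 1),
  ([8, 1, 6, 1, 5, 6], 2, 1, [7, 0, 7, 3, 4, 0], 4, 1),
  ([8, 2, 1, 1, 7, 7, 1], 2, 1, [2, 7, 2, 7, 1], 3, 1),
  ([8, 4, 1, 4, 7, 0, 5, 6], 2, 1, [3, 0, 7, 7], 2, 1),
  ([8, 6, 2, 5, 1, 6, 1], 2, 1, [0, 4, 3, 0, 0], 3, 1),
  ([8, 6, 4, 0, 5, 0, 6, 6], 2, 1, [6, 2, 5, 1], 4, 1),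
  ([8, 6, 5, 2, 6, 0], 4, 1, [5, 2, 1, 1, 5, 6], 3, 1),
  ([8, 7, 1, 6, 0, 6], 2, 1, [5, 6, 1, 1, 1, 6], 3, 1),
  ([8, 7, 1, 7, 0, 0, 7], 4, 1, [7, 4, 1, 2, 6], 4, 1),
  ([8, 0, 3, 4, 0, 3, 7], 4, 1, [2, 5, 2, 0, 7, 7], 4, 1),
  ([8, 0, 4, 0, 3, 6, 0], 4, 1, [6, 0, 6, 1, 6, 5], 3, 1),
  ([8, 0, 5, 3, 7, 1], 2, 1, [7, 1, 7, 1, 1, 2, 1], 5, 1),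
  ([8, 0, 5, 6, 0, 7, 1, 5], 2, 1, [6, 3, 7, 2, 6], 2, 1),
  ([8, 0, 5, 6, 6, 0], 2, 1, [5, 6, 2, 1, 1, 1, 4], 2, 1),
  ([8, 0, 5, 6, 6, 0], 3, 1, [5, 2, 1, 2, 6, 1, 5], 2, 1),
  ([8, 0, 6, 3, 6, 1], 4, 1, [7, 2, 7, 3, 4, 1, 1], 3, 1),
  ([8, 0, 6, 6, 5, 1], 2, 1, [5, 0, 6, 3, 6, 6, 5], 3, 1),
  ([8, 0, 7, 7, 5, 6, 1], 2, 1, [0, 4, 0, 6, 5, 1], 4, 1),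
  ([8, 1, 1, 1, 4, 3, 7], 4, 1, [6, 6, 4, 0, 3, 7], 4, 1),
  ([8, 1, 2, 7, 2, 1, 1, 5], 2, 1, [1, 2, 6, 0, 5], 2, 1),
  ([8, 1, 5, 6, 1, 4], 2, 1, [7, 7, 5, 2, 0, 7, 7], 5, 1),
  ([8, 1, 6, 2, 6, 5, 0], 4, 1, [4, 7, 4, 1, 7, 7], 4, 1),
  ([8, 2, 1, 5, 2, 1, 7], 2, 1, [5, 1, 5, 0, 7, 7], 5, 1),
  ([8, 2, 7, 0, 0, 6, 3, 7], 4, 1, [1, 1, 1, 5, 1], 2, 1),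
  ([8, 2, 7, 3, 4, 7, 7], 4, 1, [3, 6, 2, 7, 7, 5], 2, 1)]

/-- the first half of an exact central word. -/
def xA (t : List ℕ × ℕ × ℕ × List ℕ × ℕ × ℕ) : List ℕ :=
  t.1 ++ List.replicate t.2.2.1 t.2.1 ++ winv t.1

/-- the second half of an exact central word. -/
def xB (t : List ℕ × ℕ × ℕ × List ℕ × ℕ × ℕ) : List ℕ :=
  t.2.2.2.1 ++ List.replicate t.2.2.2.2.2 t.2.2.2.2.1 ++ winv t.2.2.2.1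

/-- the exact central words of the last step. -/
def XX5 : List (List ℕ) := XD.map fun t => xA t ++ winv (xB t)

/-- the central words of the last step. -/
def CC5 : List (List ℕ) := (EX5 ++ XX5) ++ CL4

end Cfsg.Agent.Helper4.F42
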