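import Mathlib
import Cfsg.Prelude.Def_ChevF4
import Cfsg.Agent.Helper4.F42Chk

/-!
# Matrices for `F₄(2)`

The identities checked in `F42Chk`, as identities between `52 × 52` matrices over the field with
two elements, and the comparison of the matrices of the root letters with the root elements of
the Chevalley group of type `F₄` of the frozen definitions.
-/

set_option autoImplicit false
set_option Elab.async false

namespace Cfsg.Agent.Helper4.F42

open Cfsg.Agent.Helper5.PackLA

/-- the field with two elements. -/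
abbrev F2 : Type := ZMod 2

/-- the matrix of a letter. -/
def MAT (c : ℕ) : Matrix (Fin 52) (Fin 52) F2 := matOf 256 2 52 (cols c)

theorem prod_eq_of_chk (w₁ w₂ : List ℕ) (h1 : ∀ c ∈ w₁, c < 59) (h2 : ∀ c ∈ w₂, c < 59)
    (h : Chk w₁ w₂) : (w₁.map MAT).prod = (w₂.map MAT).prod :=
  prod_eq_prod_of_check (B := 256) (p := 2) (n := 52) (by norm_num) (by norm_num) (by norm_num)
    cols w₁ w₂ (fun c hc => cols_ok c (h1 c hc)) (fun c hc => cols_ok c (h2 c hc)) h

/-! ### comparison with the frozen definitions -/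

/-- the coordinates of the Chevalley datum of type `F₄`. -/
abbrev I52 : Type := Cfsg.Lie.chevF4.Idx

/-- the numbering of the coordinates: `h₁, …, h₄; e_r`. -/
def e52f : Fin 52 → I52 :=
  fun i => if h : i.val < 4 then .inl ⟨i.val, h⟩ else .inr ⟨i.val - 4, by
    have := i.isLt
    show i.val - 4 < 48
    omega⟩

/-- the inverse numbering. -/
def e52g : I52 → Fin 52
  | .inl i => ⟨i.val, by
    have : i.val < 4 := i.isLt
    omega⟩
  | .inr i => ⟨i.val + 4, by
    have : i.val < 48 := i.isLt
    omega⟩

/-- the numbering of the coordinates as an equivalence. -/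
def e52 : Fin 52 ≃ I52 := ⟨e52f, e52g, by decide, by decide⟩

/-- the letter of the root element `x_r(t)`. -/
def xidx (r : ℕ) (t : F2) : ℕ := if t = 0 then 58 else 10 + r

set_option maxRecDepth 1000000 in
theorem xMat_eq_a : ∀ (r : Fin Cfsg.Lie.chevF4.nroots) (t : F2), r.val < 12 →
    Cfsg.Lie.chevF4.xMat F2 r t
      = ((MAT (xidx r.val t)).submatrix e52.symm e52.symm : Matrix I52 I52 F2) := by
  decide +kernel

set_option maxRecDepth 1000000 in
theorem xMat_eq_b : ∀ (r : Fin Cfsg.Lie.chevF4.nroots) (t : F2), 12 ≤ r.val → r.val < 24 →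
    Cfsg.Lie.chevF4.xMat F2 r t
      = ((MAT (xidx r.val t)).submatrix e52.symm e52.symm : Matrix I52 I52 F2) := by
  decide +kernel

set_option maxRecDepth 1000000 in
theorem xMat_eq_c : ∀ (r : Fin Cfsg.Lie.chevF4.nroots) (t : F2), 24 ≤ r.val → r.val < 36 →
    Cfsg.Lie.chevF4.xMat F2 r t
      = ((MAT (xidx r.val t)).submatrix e52.symm e52.symm : Matrix I52 I52 F2) := by
  decide +kernel

set_option maxRecDepth 1000000 in
theorem xMat_eq_d : ∀ (r : Fin Cfsg.Lie.chevF4.nroots) (t : F2), 36 ≤ r.val →
    Cfsg.Lie.chevF4.xMat F2 r t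
      = ((MAT (xidx r.val t)).submatrix e52.symm e52.symm : Matrix I52 I52 F2) := by
  decide +kernel

theorem xMat_eq (r : Fin Cfsg.Lie.chevF4.nroots) (t : F2) :
    Cfsg.Lie.chevF4.xMat F2 r t
      = ((MAT (xidx r.val t)).submatrix e52.symm e52.symm : Matrix I52 I52 F2) := by
  by_cases h1 : r.val < 12
  · exact xMat_eq_a r t h1
  · by_cases h2 : r.val < 24
    · exact xMat_eq_b r t (by omega) h2
    · by_cases h3 : r.val < 36
      · exact xMat_eq_c r t (by omega) h3
      · exact xMat_eq_d r t (by omega)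

end Cfsg.Agent.Helper4.F42
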