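import Mathlib
import Cfsg.Prelude.Def_ChevF4
import Cfsg.Agent.Helper4.F42Mat
import Cfsg.Agent.Helper4.F42ChkR
import Cfsg.Agent.Helper5.StemPB
import Cfsg.Agent.Helper4.F42Def

/-!
# Generators of `F₄(2)`

Five elements `a, b, c, d, e` of orders 17, 3, 3, 5, 3 of the Chevalley group of type `F₄` over the
integers modulo 2, as products of root elements; words in them are evaluated in the packed linear
algebra of `F42Chk`; they generate the group.
-/

set_option autoImplicit false

namespace Cfsg.Agent.Helper4.F42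

open Cfsg.Agent.Helper5.PackLA Cfsg.Agent.Helper5.StemP Matrix

/-! ### matrices -/

theorem mul_eq_one_of_chk {x y : ℕ} (hx : x < 59) (hy : y < 59) (h : Chk [x, y] []) :
    MAT x * MAT y = 1 := by
  have e := prod_eq_of_chk [x, y] [] (by
    intro c hc
    simp only [List.mem_cons, List.not_mem_nil, or_false] at hc
    rcases hc with rfl | rfl <;> assumption) (by simp) h
  simpa using e

theorem MAT_rinv {x : ℕ} (h1 : 10 ≤ x) (h2 : x < 58) : MAT x * MAT x = 1 :=
  mul_eq_one_of_chk (by omega) (by omega) (chk_rinv x h1 h2)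

/-- the root letters as units. -/
def RU (x : ℕ) : (Matrix (Fin 52) (Fin 52) F2)ˣ :=
  if h : 10 ≤ x ∧ x < 58 then ⟨MAT x, MAT x, MAT_rinv h.1 h.2, MAT_rinv h.1 h.2⟩ else 1

theorem RU_val {x : ℕ} (h1 : 10 ≤ x) (h2 : x < 58) : (RU x).val = MAT x := by
  unfold RU
  rw [dif_pos ⟨h1, h2⟩]

/-- the inverse of a letter. -/
def linv10 (c : ℕ) : ℕ := if c % 2 = 0 then c + 1 else c - 1

theorem linv10_lt {c : ℕ} (hc : c < 10) : linv10 c < 10 := by
  unfold linv10
  split_ifs <;> omega

theorem MAT_linv {c : ℕ} (hc : c < 10) :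
    MAT c * MAT (linv10 c) = 1 ∧ MAT (linv10 c) * MAT c = 1 := by
  obtain ⟨i, rfl | rfl⟩ : ∃ i, c = 2 * i ∨ c = 2 * i + 1 := ⟨c / 2, by omega⟩
  · have e : linv10 (2 * i) = 2 * i + 1 := by
      unfold linv10
      rw [if_pos (by omega)]
    rw [e]
    obtain ⟨h0, h1⟩ := chk_linv i (by omega)
    exact ⟨mul_eq_one_of_chk (by omega) (by omega) h0, mul_eq_one_of_chk (by omega) (by omega) h1⟩
  · have e : linv10 (2 * i + 1) = 2 * i := by
      unfold linv10
      rw [if_neg (by omega)]
      rfl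
    rw [e]
    obtain ⟨h0, h1⟩ := chk_linv i (by omega)
    exact ⟨mul_eq_one_of_chk (by omega) (by omega) h1, mul_eq_one_of_chk (by omega) (by omega) h0⟩

/-- the letters as units. -/
def LU (c : ℕ) : (Matrix (Fin 52) (Fin 52) F2)ˣ :=
  if h : c < 10 then ⟨MAT c, MAT (linv10 c), (MAT_linv h).1, (MAT_linv h).2⟩ else 1

theorem LU_val {c : ℕ} (hc : c < 10) : (LU c).val = MAT c := by
  unfold LU
  rw [dif_pos hc]

theorem LU_inv_val {c : ℕ} (hc : c < 10) : ((LU c)⁻¹).val = MAT (linv10 c) := by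
  unfold LU
  rw [dif_pos hc]
  rfl

theorem LU_linv {c : ℕ} (hc : c < 10) : LU (linv10 c) = (LU c)⁻¹ := by
  apply Units.ext
  rw [LU_val (linv10_lt hc), LU_inv_val hc]

theorem LU_prod_val : ∀ l : List ℕ, (∀ c ∈ l, c < 10) →
    ((l.map LU).prod : (Matrix (Fin 52) (Fin 52) F2)ˣ).val = (l.map MAT).prod
  | [], _ => rfl
  | c :: l, h => by
    rw [List.map_cons, List.prod_cons, Units.val_mul, LU_val (h c List.mem_cons_self),
      LU_prod_val l (fun c hc => h c (List.mem_cons_of_mem _ hc)), List.map_cons, List.prod_cons]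

theorem RU_prod_val : ∀ l : List ℕ, (∀ x ∈ l, 10 ≤ x ∧ x < 58) →
    ((l.map RU).prod : (Matrix (Fin 52) (Fin 52) F2)ˣ).val = (l.map MAT).prod
  | [], _ => rfl
  | x :: l, h => by
    rw [List.map_cons, List.prod_cons, Units.val_mul,
      RU_val (h x List.mem_cons_self).1 (h x List.mem_cons_self).2,
      RU_prod_val l (fun c hc => h c (List.mem_cons_of_mem _ hc)), List.map_cons, List.prod_cons]

theorem LU_eq_prod (c : ℕ) (hc : c < 10) : LU c = ((genW c).map RU).prod := by
  apply Units.ext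
  rw [LU_val hc, RU_prod_val _ (genW_lt c hc)]
  have e := prod_eq_of_chk [c] (genW c) (by
    intro d hd
    simp only [List.mem_cons, List.not_mem_nil, or_false] at hd
    omega) (fun x hx => by have := (genW_lt c hc x hx).2; omega) (chk_genW c hc)
  simpa using e

/-! ### the Chevalley group -/

/-- transport of invertible matrices along the numbering of the coordinates. -/
def reGL : (Matrix (Fin 52) (Fin 52) F2)ˣ ≃* Matrix.GeneralLinearGroup I52 F2 :=
  Units.mapEquiv (Matrix.reindexAlgEquiv F2 F2 e52).toMulEquiv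

theorem reGL_val (u : (Matrix (Fin 52) (Fin 52) F2)ˣ) :
    ((reGL u : Matrix.GeneralLinearGroup I52 F2) : Matrix I52 I52 F2)
      = (u : Matrix (Fin 52) (Fin 52) F2).submatrix e52.symm e52.symm := rfl

/-- the Chevalley group of type `F₄` over the integers modulo 2. -/
abbrev GG : Subgroup (Matrix.GeneralLinearGroup I52 F2) := Cfsg.Lie.chevF4.group F2

theorem xidx_one (r : ℕ) : xidx r (1 : F2) = 10 + r := by
  unfold xidx
  rw [if_neg (by decide)]

theorem xidx_zero (r : ℕ) : xidx r (0 : F2) = 58 := by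
  unfold xidx
  rw [if_pos rfl]

theorem reGL_RU_mem (x : ℕ) (h1 : 10 ≤ x) (h2 : x < 58) : reGL (RU x) ∈ GG := by
  apply Subgroup.subset_closure
  refine ⟨⟨x - 10, by
    show x - 10 < 48
    omega⟩, (1 : F2), ?_⟩
  rw [xMat_eq, reGL_val, RU_val h1 h2, xidx_one]
  show _ = (MAT (10 + (x - 10))).submatrix _ _
  rw [show 10 + (x - 10) = x by omega]

theorem reGL_LU_mem (c : ℕ) : reGL (LU c) ∈ GG := by
  by_cases hc : c < 10
  · rw [LU_eq_prod c hc, map_list_prod]
    apply Subgroup.list_prod_mem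
    intro y hy
    rw [List.map_map] at hy
    obtain ⟨x, hx, rfl⟩ := List.mem_map.mp hy
    exact reGL_RU_mem x (genW_lt c hc x hx).1 (genW_lt c hc x hx).2
  · unfold LU
    rw [dif_neg hc, map_one]
    exact one_mem _

/-- the letters in the Chevalley group. -/
def LG (c : ℕ) : GG := ⟨reGL (LU c), reGL_LU_mem c⟩

/-- the generators. -/
def g (i : ℕ) : GG := LG (2 * i)

theorem LG_linv {c : ℕ} (hc : c < 10) : LG (linv10 c) = (LG c)⁻¹ := by
  apply Subtype.ext
  show reGL (LU (linv10 c)) = (reGL (LU c))⁻¹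
  rw [LU_linv hc, map_inv]

theorem lval_LG : ∀ c, c < 10 → lval g c = LG c := by
  intro c hc
  obtain ⟨i, rfl | rfl⟩ : ∃ i, c = 2 * i ∨ c = 2 * i + 1 := ⟨c / 2, by omega⟩
  · rw [lval_even]
    rfl
  · rw [lval_odd]
    have e : linv10 (2 * i) = 2 * i + 1 := by
      unfold linv10
      rw [if_pos (by omega)]
    rw [← e, LG_linv (by omega)]
    rfl

theorem word_val : ∀ l : List ℕ, (∀ c ∈ l, c < 10) →
    (((l.map (lval g)).prod : GG) : Matrix.GeneralLinearGroup I52 F2) = reGL ((l.map LU).prod)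
  | [], _ => by
    rw [List.map_nil, List.prod_nil, List.map_nil, List.prod_nil, map_one]
    rfl
  | c :: l, h => by
    rw [List.map_cons, List.prod_cons, Subgroup.coe_mul,
      word_val l (fun c hc => h c (List.mem_cons_of_mem _ hc)), lval_LG c (h c List.mem_cons_self),
      List.map_cons, List.prod_cons, map_mul]
    rfl

theorem word_eq_one (l : List ℕ) (hl : ∀ c ∈ l, c < 10) (h : Chk l []) :
    (l.map (lval g)).prod = 1 := by
  apply Subtype.ext
  rw [word_val l hl]
  have h1 : (l.map LU).prod = 1 := by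
    apply Units.ext
    rw [LU_prod_val l hl, prod_eq_of_chk _ [] (fun c hc => by have := hl c hc; omega) (by simp) h]
    rfl
  rw [h1, map_one]
  rfl

theorem pow_eq_one {i n : ℕ} (hi : i < 5) (h : Chk (List.replicate n (2 * i)) []) :
    g i ^ n = 1 := by
  have h1 : ((List.replicate n (2 * i)).map (lval g)).prod = 1 := by
    apply word_eq_one _ _ h
    intro c hc
    rw [List.eq_of_mem_replicate hc]
    omega
  rw [List.map_replicate, List.prod_replicate, lval_even] at h1
  exact h1

theorem g_pow : ∀ i, i < 5 → g i ^ mF i = 1 := by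
  intro i hi
  interval_cases i
  · exact pow_eq_one (i := 0) (by norm_num) chk_pow.1
  · exact pow_eq_one (i := 1) (by norm_num) chk_pow.2.1
  · exact pow_eq_one (i := 2) (by norm_num) chk_pow.2.2.1
  · exact pow_eq_one (i := 3) (by norm_num) chk_pow.2.2.2.1
  · exact pow_eq_one (i := 4) (by norm_num) chk_pow.2.2.2.2

/-! ### generation -/

theorem MAT_root (r : ℕ) (hr : r < 48) : ((rootW r).map MAT).prod = MAT (10 + r) := by
  have e := prod_eq_of_chk [10 + r] (rootW r) (by
    intro c hc
    rw [List.mem_singleton] at hc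
    omega) (fun c hc => by have := rootW_lt r hr c hc; omega) (chk_root r hr)
  rw [List.map_cons, List.map_nil, List.prod_cons, List.prod_nil, mul_one] at e
  exact e.symm

theorem MAT_id : MAT 58 = 1 := by
  have e := prod_eq_of_chk [58] [] (by
    intro c hc
    rw [List.mem_singleton] at hc
    omega) (by simp) chk_id
  simpa using e

theorem word_mem (l : List ℕ) (hl : ∀ c ∈ l, c < 10) :
    (l.map (lval g)).prod ∈ Subgroup.closure {y : GG | ∃ i, i < 5 ∧ y = g i} := by
  apply Subgroup.list_prod_mem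
  intro y hy
  obtain ⟨c, hc, rfl⟩ := List.mem_map.mp hy
  have hi : c / 2 < 5 := by have := hl c hc; omega
  unfold lval
  split_ifs
  · exact Subgroup.subset_closure ⟨c / 2, hi, rfl⟩
  · exact inv_mem (Subgroup.subset_closure ⟨c / 2, hi, rfl⟩)

theorem root_mem (r : ℕ) (hr : r < 48) (y : Matrix.GeneralLinearGroup I52 F2)
    (hy : (y : Matrix I52 I52 F2) = (MAT (10 + r)).submatrix e52.symm e52.symm) :
    ∃ h ∈ Subgroup.closure {y : GG | ∃ i, i < 5 ∧ y = g i},
      ((h : GG) : Matrix.GeneralLinearGroup I52 F2) = y := by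
  refine ⟨((rootW r).map (lval g)).prod, word_mem _ (rootW_lt r hr), ?_⟩
  apply Units.ext
  rw [word_val _ (rootW_lt r hr), reGL_val, LU_prod_val _ (rootW_lt r hr), MAT_root r hr, hy]

/-- the five generators generate the group. -/
theorem g_closure : Subgroup.closure {y : GG | ∃ i, i < 5 ∧ y = g i} = ⊤ := by
  rw [eq_top_iff]
  rintro ⟨x, hx⟩ -
  have hle : GG ≤ (Subgroup.closure {y : GG | ∃ i, i < 5 ∧ y = g i}).map GG.subtype := by
    show Subgroup.closure _ ≤ _
    rw [Subgroup.closure_le]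
    rintro y ⟨r, t, hy⟩
    rw [xMat_eq] at hy
    have ht : ∀ s : F2, s = 0 ∨ s = 1 := by decide
    have ht := ht t
    rcases ht with rfl | rfl
    · rw [xidx_zero, MAT_id] at hy
      refine ⟨1, Subgroup.one_mem _, ?_⟩
      apply Units.ext
      rw [hy]
      show ((1 : Matrix.GeneralLinearGroup I52 F2) : Matrix I52 I52 F2) = _
      rw [Units.val_one, Matrix.submatrix_one_equiv]
    · rw [xidx_one] at hy
      exact root_mem r.val r.isLt y hy
  obtain ⟨h, hh, e⟩ := hle hx
  have e2 : h = ⟨x, hx⟩ := Subtype.ext e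
  rwa [e2] at hh

end Cfsg.Agent.Helper4.F42
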