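import Mathlib
import Cfsg.Agent.Helper4.F42Chk
import Cfsg.Agent.Helper4.F42Def

/-!
# generated: the central words of `F42Def` are trivial in `F₄(2)`, part 1

Checked on the packed basis vectors, in pieces.
-/

set_option autoImplicit false
set_option Elab.async false

namespace Cfsg.Agent.Helper4.F42

open Cfsg.Agent.Helper5.PackLA

set_option maxRecDepth 100000 in
theorem chk_rel_0 : ∀ i, i < 4 → Chk (CC5.getD i []) [] := by decide +kernel

set_option maxRecDepth 100000 in
theorem chk_rel_1 : ∀ i, i < 8 → 4 ≤ i → Chk (CC5.getD i []) [] := by decide +kernel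

set_option maxRecDepth 100000 in
theorem chk_rel_2 : ∀ i, i < 12 → 8 ≤ i → Chk (CC5.getD i []) [] := by decide +kernel

set_option maxRecDepth 100000 in
theorem chk_rel_3 : ∀ i, i < 16 → 12 ≤ i → Chk (CC5.getD i []) [] := by decide +kernel

set_option maxRecDepth 100000 in
theorem chk_rel_4 : ∀ i, i < 20 → 16 ≤ i → Chk (CC5.getD i []) [] := by decide +kernel

set_option maxRecDepth 100000 in
theorem chk_rel_5 : ∀ i, i < 24 → 20 ≤ i → Chk (CC5.getD i []) [] := by decide +kernel

set_option maxRecDepth 100000 in
theorem chk_rel_6 : ∀ i, i < 28 → 24 ≤ i → Chk (CC5.getD i []) [] := by decide +kernel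

set_option maxRecDepth 100000 in
theorem chk_rel_7 : ∀ i, i < 32 → 28 ≤ i → Chk (CC5.getD i []) [] := by decide +kernel

end Cfsg.Agent.Helper4.F42
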