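import Mathlib
import Cfsg.Agent.Helper4.F42Chk
import Cfsg.Agent.Helper4.F42Def

/-!
# generated: the central words of `F42Def` are trivial in `F₄(2)`, part 3

Checked on the packed basis vectors, in pieces.
-/

set_option autoImplicit false
set_option Elab.async false

namespace Cfsg.Agent.Helper4.F42

open Cfsg.Agent.Helper5.PackLA

set_option maxRecDepth 100000 in
theorem chk_rel_16 : ∀ i, i < 68 → 64 ≤ i → Chk (CC5.getD i []) [] := by decide +kernel

set_option maxRecDepth 100000 in
theorem chk_rel_17 : ∀ i, i < 72 → 68 ≤ i → Chk (CC5.getD i []) [] := by decide +kernel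

set_option maxRecDepth 100000 in
theorem chk_rel_18 : ∀ i, i < 76 → 72 ≤ i → Chk (CC5.getD i []) [] := by decide +kernel

set_option maxRecDepth 100000 in
theorem chk_rel_19 : ∀ i, i < 80 → 76 ≤ i → Chk (CC5.getD i []) [] := by decide +kernel

set_option maxRecDepth 100000 in
theorem chk_rel_20 : ∀ i, i < 84 → 80 ≤ i → Chk (CC5.getD i []) [] := by decide +kernel

set_option maxRecDepth 100000 in
theorem chk_rel_21 : ∀ i, i < 88 → 84 ≤ i → Chk (CC5.getD i []) [] := by decide +kernel

set_option maxRecDepth 100000 in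
theorem chk_rel_22 : ∀ i, i < 92 → 88 ≤ i → Chk (CC5.getD i []) [] := by decide +kernel

set_option maxRecDepth 100000 in
theorem chk_rel_23 : ∀ i, i < 96 → 92 ≤ i → Chk (CC5.getD i []) [] := by decide +kernel

end Cfsg.Agent.Helper4.F42
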