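import Mathlib
import Cfsg.Agent.Helper4.F42Chk
import Cfsg.Agent.Helper4.F42Def

/-!
# generated: the central words of `F42Def` are trivial in `F₄(2)`, part 5

Checked on the packed basis vectors, in pieces.
-/

set_option autoImplicit false
set_option Elab.async false

namespace Cfsg.Agent.Helper4.F42

open Cfsg.Agent.Helper5.PackLA

set_option maxRecDepth 100000 in
theorem chk_rel_32 : ∀ i, i < 132 → 128 ≤ i → Chk (CC5.getD i []) [] := by decide +kernel

set_option maxRecDepth 100000 in
theorem chk_rel_33 : ∀ i, i < 136 → 132 ≤ i → Chk (CC5.getD i []) [] := by decide +kernel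

set_option maxRecDepth 100000 in
theorem chk_rel_34 : ∀ i, i < 139 → 136 ≤ i → Chk (CC5.getD i []) [] := by decide +kernel

end Cfsg.Agent.Helper4.F42
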