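import Mathlib
import Cfsg.Agent.Helper4.F42RelA
import Cfsg.Agent.Helper4.F42RelB
import Cfsg.Agent.Helper4.F42RelC
import Cfsg.Agent.Helper4.F42RelD
import Cfsg.Agent.Helper4.F42RelE
import Cfsg.Agent.Helper4.F42Gen

/-!
# The central words of `F42Def` are trivial in `F₄(2)`
-/

set_option autoImplicit false

namespace Cfsg.Agent.Helper4.F42

open Cfsg.Agent.Helper5.PackLA Cfsg.Agent.Helper5.StemP

set_option maxRecDepth 1000000 in
theorem CC5_length : CC5.length = 139 := by decide +kernel

theorem chk_rel : ∀ i, i < 139 → Chk (CC5.getD i []) [] := by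
  intro i h1
  by_cases h_0 : i < 4
  · exact chk_rel_0 i h_0
  by_cases h_1 : i < 8
  · exact chk_rel_1 i h_1 (by omega)
  by_cases h_2 : i < 12
  · exact chk_rel_2 i h_2 (by omega)
  by_cases h_3 : i < 16
  · exact chk_rel_3 i h_3 (by omega)
  by_cases h_4 : i < 20
  · exact chk_rel_4 i h_4 (by omega)
  by_cases h_5 : i < 24
  · exact chk_rel_5 i h_5 (by omega)
  by_cases h_6 : i < 28
  · exact chk_rel_6 i h_6 (by omega)
  by_cases h_7 : i < 32
  · exact chk_rel_7 i h_7 (by omega)
  by_cases h_8 : i < 36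
  · exact chk_rel_8 i h_8 (by omega)
  by_cases h_9 : i < 40
  · exact chk_rel_9 i h_9 (by omega)
  by_cases h_10 : i < 44
  · exact chk_rel_10 i h_10 (by omega)
  by_cases h_11 : i < 48
  · exact chk_rel_11 i h_11 (by omega)
  by_cases h_12 : i < 52
  · exact chk_rel_12 i h_12 (by omega)
  by_cases h_13 : i < 56
  · exact chk_rel_13 i h_13 (by omega)
  by_cases h_14 : i < 60
  · exact chk_rel_14 i h_14 (by omega)
  by_cases h_15 : i < 64
  · exact chk_rel_15 i h_15 (by omega)
  by_cases h_16 : i < 68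
  · exact chk_rel_16 i h_16 (by omega)
  by_cases h_17 : i < 72
  · exact chk_rel_17 i h_17 (by omega)
  by_cases h_18 : i < 76
  · exact chk_rel_18 i h_18 (by omega)
  by_cases h_19 : i < 80
  · exact chk_rel_19 i h_19 (by omega)
  by_cases h_20 : i < 84
  · exact chk_rel_20 i h_20 (by omega)
  by_cases h_21 : i < 88
  · exact chk_rel_21 i h_21 (by omega)
  by_cases h_22 : i < 92
  · exact chk_rel_22 i h_22 (by omega)
  by_cases h_23 : i < 96
  · exact chk_rel_23 i h_23 (by omega)
  by_cases h_24 : i < 100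
  · exact chk_rel_24 i h_24 (by omega)
  by_cases h_25 : i < 104
  · exact chk_rel_25 i h_25 (by omega)
  by_cases h_26 : i < 108
  · exact chk_rel_26 i h_26 (by omega)
  by_cases h_27 : i < 112
  · exact chk_rel_27 i h_27 (by omega)
  by_cases h_28 : i < 116
  · exact chk_rel_28 i h_28 (by omega)
  by_cases h_29 : i < 120
  · exact chk_rel_29 i h_29 (by omega)
  by_cases h_30 : i < 124
  · exact chk_rel_30 i h_30 (by omega)
  by_cases h_31 : i < 128
  · exact chk_rel_31 i h_31 (by omega)
  by_cases h_32 : i < 132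
  · exact chk_rel_32 i h_32 (by omega)
  by_cases h_33 : i < 136
  · exact chk_rel_33 i h_33 (by omega)
  exact chk_rel_34 i (by omega) (by omega)

set_option maxRecDepth 100000 in
theorem CC5_lt : ∀ r ∈ CC5, ∀ c ∈ r, c < 2 * 5 := by decide +kernel

/-- the central words are trivial in the group. -/
theorem CC5_rel : ∀ r ∈ CC5, (r.map (lval g)).prod = 1 := by
  intro r hr
  obtain ⟨i, hi, rfl⟩ := List.getElem_of_mem hr
  have h := chk_rel i (by rw [← CC5_length]; exact hi)
  rw [List.getD_eq_getElem _ _ hi] at h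
  exact word_eq_one _ (CC5_lt _ (List.getElem_mem hi)) h

end Cfsg.Agent.Helper4.F42
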