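import Cfsg.Agent.Helper4.F42EJu0
import Cfsg.Agent.Helper4.F42EJu1
import Cfsg.Agent.Helper4.F42EJu2
import Cfsg.Agent.Helper4.F42EJu3
import Cfsg.Agent.Helper4.F42EJu4
import Cfsg.Agent.Helper4.F42EJu5
import Cfsg.Agent.Helper4.F42EJu6
import Cfsg.Agent.Helper4.F42EJu7
import Cfsg.Agent.Helper4.F42EJu8
import Cfsg.Agent.Helper4.F42EJu9
import Cfsg.Agent.Helper4.F42EJu10
import Cfsg.Agent.Helper4.F42EJu11
import Cfsg.Agent.Helper4.F42EJu12
import Cfsg.Agent.Helper4.F42EJu13
import Cfsg.Agent.Helper4.F42EJu14
import Cfsg.Agent.Helper4.F42EJu15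
import Cfsg.Agent.Helper4.F42EJu16
import Cfsg.Agent.Helper4.F42EJu17
import Cfsg.Agent.Helper4.F42EJu18
import Cfsg.Agent.Helper4.F42EJu19
import Cfsg.Agent.Helper4.F42EJu20
import Cfsg.Agent.Helper4.F42EJu21
import Cfsg.Agent.Helper4.F42EJu22
import Cfsg.Agent.Helper4.F42EJu23
import Cfsg.Agent.Helper4.F42EJu24
import Cfsg.Agent.Helper4.F42EJu25
import Cfsg.Agent.Helper4.F42EJu26
import Cfsg.Agent.Helper4.F42EJu27
import Cfsg.Agent.Helper4.F42EJu28
import Cfsg.Agent.Helper4.F42EJu29
import Cfsg.Agent.Helper4.F42EJu30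
import Cfsg.Agent.Helper4.F42EJu31
import Cfsg.Agent.Helper4.F42EJu32
import Cfsg.Agent.Helper4.F42EJu33
import Cfsg.Agent.Helper4.F42EJu34
import Cfsg.Agent.Helper4.F42EJu35
import Cfsg.Agent.Helper4.F42EJu36
import Cfsg.Agent.Helper4.F42EJu37
import Cfsg.Agent.Helper4.F42EJu38
import Cfsg.Agent.Helper4.F42EJu39
import Cfsg.Agent.Helper4.F42EJu40
import Cfsg.Agent.Helper4.F42EJu41
import Cfsg.Agent.Helper4.F42EJu42
import Cfsg.Agent.Helper4.F42EJu43
import Cfsg.Agent.Helper4.F42EJu44
import Cfsg.Agent.Helper4.F42EJu45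
import Cfsg.Agent.Helper4.F42EJu46
import Cfsg.Agent.Helper4.F42EJu47
import Cfsg.Agent.Helper4.F42EJu48
import Cfsg.Agent.Helper4.F42EJu49
import Cfsg.Agent.Helper4.F42EJu50
import Cfsg.Agent.Helper4.F42EJu51
import Cfsg.Agent.Helper4.F42EJu52
import Cfsg.Agent.Helper4.F42EJu53
import Cfsg.Agent.Helper4.F42EJu54
import Cfsg.Agent.Helper4.F42EJu55
import Cfsg.Agent.Helper4.F42EJu56
import Cfsg.Agent.Helper4.F42EJu57
import Cfsg.Agent.Helper4.F42EJu58
import Cfsg.Agent.Helper4.F42EJu59
import Cfsg.Agent.Helper4.F42EJu60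
import Cfsg.Agent.Helper4.F42EJu61
import Cfsg.Agent.Helper4.F42EJu62
import Cfsg.Agent.Helper4.F42EJu63
import Cfsg.Agent.Helper4.F42EJu64
import Cfsg.Agent.Helper4.F42EJu65
import Cfsg.Agent.Helper4.F42EJu66
import Cfsg.Agent.Helper4.F42EJu67
import Cfsg.Agent.Helper4.F42EJu68
import Cfsg.Agent.Helper4.F42EJu69
import Cfsg.Agent.Helper4.F42EJu70
import Cfsg.Agent.Helper4.F42EJu71
import Cfsg.Agent.Helper4.F42EJu72
import Cfsg.Agent.Helper4.F42EJu73
import Cfsg.Agent.Helper4.F42EJu74
import Cfsg.Agent.Helper4.F42EJu75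
import Cfsg.Agent.Helper4.F42EJu76
import Cfsg.Agent.Helper4.F42EJu77
import Cfsg.Agent.Helper4.F42EJu78
import Cfsg.Agent.Helper4.F42EJu79
import Cfsg.Agent.Helper4.F42EJu80
import Cfsg.Agent.Helper4.F42EJu81
import Cfsg.Agent.Helper4.F42EJu82
import Cfsg.Agent.Helper4.F42EJu83
import Cfsg.Agent.Helper4.F42EJu84
import Cfsg.Agent.Helper4.F42EJu85
import Cfsg.Agent.Helper4.F42EJu86
import Cfsg.Agent.Helper4.F42EJu87
import Cfsg.Agent.Helper4.F42EJu88
import Cfsg.Agent.Helper4.F42EJu89
import Cfsg.Agent.Helper4.F42ETb0
import Cfsg.Agent.Helper4.F42ETb1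
import Cfsg.Agent.Helper4.F42ETb2
import Cfsg.Agent.Helper4.F42ETb3
import Cfsg.Agent.Helper4.F42ETb4
import Cfsg.Agent.Helper4.F42ETb5
import Cfsg.Agent.Helper4.F42ETb6
import Cfsg.Agent.Helper4.F42ETb7
import Cfsg.Agent.Helper4.F42ETb8
import Cfsg.Agent.Helper4.F42ETb9
import Cfsg.Agent.Helper4.F42ETb10
import Cfsg.Agent.Helper4.F42ETb11
import Cfsg.Agent.Helper4.F42ETb12
import Cfsg.Agent.Helper4.F42ETb13
import Cfsg.Agent.Helper4.F42ETb14
import Cfsg.Agent.Helper4.F42ETb15
import Cfsg.Agent.Helper4.F42ETb16
import Cfsg.Agent.Helper4.F42ETb17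

/-! generated labelled Todd-Coxeter certificate, summary: F42E -/

set_option autoImplicit false
set_option maxRecDepth 1000000

namespace Cfsg.Agent.Helper4.F42E
open Cfsg.Agent.Helper4.LTV

theorem upto_0 : ∀ j, j < 0 → ∃ r, checkFact cert j r = true := fun j hj => absurd hj (by omega)

theorem upto_1 : ∀ j, j < 1000 → ∃ r, checkFact cert j r = true :=
  upto_step cert upto_0 ju_0 1000 len_0 chk_0

theorem upto_2 : ∀ j, j < 2000 → ∃ r, checkFact cert j r = true :=
  upto_step cert upto_1 ju_1 1000 len_1 chk_1

theorem upto_3 : ∀ j, j < 3000 → ∃ r, checkFact cert j r = true :=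
  upto_step cert upto_2 ju_2 1000 len_2 chk_2

theorem upto_4 : ∀ j, j < 4000 → ∃ r, checkFact cert j r = true :=
  upto_step cert upto_3 ju_3 1000 len_3 chk_3

theorem upto_5 : ∀ j, j < 5000 → ∃ r, checkFact cert j r = true :=
  upto_step cert upto_4 ju_4 1000 len_4 chk_4

theorem upto_6 : ∀ j, j < 6000 → ∃ r, checkFact cert j r = true :=
  upto_step cert upto_5 ju_5 1000 len_5 chk_5

theorem upto_7 : ∀ j, j < 7000 → ∃ r, checkFact cert j r = true :=
  upto_step cert upto_6 ju_6 1000 len_6 chk_6

theorem upto_8 : ∀ j, j < 8000 → ∃ r, checkFact cert j r = true :=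
  upto_step cert upto_7 ju_7 1000 len_7 chk_7

theorem upto_9 : ∀ j, j < 9000 → ∃ r, checkFact cert j r = true :=
  upto_step cert upto_8 ju_8 1000 len_8 chk_8

theorem upto_10 : ∀ j, j < 10000 → ∃ r, checkFact cert j r = true :=
  upto_step cert upto_9 ju_9 1000 len_9 chk_9

theorem upto_11 : ∀ j, j < 11000 → ∃ r, checkFact cert j r = true :=
  upto_step cert upto_10 ju_10 1000 len_10 chk_10

theorem upto_12 : ∀ j, j < 12000 → ∃ r, checkFact cert j r = true :=
  upto_step cert upto_11 ju_11 1000 len_11 chk_11

theorem upto_13 : ∀ j, j < 13000 → ∃ r, checkFact cert j r = true :=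
  upto_step cert upto_12 ju_12 1000 len_12 chk_12

theorem upto_14 : ∀ j, j < 14000 → ∃ r, checkFact cert j r = true :=
  upto_step cert upto_13 ju_13 1000 len_13 chk_13

theorem upto_15 : ∀ j, j < 15000 → ∃ r, checkFact cert j r = true :=
  upto_step cert upto_14 ju_14 1000 len_14 chk_14

theorem upto_16 : ∀ j, j < 16000 → ∃ r, checkFact cert j r = true :=
  upto_step cert upto_15 ju_15 1000 len_15 chk_15

theorem upto_17 : ∀ j, j < 17000 → ∃ r, checkFact cert j r = true :=
  upto_step cert upto_16 ju_16 1000 len_16 chk_16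

theorem upto_18 : ∀ j, j < 18000 → ∃ r, checkFact cert j r = true :=
  upto_step cert upto_17 ju_17 1000 len_17 chk_17

theorem upto_19 : ∀ j, j < 19000 → ∃ r, checkFact cert j r = true :=
  upto_step cert upto_18 ju_18 1000 len_18 chk_18

theorem upto_20 : ∀ j, j < 20000 → ∃ r, checkFact cert j r = true :=
  upto_step cert upto_19 ju_19 1000 len_19 chk_19

theorem upto_21 : ∀ j, j < 21000 → ∃ r, checkFact cert j r = true :=
  upto_step cert upto_20 ju_20 1000 len_20 chk_20

theorem upto_22 : ∀ j, j < 22000 → ∃ r, checkFact cert j r = true :=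
  upto_step cert upto_21 ju_21 1000 len_21 chk_21

theorem upto_23 : ∀ j, j < 23000 → ∃ r, checkFact cert j r = true :=
  upto_step cert upto_22 ju_22 1000 len_22 chk_22

theorem upto_24 : ∀ j, j < 24000 → ∃ r, checkFact cert j r = true :=
  upto_step cert upto_23 ju_23 1000 len_23 chk_23

theorem upto_25 : ∀ j, j < 25000 → ∃ r, checkFact cert j r = true :=
  upto_step cert upto_24 ju_24 1000 len_24 chk_24

theorem upto_26 : ∀ j, j < 26000 → ∃ r, checkFact cert j r = true :=
  upto_step cert upto_25 ju_25 1000 len_25 chk_25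

theorem upto_27 : ∀ j, j < 27000 → ∃ r, checkFact cert j r = true :=
  upto_step cert upto_26 ju_26 1000 len_26 chk_26

theorem upto_28 : ∀ j, j < 28000 → ∃ r, checkFact cert j r = true :=
  upto_step cert upto_27 ju_27 1000 len_27 chk_27

theorem upto_29 : ∀ j, j < 29000 → ∃ r, checkFact cert j r = true :=
  upto_step cert upto_28 ju_28 1000 len_28 chk_28

theorem upto_30 : ∀ j, j < 30000 → ∃ r, checkFact cert j r = true :=
  upto_step cert upto_29 ju_29 1000 len_29 chk_29

theorem upto_31 : ∀ j, j < 31000 → ∃ r, checkFact cert j r = true :=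
  upto_step cert upto_30 ju_30 1000 len_30 chk_30

theorem upto_32 : ∀ j, j < 32000 → ∃ r, checkFact cert j r = true :=
  upto_step cert upto_31 ju_31 1000 len_31 chk_31

theorem upto_33 : ∀ j, j < 33000 → ∃ r, checkFact cert j r = true :=
  upto_step cert upto_32 ju_32 1000 len_32 chk_32

theorem upto_34 : ∀ j, j < 34000 → ∃ r, checkFact cert j r = true :=
  upto_step cert upto_33 ju_33 1000 len_33 chk_33

theorem upto_35 : ∀ j, j < 35000 → ∃ r, checkFact cert j r = true :=
  upto_step cert upto_34 ju_34 1000 len_34 chk_34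

theorem upto_36 : ∀ j, j < 36000 → ∃ r, checkFact cert j r = true :=
  upto_step cert upto_35 ju_35 1000 len_35 chk_35

theorem upto_37 : ∀ j, j < 37000 → ∃ r, checkFact cert j r = true :=
  upto_step cert upto_36 ju_36 1000 len_36 chk_36

theorem upto_38 : ∀ j, j < 38000 → ∃ r, checkFact cert j r = true :=
  upto_step cert upto_37 ju_37 1000 len_37 chk_37

theorem upto_39 : ∀ j, j < 39000 → ∃ r, checkFact cert j r = true :=
  upto_step cert upto_38 ju_38 1000 len_38 chk_38

theorem upto_40 : ∀ j, j < 40000 → ∃ r, checkFact cert j r = true :=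
  upto_step cert upto_39 ju_39 1000 len_39 chk_39

theorem upto_41 : ∀ j, j < 41000 → ∃ r, checkFact cert j r = true :=
  upto_step cert upto_40 ju_40 1000 len_40 chk_40

theorem upto_42 : ∀ j, j < 42000 → ∃ r, checkFact cert j r = true :=
  upto_step cert upto_41 ju_41 1000 len_41 chk_41

theorem upto_43 : ∀ j, j < 43000 → ∃ r, checkFact cert j r = true :=
  upto_step cert upto_42 ju_42 1000 len_42 chk_42

theorem upto_44 : ∀ j, j < 44000 → ∃ r, checkFact cert j r = true :=
  upto_step cert upto_43 ju_43 1000 len_43 chk_43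

theorem upto_45 : ∀ j, j < 45000 → ∃ r, checkFact cert j r = true :=
  upto_step cert upto_44 ju_44 1000 len_44 chk_44

theorem upto_46 : ∀ j, j < 46000 → ∃ r, checkFact cert j r = true :=
  upto_step cert upto_45 ju_45 1000 len_45 chk_45

theorem upto_47 : ∀ j, j < 47000 → ∃ r, checkFact cert j r = true :=
  upto_step cert upto_46 ju_46 1000 len_46 chk_46

theorem upto_48 : ∀ j, j < 48000 → ∃ r, checkFact cert j r = true :=
  upto_step cert upto_47 ju_47 1000 len_47 chk_47

theorem upto_49 : ∀ j, j < 49000 → ∃ r, checkFact cert j r = true :=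
  upto_step cert upto_48 ju_48 1000 len_48 chk_48

theorem upto_50 : ∀ j, j < 50000 → ∃ r, checkFact cert j r = true :=
  upto_step cert upto_49 ju_49 1000 len_49 chk_49

theorem upto_51 : ∀ j, j < 51000 → ∃ r, checkFact cert j r = true :=
  upto_step cert upto_50 ju_50 1000 len_50 chk_50

theorem upto_52 : ∀ j, j < 52000 → ∃ r, checkFact cert j r = true :=
  upto_step cert upto_51 ju_51 1000 len_51 chk_51

theorem upto_53 : ∀ j, j < 53000 → ∃ r, checkFact cert j r = true :=
  upto_step cert upto_52 ju_52 1000 len_52 chk_52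

theorem upto_54 : ∀ j, j < 54000 → ∃ r, checkFact cert j r = true :=
  upto_step cert upto_53 ju_53 1000 len_53 chk_53

theorem upto_55 : ∀ j, j < 55000 → ∃ r, checkFact cert j r = true :=
  upto_step cert upto_54 ju_54 1000 len_54 chk_54

theorem upto_56 : ∀ j, j < 56000 → ∃ r, checkFact cert j r = true :=
  upto_step cert upto_55 ju_55 1000 len_55 chk_55

theorem upto_57 : ∀ j, j < 57000 → ∃ r, checkFact cert j r = true :=
  upto_step cert upto_56 ju_56 1000 len_56 chk_56

theorem upto_58 : ∀ j, j < 58000 → ∃ r, checkFact cert j r = true :=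
  upto_step cert upto_57 ju_57 1000 len_57 chk_57

theorem upto_59 : ∀ j, j < 59000 → ∃ r, checkFact cert j r = true :=
  upto_step cert upto_58 ju_58 1000 len_58 chk_58

theorem upto_60 : ∀ j, j < 60000 → ∃ r, checkFact cert j r = true :=
  upto_step cert upto_59 ju_59 1000 len_59 chk_59

theorem upto_61 : ∀ j, j < 61000 → ∃ r, checkFact cert j r = true :=
  upto_step cert upto_60 ju_60 1000 len_60 chk_60

theorem upto_62 : ∀ j, j < 62000 → ∃ r, checkFact cert j r = true :=
  upto_step cert upto_61 ju_61 1000 len_61 chk_61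

theorem upto_63 : ∀ j, j < 63000 → ∃ r, checkFact cert j r = true :=
  upto_step cert upto_62 ju_62 1000 len_62 chk_62

theorem upto_64 : ∀ j, j < 64000 → ∃ r, checkFact cert j r = true :=
  upto_step cert upto_63 ju_63 1000 len_63 chk_63

theorem upto_65 : ∀ j, j < 65000 → ∃ r, checkFact cert j r = true :=
  upto_step cert upto_64 ju_64 1000 len_64 chk_64

theorem upto_66 : ∀ j, j < 66000 → ∃ r, checkFact cert j r = true :=
  upto_step cert upto_65 ju_65 1000 len_65 chk_65

theorem upto_67 : ∀ j, j < 67000 → ∃ r, checkFact cert j r = true :=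
  upto_step cert upto_66 ju_66 1000 len_66 chk_66

theorem upto_68 : ∀ j, j < 68000 → ∃ r, checkFact cert j r = true :=
  upto_step cert upto_67 ju_67 1000 len_67 chk_67

theorem upto_69 : ∀ j, j < 69000 → ∃ r, checkFact cert j r = true :=
  upto_step cert upto_68 ju_68 1000 len_68 chk_68

theorem upto_70 : ∀ j, j < 70000 → ∃ r, checkFact cert j r = true :=
  upto_step cert upto_69 ju_69 1000 len_69 chk_69

theorem upto_71 : ∀ j, j < 71000 → ∃ r, checkFact cert j r = true :=
  upto_step cert upto_70 ju_70 1000 len_70 chk_70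

theorem upto_72 : ∀ j, j < 72000 → ∃ r, checkFact cert j r = true :=
  upto_step cert upto_71 ju_71 1000 len_71 chk_71

theorem upto_73 : ∀ j, j < 73000 → ∃ r, checkFact cert j r = true :=
  upto_step cert upto_72 ju_72 1000 len_72 chk_72

theorem upto_74 : ∀ j, j < 74000 → ∃ r, checkFact cert j r = true :=
  upto_step cert upto_73 ju_73 1000 len_73 chk_73

theorem upto_75 : ∀ j, j < 75000 → ∃ r, checkFact cert j r = true :=
  upto_step cert upto_74 ju_74 1000 len_74 chk_74

theorem upto_76 : ∀ j, j < 76000 → ∃ r, checkFact cert j r = true :=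
  upto_step cert upto_75 ju_75 1000 len_75 chk_75

theorem upto_77 : ∀ j, j < 77000 → ∃ r, checkFact cert j r = true :=
  upto_step cert upto_76 ju_76 1000 len_76 chk_76

theorem upto_78 : ∀ j, j < 78000 → ∃ r, checkFact cert j r = true :=
  upto_step cert upto_77 ju_77 1000 len_77 chk_77

theorem upto_79 : ∀ j, j < 79000 → ∃ r, checkFact cert j r = true :=
  upto_step cert upto_78 ju_78 1000 len_78 chk_78

theorem upto_80 : ∀ j, j < 80000 → ∃ r, checkFact cert j r = true :=
  upto_step cert upto_79 ju_79 1000 len_79 chk_79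

theorem upto_81 : ∀ j, j < 81000 → ∃ r, checkFact cert j r = true :=
  upto_step cert upto_80 ju_80 1000 len_80 chk_80

theorem upto_82 : ∀ j, j < 82000 → ∃ r, checkFact cert j r = true :=
  upto_step cert upto_81 ju_81 1000 len_81 chk_81

theorem upto_83 : ∀ j, j < 83000 → ∃ r, checkFact cert j r = true :=
  upto_step cert upto_82 ju_82 1000 len_82 chk_82

theorem upto_84 : ∀ j, j < 84000 → ∃ r, checkFact cert j r = true :=
  upto_step cert upto_83 ju_83 1000 len_83 chk_83

theorem upto_85 : ∀ j, j < 85000 → ∃ r, checkFact cert j r = true :=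
  upto_step cert upto_84 ju_84 1000 len_84 chk_84

theorem upto_86 : ∀ j, j < 86000 → ∃ r, checkFact cert j r = true :=
  upto_step cert upto_85 ju_85 1000 len_85 chk_85

theorem upto_87 : ∀ j, j < 87000 → ∃ r, checkFact cert j r = true :=
  upto_step cert upto_86 ju_86 1000 len_86 chk_86

theorem upto_88 : ∀ j, j < 88000 → ∃ r, checkFact cert j r = true :=
  upto_step cert upto_87 ju_87 1000 len_87 chk_87

theorem upto_89 : ∀ j, j < 89000 → ∃ r, checkFact cert j r = true :=
  upto_step cert upto_88 ju_88 1000 len_88 chk_88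

theorem upto_90 : ∀ j, j < 90000 → ∃ r, checkFact cert j r = true :=
  upto_step cert upto_89 ju_89 1000 len_89 chk_89

theorem upto_91 : ∀ j, j < 91000 → ∃ r, checkFact cert j r = true :=
  upto_step cert upto_90 ju_90 1000 len_90 chk_90

theorem upto_92 : ∀ j, j < 92000 → ∃ r, checkFact cert j r = true :=
  upto_step cert upto_91 ju_91 1000 len_91 chk_91

theorem upto_93 : ∀ j, j < 93000 → ∃ r, checkFact cert j r = true :=
  upto_step cert upto_92 ju_92 1000 len_92 chk_92

theorem upto_94 : ∀ j, j < 94000 → ∃ r, checkFact cert j r = true :=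
  upto_step cert upto_93 ju_93 1000 len_93 chk_93

theorem upto_95 : ∀ j, j < 95000 → ∃ r, checkFact cert j r = true :=
  upto_step cert upto_94 ju_94 1000 len_94 chk_94

theorem upto_96 : ∀ j, j < 96000 → ∃ r, checkFact cert j r = true :=
  upto_step cert upto_95 ju_95 1000 len_95 chk_95

theorem upto_97 : ∀ j, j < 97000 → ∃ r, checkFact cert j r = true :=
  upto_step cert upto_96 ju_96 1000 len_96 chk_96

theorem upto_98 : ∀ j, j < 98000 → ∃ r, checkFact cert j r = true :=
  upto_step cert upto_97 ju_97 1000 len_97 chk_97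

theorem upto_99 : ∀ j, j < 99000 → ∃ r, checkFact cert j r = true :=
  upto_step cert upto_98 ju_98 1000 len_98 chk_98

theorem upto_100 : ∀ j, j < 100000 → ∃ r, checkFact cert j r = true :=
  upto_step cert upto_99 ju_99 1000 len_99 chk_99

theorem upto_101 : ∀ j, j < 101000 → ∃ r, checkFact cert j r = true :=
  upto_step cert upto_100 ju_100 1000 len_100 chk_100

theorem upto_102 : ∀ j, j < 102000 → ∃ r, checkFact cert j r = true :=
  upto_step cert upto_101 ju_101 1000 len_101 chk_101

theorem upto_103 : ∀ j, j < 103000 → ∃ r, checkFact cert j r = true :=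
  upto_step cert upto_102 ju_102 1000 len_102 chk_102

theorem upto_104 : ∀ j, j < 104000 → ∃ r, checkFact cert j r = true :=
  upto_step cert upto_103 ju_103 1000 len_103 chk_103

theorem upto_105 : ∀ j, j < 105000 → ∃ r, checkFact cert j r = true :=
  upto_step cert upto_104 ju_104 1000 len_104 chk_104

theorem upto_106 : ∀ j, j < 106000 → ∃ r, checkFact cert j r = true :=
  upto_step cert upto_105 ju_105 1000 len_105 chk_105

theorem upto_107 : ∀ j, j < 107000 → ∃ r, checkFact cert j r = true :=
  upto_step cert upto_106 ju_106 1000 len_106 chk_106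

theorem upto_108 : ∀ j, j < 108000 → ∃ r, checkFact cert j r = true :=
  upto_step cert upto_107 ju_107 1000 len_107 chk_107

theorem upto_109 : ∀ j, j < 109000 → ∃ r, checkFact cert j r = true :=
  upto_step cert upto_108 ju_108 1000 len_108 chk_108

theorem upto_110 : ∀ j, j < 110000 → ∃ r, checkFact cert j r = true :=
  upto_step cert upto_109 ju_109 1000 len_109 chk_109

theorem upto_111 : ∀ j, j < 111000 → ∃ r, checkFact cert j r = true :=
  upto_step cert upto_110 ju_110 1000 len_110 chk_110

theorem upto_112 : ∀ j, j < 112000 → ∃ r, checkFact cert j r = true :=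
  upto_step cert upto_111 ju_111 1000 len_111 chk_111

theorem upto_113 : ∀ j, j < 113000 → ∃ r, checkFact cert j r = true :=
  upto_step cert upto_112 ju_112 1000 len_112 chk_112

theorem upto_114 : ∀ j, j < 114000 → ∃ r, checkFact cert j r = true :=
  upto_step cert upto_113 ju_113 1000 len_113 chk_113

theorem upto_115 : ∀ j, j < 115000 → ∃ r, checkFact cert j r = true :=
  upto_step cert upto_114 ju_114 1000 len_114 chk_114

theorem upto_116 : ∀ j, j < 116000 → ∃ r, checkFact cert j r = true :=
  upto_step cert upto_115 ju_115 1000 len_115 chk_115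

theorem upto_117 : ∀ j, j < 117000 → ∃ r, checkFact cert j r = true :=
  upto_step cert upto_116 ju_116 1000 len_116 chk_116

theorem upto_118 : ∀ j, j < 118000 → ∃ r, checkFact cert j r = true :=
  upto_step cert upto_117 ju_117 1000 len_117 chk_117

theorem upto_119 : ∀ j, j < 119000 → ∃ r, checkFact cert j r = true :=
  upto_step cert upto_118 ju_118 1000 len_118 chk_118

theorem upto_120 : ∀ j, j < 120000 → ∃ r, checkFact cert j r = true :=
  upto_step cert upto_119 ju_119 1000 len_119 chk_119

theorem upto_121 : ∀ j, j < 121000 → ∃ r, checkFact cert j r = true :=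
  upto_step cert upto_120 ju_120 1000 len_120 chk_120

theorem upto_122 : ∀ j, j < 122000 → ∃ r, checkFact cert j r = true :=
  upto_step cert upto_121 ju_121 1000 len_121 chk_121

theorem upto_123 : ∀ j, j < 123000 → ∃ r, checkFact cert j r = true :=
  upto_step cert upto_122 ju_122 1000 len_122 chk_122

theorem upto_124 : ∀ j, j < 124000 → ∃ r, checkFact cert j r = true :=
  upto_step cert upto_123 ju_123 1000 len_123 chk_123

theorem upto_125 : ∀ j, j < 125000 → ∃ r, checkFact cert j r = true :=
  upto_step cert upto_124 ju_124 1000 len_124 chk_124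

theorem upto_126 : ∀ j, j < 126000 → ∃ r, checkFact cert j r = true :=
  upto_step cert upto_125 ju_125 1000 len_125 chk_125

theorem upto_127 : ∀ j, j < 127000 → ∃ r, checkFact cert j r = true :=
  upto_step cert upto_126 ju_126 1000 len_126 chk_126

theorem upto_128 : ∀ j, j < 128000 → ∃ r, checkFact cert j r = true :=
  upto_step cert upto_127 ju_127 1000 len_127 chk_127

theorem upto_129 : ∀ j, j < 129000 → ∃ r, checkFact cert j r = true :=
  upto_step cert upto_128 ju_128 1000 len_128 chk_128

theorem upto_130 : ∀ j, j < 130000 → ∃ r, checkFact cert j r = true :=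
  upto_step cert upto_129 ju_129 1000 len_129 chk_129

theorem upto_131 : ∀ j, j < 131000 → ∃ r, checkFact cert j r = true :=
  upto_step cert upto_130 ju_130 1000 len_130 chk_130

theorem upto_132 : ∀ j, j < 132000 → ∃ r, checkFact cert j r = true :=
  upto_step cert upto_131 ju_131 1000 len_131 chk_131

theorem upto_133 : ∀ j, j < 133000 → ∃ r, checkFact cert j r = true :=
  upto_step cert upto_132 ju_132 1000 len_132 chk_132

theorem upto_134 : ∀ j, j < 134000 → ∃ r, checkFact cert j r = true :=
  upto_step cert upto_133 ju_133 1000 len_133 chk_133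

theorem upto_135 : ∀ j, j < 135000 → ∃ r, checkFact cert j r = true :=
  upto_step cert upto_134 ju_134 1000 len_134 chk_134

theorem upto_136 : ∀ j, j < 136000 → ∃ r, checkFact cert j r = true :=
  upto_step cert upto_135 ju_135 1000 len_135 chk_135

theorem upto_137 : ∀ j, j < 137000 → ∃ r, checkFact cert j r = true :=
  upto_step cert upto_136 ju_136 1000 len_136 chk_136

theorem upto_138 : ∀ j, j < 138000 → ∃ r, checkFact cert j r = true :=
  upto_step cert upto_137 ju_137 1000 len_137 chk_137

theorem upto_139 : ∀ j, j < 139000 → ∃ r, checkFact cert j r = true :=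
  upto_step cert upto_138 ju_138 1000 len_138 chk_138

theorem upto_140 : ∀ j, j < 140000 → ∃ r, checkFact cert j r = true :=
  upto_step cert upto_139 ju_139 1000 len_139 chk_139

theorem upto_141 : ∀ j, j < 141000 → ∃ r, checkFact cert j r = true :=
  upto_step cert upto_140 ju_140 1000 len_140 chk_140

theorem upto_142 : ∀ j, j < 142000 → ∃ r, checkFact cert j r = true :=
  upto_step cert upto_141 ju_141 1000 len_141 chk_141

theorem upto_143 : ∀ j, j < 143000 → ∃ r, checkFact cert j r = true :=
  upto_step cert upto_142 ju_142 1000 len_142 chk_142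

theorem upto_144 : ∀ j, j < 144000 → ∃ r, checkFact cert j r = true :=
  upto_step cert upto_143 ju_143 1000 len_143 chk_143

theorem upto_145 : ∀ j, j < 145000 → ∃ r, checkFact cert j r = true :=
  upto_step cert upto_144 ju_144 1000 len_144 chk_144

theorem upto_146 : ∀ j, j < 146000 → ∃ r, checkFact cert j r = true :=
  upto_step cert upto_145 ju_145 1000 len_145 chk_145

theorem upto_147 : ∀ j, j < 147000 → ∃ r, checkFact cert j r = true :=
  upto_step cert upto_146 ju_146 1000 len_146 chk_146

theorem upto_148 : ∀ j, j < 148000 → ∃ r, checkFact cert j r = true :=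
  upto_step cert upto_147 ju_147 1000 len_147 chk_147

theorem upto_149 : ∀ j, j < 149000 → ∃ r, checkFact cert j r = true :=
  upto_step cert upto_148 ju_148 1000 len_148 chk_148

theorem upto_150 : ∀ j, j < 150000 → ∃ r, checkFact cert j r = true :=
  upto_step cert upto_149 ju_149 1000 len_149 chk_149

theorem upto_151 : ∀ j, j < 151000 → ∃ r, checkFact cert j r = true :=
  upto_step cert upto_150 ju_150 1000 len_150 chk_150

theorem upto_152 : ∀ j, j < 152000 → ∃ r, checkFact cert j r = true :=
  upto_step cert upto_151 ju_151 1000 len_151 chk_151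

theorem upto_153 : ∀ j, j < 153000 → ∃ r, checkFact cert j r = true :=
  upto_step cert upto_152 ju_152 1000 len_152 chk_152

theorem upto_154 : ∀ j, j < 154000 → ∃ r, checkFact cert j r = true :=
  upto_step cert upto_153 ju_153 1000 len_153 chk_153

theorem upto_155 : ∀ j, j < 155000 → ∃ r, checkFact cert j r = true :=
  upto_step cert upto_154 ju_154 1000 len_154 chk_154

theorem upto_156 : ∀ j, j < 156000 → ∃ r, checkFact cert j r = true :=
  upto_step cert upto_155 ju_155 1000 len_155 chk_155

theorem upto_157 : ∀ j, j < 157000 → ∃ r, checkFact cert j r = true :=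
  upto_step cert upto_156 ju_156 1000 len_156 chk_156

theorem upto_158 : ∀ j, j < 158000 → ∃ r, checkFact cert j r = true :=
  upto_step cert upto_157 ju_157 1000 len_157 chk_157

theorem upto_159 : ∀ j, j < 159000 → ∃ r, checkFact cert j r = true :=
  upto_step cert upto_158 ju_158 1000 len_158 chk_158

theorem upto_160 : ∀ j, j < 160000 → ∃ r, checkFact cert j r = true :=
  upto_step cert upto_159 ju_159 1000 len_159 chk_159

theorem upto_161 : ∀ j, j < 161000 → ∃ r, checkFact cert j r = true :=
  upto_step cert upto_160 ju_160 1000 len_160 chk_160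

theorem upto_162 : ∀ j, j < 162000 → ∃ r, checkFact cert j r = true :=
  upto_step cert upto_161 ju_161 1000 len_161 chk_161

theorem upto_163 : ∀ j, j < 163000 → ∃ r, checkFact cert j r = true :=
  upto_step cert upto_162 ju_162 1000 len_162 chk_162

theorem upto_164 : ∀ j, j < 164000 → ∃ r, checkFact cert j r = true :=
  upto_step cert upto_163 ju_163 1000 len_163 chk_163

theorem upto_165 : ∀ j, j < 165000 → ∃ r, checkFact cert j r = true :=
  upto_step cert upto_164 ju_164 1000 len_164 chk_164

theorem upto_166 : ∀ j, j < 166000 → ∃ r, checkFact cert j r = true :=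
  upto_step cert upto_165 ju_165 1000 len_165 chk_165

theorem upto_167 : ∀ j, j < 167000 → ∃ r, checkFact cert j r = true :=
  upto_step cert upto_166 ju_166 1000 len_166 chk_166

theorem upto_168 : ∀ j, j < 168000 → ∃ r, checkFact cert j r = true :=
  upto_step cert upto_167 ju_167 1000 len_167 chk_167

theorem upto_169 : ∀ j, j < 169000 → ∃ r, checkFact cert j r = true :=
  upto_step cert upto_168 ju_168 1000 len_168 chk_168

theorem upto_170 : ∀ j, j < 170000 → ∃ r, checkFact cert j r = true :=
  upto_step cert upto_169 ju_169 1000 len_169 chk_169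

theorem upto_171 : ∀ j, j < 171000 → ∃ r, checkFact cert j r = true :=
  upto_step cert upto_170 ju_170 1000 len_170 chk_170

theorem upto_172 : ∀ j, j < 172000 → ∃ r, checkFact cert j r = true :=
  upto_step cert upto_171 ju_171 1000 len_171 chk_171

theorem upto_173 : ∀ j, j < 173000 → ∃ r, checkFact cert j r = true :=
  upto_step cert upto_172 ju_172 1000 len_172 chk_172

theorem upto_174 : ∀ j, j < 174000 → ∃ r, checkFact cert j r = true :=
  upto_step cert upto_173 ju_173 1000 len_173 chk_173

theorem upto_175 : ∀ j, j < 175000 → ∃ r, checkFact cert j r = true :=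
  upto_step cert upto_174 ju_174 1000 len_174 chk_174

theorem upto_176 : ∀ j, j < 176000 → ∃ r, checkFact cert j r = true :=
  upto_step cert upto_175 ju_175 1000 len_175 chk_175

theorem upto_177 : ∀ j, j < 177000 → ∃ r, checkFact cert j r = true :=
  upto_step cert upto_176 ju_176 1000 len_176 chk_176

theorem upto_178 : ∀ j, j < 178000 → ∃ r, checkFact cert j r = true :=
  upto_step cert upto_177 ju_177 1000 len_177 chk_177

theorem upto_179 : ∀ j, j < 179000 → ∃ r, checkFact cert j r = true :=
  upto_step cert upto_178 ju_178 1000 len_178 chk_178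

theorem upto_180 : ∀ j, j < 180000 → ∃ r, checkFact cert j r = true :=
  upto_step cert upto_179 ju_179 1000 len_179 chk_179

theorem upto_181 : ∀ j, j < 181000 → ∃ r, checkFact cert j r = true :=
  upto_step cert upto_180 ju_180 1000 len_180 chk_180

theorem upto_182 : ∀ j, j < 182000 → ∃ r, checkFact cert j r = true :=
  upto_step cert upto_181 ju_181 1000 len_181 chk_181

theorem upto_183 : ∀ j, j < 183000 → ∃ r, checkFact cert j r = true :=
  upto_step cert upto_182 ju_182 1000 len_182 chk_182

theorem upto_184 : ∀ j, j < 184000 → ∃ r, checkFact cert j r = true :=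
  upto_step cert upto_183 ju_183 1000 len_183 chk_183

theorem upto_185 : ∀ j, j < 185000 → ∃ r, checkFact cert j r = true :=
  upto_step cert upto_184 ju_184 1000 len_184 chk_184

theorem upto_186 : ∀ j, j < 186000 → ∃ r, checkFact cert j r = true :=
  upto_step cert upto_185 ju_185 1000 len_185 chk_185

theorem upto_187 : ∀ j, j < 187000 → ∃ r, checkFact cert j r = true :=
  upto_step cert upto_186 ju_186 1000 len_186 chk_186

theorem upto_188 : ∀ j, j < 188000 → ∃ r, checkFact cert j r = true :=
  upto_step cert upto_187 ju_187 1000 len_187 chk_187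

theorem upto_189 : ∀ j, j < 189000 → ∃ r, checkFact cert j r = true :=
  upto_step cert upto_188 ju_188 1000 len_188 chk_188

theorem upto_190 : ∀ j, j < 190000 → ∃ r, checkFact cert j r = true :=
  upto_step cert upto_189 ju_189 1000 len_189 chk_189

theorem upto_191 : ∀ j, j < 191000 → ∃ r, checkFact cert j r = true :=
  upto_step cert upto_190 ju_190 1000 len_190 chk_190

theorem upto_192 : ∀ j, j < 192000 → ∃ r, checkFact cert j r = true :=
  upto_step cert upto_191 ju_191 1000 len_191 chk_191

theorem upto_193 : ∀ j, j < 193000 → ∃ r, checkFact cert j r = true :=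
  upto_step cert upto_192 ju_192 1000 len_192 chk_192

theorem upto_194 : ∀ j, j < 194000 → ∃ r, checkFact cert j r = true :=
  upto_step cert upto_193 ju_193 1000 len_193 chk_193

theorem upto_195 : ∀ j, j < 195000 → ∃ r, checkFact cert j r = true :=
  upto_step cert upto_194 ju_194 1000 len_194 chk_194

theorem upto_196 : ∀ j, j < 196000 → ∃ r, checkFact cert j r = true :=
  upto_step cert upto_195 ju_195 1000 len_195 chk_195

theorem upto_197 : ∀ j, j < 197000 → ∃ r, checkFact cert j r = true :=
  upto_step cert upto_196 ju_196 1000 len_196 chk_196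

theorem upto_198 : ∀ j, j < 198000 → ∃ r, checkFact cert j r = true :=
  upto_step cert upto_197 ju_197 1000 len_197 chk_197

theorem upto_199 : ∀ j, j < 199000 → ∃ r, checkFact cert j r = true :=
  upto_step cert upto_198 ju_198 1000 len_198 chk_198

theorem upto_200 : ∀ j, j < 200000 → ∃ r, checkFact cert j r = true :=
  upto_step cert upto_199 ju_199 1000 len_199 chk_199

theorem upto_201 : ∀ j, j < 201000 → ∃ r, checkFact cert j r = true :=
  upto_step cert upto_200 ju_200 1000 len_200 chk_200

theorem upto_202 : ∀ j, j < 202000 → ∃ r, checkFact cert j r = true :=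
  upto_step cert upto_201 ju_201 1000 len_201 chk_201

theorem upto_203 : ∀ j, j < 203000 → ∃ r, checkFact cert j r = true :=
  upto_step cert upto_202 ju_202 1000 len_202 chk_202

theorem upto_204 : ∀ j, j < 204000 → ∃ r, checkFact cert j r = true :=
  upto_step cert upto_203 ju_203 1000 len_203 chk_203

theorem upto_205 : ∀ j, j < 205000 → ∃ r, checkFact cert j r = true :=
  upto_step cert upto_204 ju_204 1000 len_204 chk_204

theorem upto_206 : ∀ j, j < 206000 → ∃ r, checkFact cert j r = true :=
  upto_step cert upto_205 ju_205 1000 len_205 chk_205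

theorem upto_207 : ∀ j, j < 207000 → ∃ r, checkFact cert j r = true :=
  upto_step cert upto_206 ju_206 1000 len_206 chk_206

theorem upto_208 : ∀ j, j < 208000 → ∃ r, checkFact cert j r = true :=
  upto_step cert upto_207 ju_207 1000 len_207 chk_207

theorem upto_209 : ∀ j, j < 209000 → ∃ r, checkFact cert j r = true :=
  upto_step cert upto_208 ju_208 1000 len_208 chk_208

theorem upto_210 : ∀ j, j < 210000 → ∃ r, checkFact cert j r = true :=
  upto_step cert upto_209 ju_209 1000 len_209 chk_209

theorem upto_211 : ∀ j, j < 211000 → ∃ r, checkFact cert j r = true :=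
  upto_step cert upto_210 ju_210 1000 len_210 chk_210

theorem upto_212 : ∀ j, j < 212000 → ∃ r, checkFact cert j r = true :=
  upto_step cert upto_211 ju_211 1000 len_211 chk_211

theorem upto_213 : ∀ j, j < 213000 → ∃ r, checkFact cert j r = true :=
  upto_step cert upto_212 ju_212 1000 len_212 chk_212

theorem upto_214 : ∀ j, j < 214000 → ∃ r, checkFact cert j r = true :=
  upto_step cert upto_213 ju_213 1000 len_213 chk_213

theorem upto_215 : ∀ j, j < 215000 → ∃ r, checkFact cert j r = true :=
  upto_step cert upto_214 ju_214 1000 len_214 chk_214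

theorem upto_216 : ∀ j, j < 216000 → ∃ r, checkFact cert j r = true :=
  upto_step cert upto_215 ju_215 1000 len_215 chk_215

theorem upto_217 : ∀ j, j < 217000 → ∃ r, checkFact cert j r = true :=
  upto_step cert upto_216 ju_216 1000 len_216 chk_216

theorem upto_218 : ∀ j, j < 218000 → ∃ r, checkFact cert j r = true :=
  upto_step cert upto_217 ju_217 1000 len_217 chk_217

theorem upto_219 : ∀ j, j < 219000 → ∃ r, checkFact cert j r = true :=
  upto_step cert upto_218 ju_218 1000 len_218 chk_218

theorem upto_220 : ∀ j, j < 220000 → ∃ r, checkFact cert j r = true :=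
  upto_step cert upto_219 ju_219 1000 len_219 chk_219

theorem upto_221 : ∀ j, j < 221000 → ∃ r, checkFact cert j r = true :=
  upto_step cert upto_220 ju_220 1000 len_220 chk_220

theorem upto_222 : ∀ j, j < 222000 → ∃ r, checkFact cert j r = true :=
  upto_step cert upto_221 ju_221 1000 len_221 chk_221

theorem upto_223 : ∀ j, j < 223000 → ∃ r, checkFact cert j r = true :=
  upto_step cert upto_222 ju_222 1000 len_222 chk_222

theorem upto_224 : ∀ j, j < 224000 → ∃ r, checkFact cert j r = true :=
  upto_step cert upto_223 ju_223 1000 len_223 chk_223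

theorem upto_225 : ∀ j, j < 225000 → ∃ r, checkFact cert j r = true :=
  upto_step cert upto_224 ju_224 1000 len_224 chk_224

theorem upto_226 : ∀ j, j < 226000 → ∃ r, checkFact cert j r = true :=
  upto_step cert upto_225 ju_225 1000 len_225 chk_225

theorem upto_227 : ∀ j, j < 227000 → ∃ r, checkFact cert j r = true :=
  upto_step cert upto_226 ju_226 1000 len_226 chk_226

theorem upto_228 : ∀ j, j < 228000 → ∃ r, checkFact cert j r = true :=
  upto_step cert upto_227 ju_227 1000 len_227 chk_227

theorem upto_229 : ∀ j, j < 229000 → ∃ r, checkFact cert j r = true :=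
  upto_step cert upto_228 ju_228 1000 len_228 chk_228

theorem upto_230 : ∀ j, j < 230000 → ∃ r, checkFact cert j r = true :=
  upto_step cert upto_229 ju_229 1000 len_229 chk_229

theorem upto_231 : ∀ j, j < 231000 → ∃ r, checkFact cert j r = true :=
  upto_step cert upto_230 ju_230 1000 len_230 chk_230

theorem upto_232 : ∀ j, j < 232000 → ∃ r, checkFact cert j r = true :=
  upto_step cert upto_231 ju_231 1000 len_231 chk_231

theorem upto_233 : ∀ j, j < 233000 → ∃ r, checkFact cert j r = true :=
  upto_step cert upto_232 ju_232 1000 len_232 chk_232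

theorem upto_234 : ∀ j, j < 234000 → ∃ r, checkFact cert j r = true :=
  upto_step cert upto_233 ju_233 1000 len_233 chk_233

theorem upto_235 : ∀ j, j < 235000 → ∃ r, checkFact cert j r = true :=
  upto_step cert upto_234 ju_234 1000 len_234 chk_234

theorem upto_236 : ∀ j, j < 236000 → ∃ r, checkFact cert j r = true :=
  upto_step cert upto_235 ju_235 1000 len_235 chk_235

theorem upto_237 : ∀ j, j < 237000 → ∃ r, checkFact cert j r = true :=
  upto_step cert upto_236 ju_236 1000 len_236 chk_236

theorem upto_238 : ∀ j, j < 238000 → ∃ r, checkFact cert j r = true :=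
  upto_step cert upto_237 ju_237 1000 len_237 chk_237

theorem upto_239 : ∀ j, j < 239000 → ∃ r, checkFact cert j r = true :=
  upto_step cert upto_238 ju_238 1000 len_238 chk_238

theorem upto_240 : ∀ j, j < 240000 → ∃ r, checkFact cert j r = true :=
  upto_step cert upto_239 ju_239 1000 len_239 chk_239

theorem upto_241 : ∀ j, j < 241000 → ∃ r, checkFact cert j r = true :=
  upto_step cert upto_240 ju_240 1000 len_240 chk_240

theorem upto_242 : ∀ j, j < 242000 → ∃ r, checkFact cert j r = true :=
  upto_step cert upto_241 ju_241 1000 len_241 chk_241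

theorem upto_243 : ∀ j, j < 243000 → ∃ r, checkFact cert j r = true :=
  upto_step cert upto_242 ju_242 1000 len_242 chk_242

theorem upto_244 : ∀ j, j < 244000 → ∃ r, checkFact cert j r = true :=
  upto_step cert upto_243 ju_243 1000 len_243 chk_243

theorem upto_245 : ∀ j, j < 245000 → ∃ r, checkFact cert j r = true :=
  upto_step cert upto_244 ju_244 1000 len_244 chk_244

theorem upto_246 : ∀ j, j < 246000 → ∃ r, checkFact cert j r = true :=
  upto_step cert upto_245 ju_245 1000 len_245 chk_245

theorem upto_247 : ∀ j, j < 247000 → ∃ r, checkFact cert j r = true :=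
  upto_step cert upto_246 ju_246 1000 len_246 chk_246

theorem upto_248 : ∀ j, j < 248000 → ∃ r, checkFact cert j r = true :=
  upto_step cert upto_247 ju_247 1000 len_247 chk_247

theorem upto_249 : ∀ j, j < 249000 → ∃ r, checkFact cert j r = true :=
  upto_step cert upto_248 ju_248 1000 len_248 chk_248

theorem upto_250 : ∀ j, j < 250000 → ∃ r, checkFact cert j r = true :=
  upto_step cert upto_249 ju_249 1000 len_249 chk_249

theorem upto_251 : ∀ j, j < 251000 → ∃ r, checkFact cert j r = true :=
  upto_step cert upto_250 ju_250 1000 len_250 chk_250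

theorem upto_252 : ∀ j, j < 252000 → ∃ r, checkFact cert j r = true :=
  upto_step cert upto_251 ju_251 1000 len_251 chk_251

theorem upto_253 : ∀ j, j < 253000 → ∃ r, checkFact cert j r = true :=
  upto_step cert upto_252 ju_252 1000 len_252 chk_252

theorem upto_254 : ∀ j, j < 254000 → ∃ r, checkFact cert j r = true :=
  upto_step cert upto_253 ju_253 1000 len_253 chk_253

theorem upto_255 : ∀ j, j < 255000 → ∃ r, checkFact cert j r = true :=
  upto_step cert upto_254 ju_254 1000 len_254 chk_254

theorem upto_256 : ∀ j, j < 256000 → ∃ r, checkFact cert j r = true :=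
  upto_step cert upto_255 ju_255 1000 len_255 chk_255

theorem upto_257 : ∀ j, j < 257000 → ∃ r, checkFact cert j r = true :=
  upto_step cert upto_256 ju_256 1000 len_256 chk_256

theorem upto_258 : ∀ j, j < 258000 → ∃ r, checkFact cert j r = true :=
  upto_step cert upto_257 ju_257 1000 len_257 chk_257

theorem upto_259 : ∀ j, j < 259000 → ∃ r, checkFact cert j r = true :=
  upto_step cert upto_258 ju_258 1000 len_258 chk_258

theorem upto_260 : ∀ j, j < 260000 → ∃ r, checkFact cert j r = true :=
  upto_step cert upto_259 ju_259 1000 len_259 chk_259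

theorem upto_261 : ∀ j, j < 261000 → ∃ r, checkFact cert j r = true :=
  upto_step cert upto_260 ju_260 1000 len_260 chk_260

theorem upto_262 : ∀ j, j < 262000 → ∃ r, checkFact cert j r = true :=
  upto_step cert upto_261 ju_261 1000 len_261 chk_261

theorem upto_263 : ∀ j, j < 263000 → ∃ r, checkFact cert j r = true :=
  upto_step cert upto_262 ju_262 1000 len_262 chk_262

theorem upto_264 : ∀ j, j < 264000 → ∃ r, checkFact cert j r = true :=
  upto_step cert upto_263 ju_263 1000 len_263 chk_263

theorem upto_265 : ∀ j, j < 265000 → ∃ r, checkFact cert j r = true :=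
  upto_step cert upto_264 ju_264 1000 len_264 chk_264

theorem upto_266 : ∀ j, j < 266000 → ∃ r, checkFact cert j r = true :=
  upto_step cert upto_265 ju_265 1000 len_265 chk_265

theorem upto_267 : ∀ j, j < 267000 → ∃ r, checkFact cert j r = true :=
  upto_step cert upto_266 ju_266 1000 len_266 chk_266

theorem upto_268 : ∀ j, j < 268000 → ∃ r, checkFact cert j r = true :=
  upto_step cert upto_267 ju_267 1000 len_267 chk_267

theorem upto_269 : ∀ j, j < 269000 → ∃ r, checkFact cert j r = true :=
  upto_step cert upto_268 ju_268 1000 len_268 chk_268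

theorem upto_270 : ∀ j, j < 270000 → ∃ r, checkFact cert j r = true :=
  upto_step cert upto_269 ju_269 1000 len_269 chk_269

theorem upto_271 : ∀ j, j < 271000 → ∃ r, checkFact cert j r = true :=
  upto_step cert upto_270 ju_270 1000 len_270 chk_270

theorem upto_272 : ∀ j, j < 272000 → ∃ r, checkFact cert j r = true :=
  upto_step cert upto_271 ju_271 1000 len_271 chk_271

theorem upto_273 : ∀ j, j < 273000 → ∃ r, checkFact cert j r = true :=
  upto_step cert upto_272 ju_272 1000 len_272 chk_272

theorem upto_274 : ∀ j, j < 274000 → ∃ r, checkFact cert j r = true :=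
  upto_step cert upto_273 ju_273 1000 len_273 chk_273

theorem upto_275 : ∀ j, j < 275000 → ∃ r, checkFact cert j r = true :=
  upto_step cert upto_274 ju_274 1000 len_274 chk_274

theorem upto_276 : ∀ j, j < 276000 → ∃ r, checkFact cert j r = true :=
  upto_step cert upto_275 ju_275 1000 len_275 chk_275

theorem upto_277 : ∀ j, j < 277000 → ∃ r, checkFact cert j r = true :=
  upto_step cert upto_276 ju_276 1000 len_276 chk_276

theorem upto_278 : ∀ j, j < 278000 → ∃ r, checkFact cert j r = true :=
  upto_step cert upto_277 ju_277 1000 len_277 chk_277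

theorem upto_279 : ∀ j, j < 279000 → ∃ r, checkFact cert j r = true :=
  upto_step cert upto_278 ju_278 1000 len_278 chk_278

theorem upto_280 : ∀ j, j < 280000 → ∃ r, checkFact cert j r = true :=
  upto_step cert upto_279 ju_279 1000 len_279 chk_279

theorem upto_281 : ∀ j, j < 281000 → ∃ r, checkFact cert j r = true :=
  upto_step cert upto_280 ju_280 1000 len_280 chk_280

theorem upto_282 : ∀ j, j < 282000 → ∃ r, checkFact cert j r = true :=
  upto_step cert upto_281 ju_281 1000 len_281 chk_281

theorem upto_283 : ∀ j, j < 283000 → ∃ r, checkFact cert j r = true :=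
  upto_step cert upto_282 ju_282 1000 len_282 chk_282

theorem upto_284 : ∀ j, j < 284000 → ∃ r, checkFact cert j r = true :=
  upto_step cert upto_283 ju_283 1000 len_283 chk_283

theorem upto_285 : ∀ j, j < 285000 → ∃ r, checkFact cert j r = true :=
  upto_step cert upto_284 ju_284 1000 len_284 chk_284

theorem upto_286 : ∀ j, j < 286000 → ∃ r, checkFact cert j r = true :=
  upto_step cert upto_285 ju_285 1000 len_285 chk_285

theorem upto_287 : ∀ j, j < 287000 → ∃ r, checkFact cert j r = true :=
  upto_step cert upto_286 ju_286 1000 len_286 chk_286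

theorem upto_288 : ∀ j, j < 288000 → ∃ r, checkFact cert j r = true :=
  upto_step cert upto_287 ju_287 1000 len_287 chk_287

theorem upto_289 : ∀ j, j < 289000 → ∃ r, checkFact cert j r = true :=
  upto_step cert upto_288 ju_288 1000 len_288 chk_288

theorem upto_290 : ∀ j, j < 290000 → ∃ r, checkFact cert j r = true :=
  upto_step cert upto_289 ju_289 1000 len_289 chk_289

theorem upto_291 : ∀ j, j < 291000 → ∃ r, checkFact cert j r = true :=
  upto_step cert upto_290 ju_290 1000 len_290 chk_290

theorem upto_292 : ∀ j, j < 292000 → ∃ r, checkFact cert j r = true :=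
  upto_step cert upto_291 ju_291 1000 len_291 chk_291

theorem upto_293 : ∀ j, j < 293000 → ∃ r, checkFact cert j r = true :=
  upto_step cert upto_292 ju_292 1000 len_292 chk_292

theorem upto_294 : ∀ j, j < 294000 → ∃ r, checkFact cert j r = true :=
  upto_step cert upto_293 ju_293 1000 len_293 chk_293

theorem upto_295 : ∀ j, j < 295000 → ∃ r, checkFact cert j r = true :=
  upto_step cert upto_294 ju_294 1000 len_294 chk_294

theorem upto_296 : ∀ j, j < 296000 → ∃ r, checkFact cert j r = true :=
  upto_step cert upto_295 ju_295 1000 len_295 chk_295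

theorem upto_297 : ∀ j, j < 297000 → ∃ r, checkFact cert j r = true :=
  upto_step cert upto_296 ju_296 1000 len_296 chk_296

theorem upto_298 : ∀ j, j < 298000 → ∃ r, checkFact cert j r = true :=
  upto_step cert upto_297 ju_297 1000 len_297 chk_297

theorem upto_299 : ∀ j, j < 299000 → ∃ r, checkFact cert j r = true :=
  upto_step cert upto_298 ju_298 1000 len_298 chk_298

theorem upto_300 : ∀ j, j < 300000 → ∃ r, checkFact cert j r = true :=
  upto_step cert upto_299 ju_299 1000 len_299 chk_299

theorem upto_301 : ∀ j, j < 301000 → ∃ r, checkFact cert j r = true :=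
  upto_step cert upto_300 ju_300 1000 len_300 chk_300

theorem upto_302 : ∀ j, j < 302000 → ∃ r, checkFact cert j r = true :=
  upto_step cert upto_301 ju_301 1000 len_301 chk_301

theorem upto_303 : ∀ j, j < 303000 → ∃ r, checkFact cert j r = true :=
  upto_step cert upto_302 ju_302 1000 len_302 chk_302

theorem upto_304 : ∀ j, j < 304000 → ∃ r, checkFact cert j r = true :=
  upto_step cert upto_303 ju_303 1000 len_303 chk_303

theorem upto_305 : ∀ j, j < 305000 → ∃ r, checkFact cert j r = true :=
  upto_step cert upto_304 ju_304 1000 len_304 chk_304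

theorem upto_306 : ∀ j, j < 306000 → ∃ r, checkFact cert j r = true :=
  upto_step cert upto_305 ju_305 1000 len_305 chk_305

theorem upto_307 : ∀ j, j < 307000 → ∃ r, checkFact cert j r = true :=
  upto_step cert upto_306 ju_306 1000 len_306 chk_306

theorem upto_308 : ∀ j, j < 308000 → ∃ r, checkFact cert j r = true :=
  upto_step cert upto_307 ju_307 1000 len_307 chk_307

theorem upto_309 : ∀ j, j < 309000 → ∃ r, checkFact cert j r = true :=
  upto_step cert upto_308 ju_308 1000 len_308 chk_308

theorem upto_310 : ∀ j, j < 310000 → ∃ r, checkFact cert j r = true :=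
  upto_step cert upto_309 ju_309 1000 len_309 chk_309

theorem upto_311 : ∀ j, j < 311000 → ∃ r, checkFact cert j r = true :=
  upto_step cert upto_310 ju_310 1000 len_310 chk_310

theorem upto_312 : ∀ j, j < 312000 → ∃ r, checkFact cert j r = true :=
  upto_step cert upto_311 ju_311 1000 len_311 chk_311

theorem upto_313 : ∀ j, j < 313000 → ∃ r, checkFact cert j r = true :=
  upto_step cert upto_312 ju_312 1000 len_312 chk_312

theorem upto_314 : ∀ j, j < 314000 → ∃ r, checkFact cert j r = true :=
  upto_step cert upto_313 ju_313 1000 len_313 chk_313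

theorem upto_315 : ∀ j, j < 315000 → ∃ r, checkFact cert j r = true :=
  upto_step cert upto_314 ju_314 1000 len_314 chk_314

theorem upto_316 : ∀ j, j < 316000 → ∃ r, checkFact cert j r = true :=
  upto_step cert upto_315 ju_315 1000 len_315 chk_315

theorem upto_317 : ∀ j, j < 317000 → ∃ r, checkFact cert j r = true :=
  upto_step cert upto_316 ju_316 1000 len_316 chk_316

theorem upto_318 : ∀ j, j < 318000 → ∃ r, checkFact cert j r = true :=
  upto_step cert upto_317 ju_317 1000 len_317 chk_317

theorem upto_319 : ∀ j, j < 319000 → ∃ r, checkFact cert j r = true :=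
  upto_step cert upto_318 ju_318 1000 len_318 chk_318

theorem upto_320 : ∀ j, j < 320000 → ∃ r, checkFact cert j r = true :=
  upto_step cert upto_319 ju_319 1000 len_319 chk_319

theorem upto_321 : ∀ j, j < 321000 → ∃ r, checkFact cert j r = true :=
  upto_step cert upto_320 ju_320 1000 len_320 chk_320

theorem upto_322 : ∀ j, j < 322000 → ∃ r, checkFact cert j r = true :=
  upto_step cert upto_321 ju_321 1000 len_321 chk_321

theorem upto_323 : ∀ j, j < 323000 → ∃ r, checkFact cert j r = true :=
  upto_step cert upto_322 ju_322 1000 len_322 chk_322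

theorem upto_324 : ∀ j, j < 324000 → ∃ r, checkFact cert j r = true :=
  upto_step cert upto_323 ju_323 1000 len_323 chk_323

theorem upto_325 : ∀ j, j < 325000 → ∃ r, checkFact cert j r = true :=
  upto_step cert upto_324 ju_324 1000 len_324 chk_324

theorem upto_326 : ∀ j, j < 326000 → ∃ r, checkFact cert j r = true :=
  upto_step cert upto_325 ju_325 1000 len_325 chk_325

theorem upto_327 : ∀ j, j < 327000 → ∃ r, checkFact cert j r = true :=
  upto_step cert upto_326 ju_326 1000 len_326 chk_326

theorem upto_328 : ∀ j, j < 328000 → ∃ r, checkFact cert j r = true :=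
  upto_step cert upto_327 ju_327 1000 len_327 chk_327

theorem upto_329 : ∀ j, j < 329000 → ∃ r, checkFact cert j r = true :=
  upto_step cert upto_328 ju_328 1000 len_328 chk_328

theorem upto_330 : ∀ j, j < 330000 → ∃ r, checkFact cert j r = true :=
  upto_step cert upto_329 ju_329 1000 len_329 chk_329

theorem upto_331 : ∀ j, j < 331000 → ∃ r, checkFact cert j r = true :=
  upto_step cert upto_330 ju_330 1000 len_330 chk_330

theorem upto_332 : ∀ j, j < 332000 → ∃ r, checkFact cert j r = true :=
  upto_step cert upto_331 ju_331 1000 len_331 chk_331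

theorem upto_333 : ∀ j, j < 333000 → ∃ r, checkFact cert j r = true :=
  upto_step cert upto_332 ju_332 1000 len_332 chk_332

theorem upto_334 : ∀ j, j < 334000 → ∃ r, checkFact cert j r = true :=
  upto_step cert upto_333 ju_333 1000 len_333 chk_333

theorem upto_335 : ∀ j, j < 335000 → ∃ r, checkFact cert j r = true :=
  upto_step cert upto_334 ju_334 1000 len_334 chk_334

theorem upto_336 : ∀ j, j < 336000 → ∃ r, checkFact cert j r = true :=
  upto_step cert upto_335 ju_335 1000 len_335 chk_335

theorem upto_337 : ∀ j, j < 337000 → ∃ r, checkFact cert j r = true :=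
  upto_step cert upto_336 ju_336 1000 len_336 chk_336

theorem upto_338 : ∀ j, j < 338000 → ∃ r, checkFact cert j r = true :=
  upto_step cert upto_337 ju_337 1000 len_337 chk_337

theorem upto_339 : ∀ j, j < 339000 → ∃ r, checkFact cert j r = true :=
  upto_step cert upto_338 ju_338 1000 len_338 chk_338

theorem upto_340 : ∀ j, j < 340000 → ∃ r, checkFact cert j r = true :=
  upto_step cert upto_339 ju_339 1000 len_339 chk_339

theorem upto_341 : ∀ j, j < 341000 → ∃ r, checkFact cert j r = true :=
  upto_step cert upto_340 ju_340 1000 len_340 chk_340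

theorem upto_342 : ∀ j, j < 342000 → ∃ r, checkFact cert j r = true :=
  upto_step cert upto_341 ju_341 1000 len_341 chk_341

theorem upto_343 : ∀ j, j < 343000 → ∃ r, checkFact cert j r = true :=
  upto_step cert upto_342 ju_342 1000 len_342 chk_342

theorem upto_344 : ∀ j, j < 344000 → ∃ r, checkFact cert j r = true :=
  upto_step cert upto_343 ju_343 1000 len_343 chk_343

theorem upto_345 : ∀ j, j < 345000 → ∃ r, checkFact cert j r = true :=
  upto_step cert upto_344 ju_344 1000 len_344 chk_344

theorem upto_346 : ∀ j, j < 346000 → ∃ r, checkFact cert j r = true :=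
  upto_step cert upto_345 ju_345 1000 len_345 chk_345

theorem upto_347 : ∀ j, j < 347000 → ∃ r, checkFact cert j r = true :=
  upto_step cert upto_346 ju_346 1000 len_346 chk_346

theorem upto_348 : ∀ j, j < 348000 → ∃ r, checkFact cert j r = true :=
  upto_step cert upto_347 ju_347 1000 len_347 chk_347

theorem upto_349 : ∀ j, j < 349000 → ∃ r, checkFact cert j r = true :=
  upto_step cert upto_348 ju_348 1000 len_348 chk_348

theorem upto_350 : ∀ j, j < 350000 → ∃ r, checkFact cert j r = true :=
  upto_step cert upto_349 ju_349 1000 len_349 chk_349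

theorem upto_351 : ∀ j, j < 351000 → ∃ r, checkFact cert j r = true :=
  upto_step cert upto_350 ju_350 1000 len_350 chk_350

theorem upto_352 : ∀ j, j < 352000 → ∃ r, checkFact cert j r = true :=
  upto_step cert upto_351 ju_351 1000 len_351 chk_351

theorem upto_353 : ∀ j, j < 353000 → ∃ r, checkFact cert j r = true :=
  upto_step cert upto_352 ju_352 1000 len_352 chk_352

theorem upto_354 : ∀ j, j < 354000 → ∃ r, checkFact cert j r = true :=
  upto_step cert upto_353 ju_353 1000 len_353 chk_353

theorem upto_355 : ∀ j, j < 355000 → ∃ r, checkFact cert j r = true :=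
  upto_step cert upto_354 ju_354 1000 len_354 chk_354

theorem upto_356 : ∀ j, j < 356000 → ∃ r, checkFact cert j r = true :=
  upto_step cert upto_355 ju_355 1000 len_355 chk_355

theorem upto_357 : ∀ j, j < 356990 → ∃ r, checkFact cert j r = true :=
  upto_step cert upto_356 ju_356 990 len_356 chk_356

theorem hchk : ∀ j, j < cert.nf → ∃ r, checkFact cert j r = true := upto_357

theorem rowsto_0 : ∀ n, n < 0 → ∀ x, x < cert.k → tabEntryOK cert tab n x = true :=
  fun n hn => absurd hn (by omega)

theorem rowsto_1 : ∀ n, n < 4000 → ∀ x, x < cert.k → tabEntryOK cert tab n x = true :=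
  rows_step cert tab rowsto_0 4000 rows_0

theorem rowsto_2 : ∀ n, n < 8000 → ∀ x, x < cert.k → tabEntryOK cert tab n x = true :=
  rows_step cert tab rowsto_1 4000 rows_1

theorem rowsto_3 : ∀ n, n < 12000 → ∀ x, x < cert.k → tabEntryOK cert tab n x = true :=
  rows_step cert tab rowsto_2 4000 rows_2

theorem rowsto_4 : ∀ n, n < 16000 → ∀ x, x < cert.k → tabEntryOK cert tab n x = true :=
  rows_step cert tab rowsto_3 4000 rows_3

theorem rowsto_5 : ∀ n, n < 20000 → ∀ x, x < cert.k → tabEntryOK cert tab n x = true :=
  rows_step cert tab rowsto_4 4000 rows_4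

theorem rowsto_6 : ∀ n, n < 24000 → ∀ x, x < cert.k → tabEntryOK cert tab n x = true :=
  rows_step cert tab rowsto_5 4000 rows_5

theorem rowsto_7 : ∀ n, n < 28000 → ∀ x, x < cert.k → tabEntryOK cert tab n x = true :=
  rows_step cert tab rowsto_6 4000 rows_6

theorem rowsto_8 : ∀ n, n < 32000 → ∀ x, x < cert.k → tabEntryOK cert tab n x = true :=
  rows_step cert tab rowsto_7 4000 rows_7

theorem rowsto_9 : ∀ n, n < 36000 → ∀ x, x < cert.k → tabEntryOK cert tab n x = true :=
  rows_step cert tab rowsto_8 4000 rows_8

theorem rowsto_10 : ∀ n, n < 40000 → ∀ x, x < cert.k → tabEntryOK cert tab n x = true :=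
  rows_step cert tab rowsto_9 4000 rows_9

theorem rowsto_11 : ∀ n, n < 44000 → ∀ x, x < cert.k → tabEntryOK cert tab n x = true :=
  rows_step cert tab rowsto_10 4000 rows_10

theorem rowsto_12 : ∀ n, n < 48000 → ∀ x, x < cert.k → tabEntryOK cert tab n x = true :=
  rows_step cert tab rowsto_11 4000 rows_11

theorem rowsto_13 : ∀ n, n < 52000 → ∀ x, x < cert.k → tabEntryOK cert tab n x = true :=
  rows_step cert tab rowsto_12 4000 rows_12

theorem rowsto_14 : ∀ n, n < 56000 → ∀ x, x < cert.k → tabEntryOK cert tab n x = true :=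
  rows_step cert tab rowsto_13 4000 rows_13

theorem rowsto_15 : ∀ n, n < 60000 → ∀ x, x < cert.k → tabEntryOK cert tab n x = true :=
  rows_step cert tab rowsto_14 4000 rows_14

theorem rowsto_16 : ∀ n, n < 64000 → ∀ x, x < cert.k → tabEntryOK cert tab n x = true :=
  rows_step cert tab rowsto_15 4000 rows_15

theorem rowsto_17 : ∀ n, n < 68000 → ∀ x, x < cert.k → tabEntryOK cert tab n x = true :=
  rows_step cert tab rowsto_16 4000 rows_16

theorem rowsto_18 : ∀ n, n < 69888 → ∀ x, x < cert.k → tabEntryOK cert tab n x = true :=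
  rows_step cert tab rowsto_17 1888 rows_17

theorem hT : ∀ n, n < tab.N → ∀ x, x < cert.k → tabEntryOK cert tab n x = true := rowsto_18

theorem hjs : ∀ j ∈ js, relFactOK cert j = true := by decide +kernel

theorem h0 : ordOK cert js cs0 91 2 = true := by decide +kernel

theorem hgs : ∀ i, i < 97 → genOK cert js (css.getD i []) i 91 (as_.getD i 0) = true := by decide +kernel

end Cfsg.Agent.Helper4.F42E
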