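import Mathlib
import Cfsg.Agent.Helper4.TowerW
import Cfsg.Agent.Helper5.LPF

/-!
# Towers of covering presentations: redundant and exact central words

* `covG_mono`: enlarging the list of central words gives a quotient of the covering group.
* `ev_eq_one_of_pow`: a central word `A ++ winv B` whose two halves have values of an order prime to
  the exponent has the value 1 in the covering group.
* `step_range_x`: the step of `Cfsg.Agent.Helper4.TowerW` with a middle block `XX` of central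
  words whose values are known to be 1; they carry no labels.
-/

set_option autoImplicit false

namespace Cfsg.Agent.Helper4.TowerX

open Cfsg Cfsg.Agent.Helper5.StemP Cfsg.Agent.Helper5.LP Cfsg.Agent.Helper4.LTW
  Cfsg.Agent.Helper4.LTWQ Cfsg.Agent.Helper4.Tower

section mono
variable (d : ℕ) (m : ℕ → ℕ) (C C' : List (List ℕ)) (e : ℕ)

theorem rels_hold_mono (hsub : ∀ r ∈ C, r ∈ C') (hlt : ∀ r ∈ C', ∀ c ∈ r, c < 2 * d) :
    ∀ l ∈ coverRels d m C C e, (l.map (lval (cgen d m C' C' e))).prod = 1 := by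
  have hC : ∀ r ∈ C, ∀ c ∈ r, c < 2 * d := fun r hr => hlt r (hsub r hr)
  apply coverRels_hold
  · intro i hi
    exact cgen_pow d m C' C' e (i := i) hi
  · intro r hr
    rw [← ev_eq_prod d m C' C' e r (hC r hr)]
    exact cover_center d m C' C' e (hsub r hr) (hC r hr)
  · intro r hr
    rw [← ev_eq_prod d m C' C' e r (hC r hr), ev_pow]
    exact ev_rel (mem_coverRels_T d m C' C' e (hsub r hr))

theorem lt2_of (hlt : ∀ r ∈ C, ∀ c ∈ r, c < 2 * d) : ∀ r ∈ C ++ C, ∀ c ∈ r, c < 2 * d := by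
  intro r hr
  rcases List.mem_append.mp hr with h | h <;> exact hlt r h

/-- the natural map onto the covering group with more central words. -/
noncomputable def monoHom (hsub : ∀ r ∈ C, r ∈ C') (hlt : ∀ r ∈ C', ∀ c ∈ r, c < 2 * d) :
    CovG d m C C e →* CovG d m C' C' e :=
  lift (lval (cgen d m C' C' e))
    (coverRels_lt d m C C e (lt2_of d C (fun r hr => hlt r (hsub r hr))))
    (rels_hold_mono d m C C' e hsub hlt)

theorem monoHom_ev (hsub : ∀ r ∈ C, r ∈ C') (hlt : ∀ r ∈ C', ∀ c ∈ r, c < 2 * d) (l : List ℕ)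
    (hl : ∀ c ∈ l, c < 2 * d) :
    monoHom d m C C' e hsub hlt (ev (2 * d) (coverRels d m C C e) l) =
      ev (2 * d) (coverRels d m C' C' e) l := by
  unfold monoHom
  rw [lift_ev _ _ _ l hl, ev_eq_prod d m C' C' e l hl]

theorem monoHom_surjective (hsub : ∀ r ∈ C, r ∈ C') (hlt : ∀ r ∈ C', ∀ c ∈ r, c < 2 * d) :
    Function.Surjective (monoHom d m C C' e hsub hlt) := by
  rw [← MonoidHom.range_eq_top, eq_top_iff, ← closure_cgen d m C' C' e, Subgroup.closure_le]
  rintro x ⟨i, hi, rfl⟩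
  refine ⟨ev (2 * d) (coverRels d m C C e) [2 * i], ?_⟩
  rw [monoHom_ev d m C C' e hsub hlt [2 * i] (by
    intro c hc
    rw [List.mem_singleton] at hc
    omega)]
  rfl

/-- **more central words: a quotient.** -/
theorem covG_mono (hsub : ∀ r ∈ C, r ∈ C') (hlt : ∀ r ∈ C', ∀ c ∈ r, c < 2 * d) (B : ℕ)
    (hB : Finite (CovG d m C C e) ∧ Nat.card (CovG d m C C e) ≤ B) :
    Finite (CovG d m C' C' e) ∧ Nat.card (CovG d m C' C' e) ≤ B := by
  have := hB.1
  have hs := monoHom_surjective d m C C' e hsub hlt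
  exact ⟨Finite.of_surjective _ hs, (Nat.card_le_card_of_surjective _ hs).trans hB.2⟩

end mono

section exact
variable (d : ℕ) (m : ℕ → ℕ) (C : List (List ℕ)) (e : ℕ)

/-- a central word `A ++ winv B` with `A ^ n = 1`, `B ^ n = 1`, `n` prime to the exponent, has the
value 1. -/
theorem ev_eq_one_of_pow (A B : List ℕ) (hA : ∀ c ∈ A, c < 2 * d) (hB : ∀ c ∈ B, c < 2 * d)
    (hmem : A ++ winv B ∈ C) (n : ℕ) (hn : Nat.Coprime n e)
    (hAn : ev (2 * d) (coverRels d m C C e) A ^ n = 1)
    (hBn : ev (2 * d) (coverRels d m C C e) B ^ n = 1) :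
    ev (2 * d) (coverRels d m C C e) (A ++ winv B) = 1 := by
  set z := ev (2 * d) (coverRels d m C C e) (A ++ winv B) with hz
  have hlt : ∀ c ∈ A ++ winv B, c < 2 * d := by
    intro c hc
    rcases List.mem_append.mp hc with h | h
    · exact hA c h
    · exact winv_lt d hB c h
  have hcen : z ∈ Subgroup.center (CovG d m C C e) := cover_center d m C C e hmem hlt
  have hze : z ^ e = 1 := by
    rw [hz, ev_pow]
    exact ev_rel (mem_coverRels_T d m C C e hmem)
  have hzAB : ev (2 * d) (coverRels d m C C e) A = z * ev (2 * d) (coverRels d m C C e) B := by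
    rw [hz, ev_append, ev_winv d m C C e hB, inv_mul_cancel_right]
  have hcomm : Commute z (ev (2 * d) (coverRels d m C C e) B) :=
    (Subgroup.mem_center_iff.mp hcen _).symm
  have hzn : z ^ n = 1 := by
    have h1 := hAn
    rw [hzAB, hcomm.mul_pow, hBn, mul_one] at h1
    exact h1
  have h1 : orderOf z ∣ n := orderOf_dvd_of_pow_eq_one hzn
  have h2 : orderOf z ∣ e := orderOf_dvd_of_pow_eq_one hze
  have h3 : orderOf z ∣ 1 := by
    have := Nat.dvd_gcd h1 h2
    rwa [Nat.Coprime.gcd_eq_one hn] at this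
  exact orderOf_eq_one_iff.mp (Nat.dvd_one.mp h3)

end exact

section step
variable (d' d : ℕ) (m : ℕ → ℕ) (CL EX XX : List (List ℕ)) (e : ℕ)

/-- **one step of a tower of covering presentations** with a block `XX` of central words of
value 1, which carry no labels. -/
theorem step_range_x (hd : d' ≤ d) (hCL : ∀ r ∈ CL, ∀ c ∈ r, c < 2 * d')
    (hEX : ∀ r ∈ EX ++ XX, ∀ c ∈ r, c < 2 * d) (he0 : 0 < e) (hn : EX.length ≤ 8)
    (hXX : ∀ r ∈ XX,
      ev (2 * d) (coverRels d m ((EX ++ XX) ++ CL) ((EX ++ XX) ++ CL) e) r = 1)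
    (hB : Finite (CovG d' m CL CL e))
    (C : Cert) (hk : C.k = 2 * d) (hι : C.ι = linv) (hE : C.E = e)
    (hWlt : ∀ wi, ∀ c ∈ C.W wi, c < 2 * d) (orig : ℕ → ℕ)
    (hwordOK : ∀ wi, wi < C.nrel →
      wordOK2 (coverRels d m ((EX ++ XX) ++ CL) ((EX ++ XX) ++ CL) e) ((EX ++ XX) ++ CL)
        EX.length (C.W wi) (C.δ wi) (orig wi) = true)
    (hsubW : ∀ wi, C.nrel ≤ wi → wi < C.nw → ∃ c, c < 2 * d' ∧ C.W wi = [c])
    (hchk : ∀ j, j < C.nf → ∃ r, checkFact C j r = true)
    (T : Tab) (hT0 : T.LV 0 = 0) (h0N : 0 < T.N)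
    (hT : ∀ n, n < T.N → ∀ x, x < C.k → tabEntryOK C T n x = true)
    (js : List ℕ) (hjs : ∀ j ∈ js, relFactOK C j = true)
    (i0 a : ℕ) (hi0 : i0 < 8) (ha : 0 < a) (cs0 : List ℕ) (h0 : ordOK C js cs0 i0 a = true)
    (as : ℕ → ℕ) (css : ℕ → List ℕ)
    (hgs : ∀ i, i < EX.length → genOK C js (css i) i i0 (as i) = true) :
    Finite (CovG d m ((EX ++ XX) ++ CL) ((EX ++ XX) ++ CL) e) ∧
      Nat.card (CovG d m ((EX ++ XX) ++ CL) ((EX ++ XX) ++ CL) e) ≤
        Nat.card (phiT d' d m CL (EX ++ XX) e hd hCL).range * T.N * a := by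
  have : Finite (CovG d' m CL CL e) := hB
  let φ := phiT d' d m CL (EX ++ XX) e hd hCL
  let K : Subgroup (CovG d m ((EX ++ XX) ++ CL) ((EX ++ XX) ++ CL) e) := φ.range
  have hKfin : Finite K := Finite.of_surjective φ.rangeRestrict φ.rangeRestrict_surjective
  have hzn : ∀ i, EX.length ≤ i →
      zC d m ((EX ++ XX) ++ CL) ((EX ++ XX) ++ CL) e i ∈ K := by
    intro i hi
    unfold zC
    by_cases hi2 : i < (EX ++ XX).length
    · have e1 : ((EX ++ XX) ++ CL).getD i [] = XX.getD (i - EX.length) [] := by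
        rw [List.getD_append _ _ _ _ hi2, List.getD_append_right _ _ _ _ hi]
      rw [e1]
      have hlt : i - EX.length < XX.length := by
        rw [List.length_append] at hi2
        omega
      rw [List.getD_eq_getElem XX [] hlt, hXX _ (List.getElem_mem hlt)]
      exact K.one_mem
    · have hi3 : (EX ++ XX).length ≤ i := by omega
      have e1 : ((EX ++ XX) ++ CL).getD i [] = CL.getD (i - (EX ++ XX).length) [] :=
        List.getD_append_right _ _ _ _ hi3
      rw [e1]
      by_cases hlt : i - (EX ++ XX).length < CL.length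
      · rw [List.getD_eq_getElem CL [] hlt]
        have hmem : CL[i - (EX ++ XX).length] ∈ CL := List.getElem_mem hlt
        exact ⟨ev (2 * d') (coverRels d' m CL CL e) CL[i - (EX ++ XX).length],
          phiT_ev d' d m CL (EX ++ XX) e hd hCL _ (hCL _ hmem)⟩
      · rw [List.getD_eq_default CL [] (by omega), ev_nil]
        exact K.one_mem
  have hsubs : ∀ wi, C.nrel ≤ wi → wi < C.nw →
      ev (2 * d) (coverRels d m ((EX ++ XX) ++ CL) ((EX ++ XX) ++ CL) e) (C.W wi) ∈ K := by
    intro wi h1 h2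
    obtain ⟨c, hc, hW⟩ := hsubW wi h1 h2
    rw [hW]
    refine ⟨ev (2 * d') (coverRels d' m CL CL e) [c], ?_⟩
    apply phiT_ev
    intro c' hc'
    rw [List.mem_singleton] at hc'
    omega
  exact covG_card_le_tail_inK d m ((EX ++ XX) ++ CL) ((EX ++ XX) ++ CL) e C hk hι hE he0
    (fun r hr => hr) (CC_lt d' d CL (EX ++ XX) hd hCL hEX) EX.length hn K hzn hWlt orig hwordOK
    hsubs hchk T hT0 h0N hT js hjs i0 a hi0 ha cs0 h0 as css hgs

end step

end Cfsg.Agent.Helper4.TowerX
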