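import Mathlib
import Cfsg.Agent.Helper4.F42Def
import Cfsg.Agent.Helper4.TowerX

/-!
# The tower for `F₄(2)`: the exact central words of the last step

A central word `(X c^k X⁻¹) (Y c'^k' Y⁻¹)⁻¹` of the covering group of exponent 4 has the value 1:
both halves are conjugates of powers of generators, which have odd orders.
-/

set_option autoImplicit false

namespace Cfsg.Agent.Helper4.F42

open Cfsg Cfsg.Agent.Helper5.StemP Cfsg.Agent.Helper5.LP

/-- the value of a word in the covering group of the last step. -/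
noncomputable abbrev ev5 (l : List ℕ) : CovG 5 mF CC5 CC5 4 :=
  ev (2 * 5) (coverRels 5 mF CC5 CC5 4) l

theorem mF_dvd : ∀ i, i < 5 → mF i ∣ 255 := by decide

theorem ev5_letter_pow (c : ℕ) (hc : c < 2 * 5) : ev5 [c] ^ 255 = 1 := by
  have hi : c / 2 < 5 := by omega
  have h1 : cgen 5 mF CC5 CC5 4 (c / 2) ^ 255 = 1 := by
    obtain ⟨q, hq⟩ := mF_dvd (c / 2) hi
    rw [hq, pow_mul, cgen_pow 5 mF CC5 CC5 4 hi, one_pow]
  show ev (2 * 5) (coverRels 5 mF CC5 CC5 4) [c] ^ 255 = 1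
  rw [ev_letter 5 mF CC5 CC5 4 hc]
  unfold lval
  split_ifs
  · exact h1
  · rw [inv_pow, h1, inv_one]

theorem ev5_conj_pow (X : List ℕ) (hX : ∀ c ∈ X, c < 2 * 5) (c k : ℕ) (hc : c < 2 * 5) :
    ev5 (X ++ List.replicate k c ++ winv X) ^ 255 = 1 := by
  have h := ev5_letter_pow c hc
  change ev (2 * 5) (coverRels 5 mF CC5 CC5 4) [c] ^ 255 = 1 at h
  have hk : (ev (2 * 5) (coverRels 5 mF CC5 CC5 4) [c] ^ k) ^ 255 = 1 := by
    rw [← pow_mul, Nat.mul_comm k 255, pow_mul, h, one_pow]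
  show ev (2 * 5) (coverRels 5 mF CC5 CC5 4) (X ++ List.replicate k c ++ winv X) ^ 255 = 1
  rw [ev_append, ev_append, ev_winv 5 mF CC5 CC5 4 hX, conj_pow, ev_replicate_letter, hk, mul_one,
    mul_inv_cancel]

theorem XD_ok : ∀ t ∈ XD, (∀ c ∈ t.1, c < 2 * 5) ∧ t.2.1 < 2 * 5 ∧ (∀ c ∈ t.2.2.2.1, c < 2 * 5) ∧
    t.2.2.2.2.1 < 2 * 5 := by decide

theorem xA_lt (t : List ℕ × ℕ × ℕ × List ℕ × ℕ × ℕ) (h1 : ∀ c ∈ t.1, c < 2 * 5)
    (h2 : t.2.1 < 2 * 5) : ∀ c ∈ xA t, c < 2 * 5 := by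
  intro c hc
  unfold xA at hc
  rcases List.mem_append.mp hc with h | h
  · rcases List.mem_append.mp h with h | h
    · exact h1 c h
    · rw [List.eq_of_mem_replicate h]
      exact h2
  · exact winv_lt 5 h1 c h

theorem xB_lt (t : List ℕ × ℕ × ℕ × List ℕ × ℕ × ℕ) (h1 : ∀ c ∈ t.2.2.2.1, c < 2 * 5)
    (h2 : t.2.2.2.2.1 < 2 * 5) : ∀ c ∈ xB t, c < 2 * 5 := by
  intro c hc
  unfold xB at hc
  rcases List.mem_append.mp hc with h | h
  · rcases List.mem_append.mp h with h | h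
    · exact h1 c h
    · rw [List.eq_of_mem_replicate h]
      exact h2
  · exact winv_lt 5 h1 c h

/-- the exact central words have the value 1. -/
theorem XX5_one : ∀ r ∈ XX5, ev5 r = 1 := by
  intro r hr
  unfold XX5 at hr
  obtain ⟨t, ht, rfl⟩ := List.mem_map.mp hr
  obtain ⟨h1, h2, h3, h4⟩ := XD_ok t ht
  have hmem : xA t ++ winv (xB t) ∈ CC5 := by
    unfold CC5 XX5
    exact List.mem_append_left _ (List.mem_append_right _ (List.mem_map_of_mem ht))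
  exact TowerX.ev_eq_one_of_pow 5 mF CC5 4 (xA t) (xB t) (xA_lt t h1 h2) (xB_lt t h3 h4) hmem 255
    (by decide) (ev5_conj_pow t.1 h1 t.2.1 t.2.2.1 h2)
    (ev5_conj_pow t.2.2.2.1 h3 t.2.2.2.2.1 t.2.2.2.2.2 h4)

end Cfsg.Agent.Helper4.F42
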