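import Mathlib
import Cfsg.Agent.Helper4.F42Def
import Cfsg.Agent.Helper4.TowerW
import Cfsg.Agent.Helper4.F42ADat
import Cfsg.Agent.Helper4.F42BDat

/-!
# The tower for `F₄(2)`: the loop words of the first two certificates

The loop words of the certificates are rotations of the relators of the covering presentations.
-/

set_option autoImplicit false
set_option Elab.async false

namespace Cfsg.Agent.Helper4.F42

open Cfsg Cfsg.Agent.Helper5.StemP Cfsg.Agent.Helper5.LP Cfsg.Agent.Helper4.LTW

set_option maxRecDepth 1000000 in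
theorem wordOK_A : ∀ wi, wi < F42A.cert.nrel →
    wordOK2 (coverRels 2 mF (EX2 ++ CL1) (EX2 ++ CL1) 4) (EX2 ++ CL1) EX2.length (F42A.cert.W wi)
      (F42A.cert.δ wi) (F42A.origs.getD wi 0) = true := by decide +kernel

set_option maxRecDepth 1000000 in
theorem wordOK_B : ∀ wi, wi < F42B.cert.nrel →
    wordOK2 (coverRels 3 mF (EX3 ++ CL2) (EX3 ++ CL2) 4) (EX3 ++ CL2) EX3.length (F42B.cert.W wi)
      (F42B.cert.δ wi) (F42B.origs.getD wi 0) = true := by decide +kernel

end Cfsg.Agent.Helper4.F42
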