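import Mathlib
import Cfsg.Agent.Helper4.F42Def
import Cfsg.Agent.Helper4.TowerW
import Cfsg.Agent.Helper4.F42WokL
import Cfsg.Agent.Helper4.F42ASum
import Cfsg.Agent.Helper4.F42BSum

/-!
# The tower for `F₄(2)`: the covering groups of exponent 4 of `⟨a⟩ < ⟨a, b⟩ < ⟨a, b, c⟩`

Two labelled Todd–Coxeter certificates of exponent 4: `⟨a, b⟩ ≅ L₂(16)` over `⟨a⟩` (240 cosets) and
`⟨a, b, c⟩ ≅ Sp₄(4)` over `⟨a, b⟩` (240 cosets).
-/

set_option autoImplicit false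

namespace Cfsg.Agent.Helper4.F42

open Cfsg Cfsg.Agent.Helper5.StemP Cfsg.Agent.Helper5.LP Cfsg.Agent.Helper4.LTW

theorem card1 : Finite (CovG 1 mF CL1 CL1 4) ∧ Nat.card (CovG 1 mF CL1 CL1 4) ≤ 17 :=
  Cfsg.Agent.Helper4.Tower.base mF 4 (by decide)

theorem CL1_lt : ∀ r ∈ CL1, ∀ c ∈ r, c < 2 * 1 := by decide

theorem EX2_lt : ∀ r ∈ EX2, ∀ c ∈ r, c < 2 * 2 := by decide

theorem words_lt_A : ∀ wi, ∀ c ∈ F42A.cert.W wi, c < 2 * 2 := by
  intro wi c hc
  have h : ∀ w ∈ F42A.words, ∀ c ∈ w, c < 4 := by decide +kernel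
  change c ∈ F42A.words.getD wi [] at hc
  by_cases hwi : wi < F42A.words.length
  · rw [List.getD_eq_getElem _ _ hwi] at hc
    exact h _ (List.getElem_mem hwi) c hc
  · rw [List.getD_eq_default _ _ (by omega)] at hc
    simp at hc

theorem hsubW_A : ∀ wi, F42A.cert.nrel ≤ wi → wi < F42A.cert.nw →
    ∃ c, c < 2 * 1 ∧ F42A.cert.W wi = [c] := by
  intro wi h1 h2
  have h1' : 21 ≤ wi := h1
  have h2' : wi < 22 := h2
  interval_cases wi
  · exact ⟨0, by norm_num, by decide +kernel⟩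

theorem card2 : Finite (CovG 2 mF CL2 CL2 4) ∧ Nat.card (CovG 2 mF CL2 CL2 4) ≤ 4080 := by
  have h := TowerW.step 1 2 mF CL1 EX2 4 (by norm_num) CL1_lt EX2_lt (by norm_num) (by decide)
    17 card1 F42A.cert rfl rfl rfl words_lt_A
    (fun wi => F42A.origs.getD wi 0) wordOK_A hsubW_A F42A.hchk F42A.tab (by decide +kernel)
    (by decide) F42A.hT F42A.js F42A.hjs 0 1 (by norm_num) (by norm_num) F42A.cs0 F42A.h0
    (fun i => F42A.as_.getD i 0) (fun i => F42A.css.getD i []) F42A.hgs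
  have hN : F42A.tab.N = 240 := rfl
  rw [hN] at h
  exact ⟨h.1, h.2.trans (by decide)⟩

theorem CL2_lt : ∀ r ∈ CL2, ∀ c ∈ r, c < 2 * 2 := by decide

theorem EX3_lt : ∀ r ∈ EX3, ∀ c ∈ r, c < 2 * 3 := by decide

theorem words_lt_B : ∀ wi, ∀ c ∈ F42B.cert.W wi, c < 2 * 3 := by
  intro wi c hc
  have h : ∀ w ∈ F42B.words, ∀ c ∈ w, c < 6 := by decide +kernel
  change c ∈ F42B.words.getD wi [] at hc
  by_cases hwi : wi < F42B.words.length
  · rw [List.getD_eq_getElem _ _ hwi] at hc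
    exact h _ (List.getElem_mem hwi) c hc
  · rw [List.getD_eq_default _ _ (by omega)] at hc
    simp at hc

theorem hsubW_B : ∀ wi, F42B.cert.nrel ≤ wi → wi < F42B.cert.nw →
    ∃ c, c < 2 * 2 ∧ F42B.cert.W wi = [c] := by
  intro wi h1 h2
  have h1' : 106 ≤ wi := h1
  have h2' : wi < 108 := h2
  interval_cases wi
  · exact ⟨0, by norm_num, by decide +kernel⟩
  · exact ⟨2, by norm_num, by decide +kernel⟩

theorem card3 : Finite (CovG 3 mF CL3 CL3 4) ∧ Nat.card (CovG 3 mF CL3 CL3 4) ≤ 979200 := by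
  have h := TowerW.step 2 3 mF CL2 EX3 4 (by norm_num) CL2_lt EX3_lt (by norm_num) (by decide)
    4080 card2 F42B.cert rfl rfl rfl words_lt_B
    (fun wi => F42B.origs.getD wi 0) wordOK_B hsubW_B F42B.hchk F42B.tab (by decide +kernel)
    (by decide) F42B.hT F42B.js F42B.hjs 0 1 (by norm_num) (by norm_num) F42B.cs0 F42B.h0
    (fun i => F42B.as_.getD i 0) (fun i => F42B.css.getD i []) F42B.hgs
  have hN : F42B.tab.N = 240 := rfl
  rw [hN] at h
  exact ⟨h.1, h.2.trans (by decide)⟩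

theorem CL3_lt : ∀ r ∈ CL3, ∀ c ∈ r, c < 2 * 3 := by decide

end Cfsg.Agent.Helper4.F42
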