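import Mathlib

/-!
# Labelled Todd–Coxeter certificates with many labels modulo 4: labels

A variant of `Cfsg.Agent.Helper4.LTW*` for covering groups of exponent 4 with up to 128 labelled
central words.  A label is a vector of 128 integers modulo 4, stored in two natural numbers (the
low bits and the high bits of the entries), so that the sum and the negative of labels are a few
bitwise operations on natural numbers, which the kernel evaluates quickly.
-/

set_option autoImplicit false

namespace Cfsg.Agent.Helper4.LTV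

/-- the number of entries of a label. -/
def NS : ℕ := 128

/-- labels: vectors of integers modulo 4; the low bits and the high bits of the entries. -/
structure L8 where
  lo : ℕ
  hi : ℕ

namespace L8

/-- the zero label. -/
def zero : L8 := ⟨0, 0⟩

/-- addition of labels: a two bit adder in every entry. -/
def add (a b : L8) : L8 :=
  ⟨Nat.xor a.lo b.lo, Nat.xor (Nat.xor a.hi b.hi) (Nat.land a.lo b.lo)⟩

/-- reduction: nothing to do. -/
def red (_E : ℕ) (a : L8) : L8 := a

/-- negation modulo 4. -/
def neg (_E : ℕ) (a : L8) : L8 := ⟨a.lo, Nat.xor a.hi a.lo⟩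

/-- multiples. -/
def smul (c : ℕ) (a : L8) : L8 :=
  bif Nat.beq (Nat.mod c 4) 0 then zero
  else bif Nat.beq (Nat.mod c 4) 1 then a
  else bif Nat.beq (Nat.mod c 4) 2 then add a a
  else neg 4 a

/-- boolean equality. -/
def beq (a b : L8) : Bool := Nat.beq a.lo b.lo && Nat.beq a.hi b.hi

theorem eq_of_beq {a b : L8} (h : beq a b = true) : a = b := by
  cases a; cases b
  simp only [beq, Bool.and_eq_true] at h
  rw [Nat.eq_of_beq_eq_true h.1, Nat.eq_of_beq_eq_true h.2]

theorem add_assoc' (a b c : L8) : add a (add b c) = add (add a b) c := by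
  unfold add
  congr 1
  · exact (Nat.xor_assoc a.lo b.lo c.lo).symm
  · apply Nat.eq_of_testBit_eq
    intro i
    show ((a.hi ^^^ ((b.hi ^^^ c.hi) ^^^ (b.lo &&& c.lo))) ^^^ (a.lo &&& (b.lo ^^^ c.lo))).testBit i =
      ((((a.hi ^^^ b.hi) ^^^ (a.lo &&& b.lo)) ^^^ c.hi) ^^^ ((a.lo ^^^ b.lo) &&& c.lo)).testBit i
    simp only [Nat.testBit_xor, Nat.testBit_and]
    cases a.lo.testBit i <;> cases b.lo.testBit i <;> cases c.lo.testBit i <;>
      cases a.hi.testBit i <;> cases b.hi.testBit i <;> cases c.hi.testBit i <;> rfl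

/-- the basis vectors. -/
def unit (i : ℕ) : L8 := ⟨Nat.pow 2 i, 0⟩

/-- decode a label from a number: the low bits in the first 128 binary digits. -/
def dec (n : ℕ) : L8 :=
  ⟨Nat.mod n 340282366920938463463374607431768211456,
    Nat.div n 340282366920938463463374607431768211456⟩

/-- the entry number `i`, as a natural number below 4. -/
def ex (a : L8) (i : ℕ) : ℕ := (a.lo.testBit i).toNat + 2 * (a.hi.testBit i).toNat

theorem ex_zero (i : ℕ) : ex zero i = 0 := by
  simp [ex, zero]

theorem ex_add (a b : L8) (i : ℕ) : ex (add a b) i % 4 = (ex a i + ex b i) % 4 := by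
  unfold ex add
  show (((a.lo ^^^ b.lo).testBit i).toNat +
    2 * ((a.hi ^^^ b.hi ^^^ (a.lo &&& b.lo)).testBit i).toNat) % 4 = _
  rw [Nat.testBit_xor, Nat.testBit_xor, Nat.testBit_xor, Nat.testBit_and]
  cases a.lo.testBit i <;> cases b.lo.testBit i <;> cases a.hi.testBit i <;>
    cases b.hi.testBit i <;> rfl

theorem ex_neg (E : ℕ) (a : L8) (i : ℕ) : (ex (neg E a) i + ex a i) % 4 = 0 := by
  unfold ex neg
  show ((a.lo.testBit i).toNat + 2 * ((a.hi ^^^ a.lo).testBit i).toNat +
    ((a.lo.testBit i).toNat + 2 * (a.hi.testBit i).toNat)) % 4 = 0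
  rw [Nat.testBit_xor]
  cases a.lo.testBit i <;> cases a.hi.testBit i <;> rfl

theorem ex_unit (i j : ℕ) : ex (unit i) j = if j = i then 1 else 0 := by
  unfold ex unit
  show ((2 ^ i).testBit j).toNat + 2 * (Nat.testBit 0 j).toNat = _
  rw [Nat.testBit_two_pow, Nat.zero_testBit]
  by_cases h : j = i
  · simp [h]
  · have h' : ¬ i = j := fun e => h e.symm
    simp [h, h']

end L8

section phi
open scoped IsMulCommutative
variable {P : Type*} [Group P]

/-- the central element of a label. -/
def phi (z : ℕ → P) (l : L8) : P := ((List.range NS).map fun i => z i ^ L8.ex l i).prod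

variable {z : ℕ → P} (hz : ∀ i, z i ∈ Subgroup.center P)

/-- the same in the centre. -/
def phiC (l : L8) : Subgroup.center P :=
  ∏ i ∈ Finset.range NS, (⟨z i, hz i⟩ : Subgroup.center P) ^ L8.ex l i

theorem phiC_coe_aux (l : L8) (n : ℕ) :
    ((∏ i ∈ Finset.range n, (⟨z i, hz i⟩ : Subgroup.center P) ^ L8.ex l i :
      Subgroup.center P) : P) = ((List.range n).map fun i => z i ^ L8.ex l i).prod := by
  induction n with
  | zero => simp
  | succ n ih =>
    rw [Finset.prod_range_succ, Subgroup.coe_mul, ih, List.range_succ, List.map_append,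
      List.prod_append]
    simp

theorem phiC_coe (l : L8) : ((phiC hz l : Subgroup.center P) : P) = phi z l :=
  phiC_coe_aux hz l NS

include hz in
theorem phi_mem_center (l : L8) : phi z l ∈ Subgroup.center P := by
  rw [← phiC_coe hz]
  exact (phiC hz l).2

include hz in
theorem phi_comm (l : L8) (x : P) : x * phi z l = phi z l * x :=
  (Subgroup.mem_center_iff.mp (phi_mem_center hz l) x)

theorem phi_zero : phi z L8.zero = 1 := by
  unfold phi
  apply List.prod_eq_one
  intro x hx
  obtain ⟨i, _, rfl⟩ := List.mem_map.mp hx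
  rw [L8.ex_zero, pow_zero]

theorem pow_mod_of {x : P} {E : ℕ} (h : x ^ E = 1) (n : ℕ) : x ^ (n % E) = x ^ n := by
  conv_rhs => rw [← Nat.div_add_mod n E, pow_add, pow_mul, h, one_pow, one_mul]

variable (h4 : ∀ i, z i ^ 4 = 1)

include h4 in
theorem zc_pow (i : ℕ) : (⟨z i, hz i⟩ : Subgroup.center P) ^ 4 = 1 :=
  Subtype.ext (by rw [Subgroup.coe_pow, Subgroup.coe_one]; exact h4 i)

include h4 in
theorem phiC_add (a b : L8) : phiC hz (L8.add a b) = phiC hz a * phiC hz b := by
  unfold phiC
  rw [← Finset.prod_mul_distrib]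
  apply Finset.prod_congr rfl
  intro i _
  rw [← pow_add, ← pow_mod_of (zc_pow hz h4 i) (L8.ex (L8.add a b) i), L8.ex_add,
    pow_mod_of (zc_pow hz h4 i)]

include hz h4 in
theorem phi_add (a b : L8) : phi z (L8.add a b) = phi z a * phi z b := by
  have h := congrArg Subtype.val (phiC_add hz h4 a b)
  rw [Subgroup.coe_mul, phiC_coe, phiC_coe, phiC_coe] at h
  exact h

theorem phi_red {E : ℕ} (a : L8) : phi z (L8.red E a) = phi z a := rfl

include h4 in
theorem phiC_neg (E : ℕ) (a : L8) : phiC hz (L8.neg E a) * phiC hz a = 1 := by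
  unfold phiC
  rw [← Finset.prod_mul_distrib]
  apply Finset.prod_eq_one
  intro i _
  rw [← pow_add, ← pow_mod_of (zc_pow hz h4 i), L8.ex_neg, pow_zero]

include hz h4 in
theorem phi_neg (E : ℕ) (a : L8) : phi z (L8.neg E a) * phi z a = 1 := by
  have h := congrArg Subtype.val (phiC_neg hz h4 E a)
  rw [Subgroup.coe_mul, phiC_coe, phiC_coe] at h
  exact h

include hz h4 in
theorem phi_pow_four (a : L8) : phi z a ^ 4 = 1 := by
  have h : phiC hz a ^ 4 = 1 := by
    unfold phiC
    rw [← Finset.prod_pow]
    apply Finset.prod_eq_one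
    intro i _
    rw [← pow_mul, mul_comm, pow_mul, zc_pow hz h4 i, one_pow]
  have h2 := congrArg Subtype.val h
  rwa [Subgroup.coe_pow, phiC_coe] at h2

include hz h4 in
theorem phi_smul (c : ℕ) (a : L8) : phi z (L8.smul c a) = phi z a ^ c := by
  rw [← pow_mod_of (phi_pow_four hz h4 a) c]
  have hc : c % 4 < 4 := Nat.mod_lt _ (by norm_num)
  unfold L8.smul
  show phi z (bif Nat.beq (c % 4) 0 then L8.zero else bif Nat.beq (c % 4) 1 then a
    else bif Nat.beq (c % 4) 2 then L8.add a a else L8.neg 4 a) = _
  interval_cases (c % 4)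
  · simp [phi_zero]
  · simp only [Nat.beq, cond_false, cond_true, pow_one]
  · simp only [Nat.beq, cond_false, cond_true]
    rw [phi_add hz h4, pow_two]
  · simp only [Nat.beq, cond_false]
    have h1 := phi_neg hz h4 4 a
    have h2 := phi_pow_four hz h4 a
    have h3 : phi z a ^ 3 * phi z a = 1 := by rw [← pow_succ]; exact h2
    exact (mul_right_cancel (h1.trans h3.symm))

theorem phi_unit {i : ℕ} (hi : i < NS) : phi z (L8.unit i) = z i := by
  have hz' : ∀ n, i < n → ((List.range n).map fun j => z j ^ L8.ex (L8.unit i) j).prod = z i := by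
    intro n
    induction n with
    | zero => intro h; omega
    | succ n ih =>
      intro h
      rw [List.range_succ, List.map_append, List.prod_append]
      by_cases hin : i < n
      · rw [ih hin]
        simp only [List.map_cons, List.map_nil, List.prod_cons, List.prod_nil, mul_one]
        rw [L8.ex_unit, if_neg (by omega), pow_zero, mul_one]
      · have hn : n = i := by omega
        subst hn
        have h1 : ((List.range n).map fun j => z j ^ L8.ex (L8.unit n) j).prod = 1 := by
          apply List.prod_eq_one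
          intro x hx
          obtain ⟨j, hj, rfl⟩ := List.mem_map.mp hx
          rw [List.mem_range] at hj
          rw [L8.ex_unit, if_neg (by omega), pow_zero]
        rw [h1]
        simp only [List.map_cons, List.map_nil, List.prod_cons, List.prod_nil, mul_one, one_mul]
        rw [L8.ex_unit, if_pos rfl, pow_one]
  exact hz' NS hi

theorem phi_map {Q : Type*} [Group Q] (π : P →* Q) (z : ℕ → P) (l : L8) :
    π (phi z l) = phi (fun i => π (z i)) l := by
  unfold phi
  rw [map_list_prod, List.map_map]
  congr 1
  apply List.map_congr_left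
  intro i _
  simp

end phi

end Cfsg.Agent.Helper4.LTV
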