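import Mathlib
import Cfsg.Agent.Helper4.LTVB

/-!
# Labelled Todd–Coxeter certificates: soundness of the checker
-/

/-! (helper4: a copy of the file of the same letter of `Cfsg.Agent.Helper4.LTW*`, for the labels of
`LTVA`.) -/

set_option autoImplicit false

namespace Cfsg.Agent.Helper4.LTV

variable {P : Type*} [Group P]

/-- the coset representatives. -/
noncomputable def wrep (par gen : ℕ → ℕ) (g : ℕ → P) (v : ℕ) : P :=
  if h : 0 < v ∧ par v < v then wrep par gen g (par v) * g (gen v) else 1
termination_by v
decreasing_by exact h.2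

theorem wrep_def (par gen : ℕ → ℕ) (g : ℕ → P) {v : ℕ} (h : 0 < v ∧ par v < v) :
    wrep par gen g v = wrep par gen g (par v) * g (gen v) := by
  rw [wrep, dif_pos h]

theorem wrep_zero (par gen : ℕ → ℕ) (g : ℕ → P) : wrep par gen g 0 = 1 := by
  rw [wrep, dif_neg (by omega)]

/-- the value of the letter part of a fact. -/
def mval (g : ℕ → P) : ℕ → P
  | 0 => 1
  | x + 1 => g x

/-- the value of a word. -/
def lprod (g : ℕ → P) (l : List ℕ) : P := (l.map g).prod

theorem lprod_nil (g : ℕ → P) : lprod g [] = 1 := rfl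

theorem lprod_cons (g : ℕ → P) (x : ℕ) (l : List ℕ) : lprod g (x :: l) = g x * lprod g l := by
  simp [lprod]

theorem lprod_append (g : ℕ → P) (l l' : List ℕ) : lprod g (l ++ l') = lprod g l * lprod g l' := by
  simp [lprod]

variable (C : Cert) (K : Subgroup P) (g z : ℕ → P)

/-- fact `j` holds. -/
def Holds (j : ℕ) : Prop :=
  Rel K (wrep C.par C.gen g (fA (C.fa j)) * mval g (fM (C.fa j)))
    (wrep C.par C.gen g (fB (C.fa j)) * phi z (fL (C.fa j)))

/-- the hypotheses on the group. -/
structure Hyp : Prop where
  hz : ∀ i, z i ∈ Subgroup.center P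
  hE0 : 0 < C.E
  hE : ∀ i, z i ^ C.E = 1
  h4 : ∀ i, z i ^ 4 = 1
  hι : ∀ x, x < C.k → g (C.ι x) = (g x)⁻¹
  hW : ∀ wi, ∀ c ∈ C.W wi, c < C.k
  hrel : ∀ wi, wi < C.nrel → lprod g (C.W wi) = phi z (C.δ wi)
  hsub : ∀ wi, C.nrel ≤ wi → wi < C.nw → lprod g (C.W wi) ∈ K

variable {C K g z}

theorem lprod_winv (hH : Hyp C K g z) : ∀ l : List ℕ, (∀ c ∈ l, c < C.k) →
    lprod g (winv C.ι l) = (lprod g l)⁻¹
  | [], _ => by simp [winv, lprod]
  | x :: l, h => by
    have h1 : winv C.ι (x :: l) = winv C.ι l ++ [C.ι x] := by simp [winv]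
    rw [h1, lprod_append, lprod_winv hH l (fun c hc => h c (List.mem_cons_of_mem _ hc)),
      lprod_cons, lprod_nil, mul_one, hH.hι x (h x List.mem_cons_self), lprod_cons, mul_inv_rev]

/-- moving a central factor. -/
theorem rel_phi (hH : Hyp C K g z) {a b : P} (h : Rel K a b) (l : L8) :
    Rel K (a * phi z l) (b * phi z l) := rel_mul_right h _

theorem fwd_key (hH : Hyp C K g z) {p wc wb M : P} {lab l : L8}
    (hp : Rel K p (wc * phi z lab)) (hF : Rel K (wc * M) (wb * phi z l)) :
    Rel K (p * M) (wb * phi z (L8.add lab l)) := by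
  have h1 := rel_mul_right hp M
  have h2 : wc * phi z lab * M = wc * M * phi z lab := by
    rw [mul_assoc, ← phi_comm hH.hz, ← mul_assoc]
  rw [h2] at h1
  have h3 := rel_trans h1 (rel_phi hH hF lab)
  rwa [mul_assoc, phi_comm hH.hz lab (phi z l), ← phi_add hH.hz hH.h4] at h3

theorem rev_key (hH : Hyp C K g z) {p wc wa M : P} {lab l : L8}
    (hp : Rel K p (wc * phi z lab)) (hF : Rel K (wa * M) (wc * phi z l)) :
    Rel K (p * M⁻¹) (wa * phi z (L8.add lab (L8.neg C.E l))) := by
  apply fwd_key hH hp
  have h1 := rel_phi hH (rel_mul_right (rel_symm hF) M⁻¹) (L8.neg C.E l)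
  have h2 : wc * phi z l * M⁻¹ * phi z (L8.neg C.E l) = wc * M⁻¹ := by
    rw [mul_assoc wc, phi_comm hH.hz l M⁻¹ |>.symm, mul_assoc, mul_assoc,
      phi_comm hH.hz (L8.neg C.E l) (phi z l), phi_neg hH.hz hH.h4, mul_one]
  rw [h2, mul_inv_cancel_right] at h1
  exact h1

theorem step_sound (hH : Hyp C K g z) {j : ℕ} (hI : ∀ j', j' < j → Holds C K g z j')
    {s cur : ℕ} {lab : L8} {letters : List ℕ} {p : P} {cur' : ℕ} {lab' : L8} {letters' : List ℕ}
    (hp : Rel K p (wrep C.par C.gen g cur * phi z lab))
    (hs : step C j s cur lab letters = some (cur', lab', letters')) :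
    ∃ pre, letters = pre ++ letters' ∧
      Rel K (p * lprod g pre) (wrep C.par C.gen g cur' * phi z lab') := by
  unfold step at hs
  rw [frc_eq] at hs
  cases hj : Nat.blt (Nat.div s 2) j with
  | false => rw [hj] at hs; exact absurd hs (by simp)
  | true =>
    rw [hj, cond_true, frc_eq] at hs
    have hj' : Nat.div s 2 < j := by rwa [Nat.blt_eq] at hj
    have hF := hI _ hj'
    unfold Holds at hF
    generalize C.fa (Nat.div s 2) = f at hs hF
    cases hd : Nat.beq (Nat.mod s 2) 0 with
    | true =>
      rw [hd, cond_true] at hs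
      cases ha : Nat.beq (fA f) cur with
      | false => rw [ha] at hs; exact absurd hs (by simp)
      | true =>
        rw [ha, cond_true] at hs
        have ha' : fA f = cur := Nat.eq_of_beq_eq_true ha
        rw [ha'] at hF
        have key := fwd_key hH hp hF
        generalize fM f = m at hs key
        match m, letters, hs with
        | 0, letters, hs =>
          simp only [Option.some.injEq, Prod.mk.injEq] at hs
          obtain ⟨rfl, rfl, rfl⟩ := hs
          refine ⟨[], rfl, ?_⟩
          rw [lprod_nil]
          exact key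
        | m + 1, x :: rest, hs =>
          simp only at hs
          cases hx : Nat.beq x m with
          | false => rw [hx] at hs; exact absurd hs (by simp)
          | true =>
            rw [hx, cond_true] at hs
            simp only [Option.some.injEq, Prod.mk.injEq] at hs
            obtain ⟨rfl, rfl, rfl⟩ := hs
            have hx' : x = m := Nat.eq_of_beq_eq_true hx
            refine ⟨[x], rfl, ?_⟩
            rw [lprod_cons, lprod_nil, mul_one, hx']
            exact key
        | m + 1, [], hs => exact absurd hs (by simp)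
    | false =>
      rw [hd, cond_false] at hs
      cases ha : Nat.beq (fB f) cur with
      | false => rw [ha] at hs; exact absurd hs (by simp)
      | true =>
        rw [ha, cond_true] at hs
        have ha' : fB f = cur := Nat.eq_of_beq_eq_true ha
        rw [ha'] at hF
        have key := rev_key hH hp hF
        generalize fM f = m at hs key
        match m, letters, hs with
        | 0, letters, hs =>
          simp only [Option.some.injEq, Prod.mk.injEq] at hs
          obtain ⟨rfl, rfl, rfl⟩ := hs
          refine ⟨[], rfl, ?_⟩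
          rw [lprod_nil]
          simpa [mval] using key
        | m + 1, x :: rest, hs =>
          simp only at hs
          cases hx : (Nat.blt m C.k && Nat.beq x (C.ι m)) with
          | false => rw [hx] at hs; exact absurd hs (by simp)
          | true =>
            rw [hx, cond_true] at hs
            simp only [Option.some.injEq, Prod.mk.injEq] at hs
            obtain ⟨rfl, rfl, rfl⟩ := hs
            rw [Bool.and_eq_true] at hx
            have hm : m < C.k := by
              have := hx.1
              rwa [Nat.blt_eq] at this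
            have hx' : x = C.ι m := Nat.eq_of_beq_eq_true hx.2
            refine ⟨[x], rfl, ?_⟩
            rw [lprod_cons, lprod_nil, mul_one, hx', hH.hι m hm]
            exact key
        | m + 1, [], hs => exact absurd hs (by simp)

theorem walk_sound (hH : Hyp C K g z) {j : ℕ} (hI : ∀ j', j' < j → Holds C K g z j') :
    ∀ (steps : List ℕ) (cur : ℕ) (lab : L8) (letters : List ℕ) (p : P) (cur' : ℕ) (lab' : L8),
      Rel K p (wrep C.par C.gen g cur * phi z lab) →
      walk C j steps cur lab letters = some (cur', lab') →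
      Rel K (p * lprod g letters) (wrep C.par C.gen g cur' * phi z lab')
  | [], cur, lab, letters, p, cur', lab', hp, hw => by
    unfold walk at hw
    match letters, hw with
    | [], hw =>
      simp only [Option.some.injEq, Prod.mk.injEq] at hw
      obtain ⟨rfl, rfl⟩ := hw
      rw [lprod_nil, mul_one]
      exact hp
    | _ :: _, hw => exact absurd hw (by simp)
  | s :: ss, cur, lab, letters, p, cur', lab', hp, hw => by
    unfold walk at hw
    cases hs : step C j s cur lab letters with
    | none => rw [hs] at hw; exact absurd hw (by simp)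
    | some r =>
      obtain ⟨c1, l1, r1⟩ := r
      rw [hs] at hw
      simp only at hw
      obtain ⟨pre, rfl, h1⟩ := step_sound hH hI hp hs
      have h2 := walk_sound hH hI ss c1 l1 r1 _ cur' lab' h1 hw
      rwa [lprod_append, ← mul_assoc]

theorem loop_holds (hH : Hyp C K g z) {wi c : ℕ} (h : loopOK C wi c = true) :
    Rel K (wrep C.par C.gen g c * lprod g (C.W wi)) (wrep C.par C.gen g c * phi z (C.δ wi)) := by
  by_cases hwi : wi < C.nrel
  · rw [hH.hrel wi hwi]
    exact rel_refl K _
  · unfold loopOK at h
    have h0 : Nat.blt wi C.nrel = false := by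
      cases hb : Nat.blt wi C.nrel with
      | false => rfl
      | true => rw [Nat.blt_eq] at hb; exact absurd hb hwi
    rw [h0, Bool.false_or, Bool.and_eq_true, Bool.and_eq_true] at h
    obtain ⟨⟨h1, h2⟩, h3⟩ := h
    have hw : wi < C.nw := by rwa [Nat.blt_eq] at h1
    have hc : c = 0 := Nat.eq_of_beq_eq_true h2
    have hδ := L8.eq_of_beq h3
    subst hc
    rw [wrep_zero, hδ, phi_zero, one_mul, mul_one]
    unfold Rel
    rw [inv_one, mul_one]
    exact hH.hsub wi (by omega) hw

theorem loop_key (hH : Hyp C K g z) {wc wv wb A Mv B : P} {α β δ : L8}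
    (R0 : Rel K (wc * (A * Mv * B)) (wc * phi z δ))
    (R1 : Rel K (wc * A) (wv * phi z α)) (R2 : Rel K (wc * B⁻¹) (wb * phi z β)) :
    Rel K (wv * Mv) (wb * phi z (L8.red C.E (L8.add (L8.add β δ) (L8.neg C.E α)))) := by
  have T1 := rel_mul_right R0 B⁻¹
  have e1 : wc * (A * Mv * B) * B⁻¹ = wc * A * Mv := by group
  have e2 : wc * phi z δ * B⁻¹ = wc * B⁻¹ * phi z δ := by
    rw [mul_assoc, ← phi_comm hH.hz, ← mul_assoc]
  rw [e1, e2] at T1
  have T1' := rel_trans T1 (rel_phi hH R2 δ)
  have T2 := rel_mul_right R1 Mv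
  have e3 : wv * phi z α * Mv = wv * Mv * phi z α := by
    rw [mul_assoc, ← phi_comm hH.hz, ← mul_assoc]
  rw [e3] at T2
  have T3 := rel_phi hH (rel_trans (rel_symm T2) T1') (L8.neg C.E α)
  have e4 : wv * Mv * phi z α * phi z (L8.neg C.E α) = wv * Mv := by
    rw [mul_assoc, phi_comm hH.hz (L8.neg C.E α) (phi z α), phi_neg hH.hz hH.h4, mul_one]
  rw [e4, mul_assoc, mul_assoc, ← phi_add hH.hz hH.h4, ← phi_add hH.hz hH.h4] at T3
  rw [phi_red]
  rwa [L8.add_assoc'] at T3

theorem mid_eq {g' i : ℕ} (l : List ℕ) (hg : g' ≤ 1) (hi : i + g' ≤ l.length) :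
    l = l.take i ++ (bif Nat.beq g' 0 then [] else [l.getD i 0]) ++ l.drop (i + g') := by
  rcases Nat.le_one_iff_eq_zero_or_eq_one.mp hg with rfl | rfl
  · simp
  · have hi' : i < l.length := by omega
    have h1 : Nat.beq 1 0 = false := rfl
    rw [h1, cond_false, List.getD_eq_getElem l 0 hi', List.append_assoc, List.singleton_append,
      ← List.drop_eq_getElem_cons hi', List.take_append_drop]

theorem checkLoop_sound (hH : Hyp C K g z) {j : ℕ} (hI : ∀ j', j' < j → Holds C K g z j')
    {r : ℕ} (h : checkLoop C j r = true) : Holds C K g z j := by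
  unfold checkLoop at h
  simp only [frc_eq] at h
  generalize Nat.mod r 2 = g' at h
  generalize Nat.mod (Nat.div r 2) 65536 = wi at h
  generalize Nat.mod (Nat.div r 131072) 1024 = i at h
  generalize Nat.mod (Nat.div r 134217728) 1048576 = c at h
  generalize Nat.mod (Nat.div r 140737488355328) 4096 = nF at h
  generalize Nat.mod (Nat.div r 576460752303423488) 4096 = nB at h
  generalize Nat.div r 2361183241434822606848 = body at h
  rw [Bool.and_eq_true, Bool.and_eq_true, Bool.and_eq_true] at h
  obtain ⟨⟨⟨hl, hg⟩, hi⟩, h⟩ := h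
  have hg' : g' ≤ 1 := by rwa [Nat.ble_eq] at hg
  have hi' : i + g' ≤ (C.W wi).length := by
    have := hi
    rwa [Nat.ble_eq] at this
  have hp0 : Rel K (wrep C.par C.gen g c) (wrep C.par C.gen g c * phi z L8.zero) := by
    rw [phi_zero, mul_one]
    exact rel_refl K _
  cases hw1 : walk C j (unpk nF body) c L8.zero ((C.W wi).take i) with
  | none => rw [hw1] at h; exact absurd h (by simp)
  | some r1 =>
    obtain ⟨v, α⟩ := r1
    rw [hw1] at h
    simp only at h
    cases hw2 : walk C j (unpk nB (Nat.div body (Nat.pow 16777216 nF))) c L8.zero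
        (winv C.ι ((C.W wi).drop (Nat.add i g'))) with
    | none => rw [hw2] at h; exact absurd h (by simp)
    | some r2 =>
      obtain ⟨b, β⟩ := r2
      rw [hw2] at h
      simp only at h
      rw [Bool.and_eq_true, Bool.and_eq_true, Bool.and_eq_true] at h
      obtain ⟨⟨⟨hA, hB⟩, hM⟩, hL⟩ := h
      have R1 := walk_sound hH hI _ _ _ _ _ _ _ hp0 hw1
      have R2 := walk_sound hH hI _ _ _ _ _ _ _ hp0 hw2
      have hdl : ∀ x ∈ (C.W wi).drop (Nat.add i g'), x < C.k := fun x hx =>
        hH.hW wi x (List.mem_of_mem_drop hx)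
      rw [lprod_winv hH _ hdl] at R2
      have R0 := loop_holds hH hl
      have hword := mid_eq (C.W wi) hg' hi'
      have e0 : lprod g (C.W wi) = lprod g ((C.W wi).take i) *
          mval g (bif Nat.beq g' 0 then 0 else Nat.succ ((C.W wi).getD i 0)) *
          lprod g ((C.W wi).drop (Nat.add i g')) := by
        conv_lhs => rw [hword]
        rw [lprod_append, lprod_append]
        congr 2
        cases Nat.beq g' 0 with
        | true => rfl
        | false => simp [lprod, mval]
      rw [e0] at R0
      have key := loop_key hH R0 R1 R2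
      unfold Holds
      rw [Nat.eq_of_beq_eq_true hA, Nat.eq_of_beq_eq_true hB, Nat.eq_of_beq_eq_true hM,
        L8.eq_of_beq hL]
      exact key

theorem checkDef_sound {j : ℕ} (h : checkDef C j = true) : Holds C K g z j := by
  unfold checkDef at h
  simp only [frc_eq] at h
  rw [Bool.and_eq_true, Bool.and_eq_true, Bool.and_eq_true, Bool.and_eq_true] at h
  obtain ⟨⟨⟨⟨h0, h1⟩, h2⟩, h3⟩, h4⟩ := h
  rw [Nat.blt_eq] at h0 h1
  unfold Holds
  rw [Nat.eq_of_beq_eq_true h2, Nat.eq_of_beq_eq_true h3, L8.eq_of_beq h4, phi_zero, mul_one,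
    wrep_def C.par C.gen g ⟨h0, h1⟩]
  exact rel_refl K _

/-- **soundness of the labelled certificate**. -/
theorem all_hold (hH : Hyp C K g z) (hchk : ∀ j, j < C.nf → ∃ r, checkFact C j r = true) :
    ∀ j, j < C.nf → Holds C K g z j := by
  intro j
  induction j using Nat.strong_induction_on with
  | _ j ih =>
    intro hj
    obtain ⟨r, hr⟩ := hchk j hj
    unfold checkFact at hr
    cases hk : Nat.beq (Nat.mod r 2) 0 with
    | true =>
      rw [hk, cond_true] at hr
      exact checkDef_sound hr
    | false =>
      rw [hk, cond_false] at hr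
      exact checkLoop_sound hH (fun j' hj' => ih j' hj' (by omega)) hr

end Cfsg.Agent.Helper4.LTV
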