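import Mathlib
import Cfsg.Agent.Helper4.LTVE
import Cfsg.Agent.Helper5.StemPE
import Cfsg.Agent.Helper5.LPF

/-!
# Labelled Todd–Coxeter certificates for covering presentations
-/

/-! (helper4: a copy of the file of the same letter of `Cfsg.Agent.Helper4.LTW*`, for the labels of
`LTVA`: central words below 256.) -/

set_option autoImplicit false

namespace Cfsg.Agent.Helper4.LTV

open Cfsg.Agent.Helper5.LP Cfsg.Agent.Helper5.StemP

section cov
variable (d : ℕ) (m : ℕ → ℕ) (CC TT : List (List ℕ)) (e : ℕ)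

/-- the values of the letters. -/
noncomputable def gC : ℕ → CovG d m CC TT e := lval (cgen d m CC TT e)

/-- the central elements. -/
noncomputable def zC (i : ℕ) : CovG d m CC TT e :=
  ev (2 * d) (coverRels d m CC TT e) (CC.getD i [])

theorem lprod_gC (l : List ℕ) (hl : ∀ c ∈ l, c < 2 * d) :
    lprod (gC d m CC TT e) l = ev (2 * d) (coverRels d m CC TT e) l :=
  (ev_eq_prod d m CC TT e l hl).symm

theorem mem_coverRels_T {r : List ℕ} (hr : r ∈ TT) :
    (List.replicate e r).flatten ∈ coverRels d m CC TT e := by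
  unfold coverRels
  apply List.mem_append_right
  rw [List.mem_map]
  exact ⟨r, hr, rfl⟩

theorem zC_center (hlt : ∀ r ∈ CC, ∀ c ∈ r, c < 2 * d) (i : ℕ) :
    zC d m CC TT e i ∈ Subgroup.center (CovG d m CC TT e) := by
  unfold zC
  by_cases hi : i < CC.length
  · rw [List.getD_eq_getElem CC [] hi]
    exact cover_center d m CC TT e (List.getElem_mem hi) (hlt _ (List.getElem_mem hi))
  · rw [List.getD_eq_default CC [] (by omega), ev_nil]
    exact Subgroup.one_mem _

theorem zC_pow (hCT : ∀ r ∈ CC, r ∈ TT) (i : ℕ) : zC d m CC TT e i ^ e = 1 := by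
  unfold zC
  by_cases hi : i < CC.length
  · rw [List.getD_eq_getElem CC [] hi, ev_pow]
    exact ev_rel (mem_coverRels_T d m CC TT e (hCT _ (List.getElem_mem hi)))
  · rw [List.getD_eq_default CC [] (by omega), ev_nil, one_pow]

theorem zC_ge (i : ℕ) (hi : CC.length ≤ i) : zC d m CC TT e i = 1 := by
  unfold zC
  rw [List.getD_eq_default CC [] hi, ev_nil]

/-- every element is spelled by a word. -/
theorem exists_word (p : CovG d m CC TT e) :
    ∃ l : List ℕ, (∀ c ∈ l, c < 2 * d) ∧ p = lprod (gC d m CC TT e) l := by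
  have hp : p ∈ Subgroup.closure {x : CovG d m CC TT e | ∃ c, c < 2 * d ∧
      x = ev (2 * d) (coverRels d m CC TT e) [c]} := by
    rw [closure_gens]
    exact Subgroup.mem_top p
  induction hp using Subgroup.closure_induction with
  | mem x hx =>
    obtain ⟨c, hc, rfl⟩ := hx
    have hl : ∀ c' ∈ [c], c' < 2 * d := by
      intro c' hc'
      rw [List.mem_singleton] at hc'
      omega
    exact ⟨[c], hl, (lprod_gC d m CC TT e _ hl).symm⟩
  | one => exact ⟨[], by simp, by rw [lprod_nil]⟩
  | mul x y _ _ hx hy =>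
    obtain ⟨l1, h1, rfl⟩ := hx
    obtain ⟨l2, h2, rfl⟩ := hy
    refine ⟨l1 ++ l2, ?_, (lprod_append _ _ _).symm⟩
    intro c hc
    rcases List.mem_append.mp hc with h | h
    · exact h1 c h
    · exact h2 c h
  | inv x _ hx =>
    obtain ⟨l, hl, rfl⟩ := hx
    refine ⟨Cfsg.Agent.Helper5.StemP.winv l, winv_lt d hl, ?_⟩
    rw [lprod_gC d m CC TT e _ (winv_lt d hl), ev_winv d m CC TT e hl, lprod_gC d m CC TT e _ hl]

/-- rotating a word with central value does not change the value. -/
theorem ev_rotate {k : ℕ} {R : List (List ℕ)} (l : List ℕ) (p : ℕ)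
    (hc : ev k R l ∈ Subgroup.center (LPG k R)) : ev k R (l.rotate p) = ev k R l := by
  rw [List.rotate_eq_drop_append_take_mod, ev_append]
  have h1 : ev k R l = ev k R (l.take (p % l.length)) * ev k R (l.drop (p % l.length)) := by
    rw [← ev_append, List.take_append_drop]
  have h2 := Subgroup.mem_center_iff.mp hc (ev k R (l.take (p % l.length)))
  rw [h1] at h2 ⊢
  have h3 : ev k R (List.take (p % l.length) l) *
      (ev k R (List.take (p % l.length) l) * ev k R (List.drop (p % l.length) l)) =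
      ev k R (List.take (p % l.length) l) *
      (ev k R (List.drop (p % l.length) l) * ev k R (List.take (p % l.length) l)) := by
    rw [h2, mul_assoc]
  exact (mul_left_cancel h3).symm

/-- is `(w, δ)` a valid relator word with its label? The origin `o` is even for a relator of the
covering presentation (or the empty word), and `2 * (i + 256 * p) + 1` for the rotation by `p` of
the `i`-th word of `CC`. -/
def wordOK (R CC : List (List ℕ)) (w : List ℕ) (δ : L8) (o : ℕ) : Bool :=
  bif Nat.beq (o % 2) 0 then (w.isEmpty || R.contains w) && L8.beq δ L8.zero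
  else Nat.blt (o / 2 % 256) CC.length && Nat.blt (o / 2 % 256) NS &&
    decide ((CC.getD (o / 2 % 256) []).rotate (o / 512) = w) && L8.beq δ (L8.unit (o / 2 % 256))

theorem wordOK_sound (hlt : ∀ r ∈ CC, ∀ c ∈ r, c < 2 * d) {w : List ℕ} {δ : L8} {o : ℕ}
    (h : wordOK (coverRels d m CC TT e) CC w δ o = true) :
    ev (2 * d) (coverRels d m CC TT e) w = phi (zC d m CC TT e) δ := by
  unfold wordOK at h
  cases ho : Nat.beq (o % 2) 0 with
  | true =>
    rw [ho, cond_true, Bool.and_eq_true, Bool.or_eq_true] at h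
    rw [L8.eq_of_beq h.2, phi_zero]
    rcases h.1 with h1 | h1
    · rw [List.isEmpty_iff] at h1
      rw [h1, ev_nil]
    · exact ev_rel (List.contains_iff_mem.mp h1)
  | false =>
    rw [ho, cond_false, Bool.and_eq_true, Bool.and_eq_true, Bool.and_eq_true] at h
    obtain ⟨⟨⟨h1, h2⟩, h3⟩, h4⟩ := h
    rw [Nat.blt_eq] at h1 h2
    rw [L8.eq_of_beq h4, phi_unit h2, ← of_decide_eq_true h3]
    unfold zC
    apply ev_rotate
    have := zC_center d m CC TT e hlt (o / 2 % 256)
    exact this

/-- **the order bound for covering groups from a labelled certificate**. -/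
theorem covG_card_le (C : Cert) (hk : C.k = 2 * d) (hι : C.ι = linv) (hE : C.E = e)
    (he0 : 0 < e) (he4 : e = 4) (hCT : ∀ r ∈ CC, r ∈ TT) (hlt : ∀ r ∈ CC, ∀ c ∈ r, c < 2 * d)
    (hlen : CC.length ≤ NS)
    (hWlt : ∀ wi, ∀ c ∈ C.W wi, c < 2 * d) (orig : ℕ → ℕ)
    (hwordOK : ∀ wi, wi < C.nrel →
      wordOK (coverRels d m CC TT e) CC (C.W wi) (C.δ wi) (orig wi) = true)
    (K : Subgroup (CovG d m CC TT e))
    (hsubs : ∀ wi, C.nrel ≤ wi → wi < C.nw →
      ev (2 * d) (coverRels d m CC TT e) (C.W wi) ∈ K)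
    [Finite K] (hK : ∀ l, phi (zC d m CC TT e) l ∈ K → phi (zC d m CC TT e) l = 1)
    (hchk : ∀ j, j < C.nf → ∃ r, checkFact C j r = true)
    (T : Tab) (hT0 : T.LV 0 = 0) (h0N : 0 < T.N)
    (hT : ∀ n, n < T.N → ∀ x, x < C.k → tabEntryOK C T n x = true)
    (js : List ℕ) (hjs : ∀ j ∈ js, relFactOK C j = true)
    (i0 a : ℕ) (hi0 : i0 < NS) (ha : 0 < a) (cs0 : List ℕ) (h0 : ordOK C js cs0 i0 a = true)
    (as : ℕ → ℕ) (css : ℕ → List ℕ)
    (hgs : ∀ i, i < CC.length → genOK C js (css i) i i0 (as i) = true) :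
    Finite (CovG d m CC TT e) ∧ Nat.card (CovG d m CC TT e) ≤ Nat.card K * T.N * a := by
  have hH : Hyp C K (gC d m CC TT e) (zC d m CC TT e) := by
    refine ⟨zC_center d m CC TT e hlt, by rw [hE]; exact he0, ?_, ?_, ?_, ?_, ?_, ?_⟩
    · intro i
      rw [hE]
      exact zC_pow d m CC TT e hCT i
    · intro i
      have h4 : zC d m CC TT e i ^ e = 1 := zC_pow d m CC TT e hCT i
      exact (congrArg (fun n => zC d m CC TT e i ^ n) he4).symm.trans h4
    · intro x _
      rw [hι]
      exact lval_linv _ x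
    · intro wi c hc
      rw [hk]
      exact hWlt wi c hc
    · intro wi hwi
      rw [lprod_gC d m CC TT e _ (hWlt wi)]
      exact wordOK_sound d m CC TT e hlt (hwordOK wi hwi)
    · intro wi h1 h2
      rw [lprod_gC d m CC TT e _ (hWlt wi)]
      exact hsubs wi h1 h2
  refine ltc_main hH hchk T hT0 h0N hT ?_ hK CC.length hlen ?_ js hjs i0 a hi0 ha cs0 h0 as css hgs
  · intro p
    obtain ⟨l, hl, hp⟩ := exists_word d m CC TT e p
    exact ⟨l, by rw [hk]; exact hl, hp⟩
  · intro i hi
    exact zC_ge d m CC TT e i hi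

end cov

end Cfsg.Agent.Helper4.LTV
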