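import Mathlib
import Cfsg.Agent.Helper4.LTVF

/-!
# Labelled Todd–Coxeter certificates for covering presentations: relators known to be trivial

A variant of `covG_card_le`: only the first `n` words of `CC` carry labels, the values of the
other ones being already known to be trivial (for instance because they are the relators of a
subgroup whose covering group is known).
-/

/-! (helper4: a copy of the file of the same letter of `Cfsg.Agent.Helper4.LTW*`, for the labels of
`LTVA`: central words below 256.) -/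

set_option autoImplicit false

namespace Cfsg.Agent.Helper4.LTV

open Cfsg.Agent.Helper5.LP Cfsg.Agent.Helper5.StemP

section cov
variable (d : ℕ) (m : ℕ → ℕ) (CC TT : List (List ℕ)) (e : ℕ)

/-- is `(w, δ)` a valid relator word with its label, when only the first `n` words of `CC` carry
labels? -/
def wordOK2 (R CC : List (List ℕ)) (n : ℕ) (w : List ℕ) (δ : L8) (o : ℕ) : Bool :=
  bif Nat.beq (o % 2) 0 then (w.isEmpty || R.contains w) && L8.beq δ L8.zero
  else Nat.blt (o / 2 % 256) CC.length &&
    decide ((CC.getD (o / 2 % 256) []).rotate (o / 512) = w) &&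
    (bif Nat.blt (o / 2 % 256) n then
      Nat.blt (o / 2 % 256) NS && L8.beq δ (L8.unit (o / 2 % 256))
    else L8.beq δ L8.zero)

theorem wordOK2_sound (hlt : ∀ r ∈ CC, ∀ c ∈ r, c < 2 * d) (n : ℕ)
    (hzn : ∀ i, n ≤ i → zC d m CC TT e i = 1) {w : List ℕ} {δ : L8} {o : ℕ}
    (h : wordOK2 (coverRels d m CC TT e) CC n w δ o = true) :
    ev (2 * d) (coverRels d m CC TT e) w = phi (zC d m CC TT e) δ := by
  unfold wordOK2 at h
  cases ho : Nat.beq (o % 2) 0 with
  | true =>
    rw [ho, cond_true, Bool.and_eq_true, Bool.or_eq_true] at h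
    rw [L8.eq_of_beq h.2, phi_zero]
    rcases h.1 with h1 | h1
    · rw [List.isEmpty_iff] at h1
      rw [h1, ev_nil]
    · exact ev_rel (List.contains_iff_mem.mp h1)
  | false =>
    rw [ho, cond_false, Bool.and_eq_true, Bool.and_eq_true] at h
    obtain ⟨⟨h1, h3⟩, h4⟩ := h
    have hrot : ev (2 * d) (coverRels d m CC TT e) w = zC d m CC TT e (o / 2 % 256) := by
      rw [← of_decide_eq_true h3]
      unfold zC
      apply ev_rotate
      have := zC_center d m CC TT e hlt (o / 2 % 256)
      exact this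
    rw [hrot]
    cases hn : Nat.blt (o / 2 % 256) n with
    | true =>
      rw [hn, cond_true, Bool.and_eq_true] at h4
      have h2 : o / 2 % 256 < NS := by
        have := h4.1
        rwa [Nat.blt_eq] at this
      rw [L8.eq_of_beq h4.2, phi_unit h2]
    | false =>
      rw [hn, cond_false] at h4
      rw [L8.eq_of_beq h4, phi_zero]
      apply hzn
      by_contra hcon
      rw [not_le] at hcon
      have : Nat.blt (o / 2 % 256) n = true := by rwa [Nat.blt_eq]
      rw [this] at hn
      exact Bool.noConfusion hn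

/-- **the order bound for covering groups from a labelled certificate**, the words of `CC` after
the first `n` ones being known to have trivial value. -/
theorem covG_card_le_tail (C : Cert) (hk : C.k = 2 * d) (hι : C.ι = linv) (hE : C.E = e)
    (he0 : 0 < e) (he4 : e = 4) (hCT : ∀ r ∈ CC, r ∈ TT) (hlt : ∀ r ∈ CC, ∀ c ∈ r, c < 2 * d)
    (n : ℕ) (hn : n ≤ NS) (hzn : ∀ i, n ≤ i → zC d m CC TT e i = 1)
    (hWlt : ∀ wi, ∀ c ∈ C.W wi, c < 2 * d) (orig : ℕ → ℕ)
    (hwordOK : ∀ wi, wi < C.nrel →
      wordOK2 (coverRels d m CC TT e) CC n (C.W wi) (C.δ wi) (orig wi) = true)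
    (K : Subgroup (CovG d m CC TT e))
    (hsubs : ∀ wi, C.nrel ≤ wi → wi < C.nw →
      ev (2 * d) (coverRels d m CC TT e) (C.W wi) ∈ K)
    [Finite K] (hK : ∀ l, phi (zC d m CC TT e) l ∈ K → phi (zC d m CC TT e) l = 1)
    (hchk : ∀ j, j < C.nf → ∃ r, checkFact C j r = true)
    (T : Tab) (hT0 : T.LV 0 = 0) (h0N : 0 < T.N)
    (hT : ∀ n, n < T.N → ∀ x, x < C.k → tabEntryOK C T n x = true)
    (js : List ℕ) (hjs : ∀ j ∈ js, relFactOK C j = true)
    (i0 a : ℕ) (hi0 : i0 < NS) (ha : 0 < a) (cs0 : List ℕ) (h0 : ordOK C js cs0 i0 a = true)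
    (as : ℕ → ℕ) (css : ℕ → List ℕ)
    (hgs : ∀ i, i < n → genOK C js (css i) i i0 (as i) = true) :
    Finite (CovG d m CC TT e) ∧ Nat.card (CovG d m CC TT e) ≤ Nat.card K * T.N * a := by
  have hH : Hyp C K (gC d m CC TT e) (zC d m CC TT e) := by
    refine ⟨zC_center d m CC TT e hlt, by rw [hE]; exact he0, ?_, ?_, ?_, ?_, ?_, ?_⟩
    · intro i
      rw [hE]
      exact zC_pow d m CC TT e hCT i
    · intro i
      have h4 : zC d m CC TT e i ^ e = 1 := zC_pow d m CC TT e hCT i
      exact (congrArg (fun n => zC d m CC TT e i ^ n) he4).symm.trans h4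
    · intro x _
      rw [hι]
      exact lval_linv _ x
    · intro wi c hc
      rw [hk]
      exact hWlt wi c hc
    · intro wi hwi
      rw [lprod_gC d m CC TT e _ (hWlt wi)]
      exact wordOK2_sound d m CC TT e hlt n hzn (hwordOK wi hwi)
    · intro wi h1 h2
      rw [lprod_gC d m CC TT e _ (hWlt wi)]
      exact hsubs wi h1 h2
  refine ltc_main hH hchk T hT0 h0N hT ?_ hK n hn hzn js hjs i0 a hi0 ha cs0 h0 as css hgs
  intro p
  obtain ⟨l, hl, hp⟩ := exists_word d m CC TT e p
  exact ⟨l, by rw [hk]; exact hl, hp⟩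

end cov

end Cfsg.Agent.Helper4.LTV
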