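import Mathlib
import Cfsg.Agent.Helper4.LTVQ

/-!
# Labelled Todd–Coxeter certificates over a subgroup containing the unlabelled central words

A variant of `LTCQ.covG_card_le_tail_noK`: the central words after the first `n` ones need not be
trivial, it is enough that their values lie in the subgroup `K`.  The proof passes to the quotient
by the central subgroup `K ⊓ center`, in which these values vanish.
-/

set_option autoImplicit false

namespace Cfsg.Agent.Helper4.LTVQ

open Cfsg.Agent.Helper4.LTV Cfsg.Agent.Helper5.StemP Cfsg.Agent.Helper5.LP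

section cov
variable (d : ℕ) (m : ℕ → ℕ) (CC TT : List (List ℕ)) (e : ℕ)

/-- the value of a valid relator word in a quotient where the unlabelled central words vanish. -/
theorem wordOK2_sound_map {Q : Type*} [Group Q] (π : CovG d m CC TT e →* Q)
    (hlt : ∀ r ∈ CC, ∀ c ∈ r, c < 2 * d) (n : ℕ)
    (hzn : ∀ i, n ≤ i → π (zC d m CC TT e i) = 1) {w : List ℕ} {δ : L8} {o : ℕ}
    (h : wordOK2 (coverRels d m CC TT e) CC n w δ o = true) :
    π (ev (2 * d) (coverRels d m CC TT e) w) = π (phi (zC d m CC TT e) δ) := by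
  unfold wordOK2 at h
  cases ho : Nat.beq (o % 2) 0 with
  | true =>
    rw [ho, cond_true, Bool.and_eq_true, Bool.or_eq_true] at h
    rw [L8.eq_of_beq h.2, phi_zero]
    rcases h.1 with h1 | h1
    · rw [List.isEmpty_iff] at h1
      rw [h1, ev_nil]
    · rw [ev_rel (List.contains_iff_mem.mp h1)]
  | false =>
    rw [ho, cond_false, Bool.and_eq_true, Bool.and_eq_true] at h
    obtain ⟨⟨h1, h3⟩, h4⟩ := h
    have hrot : ev (2 * d) (coverRels d m CC TT e) w = zC d m CC TT e (o / 2 % 256) := by
      rw [← of_decide_eq_true h3]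
      unfold zC
      apply ev_rotate
      have := zC_center d m CC TT e hlt (o / 2 % 256)
      exact this
    rw [hrot]
    cases hn : Nat.blt (o / 2 % 256) n with
    | true =>
      rw [hn, cond_true, Bool.and_eq_true] at h4
      have h2 : o / 2 % 256 < NS := by
        have := h4.1
        rwa [Nat.blt_eq] at this
      rw [L8.eq_of_beq h4.2, phi_unit h2]
    | false =>
      rw [hn, cond_false] at h4
      rw [L8.eq_of_beq h4, phi_zero, map_one]
      apply hzn
      by_contra hcon
      rw [not_le] at hcon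
      have : Nat.blt (o / 2 % 256) n = true := by rwa [Nat.blt_eq]
      rw [this] at hn
      exact Bool.noConfusion hn

/-- the order bound for a covering group from a labelled certificate whose first `n` central words
carry labels, the values of the others lying in `K`; no other condition on `K`. -/
theorem covG_card_le_tail_inK (C : Cert) (hk : C.k = 2 * d) (hι : C.ι = linv) (hE : C.E = e)
    (he0 : 0 < e) (he4 : e = 4) (hCT : ∀ r ∈ CC, r ∈ TT) (hlt : ∀ r ∈ CC, ∀ c ∈ r, c < 2 * d)
    (n : ℕ) (hn : n ≤ NS) (K : Subgroup (CovG d m CC TT e))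
    (hzn : ∀ i, n ≤ i → zC d m CC TT e i ∈ K)
    (hWlt : ∀ wi, ∀ c ∈ C.W wi, c < 2 * d) (orig : ℕ → ℕ)
    (hwordOK : ∀ wi, wi < C.nrel →
      wordOK2 (coverRels d m CC TT e) CC n (C.W wi) (C.δ wi) (orig wi) = true)
    (hsubs : ∀ wi, C.nrel ≤ wi → wi < C.nw →
      ev (2 * d) (coverRels d m CC TT e) (C.W wi) ∈ K)
    [Finite K]
    (hchk : ∀ j, j < C.nf → ∃ r, checkFact C j r = true)
    (T : Tab) (hT0 : T.LV 0 = 0) (h0N : 0 < T.N)
    (hT : ∀ n, n < T.N → ∀ x, x < C.k → tabEntryOK C T n x = true)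
    (js : List ℕ) (hjs : ∀ j ∈ js, relFactOK C j = true)
    (i0 a : ℕ) (hi0 : i0 < NS) (ha : 0 < a) (cs0 : List ℕ) (h0 : ordOK C js cs0 i0 a = true)
    (as : ℕ → ℕ) (css : ℕ → List ℕ)
    (hgs : ∀ i, i < n → genOK C js (css i) i i0 (as i) = true) :
    Finite (CovG d m CC TT e) ∧ Nat.card (CovG d m CC TT e) ≤ Nat.card K * T.N * a := by
  classical
  set P := CovG d m CC TT e with hPdef
  have hzc : ∀ i, zC d m CC TT e i ∈ Subgroup.center P := zC_center d m CC TT e hlt
  -- the central part of `K`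
  let M : Subgroup P := K ⊓ Subgroup.center P
  have hMn : M.Normal := by
    refine ⟨fun x hx y => ?_⟩
    have hc := Subgroup.mem_center_iff.mp hx.2 y
    have e' : y * x * y⁻¹ = x := by rw [hc, mul_inv_cancel_right]
    rw [e']
    exact hx
  let π : P →* P ⧸ M := QuotientGroup.mk' M
  have hπ : Function.Surjective π := QuotientGroup.mk'_surjective M
  have hker : π.ker = M := QuotientGroup.ker_mk' M
  have hzM : ∀ i, n ≤ i → π (zC d m CC TT e i) = 1 := by
    intro i hi
    have h1 : zC d m CC TT e i ∈ π.ker := by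
      rw [hker]
      exact ⟨hzn i hi, hzc i⟩
    exact MonoidHom.mem_ker.mp h1
  have hH' : Hyp C (K.map π) (fun i => π (gC d m CC TT e i)) (fun i => π (zC d m CC TT e i)) := by
    refine ⟨?_, by rw [hE]; exact he0, ?_, ?_, ?_, ?_, ?_, ?_⟩
    · intro i
      rw [Subgroup.mem_center_iff]
      intro y
      obtain ⟨x, rfl⟩ := hπ y
      rw [← map_mul, ← map_mul, Subgroup.mem_center_iff.mp (hzc i) x]
    · intro i
      show π (zC d m CC TT e i) ^ C.E = 1
      rw [← map_pow, hE, zC_pow d m CC TT e hCT i, map_one]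
    · intro i
      show π (zC d m CC TT e i) ^ 4 = 1
      have h4 : zC d m CC TT e i ^ e = 1 := zC_pow d m CC TT e hCT i
      have h5 : zC d m CC TT e i ^ 4 = 1 :=
        (congrArg (fun n => zC d m CC TT e i ^ n) he4).symm.trans h4
      rw [← map_pow, h5, map_one]
    · intro x _
      show π (gC d m CC TT e (C.ι x)) = (π (gC d m CC TT e x))⁻¹
      rw [hι, ← map_inv]
      congr 1
      exact lval_linv _ x
    · intro wi c hc
      rw [hk]
      exact hWlt wi c hc
    · intro wi hwi
      rw [lprod_map, phi_map, lprod_gC d m CC TT e _ (hWlt wi)]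
      exact wordOK2_sound_map d m CC TT e π hlt n hzM (hwordOK wi hwi)
    · intro wi h1 h2
      rw [lprod_map, lprod_gC d m CC TT e _ (hWlt wi)]
      exact Subgroup.mem_map_of_mem π (hsubs wi h1 h2)
  have : Finite (K.map π) := by
    have hs : Function.Surjective (fun k : K => (⟨π k.1, Subgroup.mem_map_of_mem π k.2⟩ :
        K.map π)) := by
      rintro ⟨y, k, hk, rfl⟩
      exact ⟨⟨k, hk⟩, rfl⟩
    exact Finite.of_surjective _ hs
  have hK' : ∀ l, phi (fun i => π (zC d m CC TT e i)) l ∈ K.map π →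
      phi (fun i => π (zC d m CC TT e i)) l = 1 := by
    intro l hl
    rw [phi_map] at hl ⊢
    obtain ⟨k, hk', hkl⟩ := hl
    have h1 : k⁻¹ * phi (zC d m CC TT e) l ∈ π.ker := by
      rw [MonoidHom.mem_ker, map_mul, map_inv, hkl, inv_mul_cancel]
    rw [hker] at h1
    have h2 : phi (zC d m CC TT e) l ∈ K := by
      have := K.mul_mem hk' h1.1
      rwa [mul_inv_cancel_left] at this
    have h3 : phi (zC d m CC TT e) l ∈ M := ⟨h2, phi_mem_center hzc l⟩
    rw [← hker] at h3
    exact MonoidHom.mem_ker.mp h3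
  have hgen' : ∀ p : P ⧸ M, ∃ l : List ℕ, (∀ c ∈ l, c < C.k) ∧
      p = lprod (fun i => π (gC d m CC TT e i)) l := by
    intro p
    obtain ⟨x, rfl⟩ := hπ p
    obtain ⟨l, hl, rfl⟩ := exists_word d m CC TT e x
    exact ⟨l, by rw [hk]; exact hl, (lprod_map π _ l).symm⟩
  have hz8' : ∀ i, n ≤ i → (fun i => π (zC d m CC TT e i)) i = 1 := hzM
  obtain ⟨hfin', hcard'⟩ := ltc_main hH' hchk T hT0 h0N hT hgen' hK' n hn hz8' js hjs i0 a hi0 ha
    cs0 h0 as css hgs
  -- `M` is finite
  have hMK : M ≤ K := inf_le_left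
  have hMfin : Finite M := Finite.of_injective (fun m' : M => (⟨m'.1, hMK m'.2⟩ : K))
    (fun a b hab => Subtype.ext (congrArg (fun k : K => (k : P)) hab))
  have hPfin : Finite P := by
    have : Finite (P ⧸ M) := hfin'
    exact Finite.of_equiv _ (Subgroup.groupEquivQuotientProdSubgroup (s := M)).symm
  refine ⟨hPfin, ?_⟩
  have hP : Nat.card P = Nat.card (P ⧸ M) * Nat.card M :=
    Subgroup.card_eq_card_quotient_mul_card_subgroup M
  let ρ : K →* P ⧸ M := π.comp K.subtype
  have hρr : Nat.card ρ.range = Nat.card (K.map π) := by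
    have e' : ρ.range = K.map π := by
      ext y
      constructor
      · rintro ⟨k, rfl⟩
        exact ⟨k.1, k.2, rfl⟩
      · rintro ⟨k, hk', rfl⟩
        exact ⟨⟨k, hk'⟩, rfl⟩
    rw [e']
  have hρk : Nat.card ρ.ker = Nat.card M := by
    apply Nat.card_congr
    refine ⟨fun x => ⟨x.1.1, ?_⟩, fun m' => ⟨⟨m'.1, hMK m'.2⟩, ?_⟩, fun x => rfl, fun m' => rfl⟩
    · have hx : π x.1.1 = 1 := x.2
      have : x.1.1 ∈ π.ker := hx
      rwa [hker] at this
    · show π m'.1 = 1
      have : m'.1 ∈ π.ker := by rw [hker]; exact m'.2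
      exact this
  have hKc : Nat.card K = Nat.card (K.map π) * Nat.card M := by
    have h1 := Subgroup.card_eq_card_quotient_mul_card_subgroup ρ.ker
    have h2 : Nat.card (K ⧸ ρ.ker) = Nat.card ρ.range :=
      Nat.card_congr (QuotientGroup.quotientKerEquivRange ρ).toEquiv
    rw [h1, h2, hρr, hρk]
  calc Nat.card P = Nat.card (P ⧸ M) * Nat.card M := hP
    _ ≤ Nat.card (K.map π) * T.N * a * Nat.card M := Nat.mul_le_mul_right _ hcard'
    _ = Nat.card K * T.N * a := by rw [hKc]; ring

end cov

end Cfsg.Agent.Helper4.LTVQ
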