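import Mathlib
import Cfsg.Agent.Helper4.LTVQ2
import Cfsg.Agent.Helper4.Tower
import Cfsg.Agent.Helper5.LPF

/-!
# Towers of covering presentations: a step with a certificate of `Cfsg.Agent.Helper4.LTV*`

The step `Cfsg.Agent.Helper4.TowerX.step_range_x` for covering groups of exponent 4, with a
labelled certificate in the format of `Cfsg.Agent.Helper4.LTV*`: up to 128 labelled central words.
-/

set_option autoImplicit false

namespace Cfsg.Agent.Helper4.TowerV

open Cfsg Cfsg.Agent.Helper5.StemP Cfsg.Agent.Helper5.LP Cfsg.Agent.Helper4.LTV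
  Cfsg.Agent.Helper4.LTVQ Cfsg.Agent.Helper4.Tower

section step
variable (d' d : ℕ) (m : ℕ → ℕ) (CL EX XX : List (List ℕ)) (e : ℕ)

/-- **one step of a tower of covering presentations** with a block `XX` of central words of
value 1, which carry no labels. -/
theorem step_range_x (hd : d' ≤ d) (hCL : ∀ r ∈ CL, ∀ c ∈ r, c < 2 * d')
    (hEX : ∀ r ∈ EX ++ XX, ∀ c ∈ r, c < 2 * d) (he0 : 0 < e) (he4 : e = 4) (hn : EX.length ≤ NS)
    (hXX : ∀ r ∈ XX,
      ev (2 * d) (coverRels d m ((EX ++ XX) ++ CL) ((EX ++ XX) ++ CL) e) r = 1)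
    (hB : Finite (CovG d' m CL CL e))
    (C : Cert) (hk : C.k = 2 * d) (hι : C.ι = linv) (hE : C.E = e)
    (hWlt : ∀ wi, ∀ c ∈ C.W wi, c < 2 * d) (orig : ℕ → ℕ)
    (hwordOK : ∀ wi, wi < C.nrel →
      wordOK2 (coverRels d m ((EX ++ XX) ++ CL) ((EX ++ XX) ++ CL) e) ((EX ++ XX) ++ CL)
        EX.length (C.W wi) (C.δ wi) (orig wi) = true)
    (hsubW : ∀ wi, C.nrel ≤ wi → wi < C.nw → ∃ c, c < 2 * d' ∧ C.W wi = [c])
    (hchk : ∀ j, j < C.nf → ∃ r, checkFact C j r = true)
    (T : Tab) (hT0 : T.LV 0 = 0) (h0N : 0 < T.N)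
    (hT : ∀ n, n < T.N → ∀ x, x < C.k → tabEntryOK C T n x = true)
    (js : List ℕ) (hjs : ∀ j ∈ js, relFactOK C j = true)
    (i0 a : ℕ) (hi0 : i0 < NS) (ha : 0 < a) (cs0 : List ℕ) (h0 : ordOK C js cs0 i0 a = true)
    (as : ℕ → ℕ) (css : ℕ → List ℕ)
    (hgs : ∀ i, i < EX.length → genOK C js (css i) i i0 (as i) = true) :
    Finite (CovG d m ((EX ++ XX) ++ CL) ((EX ++ XX) ++ CL) e) ∧
      Nat.card (CovG d m ((EX ++ XX) ++ CL) ((EX ++ XX) ++ CL) e) ≤
        Nat.card (phiT d' d m CL (EX ++ XX) e hd hCL).range * T.N * a := by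
  have : Finite (CovG d' m CL CL e) := hB
  let φ := phiT d' d m CL (EX ++ XX) e hd hCL
  let K : Subgroup (CovG d m ((EX ++ XX) ++ CL) ((EX ++ XX) ++ CL) e) := φ.range
  have hKfin : Finite K := Finite.of_surjective φ.rangeRestrict φ.rangeRestrict_surjective
  have hzn : ∀ i, EX.length ≤ i →
      zC d m ((EX ++ XX) ++ CL) ((EX ++ XX) ++ CL) e i ∈ K := by
    intro i hi
    unfold zC
    by_cases hi2 : i < (EX ++ XX).length
    · have e1 : ((EX ++ XX) ++ CL).getD i [] = XX.getD (i - EX.length) [] := by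
        rw [List.getD_append _ _ _ _ hi2, List.getD_append_right _ _ _ _ hi]
      rw [e1]
      have hlt : i - EX.length < XX.length := by
        rw [List.length_append] at hi2
        omega
      rw [List.getD_eq_getElem XX [] hlt, hXX _ (List.getElem_mem hlt)]
      exact K.one_mem
    · have hi3 : (EX ++ XX).length ≤ i := by omega
      have e1 : ((EX ++ XX) ++ CL).getD i [] = CL.getD (i - (EX ++ XX).length) [] :=
        List.getD_append_right _ _ _ _ hi3
      rw [e1]
      by_cases hlt : i - (EX ++ XX).length < CL.length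
      · rw [List.getD_eq_getElem CL [] hlt]
        have hmem : CL[i - (EX ++ XX).length] ∈ CL := List.getElem_mem hlt
        exact ⟨ev (2 * d') (coverRels d' m CL CL e) CL[i - (EX ++ XX).length],
          phiT_ev d' d m CL (EX ++ XX) e hd hCL _ (hCL _ hmem)⟩
      · rw [List.getD_eq_default CL [] (by omega), ev_nil]
        exact K.one_mem
  have hsubs : ∀ wi, C.nrel ≤ wi → wi < C.nw →
      ev (2 * d) (coverRels d m ((EX ++ XX) ++ CL) ((EX ++ XX) ++ CL) e) (C.W wi) ∈ K := by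
    intro wi h1 h2
    obtain ⟨c, hc, hW⟩ := hsubW wi h1 h2
    rw [hW]
    refine ⟨ev (2 * d') (coverRels d' m CL CL e) [c], ?_⟩
    apply phiT_ev
    intro c' hc'
    rw [List.mem_singleton] at hc'
    omega
  exact covG_card_le_tail_inK d m ((EX ++ XX) ++ CL) ((EX ++ XX) ++ CL) e C hk hι hE he0 he4
    (fun r hr => hr) (CC_lt d' d CL (EX ++ XX) hd hCL hEX) EX.length hn K hzn hWlt orig hwordOK
    hsubs hchk T hT0 h0N hT js hjs i0 a hi0 ha cs0 h0 as css hgs

end step

end Cfsg.Agent.Helper4.TowerV
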