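import Mathlib
import Cfsg.Agent.Helper4.F42Def
import Cfsg.Agent.Helper4.TowerV
import Cfsg.Agent.Helper4.F42CDat

/-!
# The tower for `F₄(2)`: the loop words of the third certificate

The loop words of the certificate of `⟨a, b, c, d⟩` over `⟨a, b, c⟩` are rotations of the relators of
the covering presentation.
-/

set_option autoImplicit false
set_option Elab.async false

namespace Cfsg.Agent.Helper4.F42

open Cfsg Cfsg.Agent.Helper5.StemP Cfsg.Agent.Helper5.LP Cfsg.Agent.Helper4.LTV

/-- the letters of the words of a two-level list are bounded. -/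
theorem getD2_lt (L : List (List (List ℕ))) (n : ℕ) (h : ∀ g ∈ L, ∀ w ∈ g, ∀ c ∈ w, c < n)
    (a b : ℕ) : ∀ c ∈ (L.getD a []).getD b [], c < n := by
  intro c hc
  by_cases ha : a < L.length
  · rw [List.getD_eq_getElem _ _ ha] at hc
    by_cases hb : b < (L[a]).length
    · rw [List.getD_eq_getElem _ _ hb] at hc
      exact h _ (List.getElem_mem ha) _ (List.getElem_mem hb) c hc
    · rw [List.getD_eq_default _ _ (by omega)] at hc
      simp at hc
  · have e : L.getD a [] = [] := List.getD_eq_default _ _ (by omega)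
    rw [e] at hc
    simp at hc

/-- the check of a loop word of the third certificate. -/
def wokC (wi : ℕ) : Bool :=
  wordOK2 (coverRels 4 mF ((EX4 ++ []) ++ CL3) ((EX4 ++ []) ++ CL3) 4) ((EX4 ++ []) ++ CL3)
    EX4.length (F42C.cert.W wi) (F42C.cert.δ wi) (F42C.orig wi)

set_option maxRecDepth 1000000 in
theorem wokC_0 : ∀ i, i < 80 → wokC (0 + i) = true := by decide +kernel

set_option maxRecDepth 1000000 in
theorem wokC_1 : ∀ i, i < 80 → wokC (80 + i) = true := by decide +kernel

theorem wordOK_C : ∀ wi, wi < F42C.cert.nrel →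
    wordOK2 (coverRels 4 mF ((EX4 ++ []) ++ CL3) ((EX4 ++ []) ++ CL3) 4) ((EX4 ++ []) ++ CL3)
      EX4.length (F42C.cert.W wi) (F42C.cert.δ wi) (F42C.orig wi) = true := by
  intro wi h
  have h' : wi < 160 := h
  change wokC wi = true
  by_cases h1 : wi < 80
  · have := wokC_0 wi h1
    rwa [Nat.zero_add] at this
  · have := wokC_1 (wi - 80) (by omega)
    rwa [show 80 + (wi - 80) = wi by omega] at this

set_option maxRecDepth 1000000 in
theorem words2_lt_C : ∀ g ∈ F42C.words2, ∀ w ∈ g, ∀ c ∈ w, c < 2 * 4 := by decide +kernel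

theorem words_lt_C : ∀ wi, ∀ c ∈ F42C.cert.W wi, c < 2 * 4 := fun _ =>
  getD2_lt F42C.words2 (2 * 4) words2_lt_C _ _

end Cfsg.Agent.Helper4.F42
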