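import Mathlib
import Cfsg.Agent.Helper4.F42TowL
import Cfsg.Agent.Helper4.F42WokC
import Cfsg.Agent.Helper4.F42CSum

/-!
# The tower for `F₄(2)`: the covering group of exponent 4 of `⟨a, b, c, d⟩ ≅ Sp₈(2)`

A labelled Todd–Coxeter certificate of exponent 4 of `⟨a, b, c, d⟩` over `⟨a, b, c⟩ ≅ Sp₄(4)`
(48384 cosets), in the format of `Cfsg.Agent.Helper4.LTV*`.
-/

set_option autoImplicit false

namespace Cfsg.Agent.Helper4.F42

open Cfsg Cfsg.Agent.Helper5.StemP Cfsg.Agent.Helper5.LP Cfsg.Agent.Helper4.LTV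

theorem EX4_lt : ∀ r ∈ EX4 ++ ([] : List (List ℕ)), ∀ c ∈ r, c < 2 * 4 := by decide

theorem hsubW_C : ∀ wi, F42C.cert.nrel ≤ wi → wi < F42C.cert.nw →
    ∃ c, c < 2 * 3 ∧ F42C.cert.W wi = [c] := by
  intro wi h1 h2
  have h1' : 160 ≤ wi := h1
  have h2' : wi < 163 := h2
  interval_cases wi
  · exact ⟨0, by norm_num, by decide +kernel⟩
  · exact ⟨2, by norm_num, by decide +kernel⟩
  · exact ⟨4, by norm_num, by decide +kernel⟩

theorem card4 : Finite (CovG 4 mF CL4 CL4 4) ∧ Nat.card (CovG 4 mF CL4 CL4 4) ≤ 47377612800 := by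
  have h := TowerV.step_range_x 3 4 mF CL3 EX4 [] 4 (by norm_num) CL3_lt EX4_lt (by norm_num) rfl
    (by decide) (fun r hr => absurd hr (List.not_mem_nil)) card3.1 F42C.cert rfl rfl rfl words_lt_C
    F42C.orig wordOK_C hsubW_C F42C.hchk F42C.tab (by decide +kernel)
    (by decide) F42C.hT F42C.js F42C.hjs 0 1 (by decide) (by norm_num) F42C.cs0 F42C.h0
    (fun i => F42C.as_.getD i 0) (fun i => F42C.css.getD i []) F42C.hgs
  have hN : F42C.tab.N = 48384 := rfl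
  rw [hN] at h
  have : Finite (CovG 3 mF CL3 CL3 4) := card3.1
  have hK : Nat.card (Tower.phiT 3 4 mF CL3 (EX4 ++ []) 4 (by norm_num) CL3_lt).range ≤ 979200 :=
    (Nat.card_le_card_of_surjective _ (MonoidHom.rangeRestrict_surjective _)).trans card3.2
  have h2 : Finite (CovG 4 mF ((EX4 ++ []) ++ CL3) ((EX4 ++ []) ++ CL3) 4) ∧
      Nat.card (CovG 4 mF ((EX4 ++ []) ++ CL3) ((EX4 ++ []) ++ CL3) 4) ≤ 47377612800 := by
    refine ⟨h.1, h.2.trans ?_⟩
    calc Nat.card (Tower.phiT 3 4 mF CL3 (EX4 ++ []) 4 (by norm_num) CL3_lt).range * 48384 * 1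
        ≤ 979200 * 48384 * 1 := Nat.mul_le_mul_right _ (Nat.mul_le_mul_right _ hK)
      _ = 47377612800 := by norm_num
  have e1 : (EX4 ++ ([] : List (List ℕ))) ++ CL3 = CL4 := by
    rw [List.append_nil]
    rfl
  rw [e1] at h2
  exact h2

theorem CL4_lt : ∀ r ∈ CL4, ∀ c ∈ r, c < 2 * 4 := by decide

end Cfsg.Agent.Helper4.F42
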