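import Cfsg.Agent.Helper4.F42EDatA
import Cfsg.Agent.Helper4.F42EDatL0
import Cfsg.Agent.Helper4.F42EDatL1
import Cfsg.Agent.Helper4.F42EDatL2
import Cfsg.Agent.Helper4.F42EDatL3
import Cfsg.Agent.Helper4.F42EDatF0
import Cfsg.Agent.Helper4.F42EDatF1
import Cfsg.Agent.Helper4.F42EDatF2
import Cfsg.Agent.Helper4.F42EDatT0
import Cfsg.Agent.Helper4.F42EDatT1
import Cfsg.Agent.Helper4.F42EDatT2
import Cfsg.Agent.Helper4.F42EDatT3
import Cfsg.Agent.Helper4.F42EDatT4
import Cfsg.Agent.Helper4.F42EDatT5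

/-! generated labelled Todd-Coxeter certificate: F42E, the certificate -/

set_option autoImplicit false
set_option Elab.async false
set_option maxRecDepth 1000000

namespace Cfsg.Agent.Helper4.F42E
open Cfsg.Agent.Helper4.LTV

/-- the blocks of facts. -/
def faSel : ℕ → List (List ℕ)
  | 0 => fa2_0
  | 1 => fa2_1
  | _ => fa2_2

/-- the blocks of the table. -/
def tbSel : ℕ → List (List ℕ)
  | 0 => tb2_0
  | 1 => tb2_1
  | 2 => tb2_2
  | 3 => tb2_3
  | 4 => tb2_4
  | _ => tb2_5

/-- the blocks of labels. -/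
def ltSel : ℕ → List (List ℕ)
  | 0 => lt2_0
  | 1 => lt2_1
  | 2 => lt2_2
  | _ => lt2_3

/-- a fact with its label looked up in the table of labels. -/
def faX (f : ℕ) : ℕ :=
  Nat.add (Nat.mod f 70368744177664)
    (Nat.mul ((fun li => lk2 256 (ltSel (Nat.div li 65536)) (Nat.mod li 65536)) (Nat.div f 70368744177664))
      70368744177664)

def cert : Cert where
  k := 10
  ι := Cfsg.Agent.Helper5.StemP.linv
  E := 4
  W := fun wi => (words2.getD (Nat.div wi 64) []).getD (Nat.mod wi 64) []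
  nrel := 3109
  nw := 3113
  δ := fun wi => L8.dec (lk2 256 deltas2 wi)
  par := fun v => lk2 24 par2 v
  gen := fun v => lk2 8 gen2 v
  fa := fun j => faX (lk2 64 (faSel (Nat.div j 131072)) (Nat.mod j 131072))
  nf := 356990

def tab : Tab where
  N := 69888
  LV := fun n => lk2 24 lv2 n
  TB := fun n x => (fun i => lk2 48 (tbSel (Nat.div i 131072)) (Nat.mod i 131072)) (Nat.add (Nat.mul 10 n) x)

/-- the origins of the loop words. -/
def orig (wi : ℕ) : ℕ := lk2 24 origs2 wi

end Cfsg.Agent.Helper4.F42E
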