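import Mathlib
import Cfsg.Agent.Helper4.F42Def
import Cfsg.Agent.Helper4.TowerV
import Cfsg.Agent.Helper4.F42EDat

/-!
# The tower for `F₄(2)`: the loop words of the last certificate, the check
-/

set_option autoImplicit false
set_option Elab.async false

namespace Cfsg.Agent.Helper4.F42

open Cfsg Cfsg.Agent.Helper5.StemP Cfsg.Agent.Helper5.LP Cfsg.Agent.Helper4.LTV


/-- the check of a loop word of the last certificate. -/
def wokE (wi : ℕ) : Bool :=
  wordOK2 (coverRels 5 mF ((EX5 ++ XX5) ++ CL4) ((EX5 ++ XX5) ++ CL4) 4) ((EX5 ++ XX5) ++ CL4)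
    EX5.length (F42E.cert.W wi) (F42E.cert.δ wi) (F42E.orig wi)

end Cfsg.Agent.Helper4.F42
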