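import Mathlib
import Cfsg.Agent.Helper4.F42Def
import Cfsg.Agent.Helper4.TowerV
import Cfsg.Agent.Helper4.F42EDat
import Cfsg.Agent.Helper4.F42WokE0

/-!
# The tower for `F₄(2)`: the loop words of the last certificate, part 1
-/

set_option autoImplicit false
set_option Elab.async false

namespace Cfsg.Agent.Helper4.F42

open Cfsg Cfsg.Agent.Helper5.StemP Cfsg.Agent.Helper5.LP Cfsg.Agent.Helper4.LTV


set_option maxRecDepth 1000000 in
theorem wokE_0 : ∀ i, i < 80 → wokE (0 + i) = true := by decide +kernel

set_option maxRecDepth 1000000 in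
theorem wokE_1 : ∀ i, i < 80 → wokE (80 + i) = true := by decide +kernel

set_option maxRecDepth 1000000 in
theorem wokE_2 : ∀ i, i < 80 → wokE (160 + i) = true := by decide +kernel

set_option maxRecDepth 1000000 in
theorem wokE_3 : ∀ i, i < 80 → wokE (240 + i) = true := by decide +kernel

set_option maxRecDepth 1000000 in
theorem wokE_4 : ∀ i, i < 80 → wokE (320 + i) = true := by decide +kernel

set_option maxRecDepth 1000000 in
theorem wokE_5 : ∀ i, i < 80 → wokE (400 + i) = true := by decide +kernel

set_option maxRecDepth 1000000 in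
theorem wokE_6 : ∀ i, i < 80 → wokE (480 + i) = true := by decide +kernel

set_option maxRecDepth 1000000 in
theorem wokE_7 : ∀ i, i < 80 → wokE (560 + i) = true := by decide +kernel

set_option maxRecDepth 1000000 in
theorem wokE_8 : ∀ i, i < 80 → wokE (640 + i) = true := by decide +kernel

set_option maxRecDepth 1000000 in
theorem wokE_9 : ∀ i, i < 80 → wokE (720 + i) = true := by decide +kernel

end Cfsg.Agent.Helper4.F42
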