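import Mathlib
import Cfsg.Agent.Helper4.F42Def
import Cfsg.Agent.Helper4.TowerV
import Cfsg.Agent.Helper4.F42EDat
import Cfsg.Agent.Helper4.F42WokE0

/-!
# The tower for `F₄(2)`: the loop words of the last certificate, part 3
-/

set_option autoImplicit false
set_option Elab.async false

namespace Cfsg.Agent.Helper4.F42

open Cfsg Cfsg.Agent.Helper5.StemP Cfsg.Agent.Helper5.LP Cfsg.Agent.Helper4.LTV


set_option maxRecDepth 1000000 in
theorem wokE_20 : ∀ i, i < 80 → wokE (1600 + i) = true := by decide +kernel

set_option maxRecDepth 1000000 in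
theorem wokE_21 : ∀ i, i < 80 → wokE (1680 + i) = true := by decide +kernel

set_option maxRecDepth 1000000 in
theorem wokE_22 : ∀ i, i < 80 → wokE (1760 + i) = true := by decide +kernel

set_option maxRecDepth 1000000 in
theorem wokE_23 : ∀ i, i < 80 → wokE (1840 + i) = true := by decide +kernel

set_option maxRecDepth 1000000 in
theorem wokE_24 : ∀ i, i < 80 → wokE (1920 + i) = true := by decide +kernel

set_option maxRecDepth 1000000 in
theorem wokE_25 : ∀ i, i < 80 → wokE (2000 + i) = true := by decide +kernel

set_option maxRecDepth 1000000 in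
theorem wokE_26 : ∀ i, i < 80 → wokE (2080 + i) = true := by decide +kernel

set_option maxRecDepth 1000000 in
theorem wokE_27 : ∀ i, i < 80 → wokE (2160 + i) = true := by decide +kernel

set_option maxRecDepth 1000000 in
theorem wokE_28 : ∀ i, i < 80 → wokE (2240 + i) = true := by decide +kernel

set_option maxRecDepth 1000000 in
theorem wokE_29 : ∀ i, i < 80 → wokE (2320 + i) = true := by decide +kernel

end Cfsg.Agent.Helper4.F42
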