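import Mathlib
import Cfsg.Agent.Helper4.F42Def
import Cfsg.Agent.Helper4.TowerV
import Cfsg.Agent.Helper4.F42EDat
import Cfsg.Agent.Helper4.F42WokE0

/-!
# The tower for `F₄(2)`: the loop words of the last certificate, part 4
-/

set_option autoImplicit false
set_option Elab.async false

namespace Cfsg.Agent.Helper4.F42

open Cfsg Cfsg.Agent.Helper5.StemP Cfsg.Agent.Helper5.LP Cfsg.Agent.Helper4.LTV


set_option maxRecDepth 1000000 in
theorem wokE_30 : ∀ i, i < 80 → wokE (2400 + i) = true := by decide +kernel

set_option maxRecDepth 1000000 in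
theorem wokE_31 : ∀ i, i < 80 → wokE (2480 + i) = true := by decide +kernel

set_option maxRecDepth 1000000 in
theorem wokE_32 : ∀ i, i < 80 → wokE (2560 + i) = true := by decide +kernel

set_option maxRecDepth 1000000 in
theorem wokE_33 : ∀ i, i < 80 → wokE (2640 + i) = true := by decide +kernel

set_option maxRecDepth 1000000 in
theorem wokE_34 : ∀ i, i < 80 → wokE (2720 + i) = true := by decide +kernel

set_option maxRecDepth 1000000 in
theorem wokE_35 : ∀ i, i < 80 → wokE (2800 + i) = true := by decide +kernel

set_option maxRecDepth 1000000 in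
theorem wokE_36 : ∀ i, i < 80 → wokE (2880 + i) = true := by decide +kernel

set_option maxRecDepth 1000000 in
theorem wokE_37 : ∀ i, i < 80 → wokE (2960 + i) = true := by decide +kernel

set_option maxRecDepth 1000000 in
theorem wokE_38 : ∀ i, i < 69 → wokE (3040 + i) = true := by decide +kernel

end Cfsg.Agent.Helper4.F42
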