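import Mathlib
import Cfsg.Agent.Helper4.F42WokE1
import Cfsg.Agent.Helper4.F42WokE2
import Cfsg.Agent.Helper4.F42WokE3
import Cfsg.Agent.Helper4.F42WokE4
import Cfsg.Agent.Helper4.F42WokC

/-!
# The tower for `F₄(2)`: the loop words of the last certificate

The loop words of the certificate of `F₄(2)` over `⟨a, b, c, d⟩` are rotations of the relators of the
covering presentation.
-/

set_option autoImplicit false

namespace Cfsg.Agent.Helper4.F42

open Cfsg Cfsg.Agent.Helper5.StemP Cfsg.Agent.Helper5.LP Cfsg.Agent.Helper4.LTV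

theorem wordOK_E : ∀ wi, wi < F42E.cert.nrel →
    wordOK2 (coverRels 5 mF ((EX5 ++ XX5) ++ CL4) ((EX5 ++ XX5) ++ CL4) 4) ((EX5 ++ XX5) ++ CL4)
      EX5.length (F42E.cert.W wi) (F42E.cert.δ wi) (F42E.orig wi) = true := by
  intro wi h
  have h' : wi < 3109 := h
  change wokE wi = true
  obtain ⟨k, i, hi, rfl⟩ : ∃ k i, i < 80 ∧ wi = 80 * k + i :=
    ⟨wi / 80, wi % 80, Nat.mod_lt _ (by norm_num), (Nat.div_add_mod wi 80).symm⟩
  have hk : k < 39 := by omega
  interval_cases k
  · exact wokE_0 i (by omega)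
  · exact wokE_1 i (by omega)
  · exact wokE_2 i (by omega)
  · exact wokE_3 i (by omega)
  · exact wokE_4 i (by omega)
  · exact wokE_5 i (by omega)
  · exact wokE_6 i (by omega)
  · exact wokE_7 i (by omega)
  · exact wokE_8 i (by omega)
  · exact wokE_9 i (by omega)
  · exact wokE_10 i (by omega)
  · exact wokE_11 i (by omega)
  · exact wokE_12 i (by omega)
  · exact wokE_13 i (by omega)
  · exact wokE_14 i (by omega)
  · exact wokE_15 i (by omega)
  · exact wokE_16 i (by omega)
  · exact wokE_17 i (by omega)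
  · exact wokE_18 i (by omega)
  · exact wokE_19 i (by omega)
  · exact wokE_20 i (by omega)
  · exact wokE_21 i (by omega)
  · exact wokE_22 i (by omega)
  · exact wokE_23 i (by omega)
  · exact wokE_24 i (by omega)
  · exact wokE_25 i (by omega)
  · exact wokE_26 i (by omega)
  · exact wokE_27 i (by omega)
  · exact wokE_28 i (by omega)
  · exact wokE_29 i (by omega)
  · exact wokE_30 i (by omega)
  · exact wokE_31 i (by omega)
  · exact wokE_32 i (by omega)
  · exact wokE_33 i (by omega)
  · exact wokE_34 i (by omega)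
  · exact wokE_35 i (by omega)
  · exact wokE_36 i (by omega)
  · exact wokE_37 i (by omega)
  · exact wokE_38 i (by omega)

set_option maxRecDepth 1000000 in
theorem words2_lt_E : ∀ g ∈ F42E.words2, ∀ w ∈ g, ∀ c ∈ w, c < 2 * 5 := by decide +kernel

theorem words_lt_E : ∀ wi, ∀ c ∈ F42E.cert.W wi, c < 2 * 5 := fun _ =>
  getD2_lt F42E.words2 (2 * 5) words2_lt_E _ _

end Cfsg.Agent.Helper4.F42
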