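import Mathlib
import Cfsg.Agent.Helper4.F42TowC
import Cfsg.Agent.Helper4.F42WokE
import Cfsg.Agent.Helper4.F42Ex
import Cfsg.Agent.Helper4.F42ESum

/-!
# The tower for `F₄(2)`: the covering group of exponent 4 of `F₄(2)`

A labelled Todd–Coxeter certificate of exponent 4 of `⟨a, b, c, d, e⟩` over `⟨a, b, c, d⟩ ≅ Sp₈(2)`
(69888 cosets, a label group of order 2), in the format of `Cfsg.Agent.Helper4.LTV*`.
-/

set_option autoImplicit false
set_option maxRecDepth 1000000

namespace Cfsg.Agent.Helper4.F42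

open Cfsg Cfsg.Agent.Helper5.StemP Cfsg.Agent.Helper5.LP Cfsg.Agent.Helper4.LTV

theorem EXX5_lt : ∀ r ∈ EX5 ++ XX5, ∀ c ∈ r, c < 2 * 5 := by decide

theorem hsubW_E : ∀ wi, F42E.cert.nrel ≤ wi → wi < F42E.cert.nw →
    ∃ c, c < 2 * 4 ∧ F42E.cert.W wi = [c] := by
  intro wi h1 h2
  have h1' : 3109 ≤ wi := h1
  have h2' : wi < 3113 := h2
  interval_cases wi
  · exact ⟨0, by norm_num, by decide +kernel⟩
  · exact ⟨2, by norm_num, by decide +kernel⟩
  · exact ⟨4, by norm_num, by decide +kernel⟩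
  · exact ⟨6, by norm_num, by decide +kernel⟩

/-- **the covering group of exponent 4 of `F₄(2)` has order at most `2 * |F₄(2)|`.** -/
theorem card5 : Finite (CovG 5 mF CC5 CC5 4) ∧
    Nat.card (CovG 5 mF CC5 CC5 4) ≤ 2 * 3311126603366400 := by
  have h := TowerV.step_range_x 4 5 mF CL4 EX5 XX5 4 (by norm_num) CL4_lt EXX5_lt (by norm_num) rfl
    (by decide) XX5_one card4.1 F42E.cert rfl rfl rfl words_lt_E
    F42E.orig wordOK_E hsubW_E F42E.hchk F42E.tab (by decide +kernel)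
    (by decide) F42E.hT F42E.js F42E.hjs 91 2 (by decide) (by norm_num) F42E.cs0 F42E.h0
    (fun i => F42E.as_.getD i 0) (fun i => F42E.css.getD i []) F42E.hgs
  have hN : F42E.tab.N = 69888 := rfl
  rw [hN] at h
  have : Finite (CovG 4 mF CL4 CL4 4) := card4.1
  have hK : Nat.card (Tower.phiT 4 5 mF CL4 (EX5 ++ XX5) 4 (by norm_num) CL4_lt).range
      ≤ 47377612800 :=
    (Nat.card_le_card_of_surjective _ (MonoidHom.rangeRestrict_surjective _)).trans card4.2
  refine ⟨h.1, h.2.trans ?_⟩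
  calc Nat.card (Tower.phiT 4 5 mF CL4 (EX5 ++ XX5) 4 (by norm_num) CL4_lt).range * 69888 * 2
      ≤ 47377612800 * 69888 * 2 := Nat.mul_le_mul_right _ (Nat.mul_le_mul_right _ hK)
    _ = 2 * 3311126603366400 := by norm_num

end Cfsg.Agent.Helper4.F42
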