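import Mathlib
import Cfsg.Agent.Helper4.F42Top
import Cfsg.Agent.Helper4.F42Rel
import Cfsg.Agent.Helper4.F42MSum
import Cfsg.Agent.Helper4.F42OddE
import Cfsg.Agent.Helper4.ShiftModel
import Cfsg.Agent.Helper4.StemDvd
import Cfsg.Agent.S1062
import Cfsg.Agent.Helper5.LPE
import Cfsg.Agent.Helper5.StemPL
import Cfsg.Agent.Helper5.StemPH
import Cfsg.Agent.Helper5.StemPM
import Cfsg.Agent.Helper5.StemPK
import Cfsg.Agent.Helper5.StemPI

/-!
# The Schur multiplier of `F₄(2)` is cyclic of order 2

For the Chevalley group of type `F₄` over the integers modulo 2.  The covering group of exponent 4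
on the generators `a, b, c, d, e` (orders 17, 3, 3, 5, 3) has order at most `2 * |F₄(2)|` and acts on
139776 points with a central word as a shift of order 2; a stem extension with a kernel of odd
order is trivial, since the group is presented by Steinberg's relators.
-/

set_option autoImplicit false

noncomputable section

namespace Cfsg.Agent.Helper4.F42

open Cfsg Cfsg.Agent.Helper5.StemP Cfsg.Agent.Helper5.LP Cfsg.Agent.Helper5.TC
  Cfsg.Agent.Helper5.TCI Cfsg.Agent.Helper4.ShM

theorem card_GG : Nat.card GG = 3311126603366400 := by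
  have h := Cfsg.Agent.S1062.result (F := F2) (q := 2) (by rw [ZMod.card])
  rw [h]
  norm_num

instance finGG : Finite GG := Nat.finite_of_card_ne_zero (by rw [card_GG]; norm_num)

theorem CC5_2lt : ∀ r ∈ CC5 ++ CC5, ∀ c ∈ r, c < 2 * 5 := by
  intro r hr
  rcases List.mem_append.mp hr with h | h <;> exact CC5_lt r h

theorem CC5_2rel : ∀ r ∈ CC5 ++ CC5, (r.map (lval g)).prod = 1 := by
  intro r hr
  rcases List.mem_append.mp hr with h | h <;> exact CC5_rel r h

/-! ### the covering group -/

/-- the covering group of exponent 4. -/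
abbrev FV : Type := CovG 5 mF CC5 CC5 4

instance finFV : Finite FV := card5.1

/-- the covering homomorphism. -/
def piV : FV →* GG := coverHomU 5 mF CC5 CC5 4 CC5_2lt g g_pow CC5_2rel

theorem piV_surj : Function.Surjective piV :=
  coverHomU_surjective 5 mF CC5 CC5 4 CC5_2lt g g_pow CC5_2rel g_closure

theorem card_kerV_le : Nat.card piV.ker ≤ 2 := by
  have hmul := card_eq_card_mul_ker piV piV_surj
  have h := card5.2
  rw [hmul, card_GG, mul_comm] at h
  exact Nat.le_of_mul_le_mul_right h (by norm_num)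

theorem card_FV_dvd : Nat.card FV ∣ Nat.card GG * 2 := by
  rw [card_eq_card_mul_ker piV piV_surj]
  apply Nat.mul_dvd_mul_left
  have h := card_kerV_le
  have hpos : 0 < Nat.card piV.ker := Nat.card_pos
  interval_cases Nat.card piV.ker <;> decide

/-! ### the model on 139776 points -/

theorem cwV_eq : F42M.cw = CC5 := by decide +kernel

theorem modelV : ∃ ρ : FV →* Equiv.Perm (Fin 139776),
    ActsOn ρ (ev (2 * 5) (coverRels 5 mF CC5 CC5 4)) (2 * 5) F42M.mT := by
  refine exists_model 5 mF CC5 4 139776 F42M.mT F42M.tableOK CC5_lt F42M.hcomm ?_ ?_ 2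
    F42M.hsh (by norm_num)
  · intro r hr
    exact F42M.hcent r (by rw [cwV_eq]; exact hr)
  · intro i hi
    have h := F42M.hpow i hi
    interval_cases i <;> exact h

/-- the central word of order 2. -/
def zwV : List ℕ := EX5.getD 91 []

theorem zwV_mem : zwV ∈ CC5 := by
  have h : 91 < EX5.length := by decide +kernel
  have e : zwV = EX5[91] := List.getD_eq_getElem EX5 [] h
  rw [e]
  exact List.mem_append_left _ (List.mem_append_left _ (List.getElem_mem h))

set_option maxRecDepth 1000000 in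
theorem moveV : actL F42M.mT zwV 0 ≠ 0 := by decide +kernel

theorem zV_ne : ev (2 * 5) (coverRels 5 mF CC5 CC5 4) zwV ≠ 1 := by
  obtain ⟨ρ, hA⟩ := modelV
  exact ne_one_of_move hA zwV (CC5_lt zwV zwV_mem) 0 (by norm_num) moveV

/-! ### the bound for all stem extensions -/

theorem card_GG_eq2 : Nat.card GG = 2 ^ 24 * 197358525 := by rw [card_GG]; norm_num

theorem card_GG_eqT : Nat.card GG = 197358525 * 2 ^ 24 := by rw [card_GG]; norm_num

theorem mF_cop : ∀ i, i < 5 → g i ^ mF i = 1 ∧ (mF i).Coprime (2 ^ 24) := by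
  intro i hi
  refine ⟨g_pow i hi, ?_⟩
  interval_cases i <;> decide

instance charF2 : CharP F2 2 := ZMod.charP 2

/-- **the kernel of a finite stem extension of `F₄(2)` has order dividing 2.** -/
theorem card_ker_dvd (Γ : Type) [Group Γ] [Finite Γ] (σ : Γ →* GG)
    (hσ : Cfsg.IsStemExtension σ) : Nat.card σ.ker ∣ 2 := by
  have hc := hσ.2.1
  have : Finite (LPG (2 * 5) (coverRels 5 mF CC5 CC5 4)) := card5.1
  have hcard : Nat.card (LPG (2 * 5) (coverRels 5 mF CC5 CC5 4)) ∣ Nat.card GG * 2 :=
    card_FV_dvd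
  have h2 : Nat.card (qmap σ hc 197358525).ker ∣ 2 :=
    card_qmap_ker_dvd_of_pow_dvd σ hσ hc 2 Nat.prime_two 24 2 197358525 4 (by norm_num)
      card_GG_eq2 5 mF CC5 CC5 CC5_2lt g g_closure mF_cop CC5_2rel 2 hcard (by decide)
  have hodd : Nat.card (qmap σ hc (2 ^ 24)).ker = 1 := by
    have hstem := qmap_stem σ hσ hc (2 ^ 24)
    have hpow : ∀ z ∈ (qmap σ hc (2 ^ 24)).ker, z ^ (2 * 98679262 + 1) = 1 := by
      intro z hz
      exact qmap_ker_pow σ hσ hc (s := 197358525) (t := 2 ^ 24) card_GG_eqT z hz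
    rw [Cfsg.Agent.Helper4.F42Odd.ker_eq_bot_F4 (qmap σ hc (2 ^ 24)) hstem 98679262 hpow]
    exact Subgroup.card_bot
  have h7 : ∀ z ∈ σ.ker, z ^ Nat.gcd (Nat.gcd 197358525 (2 ^ 24)) (2 ^ 24) = 1 → z = 1 := by
    intro z _ hz1
    have e1 : Nat.gcd (Nat.gcd 197358525 (2 ^ 24)) (2 ^ 24) = 1 := by decide
    rwa [e1, pow_one] at hz1
  have h8 := StemDvd.card_ker_dvd_mul3 σ hc 197358525 (2 ^ 24) (2 ^ 24) h7
  rw [hodd, mul_one, mul_one] at h8
  exact h8.trans h2

/-- **The Schur multiplier of `F₄(2)` is cyclic of order 2.** -/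
theorem main : Cfsg.HasCyclicSchurMultiplier GG 2 := by
  refine hasCyclic_of_coverRels 2 Nat.prime_two.squarefree card_ker_dvd 5 mF CC5 CC5 4 CC5_2lt g
    g_closure g_pow CC5_2rel card_FV_dvd [zwV] ?_ ?_ 255 ?_ (by decide)
  · intro w hw
    rw [List.mem_singleton] at hw
    rw [hw]
    exact zwV_mem
  · intro p hp hpd
    have hp2 : p = 2 := (Nat.prime_dvd_prime_iff_eq hp Nat.prime_two).mp hpd
    rw [hp2, Nat.div_self (by norm_num), pow_one]
    simp only [List.flatten_cons, List.flatten_nil, List.append_nil]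
    exact zV_ne
  · intro i hi
    interval_cases i <;> decide

end Cfsg.Agent.Helper4.F42

end
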