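import Cfsg.Agent.Helper4.F42MDat

/-! generated permutation model, checks: F42M -/

set_option autoImplicit false
set_option Elab.async false
set_option maxRecDepth 1000000

namespace Cfsg.Agent.Helper4.F42M
open Cfsg.Agent.Helper5.TC Cfsg.Agent.Helper5.TCI Cfsg.Agent.Helper5.LP

theorem invc_0_0 : invRowFI mT 139776 0 1 125000 0 = true := by decide +kernel

theorem fixc_139_31250 : fixPtsF W_139 15625 31250 = true := by decide +kernel

theorem fixc_65_10869 : fixPtsF W_65 10869 10869 = true := by decide +kernel

theorem fixc_77_10869 : fixPtsF W_77 10869 10869 = true := by decide +kernel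

theorem fixc_93_10869 : fixPtsF W_93 10869 10869 = true := by decide +kernel

theorem fixc_37_11363 : fixPtsF W_37 11363 11363 = true := by decide +kernel

theorem fixc_49_11363 : fixPtsF W_49 11363 11363 = true := by decide +kernel

theorem fixc_135_44115 : fixPtsF W_135 14705 44115 = true := by decide +kernel

theorem fixc_24_35712 : fixPtsF W_24 11904 35712 = true := by decide +kernel

theorem fixc_118_8928 : fixPtsF W_118 8928 8928 = true := by decide +kernel

theorem fixc_128_26784 : fixPtsF W_128 8928 26784 = true := by decide +kernel

theorem fixc_117_62496 : fixPtsF W_117 7392 62496 = true := by decide +kernel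

theorem fixc_123_62496 : fixPtsF W_123 7392 62496 = true := by decide +kernel

end Cfsg.Agent.Helper4.F42M
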