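import Cfsg.Agent.Helper4.F42MDat

/-! generated permutation model, checks: F42M -/

set_option autoImplicit false
set_option Elab.async false
set_option maxRecDepth 1000000

namespace Cfsg.Agent.Helper4.F42M
open Cfsg.Agent.Helper5.TC Cfsg.Agent.Helper5.TCI Cfsg.Agent.Helper5.LP

theorem fixc_1_0 : fixPtsF W_1 62500 0 = true := by decide +kernel

theorem fixc_106_9615 : fixPtsF W_106 9615 9615 = true := by decide +kernel

theorem fixc_115_38460 : fixPtsF W_115 9615 38460 = true := by decide +kernel

theorem fixc_74_43476 : fixPtsF W_74 10869 43476 = true := by decide +kernel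

theorem fixc_90_43476 : fixPtsF W_90 10869 43476 = true := by decide +kernel

theorem fixc_34_45452 : fixPtsF W_34 11363 45452 = true := by decide +kernel

theorem fixc_46_45452 : fixPtsF W_46 11363 45452 = true := by decide +kernel

theorem fixc_88_45452 : fixPtsF W_88 11363 45452 = true := by decide +kernel

theorem fixc_22_47616 : fixPtsF W_22 11904 47616 = true := by decide +kernel

theorem fixc_116_53568 : fixPtsF W_116 8928 53568 = true := by decide +kernel

theorem fixc_127_8928 : fixPtsF W_127 8928 8928 = true := by decide +kernel

theorem fixc_25_59520 : fixPtsF W_25 10368 59520 = true := by decide +kernel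

theorem fixc_102_62500 : fixPtsF W_102 7388 62500 = true := by decide +kernel

theorem invc_11_125000 : invRowFI mT 139776 11 10 14776 125000 = true := by decide +kernel

end Cfsg.Agent.Helper4.F42M
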