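import Cfsg.Agent.Helper4.F42MDat

/-! generated permutation model, checks: F42M -/

set_option autoImplicit false
set_option Elab.async false
set_option maxRecDepth 1000000

namespace Cfsg.Agent.Helper4.F42M
open Cfsg.Agent.Helper5.TC Cfsg.Agent.Helper5.TCI Cfsg.Agent.Helper5.LP

theorem fixc_8_12500 : fixPtsF W_8 12500 12500 = true := by decide +kernel

theorem fixc_108_9615 : fixPtsF W_108 9615 9615 = true := by decide +kernel

theorem fixc_137_49998 : fixPtsF W_137 16666 49998 = true := by decide +kernel

theorem fixc_77_0 : fixPtsF W_77 10869 0 = true := by decide +kernel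

theorem fixc_93_0 : fixPtsF W_93 10869 0 = true := by decide +kernel

theorem fixc_37_0 : fixPtsF W_37 11363 0 = true := by decide +kernel

theorem fixc_49_0 : fixPtsF W_49 11363 0 = true := by decide +kernel

theorem fixc_135_29410 : fixPtsF W_135 14705 29410 = true := by decide +kernel

theorem fixc_21_0 : fixPtsF W_21 11904 0 = true := by decide +kernel

theorem fixc_104_31248 : fixPtsF W_104 10416 31248 = true := by decide +kernel

theorem fixc_125_53568 : fixPtsF W_125 8928 53568 = true := by decide +kernel

theorem fixc_16_59520 : fixPtsF W_16 10368 59520 = true := by decide +kernel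

theorem fixc_97_62496 : fixPtsF W_97 7392 62496 = true := by decide +kernel

end Cfsg.Agent.Helper4.F42M
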