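import Cfsg.Agent.Helper4.F42MDat

/-! generated permutation model, checks: F42M -/

set_option autoImplicit false
set_option Elab.async false
set_option maxRecDepth 1000000

namespace Cfsg.Agent.Helper4.F42M
open Cfsg.Agent.Helper5.TC Cfsg.Agent.Helper5.TCI Cfsg.Agent.Helper5.LP

theorem fixc_101_20000 : fixPtsF W_101 10000 20000 = true := by decide +kernel

theorem fixc_112_9615 : fixPtsF W_112 9615 9615 = true := by decide +kernel

theorem fixc_62_32607 : fixPtsF W_62 10869 32607 = true := by decide +kernel

theorem fixc_70_43476 : fixPtsF W_70 10869 43476 = true := by decide +kernel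

theorem fixc_82_43476 : fixPtsF W_82 10869 43476 = true := by decide +kernel

theorem fixc_30_45452 : fixPtsF W_30 11363 45452 = true := by decide +kernel

theorem fixc_40_56815 : fixPtsF W_40 11363 56815 = true := by decide +kernel

theorem fixc_52_56815 : fixPtsF W_52 11363 56815 = true := by decide +kernel

theorem fixc_14_23808 : fixPtsF W_14 11904 23808 = true := by decide +kernel

theorem fixc_86_47616 : fixPtsF W_86 11904 47616 = true := by decide +kernel

theorem fixc_121_8928 : fixPtsF W_121 8928 8928 = true := by decide +kernel

theorem fixc_131_26784 : fixPtsF W_131 8928 26784 = true := by decide +kernel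

theorem fixc_93_65214 : fixPtsF W_93 4674 65214 = true := by decide +kernel

theorem invc_3_125000 : invRowFI mT 139776 3 2 14776 125000 = true := by decide +kernel

end Cfsg.Agent.Helper4.F42M
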