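import Cfsg.Agent.Helper4.F42MDat

/-! generated permutation model, checks: F42M -/

set_option autoImplicit false
set_option Elab.async false
set_option maxRecDepth 1000000

namespace Cfsg.Agent.Helper4.F42M
open Cfsg.Agent.Helper5.TC Cfsg.Agent.Helper5.TCI Cfsg.Agent.Helper5.LP

theorem fixc_139_0 : fixPtsF W_139 15625 0 = true := by decide +kernel

theorem fixc_114_9615 : fixPtsF W_114 9615 9615 = true := by decide +kernel

theorem fixc_64_54345 : fixPtsF W_64 10869 54345 = true := by decide +kernel

theorem fixc_73_0 : fixPtsF W_73 10869 0 = true := by decide +kernel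

theorem fixc_85_0 : fixPtsF W_85 10869 0 = true := by decide +kernel

theorem fixc_33_0 : fixPtsF W_33 11363 0 = true := by decide +kernel

theorem fixc_43_11363 : fixPtsF W_43 11363 11363 = true := by decide +kernel

theorem fixc_55_11363 : fixPtsF W_55 11363 11363 = true := by decide +kernel

theorem fixc_17_11904 : fixPtsF W_17 11904 11904 = true := by decide +kernel

theorem fixc_97_20832 : fixPtsF W_97 10416 20832 = true := by decide +kernel

theorem fixc_123_8928 : fixPtsF W_123 8928 8928 = true := by decide +kernel

theorem fixc_143_52080 : fixPtsF W_143 10416 52080 = true := by decide +kernel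

theorem fixc_113_67305 : fixPtsF W_113 2583 67305 = true := by decide +kernel

theorem fixc_136_66664 : fixPtsF W_136 3224 66664 = true := by decide +kernel

theorem fixc_141_62500 : fixPtsF W_141 7388 62500 = true := by decide +kernel

end Cfsg.Agent.Helper4.F42M
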