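import Mathlib
import Cfsg.Agent.Lead.FCDefs
import Cfsg.Agent.Helper4.FC2A

set_option autoImplicit false

/-!
S4291, piece FC-II (helper4), part B: a generalized quaternion group has a cyclic normal subgroup
with quotient the four-group.
-/

namespace Cfsg.Agent.Helper4.FC2

open QuaternionGroup DihedralGroup Cfsg.Agent.Lead.FC

/-- reduction mod 2 of the exponent -/
noncomputable def red (m : ℕ) : ZMod (2 * m) →+* ZMod 2 := ZMod.castHom (dvd_mul_right 2 m) (ZMod 2)

theorem red_m {m : ℕ} (hm : Even m) : red m (m : ZMod (2 * m)) = 0 := by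
  rw [map_natCast, ZMod.natCast_eq_zero_iff]
  exact even_iff_two_dvd.mp hm

/-- the homomorphism of a generalized quaternion group onto the four-group -/
noncomputable def toV4 (m : ℕ) (hm : Even m) : QuaternionGroup m →* DihedralGroup 2 :=
  MonoidHom.mk' (fun g => match g with
    | QuaternionGroup.a i => DihedralGroup.r (red m i)
    | QuaternionGroup.xa i => DihedralGroup.sr (red m i)) (by
    intro x y
    rcases x with i | i <;> rcases y with j | j
    · simp only [a_mul_a, map_add, r_mul_r]
    · simp only [a_mul_xa, map_sub, r_mul_sr]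
    · simp only [xa_mul_a, map_add, sr_mul_r]
    · simp only [xa_mul_xa, map_sub, map_add, red_m hm, zero_add, sr_mul_sr])

theorem toV4_a (m : ℕ) (hm : Even m) (i : ZMod (2 * m)) :
    toV4 m hm (QuaternionGroup.a i) = DihedralGroup.r (red m i) := rfl

theorem toV4_xa (m : ℕ) (hm : Even m) (i : ZMod (2 * m)) :
    toV4 m hm (QuaternionGroup.xa i) = DihedralGroup.sr (red m i) := rfl

theorem red_natCast (m k : ℕ) : red m (k : ZMod (2 * m)) = (k : ZMod 2) := map_natCast _ _

theorem toV4_surjective (m : ℕ) (hm : Even m) : Function.Surjective (toV4 m hm) := by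
  have hsurj : ∀ i : ZMod 2, ∃ j : ZMod (2 * m), red m j = i := by
    intro i
    refine ⟨(i.val : ZMod (2 * m)), ?_⟩
    rw [red_natCast, ZMod.natCast_zmod_val]
  intro y
  rcases y with i | i
  · obtain ⟨j, hj⟩ := hsurj i
    exact ⟨QuaternionGroup.a j, by rw [toV4_a, hj]⟩
  · obtain ⟨j, hj⟩ := hsurj i
    exact ⟨QuaternionGroup.xa j, by rw [toV4_xa, hj]⟩

theorem ker_toV4_le (m : ℕ) [NeZero m] (hm : Even m) :
    (toV4 m hm).ker ≤ Subgroup.zpowers (QuaternionGroup.a 2 : QuaternionGroup m) := by
  intro g hg
  rw [MonoidHom.mem_ker] at hg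
  rcases g with i | i
  · rw [toV4_a, DihedralGroup.one_def] at hg
    have h1 : red m i = 0 := DihedralGroup.r.inj hg
    haveI : NeZero (2 * m) := ⟨by have := NeZero.ne m; omega⟩
    have h2 : ((i.val : ℕ) : ZMod 2) = 0 := by
      rw [← red_natCast m, ZMod.natCast_zmod_val]; exact h1
    rw [ZMod.natCast_eq_zero_iff] at h2
    obtain ⟨t, ht⟩ := h2
    rw [Subgroup.mem_zpowers_iff]
    refine ⟨(t : ℤ), ?_⟩
    rw [zpow_natCast, a_pow'']
    congr 1
    rw [← ZMod.natCast_zmod_val i, ht]
    push_cast
    ring
  · exfalso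
    rw [toV4_xa, DihedralGroup.one_def] at hg
    cases hg

theorem ker_toV4_cyclic (m : ℕ) [NeZero m] (hm : Even m) : IsCyclic (toV4 m hm).ker := by
  have h1 : IsCyclic ↥(Subgroup.zpowers (QuaternionGroup.a 2 : QuaternionGroup m)) := inferInstance
  have hinj : Function.Injective (Subgroup.inclusion (ker_toV4_le m hm)) :=
    Subgroup.inclusion_injective _
  exact isCyclic_of_injective (Subgroup.inclusion (ker_toV4_le m hm)) hinj

/-- PIECE (b): a generalized quaternion group (of order at least 8) has a good subgroup -/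
theorem good_of_quaternion {G : Type*} [Group G] [Finite G] {n : ℕ} (hn : 1 ≤ n)
    (e : G ≃* QuaternionGroup (2 ^ n)) : ∃ N : Subgroup G, Good N := by
  have hm : Even (2 ^ n) := by
    obtain ⟨k, rfl⟩ : ∃ k, n = k + 1 := ⟨n - 1, by omega⟩
    rw [pow_succ]; exact even_two.mul_left _
  refine ⟨((toV4 (2 ^ n) hm).comp e.toMonoidHom).ker, MonoidHom.normal_ker _, ?_, ?_⟩
  · intro p _ P
    -- the kernel is cyclic
    have hcyc : IsCyclic ↥((toV4 (2 ^ n) hm).comp e.toMonoidHom).ker := by
      haveI := ker_toV4_cyclic (2 ^ n) hm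
      -- map the kernel injectively into the kernel of `toV4`
      let φ : ↥((toV4 (2 ^ n) hm).comp e.toMonoidHom).ker →* ↥(toV4 (2 ^ n) hm).ker :=
        { toFun := fun x => ⟨e x.1, by
            have := x.2
            rw [MonoidHom.mem_ker] at this ⊢
            exact this⟩
          map_one' := by apply Subtype.ext; simp
          map_mul' := by
            intro x y
            apply Subtype.ext
            show e ((x * y : ↥((toV4 (2 ^ n) hm).comp e.toMonoidHom).ker) : G) = e x.1 * e y.1
            rw [Subgroup.coe_mul, map_mul] }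
      have hφ : Function.Injective φ := by
        intro x y hxy
        have h1 := congrArg Subtype.val hxy
        have h2 : e x.1 = e y.1 := h1
        exact Subtype.ext (e.injective h2)
      exact isCyclic_of_injective φ hφ
    exact Subgroup.isCyclic _
  · right; left
    exact ⟨(toV4 (2 ^ n) hm).comp e.toMonoidHom,
      (toV4_surjective (2 ^ n) hm).comp e.surjective, rfl⟩

end Cfsg.Agent.Helper4.FC2
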