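import Mathlib
import Cfsg.Agent.Lead.FCDefs
import Cfsg.Agent.Helper4.FC2C

set_option autoImplicit false

/-!
S4291, piece FC-II (helper4), part D: a normal self-centralizing 2-subgroup `R` with a unique
involution: if odd-order automorphisms of `R` are trivial the group is a 2-group; if `|R| = 8` the
order of the group is `2^a 3^b`.
-/

namespace Cfsg.Agent.Helper4.FC2

open Cfsg.Agent.Lead.FC

variable {G : Type*} [Group G] [Finite G]

theorem mem_centralizer_of_conjNormal_one {N : Subgroup G} [N.Normal] {g : G}
    (h : (MulAut.conjNormal g : MulAut N) = 1) : g ∈ Subgroup.centralizer (N : Set G) := by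
  rw [Subgroup.mem_centralizer_iff]
  intro x hx
  have h2 : ((MulAut.conjNormal g : MulAut N) ⟨x, hx⟩ : G) = x := by rw [h]; rfl
  rw [MulAut.conjNormal_apply] at h2
  have h3 : g * x = x * g := mul_inv_eq_iff_eq_mul.mp h2
  exact h3.symm

/-- if odd-order automorphisms of the self-centralizing normal 2-subgroup `R` are trivial, `G` is
a 2-group -/
theorem isPGroup_two_of_aut (R : Subgroup G) [R.Normal] (hR : IsPGroup 2 R)
    (hcent : Subgroup.centralizer (R : Set G) ≤ R)
    (haut : ∀ (α : MulAut R) (r : ℕ), Odd r → α ^ r = 1 → α = 1) : IsPGroup 2 G := by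
  have hpos : Nat.card G ≠ 0 := Nat.card_pos.ne'
  have h1 := Nat.eq_prime_pow_of_unique_prime_dvd hpos (p := 2) (by
    intro d hd hdvd
    haveI : Fact d.Prime := ⟨hd⟩
    obtain ⟨g, hg⟩ := exists_prime_orderOf_dvd_card' d hdvd
    by_contra hd2
    have hodd : Odd d := hd.odd_of_ne_two hd2
    have hα : (MulAut.conjNormal g : MulAut R) ^ d = 1 := by
      rw [← map_pow, ← hg, pow_orderOf_eq_one, map_one]
    have h1 := haut _ d hodd hα
    have hgR := hcent (mem_centralizer_of_conjNormal_one h1)
    obtain ⟨k, hk⟩ := hR ⟨g, hgR⟩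
    have h2 : g ^ 2 ^ k = 1 := by
      have := congrArg Subtype.val hk
      simpa using this
    have h3 : orderOf g ∣ 2 ^ k := orderOf_dvd_of_pow_eq_one h2
    rw [hg] at h3
    have h4 := Nat.Prime.dvd_of_dvd_pow hd h3
    exact hd2 ((Nat.prime_dvd_prime_iff_eq hd Nat.prime_two).mp h4))
  exact IsPGroup.of_card h1

/-- elements of prime order in a group with a normal self-centralizing subgroup of order 8 with a
unique involution have order 2 or 3 -/
theorem prime_two_or_three' (R : Subgroup G) [hn : R.Normal]
    (hcent : Subgroup.centralizer (R : Set G) ≤ R) (hcard : Nat.card R = 8)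
    (hinv : ∀ x y : R, orderOf x = 2 → orderOf y = 2 → x = y)
    {g : G} {r : ℕ} (hr : r.Prime) (hg : orderOf g = r) : r = 2 ∨ r = 3 := by
  by_contra hne
  push Not at hne
  obtain ⟨hr2, hr3⟩ := hne
  haveI : Fact r.Prime := ⟨hr⟩
  haveI : Fact (Nat.Prime 2) := ⟨Nat.prime_two⟩
  have hαr : (MulAut.conjNormal g : MulAut R) ^ r = 1 := by
    rw [← map_pow, ← hg, pow_orderOf_eq_one, map_one]
  have hP : IsPGroup r (Subgroup.zpowers (MulAut.conjNormal g : MulAut R)) := by
    intro x
    refine ⟨1, ?_⟩
    obtain ⟨i, hi⟩ := Subgroup.mem_zpowers_iff.mp x.2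
    apply Subtype.ext
    rw [pow_one, Subgroup.coe_pow, ← hi, ← zpow_natCast, ← zpow_mul, mul_comm, zpow_mul,
      zpow_natCast, hαr, one_zpow]
    rfl
  have hmod := hP.card_modEq_card_fixedPoints R
  have hK : Nat.card (MulAction.fixedPoints
      (Subgroup.zpowers (MulAut.conjNormal g : MulAut R)) R) =
      Nat.card (FixedPoints.subgroup
      (Subgroup.zpowers (MulAut.conjNormal g : MulAut R)) R) := rfl
  rw [hK, hcard] at hmod
  have hK8 : Nat.card (FixedPoints.subgroup
      (Subgroup.zpowers (MulAut.conjNormal g : MulAut R)) R) ∣ 8 := by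
    rw [← hcard]; exact Subgroup.card_subgroup_dvd_card _
  obtain ⟨z, hz⟩ := exists_prime_orderOf_dvd_card' (G := R) 2 (by rw [hcard]; norm_num)
  have hαz : (MulAut.conjNormal g : MulAut R) z = z := by
    apply hinv _ _ _ hz
    rw [MulEquiv.orderOf_eq]; exact hz
  have hzK : z ∈ FixedPoints.subgroup
      (Subgroup.zpowers (MulAut.conjNormal g : MulAut R)) R := by
    rw [FixedPoints.mem_subgroup]
    rintro ⟨β, hβ⟩
    have hle : Subgroup.zpowers (MulAut.conjNormal g : MulAut R) ≤
        MulAction.stabilizer (MulAut R) z := by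
      rw [Subgroup.zpowers_le, MulAction.mem_stabilizer_iff]
      exact hαz
    exact MulAction.mem_stabilizer_iff.mp (hle hβ)
  have h2K : 2 ∣ Nat.card (FixedPoints.subgroup
      (Subgroup.zpowers (MulAut.conjNormal g : MulAut R)) R) := by
    have := orderOf_dvd_natCard (⟨z, hzK⟩ : ↥(FixedPoints.subgroup
      (Subgroup.zpowers (MulAut.conjNormal g : MulAut R)) R))
    rwa [Subgroup.orderOf_mk, hz] at this
  generalize hm : Nat.card (FixedPoints.subgroup
      (Subgroup.zpowers (MulAut.conjNormal g : MulAut R)) R) = m at hmod hK8 h2K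
  have hm8 : m ≤ 8 := Nat.le_of_dvd (by norm_num) hK8
  have hr5 : 5 ≤ r := by
    have := hr.two_le
    by_contra hlt
    push Not at hlt
    interval_cases r
    · exact hr2 rfl
    · exact hr3 rfl
    · exact absurd hr (by decide)
  have hcases : m = 2 ∨ m = 4 ∨ m = 8 := by
    interval_cases m <;> simp_all <;> omega
  rcases hcases with h | h | h
  · rw [h] at hmod
    have h6 : r ∣ 8 - 2 := (Nat.modEq_iff_dvd' (by norm_num)).mp hmod.symm
    have h7 : r ≤ 6 := Nat.le_of_dvd (by norm_num) h6
    interval_cases r
    · omega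
    · exact absurd hr (by decide)
  · rw [h] at hmod
    have h6 : r ∣ 8 - 4 := (Nat.modEq_iff_dvd' (by norm_num)).mp hmod.symm
    have h7 : r ≤ 4 := Nat.le_of_dvd (by norm_num) h6
    omega
  · have htop : FixedPoints.subgroup
        (Subgroup.zpowers (MulAut.conjNormal g : MulAut R)) R = ⊤ := by
      apply Subgroup.eq_top_of_card_eq
      rw [hm, h, hcard]
    have h1 : (MulAut.conjNormal g : MulAut R) = 1 := by
      ext x
      have hx : x ∈ FixedPoints.subgroup
        (Subgroup.zpowers (MulAut.conjNormal g : MulAut R)) R := by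
        rw [htop]; exact Subgroup.mem_top x
      rw [FixedPoints.mem_subgroup] at hx
      have := hx ⟨_, Subgroup.mem_zpowers _⟩
      exact congrArg Subtype.val this
    have hgQ := hcent (mem_centralizer_of_conjNormal_one h1)
    have h3 : orderOf (⟨g, hgQ⟩ : R) ∣ 8 := by
      rw [← hcard]; exact orderOf_dvd_natCard _
    rw [Subgroup.orderOf_mk, hg] at h3
    have h7 : r ≤ 8 := Nat.le_of_dvd (by norm_num) h3
    interval_cases r <;> first | omega | exact absurd hr (by decide)

/-- the order of a group with a normal self-centralizing subgroup `R ≃ Q₈` is at most 48 -/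
theorem card_le_of_q8 (R : Subgroup G) [hn : R.Normal] (e : R ≃* QuaternionGroup 2)
    (hcent : Subgroup.centralizer (R : Set G) ≤ R) : Nat.card G ≤ 48 := by
  -- the kernel of the conjugation action has order at most 2
  have hker : (MulAut.conjNormal : G →* MulAut R).ker ≤ Subgroup.centralizer (R : Set G) := by
    intro g hg
    exact mem_centralizer_of_conjNormal_one (MonoidHom.mem_ker.mp hg)
  have hker2 : Nat.card (MulAut.conjNormal : G →* MulAut R).ker ≤ 2 := by
    -- inject the kernel into the centre of `Q₈`
    let Z : Finset (QuaternionGroup 2) := {QuaternionGroup.a 0, QuaternionGroup.a 2}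
    let F : ↥(MulAut.conjNormal : G →* MulAut R).ker → {x : QuaternionGroup 2 // x ∈ Z} :=
      fun g => ⟨e ⟨(g : G), hcent (hker g.2)⟩, by
        have hc := hker g.2
        have h1 : ∀ y : QuaternionGroup 2, e ⟨(g : G), hcent hc⟩ * y = y * e ⟨(g : G), hcent hc⟩ := by
          intro y
          obtain ⟨x, rfl⟩ := e.surjective y
          rw [← map_mul, ← map_mul]
          congr 1
          apply Subtype.ext
          have := Subgroup.mem_centralizer_iff.mp hc (x : G) x.2
          exact this.symm
        rcases q8_center _ h1 with h | h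
        · rw [h]; simp [Z]
        · rw [h]; simp [Z]⟩
    have hF : Function.Injective F := by
      intro g₁ g₂ h
      have h1 := congrArg Subtype.val h
      have h2 := e.injective h1
      have h3 := congrArg Subtype.val h2
      exact Subtype.ext h3
    have h1 := Nat.card_le_card_of_injective F hF
    have h2 : Nat.card {x : QuaternionGroup 2 // x ∈ Z} = 2 := by
      rw [Nat.card_eq_fintype_card, Fintype.card_coe]
      decide
    omega
  have hrange : Nat.card (MulAut.conjNormal : G →* MulAut R).range ≤ 24 := by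
    haveI : Finite (MulAut R) :=
      Finite.of_injective (fun φ : MulAut R => (φ : R → R)) (fun _ _ h => DFunLike.ext' h)
    have h1 : Nat.card (MulAut.conjNormal : G →* MulAut R).range ≤ Nat.card (MulAut R) :=
      Subgroup.card_le_card_group _
    have h2 : Nat.card (MulAut R) = Nat.card (MulAut (QuaternionGroup 2)) :=
      Nat.card_congr (MulAut.congr e).toEquiv
    have h3 := card_mulAut_q8_le
    omega
  have h1 := Subgroup.card_mul_index (MulAut.conjNormal : G →* MulAut R).ker
  rw [Subgroup.index_ker] at h1
  calc Nat.card G = Nat.card (MulAut.conjNormal : G →* MulAut R).ker *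
        Nat.card (MulAut.conjNormal : G →* MulAut R).range := h1.symm
    _ ≤ 2 * 24 := Nat.mul_le_mul hker2 hrange
    _ = 48 := by norm_num

end Cfsg.Agent.Helper4.FC2
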