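import Mathlib
import Cfsg.Prelude.Def_Solvable
import Cfsg.Agent.S0016
import Cfsg.Agent.Lead.FCDefs
import Cfsg.Agent.Helper1.Fitting2
import Cfsg.Agent.Helper4.FC2B
import Cfsg.Agent.Helper4.FC2D

set_option autoImplicit false

/-!
S4291, piece FC-II (helper4), part E: the case `O(G) = 1` and the induction.
-/

namespace Cfsg.Agent.Helper4.FC2

open Cfsg.Agent.Lead.FC Cfsg.Agent.Helper1

universe u

theorem good_top' {G : Type*} [Group G] [Finite G]
    (h : ∀ (p : ℕ) [Fact p.Prime] (P : Sylow p G), IsCyclic P) : Good (⊤ : Subgroup G) := by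
  refine ⟨inferInstance, ?_, Or.inl rfl⟩
  intro p _ P
  exact sylow_sub_cyclic (h p) ⊤ P

/-- a 2-group with generalized quaternion Sylow 2-subgroup -/
theorem good_of_two_group {G : Type*} [Group G] [Finite G] (h2 : IsPGroup 2 G) (S : Sylow 2 G)
    {n : ℕ} (hn : 1 ≤ n) (eS : ↥(S : Subgroup G) ≃* QuaternionGroup (2 ^ n)) :
    ∃ N : Subgroup G, Good N := by
  haveI : Fact (Nat.Prime 2) := ⟨Nat.prime_two⟩
  obtain ⟨j, hj⟩ := (IsPGroup.iff_card (p := 2)).mp h2
  have hS : (S : Subgroup G) = ⊤ := by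
    apply Subgroup.eq_top_of_card_eq
    rw [S.card_eq_multiplicity, hj, Nat.Prime.factorization_pow Nat.prime_two]
    simp
  have e : G ≃* QuaternionGroup (2 ^ n) :=
    (Subgroup.topEquiv.symm.trans (MulEquiv.subgroupCongr hS.symm)).trans eS
  exact good_of_quaternion hn e

theorem good_of_core_trivial {G : Type u} [Group G] [Finite G] (hQ : SylQ G)
    [Group.IsSolvable G] (hK : Cfsg.pPrimeCore 2 G = ⊥)
    (hd2 : ∀ (R : Subgroup G) [R.Normal], (R ≃* QuaternionGroup 2) →
      Subgroup.centralizer (R : Set G) ≤ R → (Nat.card G = 24 ∨ Nat.card G = 48) →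
      ∃ N : Subgroup G, Good N) :
    ∃ N : Subgroup G, Good N := by
  haveI : Fact (Nat.Prime 2) := ⟨Nat.prime_two⟩
  obtain ⟨S⟩ : Nonempty (Sylow 2 G) := inferInstance
  have hSor : IsCyclic ↥(S : Subgroup G) ∨
      ∃ n : ℕ, 1 ≤ n ∧ Nonempty (↥(S : Subgroup G) ≃* QuaternionGroup (2 ^ n)) := by
    rcases hQ 2 S with hS | ⟨n, ⟨eS⟩⟩
    · exact Or.inl hS
    · rcases Nat.eq_zero_or_pos n with hn0 | hn1
      · left
        subst hn0
        have e' : ↥(S : Subgroup G) ≃* QuaternionGroup 1 := eS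
        haveI := QuaternionGroup.quaternionGroup_one_isCyclic
        exact isCyclic_of_surjective e'.symm e'.symm.surjective
      · exact Or.inr ⟨n, hn1, ⟨eS⟩⟩
  rcases hSor with hS | ⟨n, hn, ⟨eS⟩⟩
  · refine ⟨⊤, good_top' ?_⟩
    intro p _ P
    by_cases hp2 : p = 2
    · subst hp2
      obtain ⟨g, hg⟩ := MulAction.exists_smul_eq G S P
      have e : ↥(S : Subgroup G) ≃* ↥(P : Subgroup G) := by
        rw [← hg]; exact Sylow.equivSMul S g
      exact isCyclic_of_surjective e e.surjective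
    · exact sylow_odd_cyclic hQ hp2 P
  -- `S` generalized quaternion
  have hcent : Subgroup.centralizer (Cfsg.pCore 2 G : Set G) ≤ Cfsg.pCore 2 G :=
    centralizer_pCore_le 2 hK
  have hRS : Cfsg.pCore 2 G ≤ S := pCore_le_sylow S
  have hRp : IsPGroup 2 ↥(Cfsg.pCore 2 G) := pCore_isPGroup 2
  -- the unique involution
  have hinvS : ∀ x : G, x ∈ (S : Subgroup G) → orderOf x = 2 →
      x = ((eS.symm (QuaternionGroup.a ((2 ^ n : ℕ) : ZMod (2 * 2 ^ n)))) : G) := by
    intro x hx hx2
    have h1 : orderOf (eS ⟨x, hx⟩) = 2 := by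
      rw [MulEquiv.orderOf_eq, Subgroup.orderOf_mk]; exact hx2
    have h2 := eq_a_of_orderOf_two _ h1
    have h3 : (⟨x, hx⟩ : ↥(S : Subgroup G)) =
        eS.symm (QuaternionGroup.a ((2 ^ n : ℕ) : ZMod (2 * 2 ^ n))) := by
      rw [← h2, MulEquiv.symm_apply_apply]
    exact congrArg Subtype.val h3
  have hinvR : ∀ x y : ↥(Cfsg.pCore 2 G), orderOf x = 2 → orderOf y = 2 → x = y := by
    intro x y hx hy
    apply Subtype.ext
    rw [hinvS x (hRS x.2) (by rw [Subgroup.orderOf_coe]; exact hx),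
      hinvS y (hRS y.2) (by rw [Subgroup.orderOf_coe]; exact hy)]
  have htwo : IsPGroup 2 G → ∃ N : Subgroup G, Good N := fun h2 => good_of_two_group h2 S hn eS
  obtain ⟨j, hj⟩ := (IsPGroup.iff_card (p := 2)).mp hRp
  rcases Cfsg.Agent.S0016.result 2 hRp (subgroup_unique_of_invol_unique hinvR) with
    hc | ⟨-, k, ⟨eR⟩⟩
  · -- `R` cyclic
    apply htwo
    exact isPGroup_two_of_aut _ hRp hcent (fun α r hr hα => aut_cyclic_two_odd hj α hr hα)
  · rcases k with _ | _ | k
    · apply htwo
      have e' : ↥(Cfsg.pCore 2 G) ≃* QuaternionGroup 1 := eR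
      haveI := QuaternionGroup.quaternionGroup_one_isCyclic
      haveI : IsCyclic ↥(Cfsg.pCore 2 G) := isCyclic_of_surjective e'.symm e'.symm.surjective
      exact isPGroup_two_of_aut _ hRp hcent (fun α r hr hα => aut_cyclic_two_odd hj α hr hα)
    · -- `R ≃ Q₈`
      have eR' : ↥(Cfsg.pCore 2 G) ≃* QuaternionGroup 2 := eR
      have hcard8 : Nat.card ↥(Cfsg.pCore 2 G) = 8 := by
        rw [Nat.card_congr eR'.toEquiv, Nat.card_eq_fintype_card, QuaternionGroup.card]
      have hle := card_le_of_q8 (Cfsg.pCore 2 G) eR' hcent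
      have h8 : 8 ∣ Nat.card G := by
        rw [← hcard8]; exact Subgroup.card_subgroup_dvd_card _
      obtain ⟨t, ht⟩ := h8
      have hpos : 0 < Nat.card G := Nat.card_pos
      have ht6 : t ≤ 6 := by omega
      have ht1 : 1 ≤ t := by
        rcases Nat.eq_zero_or_pos t with h | h
        · rw [h] at ht; omega
        · exact h
      interval_cases t
      · exact htwo (IsPGroup.of_card (n := 3) (by rw [ht]; norm_num))
      · exact htwo (IsPGroup.of_card (n := 4) (by rw [ht]; norm_num))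
      · exact hd2 _ eR' hcent (Or.inl (by rw [ht]))
      · exact htwo (IsPGroup.of_card (n := 5) (by rw [ht]; norm_num))
      · exfalso
        haveI : Fact (Nat.Prime 5) := ⟨by norm_num⟩
        obtain ⟨g, hg⟩ := exists_prime_orderOf_dvd_card' (G := G) 5 (by rw [ht]; norm_num)
        have := prime_two_or_three' (Cfsg.pCore 2 G) hcent hcard8 hinvR (by norm_num) hg
        omega
      · exact hd2 _ eR' hcent (Or.inr (by rw [ht]))
    · -- `R` generalized quaternion of order at least 16
      apply htwo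
      apply isPGroup_two_of_aut _ hRp hcent
      intro α r hr hα
      have h1 : (MulAut.congr eR α) ^ r = 1 := by
        rw [← map_pow, hα, map_one]
      have h2 := aut_quaternion_odd (n := k + 1 + 1) (by omega) hr (MulAut.congr eR α) h1
      have h3 : MulAut.congr eR α = MulAut.congr eR 1 := by rw [h2, map_one]
      exact (MulAut.congr eR).injective h3

theorem exists_good_aux
    (hquot : ∀ (G : Type u) [Group G] [Finite G], SylQ G → ∀ (K : Subgroup G) [K.Normal],
      ¬ 2 ∣ Nat.card K →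
      SylQ (G ⧸ K) ∧ ((∃ N' : Subgroup (G ⧸ K), Good N') → ∃ N : Subgroup G, Good N))
    (hd2 : ∀ (G : Type u) [Group G] [Finite G] (R : Subgroup G) [R.Normal],
      (R ≃* QuaternionGroup 2) → Subgroup.centralizer (R : Set G) ≤ R →
      (Nat.card G = 24 ∨ Nat.card G = 48) → ∃ N : Subgroup G, Good N) :
    ∀ (n : ℕ) (G : Type u) [Group G] [Finite G], Nat.card G = n → SylQ G →
      Group.IsSolvable G → ∃ N : Subgroup G, Good N := by
  intro n
  induction n using Nat.strong_induction_on with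
  | _ n ih =>
    intro G _ _ hn hQ hsol
    by_cases hK : Cfsg.pPrimeCore 2 G = ⊥
    · exact good_of_core_trivial hQ hK (fun R _ e hc hcard => hd2 G R e hc hcard)
    · have hodd : ¬ 2 ∣ Nat.card ↥(Cfsg.pPrimeCore 2 G) := by
        have h1 := card_pPrimeCore_coprime (G := G) 2
        intro h2
        have h3 := Nat.Coprime.eq_one_of_dvd h1.symm h2
        omega
      obtain ⟨hQ', hlift⟩ := hquot G hQ (Cfsg.pPrimeCore 2 G) hodd
      apply hlift
      have hlt : Nat.card (G ⧸ Cfsg.pPrimeCore 2 G) < n := by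
        have h1 := Subgroup.card_eq_card_quotient_mul_card_subgroup (Cfsg.pPrimeCore 2 G)
        have h2 : 1 < Nat.card ↥(Cfsg.pPrimeCore 2 G) :=
          (Subgroup.one_lt_card_iff_ne_bot _).mpr hK
        have h3 : 0 < Nat.card (G ⧸ Cfsg.pPrimeCore 2 G) := Nat.card_pos
        rw [← hn, h1]
        nlinarith
      exact ih _ hlt (G ⧸ Cfsg.pPrimeCore 2 G) rfl hQ' inferInstance

end Cfsg.Agent.Helper4.FC2
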