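import Mathlib
import Cfsg.Prelude.Def_Solvable
import Cfsg.Agent.Lead.FCDefs
import Cfsg.Agent.Helper1.FC2a
import Cfsg.Agent.Helper1.FC2f
import Cfsg.Agent.Helper4.FC2E

set_option autoImplicit false

/-!
S4291, piece FC-II (helper4), final: `exists_good_of_solvable`.
-/

namespace Cfsg.Agent.Helper4.FC2

open Cfsg.Agent.Lead.FC

/-- PIECE FC-II: the solvable case. -/
theorem exists_good_of_solvable {G : Type*} [Group G] [Finite G] (hQ : SylQ G)
    (hsol : Group.IsSolvable G) : ∃ N : Subgroup G, Good N :=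
  exists_good_aux (fun _ _ _ hQ K _ hK => Cfsg.Agent.Helper1.FC.good_of_quotient hQ K hK)
    (fun _ _ _ R _ e hc hcard => Cfsg.Agent.Helper1.FC.good_of_q8_core R e hc hcard)
    (Nat.card G) G rfl hQ hsol

end Cfsg.Agent.Helper4.FC2
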