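import Mathlib
import Cfsg.Agent.Helper7.FHDefs

/-!
# S1142, piece L3 (`eig_quad`): the quadratic relation for `T₁T₂` on an eigenspace.
-/

set_option autoImplicit false
set_option linter.unusedVariables false
set_option linter.unusedSectionVars false

namespace Cfsg.Agent.Helper7.FH

open Matrix Finset

/-- generic expansion of a right multiplication by `(α p - 1)(β q - 1)` -/
theorem h4_mul_R {R : Type*} [Ring R] [Algebra ℝ R] (X p q : R) (al be : ℝ) :
    X * ((al • p - 1) * (be • q - 1)) =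
      (al * be) • (X * p * q) - al • (X * p) - be • (X * q) + X := by
  simp only [sub_mul, mul_sub, smul_mul_assoc, mul_smul_comm, mul_one, one_mul, smul_sub,
    smul_smul, ← mul_assoc]
  module

/-- the abstract quadratic relation -/
theorem h4_quad_aux {R : Type*} [Ring R] [Algebra ℝ R] (E p q : R) (al be lam : ℝ)
    (hp : p * p = p) (hq : q * q = q)
    (h121 : E * p * q * p = lam • (E * p)) (h212 : E * q * p * q = lam • (E * q))
    (hC : E * (p * q + q * p) = E * p + E * q - (1 - lam) • E) :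
    E * ((al • p - 1) * (be • q - 1)) * ((al • p - 1) * (be • q - 1)) =
      (al * be * lam - (al - 1) - (be - 1)) • (E * ((al • p - 1) * (be • q - 1)))
        - ((al - 1) * (be - 1)) • E := by
  have hqp : E * q * p = E * p + E * q - (1 - lam) • E - E * p * q := by
    have : E * p * q + E * q * p = E * p + E * q - (1 - lam) • E := by
      rw [← hC, mul_add, mul_assoc, mul_assoc]
    rw [← this]; abel
  have m1 : E * p * q * p * q = lam • (E * p * q) := by rw [h121, smul_mul_assoc]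
  have m3 : E * p * q * q = E * p * q := by rw [mul_assoc (E * p), hq]
  have m4 : E * p * p * q = E * p * q := by rw [mul_assoc E p p, hp]
  have m5 : E * p * p = E * p := by rw [mul_assoc E p p, hp]
  have m8 : E * q * q = E * q := by rw [mul_assoc E q q, hq]
  have g1 : (E * p * q) * ((al • p - 1) * (be • q - 1)) =
      (al * be * lam) • (E * p * q) - (al * lam) • (E * p) - be • (E * p * q) + E * p * q := by
    rw [h4_mul_R, m1, h121, m3, smul_smul, smul_smul]
  have g2 : (E * p) * ((al • p - 1) * (be • q - 1)) =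
      (al * be) • (E * p * q) - al • (E * p) - be • (E * p * q) + E * p := by
    rw [h4_mul_R, m4, m5]
  have g3 : (E * q) * ((al • p - 1) * (be • q - 1)) =
      (al * be * lam) • (E * q) - al • (E * p + E * q - (1 - lam) • E - E * p * q)
        - be • (E * q) + E * q := by
    rw [h4_mul_R, h212, hqp, m8, smul_smul]
  have h1 := h4_mul_R E p q al be
  set Rr := (al • p - 1) * (be • q - 1) with hRr
  rw [h1]
  simp only [add_mul, sub_mul, smul_mul_assoc]
  rw [g1, g2, g3, h1]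
  module

variable {F : Type*} [Fintype F] [DecidableEq F] (D : FHData F)

theorem h4_p₁_idem : D.p₁ * D.p₁ = D.p₁ := by
  have ha : ((D.a : ℝ) + 1) ≠ 0 := by positivity
  unfold FHData.p₁
  rw [smul_mul_smul_comm]
  have : (1 + D.T₁) * (1 + D.T₁) = ((D.a : ℝ) + 1) • (1 + D.T₁) := by
    rw [add_mul, mul_add, mul_add, D.sq₁]
    simp only [mul_one, one_mul]
    module
  rw [this, smul_smul]
  congr 1
  field_simp

theorem h4_p₂_idem : D.p₂ * D.p₂ = D.p₂ := by
  have hb : ((D.b : ℝ) + 1) ≠ 0 := by positivity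
  unfold FHData.p₂
  rw [smul_mul_smul_comm]
  have : (1 + D.T₂) * (1 + D.T₂) = ((D.b : ℝ) + 1) • (1 + D.T₂) := by
    rw [add_mul, mul_add, mul_add, D.sq₂]
    simp only [mul_one, one_mul]
    module
  rw [this, smul_smul]
  congr 1
  field_simp

theorem h4_T₁_eq : D.T₁ = ((D.a : ℝ) + 1) • D.p₁ - 1 := by
  have ha : ((D.a : ℝ) + 1) ≠ 0 := by positivity
  unfold FHData.p₁
  rw [smul_smul, mul_inv_cancel₀ ha, one_smul]
  abel

theorem h4_T₂_eq : D.T₂ = ((D.b : ℝ) + 1) • D.p₂ - 1 := by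
  have hb : ((D.b : ℝ) + 1) ≠ 0 := by positivity
  unfold FHData.p₂
  rw [smul_smul, mul_inv_cancel₀ hb, one_smul]
  abel

theorem eig_quad {E : Matrix F F ℝ} {lam : ℝ} (h : D.Eig E lam)
    (h121 : E * D.p₁ * D.p₂ * D.p₁ = lam • (E * D.p₁))
    (h212 : E * D.p₂ * D.p₁ * D.p₂ = lam • (E * D.p₂))
    (hC : E * (D.p₁ * D.p₂ + D.p₂ * D.p₁) = E * D.p₁ + E * D.p₂ - (1 - lam) • E) :
    E * (D.T₁ * D.T₂) * (D.T₁ * D.T₂) =
      D.t lam • (E * (D.T₁ * D.T₂)) - ((D.a : ℝ) * D.b) • E ∧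
    E * (D.T₂ * D.T₁) * (D.T₂ * D.T₁) =
      D.t lam • (E * (D.T₂ * D.T₁)) - ((D.a : ℝ) * D.b) • E := by
  have hC' : E * (D.p₂ * D.p₁ + D.p₁ * D.p₂) = E * D.p₂ + E * D.p₁ - (1 - lam) • E := by
    rw [add_comm (D.p₂ * D.p₁), hC, add_comm (E * D.p₁)]
  have k1 := h4_quad_aux E D.p₁ D.p₂ ((D.a : ℝ) + 1) ((D.b : ℝ) + 1) lam (h4_p₁_idem D)
    (h4_p₂_idem D) h121 h212 hC
  have k2 := h4_quad_aux E D.p₂ D.p₁ ((D.b : ℝ) + 1) ((D.a : ℝ) + 1) lam (h4_p₂_idem D)
    (h4_p₁_idem D) h212 h121 hC'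
  rw [← h4_T₁_eq, ← h4_T₂_eq] at k1 k2
  have ht1 : ((D.a : ℝ) + 1) * ((D.b : ℝ) + 1) * lam - ((D.a : ℝ) + 1 - 1) - ((D.b : ℝ) + 1 - 1)
      = D.t lam := by unfold FHData.t; ring
  have ht2 : ((D.b : ℝ) + 1) * ((D.a : ℝ) + 1) * lam - ((D.b : ℝ) + 1 - 1) - ((D.a : ℝ) + 1 - 1)
      = D.t lam := by unfold FHData.t; ring
  have hab1 : ((D.a : ℝ) + 1 - 1) * ((D.b : ℝ) + 1 - 1) = (D.a : ℝ) * D.b := by ring
  have hab2 : ((D.b : ℝ) + 1 - 1) * ((D.a : ℝ) + 1 - 1) = (D.a : ℝ) * D.b := by ring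
  rw [ht1, hab1] at k1
  rw [ht2, hab2] at k2
  exact ⟨k1, k2⟩

end Cfsg.Agent.Helper7.FH
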