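import Mathlib
import Cfsg.Agent.Helper7.FHDefs

/-!
# S1142, piece L9a (`C_pow_fil`): `C^i ≡ κ^i (A_{2i} + B_{2i})` modulo words of length `< 2i`.
-/

set_option autoImplicit false
set_option linter.unusedVariables false
set_option linter.unusedSectionVars false

namespace Cfsg.Agent.Helper7.FH

open Matrix Finset

/-- appending a letter on the right of an alternating word -/
theorem h4_alt_succ_right {M : Type*} [Monoid M] (k : ℕ) (x y : M) :
    alt (k + 1) x y = alt k x y * (if Even k then x else y) := by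
  induction k generalizing x y with
  | zero => simp [alt]
  | succ k ih =>
    rw [alt_succ, ih y x, ← mul_assoc, ← alt_succ]
    congr 1
    by_cases hk : Even k
    · have : ¬ Even (k + 1) := by rw [Nat.even_add_one]; exact not_not.mpr hk
      rw [if_pos hk, if_neg this]
    · have : Even (k + 1) := by rw [Nat.even_add_one]; exact hk
      rw [if_neg hk, if_pos this]

variable {F : Type*} [Fintype F] [DecidableEq F] (D : FHData F)

theorem h4_A_mem_Fil {k j : ℕ} (h : k ≤ j) : D.A k ∈ D.Fil j :=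
  Submodule.subset_span (Or.inl ⟨k, h, rfl⟩)

theorem h4_B_mem_Fil {k j : ℕ} (h : k ≤ j) : D.B k ∈ D.Fil j :=
  Submodule.subset_span (Or.inr ⟨k, h, rfl⟩)

theorem h4_Fil_mono {i j : ℕ} (h : i ≤ j) : D.Fil i ≤ D.Fil j := by
  apply Submodule.span_mono
  apply Set.union_subset_union
  · rintro X ⟨k, hk, rfl⟩; exact ⟨k, hk.trans h, rfl⟩
  · rintro X ⟨k, hk, rfl⟩; exact ⟨k, hk.trans h, rfl⟩

theorem h4_A_zero : D.A 0 = 1 := rfl
theorem h4_B_zero : D.B 0 = 1 := rfl
theorem h4_A_one : D.A 1 = D.T₁ := by simp [FHData.A, alt]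
theorem h4_B_one : D.B 1 = D.T₂ := by simp [FHData.B, alt]
theorem h4_A_two : D.A 2 = D.T₁ * D.T₂ := by simp [FHData.A, alt]
theorem h4_B_two : D.B 2 = D.T₂ * D.T₁ := by simp [FHData.B, alt]

theorem h4_A_succ (k : ℕ) : D.A (k + 1) = D.A k * (if Even k then D.T₁ else D.T₂) :=
  h4_alt_succ_right k D.T₁ D.T₂

theorem h4_B_succ (k : ℕ) : D.B (k + 1) = D.B k * (if Even k then D.T₂ else D.T₁) :=
  h4_alt_succ_right k D.T₂ D.T₁

/-- `A_k * (last letter of A_k)` stays in `Fil k` (`k ≥ 1`) -/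
theorem h4_A_mul_same (k : ℕ) (hk : 1 ≤ k) :
    D.A k * (if Even k then D.T₂ else D.T₁) ∈ D.Fil k := by
  obtain ⟨j, rfl⟩ : ∃ j, k = j + 1 := ⟨k - 1, by omega⟩
  rw [h4_A_succ]
  by_cases hj : Even j
  · have hj1 : ¬ Even (j + 1) := by rw [Nat.even_add_one]; exact not_not.mpr hj
    rw [if_pos hj, if_neg hj1, mul_assoc, D.sq₁, mul_add, mul_smul_comm, mul_smul_comm, mul_one]
    refine Submodule.add_mem _ (Submodule.smul_mem _ _ (h4_A_mem_Fil D (Nat.le_succ j))) ?_
    refine Submodule.smul_mem _ _ ?_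
    have := h4_A_succ D j
    rw [if_pos hj] at this
    rw [← this]
    exact h4_A_mem_Fil D le_rfl
  · have hj1 : Even (j + 1) := by rw [Nat.even_add_one]; exact hj
    rw [if_neg hj, if_pos hj1, mul_assoc, D.sq₂, mul_add, mul_smul_comm, mul_smul_comm, mul_one]
    refine Submodule.add_mem _ (Submodule.smul_mem _ _ (h4_A_mem_Fil D (Nat.le_succ j))) ?_
    refine Submodule.smul_mem _ _ ?_
    have := h4_A_succ D j
    rw [if_neg hj] at this
    rw [← this]
    exact h4_A_mem_Fil D le_rfl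

/-- `B_k * (last letter of B_k)` stays in `Fil k` (`k ≥ 1`) -/
theorem h4_B_mul_same (k : ℕ) (hk : 1 ≤ k) :
    D.B k * (if Even k then D.T₁ else D.T₂) ∈ D.Fil k := by
  obtain ⟨j, rfl⟩ : ∃ j, k = j + 1 := ⟨k - 1, by omega⟩
  rw [h4_B_succ]
  by_cases hj : Even j
  · have hj1 : ¬ Even (j + 1) := by rw [Nat.even_add_one]; exact not_not.mpr hj
    rw [if_pos hj, if_neg hj1, mul_assoc, D.sq₂, mul_add, mul_smul_comm, mul_smul_comm, mul_one]
    refine Submodule.add_mem _ (Submodule.smul_mem _ _ (h4_B_mem_Fil D (Nat.le_succ j))) ?_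
    refine Submodule.smul_mem _ _ ?_
    have := h4_B_succ D j
    rw [if_pos hj] at this
    rw [← this]
    exact h4_B_mem_Fil D le_rfl
  · have hj1 : Even (j + 1) := by rw [Nat.even_add_one]; exact hj
    rw [if_neg hj, if_pos hj1, mul_assoc, D.sq₁, mul_add, mul_smul_comm, mul_smul_comm, mul_one]
    refine Submodule.add_mem _ (Submodule.smul_mem _ _ (h4_B_mem_Fil D (Nat.le_succ j))) ?_
    refine Submodule.smul_mem _ _ ?_
    have := h4_B_succ D j
    rw [if_neg hj] at this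
    rw [← this]
    exact h4_B_mem_Fil D le_rfl

theorem h4_A_mul_T₁ (k : ℕ) : D.A k * D.T₁ ∈ D.Fil (k + 1) := by
  by_cases hk : Even k
  · have := h4_A_succ D k
    rw [if_pos hk] at this
    rw [← this]
    exact h4_A_mem_Fil D le_rfl
  · have h1 : 1 ≤ k := by
      rcases Nat.eq_zero_or_pos k with h | h
      · subst h; exact absurd Even.zero hk
      · exact h
    have := h4_A_mul_same D k h1
    rw [if_neg hk] at this
    exact h4_Fil_mono D (Nat.le_succ k) this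

theorem h4_A_mul_T₂ (k : ℕ) : D.A k * D.T₂ ∈ D.Fil (k + 1) := by
  by_cases hk : Even k
  · rcases Nat.eq_zero_or_pos k with h | h
    · subst h
      rw [h4_A_zero, one_mul, ← h4_B_one]
      exact h4_B_mem_Fil D le_rfl
    · have := h4_A_mul_same D k h
      rw [if_pos hk] at this
      exact h4_Fil_mono D (Nat.le_succ k) this
  · have := h4_A_succ D k
    rw [if_neg hk] at this
    rw [← this]
    exact h4_A_mem_Fil D le_rfl

theorem h4_B_mul_T₂ (k : ℕ) : D.B k * D.T₂ ∈ D.Fil (k + 1) := by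
  by_cases hk : Even k
  · have := h4_B_succ D k
    rw [if_pos hk] at this
    rw [← this]
    exact h4_B_mem_Fil D le_rfl
  · have h1 : 1 ≤ k := by
      rcases Nat.eq_zero_or_pos k with h | h
      · subst h; exact absurd Even.zero hk
      · exact h
    have := h4_B_mul_same D k h1
    rw [if_neg hk] at this
    exact h4_Fil_mono D (Nat.le_succ k) this

theorem h4_B_mul_T₁ (k : ℕ) : D.B k * D.T₁ ∈ D.Fil (k + 1) := by
  by_cases hk : Even k
  · rcases Nat.eq_zero_or_pos k with h | h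
    · subst h
      rw [h4_B_zero, one_mul, ← h4_A_one]
      exact h4_A_mem_Fil D le_rfl
    · have := h4_B_mul_same D k h
      rw [if_pos hk] at this
      exact h4_Fil_mono D (Nat.le_succ k) this
  · have := h4_B_succ D k
    rw [if_neg hk] at this
    rw [← this]
    exact h4_B_mem_Fil D le_rfl

/-- right multiplication by `T₁` raises the filtration degree by at most one -/
theorem h4_Fil_mul_T₁ {j : ℕ} {X : Matrix F F ℝ} (hX : X ∈ D.Fil j) : X * D.T₁ ∈ D.Fil (j + 1) := by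
  unfold FHData.Fil at hX
  induction hX using Submodule.span_induction with
  | mem x hx =>
    rcases hx with ⟨k, hk, rfl⟩ | ⟨k, hk, rfl⟩
    · exact h4_Fil_mono D (by omega) (h4_A_mul_T₁ D k)
    · exact h4_Fil_mono D (by omega) (h4_B_mul_T₁ D k)
  | zero => rw [zero_mul]; exact Submodule.zero_mem _
  | add x y _ _ hx hy => rw [add_mul]; exact Submodule.add_mem _ hx hy
  | smul c x _ hx => rw [smul_mul_assoc]; exact Submodule.smul_mem _ _ hx

theorem h4_Fil_mul_T₂ {j : ℕ} {X : Matrix F F ℝ} (hX : X ∈ D.Fil j) : X * D.T₂ ∈ D.Fil (j + 1) := by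
  unfold FHData.Fil at hX
  induction hX using Submodule.span_induction with
  | mem x hx =>
    rcases hx with ⟨k, hk, rfl⟩ | ⟨k, hk, rfl⟩
    · exact h4_Fil_mono D (by omega) (h4_A_mul_T₂ D k)
    · exact h4_Fil_mono D (by omega) (h4_B_mul_T₂ D k)
  | zero => rw [zero_mul]; exact Submodule.zero_mem _
  | add x y _ _ hx hy => rw [add_mul]; exact Submodule.add_mem _ hx hy
  | smul c x _ hx => rw [smul_mul_assoc]; exact Submodule.smul_mem _ _ hx

theorem h4_Fil_mul_A {j : ℕ} {X : Matrix F F ℝ} (hX : X ∈ D.Fil j) (k : ℕ) :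
    X * D.A k ∈ D.Fil (j + k) := by
  induction k with
  | zero => rw [h4_A_zero, mul_one]; exact hX
  | succ k ih =>
    rw [h4_A_succ, ← mul_assoc, ← add_assoc]
    split_ifs
    · exact h4_Fil_mul_T₁ D ih
    · exact h4_Fil_mul_T₂ D ih

theorem h4_Fil_mul_B {j : ℕ} {X : Matrix F F ℝ} (hX : X ∈ D.Fil j) (k : ℕ) :
    X * D.B k ∈ D.Fil (j + k) := by
  induction k with
  | zero => rw [h4_B_zero, mul_one]; exact hX
  | succ k ih =>
    rw [h4_B_succ, ← mul_assoc, ← add_assoc]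
    split_ifs
    · exact h4_Fil_mul_T₂ D ih
    · exact h4_Fil_mul_T₁ D ih

/-- the filtration is multiplicative -/
theorem h4_Fil_mul {j l : ℕ} {X Y : Matrix F F ℝ} (hX : X ∈ D.Fil j) (hY : Y ∈ D.Fil l) :
    X * Y ∈ D.Fil (j + l) := by
  unfold FHData.Fil at hY
  induction hY using Submodule.span_induction with
  | mem y hy =>
    rcases hy with ⟨k, hk, rfl⟩ | ⟨k, hk, rfl⟩
    · exact h4_Fil_mono D (by omega) (h4_Fil_mul_A D hX k)
    · exact h4_Fil_mono D (by omega) (h4_Fil_mul_B D hX k)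
  | zero => rw [mul_zero]; exact Submodule.zero_mem _
  | add x y _ _ hx hy => rw [mul_add]; exact Submodule.add_mem _ hx hy
  | smul c x _ hx => rw [mul_smul_comm]; exact Submodule.smul_mem _ _ hx

theorem h4_one_mem_Fil (j : ℕ) : (1 : Matrix F F ℝ) ∈ D.Fil j := by
  rw [← h4_A_zero D]; exact h4_A_mem_Fil D (Nat.zero_le j)

theorem h4_T₁_mem_Fil {j : ℕ} (hj : 1 ≤ j) : D.T₁ ∈ D.Fil j := by
  rw [← h4_A_one D]; exact h4_A_mem_Fil D hj

theorem h4_T₂_mem_Fil {j : ℕ} (hj : 1 ≤ j) : D.T₂ ∈ D.Fil j := by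
  rw [← h4_B_one D]; exact h4_B_mem_Fil D hj

/-- explicit form of `C` -/
theorem h4_C_eq :
    D.C = D.kap • (D.A 2 + D.B 2) +
      ((((D.a : ℝ) + 1)⁻¹ + ((D.b : ℝ) + 1)⁻¹ - 2 * (((D.a : ℝ) + 1)⁻¹ * ((D.b : ℝ) + 1)⁻¹)) • (1 : Matrix F F ℝ)
        + (((D.a : ℝ) + 1)⁻¹ - 2 * (((D.a : ℝ) + 1)⁻¹ * ((D.b : ℝ) + 1)⁻¹)) • D.T₁
        + (((D.b : ℝ) + 1)⁻¹ - 2 * (((D.a : ℝ) + 1)⁻¹ * ((D.b : ℝ) + 1)⁻¹)) • D.T₂) := by
  have ha : ((D.a : ℝ) + 1) ≠ 0 := by positivity
  have hb : ((D.b : ℝ) + 1) ≠ 0 := by positivity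
  have hkap : D.kap = -((((D.a : ℝ) + 1)⁻¹ * ((D.b : ℝ) + 1)⁻¹)) := by
    unfold FHData.kap
    rw [neg_div, one_div, mul_inv]
  set al := ((D.a : ℝ) + 1)⁻¹ with hal
  set be := ((D.b : ℝ) + 1)⁻¹ with hbe
  have h11 : (1 + D.T₁) * (1 + D.T₁) = ((D.a : ℝ) + 1) • (1 + D.T₁) := by
    rw [add_mul, mul_add, mul_add, D.sq₁]
    simp only [mul_one, one_mul]
    module
  have h22 : (1 + D.T₂) * (1 + D.T₂) = ((D.b : ℝ) + 1) • (1 + D.T₂) := by
    rw [add_mul, mul_add, mul_add, D.sq₂]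
    simp only [mul_one, one_mul]
    module
  have h12 : (1 + D.T₁) * (1 + D.T₂) = 1 + D.T₁ + D.T₂ + D.T₁ * D.T₂ := by
    rw [add_mul, mul_add, mul_add]; simp only [mul_one, one_mul]; abel
  have h21 : (1 + D.T₂) * (1 + D.T₁) = 1 + D.T₁ + D.T₂ + D.T₂ * D.T₁ := by
    rw [add_mul, mul_add, mul_add]; simp only [mul_one, one_mul]; abel
  have e1 : al * al * ((D.a : ℝ) + 1) = al := by rw [hal]; field_simp
  have e2 : be * be * ((D.b : ℝ) + 1) = be := by rw [hbe]; field_simp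
  unfold FHData.C FHData.p₁ FHData.p₂
  rw [← hal, ← hbe, hkap, h4_A_two, h4_B_two]
  rw [sub_mul, mul_sub, mul_sub, smul_mul_smul_comm, smul_mul_smul_comm, smul_mul_smul_comm,
    smul_mul_smul_comm, h11, h22, h12, h21, smul_smul, smul_smul, e1, e2]
  module

theorem h4_C_sub_mem : D.C - D.kap • (D.A 2 + D.B 2) ∈ D.Fil 1 := by
  rw [h4_C_eq D, add_sub_cancel_left]
  refine Submodule.add_mem _ (Submodule.add_mem _ ?_ ?_) ?_
  · exact Submodule.smul_mem _ _ (h4_one_mem_Fil D 1)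
  · exact Submodule.smul_mem _ _ (h4_T₁_mem_Fil D le_rfl)
  · exact Submodule.smul_mem _ _ (h4_T₂_mem_Fil D le_rfl)

theorem h4_C_mem : D.C ∈ D.Fil 2 := by
  have h1 := h4_Fil_mono D (show 1 ≤ 2 by norm_num) (h4_C_sub_mem D)
  have h2 : D.kap • (D.A 2 + D.B 2) ∈ D.Fil 2 :=
    Submodule.smul_mem _ _ (Submodule.add_mem _ (h4_A_mem_Fil D le_rfl) (h4_B_mem_Fil D le_rfl))
  have := Submodule.add_mem _ h1 h2
  rwa [sub_add_cancel] at this

theorem h4_A_even_mul_A_two (i : ℕ) : D.A (2 * i) * D.A 2 = D.A (2 * i + 2) := by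
  have h1 := h4_A_succ D (2 * i)
  have h2 := h4_A_succ D (2 * i + 1)
  have e0 : Even (2 * i) := even_two_mul i
  have e1 : ¬ Even (2 * i + 1) := by rw [Nat.even_add_one]; exact not_not.mpr e0
  rw [if_pos e0] at h1
  rw [if_neg e1] at h2
  rw [h2, h1, h4_A_two, mul_assoc]

theorem h4_B_even_mul_B_two (i : ℕ) : D.B (2 * i) * D.B 2 = D.B (2 * i + 2) := by
  have h1 := h4_B_succ D (2 * i)
  have h2 := h4_B_succ D (2 * i + 1)
  have e0 : Even (2 * i) := even_two_mul i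
  have e1 : ¬ Even (2 * i + 1) := by rw [Nat.even_add_one]; exact not_not.mpr e0
  rw [if_pos e0] at h1
  rw [if_neg e1] at h2
  rw [h2, h1, h4_B_two, mul_assoc]

theorem h4_A_even_mul_B_two (i : ℕ) (hi : 1 ≤ i) : D.A (2 * i) * D.B 2 ∈ D.Fil (2 * i + 1) := by
  have e0 : Even (2 * i) := even_two_mul i
  have h1 := h4_A_mul_same D (2 * i) (by omega)
  rw [if_pos e0] at h1
  rw [h4_B_two, ← mul_assoc]
  exact h4_Fil_mul_T₁ D h1

theorem h4_B_even_mul_A_two (i : ℕ) (hi : 1 ≤ i) : D.B (2 * i) * D.A 2 ∈ D.Fil (2 * i + 1) := by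
  have e0 : Even (2 * i) := even_two_mul i
  have h1 := h4_B_mul_same D (2 * i) (by omega)
  rw [if_pos e0] at h1
  rw [h4_A_two, ← mul_assoc]
  exact h4_Fil_mul_T₂ D h1

theorem C_pow_fil (i : ℕ) (hi : 1 ≤ i) :
    D.C ^ i - D.kap ^ i • (D.A (2 * i) + D.B (2 * i)) ∈ D.Fil (2 * i - 1) := by
  induction i, hi using Nat.le_induction with
  | base =>
    simpa using h4_C_sub_mem D
  | succ i hi ih =>
    have hidx : 2 * (i + 1) - 1 = 2 * i + 1 := by omega
    have hidx2 : 2 * (i + 1) = 2 * i + 2 := by ring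
    rw [hidx, hidx2]
    set f := D.C ^ i - D.kap ^ i • (D.A (2 * i) + D.B (2 * i)) with hf
    set g := D.C - D.kap • (D.A 2 + D.B 2) with hg
    have hgmem : g ∈ D.Fil 1 := h4_C_sub_mem D
    have key : D.C ^ (i + 1) - D.kap ^ (i + 1) • (D.A (2 * i + 2) + D.B (2 * i + 2)) =
        f * D.C + D.kap ^ i • ((D.A (2 * i) + D.B (2 * i)) * g) +
          D.kap ^ (i + 1) • (D.A (2 * i) * D.B 2 + D.B (2 * i) * D.A 2) := by
      rw [← h4_A_even_mul_A_two, ← h4_B_even_mul_B_two, hf, hg, pow_succ, pow_succ]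
      simp only [sub_mul, mul_sub, add_mul, mul_add, smul_mul_assoc, mul_smul_comm, smul_add,
        smul_sub, smul_smul]
      module
    rw [key]
    refine Submodule.add_mem _ (Submodule.add_mem _ ?_ ?_) ?_
    · have := h4_Fil_mul D ih (h4_C_mem D)
      have e : 2 * i - 1 + 2 = 2 * i + 1 := by omega
      rwa [e] at this
    · refine Submodule.smul_mem _ _ ?_
      exact h4_Fil_mul D
        (Submodule.add_mem _ (h4_A_mem_Fil D le_rfl) (h4_B_mem_Fil D le_rfl)) hgmem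
    · refine Submodule.smul_mem _ _ (Submodule.add_mem _ ?_ ?_)
      · exact h4_A_even_mul_B_two D i hi
      · exact h4_B_even_mul_A_two D i hi

end Cfsg.Agent.Helper7.FH
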