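import Mathlib
import Cfsg.Agent.Helper7.FHDefs
import Cfsg.Agent.Helper4.Fh_L9a

/-!
# S1142, piece L8a (`alg_le_span`): the algebra generated by `T₁, T₂` is spanned by the
alternating words of length `≤ m`.
-/

set_option autoImplicit false
set_option linter.unusedVariables false
set_option linter.unusedSectionVars false

namespace Cfsg.Agent.Helper7.FH

open Matrix Finset

variable {F : Type*} [Fintype F] [DecidableEq F] (D : FHData F)

theorem h4_A_m_eq_B_m : D.A D.m = D.B D.m := D.braid

theorem h4_A_mul_T₁_top {k : ℕ} (hk : k ≤ D.m) : D.A k * D.T₁ ∈ D.Fil D.m := by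
  rcases Nat.lt_or_ge k D.m with h | h
  · exact h4_Fil_mono D (by omega) (h4_A_mul_T₁ D k)
  · have hkm : k = D.m := le_antisymm hk h
    subst hkm
    have hm1 : 1 ≤ D.m := le_trans (by norm_num) D.hm
    by_cases he : Even D.m
    · have := h4_B_mul_same D D.m hm1
      rw [if_pos he] at this
      rw [h4_A_m_eq_B_m]
      exact this
    · have := h4_A_mul_same D D.m hm1
      rw [if_neg he] at this
      exact this

theorem h4_A_mul_T₂_top {k : ℕ} (hk : k ≤ D.m) : D.A k * D.T₂ ∈ D.Fil D.m := by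
  rcases Nat.lt_or_ge k D.m with h | h
  · exact h4_Fil_mono D (by omega) (h4_A_mul_T₂ D k)
  · have hkm : k = D.m := le_antisymm hk h
    subst hkm
    have hm1 : 1 ≤ D.m := le_trans (by norm_num) D.hm
    by_cases he : Even D.m
    · have := h4_A_mul_same D D.m hm1
      rw [if_pos he] at this
      exact this
    · have := h4_B_mul_same D D.m hm1
      rw [if_neg he] at this
      rw [h4_A_m_eq_B_m]
      exact this

theorem h4_B_mul_T₁_top {k : ℕ} (hk : k ≤ D.m) : D.B k * D.T₁ ∈ D.Fil D.m := by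
  rcases Nat.lt_or_ge k D.m with h | h
  · exact h4_Fil_mono D (by omega) (h4_B_mul_T₁ D k)
  · have hkm : k = D.m := le_antisymm hk h
    subst hkm
    have hm1 : 1 ≤ D.m := le_trans (by norm_num) D.hm
    by_cases he : Even D.m
    · have := h4_B_mul_same D D.m hm1
      rw [if_pos he] at this
      exact this
    · have := h4_A_mul_same D D.m hm1
      rw [if_neg he] at this
      rw [← h4_A_m_eq_B_m]
      exact this

theorem h4_B_mul_T₂_top {k : ℕ} (hk : k ≤ D.m) : D.B k * D.T₂ ∈ D.Fil D.m := by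
  rcases Nat.lt_or_ge k D.m with h | h
  · exact h4_Fil_mono D (by omega) (h4_B_mul_T₂ D k)
  · have hkm : k = D.m := le_antisymm hk h
    subst hkm
    have hm1 : 1 ≤ D.m := le_trans (by norm_num) D.hm
    by_cases he : Even D.m
    · have := h4_A_mul_same D D.m hm1
      rw [if_pos he] at this
      rw [← h4_A_m_eq_B_m]
      exact this
    · have := h4_B_mul_same D D.m hm1
      rw [if_neg he] at this
      exact this

theorem h4_top_mul_T₁ {Y : Matrix F F ℝ} (hY : Y ∈ D.Fil D.m) : Y * D.T₁ ∈ D.Fil D.m := by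
  have hY' := hY
  unfold FHData.Fil at hY'
  induction hY' using Submodule.span_induction with
  | mem x hx =>
    rcases hx with ⟨k, hk, rfl⟩ | ⟨k, hk, rfl⟩
    · exact h4_A_mul_T₁_top D hk
    · exact h4_B_mul_T₁_top D hk
  | zero => rw [zero_mul]; exact Submodule.zero_mem _
  | add x y hx' hy' hx hy =>
    rw [add_mul]
    exact Submodule.add_mem _ (hx hx') (hy hy')
  | smul c x hx' hx =>
    rw [smul_mul_assoc]
    exact Submodule.smul_mem _ _ (hx hx')

theorem h4_top_mul_T₂ {Y : Matrix F F ℝ} (hY : Y ∈ D.Fil D.m) : Y * D.T₂ ∈ D.Fil D.m := by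
  have hY' := hY
  unfold FHData.Fil at hY'
  induction hY' using Submodule.span_induction with
  | mem x hx =>
    rcases hx with ⟨k, hk, rfl⟩ | ⟨k, hk, rfl⟩
    · exact h4_A_mul_T₂_top D hk
    · exact h4_B_mul_T₂_top D hk
  | zero => rw [zero_mul]; exact Submodule.zero_mem _
  | add x y hx' hy' hx hy =>
    rw [add_mul]
    exact Submodule.add_mem _ (hx hx') (hy hy')
  | smul c x hx' hx =>
    rw [smul_mul_assoc]
    exact Submodule.smul_mem _ _ (hx hx')

theorem h4_top_mul_Alg {X : Matrix F F ℝ} (hX : X ∈ D.Alg) :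
    ∀ Y ∈ D.Fil D.m, Y * X ∈ D.Fil D.m := by
  unfold FHData.Alg at hX
  induction hX using Algebra.adjoin_induction with
  | mem x hx =>
    intro Y hY
    rcases hx with rfl | hx
    · exact h4_top_mul_T₁ D hY
    · rw [Set.mem_singleton_iff] at hx
      subst hx
      exact h4_top_mul_T₂ D hY
  | algebraMap r =>
    intro Y hY
    rw [Algebra.algebraMap_eq_smul_one, mul_smul_comm, mul_one]
    exact Submodule.smul_mem _ _ hY
  | add x y _ _ hx hy =>
    intro Y hY
    rw [mul_add]
    exact Submodule.add_mem _ (hx Y hY) (hy Y hY)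
  | mul x y _ _ hx hy =>
    intro Y hY
    rw [← mul_assoc]
    exact hy _ (hx Y hY)

theorem alg_le_span :
    (Subalgebra.toSubmodule D.Alg) ≤
      Submodule.span ℝ ({X | ∃ k, k ≤ D.m ∧ X = D.A k} ∪ {X | ∃ k, k ≤ D.m ∧ X = D.B k}) := by
  intro X hX
  have hX' : X ∈ D.Alg := hX
  have := h4_top_mul_Alg D hX' 1 (h4_one_mem_Fil D _)
  rw [one_mul] at this
  exact this

end Cfsg.Agent.Helper7.FH
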