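import Mathlib
import Cfsg.Agent.Helper7.FHDefs
import Cfsg.Agent.Helper4.Fh_L9a

/-!
# S1142, piece L9b (`aeval_C_ne_zero_of`): no monic polynomial of degree `≤ m/2` kills `C`.
-/

set_option autoImplicit false
set_option linter.unusedVariables false
set_option linter.unusedSectionVars false

namespace Cfsg.Agent.Helper7.FH

open Matrix Finset

variable {F : Type*} [Fintype F] [DecidableEq F] (D : FHData F)

/-- the linear functional `X ↦ tr (A_kᵀ X)` -/
noncomputable def h4_phi (k : ℕ) : Matrix F F ℝ →ₗ[ℝ] ℝ :=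
  (Matrix.traceLinearMap F ℝ ℝ).comp (LinearMap.mulLeft ℝ (D.A k).transpose)

theorem h4_phi_apply (k : ℕ) (X : Matrix F F ℝ) :
    h4_phi D k X = Matrix.trace ((D.A k).transpose * X) := rfl

include D in
theorem h4_n_pos : 0 < (Fintype.card F : ℝ) := by
  haveI := D.hF
  exact_mod_cast Fintype.card_pos

theorem h4_qA_pos (k : ℕ) : 0 < (D.a : ℝ) ^ ((k + 1) / 2) * (D.b : ℝ) ^ (k / 2) := by
  have ha : (0 : ℝ) < D.a := by have := D.ha; positivity
  have hb : (0 : ℝ) < D.b := by have := D.hb; positivity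
  positivity

theorem h4_qB_pos (k : ℕ) : 0 < (D.b : ℝ) ^ ((k + 1) / 2) * (D.a : ℝ) ^ (k / 2) := by
  have ha : (0 : ℝ) < D.a := by have := D.ha; positivity
  have hb : (0 : ℝ) < D.b := by have := D.hb; positivity
  positivity

/-- `φ_k (A_l)` -/
theorem h4_phi_A {k l : ℕ} (hk : k ≤ D.m) (hl : l ≤ D.m) :
    h4_phi D k (D.A l) =
      if k = l then (Fintype.card F : ℝ) * ((D.a : ℝ) ^ ((k + 1) / 2) * (D.b : ℝ) ^ (k / 2)) else 0 :=
  D.gramAA k l hk hl

/-- `φ_k (B_l)` is nonnegative, and zero for `l < k` (`1 ≤ k ≤ m`, `l ≤ m`) -/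
theorem h4_phi_B {k l : ℕ} (hk1 : 1 ≤ k) (hk : k ≤ D.m) (hl : l ≤ D.m) :
    0 ≤ h4_phi D k (D.B l) ∧ (l < k → h4_phi D k (D.B l) = 0) := by
  rcases Nat.lt_or_ge k D.m with h | h
  · have := D.gramAB k l hk1 h hl
    rw [h4_phi_apply]
    unfold FHData.A FHData.B
    rw [this]
    exact ⟨le_rfl, fun _ => rfl⟩
  · have hkm : k = D.m := le_antisymm hk h
    subst hkm
    have := D.gramBB D.m l le_rfl hl
    rw [h4_phi_apply]
    unfold FHData.A FHData.B
    rw [D.braid, this]
    constructor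
    · split_ifs
      · exact (mul_pos (h4_n_pos D) (h4_qB_pos D _)).le
      · exact le_rfl
    · intro hlt
      rw [if_neg (by omega)]

/-- `φ_k` vanishes on `Fil (k - 1)` -/
theorem h4_phi_Fil {k : ℕ} (hk1 : 1 ≤ k) (hk : k ≤ D.m) {X : Matrix F F ℝ}
    (hX : X ∈ D.Fil (k - 1)) : h4_phi D k X = 0 := by
  unfold FHData.Fil at hX
  induction hX using Submodule.span_induction with
  | mem x hx =>
    rcases hx with ⟨l, hl, rfl⟩ | ⟨l, hl, rfl⟩
    · rw [h4_phi_A D hk (by omega), if_neg (by omega)]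
    · exact (h4_phi_B D hk1 hk (by omega)).2 (by omega)
  | zero => exact map_zero _
  | add x y _ _ hx hy => rw [map_add, hx, hy, add_zero]
  | smul c x _ hx => rw [map_smul, hx, smul_zero]

theorem aeval_C_ne_zero_of
    (hfil : ∀ i : ℕ, 1 ≤ i →
      D.C ^ i - D.kap ^ i • (D.A (2 * i) + D.B (2 * i)) ∈ D.Fil (2 * i - 1))
    (g : Polynomial ℝ) (hg : g.Monic) (hdeg : 2 * g.natDegree ≤ D.m) :
    Polynomial.aeval D.C g ≠ 0 := by
  haveI := D.hF
  set e := g.natDegree with he
  rcases Nat.eq_zero_or_pos e with h0 | hpos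
  · -- degree zero: `g = 1`
    have : g = 1 := by
      have := Polynomial.eq_C_of_natDegree_eq_zero (he ▸ h0 : g.natDegree = 0)
      rw [this]
      have hl : g.leadingCoeff = 1 := hg
      rw [Polynomial.leadingCoeff, ← he, h0] at hl
      rw [hl, Polynomial.C_1]
    rw [this, map_one]
    exact one_ne_zero
  · -- positive degree
    have h2e1 : 1 ≤ 2 * e := by omega
    -- powers `C^i`, `i < e`, lie in `Fil (2e - 1)`
    have hpow_mem : ∀ i, i < e → D.C ^ i ∈ D.Fil (2 * e - 1) := by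
      intro i hi
      rcases Nat.eq_zero_or_pos i with hi0 | hipos
      · subst hi0
        rw [pow_zero]
        exact h4_one_mem_Fil D _
      · have h1 := h4_Fil_mono D (show 2 * i - 1 ≤ 2 * e - 1 by omega) (hfil i hipos)
        have h2 : D.kap ^ i • (D.A (2 * i) + D.B (2 * i)) ∈ D.Fil (2 * e - 1) :=
          Submodule.smul_mem _ _ (Submodule.add_mem _ (h4_A_mem_Fil D (by omega))
            (h4_B_mem_Fil D (by omega)))
        have := Submodule.add_mem _ h1 h2
        rwa [sub_add_cancel] at this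
    -- the value on `C^e`
    have hCe : h4_phi D (2 * e) (D.C ^ e) ≠ 0 := by
      have h1 := h4_phi_Fil D h2e1 hdeg (hfil e hpos)
      rw [map_sub, sub_eq_zero] at h1
      rw [h1, map_smul, map_add, h4_phi_A D hdeg hdeg, if_pos rfl]
      have hB := (h4_phi_B D h2e1 hdeg hdeg (l := 2 * e)).1
      have hpos' := mul_pos (h4_n_pos D) (h4_qA_pos D (2 * e))
      have hk : D.kap ^ e ≠ 0 := by
        apply pow_ne_zero
        unfold FHData.kap
        have ha : ((D.a : ℝ) + 1) ≠ 0 := by positivity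
        have hb : ((D.b : ℝ) + 1) ≠ 0 := by positivity
        exact div_ne_zero (by norm_num) (mul_ne_zero ha hb)
      rw [smul_eq_mul]
      have hsp : 0 < (Fintype.card F : ℝ) * ((D.a : ℝ) ^ ((2 * e + 1) / 2) * (D.b : ℝ) ^ (2 * e / 2))
          + h4_phi D (2 * e) (D.B (2 * e)) := by linarith
      exact mul_ne_zero hk hsp.ne'
    intro hzero
    apply hCe
    have hsum := Polynomial.aeval_eq_sum_range (p := g) D.C
    rw [← he, Finset.sum_range_succ] at hsum
    have hlead : g.coeff e = 1 := hg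
    rw [hlead, one_smul] at hsum
    have : h4_phi D (2 * e) (Polynomial.aeval D.C g) = h4_phi D (2 * e) (D.C ^ e) := by
      rw [hsum, map_add, map_sum]
      have : ∀ i ∈ Finset.range e, h4_phi D (2 * e) (g.coeff i • D.C ^ i) = 0 := by
        intro i hi
        rw [map_smul, h4_phi_Fil D h2e1 hdeg (hpow_mem i (Finset.mem_range.mp hi)), smul_zero]
      rw [Finset.sum_eq_zero this, zero_add]
    rw [← this, hzero, map_zero]

end Cfsg.Agent.Helper7.FH
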