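import Mathlib
import Cfsg.Agent.Helper4.ThreeSubgroups

set_option autoImplicit false

namespace Cfsg.Agent.Helper4

/-- Commutators into a normal subgroup: sup on the right. -/
theorem commutator_sup_right_le {G : Type*} [Group G] (T : Subgroup G) [T.Normal]
    (X Y Z : Subgroup G) (h1 : ⁅X, Y⁆ ≤ T) (h2 : ⁅X, Z⁆ ≤ T) : ⁅X, Y ⊔ Z⁆ ≤ T := by
  rw [le_normal_iff_map_mk_eq_bot, Subgroup.map_commutator,
    Subgroup.commutator_eq_bot_iff_le_centralizer] at h1 h2 ⊢
  rw [Subgroup.le_centralizer_iff] at h1 h2 ⊢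
  rw [Subgroup.map_sup]
  exact sup_le h1 h2

/-- Commutators into a normal subgroup: iSup on the left. -/
theorem commutator_iSup_left_le {G : Type*} [Group G] (T : Subgroup G) [T.Normal] {ι : Sort*}
    (X : ι → Subgroup G) (W : Subgroup G) (h : ∀ i, ⁅X i, W⁆ ≤ T) : ⁅⨆ i, X i, W⁆ ≤ T := by
  rw [le_normal_iff_map_mk_eq_bot, Subgroup.map_commutator,
    Subgroup.commutator_eq_bot_iff_le_centralizer, Subgroup.map_iSup]
  apply iSup_le
  intro i
  have := h i
  rw [le_normal_iff_map_mk_eq_bot, Subgroup.map_commutator,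
    Subgroup.commutator_eq_bot_iff_le_centralizer] at this
  exact this

/-- The lower central series of a normal subgroup consists of normal subgroups. -/
theorem lowerCentralSeries_normal {G : Type*} [Group G] (H : Subgroup G) [H.Normal] (n : ℕ) :
    (H.lowerCentralSeries n).Normal := by
  induction n with
  | zero => rw [Subgroup.lowerCentralSeries_zero]; infer_instance
  | succ n ih =>
    rw [Subgroup.lowerCentralSeries_succ]
    infer_instance

/-- Shifted lower central series: `shiftLCS H 0 = ⊤`, `shiftLCS H (a+1) = γ_a(H)`. -/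
def shiftLCS {G : Type*} [Group G] (H : Subgroup G) : ℕ → Subgroup G
  | 0 => ⊤
  | (a + 1) => H.lowerCentralSeries a

theorem shiftLCS_normal {G : Type*} [Group G] (H : Subgroup G) [H.Normal] (a : ℕ) :
    (shiftLCS H a).Normal := by
  cases a with
  | zero => exact Subgroup.normal_top
  | succ a => exact lowerCentralSeries_normal H a

theorem commutator_shiftLCS_le {G : Type*} [Group G] (H : Subgroup G) [H.Normal] (a : ℕ) :
    ⁅shiftLCS H a, H⁆ ≤ shiftLCS H (a + 1) := by
  cases a with
  | zero =>
    show ⁅(⊤ : Subgroup G), H⁆ ≤ H.lowerCentralSeries 0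
    rw [Subgroup.lowerCentralSeries_zero]
    exact Subgroup.commutator_le_right ⊤ H
  | succ a => exact le_rfl

theorem shiftLCS_eq_bot_of_le {G : Type*} [Group G] (H : Subgroup G) (c a : ℕ)
    (hH : H.lowerCentralSeries c = ⊥) (ha : c + 1 ≤ a) : shiftLCS H a = ⊥ := by
  obtain ⟨a', rfl⟩ : ∃ a', a = a' + 1 := ⟨a - 1, by omega⟩
  rw [eq_bot_iff, ← hH]
  exact H.lowerCentralSeries_antitone (by omega)

/-- The mixed terms bounding the lower central series of `H ⊔ K`. -/
def mixedLCS {G : Type*} [Group G] (H K : Subgroup G) (n : ℕ) : Subgroup G :=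
  ⨆ (a : ℕ) (b : ℕ) (_ : a + b = n + 1), shiftLCS H a ⊓ shiftLCS K b

theorem mixedLCS_normal {G : Type*} [Group G] (H K : Subgroup G) [H.Normal] [K.Normal] (n : ℕ) :
    (mixedLCS H K n).Normal := by
  unfold mixedLCS
  have h1 : ∀ a, (shiftLCS H a).Normal := shiftLCS_normal H
  have h2 : ∀ b, (shiftLCS K b).Normal := shiftLCS_normal K
  have h3 : ∀ a b, (shiftLCS H a ⊓ shiftLCS K b).Normal := fun a b => inferInstance
  have h4 : ∀ a b, (⨆ (_ : a + b = n + 1), shiftLCS H a ⊓ shiftLCS K b).Normal :=
    fun a b => Subgroup.iSup_normal _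
  have h5 : ∀ a, (⨆ (b : ℕ) (_ : a + b = n + 1), shiftLCS H a ⊓ shiftLCS K b).Normal :=
    fun a => Subgroup.iSup_normal _
  exact Subgroup.iSup_normal _

theorem le_mixedLCS {G : Type*} [Group G] (H K : Subgroup G) (n a b : ℕ) (hab : a + b = n + 1) :
    shiftLCS H a ⊓ shiftLCS K b ≤ mixedLCS H K n := by
  unfold mixedLCS
  exact le_iSup_of_le a (le_iSup_of_le b (le_iSup_of_le hab le_rfl))

theorem lowerCentralSeries_sup_le_mixedLCS {G : Type*} [Group G] (H K : Subgroup G) [H.Normal]
    [K.Normal] (n : ℕ) : (H ⊔ K).lowerCentralSeries n ≤ mixedLCS H K n := by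
  induction n with
  | zero =>
    rw [Subgroup.lowerCentralSeries_zero]
    apply sup_le
    · refine le_trans ?_ (le_mixedLCS H K 0 1 0 rfl)
      show H ≤ H.lowerCentralSeries 0 ⊓ ⊤
      simp
    · refine le_trans ?_ (le_mixedLCS H K 0 0 1 rfl)
      show K ≤ ⊤ ⊓ K.lowerCentralSeries 0
      simp
  | succ n ih =>
    rw [Subgroup.lowerCentralSeries_succ]
    refine le_trans (Subgroup.commutator_mono ih le_rfl) ?_
    have hn : (mixedLCS H K (n + 1)).Normal := mixedLCS_normal H K (n + 1)
    have hunf : mixedLCS H K n =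
        ⨆ (a : ℕ) (b : ℕ) (_ : a + b = n + 1), shiftLCS H a ⊓ shiftLCS K b := rfl
    rw [hunf]
    apply commutator_iSup_left_le
    intro a
    apply commutator_iSup_left_le
    intro b
    apply commutator_iSup_left_le
    intro hab
    have hHa : (shiftLCS H a).Normal := shiftLCS_normal H a
    have hKb : (shiftLCS K b).Normal := shiftLCS_normal K b
    apply commutator_sup_right_le
    · -- commutator with H
      refine le_trans ?_ (le_mixedLCS H K (n + 1) (a + 1) b (by omega))
      apply le_inf
      · exact le_trans (Subgroup.commutator_mono inf_le_left le_rfl) (commutator_shiftLCS_le H a)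
      · exact le_trans (Subgroup.commutator_mono inf_le_right le_rfl) (Subgroup.commutator_le_left _ _)
    · -- commutator with K
      refine le_trans ?_ (le_mixedLCS H K (n + 1) a (b + 1) (by omega))
      apply le_inf
      · exact le_trans (Subgroup.commutator_mono inf_le_left le_rfl) (Subgroup.commutator_le_left _ _)
      · exact le_trans (Subgroup.commutator_mono inf_le_right le_rfl) (commutator_shiftLCS_le K b)

/-- Fitting's theorem with class bound. -/
theorem lowerCentralSeries_sup_eq_bot {G : Type*} [Group G] (H K : Subgroup G) [H.Normal]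
    [K.Normal] (c d : ℕ) (hH : H.lowerCentralSeries c = ⊥) (hK : K.lowerCentralSeries d = ⊥) :
    (H ⊔ K).lowerCentralSeries (c + d) = ⊥ := by
  rw [eq_bot_iff]
  refine le_trans (lowerCentralSeries_sup_le_mixedLCS H K (c + d)) ?_
  unfold mixedLCS
  apply iSup_le
  intro a
  apply iSup_le
  intro b
  apply iSup_le
  intro hab
  by_cases ha : c + 1 ≤ a
  · rw [shiftLCS_eq_bot_of_le H c a hH ha]; exact inf_le_left
  · rw [shiftLCS_eq_bot_of_le K d b hK (by omega)]; exact inf_le_right

end Cfsg.Agent.Helper4
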