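import Mathlib

/-!
Helper lemmas (helper4): averaging the number of fixed points of `a * (h b h⁻¹)` over the
even permutations `h`, via the 2-transitivity of the alternating group.
-/

set_option autoImplicit false
set_option linter.unusedSectionVars false
set_option linter.style.haveILetI false

namespace Cfsg.Agent.Helper4.FixProd

open Equiv

variable {n : ℕ}

/-- Number of fixed points of `a * (h * b * h⁻¹)`. -/
def F (a b h : Perm (Fin n)) : ℕ :=
  (Finset.univ.filter fun t : Fin n => (a * (h * b * h⁻¹)) t = t).card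

/-- Number of fixed points of `a`. -/
def fx (a : Perm (Fin n)) : ℕ := (Finset.univ.filter fun t : Fin n => a t = t).card

/-- The finset of even permutations. -/
def E (n : ℕ) : Finset (Perm (Fin n)) :=
  Finset.univ.filter fun g : Perm (Fin n) => Perm.sign g = 1

theorem mem_E {g : Perm (Fin n)} : g ∈ E n ↔ g ∈ alternatingGroup (Fin n) := by
  simp [E, Perm.mem_alternatingGroup]

theorem mem_E' {g : Perm (Fin n)} : g ∈ E n ↔ Perm.sign g = 1 := by
  simp [E]

theorem pinv {α : Type*} (h : Perm α) (x : α) : h⁻¹ (h x) = x := by simp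

theorem pap {α : Type*} (h : Perm α) (x : α) : h (h⁻¹ x) = x := by simp

theorem fixed_iff (a b h : Perm (Fin n)) (t : Fin n) :
    (a * (h * b * h⁻¹)) t = t ↔ b (h⁻¹ t) = h⁻¹ (a⁻¹ t) := by
  rw [Perm.mul_apply, Perm.mul_apply, Perm.mul_apply]
  constructor
  · intro H
    have h1 : h (b (h⁻¹ t)) = a⁻¹ t := Perm.eq_inv_iff_eq.2 H
    rw [← h1, pinv]
  · intro H
    rw [H, pap, pap]

theorem card_E_pos : 0 < (E n).card := by
  apply Finset.card_pos.2
  exact ⟨1, mem_E.2 (one_mem _)⟩

/-- existence of an even permutation with two prescribed values. -/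
theorem exists_even_two (hn : 4 ≤ n) {s s' u u' : Fin n} (hs : s ≠ s') (hu : u ≠ u') :
    ∃ σ : Perm (Fin n), σ ∈ alternatingGroup (Fin n) ∧ σ s = u ∧ σ s' = u' := by
  have hcard : Nat.card (Fin n) = n := by simp
  have h1 := alternatingGroup.isMultiplyPretransitive (Fin n)
  have h2 : MulAction.IsMultiplyPretransitive (alternatingGroup (Fin n)) (Fin n) 2 := by
    apply MulAction.isMultiplyPretransitive_of_le (n := Nat.card (Fin n) - 2)
    · rw [hcard]; omega
    · rw [hcard]; omega
  let x : Fin 2 ↪ Fin n := ⟨![s, s'], by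
    intro i j hij
    fin_cases i <;> fin_cases j <;> simp_all⟩
  let y : Fin 2 ↪ Fin n := ⟨![u, u'], by
    intro i j hij
    fin_cases i <;> fin_cases j <;> simp_all⟩
  obtain ⟨g, hg⟩ := MulAction.exists_smul_eq (alternatingGroup (Fin n)) x y
  refine ⟨g.1, g.2, ?_, ?_⟩
  · have : g.1 (x 0) = y 0 := by rw [← hg]; rfl
    exact this
  · have : g.1 (x 1) = y 1 := by rw [← hg]; rfl
    exact this

theorem card_filter_mul {σ : Perm (Fin n)} (hσ : σ ∈ alternatingGroup (Fin n))
    (P Q : Perm (Fin n) → Prop) [DecidablePred P] [DecidablePred Q]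
    (h : ∀ g, P g ↔ Q (σ * g)) :
    ((E n).filter P).card = ((E n).filter Q).card := by
  apply Finset.card_bij' (fun g _ => σ * g) (fun g _ => σ⁻¹ * g)
  · intro g hg
    rw [Finset.mem_filter] at hg ⊢
    exact ⟨mem_E.2 (mul_mem hσ (mem_E.1 hg.1)), (h g).1 hg.2⟩
  · intro g hg
    rw [Finset.mem_filter] at hg ⊢
    refine ⟨mem_E.2 (mul_mem (inv_mem hσ) (mem_E.1 hg.1)), (h _).2 ?_⟩
    rw [mul_inv_cancel_left]; exact hg.2
  · intro g _; simp
  · intro g _; simp

theorem card_one (hn : 4 ≤ n) (t s s' : Fin n) :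
    ((E n).filter fun g => g t = s).card = ((E n).filter fun g => g t = s').card := by
  by_cases hs : s = s'
  · rw [hs]
  · obtain ⟨σ, hσ, h1, _⟩ := exists_even_two hn hs (Ne.symm hs)
    apply card_filter_mul hσ
    intro g
    rw [Perm.mul_apply]
    constructor
    · intro h; rw [h, h1]
    · intro h; exact σ.injective (h.trans h1.symm)

theorem card_two (hn : 4 ≤ n) (t t' : Fin n) {s₁ s₁' s₂ s₂' : Fin n} (h₁ : s₁ ≠ s₁')
    (h₂ : s₂ ≠ s₂') :
    ((E n).filter fun g => g t = s₁ ∧ g t' = s₁').card =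
      ((E n).filter fun g => g t = s₂ ∧ g t' = s₂').card := by
  obtain ⟨σ, hσ, h1, h1'⟩ := exists_even_two hn h₁ h₂
  apply card_filter_mul hσ
  intro g
  rw [Perm.mul_apply, Perm.mul_apply]
  constructor
  · rintro ⟨h, h'⟩; rw [h, h', h1, h1']; exact ⟨rfl, rfl⟩
  · rintro ⟨h, h'⟩
    exact ⟨σ.injective (h.trans h1.symm), σ.injective (h'.trans h1'.symm)⟩

/-- `n * #{g even : g t = s} = #E`. -/
theorem mul_card_one (hn : 4 ≤ n) (t s : Fin n) :
    n * ((E n).filter fun g => g t = s).card = (E n).card := by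
  have h1 : (E n).card = ∑ s' : Fin n, ((E n).filter fun g => g t = s').card :=
    Finset.card_eq_sum_card_fiberwise (f := fun g : Perm (Fin n) => g t)
      (fun g _ => Finset.mem_univ _)
  rw [h1, Finset.sum_congr rfl (fun s' _ => card_one hn t s' s)]
  simp

/-- `(n-1) * #{g even : g t = s, g t' = s'} = #{g even : g t = s}`. -/
theorem mul_card_two (hn : 4 ≤ n) {t t' s s' : Fin n} (ht : t ≠ t') (hs : s ≠ s') :
    (n - 1) * ((E n).filter fun g => g t = s ∧ g t' = s').card =
      ((E n).filter fun g => g t = s).card := by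
  have h1 : ((E n).filter fun g => g t = s).card =
      ∑ s'' : Fin n, (((E n).filter fun g => g t = s).filter fun g => g t' = s'').card :=
    Finset.card_eq_sum_card_fiberwise (f := fun g : Perm (Fin n) => g t')
      (fun g _ => Finset.mem_univ _)
  have h2 : ∀ s'' : Fin n, (((E n).filter fun g => g t = s).filter fun g => g t' = s'').card =
      if s'' = s then 0 else ((E n).filter fun g => g t = s ∧ g t' = s').card := by
    intro s''
    rw [Finset.filter_filter]
    split_ifs with h
    · rw [Finset.card_eq_zero, Finset.filter_eq_empty_iff]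
      rintro g _ ⟨hg1, hg2⟩
      exact ht (g.injective (hg1.trans (h ▸ hg2.symm)))
    · exact card_two hn t t' (Ne.symm h) hs
  rw [h1, Finset.sum_congr rfl (fun s'' _ => h2 s'')]
  rw [Finset.sum_ite, Finset.sum_const_zero, zero_add, Finset.sum_const, smul_eq_mul]
  congr 1
  rw [Finset.filter_not, Finset.card_sdiff_of_subset (Finset.filter_subset _ _)]
  simp [Finset.filter_eq']

end Cfsg.Agent.Helper4.FixProd
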