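import Cfsg.Agent.Helper4.FixProdA

/-!
Helper lemmas (helper4): the averaging formula
`n (n-1) Σ_{h even} fix(a h b h⁻¹) = ((n-1) fix(a) fix(b) + (n - fix a)(n - fix b)) |A_n|`.
-/

set_option autoImplicit false
set_option linter.unusedSectionVars false
set_option linter.style.haveILetI false

namespace Cfsg.Agent.Helper4.FixProd

open Equiv

variable {n : ℕ}

theorem inv_mem_E {g : Perm (Fin n)} (hg : g ∈ E n) : g⁻¹ ∈ E n :=
  mem_E.2 (inv_mem (mem_E.1 hg))

/-- `C a b t` : number of even `g` with `b (g t) = g (a⁻¹ t)`. -/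
def C (a b : Perm (Fin n)) (t : Fin n) : ℕ :=
  ((E n).filter fun g : Perm (Fin n) => b (g t) = g (a⁻¹ t)).card

theorem sum_F (a b : Perm (Fin n)) : ∑ h ∈ E n, F a b h = ∑ t : Fin n, C a b t := by
  have h1 : ∀ h : Perm (Fin n), F a b h =
      ∑ t : Fin n, if b (h⁻¹ t) = h⁻¹ (a⁻¹ t) then 1 else 0 := by
    intro h
    unfold F
    rw [Finset.card_filter]
    apply Finset.sum_congr rfl
    intro t _
    simp only [fixed_iff]
  rw [Finset.sum_congr rfl (fun h _ => h1 h), Finset.sum_comm]
  apply Finset.sum_congr rfl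
  intro t _
  rw [← Finset.card_filter]
  unfold C
  refine Finset.card_bij' (fun g _ => g⁻¹) (fun g _ => g⁻¹) ?_ ?_ ?_ ?_
  · intro g hg
    rw [Finset.mem_filter] at hg ⊢
    exact ⟨inv_mem_E hg.1, hg.2⟩
  · intro g hg
    rw [Finset.mem_filter] at hg ⊢
    refine ⟨inv_mem_E hg.1, ?_⟩
    rw [inv_inv]; exact hg.2
  · intro g _; exact inv_inv g
  · intro g _; exact inv_inv g

theorem C_fixed (hn : 4 ≤ n) (a b : Perm (Fin n)) (t : Fin n) (ht : a⁻¹ t = t) :
    n * C a b t = fx b * (E n).card := by
  unfold C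
  rw [ht]
  have h1 : ((E n).filter fun g : Perm (Fin n) => b (g t) = g t).card =
      ∑ s : Fin n, (((E n).filter fun g : Perm (Fin n) => b (g t) = g t).filter
        fun g => g t = s).card :=
    Finset.card_eq_sum_card_fiberwise (f := fun g : Perm (Fin n) => g t)
      (fun g _ => Finset.mem_univ _)
  have h2 : ∀ s : Fin n, n * (((E n).filter fun g : Perm (Fin n) => b (g t) = g t).filter
        fun g => g t = s).card = if b s = s then (E n).card else 0 := by
    intro s
    rw [Finset.filter_filter]
    split_ifs with h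
    · rw [← mul_card_one hn t s]
      congr 2
      apply Finset.filter_congr
      intro g _
      constructor
      · exact fun hg => hg.2
      · intro hg; exact ⟨by rw [hg, h], hg⟩
    · rw [Finset.card_eq_zero.2, mul_zero]
      rw [Finset.filter_eq_empty_iff]
      rintro g _ ⟨hg1, hg2⟩
      exact h (by rw [← hg2, hg1])
  rw [h1, Finset.mul_sum, Finset.sum_congr rfl (fun s _ => h2 s)]
  rw [← Finset.sum_filter, Finset.sum_const, smul_eq_mul]
  rfl

theorem C_moved (hn : 4 ≤ n) (a b : Perm (Fin n)) (t : Fin n) (ht : a⁻¹ t ≠ t) :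
    n * (n - 1) * C a b t = (n - fx b) * (E n).card := by
  unfold C
  set t' := a⁻¹ t with ht'
  have h1 : ((E n).filter fun g : Perm (Fin n) => b (g t) = g t').card =
      ∑ s : Fin n, (((E n).filter fun g : Perm (Fin n) => b (g t) = g t').filter
        fun g => g t = s).card :=
    Finset.card_eq_sum_card_fiberwise (f := fun g : Perm (Fin n) => g t)
      (fun g _ => Finset.mem_univ _)
  have h2 : ∀ s : Fin n, n * (n - 1) *
      (((E n).filter fun g : Perm (Fin n) => b (g t) = g t').filter
        fun g => g t = s).card = if b s = s then 0 else (E n).card := by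
    intro s
    rw [Finset.filter_filter]
    split_ifs with h
    · rw [Finset.card_eq_zero.2, mul_zero]
      rw [Finset.filter_eq_empty_iff]
      rintro g _ ⟨hg1, hg2⟩
      apply ht
      apply g.injective
      rw [← hg1, hg2, h]
    · rw [← mul_card_one hn t s, ← mul_card_two hn (Ne.symm ht) (Ne.symm h), mul_assoc]
      congr 3
      apply Finset.filter_congr
      intro g _
      constructor
      · rintro ⟨hg1, hg2⟩; exact ⟨hg2, by rw [← hg1, hg2]⟩
      · rintro ⟨hg1, hg2⟩; exact ⟨by rw [hg1, hg2], hg1⟩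
  rw [h1, Finset.mul_sum, Finset.sum_congr rfl (fun s _ => h2 s)]
  rw [Finset.sum_ite, Finset.sum_const_zero, zero_add, Finset.sum_const, smul_eq_mul]
  congr 1
  rw [Finset.filter_not, Finset.card_sdiff_of_subset (Finset.filter_subset _ _)]
  simp [fx]

theorem fx_inv (a : Perm (Fin n)) : fx a⁻¹ = fx a := by
  unfold fx
  congr 1
  apply Finset.filter_congr
  intro t _
  rw [Perm.inv_eq_iff_eq]
  exact eq_comm

theorem fx_le (a : Perm (Fin n)) : fx a ≤ n := by
  unfold fx
  calc _ ≤ (Finset.univ : Finset (Fin n)).card := Finset.card_filter_le _ _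
    _ = n := by simp

/-- The averaging formula. -/
theorem avg (hn : 4 ≤ n) (a b : Perm (Fin n)) :
    n * (n - 1) * ∑ h ∈ E n, F a b h =
      ((n - 1) * fx a * fx b + (n - fx a) * (n - fx b)) * (E n).card := by
  rw [sum_F, Finset.mul_sum]
  have h1 : ∀ t : Fin n, n * (n - 1) * C a b t =
      if a⁻¹ t = t then (n - 1) * fx b * (E n).card else (n - fx b) * (E n).card := by
    intro t
    split_ifs with h
    · rw [mul_comm n (n - 1), mul_assoc, C_fixed hn a b t h, mul_assoc]
    · exact C_moved hn a b t h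
  rw [Finset.sum_congr rfl (fun t _ => h1 t), Finset.sum_ite, Finset.sum_const,
    Finset.sum_const, smul_eq_mul, smul_eq_mul]
  have h2 : (Finset.univ.filter fun t : Fin n => a⁻¹ t = t).card = fx a := fx_inv a
  have h3 : (Finset.univ.filter fun t : Fin n => ¬ a⁻¹ t = t).card = n - fx a := by
    rw [Finset.filter_not, Finset.card_sdiff_of_subset (Finset.filter_subset _ _), h2]
    simp
  rw [h2, h3]
  ring

end Cfsg.Agent.Helper4.FixProd
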