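import Cfsg.Agent.Helper4.FixProdB

/-!
Helper lemmas (helper4): constructions of even conjugators `h` for which `a * (h b h⁻¹)` has
many fixed points.
-/

set_option autoImplicit false
set_option linter.unusedSectionVars false
set_option linter.style.haveILetI false

namespace Cfsg.Agent.Helper4.FixProd

open Equiv

variable {n : ℕ}

/-- Agreement: if `h u = x` and `h (b u) = a⁻¹ x` then `x` is fixed by `a * (h b h⁻¹)`. -/
theorem agree (a b h : Perm (Fin n)) {u x : Fin n} (h1 : h u = x) (h2 : h (b u) = a⁻¹ x) :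
    (a * (h * b * h⁻¹)) x = x := by
  subst h1
  rw [Perm.mul_apply, Perm.mul_apply, Perm.mul_apply, pinv, h2, pap]

theorem le_F (a b h : Perm (Fin n)) (S : Finset (Fin n))
    (hS : ∀ t ∈ S, (a * (h * b * h⁻¹)) t = t) : S.card ≤ F a b h := by
  unfold F
  apply Finset.card_le_card
  intro t ht
  rw [Finset.mem_filter]
  exact ⟨Finset.mem_univ _, hS t ht⟩

theorem two_le_F (a b h : Perm (Fin n)) {x y : Fin n} (hxy : x ≠ y)
    (hx : (a * (h * b * h⁻¹)) x = x) (hy : (a * (h * b * h⁻¹)) y = y) : 2 ≤ F a b h := by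
  have := le_F a b h {x, y} (by
    intro t ht
    rw [Finset.mem_insert, Finset.mem_singleton] at ht
    rcases ht with rfl | rfl
    · exact hx
    · exact hy)
  rwa [Finset.card_pair hxy] at this

/-- conjugation invariance of the number of fixed points -/
theorem card_fix_conj (w σ : Perm (Fin n)) :
    (Finset.univ.filter fun t : Fin n => (w * σ * w⁻¹) t = t).card =
      (Finset.univ.filter fun t : Fin n => σ t = t).card := by
  symm
  refine Finset.card_bij' (fun t _ => w t) (fun t _ => w⁻¹ t) ?_ ?_ ?_ ?_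
  · intro t ht
    rw [Finset.mem_filter] at ht ⊢
    refine ⟨Finset.mem_univ _, ?_⟩
    rw [Perm.mul_apply, Perm.mul_apply, pinv, ht.2]
  · intro t ht
    rw [Finset.mem_filter] at ht ⊢
    refine ⟨Finset.mem_univ _, ?_⟩
    have := ht.2
    rw [Perm.mul_apply, Perm.mul_apply] at this
    apply w.injective
    rw [this, pap]
  · intro t _; exact pinv w t
  · intro t _; exact pap w t

/-- left parity trick: `w` commuting with `a`. -/
theorem F_left (a b h w : Perm (Fin n)) (hw : w * a = a * w) : F a b (w * h) = F a b h := by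
  unfold F
  have : a * (w * h * b * (w * h)⁻¹) = w * (a * (h * b * h⁻¹)) * w⁻¹ := by
    rw [mul_inv_rev]
    calc a * (w * h * b * (h⁻¹ * w⁻¹)) = (a * w) * (h * b * h⁻¹) * w⁻¹ := by group
      _ = (w * a) * (h * b * h⁻¹) * w⁻¹ := by rw [hw]
      _ = w * (a * (h * b * h⁻¹)) * w⁻¹ := by group
  rw [this]
  exact card_fix_conj w _

/-- right parity trick: `z` commuting with `b`. -/
theorem F_right (a b h z : Perm (Fin n)) (hz : z * b = b * z) : F a b (h * z) = F a b h := by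
  unfold F
  have : h * z * b * (h * z)⁻¹ = h * b * h⁻¹ := by
    rw [mul_inv_rev]
    calc h * z * b * (z⁻¹ * h⁻¹) = h * (z * b) * z⁻¹ * h⁻¹ := by group
      _ = h * (b * z) * z⁻¹ * h⁻¹ := by rw [hz]
      _ = h * b * h⁻¹ := by group
  rw [this]

/-- symmetry in the two permutations -/
theorem F_symm (a b h : Perm (Fin n)) : F a b h = F b a h⁻¹ := by
  unfold F
  have h1 : b * (h⁻¹ * a * h⁻¹⁻¹) = (h⁻¹ * a⁻¹) * (a * (h * b * h⁻¹)) * (h⁻¹ * a⁻¹)⁻¹ := by
    group
  rw [h1]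
  exact (card_fix_conj _ _).symm

theorem exists_even_adjust_left (a b h w : Perm (Fin n)) (hw : w * a = a * w)
    (hodd : Perm.sign w = -1) : ∃ h' ∈ E n, F a b h' = F a b h := by
  rcases Int.units_eq_one_or (Perm.sign h) with hs | hs
  · exact ⟨h, mem_E'.2 hs, rfl⟩
  · refine ⟨w * h, mem_E'.2 ?_, F_left a b h w hw⟩
    rw [Perm.sign_mul, hs, hodd]; rfl

theorem exists_even_adjust_right (a b h z : Perm (Fin n)) (hz : z * b = b * z)
    (hodd : Perm.sign z = -1) : ∃ h' ∈ E n, F a b h' = F a b h := by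
  rcases Int.units_eq_one_or (Perm.sign h) with hs | hs
  · exact ⟨h, mem_E'.2 hs, rfl⟩
  · refine ⟨h * z, mem_E'.2 ?_, F_right a b h z hz⟩
    rw [Perm.sign_mul, hs, hodd]; rfl

/-- a swap of the two points of a 2-cycle commutes -/
theorem swap_comm_of_two_cycle (a : Perm (Fin n)) {x : Fin n} (h2 : a (a x) = x) :
    swap x (a x) * a = a * swap x (a x) := by
  rw [Equiv.mul_swap_eq_swap_mul, h2, Equiv.swap_comm]

/-- a swap of two fixed points commutes -/
theorem swap_comm_of_fixed (a : Perm (Fin n)) {x y : Fin n} (hx : a x = x) (hy : a y = y) :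
    swap x y * a = a * swap x y := by
  rw [Equiv.mul_swap_eq_swap_mul, hx, hy]

/-- existence of an even permutation with three prescribed values. -/
theorem exists_even_three (hn : 5 ≤ n) {s₁ s₂ s₃ u₁ u₂ u₃ : Fin n} (h12 : s₁ ≠ s₂)
    (h13 : s₁ ≠ s₃) (h23 : s₂ ≠ s₃) (k12 : u₁ ≠ u₂) (k13 : u₁ ≠ u₃) (k23 : u₂ ≠ u₃) :
    ∃ σ : Perm (Fin n), σ ∈ E n ∧ σ s₁ = u₁ ∧ σ s₂ = u₂ ∧ σ s₃ = u₃ := by
  have hcard : Nat.card (Fin n) = n := by simp
  have h1 := alternatingGroup.isMultiplyPretransitive (Fin n)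
  have h2 : MulAction.IsMultiplyPretransitive (alternatingGroup (Fin n)) (Fin n) 3 := by
    apply MulAction.isMultiplyPretransitive_of_le (n := Nat.card (Fin n) - 2)
    · rw [hcard]; omega
    · rw [hcard]; omega
  let x : Fin 3 ↪ Fin n := ⟨![s₁, s₂, s₃], by
    intro i j hij
    fin_cases i <;> fin_cases j <;> simp_all⟩
  let y : Fin 3 ↪ Fin n := ⟨![u₁, u₂, u₃], by
    intro i j hij
    fin_cases i <;> fin_cases j <;> simp_all⟩
  obtain ⟨g, hg⟩ := MulAction.exists_smul_eq (alternatingGroup (Fin n)) x y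
  refine ⟨g.1, mem_E.2 g.2, ?_, ?_, ?_⟩
  · have : g.1 (x 0) = y 0 := by rw [← hg]; rfl
    exact this
  · have : g.1 (x 1) = y 1 := by rw [← hg]; rfl
    exact this
  · have : g.1 (x 2) = y 2 := by rw [← hg]; rfl
    exact this

/-- existence of a permutation with four prescribed values. -/
theorem exists_perm_four {s₁ s₂ s₃ s₄ u₁ u₂ u₃ u₄ : Fin n} (h12 : s₁ ≠ s₂)
    (h13 : s₁ ≠ s₃) (h14 : s₁ ≠ s₄) (h23 : s₂ ≠ s₃) (h24 : s₂ ≠ s₄) (h34 : s₃ ≠ s₄)
    (k12 : u₁ ≠ u₂) (k13 : u₁ ≠ u₃) (k14 : u₁ ≠ u₄) (k23 : u₂ ≠ u₃) (k24 : u₂ ≠ u₄)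
    (k34 : u₃ ≠ u₄) :
    ∃ σ : Perm (Fin n), σ s₁ = u₁ ∧ σ s₂ = u₂ ∧ σ s₃ = u₃ ∧ σ s₄ = u₄ := by
  have hx : Function.Injective ![s₁, s₂, s₃, s₄] := by
    intro i j hij
    fin_cases i <;> fin_cases j <;> simp_all
  have hy : Function.Injective ![u₁, u₂, u₃, u₄] := by
    intro i j hij
    fin_cases i <;> fin_cases j <;> simp_all
  obtain ⟨σ, hσ⟩ := Equiv.Perm.exists_extending_pair _ _ hx hy
  exact ⟨σ, hσ 0, hσ 1, hσ 2, hσ 3⟩

end Cfsg.Agent.Helper4.FixProd
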