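import Cfsg.Agent.Helper4.FixProdC

/-!
Helper lemmas (helper4): the two main constructions for S2271.
-/

set_option autoImplicit false
set_option linter.unusedSectionVars false
set_option linter.style.haveILetI false

namespace Cfsg.Agent.Helper4.FixProd

open Equiv

variable {n : ℕ}

theorem exists_moved {a : Perm (Fin n)} (ha : a ≠ 1) : ∃ x, a x ≠ x := by
  by_contra h
  push Not at h
  exact ha (Perm.ext h)

theorem inv_moved {a : Perm (Fin n)} {x : Fin n} (h : a x ≠ x) : a⁻¹ x ≠ x := by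
  intro h'
  apply h
  rw [Perm.inv_eq_iff_eq] at h'
  exact h'.symm

theorem inv_fixed {a : Perm (Fin n)} {x : Fin n} (h : a x = x) : a⁻¹ x = x := by
  rw [Perm.inv_eq_iff_eq]; exact h.symm

/-- nested fixed point sets -/
theorem exists_nested (a b : Perm (Fin n)) (h2 : 2 ≤ fx b) (hle : fx b ≤ fx a) :
    ∃ h ∈ E n, fx b ≤ F a b h := by
  have hcb : Fintype.card {t : Fin n // b t = t} = fx b := Fintype.card_subtype _
  have hca : Fintype.card {t : Fin n // a t = t} = fx a := Fintype.card_subtype _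
  obtain ⟨e⟩ : Nonempty ({t : Fin n // b t = t} ↪ {t : Fin n // a t = t}) :=
    Function.Embedding.nonempty_of_card_le (by rw [hcb, hca]; exact hle)
  obtain ⟨σ, hσ⟩ := Equiv.Perm.exists_extending_pair
    (fun t : {t : Fin n // b t = t} => (t : Fin n))
    (fun t : {t : Fin n // b t = t} => ((e t : {t : Fin n // a t = t}) : Fin n))
    Subtype.val_injective (Subtype.val_injective.comp e.injective)
  have hF : fx b ≤ F a b σ := by
    have := le_F a b σ ((Finset.univ.filter fun t : Fin n => b t = t).image σ) (by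
      intro t' ht'
      rw [Finset.mem_image] at ht'
      obtain ⟨t, ht, rfl⟩ := ht'
      rw [Finset.mem_filter] at ht
      have h1 : a (σ t) = σ t := by
        have := hσ ⟨t, ht.2⟩
        simp only at this
        rw [this]
        exact (e ⟨t, ht.2⟩).2
      apply agree a b σ (u := t) rfl
      rw [ht.2, inv_fixed h1])
    rwa [Finset.card_image_of_injective _ σ.injective] at this
  -- parity
  have h2' : 1 < (Finset.univ.filter fun t : Fin n => b t = t).card := h2
  obtain ⟨p, hp, q, hq, hpq⟩ := Finset.one_lt_card.1 h2'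
  rw [Finset.mem_filter] at hp hq
  obtain ⟨h', hh', hFh'⟩ := exists_even_adjust_right a b σ (swap p q)
    (swap_comm_of_fixed b hp.2 hq.2) (Perm.sign_swap hpq)
  exact ⟨h', hh', by rw [hFh']; exact hF⟩

/-- two disjoint arrows -/
theorem exists_arrows (σ : Perm (Fin n)) (h4 : fx σ + 4 ≤ n) :
    ∃ x₁ x₂ : Fin n, x₁ ≠ σ x₁ ∧ x₂ ≠ σ x₂ ∧ x₁ ≠ x₂ ∧ x₁ ≠ σ x₂ ∧ σ x₁ ≠ x₂ ∧
      σ x₁ ≠ σ x₂ := by
  have hM : (Finset.univ.filter fun t : Fin n => ¬ σ t = t).card = n - fx σ := by
    rw [Finset.filter_not, Finset.card_sdiff_of_subset (Finset.filter_subset _ _)]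
    simp [fx]
  have hpos : 0 < (Finset.univ.filter fun t : Fin n => ¬ σ t = t).card := by omega
  obtain ⟨x₁, hx₁⟩ := Finset.card_pos.1 hpos
  rw [Finset.mem_filter] at hx₁
  have h3 : (({x₁, σ x₁, σ⁻¹ x₁} : Finset (Fin n))).card ≤ 3 := Finset.card_le_three
  have hlt : ({x₁, σ x₁, σ⁻¹ x₁} : Finset (Fin n)).card <
      (Finset.univ.filter fun t : Fin n => ¬ σ t = t).card := by omega
  obtain ⟨x₂, hx₂, hx₂'⟩ := Finset.exists_mem_notMem_of_card_lt_card hlt
  rw [Finset.mem_filter] at hx₂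
  rw [Finset.mem_insert, Finset.mem_insert, Finset.mem_singleton] at hx₂'
  push Not at hx₂'
  refine ⟨x₁, x₂, fun h => hx₁.2 h.symm, fun h => hx₂.2 h.symm, fun h => hx₂'.1 h.symm,
    ?_, fun h => hx₂'.2.1 h.symm, ?_⟩
  · intro h
    apply hx₂'.2.2
    rw [h, pinv]
  · intro h
    exact hx₂'.1 (σ.injective h).symm

/-- if `a` has exactly one fixed point, some even conjugate gives at least two fixed points -/
theorem exists_two (hn : 5 ≤ n) (a b : Perm (Fin n)) (ha : a ≠ 1) (hb : b ≠ 1)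
    (h1 : fx a = 1) : ∃ h ∈ E n, 2 ≤ F a b h := by
  obtain ⟨x, hx⟩ := exists_moved ha
  obtain ⟨u, hu⟩ := exists_moved hb
  have hx' : a⁻¹ x ≠ x := inv_moved hx
  by_cases hfb : fx b = 0
  · -- `b` is a derangement
    have hder : ∀ t, b t ≠ t := by
      intro t ht
      have : t ∈ Finset.univ.filter fun t : Fin n => b t = t := by
        rw [Finset.mem_filter]; exact ⟨Finset.mem_univ _, ht⟩
      unfold fx at hfb
      rw [Finset.card_eq_zero] at hfb
      rw [hfb] at this
      exact absurd this (Finset.notMem_empty _)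
    by_cases hII : (∃ x, a⁻¹ (a⁻¹ x) ≠ x) ∧ (∃ u, b (b u) ≠ u)
    · obtain ⟨⟨x, hx2⟩, ⟨u, hu2⟩⟩ := hII
      have hx1 : a⁻¹ x ≠ x := by
        intro h; apply hx2; rw [h, h]
      have hu1 : b u ≠ u := hder u
      obtain ⟨h, hE, e1, e2, e3⟩ := exists_even_three hn (s₁ := u) (s₂ := b u) (s₃ := b (b u))
        (u₁ := x) (u₂ := a⁻¹ x) (u₃ := a⁻¹ (a⁻¹ x)) (Ne.symm hu1) (Ne.symm hu2)
        (fun hh => hu1 (b.injective hh).symm) (Ne.symm hx1) (Ne.symm hx2)
        (fun hh => hx1 ((a⁻¹).injective hh).symm)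
      exact ⟨h, hE, two_le_F a b h (Ne.symm hx1) (agree a b h e1 e2) (agree a b h e2 e3)⟩
    · -- one of them is an involution
      have hainv : fx a⁻¹ + 4 ≤ n := by rw [fx_inv, h1]; omega
      have hbinv : fx b + 4 ≤ n := by rw [hfb]; omega
      obtain ⟨x₁, x₂, p1, p2, p3, p4, p5, p6⟩ := exists_arrows a⁻¹ hainv
      obtain ⟨u₁, u₂, q1, q2, q3, q4, q5, q6⟩ := exists_arrows b hbinv
      obtain ⟨σ, e1, e2, e3, e4⟩ := exists_perm_four (s₁ := u₁) (s₂ := b u₁) (s₃ := u₂)
        (s₄ := b u₂) (u₁ := x₁) (u₂ := a⁻¹ x₁) (u₃ := x₂) (u₄ := a⁻¹ x₂) q1 q3 q4 q5 q6 q2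
        p1 p3 p4 p5 p6 p2
      have hF : 2 ≤ F a b σ := two_le_F a b σ p3 (agree a b σ e1 e2) (agree a b σ e3 e4)
      rw [not_and_or] at hII
      push Not at hII
      rcases hII with hI | hI
      · -- `a` is an involution
        have hI' : a (a x) = x := by
          have := hI (a (a x))
          rw [pinv, pinv] at this
          exact this.symm
        have hsw : Perm.sign (swap x (a x)) = -1 := Perm.sign_swap (Ne.symm hx)
        obtain ⟨h', hh', hFh'⟩ := exists_even_adjust_left a b σ (swap x (a x))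
          (swap_comm_of_two_cycle a hI') hsw
        exact ⟨h', hh', by rw [hFh']; exact hF⟩
      · have hsw : Perm.sign (swap u (b u)) = -1 := Perm.sign_swap (Ne.symm hu)
        obtain ⟨h', hh', hFh'⟩ := exists_even_adjust_right a b σ (swap u (b u))
          (swap_comm_of_two_cycle b (hI u)) hsw
        exact ⟨h', hh', by rw [hFh']; exact hF⟩
  · -- `b` has a fixed point
    have hposb : 0 < (Finset.univ.filter fun t : Fin n => b t = t).card :=
      Nat.pos_of_ne_zero hfb
    obtain ⟨u₀, hu₀⟩ := Finset.card_pos.1 hposb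
    rw [Finset.mem_filter] at hu₀
    have hposa : 0 < (Finset.univ.filter fun t : Fin n => a t = t).card := by
      have : fx a = (Finset.univ.filter fun t : Fin n => a t = t).card := rfl
      omega
    obtain ⟨p₀, hp₀⟩ := Finset.card_pos.1 hposa
    rw [Finset.mem_filter] at hp₀
    have hp₀' : a⁻¹ p₀ = p₀ := inv_fixed hp₀.2
    obtain ⟨h, hE, e1, e2, e3⟩ := exists_even_three hn (s₁ := u) (s₂ := b u) (s₃ := u₀)
      (u₁ := x) (u₂ := a⁻¹ x) (u₃ := p₀) (Ne.symm hu)
      (fun hh => hu (by rw [hh]; exact hu₀.2))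
      (fun hh => hu (b.injective (by rw [hh, hu₀.2])))
      (Ne.symm hx')
      (fun hh => hx' (by rw [hh]; exact hp₀'))
      (fun hh => hx' ((a⁻¹).injective (by rw [hh, hp₀'])))
    refine ⟨h, hE, two_le_F a b h (x := x) (y := p₀)
      (fun hh => hx' (by rw [hh]; exact hp₀')) (agree a b h e1 e2) (agree a b h e3 ?_)⟩
    rw [hu₀.2, e3, hp₀']

end Cfsg.Agent.Helper4.FixProd
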