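import Cfsg.Agent.Helper4.FixProdD

/-!
Helper lemmas (helper4): the number of fixed points of `a * (h b h⁻¹)` is not constant over
even `h` (for `n ≥ 5`, `a, b ≠ 1`).
-/

set_option autoImplicit false
set_option linter.unusedSectionVars false
set_option linter.style.haveILetI false

namespace Cfsg.Agent.Helper4.FixProd

open Equiv

variable {n : ℕ}

theorem fx_add_two_le {a : Perm (Fin n)} (ha : a ≠ 1) : fx a + 2 ≤ n := by
  obtain ⟨x, hx⟩ := exists_moved ha
  have hM : (Finset.univ.filter fun t : Fin n => ¬ a t = t).card = n - fx a := by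
    rw [Finset.filter_not, Finset.card_sdiff_of_subset (Finset.filter_subset _ _)]
    simp [fx]
  have h2 : ({x, a x} : Finset (Fin n)).card ≤
      (Finset.univ.filter fun t : Fin n => ¬ a t = t).card := by
    apply Finset.card_le_card
    intro t ht
    rw [Finset.mem_insert, Finset.mem_singleton] at ht
    rw [Finset.mem_filter]
    refine ⟨Finset.mem_univ _, ?_⟩
    rcases ht with rfl | rfl
    · exact hx
    · intro h; exact hx (a.injective h)
  rw [Finset.card_pair (Ne.symm hx), hM] at h2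
  have := fx_le a
  omega

/-- consequences of constancy -/
theorem key (hn : 4 ≤ n) (a b : Perm (Fin n)) (k : ℕ) (hk : ∀ h ∈ E n, F a b h = k) :
    n * (n - 1) * k = (n - 1) * fx a * fx b + (n - fx a) * (n - fx b) := by
  have h1 := avg hn a b
  rw [Finset.sum_congr rfl hk, Finset.sum_const, smul_eq_mul] at h1
  have h2 : (n * (n - 1) * k) * (E n).card =
      ((n - 1) * fx a * fx b + (n - fx a) * (n - fx b)) * (E n).card := by
    rw [← h1]; ring
  exact Nat.eq_of_mul_eq_mul_right card_E_pos h2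

theorem arith1 (n N1 fb ma mb k : ℕ) (hN1 : n = N1 + 1) (hma : n = 1 + ma) (hmb : n = fb + mb)
    (hkey : n * N1 * k = N1 * 1 * fb + ma * mb) (hn : 5 ≤ n) : k = 1 := by
  have hm : ma = N1 := by omega
  subst hm
  have h3 : n * ma * k = n * ma * 1 := by
    rw [hkey]
    subst hmb; ring
  have hpos : 0 < n * ma := by
    apply Nat.mul_pos <;> omega
  exact Nat.eq_of_mul_eq_mul_left hpos h3

theorem arith2 (n N1 fa fb ma mb k : ℕ) (hN1 : n = N1 + 1) (hma : n = fa + ma)
    (hmb : n = fb + mb) (hkey : n * N1 * k = N1 * fa * fb + ma * mb) (h2 : 2 ≤ fb)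
    (h3 : fb ≤ k) (hma2 : 2 ≤ ma) : False := by
  have h4 : n * N1 * fb ≤ n * N1 * k := Nat.mul_le_mul_left _ h3
  rw [hkey] at h4
  have h5 : n * N1 * fb = N1 * fa * fb + ma * (N1 * fb) := by
    subst hma; ring
  rw [h5] at h4
  have h6 : ma * (N1 * fb) ≤ ma * mb := by omega
  have hmapos : 0 < ma := by omega
  have h7 : N1 * fb ≤ mb := Nat.le_of_mul_le_mul_left h6 hmapos
  have h8 : N1 * 2 ≤ N1 * fb := Nat.mul_le_mul_left _ h2
  omega

theorem core (hn : 5 ≤ n) (a b : Perm (Fin n)) (ha : a ≠ 1) (hb : b ≠ 1) (k : ℕ)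
    (hk : ∀ h ∈ E n, F a b h = k) : fx a ≠ 1 ∧ ¬ (2 ≤ fx b ∧ fx b ≤ fx a) := by
  have hkey := key (by omega) a b k hk
  have hfa := fx_add_two_le ha
  have hfb := fx_add_two_le hb
  obtain ⟨N1, hN1⟩ : ∃ N1, n = N1 + 1 := ⟨n - 1, by omega⟩
  obtain ⟨ma, hma⟩ : ∃ ma, n = fx a + ma := ⟨n - fx a, by omega⟩
  obtain ⟨mb, hmb⟩ : ∃ mb, n = fx b + mb := ⟨n - fx b, by omega⟩
  have e1 : n - 1 = N1 := by omega
  have e2 : n - fx a = ma := by omega
  have e3 : n - fx b = mb := by omega
  rw [e1, e2, e3] at hkey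
  constructor
  · intro h1
    obtain ⟨h, hE, h2⟩ := exists_two hn a b ha hb h1
    rw [hk h hE] at h2
    rw [h1] at hkey hma
    have := arith1 n N1 (fx b) ma mb k hN1 hma hmb hkey hn
    omega
  · rintro ⟨h2, hle⟩
    obtain ⟨h, hE, h3⟩ := exists_nested a b h2 hle
    rw [hk h hE] at h3
    exact arith2 n N1 (fx a) (fx b) ma mb k hN1 hma hmb hkey h2 h3 (by omega)

/-- Main theorem: non-constancy over even conjugators. -/
theorem main (hn : 5 ≤ n) (a b : Perm (Fin n)) (ha : a ≠ 1) (hb : b ≠ 1) :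
    ∃ h₁ ∈ E n, ∃ h₂ ∈ E n, F a b h₁ ≠ F a b h₂ := by
  by_contra hcon
  push Not at hcon
  have h1E : (1 : Perm (Fin n)) ∈ E n := mem_E.2 (one_mem _)
  have hk : ∀ h ∈ E n, F a b h = F a b 1 := fun h hh => hcon h hh 1 h1E
  have hk' : ∀ h ∈ E n, F b a h = F a b 1 := by
    intro h hh
    rw [F_symm b a h]
    exact hk _ (inv_mem_E hh)
  set k := F a b 1 with hkdef
  obtain ⟨c1, c2⟩ := core hn a b ha hb k hk
  obtain ⟨d1, d2⟩ := core hn b a hb ha k hk'
  have hkey := key (by omega) a b k hk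
  have hfa := fx_add_two_le ha
  have hfb := fx_add_two_le hb
  -- one of them is zero
  have hz : fx a = 0 ∨ fx b = 0 := by
    by_contra hne
    push Not at hne
    have ha2 : 2 ≤ fx a := by omega
    have hb2 : 2 ≤ fx b := by omega
    rcases le_total (fx b) (fx a) with hle | hle
    · exact c2 ⟨hb2, hle⟩
    · exact d2 ⟨ha2, hle⟩
  obtain ⟨N1, hN1⟩ : ∃ N1, n = N1 + 1 := ⟨n - 1, by omega⟩
  have e1 : n - 1 = N1 := by omega
  rw [e1] at hkey
  have hnpos : 0 < n := by omega
  -- generic arithmetic: `N1 * k = m` with `2 ≤ m ≤ N1 + 1`, `m ≠ N1` is impossible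
  have arith : ∀ m : ℕ, N1 * k = m → 2 ≤ m → m ≤ N1 + 1 → m ≠ N1 → False := by
    intro m hm h2 hle hne
    rcases k with _ | _ | k
    · omega
    · omega
    · have : N1 * 2 ≤ N1 * (k + 1 + 1) := Nat.mul_le_mul_left _ (by omega)
      omega
  rcases hz with h0 | h0
  · rw [h0] at hkey
    have h3 : n * (N1 * k) = n * (n - fx b) := by
      rw [← mul_assoc, hkey]; simp
    have h4 := Nat.eq_of_mul_eq_mul_left hnpos h3
    exact arith (n - fx b) h4 (by omega) (by omega) (by omega)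
  · rw [h0] at hkey
    have h3 : n * (N1 * k) = n * (n - fx a) := by
      rw [← mul_assoc, hkey]; simp [mul_comm]
    have h4 := Nat.eq_of_mul_eq_mul_left hnpos h3
    exact arith (n - fx a) h4 (by omega) (by omega) (by omega)

theorem card_fixedPoints_eq (σ : Perm (Fin n)) :
    Nat.card (Function.fixedPoints ⇑σ) = (Finset.univ.filter fun t : Fin n => σ t = t).card := by
  rw [Nat.card_eq_fintype_card, ← Fintype.card_subtype]
  exact Fintype.card_congr (Equiv.subtypeEquivRight (fun x => Iff.rfl))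

end Cfsg.Agent.Helper4.FixProd
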