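import Mathlib
import Cfsg.Agent.Helper2.SL2Central

/-!
# Centralizers of elements of order four in `SL₂(q)` (helper4)

If `a * a = -1` in `SL₂(F)` then the centralizer of `a` is commutative.  Transported to a
subgroup `L ≅ SL₂(F)` of an arbitrary group.
-/

set_option autoImplicit false

namespace Cfsg.Agent.Helper4.FongWong

open Cfsg.Agent.Helper2.SL2Invol Cfsg.Agent.Helper2.SL2Central

variable {F : Type*} [Field F]

/-- Two elements of `SL₂` commuting with `J` commute with each other. -/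
theorem commute_of_commute_J (x y : Matrix.SpecialLinearGroup (Fin 2) F)
    (hx : x * J = J * x) (hy : y * J = J * y) : x * y = y * x := by
  obtain ⟨a1, a2, a3, a4⟩ := mul_entries x (J : Matrix.SpecialLinearGroup (Fin 2) F)
  obtain ⟨b1, b2, b3, b4⟩ := mul_entries (J : Matrix.SpecialLinearGroup (Fin 2) F) x
  obtain ⟨c1, c2, c3, c4⟩ := mul_entries y (J : Matrix.SpecialLinearGroup (Fin 2) F)
  obtain ⟨d1, d2, d3, d4⟩ := mul_entries (J : Matrix.SpecialLinearGroup (Fin 2) F) y
  have hx' := (ext_iff' _ _).mp hx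
  have hy' := (ext_iff' _ _).mp hy
  rw [a1, a2, a3, a4, b1, b2, b3, b4] at hx'
  rw [c1, c2, c3, c4, d1, d2, d3, d4] at hy'
  simp only [J, Matrix.of_apply, Matrix.cons_val', Matrix.cons_val_zero, Matrix.cons_val_one,
    Matrix.cons_val_fin_one] at hx' hy'
  obtain ⟨p1, p2, p3, p4⟩ := hx'
  obtain ⟨q1, q2, q3, q4⟩ := hy'
  obtain ⟨e1, e2, e3, e4⟩ := mul_entries x y
  obtain ⟨f1, f2, f3, f4⟩ := mul_entries y x
  rw [ext_iff', e1, e2, e3, e4, f1, f2, f3, f4]
  have hx01 : x.1 0 1 = -x.1 1 0 := by linear_combination p1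
  have hx11 : x.1 1 1 = x.1 0 0 := by linear_combination p3
  have hy01 : y.1 0 1 = -y.1 1 0 := by linear_combination q1
  have hy11 : y.1 1 1 = y.1 0 0 := by linear_combination q3
  rw [hx01, hx11, hy01, hy11]
  refine ⟨by ring, by ring, by ring, by ring⟩

/-- The centralizer in `SL₂(F)` of an element with square `-1` is commutative. -/
theorem commute_of_commute_root [Fintype F] (hF : Fintype.card F % 2 = 1) (h2 : (2 : F) ≠ 0)
    (a x y : Matrix.SpecialLinearGroup (Fin 2) F) (ha : a * a = negOne)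
    (hx : x * a = a * x) (hy : y * a = a * y) : x * y = y * x := by
  obtain ⟨g, hg⟩ := exists_conj_J hF h2 a ha
  have hx' : (g⁻¹ * x * g) * J = J * (g⁻¹ * x * g) := by
    have : g⁻¹ * (x * a) * g = g⁻¹ * (a * x) * g := by rw [hx]
    rw [← hg] at this
    calc (g⁻¹ * x * g) * J = g⁻¹ * (x * (g * J * g⁻¹)) * g := by group
      _ = g⁻¹ * ((g * J * g⁻¹) * x) * g := this
      _ = J * (g⁻¹ * x * g) := by group
  have hy' : (g⁻¹ * y * g) * J = J * (g⁻¹ * y * g) := by
    have : g⁻¹ * (y * a) * g = g⁻¹ * (a * y) * g := by rw [hy]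
    rw [← hg] at this
    calc (g⁻¹ * y * g) * J = g⁻¹ * (y * (g * J * g⁻¹)) * g := by group
      _ = g⁻¹ * ((g * J * g⁻¹) * y) * g := this
      _ = J * (g⁻¹ * y * g) := by group
  have h := commute_of_commute_J _ _ hx' hy'
  calc x * y = g * ((g⁻¹ * x * g) * (g⁻¹ * y * g)) * g⁻¹ := by group
    _ = g * ((g⁻¹ * y * g) * (g⁻¹ * x * g)) * g⁻¹ := by rw [h]
    _ = y * x := by group

section side

variable {G : Type*} [Group G] [Fintype F] (hF : Odd (Fintype.card F)) {L : Subgroup G}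
  (e : ↥L ≃* Matrix.SpecialLinearGroup (Fin 2) F) {j : G} (hjL : j ∈ L) (hj1 : j ≠ 1)
  (hjj : j * j = 1)

include hF hj1 hjj hjL e in
/-- In `L ≅ SL₂(q)` the centralizer of a square root of the central involution is commutative. -/
theorem commute_of_root {a x y : G} (ha : a ∈ L) (hx : x ∈ L) (hy : y ∈ L) (haa : a * a = j)
    (hxa : x * a = a * x) (hya : y * a = a * y) : x * y = y * x := by
  have h2 := two_ne_zero_of_odd hF
  have hF' := Nat.odd_iff.mp hF
  have hej := e_j hF e hjL hj1 hjj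
  have h1 : e ⟨a, ha⟩ * e ⟨a, ha⟩ = negOne := by
    rw [← map_mul, ← hej]
    congr 1
    exact Subtype.ext haa
  have h3 : e ⟨x, hx⟩ * e ⟨a, ha⟩ = e ⟨a, ha⟩ * e ⟨x, hx⟩ := by
    rw [← map_mul, ← map_mul]
    congr 1
    exact Subtype.ext hxa
  have h4 : e ⟨y, hy⟩ * e ⟨a, ha⟩ = e ⟨a, ha⟩ * e ⟨y, hy⟩ := by
    rw [← map_mul, ← map_mul]
    congr 1
    exact Subtype.ext hya
  have h5 := commute_of_commute_root hF' h2 _ _ _ h1 h3 h4
  rw [← map_mul, ← map_mul] at h5
  have h6 := e.injective h5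
  exact congrArg Subtype.val h6

end side

end Cfsg.Agent.Helper4.FongWong
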