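import Mathlib

/-!
# The wreathed `SL₂ ∘ SL₂` configuration with `n² = j` (helper4): basic algebra

Abstract configuration: `C_G(j) = L₁L₂⟨n⟩`, `[L₁, L₂] = 1`, `L₁ ∩ L₂ = ⟨j⟩`, `n² = j`, `n`
interchanges `L₁` and `L₂`.
-/

set_option autoImplicit false

namespace Cfsg.Agent.Helper4.FongWong

variable {G : Type*} [Group G]

/-- Conjugation by `n`. -/
def nu (n g : G) : G := n * g * n⁻¹

theorem nu_mul (n g h : G) : nu n (g * h) = nu n g * nu n h := by
  unfold nu; group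

theorem nu_inv (n g : G) : nu n g⁻¹ = (nu n g)⁻¹ := by
  unfold nu; group

theorem nu_one (n : G) : nu n 1 = 1 := by
  unfold nu; group

theorem nu_injective (n : G) {g h : G} (e : nu n g = nu n h) : g = h := by
  unfold nu at e
  have := congrArg (fun t => n⁻¹ * t * n) e
  simpa [mul_assoc] using this

/-- The abstract configuration. -/
structure Cfg (L₁ L₂ : Subgroup G) (j n : G) : Prop where
  hjj : j * j = 1
  hj1 : j ≠ 1
  hc : ∀ x ∈ L₁, ∀ y ∈ L₂, x * y = y * x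
  hint : ∀ z, z ∈ L₁ → z ∈ L₂ → z = 1 ∨ z = j
  hjL₁ : j ∈ L₁
  hjL₂ : j ∈ L₂
  hcen₁ : ∀ x ∈ L₁, x * j = j * x
  hcen₂ : ∀ y ∈ L₂, y * j = j * y
  hnn : n * n = j
  hν₁ : ∀ x ∈ L₁, nu n x ∈ L₂
  hν₂ : ∀ y ∈ L₂, nu n y ∈ L₁
  hC : ∀ u, u * j = j * u →
    (∃ x ∈ L₁, ∃ y ∈ L₂, u = x * y) ∨ (∃ x ∈ L₁, ∃ y ∈ L₂, u = n * x * y)
  hnM : ∀ x ∈ L₁, ∀ y ∈ L₂, n ≠ x * y
  P1 : ∀ x ∈ L₁, x * x = 1 → x = 1 ∨ x = j
  P3 : ∀ a ∈ L₁, a * a = j → ∀ x ∈ L₁, ∀ y ∈ L₁, x * a = a * x → y * a = a * y → x * y = y * x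

namespace Cfg

variable {L₁ L₂ : Subgroup G} {j n : G} (cfg : Cfg L₁ L₂ j n)
include cfg

theorem jinv : j⁻¹ = j := inv_eq_of_mul_eq_one_left cfg.hjj

theorem hnj : n * j = j * n := by
  rw [← cfg.hnn]; group

theorem ninv : n⁻¹ = j * n := by
  apply inv_eq_of_mul_eq_one_right
  calc n * (j * n) = (n * j) * n := by group
    _ = j * n * n := by rw [cfg.hnj]
    _ = j * (n * n) := by group
    _ = 1 := by rw [cfg.hnn, cfg.hjj]

theorem nu_j : nu n j = j := by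
  unfold nu
  rw [cfg.hnj]; group

/-- `ν` preserves the centralizer of `j`. -/
theorem nu_comm {g : G} (hg : g * j = j * g) : nu n g * j = j * nu n g := by
  unfold nu
  have h1 : n⁻¹ * j = j * n⁻¹ := by
    have := cfg.hnj
    calc n⁻¹ * j = n⁻¹ * (j * n) * n⁻¹ := by group
      _ = n⁻¹ * (n * j) * n⁻¹ := by rw [this]
      _ = j * n⁻¹ := by group
  calc n * g * n⁻¹ * j = n * g * (n⁻¹ * j) := by group
    _ = n * g * (j * n⁻¹) := by rw [h1]
    _ = n * (g * j) * n⁻¹ := by group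
    _ = n * (j * g) * n⁻¹ := by rw [hg]
    _ = (n * j) * g * n⁻¹ := by group
    _ = (j * n) * g * n⁻¹ := by rw [cfg.hnj]
    _ = j * (n * g * n⁻¹) := by group

/-- `ν` is an involution on the centralizer of `j`. -/
theorem nu_nu {g : G} (hg : g * j = j * g) : nu n (nu n g) = g := by
  unfold nu
  calc n * (n * g * n⁻¹) * n⁻¹ = (n * n) * g * (n * n)⁻¹ := by group
    _ = j * g * j⁻¹ := by rw [cfg.hnn]
    _ = (j * g) * j⁻¹ := by group
    _ = (g * j) * j⁻¹ := by rw [hg]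
    _ = g := by group

theorem nu_nu₁ {x : G} (hx : x ∈ L₁) : nu n (nu n x) = x := cfg.nu_nu (cfg.hcen₁ x hx)

theorem nu_nu₂ {y : G} (hy : y ∈ L₂) : nu n (nu n y) = y := cfg.nu_nu (cfg.hcen₂ y hy)

/-- the two elements of `L₁ ∩ L₂` -/
theorem z_cases {z : G} (hz : z = 1 ∨ z = j) :
    z ∈ L₁ ∧ z ∈ L₂ ∧ z * z = 1 ∧ nu n z = z ∧ z⁻¹ = z ∧ ∀ g : G, g * j = j * g → g * z = z * g := by
  rcases hz with rfl | rfl
  · refine ⟨one_mem _, one_mem _, by simp, nu_one n, by simp, fun g _ => by simp⟩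
  · exact ⟨cfg.hjL₁, cfg.hjL₂, cfg.hjj, cfg.nu_j, cfg.jinv, fun g hg => hg⟩

/-- square of an element of the coset `nC` -/
theorem sq_nh {h : G} (hh : h * j = j * h) : (n * h) * (n * h) = j * (nu n h * h) := by
  have h1 := cfg.nu_comm hh
  calc (n * h) * (n * h) = (n * h * n⁻¹) * (n * n) * h := by group
    _ = nu n h * j * h := by rw [cfg.hnn]; rfl
    _ = j * nu n h * h := by rw [h1]
    _ = j * (nu n h * h) := by group

/-- the decomposition `ν(xy)·xy = (ν y · x)(ν x · y)` -/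
theorem nu_mul_self {x y : G} (hx : x ∈ L₁) (hy : y ∈ L₂) :
    nu n (x * y) * (x * y) = (nu n y * x) * (nu n x * y) := by
  have h1 : (nu n y * x) * nu n x = nu n x * (nu n y * x) :=
    cfg.hc _ (mul_mem (cfg.hν₂ y hy) hx) _ (cfg.hν₁ x hx)
  rw [nu_mul]
  calc nu n x * nu n y * (x * y) = nu n x * (nu n y * x) * y := by group
    _ = (nu n y * x) * nu n x * y := by rw [h1]
    _ = (nu n y * x) * (nu n x * y) := by group

theorem mem_cent₁₂ {x y : G} (hx : x ∈ L₁) (hy : y ∈ L₂) : (x * y) * j = j * (x * y) := by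
  calc (x * y) * j = x * (y * j) := by group
    _ = x * (j * y) := by rw [cfg.hcen₂ y hy]
    _ = (x * j) * y := by group
    _ = (j * x) * y := by rw [cfg.hcen₁ x hx]
    _ = j * (x * y) := by group

/-- `q = y⁻¹ ν(p) y` for `p = ν y · x`, `q = ν x · y`. -/
theorem q_eq {x y : G} (hx : x ∈ L₁) (hy : y ∈ L₂) :
    nu n x * y = y⁻¹ * nu n (nu n y * x) * y := by
  rw [nu_mul, cfg.nu_nu₂ hy]; group

/-- No element of the coset `n L₁L₂` is an involution. -/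
theorem sq_ne_one {x y : G} (hx : x ∈ L₁) (hy : y ∈ L₂) : (n * x * y) * (n * x * y) ≠ 1 := by
  intro h
  have h0 : n * x * y = n * (x * y) := by group
  rw [h0, cfg.sq_nh (cfg.mem_cent₁₂ hx hy), cfg.nu_mul_self hx hy] at h
  set p := nu n y * x with hp
  set q := nu n x * y with hq
  have hpL : p ∈ L₁ := mul_mem (cfg.hν₂ y hy) hx
  have hqL : q ∈ L₂ := mul_mem (cfg.hν₁ x hx) hy
  -- p * q = j
  have hpq : p * q = j := by
    have : j * (p * q) = j * j := by rw [h, cfg.hjj]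
    exact mul_left_cancel this
  have hp2 : p ∈ L₂ := by
    have : p = j * q⁻¹ := by rw [← hpq]; group
    rw [this]; exact mul_mem cfg.hjL₂ (inv_mem hqL)
  have hz := cfg.hint p hpL hp2
  obtain ⟨-, -, hzz, hνz, -, hzc⟩ := cfg.z_cases hz
  have hqe : q = p := by
    rw [hq, cfg.q_eq hx hy, ← hp, hνz]
    have := hzc y⁻¹ (by
      have := cfg.hcen₂ y⁻¹ (inv_mem hy)
      exact this)
    calc y⁻¹ * p * y = (y⁻¹ * p) * y := by group
      _ = (p * y⁻¹) * y := by rw [this]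
      _ = p := by group
  rw [hqe, hzz] at hpq
  exact cfg.hj1 hpq.symm

end Cfg

end Cfsg.Agent.Helper4.FongWong
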