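import Mathlib
import Cfsg.Agent.Helper4.FongWongB

/-!
# The wreathed `SL₂ ∘ SL₂` configuration (helper4): counting pairs

Every element of `C_G(j) = L₁L₂ ∪ nL₁L₂` is `x y` or `n x y` for exactly two pairs
`(x, y) ∈ L₁ × L₂`.
-/

set_option autoImplicit false

namespace Cfsg.Agent.Helper4.FongWong

open Classical

variable {G : Type*} [Group G]

section fin
variable [Fintype G]

/-- The pairs `(x, y) ∈ L₁ × L₂`. -/
noncomputable def Lp (L₁ L₂ : Subgroup G) : Finset (G × G) :=
  (Finset.univ.filter (· ∈ L₁)) ×ˢ (Finset.univ.filter (· ∈ L₂))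

theorem mem_Lp {L₁ L₂ : Subgroup G} {p : G × G} : p ∈ Lp L₁ L₂ ↔ p.1 ∈ L₁ ∧ p.2 ∈ L₂ := by
  simp [Lp]

end fin

/-- membership in the product set `L₁L₂` -/
def InM (L₁ L₂ : Subgroup G) (u : G) : Prop := ∃ x ∈ L₁, ∃ y ∈ L₂, u = x * y

namespace Cfg

variable {L₁ L₂ : Subgroup G} {j n : G} (cfg : Cfg L₁ L₂ j n)
include cfg

/-- rearrangement in the central product -/
theorem mul4 {x x' y y' : G} (hx' : x' ∈ L₁) (hy : y ∈ L₂) :
    (x * y) * (x' * y') = (x * x') * (y * y') := by
  have h := cfg.hc x' hx' y hy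
  calc (x * y) * (x' * y') = x * (y * x') * y' := by group
    _ = x * (x' * y) * y' := by rw [h]
    _ = (x * x') * (y * y') := by group

theorem inv2 {x y : G} (hx : x ∈ L₁) (hy : y ∈ L₂) : (x * y)⁻¹ = x⁻¹ * y⁻¹ := by
  rw [mul_inv_rev]
  exact (cfg.hc _ (inv_mem hx) _ (inv_mem hy)).symm

theorem conj2 {x x' y y' : G} (hx : x ∈ L₁) (hx' : x' ∈ L₁) (hy : y ∈ L₂) (hy' : y' ∈ L₂) :
    (x * y) * (x' * y') * (x * y)⁻¹ = (x * x' * x⁻¹) * (y * y' * y⁻¹) := by
  rw [cfg.inv2 hx hy, cfg.mul4 hx' hy, cfg.mul4 (inv_mem hx) (mul_mem hy hy')]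

variable [Fintype G]

/-- the fibre of multiplication `L₁ × L₂ → L₁L₂` -/
theorem fiber_eq {x y : G} (hx : x ∈ L₁) (hy : y ∈ L₂) :
    (Lp L₁ L₂).filter (fun p => p.1 * p.2 = x * y) = {(x, y), (j * x, j * y)} := by
  ext ⟨x', y'⟩
  simp only [Finset.mem_filter, mem_Lp, Finset.mem_insert, Finset.mem_singleton, Prod.mk.injEq]
  constructor
  · rintro ⟨⟨hx', hy'⟩, h⟩
    have hz1 : x⁻¹ * x' ∈ L₁ := mul_mem (inv_mem hx) hx'
    have hz2 : x⁻¹ * x' ∈ L₂ := by
      have : x⁻¹ * x' = y * y'⁻¹ := by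
        calc x⁻¹ * x' = x⁻¹ * (x' * y') * y'⁻¹ := by group
          _ = x⁻¹ * (x * y) * y'⁻¹ := by rw [h]
          _ = y * y'⁻¹ := by group
      rw [this]; exact mul_mem hy (inv_mem hy')
    rcases cfg.hint _ hz1 hz2 with hz | hz
    · left
      have h1 : x' = x := by
        calc x' = x * (x⁻¹ * x') := by group
          _ = x := by rw [hz, mul_one]
      refine ⟨h1, ?_⟩
      rw [h1] at h; exact mul_left_cancel h
    · right
      have h1 : x' = x * j := by
        calc x' = x * (x⁻¹ * x') := by group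
          _ = x * j := by rw [hz]
      have h1' : x' = j * x := by rw [h1, cfg.hcen₁ x hx]
      refine ⟨h1', ?_⟩
      rw [h1] at h
      have h2 : j * y' = y := by
        apply mul_left_cancel (a := x); rw [← h]; group
      rw [← h2, ← mul_assoc, cfg.hjj, one_mul]
  · rintro (⟨rfl, rfl⟩ | ⟨rfl, rfl⟩)
    · exact ⟨⟨hx, hy⟩, rfl⟩
    · refine ⟨⟨mul_mem cfg.hjL₁ hx, mul_mem cfg.hjL₂ hy⟩, ?_⟩
      calc j * x * (j * y) = j * (x * j) * y := by group
        _ = j * (j * x) * y := by rw [cfg.hcen₁ x hx]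
        _ = (j * j) * x * y := by group
        _ = x * y := by rw [cfg.hjj, one_mul]

theorem card_fiber {x y : G} (hx : x ∈ L₁) (hy : y ∈ L₂) :
    ((Lp L₁ L₂).filter (fun p => p.1 * p.2 = x * y)).card = 2 := by
  rw [cfg.fiber_eq hx hy, Finset.card_pair]
  intro h
  have h1 : x = j * x := (Prod.mk.inj h).1
  apply cfg.hj1
  have h2 : 1 * x = j * x := by rw [one_mul]; exact h1
  exact (mul_right_cancel h2).symm

theorem card_fiber' {x y : G} (hx : x ∈ L₁) (hy : y ∈ L₂) :
    ((Lp L₁ L₂).filter (fun p => n * p.1 * p.2 = n * x * y)).card = 2 := by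
  rw [← cfg.card_fiber hx hy]
  congr 1
  apply Finset.filter_congr
  intro p _
  rw [mul_assoc, mul_assoc, mul_right_inj]

/-- an element `n x y` is not in `L₁L₂` -/
theorem not_inM {x y : G} (hx : x ∈ L₁) (hy : y ∈ L₂) : ¬ InM L₁ L₂ (n * x * y) := by
  rintro ⟨x', hx', y', hy', h⟩
  apply cfg.hnM (x' * x⁻¹) (mul_mem hx' (inv_mem hx)) (y' * y⁻¹) (mul_mem hy' (inv_mem hy))
  have h1 : n = (x' * y') * (x⁻¹ * y⁻¹) := by
    rw [← cfg.inv2 hx hy, ← h]; group
  rw [h1, cfg.mul4 (inv_mem hx) hy']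

/-- **Pair counting**: every element of `C_G(j)` has exactly two representations. -/
theorem card_pairs (R : Finset G) (hR : ∀ u ∈ R, u * j = j * u) :
    ((Lp L₁ L₂).filter (fun p => p.1 * p.2 ∈ R)).card +
      ((Lp L₁ L₂).filter (fun p => n * p.1 * p.2 ∈ R)).card = 2 * R.card := by
  have h0 : ((Lp L₁ L₂).filter (fun p => p.1 * p.2 ∈ R)).card =
      2 * (R.filter (InM L₁ L₂)).card := by
    rw [Finset.card_eq_sum_card_fiberwise (f := fun p : G × G => p.1 * p.2)
      (t := R.filter (InM L₁ L₂))]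
    · rw [Finset.sum_congr rfl (g := fun _ => 2)]
      · simp [mul_comm]
      · intro u hu
        rw [Finset.mem_filter] at hu
        obtain ⟨huR, x, hx, y, hy, rfl⟩ := hu
        rw [Finset.filter_filter, ← cfg.card_fiber hx hy]
        congr 1
        apply Finset.filter_congr
        intro p _
        constructor
        · exact fun h => h.2
        · intro h
          exact ⟨by rw [h]; exact huR, h⟩
    · intro p hp
      rw [Finset.mem_coe, Finset.mem_filter, mem_Lp] at hp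
      rw [Finset.mem_coe, Finset.mem_filter]
      exact ⟨hp.2, p.1, hp.1.1, p.2, hp.1.2, rfl⟩
  have h1 : ((Lp L₁ L₂).filter (fun p => n * p.1 * p.2 ∈ R)).card =
      2 * (R.filter (fun u => ¬ InM L₁ L₂ u)).card := by
    rw [Finset.card_eq_sum_card_fiberwise (f := fun p : G × G => n * p.1 * p.2)
      (t := R.filter (fun u => ¬ InM L₁ L₂ u))]
    · rw [Finset.sum_congr rfl (g := fun _ => 2)]
      · simp [mul_comm]
      · intro u hu
        rw [Finset.mem_filter] at hu
        obtain ⟨huR, hnot⟩ := hu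
        rcases cfg.hC u (hR u huR) with ⟨x, hx, y, hy, rfl⟩ | ⟨x, hx, y, hy, rfl⟩
        · exact absurd ⟨x, hx, y, hy, rfl⟩ hnot
        · rw [Finset.filter_filter, ← cfg.card_fiber' hx hy]
          congr 1
          apply Finset.filter_congr
          intro p _
          constructor
          · exact fun h => h.2
          · intro h
            exact ⟨by rw [h]; exact huR, h⟩
    · intro p hp
      rw [Finset.mem_coe, Finset.mem_filter, mem_Lp] at hp
      rw [Finset.mem_coe, Finset.mem_filter]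
      exact ⟨hp.2, cfg.not_inM hp.1.1 hp.1.2⟩
  rw [h0, h1, ← Nat.mul_add, Finset.card_filter_add_card_filter_not]

end Cfg

end Cfsg.Agent.Helper4.FongWong
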