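import Mathlib
import Cfsg.Agent.Helper4.FongWongC

/-!
# The wreathed `SL₂ ∘ SL₂` configuration (helper4): the involution `s = a·ν(a)`

Basic facts on `a` (a square root of `j` in `L₁`), `b = ν(a)`, `s = a b`, and the square roots of
`j` centralizing `s`.
-/

set_option autoImplicit false

namespace Cfsg.Agent.Helper4.FongWong

open Classical

variable {G : Type*} [Group G]

/-- The configuration together with a chosen square root `a` of `j`, `b = ν a`, `s = a b`. -/
structure Dat (L₁ L₂ : Subgroup G) (j n a b s : G) : Prop extends Cfg L₁ L₂ j n where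
  ha : a ∈ L₁
  haa : a * a = j
  hb : b = nu n a
  hs : s = a * b

namespace Dat

variable {L₁ L₂ : Subgroup G} {j n a b s : G} (d : Dat L₁ L₂ j n a b s)
include d

theorem bL : b ∈ L₂ := by rw [d.hb]; exact d.hν₁ a d.ha

theorem bb : b * b = j := by rw [d.hb, ← nu_mul, d.haa, d.toCfg.nu_j]

theorem ab : a * b = b * a := d.hc a d.ha b d.bL

theorem nub : nu n b = a := by rw [d.hb]; exact d.toCfg.nu_nu₁ d.ha

theorem nua : nu n a = b := d.hb.symm

theorem aj : a * j = j * a := d.hcen₁ a d.ha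

theorem bj : b * j = j * b := d.hcen₂ b d.bL

theorem ainv : a⁻¹ = j * a := by
  apply inv_eq_of_mul_eq_one_right
  calc a * (j * a) = (a * j) * a := by group
    _ = (j * a) * a := by rw [d.aj]
    _ = j * (a * a) := by group
    _ = 1 := by rw [d.haa, d.hjj]

theorem ss : s * s = 1 := by
  rw [d.hs, d.toCfg.mul4 d.ha d.bL, d.haa, d.bb, d.hjj]

theorem nus : nu n s = s := by
  rw [d.hs, nu_mul, d.nua, d.nub, d.ab]

theorem sj : s * j = j * s := by
  rw [d.hs]; exact d.toCfg.mem_cent₁₂ d.ha d.bL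

theorem as : a * s = s * a := by
  rw [d.hs]
  calc a * (a * b) = a * (b * a) := by rw [d.ab]
    _ = a * b * a := by group

theorem a_not_mem : a ∉ L₂ := by
  intro h
  rcases d.hint a d.ha h with h1 | h1
  · have := d.haa
    rw [h1, one_mul] at this
    exact d.hj1 this.symm
  · have := d.haa
    rw [h1, d.hjj] at this
    exact d.hj1 this.symm

theorem s_ne_one : s ≠ 1 := by
  intro h
  apply d.a_not_mem
  have : a = b⁻¹ := by
    apply eq_inv_of_mul_eq_one_left
    rw [← d.hs]; exact h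
  rw [this]; exact inv_mem d.bL

theorem s_ne_j : s ≠ j := by
  intro h
  apply d.a_not_mem
  have : a = j * b⁻¹ := by
    rw [← h, d.hs]; group
  rw [this]; exact mul_mem d.hjL₂ (inv_mem d.bL)

theorem sInM : InM L₁ L₂ s := ⟨a, d.ha, b, d.bL, d.hs⟩

/-- conjugating `b` by `y⁻¹` when `y b y⁻¹ = b z` -/
theorem conj_inv {y z : G} (hy : y ∈ L₂) (hz : z = 1 ∨ z = j) (h : y * b * y⁻¹ = b * z) :
    y⁻¹ * b * y = b * z := by
  obtain ⟨-, -, hzz, -, -, hzc⟩ := d.toCfg.z_cases hz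
  have h1 : y⁻¹ * z = z * y⁻¹ := hzc _ (d.hcen₂ _ (inv_mem hy))
  have h2 : b = y⁻¹ * (b * z) * y := by rw [← h]; group
  calc y⁻¹ * b * y = y⁻¹ * b * y * (z * z) := by rw [hzz, mul_one]
    _ = y⁻¹ * b * (y * z) * z := by group
    _ = y⁻¹ * b * (z * y) * z := by rw [hzc y (d.hcen₂ y hy)]
    _ = (y⁻¹ * (b * z) * y) * z := by group
    _ = b * z := by rw [← h2]

/-- The square roots of `j` in the coset `nL₁L₂` that centralize `s`. -/
theorem root_mem {y z p : G} (hy : y ∈ L₂) (hz : z = 1 ∨ z = j) (h : y * b * y⁻¹ = b * z)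
    (hp : p = 1 ∨ p = j) :
    (n * (p * nu n y⁻¹) * y) * (n * (p * nu n y⁻¹) * y) = j ∧
      (n * (p * nu n y⁻¹) * y) * s = s * (n * (p * nu n y⁻¹) * y) := by
  obtain ⟨hpL₁, -, hpp, hνp, hpinv, hpc⟩ := d.toCfg.z_cases hp
  obtain ⟨hzL₁, hzL₂, hzz, hνz, -, hzc⟩ := d.toCfg.z_cases hz
  have hyi : y⁻¹ ∈ L₂ := inv_mem hy
  have hw : nu n y⁻¹ ∈ L₁ := d.hν₂ _ hyi
  have hνy : nu n y ∈ L₁ := d.hν₂ _ hy
  set x := p * nu n y⁻¹ with hx
  have hxL : x ∈ L₁ := mul_mem hpL₁ hw
  have h0 : n * x * y = n * (x * y) := by group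
  have hxy : (x * y) * j = j * (x * y) := d.toCfg.mem_cent₁₂ hxL hy
  -- the two components
  have hc1 : nu n y * x = p := by
    rw [hx, nu_inv]
    have := hpc (nu n y) (d.hcen₁ _ hνy)
    calc nu n y * (p * (nu n y)⁻¹) = (nu n y * p) * (nu n y)⁻¹ := by group
      _ = (p * nu n y) * (nu n y)⁻¹ := by rw [this]
      _ = p := by group
  have hc2 : nu n x * y = p := by
    rw [hx, nu_mul, hνp, d.toCfg.nu_nu₂ hyi]; group
  constructor
  · rw [h0, d.toCfg.sq_nh hxy, d.toCfg.nu_mul_self hxL hy, hc1, hc2, hpp, mul_one]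
  · -- conjugation
    have hconj : (x * y) * s * (x * y)⁻¹ = s := by
      rw [d.hs, d.toCfg.conj2 hxL d.ha hy d.bL, h]
      have h3 : x * a * x⁻¹ = a * z := by
        have h4 : x * a * x⁻¹ = nu n y⁻¹ * a * (nu n y⁻¹)⁻¹ := by
          rw [hx]
          have h5 : nu n y⁻¹ * a * (nu n y⁻¹)⁻¹ ∈ L₁ := mul_mem (mul_mem hw d.ha) (inv_mem hw)
          have h6 := hpc _ (d.hcen₁ _ h5)
          calc p * nu n y⁻¹ * a * (p * nu n y⁻¹)⁻¹
              = p * (nu n y⁻¹ * a * (nu n y⁻¹)⁻¹) * p⁻¹ := by group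
            _ = (nu n y⁻¹ * a * (nu n y⁻¹)⁻¹) * p * p⁻¹ := by rw [h6]
            _ = _ := by group
        rw [h4, ← d.nub, ← nu_inv, ← nu_mul, ← nu_mul, inv_inv, d.conj_inv hy hz h, nu_mul, hνz]
      rw [h3, hzc b d.bj]
      calc a * z * (z * b) = a * (z * z) * b := by group
        _ = a * b := by rw [hzz, mul_one]
    have hn : n * s * n⁻¹ = s := d.nus
    have : (n * x * y) * s * (n * x * y)⁻¹ = s := by
      calc (n * x * y) * s * (n * x * y)⁻¹ = n * ((x * y) * s * (x * y)⁻¹) * n⁻¹ := by group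
        _ = s := by rw [hconj, hn]
    calc (n * x * y) * s = ((n * x * y) * s * (n * x * y)⁻¹) * (n * x * y) := by group
      _ = s * (n * x * y) := by rw [this]

end Dat

end Cfsg.Agent.Helper4.FongWong
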