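import Mathlib
import Cfsg.Agent.Helper4.FongWongD

/-!
# The wreathed `SL₂ ∘ SL₂` configuration (helper4): the square roots of `s = a·ν(a)`
-/

set_option autoImplicit false

namespace Cfsg.Agent.Helper4.FongWong

variable {G : Type*} [Group G]

namespace Dat

variable {L₁ L₂ : Subgroup G} {j n a b s : G} (d : Dat L₁ L₂ j n a b s)
include d

/-- square roots of `s` inside `L₁L₂` -/
theorem roots_M {x y : G} (hx : x ∈ L₁) (hy : y ∈ L₂) (h : (x * y) * (x * y) = s) :
    ∃ z, (z = 1 ∨ z = j) ∧ x * x = a * z ∧ y * y = z * b := by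
  rw [d.toCfg.mul4 hx hy, d.hs] at h
  have hz1 : a⁻¹ * (x * x) ∈ L₁ := mul_mem (inv_mem d.ha) (mul_mem hx hx)
  have he : a⁻¹ * (x * x) = b * (y * y)⁻¹ := by
    calc a⁻¹ * (x * x) = a⁻¹ * ((x * x) * (y * y)) * (y * y)⁻¹ := by group
      _ = a⁻¹ * (a * b) * (y * y)⁻¹ := by rw [h]
      _ = b * (y * y)⁻¹ := by group
  have hz2 : a⁻¹ * (x * x) ∈ L₂ := by
    rw [he]; exact mul_mem d.bL (inv_mem (mul_mem hy hy))
  have hz := d.hint _ hz1 hz2
  obtain ⟨-, -, -, -, hzinv, -⟩ := d.toCfg.z_cases hz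
  refine ⟨a⁻¹ * (x * x), hz, by group, ?_⟩
  have h7 : y * y = (a⁻¹ * (x * x))⁻¹ * b := by rw [he]; simp [mul_assoc]
  rw [hzinv] at h7
  exact h7

/-- an element of `L₁` whose square is `a z` commutes with `a` -/
theorem comm_a {x z : G} (hx : x ∈ L₁) (hz : z = 1 ∨ z = j) (h : x * x = a * z) :
    x * a = a * x := by
  obtain ⟨-, -, hzz, -, -, hzc⟩ := d.toCfg.z_cases hz
  have h1 : x * (a * z) = (a * z) * x := by rw [← h]; group
  have h2 : x * z = z * x := hzc x (d.hcen₁ x hx)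
  have h3 : (x * a) * z = (a * x) * z := by
    calc (x * a) * z = x * (a * z) := by group
      _ = (a * z) * x := h1
      _ = a * (z * x) := by group
      _ = a * (x * z) := by rw [h2]
      _ = (a * x) * z := by group
  exact mul_right_cancel h3

/-- an element of `L₂` whose square is `z b` commutes with `b` -/
theorem comm_b {y z : G} (hy : y ∈ L₂) (hz : z = 1 ∨ z = j) (h : y * y = z * b) :
    y * b * y⁻¹ = b := by
  obtain ⟨-, -, hzz, -, -, hzc⟩ := d.toCfg.z_cases hz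
  have h1 : y * (z * b) = (z * b) * y := by rw [← h]; group
  have h2 : y * z = z * y := hzc y (d.hcen₂ y hy)
  have h3 : z * (y * b) = z * (b * y) := by
    calc z * (y * b) = (z * y) * b := by group
      _ = (y * z) * b := by rw [h2]
      _ = y * (z * b) := by group
      _ = (z * b) * y := h1
      _ = z * (b * y) := by group
  have h4 := mul_left_cancel h3
  rw [h4]; group

/-- two square roots of `s` in `L₁L₂` with the same `L₂`-component -/
theorem roots_M_fiber {x x₀ y : G} (hx : x ∈ L₁) (hx₀ : x₀ ∈ L₁) (hy : y ∈ L₂)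
    (h : (x * y) * (x * y) = s) (h₀ : (x₀ * y) * (x₀ * y) = s) : x = x₀ ∨ x = j * x₀ := by
  obtain ⟨z, hz, hxx, -⟩ := d.roots_M hx hy h
  obtain ⟨z₀, hz₀, hxx₀, -⟩ := d.roots_M hx₀ hy h₀
  have hsq : x * x = x₀ * x₀ := by
    rw [d.toCfg.mul4 hx hy] at h
    rw [d.toCfg.mul4 hx₀ hy, ← h] at h₀
    exact (mul_right_cancel h₀).symm
  have hc1 := d.comm_a hx hz hxx
  have hc2 := d.comm_a hx₀ hz₀ hxx₀
  have hcomm : x * x₀ = x₀ * x := d.P3 a d.ha d.haa x hx x₀ hx₀ hc1 hc2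
  have hcomm' : x₀⁻¹ * x = x * x₀⁻¹ := by
    calc x₀⁻¹ * x = x₀⁻¹ * (x * x₀) * x₀⁻¹ := by group
      _ = x₀⁻¹ * (x₀ * x) * x₀⁻¹ := by rw [hcomm]
      _ = x * x₀⁻¹ := by group
  have hw : (x * x₀⁻¹) * (x * x₀⁻¹) = 1 := by
    calc (x * x₀⁻¹) * (x * x₀⁻¹) = x * (x₀⁻¹ * x) * x₀⁻¹ := by group
      _ = x * (x * x₀⁻¹) * x₀⁻¹ := by rw [hcomm']
      _ = (x * x) * (x₀ * x₀)⁻¹ := by group
      _ = 1 := by rw [hsq]; group
  rcases d.P1 _ (mul_mem hx (inv_mem hx₀)) hw with h1 | h1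
  · left
    calc x = (x * x₀⁻¹) * x₀ := by group
      _ = x₀ := by rw [h1, one_mul]
  · right
    calc x = (x * x₀⁻¹) * x₀ := by group
      _ = j * x₀ := by rw [h1]

/-- square roots of `s` in the coset `nL₁L₂` -/
theorem roots_nM {x y : G} (hx : x ∈ L₁) (hy : y ∈ L₂) (h : (n * x * y) * (n * x * y) = s) :
    (nu n y * x * a = 1 ∨ nu n y * x * a = j) ∧ y * b * y⁻¹ = b * j := by
  have h0 : n * x * y = n * (x * y) := by group
  rw [h0, d.toCfg.sq_nh (d.toCfg.mem_cent₁₂ hx hy), d.toCfg.nu_mul_self hx hy] at h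
  set p := nu n y * x with hp
  set q := nu n x * y with hq
  have hpL : p ∈ L₁ := mul_mem (d.hν₂ y hy) hx
  have hqL : q ∈ L₂ := mul_mem (d.hν₁ x hx) hy
  -- p q = (j a) b
  have hpq : p * q = (j * a) * b := by
    have : j * (j * (p * q)) = j * s := by rw [h]
    rw [← mul_assoc, d.hjj, one_mul] at this
    rw [this, d.hs]; group
  have hjaL : j * a ∈ L₁ := mul_mem d.hjL₁ d.ha
  have hz1 : (j * a)⁻¹ * p ∈ L₁ := mul_mem (inv_mem hjaL) hpL
  have he : (j * a)⁻¹ * p = b * q⁻¹ := by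
    calc (j * a)⁻¹ * p = (j * a)⁻¹ * (p * q) * q⁻¹ := by group
      _ = (j * a)⁻¹ * ((j * a) * b) * q⁻¹ := by rw [hpq]
      _ = b * q⁻¹ := by group
  have hz2 : (j * a)⁻¹ * p ∈ L₂ := by
    rw [he]; exact mul_mem d.bL (inv_mem hqL)
  set z := (j * a)⁻¹ * p with hzdef
  have hz := d.hint z hz1 hz2
  obtain ⟨-, -, hzz, hνz, hzinv, hzc⟩ := d.toCfg.z_cases hz
  have hpe : p = j * a * z := by rw [hzdef]; group
  have hqe : q = z * b := by
    have h7 : q = z⁻¹ * b := by rw [he]; simp [mul_assoc]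
    rw [hzinv] at h7
    exact h7
  -- p * a = z
  have hpa : p * a = z := by
    rw [hpe]
    have h1 : z * a = a * z := (hzc a d.aj).symm
    calc j * a * z * a = j * a * (z * a) := by group
      _ = j * a * (a * z) := by rw [h1]
      _ = j * (a * a) * z := by group
      _ = z := by rw [d.haa, d.hjj, one_mul]
  refine ⟨by rw [hpa]; exact hz, ?_⟩
  -- q = y⁻¹ ν(p) y
  have hq2 : q = y⁻¹ * nu n p * y := d.toCfg.q_eq hx hy
  have hνp : nu n p = j * b * z := by
    rw [hpe, nu_mul, nu_mul, d.toCfg.nu_j, d.nua, hνz]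
  rw [hνp, hqe] at hq2
  -- z b = y⁻¹ (j b z) y
  have hyj : y * j = j * y := d.hcen₂ y hy
  have hyz : y * z = z * y := hzc y hyj
  have h3 : y * (z * b) * y⁻¹ = j * b * z := by
    rw [hq2]; group
  have h4 : y * (z * b) * y⁻¹ = z * (y * b * y⁻¹) := by
    calc y * (z * b) * y⁻¹ = (y * z) * b * y⁻¹ := by group
      _ = (z * y) * b * y⁻¹ := by rw [hyz]
      _ = z * (y * b * y⁻¹) := by group
  rw [h4] at h3
  have hbz : b * z = z * b := hzc b d.bj
  have h5 : z * (y * b * y⁻¹) = z * (b * j) := by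
    rw [h3, ← d.bj]
    calc b * j * z = b * (j * z) := by group
      _ = b * (z * j) := by rw [hzc j rfl]
      _ = (b * z) * j := by group
      _ = (z * b) * j := by rw [hbz]
      _ = z * (b * j) := by group
  exact mul_left_cancel h5

end Dat

end Cfsg.Agent.Helper4.FongWong
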