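import Mathlib
import Cfsg.Agent.Helper4.FongWongE

/-!
# The wreathed `SL₂ ∘ SL₂` configuration (helper4): the counting argument

No element of `G` interchanges `j` and `s = a·ν(a)`: the numbers of square roots of `j`, resp. `s`,
in `C_G(j) ∩ C_G(s)` differ.  Consequently `j` is isolated.
-/

set_option autoImplicit false

namespace Cfsg.Agent.Helper4.FongWong

open Classical

variable {G : Type*} [Group G] [Fintype G]

/-- square roots of `j` centralizing `s` -/
noncomputable def Rj (j s : G) : Finset G :=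
  Finset.univ.filter (fun u => u * u = j ∧ u * s = s * u)

/-- square roots of `s` centralizing `j` -/
noncomputable def Rs (j s : G) : Finset G :=
  Finset.univ.filter (fun u => u * u = s ∧ u * j = j * u)

/-- the centralizer of `b` in `L₂` -/
noncomputable def Cb (L₂ : Subgroup G) (b : G) : Finset G :=
  Finset.univ.filter (fun y => y ∈ L₂ ∧ y * b * y⁻¹ = b)

/-- the elements of `L₂` inverting `b` -/
noncomputable def Db (L₂ : Subgroup G) (j b : G) : Finset G :=
  Finset.univ.filter (fun y => y ∈ L₂ ∧ y * b * y⁻¹ = b * j)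

namespace Dat

variable {L₁ L₂ : Subgroup G} {j n a b s : G} (d : Dat L₁ L₂ j n a b s)
include d

omit d in
theorem Rj_cent : ∀ u ∈ Rj j s, u * j = j * u := by
  intro u hu
  simp only [Rj, Finset.mem_filter, Finset.mem_univ, true_and] at hu
  rw [← hu.1]; group

omit d in
theorem Rs_cent : ∀ u ∈ Rs j s, u * j = j * u := by
  intro u hu
  simp only [Rs, Finset.mem_filter, Finset.mem_univ, true_and] at hu
  exact hu.2

theorem one_le_A : 1 ≤ ((Lp L₁ L₂).filter (fun p => p.1 * p.2 ∈ Rj j s)).card := by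
  apply Finset.card_pos.mpr
  refine ⟨(a, 1), ?_⟩
  simp only [Finset.mem_filter, mem_Lp, Rj, Finset.mem_univ, true_and, mul_one]
  exact ⟨⟨d.ha, one_mem _⟩, d.haa, d.as⟩

theorem card_prod_pair (T : Finset G) : (T ×ˢ ({1, j} : Finset G)).card = 2 * T.card := by
  rw [Finset.card_product, Finset.card_pair d.hj1.symm, mul_comm]

theorem two_mul_le_B : 2 * ((Cb L₂ b).card + (Db L₂ j b).card) ≤
    ((Lp L₁ L₂).filter (fun p => n * p.1 * p.2 ∈ Rj j s)).card := by
  have hdisj : Disjoint (Cb L₂ b) (Db L₂ j b) := by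
    rw [Finset.disjoint_left]
    intro y h1 h2
    simp only [Cb, Finset.mem_filter, Finset.mem_univ, true_and] at h1
    simp only [Db, Finset.mem_filter, Finset.mem_univ, true_and] at h2
    have h3 : b * 1 = b * j := by rw [mul_one, ← h2.2, h1.2]
    exact d.hj1 (mul_left_cancel h3).symm
  rw [← Finset.card_union_of_disjoint hdisj, ← d.card_prod_pair]
  apply Finset.card_le_card_of_injOn (fun q => (q.2 * nu n q.1⁻¹, q.1))
  · intro q hq
    rw [Finset.mem_coe, Finset.mem_product, Finset.mem_union, Finset.mem_insert,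
      Finset.mem_singleton] at hq
    obtain ⟨hq1, hq2⟩ := hq
    have hy : q.1 ∈ L₂ ∧ ∃ z, (z = 1 ∨ z = j) ∧ q.1 * b * q.1⁻¹ = b * z := by
      rcases hq1 with h | h
      · simp only [Cb, Finset.mem_filter, Finset.mem_univ, true_and] at h
        exact ⟨h.1, 1, Or.inl rfl, by rw [h.2, mul_one]⟩
      · simp only [Db, Finset.mem_filter, Finset.mem_univ, true_and] at h
        exact ⟨h.1, j, Or.inr rfl, h.2⟩
    obtain ⟨hyL, z, hz, hyz⟩ := hy
    obtain ⟨hpL₁, -, -, -, -, -⟩ := d.toCfg.z_cases hq2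
    rw [Finset.mem_coe, Finset.mem_filter, mem_Lp]
    refine ⟨⟨mul_mem hpL₁ (d.hν₂ _ (inv_mem hyL)), hyL⟩, ?_⟩
    simp only [Rj, Finset.mem_filter, Finset.mem_univ, true_and]
    exact d.root_mem hyL hz hyz hq2
  · intro q _ q' _ e
    simp only [Prod.mk.injEq] at e
    obtain ⟨e1, e2⟩ := e
    rw [e2] at e1
    exact Prod.ext e2 (mul_right_cancel e1)

theorem A_le : ((Lp L₁ L₂).filter (fun p => p.1 * p.2 ∈ Rs j s)).card ≤ 2 * (Cb L₂ b).card := by
  apply Finset.card_le_mul_card_image_of_maps_to (f := Prod.snd)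
  · intro p hp
    simp only [Finset.mem_filter, mem_Lp, Rs, Finset.mem_univ, true_and] at hp
    obtain ⟨⟨hx, hy⟩, hsq, -⟩ := hp
    obtain ⟨z, hz, -, hyy⟩ := d.roots_M hx hy hsq
    simp only [Cb, Finset.mem_filter, Finset.mem_univ, true_and]
    exact ⟨hy, d.comm_b hy hz hyy⟩
  · intro y _
    by_cases hne : (((Lp L₁ L₂).filter (fun p => p.1 * p.2 ∈ Rs j s)).filter
        (fun p => p.2 = y)).Nonempty
    · obtain ⟨p₀, hp₀⟩ := hne
      simp only [Finset.mem_filter, mem_Lp, Rs, Finset.mem_univ, true_and] at hp₀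
      obtain ⟨⟨⟨hx₀, hy₀⟩, hsq₀, -⟩, hp₀y⟩ := hp₀
      have hsub : ((Lp L₁ L₂).filter (fun p => p.1 * p.2 ∈ Rs j s)).filter (fun p => p.2 = y) ⊆
          {(p₀.1, y), (j * p₀.1, y)} := by
        intro p hp
        simp only [Finset.mem_filter, mem_Lp, Rs, Finset.mem_univ, true_and] at hp
        obtain ⟨⟨⟨hx, hy⟩, hsq, -⟩, hpy⟩ := hp
        rw [hpy] at hsq hy
        rw [hp₀y] at hsq₀
        rw [Finset.mem_insert, Finset.mem_singleton]
        rcases d.roots_M_fiber hx hx₀ hy hsq hsq₀ with h | h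
        · left; exact Prod.ext h hpy
        · right; exact Prod.ext h hpy
      exact (Finset.card_le_card hsub).trans Finset.card_le_two
    · rw [Finset.not_nonempty_iff_eq_empty] at hne
      rw [hne]; simp

theorem B_le : ((Lp L₁ L₂).filter (fun p => n * p.1 * p.2 ∈ Rs j s)).card ≤
    2 * (Db L₂ j b).card := by
  rw [← d.card_prod_pair]
  apply Finset.card_le_card_of_injOn (fun p => (p.2, nu n p.2 * p.1 * a))
  · intro p hp
    rw [Finset.mem_coe] at hp
    simp only [Finset.mem_filter, mem_Lp, Rs, Finset.mem_univ, true_and] at hp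
    obtain ⟨⟨hx, hy⟩, hsq, -⟩ := hp
    obtain ⟨h1, h2⟩ := d.roots_nM hx hy hsq
    rw [Finset.mem_coe, Finset.mem_product, Finset.mem_insert, Finset.mem_singleton]
    refine ⟨?_, h1⟩
    simp only [Db, Finset.mem_filter, Finset.mem_univ, true_and]
    exact ⟨hy, h2⟩
  · intro p _ p' _ e
    simp only [Prod.mk.injEq] at e
    obtain ⟨e1, e2⟩ := e
    rw [e1] at e2
    have e3 := mul_right_cancel e2
    exact Prod.ext (mul_left_cancel e3) e1

omit d in
theorem card_eq {k : G} (h1 : k * j * k⁻¹ = s) (h2 : k * s * k⁻¹ = j) :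
    (Rj j s).card = (Rs j s).card := by
  apply Finset.card_bij (fun u _ => k * u * k⁻¹)
  · intro u hu
    simp only [Rj, Finset.mem_filter, Finset.mem_univ, true_and] at hu
    simp only [Rs, Finset.mem_filter, Finset.mem_univ, true_and]
    constructor
    · calc k * u * k⁻¹ * (k * u * k⁻¹) = k * (u * u) * k⁻¹ := by group
        _ = s := by rw [hu.1, h1]
    · calc k * u * k⁻¹ * j = k * u * k⁻¹ * (k * s * k⁻¹) := by rw [h2]
        _ = k * (u * s) * k⁻¹ := by group
        _ = k * (s * u) * k⁻¹ := by rw [hu.2]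
        _ = (k * s * k⁻¹) * (k * u * k⁻¹) := by group
        _ = j * (k * u * k⁻¹) := by rw [h2]
  · intro u _ v _ e
    have := congrArg (fun t => k⁻¹ * t * k) e
    simpa [mul_assoc] using this
  · intro v hv
    simp only [Rs, Finset.mem_filter, Finset.mem_univ, true_and] at hv
    have h1' : k⁻¹ * s * k = j := by rw [← h1]; group
    have h2' : k⁻¹ * j * k = s := by rw [← h2]; group
    refine ⟨k⁻¹ * v * k, ?_, by group⟩
    simp only [Rj, Finset.mem_filter, Finset.mem_univ, true_and]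
    constructor
    · calc k⁻¹ * v * k * (k⁻¹ * v * k) = k⁻¹ * (v * v) * k := by group
        _ = j := by rw [hv.1, h1']
    · calc k⁻¹ * v * k * s = k⁻¹ * v * k * (k⁻¹ * j * k) := by rw [h2']
        _ = k⁻¹ * (v * j) * k := by group
        _ = k⁻¹ * (j * v) * k := by rw [hv.2]
        _ = (k⁻¹ * j * k) * (k⁻¹ * v * k) := by group
        _ = s * (k⁻¹ * v * k) := by rw [h2']

/-- No element of `G` interchanges `j` and `s`. -/
theorem no_swap : ¬ ∃ k : G, k * j * k⁻¹ = s ∧ k * s * k⁻¹ = j := by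
  rintro ⟨k, h1, h2⟩
  have e1 := d.toCfg.card_pairs (Rj j s) Rj_cent
  have e2 := d.toCfg.card_pairs (Rs j s) Rs_cent
  have e3 := d.one_le_A
  have e4 := d.two_mul_le_B
  have e5 := d.A_le
  have e6 := d.B_le
  have e7 := card_eq h1 h2
  omega

end Dat

namespace Cfg

variable {L₁ L₂ : Subgroup G} {j n : G} (cfg : Cfg L₁ L₂ j n)
include cfg

/-- In the wreathed configuration with `n² = j`, the involution `j` is isolated. -/
theorem isolated {a : G} (ha : a ∈ L₁) (haa : a * a = j)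
    (hconj : ∀ u v : G, InM L₁ L₂ u → InM L₁ L₂ v → u * u = 1 → v * v = 1 → u ≠ 1 → u ≠ j →
      v ≠ 1 → v ≠ j → ∃ c, c * j = j * c ∧ c * u * c⁻¹ = v) :
    ∀ g : G, j * (g * j * g⁻¹) = (g * j * g⁻¹) * j → g * j * g⁻¹ = j := by
  intro g hcomm
  by_contra hne
  have d : Dat L₁ L₂ j n a (nu n a) (a * nu n a) := ⟨cfg, ha, haa, rfl, rfl⟩
  -- a general fact on involutions of `C_G(j)`
  have hinv : ∀ t : G, t * t = 1 → t * j = j * t → InM L₁ L₂ t := by
    intro t ht2 htC
    rcases cfg.hC t htC with h | ⟨x, hx, y, hy, e⟩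
    · exact h
    · exfalso
      rw [e] at ht2
      exact cfg.sq_ne_one hx hy ht2
  set t := g * j * g⁻¹ with ht
  have ht2 : t * t = 1 := by
    calc t * t = g * (j * j) * g⁻¹ := by rw [ht]; group
      _ = 1 := by rw [cfg.hjj]; group
  have ht1 : t ≠ 1 := by
    intro h
    apply cfg.hj1
    calc j = g⁻¹ * t * g := by rw [ht]; group
      _ = 1 := by rw [h]; group
  obtain ⟨c₁, hc₁, e₁⟩ := hconj t _ (hinv t ht2 hcomm.symm) d.sInM ht2 d.ss ht1 hne
    d.s_ne_one d.s_ne_j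
  set g₁ := c₁ * g with hg₁
  have hg₁s : g₁ * j * g₁⁻¹ = a * nu n a := by
    rw [← e₁, hg₁, ht]; group
  set j' := g₁⁻¹ * j * g₁ with hj'
  have hj'2 : j' * j' = 1 := by
    calc j' * j' = g₁⁻¹ * (j * j) * g₁ := by rw [hj']; group
      _ = 1 := by rw [cfg.hjj]; group
  have hj'1 : j' ≠ 1 := by
    intro h
    apply cfg.hj1
    calc j = g₁ * j' * g₁⁻¹ := by rw [hj']; group
      _ = 1 := by rw [h]; group
  have hsj' : g₁⁻¹ * (a * nu n a) * g₁ = j := by rw [← hg₁s]; group
  have hj'C : j' * j = j * j' := by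
    have h1 := d.sj
    calc j' * j = (g₁⁻¹ * j * g₁) * (g₁⁻¹ * (a * nu n a) * g₁) := by rw [hsj']
      _ = g₁⁻¹ * (j * (a * nu n a)) * g₁ := by group
      _ = g₁⁻¹ * ((a * nu n a) * j) * g₁ := by rw [h1]
      _ = (g₁⁻¹ * (a * nu n a) * g₁) * (g₁⁻¹ * j * g₁) := by group
      _ = j * j' := by rw [hsj']
  have hj'j : j' ≠ j := by
    intro h
    apply d.s_ne_j
    calc a * nu n a = g₁ * j * g₁⁻¹ := hg₁s.symm
      _ = g₁ * j' * g₁⁻¹ := by rw [h]
      _ = j := by rw [hj']; group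
  obtain ⟨c₂, hc₂, e₂⟩ := hconj j' _ (hinv j' hj'2 hj'C) d.sInM hj'2 d.ss hj'1 hj'j
    d.s_ne_one d.s_ne_j
  apply d.no_swap
  refine ⟨c₂ * g₁⁻¹, ?_, ?_⟩
  · calc c₂ * g₁⁻¹ * j * (c₂ * g₁⁻¹)⁻¹ = c₂ * (g₁⁻¹ * j * g₁) * c₂⁻¹ := by group
      _ = a * nu n a := e₂
  · calc c₂ * g₁⁻¹ * (a * nu n a) * (c₂ * g₁⁻¹)⁻¹
        = c₂ * (g₁⁻¹ * (a * nu n a) * g₁) * c₂⁻¹ := by group
      _ = c₂ * j * c₂⁻¹ := by rw [hsj']
      _ = j * c₂ * c₂⁻¹ := by rw [hc₂]
      _ = j := by group

end Cfg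

end Cfsg.Agent.Helper4.FongWong
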