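import Mathlib
import Cfsg.Agent.Helper2.SL2Central
import Cfsg.Agent.Helper2.ZStarH
import Cfsg.Agent.Helper4.FongWongA
import Cfsg.Agent.Helper4.FongWongF

/-!
# The wreathed `SL₂ ∘ SL₂` configuration (helper4): assembling

`C_G(j) = L₁L₂⟨n⟩` with `Lᵢ ≅ SL₂(qᵢ)`, `n² = j`, `n` interchanging `L₁` and `L₂`.  Then `j` is
isolated, hence `G = C_G(j) O(G)` by Glauberman's `Z*`-theorem.
-/

set_option autoImplicit false

namespace Cfsg.Agent.Helper4.FongWong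

open Cfsg.Agent.Helper2.SL2Central

/-- central modulo an odd-order normal subgroup implies `G = C_G(j) O`. -/
theorem sup_eq_top_of_comm {G : Type*} [Group G] [Finite G] (j : G) (hjj : j * j = 1)
    (O : Subgroup G) (hOodd : Odd (Nat.card O)) (h : ∀ g : G, j * g * j⁻¹ * g⁻¹ ∈ O) :
    Subgroup.centralizer ({j} : Set G) ⊔ O = ⊤ := by
  rw [eq_top_iff]
  intro g _
  have hjinv : j⁻¹ = j := inv_eq_of_mul_eq_one_left hjj
  set w := g * j * g⁻¹ * j⁻¹ with hw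
  have hwO : w ∈ O := by
    have : w = (j * g * j⁻¹ * g⁻¹)⁻¹ := by rw [hw]; group
    rw [this]; exact inv_mem (h g)
  have hodd : Odd (orderOf w) := by
    have h1 : orderOf (⟨w, hwO⟩ : ↥O) ∣ Nat.card O := orderOf_dvd_natCard _
    rw [Subgroup.orderOf_mk] at h1
    exact Odd.of_dvd_nat hOodd h1
  obtain ⟨k, hk⟩ := hodd
  set r := w ^ (k + 1) with hr
  have hrO : r ∈ O := pow_mem hwO _
  have hrr : r * r = w := by
    rw [hr, ← pow_add]
    have : k + 1 + (k + 1) = orderOf w + 1 := by omega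
    rw [this, pow_succ, pow_orderOf_eq_one, one_mul]
  have hjw : j * w * j⁻¹ = w⁻¹ := by
    rw [hw, hjinv]
    have h1 : (g * j * g⁻¹ * j)⁻¹ = j⁻¹ * g * j⁻¹ * g⁻¹ := by group
    rw [h1, hjinv]
    calc j * (g * j * g⁻¹ * j) * j = j * g * j * g⁻¹ * (j * j) := by group
      _ = j * g * j * g⁻¹ := by rw [hjj, mul_one]
  have hjr : j * r * j⁻¹ = r⁻¹ := by
    rw [hr, ← conj_pow, hjw, inv_pow]
  have hcent : r⁻¹ * g ∈ Subgroup.centralizer ({j} : Set G) := by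
    rw [Subgroup.mem_centralizer_singleton_iff]
    have h1 : g * j * g⁻¹ = w * j := by rw [hw]; group
    have h2 : (r⁻¹ * g) * j * (r⁻¹ * g)⁻¹ = j := by
      calc (r⁻¹ * g) * j * (r⁻¹ * g)⁻¹ = r⁻¹ * (g * j * g⁻¹) * r := by group
        _ = r⁻¹ * (w * j) * r := by rw [h1]
        _ = r⁻¹ * w * (j * r * j⁻¹) * j := by group
        _ = r⁻¹ * (r * r) * r⁻¹ * j := by rw [hjr, hrr]
        _ = j := by group
    calc r⁻¹ * g * j = ((r⁻¹ * g) * j * (r⁻¹ * g)⁻¹) * (r⁻¹ * g) := by group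
      _ = j * (r⁻¹ * g) := by rw [h2]
  rw [sup_comm]
  have hg : g = r * (r⁻¹ * g) := by group
  rw [hg]
  exact Subgroup.mul_mem_sup hrO hcent

variable {G : Type*} [Group G]

/-- The hypotheses of the statement give the abstract configuration. -/
theorem cfg_of_hyps
    {F₁ : Type*} [Field F₁] [Fintype F₁] {F₂ : Type*} [Field F₂] [Fintype F₂]
    (hF₁ : Odd (Fintype.card F₁)) (hF₂ : Odd (Fintype.card F₂)) (L₁ L₂ : Subgroup G)
    (e₁ : ↥L₁ ≃* Matrix.SpecialLinearGroup (Fin 2) F₁)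
    (e₂ : ↥L₂ ≃* Matrix.SpecialLinearGroup (Fin 2) F₂)
    (hc : ∀ x ∈ L₁, ∀ y ∈ L₂, x * y = y * x) (j : G) (hj : orderOf j = 2)
    (hm : L₁ ⊓ L₂ = Subgroup.zpowers j)
    (hle : L₁ ⊔ L₂ ≤ Subgroup.centralizer ({j} : Set G))
    (hi : (L₁ ⊔ L₂).relIndex (Subgroup.centralizer ({j} : Set G)) = 2) (n : G)
    (hn : n ∈ Subgroup.centralizer ({j} : Set G))
    (hn2 : n ^ 2 = j) (hswap : L₁.map (MulAut.conj n).toMonoidHom = L₂) :
    Cfg L₁ L₂ j n ∧ (∃ a ∈ L₁, a * a = j) ∧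
      (∀ u v : G, InM L₁ L₂ u → InM L₁ L₂ v → u * u = 1 → v * v = 1 → u ≠ 1 → u ≠ j →
        v ≠ 1 → v ≠ j → ∃ c, c * j = j * c ∧ c * u * c⁻¹ = v) := by
  have hjj : j * j = 1 := by
    have := pow_orderOf_eq_one j
    rw [hj, pow_two] at this
    exact this
  have hj1 : j ≠ 1 := by
    rintro rfl
    rw [orderOf_one] at hj
    omega
  have hjm : j ∈ L₁ ⊓ L₂ := by rw [hm]; exact Subgroup.mem_zpowers j
  have hjL₁ : j ∈ L₁ := hjm.1
  have hjL₂ : j ∈ L₂ := hjm.2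
  have hint : ∀ z, z ∈ L₁ → z ∈ L₂ → z = 1 ∨ z = j := by
    intro z h1 h2
    have hz : z ∈ Subgroup.zpowers j := by rw [← hm]; exact ⟨h1, h2⟩
    obtain ⟨k, rfl⟩ := Subgroup.mem_zpowers_iff.mp hz
    rcases Int.even_or_odd' k with ⟨m, hm' | hm'⟩
    · left
      rw [hm', zpow_mul, zpow_ofNat, pow_two, hjj, one_zpow]
    · right
      rw [hm', zpow_add, zpow_mul, zpow_ofNat, pow_two, hjj, one_zpow, one_mul, zpow_one]
  have hcen₁ : ∀ x ∈ L₁, x * j = j * x := fun x hx =>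
    Subgroup.mem_centralizer_singleton_iff.mp (hle (Subgroup.mem_sup_left hx))
  have hcen₂ : ∀ y ∈ L₂, y * j = j * y := fun y hy =>
    Subgroup.mem_centralizer_singleton_iff.mp (hle (Subgroup.mem_sup_right hy))
  have hnn : n * n = j := by rw [← pow_two]; exact hn2
  have hnj : n * j = j * n := Subgroup.mem_centralizer_singleton_iff.mp hn
  have hν₁ : ∀ x ∈ L₁, nu n x ∈ L₂ := by
    intro x hx
    rw [← hswap]
    exact ⟨x, hx, rfl⟩
  have hν₂ : ∀ y ∈ L₂, nu n y ∈ L₁ := by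
    intro y hy
    rw [← hswap] at hy
    obtain ⟨x, hx, rfl⟩ := hy
    have h1 : nu n ((MulAut.conj n).toMonoidHom x) = (n * n) * x * (n * n)⁻¹ := by
      show n * (n * x * n⁻¹) * n⁻¹ = _
      group
    rw [h1, hnn]
    have h2 : j * x * j⁻¹ = x := by
      rw [← hcen₁ x hx]; group
    rw [h2]; exact hx
  obtain ⟨a, ha, haa⟩ := exists_sq hF₁ e₁ hjL₁ hj1 hjj
  have hnu_j : nu n j = j := by
    unfold nu; rw [hnj]; group
  have hnM : ∀ x ∈ L₁, ∀ y ∈ L₂, n ≠ x * y := by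
    intro x hx y hy hnxy
    -- ν a = x a x⁻¹ ∈ L₁ ∩ L₂
    have h1 : nu n a = x * a * x⁻¹ := by
      unfold nu
      rw [hnxy]
      have := hc a ha y hy
      calc x * y * a * (x * y)⁻¹ = x * (y * a) * y⁻¹ * x⁻¹ := by group
        _ = x * (a * y) * y⁻¹ * x⁻¹ := by rw [this]
        _ = x * a * x⁻¹ := by group
    have h2 : nu n a ∈ L₁ := by rw [h1]; exact mul_mem (mul_mem hx ha) (inv_mem hx)
    have h3 : nu n a * nu n a = j := by rw [← nu_mul, haa, hnu_j]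
    rcases hint _ h2 (hν₁ a ha) with h | h
    · rw [h, one_mul] at h3; exact hj1 h3.symm
    · rw [h, hjj] at h3; exact hj1 h3.symm
  have hInM : ∀ u, u ∈ L₁ ⊔ L₂ ↔ InM L₁ L₂ u := by
    intro u
    constructor
    · intro hu
      obtain ⟨x, hx, y, hy, e⟩ := mem_sup_of_commute hc hu
      exact ⟨x, hx, y, hy, e⟩
    · rintro ⟨x, hx, y, hy, rfl⟩
      exact Subgroup.mul_mem_sup hx hy
  have hC : ∀ u, u * j = j * u →
      (∃ x ∈ L₁, ∃ y ∈ L₂, u = x * y) ∨ (∃ x ∈ L₁, ∃ y ∈ L₂, u = n * x * y) := by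
    intro u hu
    by_cases huM : u ∈ L₁ ⊔ L₂
    · left; exact (hInM u).mp huM
    · right
      have huC : u ∈ Subgroup.centralizer ({j} : Set G) :=
        Subgroup.mem_centralizer_singleton_iff.mpr hu
      have hidx : ((L₁ ⊔ L₂).subgroupOf (Subgroup.centralizer ({j} : Set G))).index = 2 := hi
      have hnM' : n⁻¹ ∉ L₁ ⊔ L₂ := by
        intro h
        have h1 : n ∈ L₁ ⊔ L₂ := by
          have := inv_mem h
          rwa [inv_inv] at this
        obtain ⟨x, hx, y, hy, e⟩ := (hInM n).mp h1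
        exact hnM x hx y hy e
      have key := Subgroup.mul_mem_iff_of_index_two hidx
        (a := (⟨n⁻¹, inv_mem hn⟩ : ↥(Subgroup.centralizer ({j} : Set G))))
        (b := (⟨u, huC⟩ : ↥(Subgroup.centralizer ({j} : Set G))))
      simp only [Subgroup.mem_subgroupOf, Subgroup.coe_mul] at key
      have h2 : n⁻¹ * u ∈ L₁ ⊔ L₂ := key.mpr ⟨fun h => absurd h hnM', fun h => absurd h huM⟩
      obtain ⟨x, hx, y, hy, e⟩ := (hInM _).mp h2
      refine ⟨x, hx, y, hy, ?_⟩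
      calc u = n * (n⁻¹ * u) := by group
        _ = n * (x * y) := by rw [e]
        _ = n * x * y := by group
  refine ⟨⟨hjj, hj1, hc, hint, hjL₁, hjL₂, hcen₁, hcen₂, hnn, hν₁, hν₂, hC, hnM, ?_, ?_⟩,
    ⟨a, ha, haa⟩, ?_⟩
  · intro x hx hxx
    exact sq_one hF₁ e₁ hjL₁ hj1 hjj hx hxx
  · intro a' ha' haa' x hx y hy hxa hya
    exact commute_of_root hF₁ e₁ hjL₁ hj1 hjj ha' hx hy haa' hxa hya
  · obtain ⟨x₀, -, -, -, hx₀⟩ := main hF₁ hF₂ L₁ L₂ e₁ e₂ hc j hj hm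
    intro u v hu hv hu2 hv2 hu1 huj hv1 hvj
    have hou : orderOf u = 2 := orderOf_eq_prime (by rw [pow_two]; exact hu2) hu1
    have hov : orderOf v = 2 := orderOf_eq_prime (by rw [pow_two]; exact hv2) hv1
    rcases hx₀ u ((hInM u).mpr hu) hou with h | ⟨gu, hgu, eu⟩
    · exact absurd h huj
    rcases hx₀ v ((hInM v).mpr hv) hov with h | ⟨gv, hgv, ev⟩
    · exact absurd h hvj
    refine ⟨gv * gu⁻¹, ?_, ?_⟩
    · exact Subgroup.mem_centralizer_singleton_iff.mp (hle (mul_mem hgv (inv_mem hgu)))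
    · rw [← eu, ← ev]; group

/-- `G = C_G(j) O(G)` in the wreathed configuration with `n² = j`. -/
theorem main_thm [Finite G]
    {F₁ : Type*} [Field F₁] [Fintype F₁] {F₂ : Type*} [Field F₂] [Fintype F₂]
    (hF₁ : Odd (Fintype.card F₁)) (hF₂ : Odd (Fintype.card F₂)) (L₁ L₂ : Subgroup G)
    (e₁ : ↥L₁ ≃* Matrix.SpecialLinearGroup (Fin 2) F₁)
    (e₂ : ↥L₂ ≃* Matrix.SpecialLinearGroup (Fin 2) F₂)
    (hc : ∀ x ∈ L₁, ∀ y ∈ L₂, x * y = y * x) (j : G) (hj : orderOf j = 2)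
    (hm : L₁ ⊓ L₂ = Subgroup.zpowers j)
    (hle : L₁ ⊔ L₂ ≤ Subgroup.centralizer ({j} : Set G))
    (hi : (L₁ ⊔ L₂).relIndex (Subgroup.centralizer ({j} : Set G)) = 2) (n : G)
    (hn : n ∈ Subgroup.centralizer ({j} : Set G))
    (hn2 : n ^ 2 = j) (hswap : L₁.map (MulAut.conj n).toMonoidHom = L₂) :
    Subgroup.centralizer ({j} : Set G) ⊔ Cfsg.oddCore G = ⊤ := by
  obtain ⟨cfg, ⟨a, ha, haa⟩, hconj⟩ :=
    cfg_of_hyps hF₁ hF₂ L₁ L₂ e₁ e₂ hc j hj hm hle hi n hn hn2 hswap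
  have := Fintype.ofFinite G
  have hiso : Cfsg.IsIsolatedInvolution j := by
    refine ⟨hj, ?_⟩
    intro g hcomm
    exact cfg.isolated ha haa hconj g hcomm
  apply sup_eq_top_of_comm j cfg.hjj _ Cfsg.Agent.Helper2.ZStar.oddCore_odd_card
  intro g
  exact Cfsg.Agent.Helper2.ZStar.glauberman_zstar j hiso g

end Cfsg.Agent.Helper4.FongWong
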