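import Mathlib
import Cfsg.Agent.Helper4.Ord168A
import Cfsg.Agent.Helper4.SylowBasic
import Cfsg.Agent.Helper4.CyclicSylowA

/-!
Simple groups whose Sylow 2-subgroups have order four: all involutions are conjugate,
2-elements are involutions, and commuting involutions (general tools for S4018).
-/

set_option autoImplicit false

namespace Cfsg.Agent.Helper4.FrdGrp

open Subgroup

variable {G : Type*} [Group G]

theorem fact2 : Fact (Nat.Prime 2) := ⟨Nat.prime_two⟩
theorem fact3 : Fact (Nat.Prime 3) := ⟨Nat.prime_three⟩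

attribute [local instance] fact2 fact3

/-- Five distinct elements cannot lie in a subgroup of order four. -/
theorem mem_four [Finite G] {Q : Subgroup G} (hQ : Nat.card Q = 4) {a b c d : G}
    (ha : a ∈ Q) (hb : b ∈ Q) (hc : c ∈ Q) (hd : d ∈ Q)
    (hab : a ≠ b) (hac : a ≠ c) (had : a ≠ d) (hbc : b ≠ c) (hbd : b ≠ d) (hcd : c ≠ d)
    {y : G} (hy : y ∈ Q) : y = a ∨ y = b ∨ y = c ∨ y = d := by
  by_contra hcon
  push Not at hcon
  obtain ⟨h1, h2, h3, h4⟩ := hcon
  have hsub : ({y, a, b, c, d} : Set G) ⊆ (Q : Set G) := by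
    intro x hx
    simp only [Set.mem_insert_iff, Set.mem_singleton_iff] at hx
    rcases hx with rfl | rfl | rfl | rfl | rfl <;> assumption
  have hcard : ({y, a, b, c, d} : Set G).ncard = 5 := by
    rw [Set.ncard_insert_of_notMem, Set.ncard_insert_of_notMem, Set.ncard_insert_of_notMem,
      Set.ncard_insert_of_notMem, Set.ncard_singleton]
    · simp only [Set.mem_singleton_iff]; exact hcd
    · simp only [Set.mem_insert_iff, Set.mem_singleton_iff]; tauto
    · simp only [Set.mem_insert_iff, Set.mem_singleton_iff]; tauto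
    · simp only [Set.mem_insert_iff, Set.mem_singleton_iff]; tauto
  have hle := Set.ncard_le_ncard hsub (Set.toFinite _)
  have hQ' : (Q : Set G).ncard = 4 := by
    rw [← hQ]; rfl
  omega

/-- A `p`-element normalizing a Sylow `p`-subgroup lies in it. -/
theorem mem_sylow_of_mem_normalizer {p : ℕ} [Fact p.Prime] (Q : Sylow p G) (x : G) (k : ℕ)
    (hx : x ^ (p ^ k) = 1) (hN : x ∈ normalizer ((Q : Subgroup G) : Set G)) :
    x ∈ (Q : Subgroup G) := by
  have hz : IsPGroup p (zpowers x) := by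
    intro y
    obtain ⟨i, hi⟩ := mem_zpowers_iff.1 y.2
    refine ⟨k, ?_⟩
    apply Subtype.ext
    rw [Subgroup.coe_pow, ← hi, Subgroup.coe_one, ← zpow_natCast, ← zpow_mul, mul_comm, zpow_mul,
      zpow_natCast, hx, one_zpow]
  have h := hz.inf_normalizer_sylow Q
  have h1 : x ∈ zpowers x ⊓ normalizer (Q : Set G) := ⟨mem_zpowers x, hN⟩
  rw [h] at h1
  exact h1.2

theorem conj_pow_eq_one {x g : G} {n : ℕ} (hx : x ^ n = 1) : (g * x * g⁻¹) ^ n = 1 := by
  rw [conj_pow, hx, mul_one, mul_inv_cancel]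

theorem orderOf_conj' (g x : G) : orderOf (g * x * g⁻¹) = orderOf x := by
  have h := (MulAut.conj g).orderOf_eq x
  rwa [MulAut.conj_apply] at h

section Simple

variable [Finite G] [IsSimpleGroup G]

/-- A finite simple group of order divisible by four has trivial centre. -/
theorem center_eq_bot (h4 : 4 ∣ Nat.card G) : center G = ⊥ := by
  rcases (inferInstance : (center G).Normal).eq_bot_or_eq_top with h | h
  · exact h
  · exfalso
    let _ : CommGroup G := Group.commGroupOfCenterEqTop h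
    have hp : (Nat.card G).Prime := IsSimpleGroup.prime_card
    have := (Nat.dvd_prime hp).1 h4
    rcases this with h1 | h1
    · omega
    · rw [← h1] at hp
      norm_num at hp

theorem not_isCyclic (h4 : 4 ∣ Nat.card G) : ¬ IsCyclic G := by
  intro hc
  have hbot := center_eq_bot h4
  let _ : CommGroup G := IsCyclic.commGroup
  have hp : (Nat.card G).Prime := IsSimpleGroup.prime_card
  have := (Nat.dvd_prime hp).1 h4
  rcases this with h1 | h1
  · omega
  · rw [← h1] at hp
    norm_num at hp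

/-- Every nonidentity element of a Sylow 2-subgroup of order 4 of a simple group is conjugate
to a fixed one. -/
theorem exists_conj_all (S : Sylow 2 G) (hS : Nat.card S = 4) (hG : Nat.card G ≠ 4) :
    ∃ x ∈ (S : Subgroup G), x ≠ 1 ∧
      ∀ y ∈ (S : Subgroup G), y ≠ 1 → ∃ g : G, g * x * g⁻¹ = y := by
  have hnc := Cfsg.Agent.Helper4.Ord168.not_normalizer_le_centralizer S
    (by rw [hS]; norm_num) (by rw [hS]; exact fun h => hG h.symm)
  have hcomm : ∀ a b : (S : Subgroup G), a * b = b * a :=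
    IsPGroup.commutative_of_card_eq_prime_sq (p := 2) (by rw [hS]; norm_num)
  rw [SetLike.not_le_iff_exists] at hnc
  obtain ⟨g, hgN, hgC⟩ := hnc
  obtain ⟨a, b, ha, hb, hgab, hcop, k, hk⟩ := Cfsg.Agent.Helper4.exists_p_part_decomp 2 g
  have hzle : zpowers g ≤ normalizer ((S : Subgroup G) : Set G) := zpowers_le.2 hgN
  have haN : a ∈ normalizer ((S : Subgroup G) : Set G) := hzle ha
  have hbN : b ∈ normalizer ((S : Subgroup G) : Set G) := hzle hb
  have hbS : b ∈ (S : Subgroup G) := mem_sylow_of_mem_normalizer S b k hk hbN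
  have hbC : b ∈ centralizer ((S : Subgroup G) : Set G) := by
    rw [mem_centralizer_iff]
    intro h hh
    exact congrArg Subtype.val (hcomm ⟨h, hh⟩ ⟨b, hbS⟩)
  have haC : a ∉ centralizer ((S : Subgroup G) : Set G) := by
    intro h
    apply hgC
    rw [hgab]
    exact mul_mem h hbC
  rw [mem_centralizer_iff] at haC
  push Not at haC
  obtain ⟨x, hxS, hxa⟩ := haC
  have hxS' : x ∈ (S : Subgroup G) := hxS
  have hx1 : x ≠ 1 := by
    rintro rfl
    exact hxa (by simp)
  have hconjS : ∀ y ∈ (S : Subgroup G), a * y * a⁻¹ ∈ (S : Subgroup G) := fun y hy =>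
    (mem_normalizer_iff.1 haN y).1 hy
  have hx1S := hconjS x hxS'
  have hx2S := hconjS _ hx1S
  have hne1 : a * x * a⁻¹ ≠ x := by
    intro h
    apply hxa
    have : a * x = x * a := by
      calc a * x = a * x * a⁻¹ * a := by group
        _ = x * a := by rw [h]
    exact this.symm
  have hne2 : a * (a * x * a⁻¹) * a⁻¹ ≠ a * x * a⁻¹ := by
    intro h
    apply hne1
    have h' := congrArg (fun w => a⁻¹ * w * a) h
    have e1 : a⁻¹ * (a * (a * x * a⁻¹) * a⁻¹) * a = a * x * a⁻¹ := by group
    have e2 : a⁻¹ * (a * x * a⁻¹) * a = x := by group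
    rw [e1, e2] at h'
    exact h'
  have hodd : Odd (orderOf a) := by
    rcases Nat.even_or_odd (orderOf a) with he | ho
    · exfalso
      have h2 : 2 ∣ orderOf a := even_iff_two_dvd.1 he
      have := Nat.Coprime.eq_one_of_dvd hcop.symm h2
      omega
    · exact ho
  have hne3 : a * (a * x * a⁻¹) * a⁻¹ ≠ x := by
    intro h
    apply hxa
    have hc2 : Commute (a * a) x := by
      unfold Commute SemiconjBy
      calc a * a * x = a * (a * x * a⁻¹) * a⁻¹ * (a * a) := by group
        _ = x * (a * a) := by rw [h]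
    obtain ⟨m, hm⟩ := hodd
    have hpow : (a * a) ^ (m + 1) = a := by
      rw [← pow_two, ← pow_mul]
      have : 2 * (m + 1) = orderOf a + 1 := by omega
      rw [this, pow_succ, pow_orderOf_eq_one, one_mul]
    have hc1 : Commute a x := by
      have := hc2.pow_left (m + 1)
      rwa [hpow] at this
    exact hc1.eq.symm
  have hy1 : a * x * a⁻¹ ≠ 1 := by
    intro h
    apply hx1
    have h' := congrArg (fun w => a⁻¹ * w * a) h
    have e2 : a⁻¹ * (a * x * a⁻¹) * a = x := by group
    rw [e2] at h'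
    rw [h']; group
  have hy2 : a * (a * x * a⁻¹) * a⁻¹ ≠ 1 := by
    intro h
    apply hy1
    have h' := congrArg (fun w => a⁻¹ * w * a) h
    have e1 : a⁻¹ * (a * (a * x * a⁻¹) * a⁻¹) * a = a * x * a⁻¹ := by group
    rw [e1] at h'
    rw [h']; group
  refine ⟨x, hxS', hx1, ?_⟩
  intro y hy hy1'
  have h4 := mem_four (Q := (S : Subgroup G)) hS (one_mem _) hxS' hx1S hx2S
    (Ne.symm hx1) (Ne.symm hy1) (Ne.symm hy2) (Ne.symm hne1) (Ne.symm hne3) (Ne.symm hne2) hy
  rcases h4 with h | h | h | h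
  · exact absurd h hy1'
  · exact ⟨1, by rw [h]; group⟩
  · exact ⟨a, h.symm⟩
  · exact ⟨a * a, by rw [h]; group⟩

/-- All Sylow 2-subgroups have the same order. -/
theorem card_sylow_eq (S Q : Sylow 2 G) : Nat.card Q = Nat.card S := by
  rw [Sylow.card_eq_multiplicity, Sylow.card_eq_multiplicity]

/-- In a simple group with Sylow 2-subgroups of order 4, nonidentity elements of a Sylow
2-subgroup have order two. -/
theorem orderOf_eq_two_of_mem (S : Sylow 2 G) (hS : Nat.card S = 4) (hG : Nat.card G ≠ 4)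
    {y : G} (hy : y ∈ (S : Subgroup G)) (hy1 : y ≠ 1) : orderOf y = 2 := by
  obtain ⟨x, hxS, hx1, hx⟩ := exists_conj_all S hS hG
  have h2 : 2 ∣ Nat.card (S : Subgroup G) := by
    have : Nat.card (S : Subgroup G) = 4 := hS
    rw [this]; norm_num
  obtain ⟨e, he⟩ := exists_prime_orderOf_dvd_card' (G := (S : Subgroup G)) 2 h2
  have he' : orderOf (e : G) = 2 := by rw [Subgroup.orderOf_coe]; exact he
  have he1 : (e : G) ≠ 1 := by
    intro h
    rw [h, orderOf_one] at he'
    omega
  obtain ⟨g, hg⟩ := hx e e.2 he1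
  have hox : orderOf x = 2 := by
    rw [← orderOf_conj' g x, hg]; exact he'
  obtain ⟨g', hg'⟩ := hx y hy hy1
  rw [← hg', orderOf_conj']
  exact hox

/-- 2-elements square to one. -/
theorem sq_eq_one_of_two_elt (S : Sylow 2 G) (hS : Nat.card S = 4) (hG : Nat.card G ≠ 4)
    (y : G) (k : ℕ) (hy : y ^ (2 ^ k) = 1) : y * y = 1 := by
  by_cases hy1 : y = 1
  · rw [hy1, one_mul]
  obtain ⟨j, -, hj⟩ := (Nat.dvd_prime_pow Nat.prime_two).1 (orderOf_dvd_of_pow_eq_one hy)
  obtain ⟨Q, hQ⟩ := Cfsg.Agent.Helper4.exists_sylow_mem_of_orderOf_eq_pow (p := 2) y ⟨j, hj⟩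
  have hQc : Nat.card Q = 4 := by rw [card_sylow_eq S Q]; exact hS
  have h2 := orderOf_eq_two_of_mem Q hQc hG hQ hy1
  rw [← pow_two, ← h2, pow_orderOf_eq_one]

/-- All involutions are conjugate. -/
theorem conj_involutions (S : Sylow 2 G) (hS : Nat.card S = 4) (hG : Nat.card G ≠ 4)
    (s t : G) (hs : orderOf s = 2) (ht : orderOf t = 2) : ∃ g : G, g * s * g⁻¹ = t := by
  obtain ⟨x, hxS, hx1, hx⟩ := exists_conj_all S hS hG
  have key : ∀ u : G, orderOf u = 2 → ∃ g : G, g * x * g⁻¹ = u := by
    intro u hu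
    obtain ⟨Q, hQ⟩ := Cfsg.Agent.Helper4.exists_sylow_mem_of_orderOf_eq_pow (p := 2) u
      ⟨1, by rw [hu, pow_one]⟩
    obtain ⟨c, hc⟩ := Cfsg.Agent.Helper4.sylow_exists_smul_eq S Q
    have hu' : u ∈ c • S := by rw [hc]; exact hQ
    rw [Cfsg.Agent.Helper4.mem_sylow_smul_iff] at hu'
    have hu1 : c⁻¹ * u * c ≠ 1 := by
      intro h
      have : u = 1 := by
        calc u = c * (c⁻¹ * u * c) * c⁻¹ := by group
          _ = 1 := by rw [h]; group
      rw [this, orderOf_one] at hu
      omega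
    obtain ⟨g, hg⟩ := hx _ hu' hu1
    refine ⟨c * g, ?_⟩
    calc c * g * x * (c * g)⁻¹ = c * (g * x * g⁻¹) * c⁻¹ := by group
      _ = c * (c⁻¹ * u * c) * c⁻¹ := by rw [hg]
      _ = u := by group
  obtain ⟨g1, hg1⟩ := key s hs
  obtain ⟨g2, hg2⟩ := key t ht
  refine ⟨g2 * g1⁻¹, ?_⟩
  rw [← hg1, ← hg2]
  group

/-- Commuting distinct involutions `s, t`: any other involution commuting with both is `s * t`. -/
theorem eq_mul_of_commute (S : Sylow 2 G) (hS : Nat.card S = 4) {s t z : G}
    (hs : orderOf s = 2) (ht : orderOf t = 2) (hz : orderOf z = 2) (hst : s ≠ t)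
    (hc : Commute s t) (hzs : Commute z s) (hzt : Commute z t) (hz1 : z ≠ s) (hz2 : z ≠ t) :
    z = s * t := by
  have hs1 : s ≠ 1 := by rintro rfl; rw [orderOf_one] at hs; omega
  have ht1 : t ≠ 1 := by rintro rfl; rw [orderOf_one] at ht; omega
  have hz0 : z ≠ 1 := by rintro rfl; rw [orderOf_one] at hz; omega
  have hss : s * s = 1 := by rw [← pow_two, ← hs, pow_orderOf_eq_one]
  have htt : t * t = 1 := by rw [← pow_two, ← ht, pow_orderOf_eq_one]
  have hzz : z ^ (2 ^ 1) = 1 := by rw [pow_one, ← hz, pow_orderOf_eq_one]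
  have hps : IsPGroup 2 (zpowers s) := by
    apply IsPGroup.of_card (n := 1); rw [Nat.card_zpowers, hs, pow_one]
  have hpt : IsPGroup 2 (zpowers t) := by
    apply IsPGroup.of_card (n := 1); rw [Nat.card_zpowers, ht, pow_one]
  have hnorm : zpowers s ≤ normalizer ((zpowers t : Subgroup G) : Set G) := by
    rw [zpowers_le]
    apply centralizer_le_normalizer
    rw [mem_centralizer_iff]
    intro h hh
    obtain ⟨i, rfl⟩ := mem_zpowers_iff.1 hh
    exact ((hc.zpow_right i).eq).symm
  have hV : IsPGroup 2 (zpowers s ⊔ zpowers t : Subgroup G) :=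
    hps.to_sup_of_normal_right' hpt hnorm
  obtain ⟨Q, hQ⟩ := hV.exists_le_sylow
  have hQc : Nat.card Q = 4 := by rw [card_sylow_eq S Q]; exact hS
  have hsQ : s ∈ (Q : Subgroup G) := hQ (le_sup_left (a := zpowers s) (mem_zpowers s))
  have htQ : t ∈ (Q : Subgroup G) := hQ (le_sup_right (b := zpowers t) (mem_zpowers t))
  have hstQ : s * t ∈ (Q : Subgroup G) := mul_mem hsQ htQ
  have hst1 : s * t ≠ 1 := by
    intro h
    apply hst
    calc s = s * (t * t) := by rw [htt, mul_one]
      _ = (s * t) * t := by group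
      _ = t := by rw [h, one_mul]
  have hne_s : s ≠ s * t := by
    intro h
    apply ht1
    calc t = s * (s * t) := by rw [← mul_assoc, hss, one_mul]
      _ = s * s := by rw [← h]
      _ = 1 := hss
  have hne_t : t ≠ s * t := by
    intro h
    apply hs1
    calc s = (s * t) * t := by rw [mul_assoc, htt, mul_one]
      _ = t * t := by rw [← h]
      _ = 1 := htt
  have hfour : ∀ y ∈ (Q : Subgroup G), y = 1 ∨ y = s ∨ y = t ∨ y = s * t := fun y hy =>
    mem_four (Q := (Q : Subgroup G)) hQc (one_mem _) hsQ htQ hstQ (Ne.symm hs1) (Ne.symm ht1)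
      (Ne.symm hst1) hst hne_s hne_t hy
  have hzN : z ∈ normalizer ((Q : Subgroup G) : Set G) := by
    apply centralizer_le_normalizer
    rw [mem_centralizer_iff]
    intro h hh
    rcases hfour h hh with rfl | rfl | rfl | rfl
    · simp
    · exact hzs.eq.symm
    · exact hzt.eq.symm
    · exact ((hzs.mul_right hzt).eq).symm
  have hzQ := mem_sylow_of_mem_normalizer Q z 1 hzz hzN
  rcases hfour z hzQ with h | h | h | h
  · exact absurd h hz0
  · exact absurd h hz1
  · exact absurd h hz2
  · exact h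

end Simple

end Cfsg.Agent.Helper4.FrdGrp
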