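import Mathlib
import Cfsg.Prelude.Def_OddOrderLocal
import Cfsg.Agent.Helper4.FrdGrpA

/-!
The 3-local part of S4018: an abelian Sylow 3-subgroup `P` with `|C(P)| = 2|P|`, `C(P)` a TI
subset.  The involution `t` of `C(P)` has `C(t) = N(P)`, and (when all involutions are
conjugate) every nonidentity 3-element is centralized by exactly one involution.
-/

set_option autoImplicit false

namespace Cfsg.Agent.Helper4.FrdGrp

open Subgroup

variable {G : Type*} [Group G] [Finite G]

attribute [local instance] fact2 fact3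

section Three

variable (P : Sylow 3 G)

theorem sylow_le_centralizer (hab : IsMulCommutative P) :
    (P : Subgroup G) ≤ centralizer (P : Set G) := by
  intro x hx
  rw [mem_centralizer_iff]
  intro h hh
  have := hab.is_comm.comm (⟨h, hh⟩ : P) ⟨x, hx⟩
  exact congrArg Subtype.val this

theorem exists_invol (hC : Nat.card (centralizer (P : Set G)) = 2 * Nat.card P) :
    ∃ t ∈ centralizer (P : Set G), orderOf t = 2 := by
  have h2 : 2 ∣ Nat.card (centralizer (P : Set G)) := ⟨_, hC⟩
  obtain ⟨e, he⟩ := exists_prime_orderOf_dvd_card' (G := centralizer (P : Set G)) 2 h2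
  exact ⟨(e : G), e.2, by rw [Subgroup.orderOf_coe]; exact he⟩

theorem not_mem_sylow_of_orderOf_two {v : G} (hv2 : orderOf v = 2) : v ∉ (P : Subgroup G) := by
  intro hv
  obtain ⟨k, hk⟩ := Cfsg.Agent.Helper4.orderOf_eq_pow_of_mem_pgroup (P : Subgroup G) P.isPGroup' v hv
  rw [hv2] at hk
  have h2 : 2 ∣ 3 ^ k := ⟨1, by rw [← hk]⟩
  have := Nat.Prime.dvd_of_dvd_pow Nat.prime_two h2
  omega

/-- The involution of `C(P)` is unique. -/
theorem invol_unique (hab : IsMulCommutative P)
    (hC : Nat.card (centralizer (P : Set G)) = 2 * Nat.card P) {t v : G}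
    (ht : t ∈ centralizer (P : Set G)) (ht2 : orderOf t = 2)
    (hv : v ∈ centralizer (P : Set G)) (hv2 : orderOf v = 2) : v = t := by
  have hle := sylow_le_centralizer P hab
  set C := centralizer (P : Set G) with hCdef
  have hidx : ((P : Subgroup G).subgroupOf C).index = 2 := by
    have h1 := ((P : Subgroup G).subgroupOf C).index_mul_card
    have h2 : Nat.card ((P : Subgroup G).subgroupOf C) = Nat.card (P : Subgroup G) :=
      Nat.card_congr (Subgroup.subgroupOfEquivOfLe hle).toEquiv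
    rw [h2, hC] at h1
    have hpos : 0 < Nat.card (P : Subgroup G) := Nat.card_pos
    exact Nat.eq_of_mul_eq_mul_right hpos h1
  have htP : (⟨t, ht⟩ : C)⁻¹ ∉ (P : Subgroup G).subgroupOf C := by
    rw [inv_mem_iff, mem_subgroupOf]
    exact not_mem_sylow_of_orderOf_two P ht2
  have hvP : (⟨v, hv⟩ : C) ∉ (P : Subgroup G).subgroupOf C := by
    rw [mem_subgroupOf]
    exact not_mem_sylow_of_orderOf_two P hv2
  have hmem : (⟨t, ht⟩ : C)⁻¹ * ⟨v, hv⟩ ∈ (P : Subgroup G).subgroupOf C := by
    rw [Subgroup.mul_mem_iff_of_index_two hidx]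
    exact ⟨fun h => absurd h htP, fun h => absurd h hvP⟩
  rw [mem_subgroupOf] at hmem
  have hx0 : t⁻¹ * v ∈ (P : Subgroup G) := hmem
  obtain ⟨x, hxdef⟩ : ∃ x, x = t⁻¹ * v := ⟨_, rfl⟩
  rw [← hxdef] at hx0
  have htt : t * t = 1 := by rw [← pow_two, ← ht2, pow_orderOf_eq_one]
  have hvv : v * v = 1 := by rw [← pow_two, ← hv2, pow_orderOf_eq_one]
  have hcomm : x * t = t * x := (mem_centralizer_iff.1 ht) _ hx0
  have hv_eq : v = t * x := by rw [hxdef]; group
  have hxx : x ^ 2 = 1 := by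
    rw [pow_two]
    calc x * x = (t * t) * (x * x) := by rw [htt, one_mul]
      _ = t * (t * x) * x := by group
      _ = t * (x * t) * x := by rw [hcomm]
      _ = (t * x) * (t * x) := by group
      _ = v * v := by rw [← hv_eq]
      _ = 1 := hvv
  have hx1 : x = 1 := by
    obtain ⟨k, hk⟩ := Cfsg.Agent.Helper4.orderOf_eq_pow_of_mem_pgroup (P : Subgroup G)
      P.isPGroup' x hx0
    have hd : orderOf x ∣ 2 := orderOf_dvd_of_pow_eq_one hxx
    rcases (Nat.dvd_prime Nat.prime_two).1 hd with h | h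
    · exact orderOf_eq_one_iff.1 h
    · exfalso
      rw [h] at hk
      have h2 : 2 ∣ 3 ^ k := ⟨1, by rw [← hk]⟩
      have := Nat.Prime.dvd_of_dvd_pow Nat.prime_two h2
      omega
  rw [hv_eq, hx1, mul_one]

/-- `N(C(P)) ≤ N(P)`: `P` is the set of 3-elements of `C(P)`. -/
theorem normalizer_centralizer_le (hab : IsMulCommutative P) :
    normalizer ((centralizer (P : Set G) : Subgroup G) : Set G) ≤
      normalizer ((P : Subgroup G) : Set G) := by
  have hle := sylow_le_centralizer P hab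
  have hkey : ∀ g ∈ normalizer ((centralizer (P : Set G) : Subgroup G) : Set G),
      ∀ y ∈ (P : Subgroup G), g * y * g⁻¹ ∈ (P : Subgroup G) := by
    intro g hg y hy
    have h1 : g * y * g⁻¹ ∈ centralizer (P : Set G) := (mem_normalizer_iff.1 hg y).1 (hle hy)
    have h2 : g * y * g⁻¹ ∈ normalizer ((P : Subgroup G) : Set G) :=
      centralizer_le_normalizer _ h1
    obtain ⟨k, hk⟩ := Cfsg.Agent.Helper4.orderOf_eq_pow_of_mem_pgroup (P : Subgroup G)
      P.isPGroup' y hy
    have h3 : y ^ (3 ^ k) = 1 := by rw [← hk, pow_orderOf_eq_one]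
    exact mem_sylow_of_mem_normalizer P _ k (conj_pow_eq_one h3) h2
  intro g hg
  rw [mem_normalizer_iff]
  intro h
  constructor
  · exact hkey g hg h
  · intro hh
    have := hkey g⁻¹ (inv_mem hg) _ hh
    have e : g⁻¹ * (g * h * g⁻¹) * g⁻¹⁻¹ = h := by group
    rwa [e] at this

/-- `N(P) ≤ N(C(P))`. -/
theorem conj_mem_centralizer {h c : G} (hh : h ∈ normalizer ((P : Subgroup G) : Set G))
    (hc : c ∈ centralizer (P : Set G)) : h * c * h⁻¹ ∈ centralizer (P : Set G) := by
  rw [mem_centralizer_iff]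
  intro y hy
  have hy' : h⁻¹ * y * h ∈ (P : Subgroup G) := (mem_normalizer_iff''.1 hh y).1 hy
  have hcomm := (mem_centralizer_iff.1 hc) _ hy'
  calc y * (h * c * h⁻¹) = h * ((h⁻¹ * y * h) * c) * h⁻¹ := by group
    _ = h * (c * (h⁻¹ * y * h)) * h⁻¹ := by rw [hcomm]
    _ = h * c * h⁻¹ * y := by group

/-- `C(t) = N(P)` for the involution `t` of `C(P)`. -/
theorem centralizer_invol_eq (hab : IsMulCommutative P)
    (hC : Nat.card (centralizer (P : Set G)) = 2 * Nat.card P)
    (hTI : Cfsg.IsTISubset (centralizer (P : Set G) : Set G)) {t : G}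
    (ht : t ∈ centralizer (P : Set G)) (ht2 : orderOf t = 2) :
    centralizer ({t} : Set G) = normalizer ((P : Subgroup G) : Set G) := by
  apply le_antisymm
  · intro g hg
    by_contra hgN
    have hgNC : g ∉ normalizer ((centralizer (P : Set G) : Subgroup G) : Set G) := fun h =>
      hgN (normalizer_centralizer_le P hab h)
    have hcomm : g * t = t * g := mem_centralizer_singleton_iff.1 hg
    have h1 : g * t * g⁻¹ ∈ (centralizer (P : Set G) : Set G) := by
      have : g * t * g⁻¹ = t := by rw [hcomm]; group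
      rw [this]; exact ht
    have := hTI g hgNC t ht h1
    rw [this, orderOf_one] at ht2
    omega
  · intro h hh
    rw [mem_centralizer_singleton_iff]
    have h1 := conj_mem_centralizer P hh ht
    have h2 : orderOf (h * t * h⁻¹) = 2 := by rw [orderOf_conj']; exact ht2
    have h3 := invol_unique P hab hC ht ht2 h1 h2
    calc h * t = (h * t * h⁻¹) * h := by group
      _ = t * h := by rw [h3]

/-- An involution commuting with a nonidentity element of `P` is `t`. -/
theorem invol_eq_of_commute (hab : IsMulCommutative P)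
    (hC : Nat.card (centralizer (P : Set G)) = 2 * Nat.card P)
    (hTI : Cfsg.IsTISubset (centralizer (P : Set G) : Set G))
    (hconj : ∀ s t : G, orderOf s = 2 → orderOf t = 2 → ∃ g : G, g * s * g⁻¹ = t) {t : G}
    (ht : t ∈ centralizer (P : Set G)) (ht2 : orderOf t = 2) {y : G}
    (hy : y ∈ (P : Subgroup G)) (hy1 : y ≠ 1) {v : G} (hv2 : orderOf v = 2)
    (hvy : Commute v y) : v = t := by
  obtain ⟨g, hg⟩ := hconj t v ht2 hv2
  have hCt := centralizer_invol_eq P hab hC hTI ht ht2
  have hle := sylow_le_centralizer P hab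
  -- x := g⁻¹ y g commutes with t
  have hxt : (g⁻¹ * y * g) * t = t * (g⁻¹ * y * g) := by
    have h1 : (g * t * g⁻¹) * y = y * (g * t * g⁻¹) := by rw [hg]; exact hvy.eq
    calc (g⁻¹ * y * g) * t = g⁻¹ * (y * (g * t * g⁻¹)) * g := by group
      _ = g⁻¹ * ((g * t * g⁻¹) * y) * g := by rw [h1]
      _ = t * (g⁻¹ * y * g) := by group
  have hxN : g⁻¹ * y * g ∈ normalizer ((P : Subgroup G) : Set G) := by
    rw [← hCt, mem_centralizer_singleton_iff]; exact hxt
  obtain ⟨k, hk⟩ := Cfsg.Agent.Helper4.orderOf_eq_pow_of_mem_pgroup (P : Subgroup G)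
    P.isPGroup' y hy
  have h3 : y ^ (3 ^ k) = 1 := by rw [← hk, pow_orderOf_eq_one]
  have hxP : g⁻¹ * y * g ∈ (P : Subgroup G) := by
    have := mem_sylow_of_mem_normalizer P (g⁻¹ * y * g⁻¹⁻¹) k (conj_pow_eq_one h3)
      (by rw [inv_inv]; exact hxN)
    rwa [inv_inv] at this
  have hx1 : g⁻¹ * y * g ≠ 1 := by
    intro h
    apply hy1
    calc y = g * (g⁻¹ * y * g) * g⁻¹ := by group
      _ = 1 := by rw [h]; group
  have hgNC : g ∈ normalizer ((centralizer (P : Set G) : Subgroup G) : Set G) := by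
    by_contra hcon
    apply hx1
    apply hTI g hcon (g⁻¹ * y * g) (hle hxP)
    have : g * (g⁻¹ * y * g) * g⁻¹ = y := by group
    rw [this]
    exact hle hy
  have hgN := normalizer_centralizer_le P hab hgNC
  rw [← hCt, mem_centralizer_singleton_iff] at hgN
  rw [← hg, hgN]; group

/-- A nonidentity 3-element is centralized by at most one involution. -/
theorem invol_unique_of_commute (hab : IsMulCommutative P)
    (hC : Nat.card (centralizer (P : Set G)) = 2 * Nat.card P)
    (hTI : Cfsg.IsTISubset (centralizer (P : Set G) : Set G))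
    (hconj : ∀ s t : G, orderOf s = 2 → orderOf t = 2 → ∃ g : G, g * s * g⁻¹ = t)
    {r : G} (hr1 : r ≠ 1) (k : ℕ) (hr : r ^ (3 ^ k) = 1) {v w : G} (hv2 : orderOf v = 2)
    (hw2 : orderOf w = 2) (hv : Commute v r) (hw : Commute w r) : v = w := by
  obtain ⟨t, ht, ht2⟩ := exists_invol P hC
  obtain ⟨j, -, hj⟩ := (Nat.dvd_prime_pow Nat.prime_three).1 (orderOf_dvd_of_pow_eq_one hr)
  obtain ⟨Q, hQ⟩ := Cfsg.Agent.Helper4.exists_sylow_mem_of_orderOf_eq_pow (p := 3) r ⟨j, hj⟩
  obtain ⟨c, hc⟩ := Cfsg.Agent.Helper4.sylow_exists_smul_eq P Q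
  have hr' : r ∈ c • P := by rw [hc]; exact hQ
  rw [Cfsg.Agent.Helper4.mem_sylow_smul_iff] at hr'
  have hy1 : c⁻¹ * r * c ≠ 1 := by
    intro h
    apply hr1
    calc r = c * (c⁻¹ * r * c) * c⁻¹ := by group
      _ = 1 := by rw [h]; group
  have key : ∀ u : G, orderOf u = 2 → Commute u r → c⁻¹ * u * c = t := by
    intro u hu hur
    have h2 : orderOf (c⁻¹ * u * c) = 2 := by
      have := orderOf_conj' c⁻¹ u
      rw [inv_inv] at this
      rw [this]; exact hu
    have hcm : Commute (c⁻¹ * u * c) (c⁻¹ * r * c) := by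
      unfold Commute SemiconjBy
      calc c⁻¹ * u * c * (c⁻¹ * r * c) = c⁻¹ * (u * r) * c := by group
        _ = c⁻¹ * (r * u) * c := by rw [hur.eq]
        _ = c⁻¹ * r * c * (c⁻¹ * u * c) := by group
    exact invol_eq_of_commute P hab hC hTI hconj ht ht2 hr' hy1 h2 hcm
  have h1 := key v hv2 hv
  have h2 := key w hw2 hw
  calc v = c * (c⁻¹ * v * c) * c⁻¹ := by group
    _ = c * (c⁻¹ * w * c) * c⁻¹ := by rw [h1, h2]
    _ = w := by group

/-- A nonidentity 3-element is centralized by some involution. -/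
theorem exists_invol_commute
    (hC : Nat.card (centralizer (P : Set G)) = 2 * Nat.card P)
    {r : G} (k : ℕ) (hr : r ^ (3 ^ k) = 1) : ∃ z : G, orderOf z = 2 ∧ Commute z r := by
  obtain ⟨t, ht, ht2⟩ := exists_invol P hC
  obtain ⟨j, -, hj⟩ := (Nat.dvd_prime_pow Nat.prime_three).1 (orderOf_dvd_of_pow_eq_one hr)
  obtain ⟨Q, hQ⟩ := Cfsg.Agent.Helper4.exists_sylow_mem_of_orderOf_eq_pow (p := 3) r ⟨j, hj⟩
  obtain ⟨c, hc⟩ := Cfsg.Agent.Helper4.sylow_exists_smul_eq P Q
  have hr' : r ∈ c • P := by rw [hc]; exact hQ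
  rw [Cfsg.Agent.Helper4.mem_sylow_smul_iff] at hr'
  have hcomm := (mem_centralizer_iff.1 ht) _ hr'
  refine ⟨c * t * c⁻¹, by rw [orderOf_conj']; exact ht2, ?_⟩
  unfold Commute SemiconjBy
  calc c * t * c⁻¹ * r = c * (t * (c⁻¹ * r * c)) * c⁻¹ := by group
    _ = c * ((c⁻¹ * r * c) * t) * c⁻¹ := by rw [hcomm]
    _ = r * (c * t * c⁻¹) := by group

end Three

end Cfsg.Agent.Helper4.FrdGrp
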