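import Mathlib
import Cfsg.Prelude.Def_OddOrderLocal
import Cfsg.Agent.Helper4.FriendA
import Cfsg.Agent.Helper4.FrdGrpB

/-!
S4018: the commuting graph on involutions is a friendship graph, so by the friendship theorem
some involution commutes with all involutions, hence is central: contradiction with simplicity.
-/

set_option autoImplicit false

namespace Cfsg.Agent.Helper4.FrdGrp

open Subgroup

variable {G : Type*} [Group G] [Finite G]

attribute [local instance] fact2 fact3

omit [Finite G] in
theorem inv_eq_self_of_mul_self {s : G} (hss : s * s = 1) : s⁻¹ = s := by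
  calc s⁻¹ = s⁻¹ * (s * s) := by rw [hss, mul_one]
    _ = s := by group

omit [Finite G] in
/-- An involution inverting `c` normalizes `⟨c⟩`. -/
theorem mem_normalizer_zpowers {s c : G} (hss : s * s = 1) (hsc : s * c * s⁻¹ = c⁻¹) :
    s ∈ normalizer ((zpowers c : Subgroup G) : Set G) := by
  have hsinv := inv_eq_self_of_mul_self hss
  have hkey : ∀ h ∈ zpowers c, s * h * s⁻¹ ∈ zpowers c := by
    intro h hh
    obtain ⟨i, rfl⟩ := mem_zpowers_iff.1 hh
    have : s * c ^ i * s⁻¹ = (c⁻¹) ^ i := by rw [← hsc, conj_zpow]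
    rw [this]
    exact zpow_mem (inv_mem (mem_zpowers c)) i
  rw [mem_normalizer_iff]
  intro h
  constructor
  · exact hkey h
  · intro hh
    have := hkey _ hh
    have e : s * (s * h * s⁻¹) * s⁻¹ = h := by
      rw [hsinv]
      calc s * (s * h * s) * s = (s * s) * h * (s * s) := by group
        _ = h := by rw [hss, one_mul, mul_one]
    rwa [e] at this

section Main

variable [IsSimpleGroup G] (P : Sylow 3 G)

/-- The friendship property of the commuting graph on involutions. -/
theorem friend_prop (hab : IsMulCommutative P)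
    (hC : Nat.card (centralizer (P : Set G)) = 2 * Nat.card P)
    (hTI : Cfsg.IsTISubset (centralizer (P : Set G) : Set G))
    (heven : ∀ H : Subgroup G, H ≠ ⊤ → 2 ∣ Nat.card H → Nat.card H ∣ 4 * Nat.card P)
    (S : Sylow 2 G) (hS : Nat.card S = 4) (hG4 : Nat.card G ≠ 4) (h4 : 4 ∣ Nat.card G)
    (s t' : G) (hs : orderOf s = 2) (ht' : orderOf t' = 2) (hne : s ≠ t') :
    ∃ z : G, (orderOf z = 2 ∧ z ≠ s ∧ Commute s z ∧ z ≠ t' ∧ Commute t' z) ∧
      ∀ z' : G, orderOf z' = 2 → z' ≠ s → Commute s z' → z' ≠ t' → Commute t' z' → z' = z := by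
  have hconj := conj_involutions S hS hG4
  have hss : s * s = 1 := by rw [← pow_two, ← hs, pow_orderOf_eq_one]
  have htt : t' * t' = 1 := by rw [← pow_two, ← ht', pow_orderOf_eq_one]
  have hsinv := inv_eq_self_of_mul_self hss
  have htinv := inv_eq_self_of_mul_self htt
  have hs1 : s ≠ 1 := by rintro rfl; rw [orderOf_one] at hs; omega
  have ht1 : t' ≠ 1 := by rintro rfl; rw [orderOf_one] at ht'; omega
  obtain ⟨c, hcdef⟩ : ∃ c, c = s * t' := ⟨_, rfl⟩
  have hcinv : c⁻¹ = t' * s := by rw [hcdef, mul_inv_rev, hsinv, htinv]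
  have hc1 : c ≠ 1 := by
    intro h
    apply hne
    calc s = s * (t' * t') := by rw [htt, mul_one]
      _ = (s * t') * t' := by group
      _ = t' := by rw [← hcdef, h, one_mul]
  have hsc : s * c * s⁻¹ = c⁻¹ := by
    rw [hcinv, hsinv, hcdef]
    calc s * (s * t') * s = (s * s) * t' * s := by group
      _ = t' * s := by rw [hss, one_mul]
  have htc : t' * c * t'⁻¹ = c⁻¹ := by
    rw [hcinv, htinv, hcdef]
    calc t' * (s * t') * t' = t' * s * (t' * t') := by group
      _ = t' * s := by rw [htt, mul_one]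
  have hsK := mem_normalizer_zpowers hss hsc
  have hK : normalizer ((zpowers c : Subgroup G) : Set G) ≠ ⊤ := by
    intro htop
    have hn : (zpowers c).Normal := normalizer_eq_top_iff.1 htop
    rcases hn.eq_bot_or_eq_top with h | h
    · apply hc1
      have : c ∈ zpowers c := mem_zpowers c
      rw [h, mem_bot] at this
      exact this
    · exact not_isCyclic h4 (isCyclic_iff_exists_zpowers_eq_top.2 ⟨c, h⟩)
  have h2K : 2 ∣ Nat.card (normalizer ((zpowers c : Subgroup G) : Set G)) := by
    have := orderOf_dvd_natCard (⟨s, hsK⟩ : normalizer ((zpowers c : Subgroup G) : Set G))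
    rwa [Subgroup.orderOf_mk, hs] at this
  have hKd := heven _ hK h2K
  have hcK : c ∈ normalizer ((zpowers c : Subgroup G) : Set G) :=
    le_normalizer (mem_zpowers c)
  have hoc : orderOf c ∣ 4 * Nat.card P := by
    have := orderOf_dvd_natCard (⟨c, hcK⟩ : normalizer ((zpowers c : Subgroup G) : Set G))
    rw [Subgroup.orderOf_mk] at this
    exact this.trans hKd
  obtain ⟨a, hPa⟩ := IsPGroup.iff_card.1 P.isPGroup'
  have hr : (c ^ 4) ^ (3 ^ a) = 1 := by
    rw [← pow_mul, ← hPa]
    exact orderOf_dvd_iff_pow_eq_one.1 hoc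
  have hsr : s * c ^ 4 * s⁻¹ = (c ^ 4)⁻¹ := by rw [← conj_pow, hsc, inv_pow]
  have htr : t' * c ^ 4 * t'⁻¹ = (c ^ 4)⁻¹ := by rw [← conj_pow, htc, inv_pow]
  by_cases hr1 : c ^ 4 = 1
  · -- the commuting case
    have hcc : c * c = 1 := sq_eq_one_of_two_elt S hS hG4 c 2 (by norm_num; exact hr1)
    have hcomm : Commute s t' := by
      unfold Commute SemiconjBy
      have h1 : c = c⁻¹ := (inv_eq_self_of_mul_self hcc).symm
      rw [hcinv] at h1
      rw [← hcdef]; exact h1
    have hc2 : orderOf c = 2 := orderOf_eq_prime (by rw [pow_two]; exact hcc) hc1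
    refine ⟨c, ⟨hc2, ?_, ?_, ?_, ?_⟩, ?_⟩
    · intro h
      apply ht1
      calc t' = s⁻¹ * (s * t') := by group
        _ = s⁻¹ * s := by rw [← hcdef, h]
        _ = 1 := by group
    · rw [hcdef]; exact (Commute.refl s).mul_right hcomm
    · intro h
      apply hs1
      calc s = (s * t') * t'⁻¹ := by group
        _ = t' * t'⁻¹ := by rw [← hcdef, h]
        _ = 1 := by group
    · rw [hcdef]; exact hcomm.symm.mul_right (Commute.refl t')
    · intro z' hz' hz's hsz' hz't htz'
      rw [hcdef]
      exact eq_mul_of_commute S hS hs ht' hz' hne hcomm hsz'.symm htz'.symm hz's hz't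
  · -- the 3-element case
    obtain ⟨z, hz2, hzr⟩ := exists_invol_commute P hC a hr
    have huniq : ∀ v w : G, orderOf v = 2 → orderOf w = 2 → Commute v (c ^ 4) →
        Commute w (c ^ 4) → v = w := fun v w hv hw hvr hwr =>
      invol_unique_of_commute P hab hC hTI hconj hr1 a hr hv hw hvr hwr
    have hconjz : ∀ u : G, u * c ^ 4 * u⁻¹ = (c ^ 4)⁻¹ → Commute u z := by
      intro u hu
      have h1 : orderOf (u * z * u⁻¹) = 2 := by rw [orderOf_conj']; exact hz2
      have h2 : Commute (u * z * u⁻¹) (c ^ 4) := by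
        have h3 : Commute (u * z * u⁻¹) (u * c ^ 4 * u⁻¹) := by
          unfold Commute SemiconjBy
          calc u * z * u⁻¹ * (u * c ^ 4 * u⁻¹) = u * (z * c ^ 4) * u⁻¹ := by group
            _ = u * (c ^ 4 * z) * u⁻¹ := by rw [hzr.eq]
            _ = u * c ^ 4 * u⁻¹ * (u * z * u⁻¹) := by group
        rw [hu] at h3
        exact Commute.inv_right_iff.1 h3
      have h3 := huniq _ _ h1 hz2 h2 hzr
      unfold Commute SemiconjBy
      calc u * z = (u * z * u⁻¹) * u := by group
        _ = z * u := by rw [h3]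
    have hsz := hconjz s hsr
    have htz := hconjz t' htr
    have hnot : ∀ u : G, u * c ^ 4 * u⁻¹ = (c ^ 4)⁻¹ → z ≠ u := by
      intro u hu hzu
      apply hr1
      rw [hzu] at hzr
      have h1 : u * c ^ 4 * u⁻¹ = c ^ 4 := by
        rw [hzr.eq]; group
      rw [h1] at hu
      have h2 : (c ^ 4) ^ 2 = 1 := by
        rw [pow_two]
        nth_rewrite 1 [hu]
        group
      have hd2 : orderOf (c ^ 4) ∣ 2 := orderOf_dvd_of_pow_eq_one h2
      have hd3 : orderOf (c ^ 4) ∣ 3 ^ a := orderOf_dvd_of_pow_eq_one hr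
      have hcop : Nat.Coprime 2 (3 ^ a) := Nat.Coprime.pow_right a (by norm_num)
      have := Nat.eq_one_of_dvd_coprimes hcop hd2 hd3
      exact orderOf_eq_one_iff.1 this
    refine ⟨z, ⟨hz2, hnot s hsr, hsz, hnot t' htr, htz⟩, ?_⟩
    intro z' hz' _ hsz' _ htz'
    have hzc : Commute z' c := by
      rw [hcdef]; exact hsz'.symm.mul_right htz'.symm
    exact huniq _ _ hz' hz2 (hzc.pow_right 4) hzr

/-- S4018: the configuration cannot occur in a simple group. -/
theorem not_simple_aux (hab : IsMulCommutative P)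
    (hC : Nat.card (centralizer (P : Set G)) = 2 * Nat.card P)
    (hTI : Cfsg.IsTISubset (centralizer (P : Set G) : Set G))
    (heven : ∀ H : Subgroup G, H ≠ ⊤ → 2 ∣ Nat.card H → Nat.card H ∣ 4 * Nat.card P)
    (S : Sylow 2 G) (hS : Nat.card S = 4) (hG4 : Nat.card G ≠ 4) (h4 : 4 ∣ Nat.card G) :
    False := by
  classical
  obtain ⟨t, -, ht2⟩ := exists_invol P hC
  let V := {g : G // orderOf g = 2}
  have : Fintype V := Fintype.ofFinite V
  have : Nonempty V := ⟨⟨t, ht2⟩⟩
  let Γ : SimpleGraph V := SimpleGraph.fromRel (fun a b : V => Commute a.1 b.1)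
  have hadj : ∀ a b : V, Γ.Adj a b ↔ a ≠ b ∧ Commute a.1 b.1 := by
    intro a b
    rw [SimpleGraph.fromRel_adj]
    constructor
    · rintro ⟨h1, h2 | h2⟩
      · exact ⟨h1, h2⟩
      · exact ⟨h1, h2.symm⟩
    · rintro ⟨h1, h2⟩
      exact ⟨h1, Or.inl h2⟩
  have hpol := Cfsg.Agent.Helper4.Friend.exists_adj_all Γ (by
    intro v w hvw
    obtain ⟨z, ⟨hz2, hzs, hsz, hzt, htz⟩, huniq⟩ := friend_prop P hab hC hTI heven S hS hG4 h4
      v.1 w.1 v.2 w.2 (fun h => hvw (Subtype.ext h))
    refine ⟨⟨z, hz2⟩, ⟨?_, ?_⟩, ?_⟩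
    · rw [hadj]
      exact ⟨fun h => hzs (congrArg Subtype.val h).symm, hsz⟩
    · rw [hadj]
      exact ⟨fun h => hzt (congrArg Subtype.val h).symm, htz⟩
    · intro u hvu hwu
      rw [hadj] at hvu hwu
      apply Subtype.ext
      exact huniq u.1 u.2 (fun h => hvu.1 (Subtype.ext h.symm)) hvu.2
        (fun h => hwu.1 (Subtype.ext h.symm)) hwu.2)
  obtain ⟨v0, hv0⟩ := hpol
  have hall : ∀ u : G, orderOf u = 2 → Commute v0.1 u := by
    intro u hu
    by_cases h : v0 = ⟨u, hu⟩
    · rw [h]
    · exact ((hadj _ _).1 (hv0 ⟨u, hu⟩ h)).2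
  have hncl : normalClosure ({v0.1} : Set G) = ⊤ := by
    rcases (normalClosure_normal (s := ({v0.1} : Set G))).eq_bot_or_eq_top with h | h
    · exfalso
      have hm : v0.1 ∈ normalClosure ({v0.1} : Set G) :=
        subset_normalClosure (Set.mem_singleton _)
      rw [h, mem_bot] at hm
      have := v0.2
      rw [hm, orderOf_one] at this
      omega
    · exact h
  have hle : normalClosure ({v0.1} : Set G) ≤ centralizer ({v0.1} : Set G) := by
    unfold normalClosure
    rw [closure_le]
    intro x hx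
    rw [Group.mem_conjugatesOfSet_iff] at hx
    obtain ⟨b, hb, hbx⟩ := hx
    rw [Set.mem_singleton_iff] at hb
    obtain ⟨g, hg⟩ := isConj_iff.1 hbx
    have hx2 : orderOf x = 2 := by
      rw [← hg, orderOf_conj', hb]; exact v0.2
    rw [SetLike.mem_coe, mem_centralizer_singleton_iff]
    exact (hall x hx2).eq.symm
  rw [hncl] at hle
  have hcen : v0.1 ∈ center G := by
    rw [mem_center_iff]
    intro g
    have := hle (mem_top g)
    rw [mem_centralizer_singleton_iff] at this
    exact this
  rw [center_eq_bot h4, mem_bot] at hcen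
  have := v0.2
  rw [hcen, orderOf_one] at this
  omega

end Main

/-- S4018. -/
theorem not_simple (P : Sylow 3 G) (hab : IsMulCommutative P)
    (hN : Nat.card (normalizer ((P : Subgroup G) : Set G)) = 4 * Nat.card P)
    (hC : Nat.card (centralizer (P : Set G)) = 2 * Nat.card P)
    (hTI : Cfsg.IsTISubset (centralizer (P : Set G) : Set G))
    (heven : ∀ H : Subgroup G, H ≠ ⊤ → 2 ∣ Nat.card H → Nat.card H ∣ 4 * Nat.card P) :
    ¬ IsSimpleGroup G := by
  intro hsimple
  have := hsimple
  obtain ⟨a, hPa⟩ := IsPGroup.iff_card.1 P.isPGroup'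
  have h4 : 4 ∣ Nat.card G := by
    have := Subgroup.card_subgroup_dvd_card (normalizer ((P : Subgroup G) : Set G))
    rw [hN] at this
    exact (Dvd.intro _ rfl).trans this
  rcases Nat.eq_zero_or_pos a with ha | ha
  · -- `P` trivial: `|G| = 4`
    subst ha
    have hP1 : Nat.card P = 1 := by simpa using hPa
    have hbot : (P : Subgroup G) = ⊥ := Subgroup.card_eq_one.1 hP1
    have hG : Nat.card G = 4 := by
      have hn : normalizer ((P : Subgroup G) : Set G) = ⊤ :=
        normalizer_eq_top_iff.2 (by rw [hbot]; infer_instance)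
      rw [hn, hP1, Subgroup.card_top] at hN
      simpa using hN
    have hcomm := IsPGroup.commutative_of_card_eq_prime_sq (p := 2) (G := G)
      (by rw [hG]; norm_num)
    have hcen : center G = ⊤ := by
      rw [eq_top_iff]
      intro g _
      rw [mem_center_iff]
      intro h
      exact hcomm h g
    have := center_eq_bot h4
    rw [hcen] at this
    have hcard := congrArg (fun K : Subgroup G => Nat.card K) this
    simp only [Subgroup.card_top, Subgroup.card_bot] at hcard
    omega
  · have h3 : 3 ∣ Nat.card G := by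
      have h1 : 3 ∣ Nat.card P := by rw [hPa]; exact dvd_pow_self 3 (by omega)
      exact h1.trans (Subgroup.card_subgroup_dvd_card (P : Subgroup G))
    have hG4 : Nat.card G ≠ 4 := by
      intro h; rw [h] at h3; omega
    have hGpos : Nat.card G ≠ 0 := Nat.card_pos.ne'
    let S : Sylow 2 G := default
    have hScard := Sylow.card_eq_multiplicity S
    have hn2 : 2 ≤ (Nat.card G).factorization 2 := by
      have : 2 ^ 2 ∣ Nat.card G := by norm_num; exact h4
      exact (Nat.Prime.pow_dvd_iff_le_factorization Nat.prime_two hGpos).1 this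
    have hStop : (S : Subgroup G) ≠ ⊤ := by
      intro h
      have hc : Nat.card (S : Subgroup G) = Nat.card G := by rw [h, Subgroup.card_top]
      have hc' : Nat.card S = Nat.card G := hc
      rw [hScard] at hc'
      rw [← hc'] at h3
      have := Nat.Prime.dvd_of_dvd_pow Nat.prime_three h3
      omega
    have h2S : 2 ∣ Nat.card (S : Subgroup G) := by
      have : Nat.card (S : Subgroup G) = 2 ^ (Nat.card G).factorization 2 := hScard
      rw [this]
      exact dvd_pow_self 2 (by omega)
    have hd := heven (S : Subgroup G) hStop h2S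
    have hd' : 2 ^ (Nat.card G).factorization 2 ∣ 4 * 3 ^ a := by
      have : Nat.card (S : Subgroup G) = 2 ^ (Nat.card G).factorization 2 := hScard
      rw [this, hPa] at hd
      exact hd
    have hcop : Nat.Coprime (2 ^ (Nat.card G).factorization 2) (3 ^ a) :=
      Nat.Coprime.pow _ _ (by norm_num)
    have hd4 : 2 ^ (Nat.card G).factorization 2 ∣ 2 ^ 2 := by
      have := hcop.dvd_of_dvd_mul_right hd'
      norm_num; exact this
    have hle2 : (Nat.card G).factorization 2 ≤ 2 :=
      (Nat.pow_dvd_pow_iff_le_right (by norm_num : 1 < 2)).1 hd4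
    have hS : Nat.card S = 4 := by
      rw [hScard]
      have : (Nat.card G).factorization 2 = 2 := le_antisymm hle2 hn2
      rw [this]; norm_num
    exact not_simple_aux P hab hC hTI heven S hS hG4 h4

end Cfsg.Agent.Helper4.FrdGrp
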