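import Mathlib
import Cfsg.Agent.S3993
import Cfsg.Agent.Helper1.SZ

set_option autoImplicit false

namespace Cfsg.Agent.Helper4

universe u

section

variable {G : Type u} [Group G]

/-- the preimage of a set under the quotient map has `|S| * |N|` elements -/
noncomputable def preimageQuotEquiv (N : Subgroup G) [N.Normal] (S : Set (G ⧸ N)) :
    {x : G // (x : G ⧸ N) ∈ S} ≃ {y : G ⧸ N // y ∈ S} × N where
  toFun x := (⟨(x.1 : G ⧸ N), x.2⟩, ⟨(Quotient.out (x.1 : G ⧸ N))⁻¹ * x.1, by
    rw [← QuotientGroup.eq]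
    exact QuotientGroup.out_eq' _⟩)
  invFun a := ⟨Quotient.out a.1.1 * a.2.1, by
    have h1 : ((Quotient.out a.1.1 * a.2.1 : G) : G ⧸ N) = a.1.1 := by
      rw [QuotientGroup.mk_mul, (QuotientGroup.eq_one_iff _).2 a.2.2, mul_one]
      exact QuotientGroup.out_eq' _
    rw [h1]; exact a.1.2⟩
  left_inv x := by
    apply Subtype.ext
    simp
  right_inv a := by
    have h1 : ((Quotient.out a.1.1 * a.2.1 : G) : G ⧸ N) = a.1.1 := by
      rw [QuotientGroup.mk_mul, (QuotientGroup.eq_one_iff _).2 a.2.2, mul_one]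
      exact QuotientGroup.out_eq' _
    apply Prod.ext
    · apply Subtype.ext
      exact h1
    · apply Subtype.ext
      show (Quotient.out ((Quotient.out a.1.1 * a.2.1 : G) : G ⧸ N))⁻¹ *
        (Quotient.out a.1.1 * a.2.1) = a.2.1
      rw [h1, inv_mul_cancel_left]

theorem card_preimage_quot [Finite G] (N : Subgroup G) [N.Normal] (S : Set (G ⧸ N)) :
    Nat.card {x : G // (x : G ⧸ N) ∈ S} = Nat.card {y : G ⧸ N // y ∈ S} * Nat.card N := by
  rw [Nat.card_congr (preimageQuotEquiv N S), Nat.card_prod]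

end

end Cfsg.Agent.Helper4
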