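import Cfsg.Agent.Helper4.FrobConjA

set_option autoImplicit false

namespace Cfsg.Agent.Helper4

universe u

/-- the Frobenius conjecture property of a group -/
def FrobConj (G : Type u) [Group G] : Prop :=
  ∀ n : ℕ, n ∣ Nat.card G → Nat.card {x : G // x ^ n = 1} = n →
    ∃ H : Subgroup G, H.Normal ∧ (H : Set G) = {x : G | x ^ n = 1}

section

variable {G : Type u} [Group G] [Finite G]

/-- a subgroup of the right order all of whose elements satisfy `x ^ n = 1` is the solution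
set, and is normal -/
theorem frobConj_of_subgroup (n : ℕ) (H : Subgroup G) (hH : ∀ x ∈ H, x ^ n = 1)
    (hcard : Nat.card {x : G // x ^ n = 1} ≤ Nat.card H) :
    H.Normal ∧ (H : Set G) = {x : G | x ^ n = 1} := by
  have h1 : ({x : G | x ^ n = 1} : Set G).ncard = Nat.card {x : G // x ^ n = 1} :=
    (Nat.card_coe_set_eq _).symm
  have h2 : ((H : Set G)).ncard = Nat.card H := (Nat.card_coe_set_eq _).symm
  have h3 : ({x : G | x ^ n = 1} : Set G).ncard ≤ ((H : Set G)).ncard := by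
    rw [h1, h2]; exact hcard
  have hset : (H : Set G) = {x : G | x ^ n = 1} :=
    Set.eq_of_subset_of_ncard_le (fun x hx => hH x hx) h3 (Set.toFinite _)
  refine ⟨⟨fun x hx g => ?_⟩, hset⟩
  have h1' : x ∈ (H : Set G) := hx
  rw [hset] at h1'
  have h2 : g * x * g⁻¹ ∈ (H : Set G) := by
    rw [hset]
    show (g * x * g⁻¹) ^ n = 1
    rw [conj_pow, show x ^ n = 1 from h1', mul_one, mul_inv_cancel]
  exact h2

end

theorem frobConj_step_dvd {G : Type u} [Group G] [Finite G]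
    (p : ℕ) [hp : Fact p.Prime] (N : Subgroup G) [N.Normal] (a : ℕ) (ha : Nat.card N = p ^ a)
    (ha0 : a ≠ 0) (hNexp : ∀ x ∈ N, x ^ p = 1) (IHq : FrobConj (G ⧸ N))
    (n n₁ : ℕ) (hn₁ : n = p * n₁) (hn : n ∣ Nat.card G)
    (hcount : Nat.card {x : G // x ^ n = 1} = n) :
    ∃ H : Subgroup G, H.Normal ∧ (H : Set G) = {x : G | x ^ n = 1} := by
  have hFr : Cfsg.Agent.S3993.Frob (G ⧸ N) := Cfsg.Agent.S3993.frobenius _ (G ⧸ N) rfl
  have hcardG : Nat.card G = Nat.card (G ⧸ N) * Nat.card N :=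
    Subgroup.card_eq_card_quotient_mul_card_subgroup N
  have hsub : ∀ x : G, (x : G ⧸ N) ^ n₁ = 1 → x ^ n = 1 := by
    intro x hx
    have h1 : x ^ n₁ ∈ N := by
      rw [← QuotientGroup.eq_one_iff, QuotientGroup.mk_pow]; exact hx
    have h2 := hNexp _ h1
    rw [← pow_mul] at h2
    rw [hn₁, mul_comm]; exact h2
  have hP_le : Nat.card {x : G // (x : G ⧸ N) ^ n₁ = 1} ≤ n := by
    have := Nat.card_le_card_of_injective
      (fun x : {x : G // (x : G ⧸ N) ^ n₁ = 1} => (⟨x.1, hsub x.1 x.2⟩ : {x : G // x ^ n = 1}))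
      (fun x y h => Subtype.ext (congrArg (fun z : {x : G // x ^ n = 1} => z.1) h))
    rwa [hcount] at this
  have hP_eq : Nat.card {x : G // (x : G ⧸ N) ^ n₁ = 1} =
      Nat.card {y : G ⧸ N // y ^ n₁ = 1} * Nat.card N :=
    card_preimage_quot N {y : G ⧸ N | y ^ n₁ = 1}
  have hd_dvd : Nat.gcd n₁ (Nat.card (G ⧸ N)) ∣ Nat.card {y : G ⧸ N // y ^ n₁ = 1} :=
    hFr.gcd_dvd n₁
  have hT_pos : 0 < Nat.card {y : G ⧸ N // y ^ n₁ = 1} := by
    have : Nonempty {y : G ⧸ N // y ^ n₁ = 1} := ⟨⟨1, one_pow _⟩⟩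
    exact Nat.card_pos
  have hd_le := Nat.le_of_dvd hT_pos hd_dvd
  have hNpos : 0 < Nat.card N := Nat.card_pos
  have hdpos : 0 < Nat.gcd n₁ (Nat.card (G ⧸ N)) := Nat.gcd_pos_of_pos_right _ Nat.card_pos
  have hn_dvd : n ∣ Nat.gcd n₁ (Nat.card (G ⧸ N)) * Nat.card N := by
    obtain ⟨b, hb⟩ := Nat.exists_eq_succ_of_ne_zero ha0
    have hNp : Nat.card N = p * p ^ b := by rw [ha, hb, pow_succ, mul_comm]
    have h1 : p * n₁ ∣ p * (Nat.card (G ⧸ N) * p ^ b) := by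
      rw [← hn₁]
      have : p * (Nat.card (G ⧸ N) * p ^ b) = Nat.card G := by rw [hcardG, hNp]; ring
      rw [this]; exact hn
    have h2 : n₁ ∣ Nat.card (G ⧸ N) * p ^ b := Nat.dvd_of_mul_dvd_mul_left hp.out.pos h1
    have h3 : n₁ ∣ n₁ * p ^ b := dvd_mul_right _ _
    have h4 : n₁ ∣ Nat.gcd (n₁ * p ^ b) (Nat.card (G ⧸ N) * p ^ b) := Nat.dvd_gcd h3 h2
    rw [Nat.gcd_mul_right] at h4
    rw [hn₁, hNp]
    have : Nat.gcd n₁ (Nat.card (G ⧸ N)) * (p * p ^ b) =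
        p * (Nat.gcd n₁ (Nat.card (G ⧸ N)) * p ^ b) := by ring
    rw [this]
    exact Nat.mul_dvd_mul_left p h4
  have hn_le : n ≤ Nat.gcd n₁ (Nat.card (G ⧸ N)) * Nat.card N :=
    Nat.le_of_dvd (Nat.mul_pos hdpos hNpos) hn_dvd
  have hchain : Nat.gcd n₁ (Nat.card (G ⧸ N)) * Nat.card N ≤
      Nat.card {y : G ⧸ N // y ^ n₁ = 1} * Nat.card N := Nat.mul_le_mul_right _ hd_le
  have hTd : Nat.card {y : G ⧸ N // y ^ n₁ = 1} = Nat.gcd n₁ (Nat.card (G ⧸ N)) := by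
    have h1 : Nat.card {y : G ⧸ N // y ^ n₁ = 1} * Nat.card N =
        Nat.gcd n₁ (Nat.card (G ⧸ N)) * Nat.card N := by
      rw [← hP_eq] at hchain ⊢
      omega
    exact Nat.eq_of_mul_eq_mul_right hNpos h1
  have hPn : Nat.card {x : G // (x : G ⧸ N) ^ n₁ = 1} = n := by
    rw [← hP_eq] at hchain
    omega
  have hequiv : ∀ y : G ⧸ N, y ^ Nat.gcd n₁ (Nat.card (G ⧸ N)) = 1 ↔ y ^ n₁ = 1 := by
    intro y
    rw [pow_gcd_eq_one]
    exact ⟨fun hh => hh.1, fun hh => ⟨hh, pow_card_eq_one'⟩⟩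
  have hcountq : Nat.card {y : G ⧸ N // y ^ Nat.gcd n₁ (Nat.card (G ⧸ N)) = 1} =
      Nat.gcd n₁ (Nat.card (G ⧸ N)) := by
    rw [← Nat.card_congr (Equiv.subtypeEquivRight hequiv)] at hTd
    exact hTd
  obtain ⟨Hq, hHqn, hHqset⟩ := IHq _ (Nat.gcd_dvd_right _ _) hcountq
  have hmem : ∀ x : G, x ∈ Hq.comap (QuotientGroup.mk' N) ↔ (x : G ⧸ N) ^ n₁ = 1 := by
    intro x
    rw [Subgroup.mem_comap, ← hequiv]
    have : ((QuotientGroup.mk' N) x ∈ Hq) ↔ (QuotientGroup.mk' N) x ∈ (Hq : Set (G ⧸ N)) :=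
      Iff.rfl
    rw [this, hHqset]
    rfl
  have hcardH : Nat.card (Hq.comap (QuotientGroup.mk' N)) = n := by
    rw [← hPn]
    exact Nat.card_congr (Equiv.subtypeEquivRight hmem)
  have := frobConj_of_subgroup n (Hq.comap (QuotientGroup.mk' N))
    (fun x hx => hsub x ((hmem x).1 hx)) (by rw [hcount, hcardH])
  exact ⟨_, this.1, this.2⟩

end Cfsg.Agent.Helper4
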