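import Cfsg.Agent.Helper4.FrobConjB

set_option autoImplicit false

namespace Cfsg.Agent.Helper4

universe u

theorem frobConj_step_coprime {G : Type u} [Group G] [Finite G]
    (p : ℕ) [hp : Fact p.Prime] (N : Subgroup G) [N.Normal] (a : ℕ) (ha : Nat.card N = p ^ a)
    (hNexp : ∀ x ∈ N, x ^ p = 1) (IHq : FrobConj (G ⧸ N))
    (n : ℕ) (hpn : ¬ p ∣ n) (hn : n ∣ Nat.card G)
    (hcount : Nat.card {x : G // x ^ n = 1} = n) :
    ∃ H : Subgroup G, H.Normal ∧ (H : Set G) = {x : G | x ^ n = 1} := by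
  have hFr : Cfsg.Agent.S3993.Frob (G ⧸ N) := Cfsg.Agent.S3993.frobenius _ (G ⧸ N) rfl
  have hcardG : Nat.card G = Nat.card (G ⧸ N) * Nat.card N :=
    Subgroup.card_eq_card_quotient_mul_card_subgroup N
  have hn0 : n ≠ 0 := by
    rintro rfl
    rw [zero_dvd_iff] at hn
    exact Nat.card_pos.ne' hn
  have hcop : Nat.Coprime p n := (Nat.Prime.coprime_iff_not_dvd hp.out).2 hpn
  have hn_dvd : n ∣ Nat.card (G ⧸ N) := by
    rw [hcardG, ha] at hn
    exact (Nat.Coprime.pow_left a hcop).symm.dvd_of_dvd_mul_right hn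
  -- surjectivity
  have hsurj : ∀ y : G ⧸ N, y ^ n = 1 → ∃ x : G, x ^ n = 1 ∧ (x : G ⧸ N) = y := by
    intro y hy
    obtain ⟨x, rfl⟩ := QuotientGroup.mk_surjective y
    have hxN : x ^ n ∈ N := by
      rw [← QuotientGroup.eq_one_iff, QuotientGroup.mk_pow]; exact hy
    have hφ : 0 < Nat.totient n := Nat.totient_pos.2 (Nat.pos_of_ne_zero hn0)
    obtain ⟨b, hb⟩ := Nat.exists_eq_succ_of_ne_zero hφ.ne'
    refine ⟨x ^ (p ^ Nat.totient n), ?_, ?_⟩
    · rw [← pow_mul, mul_comm, pow_mul, hb, pow_succ, mul_comm, pow_mul, hNexp _ hxN, one_pow]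
    · rw [QuotientGroup.mk_pow]
      have h1 : p ^ Nat.totient n ≡ 1 [MOD n] := Nat.ModEq.pow_totient hcop
      rw [pow_eq_pow_mod _ hy, h1, ← pow_eq_pow_mod _ hy, pow_one]
  have hT_le : Nat.card {y : G ⧸ N // y ^ n = 1} ≤ n := by
    have := Nat.card_le_card_of_surjective
      (fun x : {x : G // x ^ n = 1} => (⟨(x.1 : G ⧸ N), by
        rw [← QuotientGroup.mk_pow, x.2]; rfl⟩ : {y : G ⧸ N // y ^ n = 1}))
      (fun y => by
        obtain ⟨x, hx, hxy⟩ := hsurj y.1 y.2
        exact ⟨⟨x, hx⟩, Subtype.ext hxy⟩)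
    rwa [hcount] at this
  have hT_dvd : n ∣ Nat.card {y : G ⧸ N // y ^ n = 1} := hFr n hn_dvd
  have hT_pos : 0 < Nat.card {y : G ⧸ N // y ^ n = 1} := by
    have : Nonempty {y : G ⧸ N // y ^ n = 1} := ⟨⟨1, one_pow _⟩⟩
    exact Nat.card_pos
  have hT : Nat.card {y : G ⧸ N // y ^ n = 1} = n :=
    le_antisymm hT_le (Nat.le_of_dvd hT_pos hT_dvd)
  obtain ⟨Hq, hHqn, hHqset⟩ := IHq n hn_dvd hT
  have hmemq : ∀ y : G ⧸ N, y ∈ Hq ↔ y ^ n = 1 := by
    intro y
    have : y ∈ Hq ↔ y ∈ (Hq : Set (G ⧸ N)) := Iff.rfl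
    rw [this, hHqset]; rfl
  -- the preimage
  obtain ⟨Ht, hHt⟩ : ∃ Ht : Subgroup G, Ht = Hq.comap (QuotientGroup.mk' N) := ⟨_, rfl⟩
  have hNle : N ≤ Ht := by
    intro x hx
    rw [hHt, Subgroup.mem_comap, QuotientGroup.mk'_apply, (QuotientGroup.eq_one_iff x).2 hx]
    exact Hq.one_mem
  have hcardHt : Nat.card Ht = n * Nat.card N := by
    have h1 : Nat.card {x : G // (x : G ⧸ N) ^ n = 1} =
        Nat.card {y : G ⧸ N // y ^ n = 1} * Nat.card N :=
      card_preimage_quot N {y : G ⧸ N | y ^ n = 1}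
    rw [← hT, ← h1]
    apply Nat.card_congr
    apply Equiv.subtypeEquivRight
    intro x
    rw [hHt, Subgroup.mem_comap]
    exact hmemq _
  -- Schur–Zassenhaus inside `Ht`
  have hNn' : (N.subgroupOf Ht).Normal := inferInstance
  have hcardN' : Nat.card (N.subgroupOf Ht) = Nat.card N :=
    Nat.card_congr (Subgroup.subgroupOfEquivOfLe hNle).toEquiv
  have hidx : (N.subgroupOf Ht).index = n := by
    have h1 := Subgroup.card_mul_index (N.subgroupOf Ht)
    rw [hcardN', hcardHt, mul_comm] at h1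
    exact Nat.eq_of_mul_eq_mul_right Nat.card_pos h1
  have hcopN : Nat.Coprime (Nat.card (N.subgroupOf Ht)) (N.subgroupOf Ht).index := by
    rw [hcardN', hidx, ha]
    exact Nat.Coprime.pow_left a hcop
  obtain ⟨K', hK'⟩ := Subgroup.exists_right_complement'_of_coprime hcopN
  have hcardK' : Nat.card K' = n := by
    have h1 := hK'.card_mul_card
    rw [hcardN', hcardHt, mul_comm] at h1
    exact Nat.eq_of_mul_eq_mul_right Nat.card_pos h1
  have hcardK : Nat.card (K'.map Ht.subtype) = n := by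
    rw [Subgroup.card_map_of_injective Ht.subtype_injective, hcardK']
  have := frobConj_of_subgroup n (K'.map Ht.subtype)
    (fun x hx => by
      obtain ⟨k, hk, rfl⟩ := Subgroup.mem_map.1 hx
      have h1 : (⟨k, hk⟩ : K') ^ Nat.card K' = 1 := pow_card_eq_one'
      rw [hcardK'] at h1
      have h2 := congrArg (fun z : K' => ((z : Ht) : G)) h1
      simpa using h2)
    (by rw [hcount, hcardK])
  exact ⟨_, this.1, this.2⟩

/-- the Frobenius conjecture for finite solvable groups -/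
theorem frobConj_of_solvable : ∀ (k : ℕ) (G : Type u) [Group G] [Finite G] [Group.IsSolvable G],
    Nat.card G = k → FrobConj G := by
  intro k
  induction k using Nat.strong_induction_on with
  | _ k ih =>
  intro G _ _ _ hk n hn hcount
  by_cases hnt : Nontrivial G
  · obtain ⟨p, hp, N, hNn, hNbot, hNp, _, hNexp⟩ :=
      Cfsg.Agent.Helper1.exists_normal_pgroup_of_solvable G
    obtain ⟨a, ha⟩ := (IsPGroup.iff_card).1 hNp
    have ha0 : a ≠ 0 := by
      rintro rfl
      rw [pow_zero] at ha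
      exact hNbot (Subgroup.card_eq_one.1 ha)
    have hcardG : Nat.card G = Nat.card (G ⧸ N) * Nat.card N :=
      Subgroup.card_eq_card_quotient_mul_card_subgroup N
    have hlt : Nat.card (G ⧸ N) < k := by
      rw [← hk, hcardG]
      have h1 : 1 < Nat.card N := by
        rw [ha]; exact Nat.one_lt_pow ha0 hp.out.one_lt
      have h2 : 0 < Nat.card (G ⧸ N) := Nat.card_pos
      nlinarith
    have IHq : FrobConj (G ⧸ N) := ih _ hlt (G ⧸ N) rfl
    by_cases hpn : p ∣ n
    · obtain ⟨n₁, hn₁⟩ := hpn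
      exact frobConj_step_dvd p N a ha ha0 hNexp IHq n n₁ hn₁ hn hcount
    · exact frobConj_step_coprime p N a ha hNexp IHq n hpn hn hcount
  · rw [not_nontrivial_iff_subsingleton] at hnt
    refine ⟨⊤, inferInstance, ?_⟩
    ext x
    simp only [Subgroup.coe_top, Set.mem_univ, Set.mem_ofPred_eq, true_iff]
    rw [Subsingleton.elim x 1, one_pow]

end Cfsg.Agent.Helper4
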