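import Mathlib
import Cfsg.Agent.Helper1.Coprime
import Cfsg.Agent.Helper1.AbelianAct
import Cfsg.Agent.Lead.WielandtC

/-!
S4306, Lemma R, step 4 ("C1"): pure group theory.

`K` an `s`-group with central commutators, `A` a non-cyclic elementary abelian `r`-group acting
faithfully on `K`, `y` of prime order `q` normalising both and acting irreducibly on `A`:
then `K` contains a non-trivial `y`-invariant subgroup on which `y` has no fixed points.
-/

set_option autoImplicit false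

namespace Cfsg.Agent.Helper4.FrobR

open scoped Pointwise commutatorElement
open Cfsg.Agent.Helper1

variable {E : Type*} [Group E]

/-- if `[v, k]` is central and `a` commutes with `v`, then `v` commutes with `[k, a]`. -/
theorem commute_commutator_of_central {v k a : E}
    (hz : v * k * v⁻¹ * k⁻¹ ∈ Subgroup.center E) (hva : a * v = v * a) :
    v * (k * a * k⁻¹ * a⁻¹) = (k * a * k⁻¹ * a⁻¹) * v := by
  obtain ⟨z, hzdef⟩ : ∃ z : E, z = v * k * v⁻¹ * k⁻¹ := ⟨_, rfl⟩
  rw [← hzdef] at hz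
  have hzc : ∀ g : E, g * z = z * g := fun g => Subgroup.mem_center_iff.1 hz g
  have h1 : v * k * v⁻¹ = z * k := by rw [hzdef]; group
  have h2 : v * a * v⁻¹ = a := by rw [← hva]; group
  have hza : z * a * z⁻¹ = a := by rw [← hzc a]; group
  have h3 : v * (k * a * k⁻¹ * a⁻¹) * v⁻¹ = k * a * k⁻¹ * a⁻¹ := by
    calc v * (k * a * k⁻¹ * a⁻¹) * v⁻¹
        = (v * k * v⁻¹) * (v * a * v⁻¹) * (v * k * v⁻¹)⁻¹ * (v * a * v⁻¹)⁻¹ := by group
      _ = (z * k) * a * (z * k)⁻¹ * a⁻¹ := by rw [h1, h2]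
      _ = (k * z) * a * (k * z)⁻¹ * a⁻¹ := by rw [hzc k]
      _ = k * (z * a * z⁻¹) * k⁻¹ * a⁻¹ := by group
      _ = k * a * k⁻¹ * a⁻¹ := by rw [hza]
  calc v * (k * a * k⁻¹ * a⁻¹) = (v * (k * a * k⁻¹ * a⁻¹) * v⁻¹) * v := by group
    _ = (k * a * k⁻¹ * a⁻¹) * v := by rw [h3]

/-- the centraliser of `v ∈ K` contains `[K', S]` for `K' ≤ K` and `S` commuting with `v`. -/
theorem commutator_le_centralizer_of_central {K : Subgroup E}
    (hcen : ∀ u ∈ K, ∀ w ∈ K, u * w * u⁻¹ * w⁻¹ ∈ Subgroup.center E)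
    {v : E} (hv : v ∈ K) (K' S : Subgroup E) (hK' : K' ≤ K) (hS : ∀ a ∈ S, a * v = v * a) :
    ⁅K', S⁆ ≤ Subgroup.centralizer {v} := by
  rw [Subgroup.commutator_le]
  intro k hk a ha
  rw [Subgroup.mem_centralizer_iff]
  intro h hh
  rw [Set.mem_singleton_iff] at hh
  subst hh
  rw [commutatorElement_def]
  exact commute_commutator_of_central (hcen h hv k (hK' hk)) (hS a ha)

/-- `A` abelian normalising `K` normalises `C_K(B)` for `B ≤ A`. -/
theorem le_normalizer_cK {K A B : Subgroup E}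
    (hAcomm : ∀ a ∈ A, ∀ b ∈ A, a * b = b * a) (hAK : A ≤ Subgroup.normalizer (K : Set E))
    (hBA : B ≤ A) :
    A ≤ Subgroup.normalizer ((K ⊓ Subgroup.centralizer (B : Set E) : Subgroup E) : Set E) := by
  have key : ∀ a ∈ A, ∀ u ∈ K ⊓ Subgroup.centralizer (B : Set E),
      a * u * a⁻¹ ∈ K ⊓ Subgroup.centralizer (B : Set E) := by
    intro a ha u hu
    have hu' := Subgroup.mem_inf.1 hu
    refine Subgroup.mem_inf.2 ⟨(Subgroup.mem_normalizer_iff.1 (hAK ha) u).1 hu'.1, ?_⟩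
    rw [Subgroup.mem_centralizer_iff]
    intro b hb
    have h1 : b * u = u * b := Subgroup.mem_centralizer_iff.1 hu'.2 b hb
    have h2 : a * b = b * a := hAcomm a ha b (hBA hb)
    have h2' : b * a⁻¹ = a⁻¹ * b := by
      calc b * a⁻¹ = a⁻¹ * (a * b) * a⁻¹ := by group
        _ = a⁻¹ * (b * a) * a⁻¹ := by rw [h2]
        _ = a⁻¹ * b := by group
    calc b * (a * u * a⁻¹) = (b * a) * u * a⁻¹ := by group
      _ = (a * b) * u * a⁻¹ := by rw [h2]
      _ = a * (b * u) * a⁻¹ := by group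
      _ = a * (u * b) * a⁻¹ := by rw [h1]
      _ = a * u * (b * a⁻¹) := by group
      _ = a * u * (a⁻¹ * b) := by rw [h2']
      _ = a * u * a⁻¹ * b := by group
  intro a ha
  rw [Subgroup.mem_normalizer_iff]
  intro u
  constructor
  · exact key a ha u
  · intro h
    have := key a⁻¹ (A.inv_mem ha) _ h
    have e : a⁻¹ * (a * u * a⁻¹) * a⁻¹⁻¹ = u := by group
    rwa [e] at this

/-- `C_K(B ⊔ B') = C_K(B) ⊓ C_K(B')`. -/
theorem cK_sup (K B B' : Subgroup E) :
    K ⊓ Subgroup.centralizer ((B ⊔ B' : Subgroup E) : Set E)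
      = (K ⊓ Subgroup.centralizer (B : Set E)) ⊓ (K ⊓ Subgroup.centralizer (B' : Set E)) := by
  apply le_antisymm
  · intro x hx
    obtain ⟨hxK, hxc⟩ := Subgroup.mem_inf.1 hx
    exact Subgroup.mem_inf.2 ⟨Subgroup.mem_inf.2 ⟨hxK, Subgroup.centralizer_le
        (show (B : Set E) ⊆ ((B ⊔ B' : Subgroup E) : Set E) from
        fun b hb => (le_sup_left : B ≤ B ⊔ B') hb) hxc⟩,
      Subgroup.mem_inf.2 ⟨hxK, Subgroup.centralizer_le
        (show (B' : Set E) ⊆ ((B ⊔ B' : Subgroup E) : Set E) from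
        fun b hb => (le_sup_right : B' ≤ B ⊔ B') hb) hxc⟩⟩
  · intro x hx
    obtain ⟨hx1', hx2'⟩ := Subgroup.mem_inf.1 hx
    obtain ⟨hxK, hx1⟩ := Subgroup.mem_inf.1 hx1'
    obtain ⟨-, hx2⟩ := Subgroup.mem_inf.1 hx2'
    refine Subgroup.mem_inf.2 ⟨hxK, ?_⟩
    have h1 : B ⊔ B' ≤ Subgroup.centralizer {x} := by
      apply sup_le
      · intro b hb
        rw [Subgroup.mem_centralizer_iff]
        intro h hh
        rw [Set.mem_singleton_iff] at hh
        subst hh
        exact (Subgroup.mem_centralizer_iff.1 hx1 b hb).symm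
      · intro b hb
        rw [Subgroup.mem_centralizer_iff]
        intro h hh
        rw [Set.mem_singleton_iff] at hh
        subst hh
        exact (Subgroup.mem_centralizer_iff.1 hx2 b hb).symm
    rw [Subgroup.mem_centralizer_iff]
    intro b hb
    exact (Subgroup.mem_centralizer_iff.1 (h1 hb) x rfl).symm

/-- conjugating `C_K(B)` by an element normalising `K`. -/
theorem mem_cK_conj {K B : Subgroup E} {z : E} (hz : z ∈ Subgroup.normalizer (K : Set E))
    {u : E} (hu : u ∈ K ⊓ Subgroup.centralizer (B : Set E)) :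
    z * u * z⁻¹ ∈ K ⊓ Subgroup.centralizer ((MulAut.conj z • B : Subgroup E) : Set E) := by
  have hu' := Subgroup.mem_inf.1 hu
  refine Subgroup.mem_inf.2 ⟨(Subgroup.mem_normalizer_iff.1 hz u).1 hu'.1, ?_⟩
  rw [Subgroup.mem_centralizer_iff]
  intro b hb
  have hb' : z⁻¹ * b * z ∈ B := mem_conj_smul.1 hb
  have h1 : (z⁻¹ * b * z) * u = u * (z⁻¹ * b * z) := Subgroup.mem_centralizer_iff.1 hu'.2 _ hb'
  calc b * (z * u * z⁻¹) = z * ((z⁻¹ * b * z) * u) * z⁻¹ := by group
    _ = z * (u * (z⁻¹ * b * z)) * z⁻¹ := by rw [h1]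
    _ = z * u * z⁻¹ * b := by group

end Cfsg.Agent.Helper4.FrobR
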