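import Mathlib
import Cfsg.Agent.Helper4.FrobRA

/-!
S4306, Lemma R, step 4 ("C1"), continued: the existence statement.
-/

set_option autoImplicit false

namespace Cfsg.Agent.Helper4.FrobR

open scoped Pointwise commutatorElement
open Cfsg.Agent.Helper1 Cfsg.Agent.Lead

variable {E : Type*} [Group E]

theorem centralizer_zpowers_eq (b : E) :
    Subgroup.centralizer ((Subgroup.zpowers b : Subgroup E) : Set E) = Subgroup.centralizer {b} := by
  rw [Subgroup.zpowers_eq_closure, Subgroup.centralizer_closure]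

/-- step (a): some non-identity element of `A` has more fixed points than `A`. -/
theorem exists_centralizer_ne [Finite E] {r : ℕ} (hr : r.Prime) (K A : Subgroup E)
    (hcop : r.Coprime (Nat.card K))
    (hAcomm : ∀ a ∈ A, ∀ b ∈ A, a * b = b * a) (hAexp : ∀ a ∈ A, a ^ r = 1)
    (hAK : A ≤ Subgroup.normalizer (K : Set E))
    (hfaith : ∀ a ∈ A, (∀ u ∈ K, a * u * a⁻¹ = u) → a = 1)
    (hnc : ∀ a ∈ A, ∃ b ∈ A, b ∉ Subgroup.zpowers a) :
    ∃ b ∈ A, b ≠ 1 ∧
      K ⊓ Subgroup.centralizer {b} ≠ K ⊓ Subgroup.centralizer (A : Set E) := by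
  by_contra hcon
  push Not at hcon
  obtain ⟨a, haA, ha1⟩ := hnc 1 A.one_mem
  have ha_ne : a ≠ 1 := fun h => ha1 (by rw [h]; exact Subgroup.one_mem _)
  obtain ⟨b, hbA, hb⟩ := hnc a haA
  have hyp : WielandtB.Hyp r a b K :=
    ⟨hAcomm a haA b hbA, hAexp a haA, hAexp b hbA, hAK haA, hAK hbA, hcop⟩
  have hf : Nat.card K * Nat.card (K ⊓ Subgroup.centralizer {a, b} : Subgroup E) ^ r
      = Nat.card (K ⊓ Subgroup.centralizer {a} : Subgroup E)
        * ∏ i ∈ Finset.range r, Nat.card (K ⊓ Subgroup.centralizer {a ^ i * b} : Subgroup E) :=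
    WielandtC.wielandt_formula hr a b K hyp
  have h1 : K ⊓ Subgroup.centralizer {a} = K ⊓ Subgroup.centralizer (A : Set E) :=
    hcon a haA ha_ne
  have h2 : ∀ i : ℕ, K ⊓ Subgroup.centralizer {a ^ i * b}
      = K ⊓ Subgroup.centralizer (A : Set E) := by
    intro i
    apply hcon _ (A.mul_mem (A.pow_mem haA i) hbA)
    intro h
    apply hb
    have : b = (a ^ i)⁻¹ := by
      calc b = (a ^ i)⁻¹ * (a ^ i * b) := by group
        _ = (a ^ i)⁻¹ := by rw [h, mul_one]
    rw [this]
    exact Subgroup.inv_mem _ (Subgroup.pow_mem _ (Subgroup.mem_zpowers a) i)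
  have h3 : K ⊓ Subgroup.centralizer {a, b} = K ⊓ Subgroup.centralizer (A : Set E) := by
    apply le_antisymm
    · rw [← h1]
      exact inf_le_inf_left K (Subgroup.centralizer_le (by
        intro x hx
        rw [Set.mem_singleton_iff] at hx
        rw [hx]
        exact Set.mem_insert _ _))
    · exact inf_le_inf_left K (Subgroup.centralizer_le (by
        intro x hx
        rcases hx with hx | hx
        · rw [hx]; exact haA
        · rw [Set.mem_singleton_iff] at hx
          rw [hx]; exact hbA))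
  rw [h1, h3, Finset.prod_congr rfl (fun i _ => by rw [h2 i]), Finset.prod_const,
    Finset.card_range] at hf
  have hpos : 0 < Nat.card (K ⊓ Subgroup.centralizer (A : Set E) : Subgroup E) := Nat.card_pos
  have hcard : Nat.card K = Nat.card (K ⊓ Subgroup.centralizer (A : Set E) : Subgroup E) :=
    Nat.eq_of_mul_eq_mul_right (pow_pos hpos r) hf
  have heq : K ⊓ Subgroup.centralizer (A : Set E) = K :=
    Subgroup.eq_of_le_of_card_ge inf_le_left hcard.le
  apply ha_ne
  apply hfaith a haA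
  intro u hu
  have hu' : u ∈ K ⊓ Subgroup.centralizer (A : Set E) := by rw [heq]; exact hu
  have := Subgroup.mem_centralizer_iff.1 (Subgroup.mem_inf.1 hu').2 a haA
  rw [this]; group

/-- step (c): commutation from `C_K(B B') = C_K(A)`. -/
theorem commute_of_cK_sup [Finite E] (K A B B' : Subgroup E)
    (hcen : ∀ u ∈ K, ∀ w ∈ K, u * w * u⁻¹ * w⁻¹ ∈ Subgroup.center E)
    (hAcomm : ∀ a ∈ A, ∀ b ∈ A, a * b = b * a) (hAK : A ≤ Subgroup.normalizer (K : Set E))
    (hBA : B ≤ A) (hB'A : B' ≤ A)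
    (hcop : (Nat.card B).Coprime
      (Nat.card (K ⊓ Subgroup.centralizer (B' : Set E) : Subgroup E)))
    (hsup : K ⊓ Subgroup.centralizer ((B ⊔ B' : Subgroup E) : Set E)
      = K ⊓ Subgroup.centralizer (A : Set E))
    {u w : E} (hu : u ∈ ⁅K ⊓ Subgroup.centralizer (B : Set E), A⁆)
    (hw : w ∈ K ⊓ Subgroup.centralizer (B' : Set E)) : u * w = w * u := by
  have hnCB : A ≤ Subgroup.normalizer
      ((K ⊓ Subgroup.centralizer (B : Set E) : Subgroup E) : Set E) :=
    le_normalizer_cK hAcomm hAK hBA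
  have hnCB' : A ≤ Subgroup.normalizer
      ((K ⊓ Subgroup.centralizer (B' : Set E) : Subgroup E) : Set E) :=
    le_normalizer_cK hAcomm hAK hB'A
  have huCB : u ∈ K ⊓ Subgroup.centralizer (B : Set E) :=
    (Subgroup.le_normalizer_iff_commutator_le_left.1 hnCB) hu
  obtain ⟨huK, huB⟩ := Subgroup.mem_inf.1 huCB
  have huKA : u ∈ ⁅K, A⁆ := Subgroup.commutator_mono inf_le_left le_rfl hu
  have hBsolv : Group.IsSolvable B :=
    Group.isSolvable_of_comm (fun a b => Subtype.ext (hAcomm a (hBA a.2) b (hBA b.2)))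
  have hdec := coprime_commutator_sup_centralizer B
    (K ⊓ Subgroup.centralizer (B' : Set E)) (hBA.trans hnCB') hcop (Or.inl hBsolv)
  have h1 : ⁅K ⊓ Subgroup.centralizer (B' : Set E), B⁆ ≤ Subgroup.centralizer {u} :=
    commutator_le_centralizer_of_central hcen huK _ B inf_le_left
      (fun b hb => Subgroup.mem_centralizer_iff.1 huB b hb)
  have h2 : (K ⊓ Subgroup.centralizer (B' : Set E)) ⊓ Subgroup.centralizer (B : Set E)
      ≤ Subgroup.centralizer {u} := by
    intro v hv
    have hv0 : v ∈ K ⊓ Subgroup.centralizer (A : Set E) := by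
      rw [← hsup, cK_sup]
      obtain ⟨hv1, hv2⟩ := Subgroup.mem_inf.1 hv
      exact Subgroup.mem_inf.2 ⟨Subgroup.mem_inf.2 ⟨(Subgroup.mem_inf.1 hv1).1, hv2⟩, hv1⟩
    obtain ⟨hvK, hvA⟩ := Subgroup.mem_inf.1 hv0
    have h3 : ⁅K, A⁆ ≤ Subgroup.centralizer {v} :=
      commutator_le_centralizer_of_central hcen hvK K A le_rfl
        (fun a ha => Subgroup.mem_centralizer_iff.1 hvA a ha)
    have h4 := Subgroup.mem_centralizer_iff.1 (h3 huKA) v rfl
    rw [Subgroup.mem_centralizer_iff]
    intro h hh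
    rw [Set.mem_singleton_iff] at hh
    subst hh
    exact h4.symm
  have hw' : w ∈ Subgroup.centralizer {u} := by
    have : w ∈ ⁅K ⊓ Subgroup.centralizer (B' : Set E), B⁆
        ⊔ ((K ⊓ Subgroup.centralizer (B' : Set E)) ⊓ Subgroup.centralizer (B : Set E)) := by
      rw [hdec]; exact hw
    exact (sup_le h1 h2) this
  exact Subgroup.mem_centralizer_iff.1 hw' u rfl

end Cfsg.Agent.Helper4.FrobR
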