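import Mathlib
import Cfsg.Agent.Helper4.FrobRB

/-!
S4306, Lemma R, step 4 ("C1"): the existence statement.
-/

set_option autoImplicit false
set_option linter.style.haveILetI false

namespace Cfsg.Agent.Helper4.FrobR

open scoped Pointwise commutatorElement
open Cfsg.Agent.Helper1 Cfsg.Agent.Lead

variable {E : Type*} [Group E]

/-- **Lemma R, case C1** (group-theoretic core).  `K` an `s`-group whose commutators are central
in `E`, `A` a non-cyclic elementary abelian `r`-group normalising `K` and acting faithfully on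
it, `y` with `y ^ q = 1` normalising `K` and `A` and leaving no proper non-trivial subgroup of
`A` invariant.  Then `K` has a non-trivial `y`-invariant subgroup on which `y` acts without
fixed points. -/
theorem exists_fpf_subgroup [Finite E] {s r q : ℕ} (hs : s.Prime) (hr : r.Prime) (hq : q.Prime)
    (hsr : s ≠ r) (hsq : s ≠ q)
    (K A : Subgroup E) (hK : IsPGroup s K)
    (hAcomm : ∀ a ∈ A, ∀ b ∈ A, a * b = b * a) (hAexp : ∀ a ∈ A, a ^ r = 1)
    (y : E) (hyq : y ^ q = 1)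
    (hyK : y ∈ Subgroup.normalizer (K : Set E)) (hyA : y ∈ Subgroup.normalizer (A : Set E))
    (hAK : A ≤ Subgroup.normalizer (K : Set E))
    (hcen : ∀ u ∈ K, ∀ w ∈ K, u * w * u⁻¹ * w⁻¹ ∈ Subgroup.center E)
    (hfaith : ∀ a ∈ A, (∀ u ∈ K, a * u * a⁻¹ = u) → a = 1)
    (hirr : ∀ B : Subgroup E, B ≤ A → (∀ b ∈ B, y * b * y⁻¹ ∈ B) → B = ⊥ ∨ B = A)
    (hnc : ∀ a ∈ A, ∃ b ∈ A, b ∉ Subgroup.zpowers a) :
    ∃ X : Subgroup E, X ≤ K ∧ X ≠ ⊥ ∧ (∀ a ∈ X, ∀ b ∈ X, a * b = b * a) ∧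
      y ∈ Subgroup.normalizer (X : Set E) ∧ ∀ u ∈ X, y * u * y⁻¹ = u → u = 1 := by
  haveI : Fact s.Prime := ⟨hs⟩
  haveI : Fact r.Prime := ⟨hr⟩
  haveI : Fact q.Prime := ⟨hq⟩
  have hAr : ∀ B : Subgroup E, B ≤ A → IsPGroup r B := fun B hBA g =>
    ⟨1, by ext; simpa using hAexp g (hBA g.2)⟩
  have hcop : ∀ B L : Subgroup E, B ≤ A → L ≤ K → (Nat.card B).Coprime (Nat.card L) :=
    fun B L hB hL =>
      IsPGroup.coprime_card_of_ne r s (Ne.symm hsr) B L (hAr B hB) (hK.to_le hL)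
  have hcopK : r.Coprime (Nat.card K) := by
    obtain ⟨n, hn⟩ := IsPGroup.iff_card.1 hK
    rw [hn]
    exact Nat.Coprime.pow_right n ((Nat.coprime_primes hr hs).2 (Ne.symm hsr))
  obtain ⟨b, hbA, hb1, hbC⟩ :=
    exists_centralizer_ne hr K A hcopK hAcomm hAexp hAK hfaith hnc
  -- the family of subgroups of `A` with more fixed points than `A`
  obtain ⟨𝓑, h𝓑⟩ : ∃ 𝓑 : Set (Subgroup E), 𝓑 = {B | B ≤ A ∧
      K ⊓ Subgroup.centralizer (B : Set E) ≠ K ⊓ Subgroup.centralizer (A : Set E)} := ⟨_, rfl⟩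
  have hfin : 𝓑.Finite := Set.toFinite _
  have hzb : Subgroup.zpowers b ∈ 𝓑 := by
    rw [h𝓑]
    refine ⟨(Subgroup.zpowers_le).2 hbA, ?_⟩
    rw [centralizer_zpowers_eq]
    exact hbC
  obtain ⟨B, hBmem, hBm⟩ := hfin.exists_maximal ⟨_, hzb⟩
  have hBmem' := hBmem
  rw [h𝓑] at hBmem'
  obtain ⟨hBA, hBC⟩ := hBmem'
  have hBbot : B ≠ ⊥ := by
    intro h
    have h1 : Subgroup.zpowers b ≤ B := hBm hzb (by rw [h]; exact bot_le)
    rw [h] at h1
    exact hb1 (Subgroup.mem_bot.1 (h1 (Subgroup.mem_zpowers b)))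
  have hBneA : B ≠ A := by
    intro h
    rw [h] at hBC
    exact hBC rfl
  have hyB : y ∉ Subgroup.normalizer (B : Set E) := by
    intro h
    rcases hirr B hBA (fun b hb => (Subgroup.mem_normalizer_iff.1 h b).1 hb) with h | h
    exacts [hBbot h, hBneA h]
  have hZK : Subgroup.zpowers y ≤ Subgroup.normalizer (K : Set E) := (Subgroup.zpowers_le).2 hyK
  have hZA : Subgroup.zpowers y ≤ Subgroup.normalizer (A : Set E) := (Subgroup.zpowers_le).2 hyA
  have hZq : Nat.card (Subgroup.zpowers y) ∣ q := by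
    rw [Nat.card_zpowers]; exact orderOf_dvd_of_pow_eq_one hyq
  -- the stabiliser of `B` in `⟨y⟩` is trivial
  have hstab : ∀ z ∈ Subgroup.zpowers y, z ∈ Subgroup.normalizer (B : Set E) → z = 1 := by
    intro z hz hzB
    have hSle : Subgroup.zpowers y ⊓ Subgroup.normalizer (B : Set E) ≤ Subgroup.zpowers y :=
      inf_le_left
    have hdvd : Nat.card (Subgroup.zpowers y ⊓ Subgroup.normalizer (B : Set E) : Subgroup E) ∣ q :=
      (Subgroup.card_dvd_of_le hSle).trans hZq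
    have hzS : z ∈ Subgroup.zpowers y ⊓ Subgroup.normalizer (B : Set E) :=
      Subgroup.mem_inf.2 ⟨hz, hzB⟩
    rcases (Nat.dvd_prime hq).1 hdvd with h1 | h1
    · rw [Subgroup.card_eq_one.1 h1] at hzS
      exact Subgroup.mem_bot.1 hzS
    · exfalso
      have hle : Nat.card (Subgroup.zpowers y)
          ≤ Nat.card (Subgroup.zpowers y ⊓ Subgroup.normalizer (B : Set E) : Subgroup E) := by
        rw [h1]; exact Nat.le_of_dvd hq.pos hZq
      have heq := Subgroup.eq_of_le_of_card_ge hSle hle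
      have hyS : y ∈ Subgroup.zpowers y ⊓ Subgroup.normalizer (B : Set E) := by
        rw [heq]; exact Subgroup.mem_zpowers y
      exact hyB (Subgroup.mem_inf.1 hyS).2
  have hconjA : ∀ z ∈ Subgroup.zpowers y, MulAut.conj z • B ≤ A := by
    intro z hz x hx
    have hx' : z⁻¹ * x * z ∈ B := mem_conj_smul.1 hx
    have h1 := (Subgroup.mem_normalizer_iff.1 (hZA hz) (z⁻¹ * x * z)).1 (hBA hx')
    have e : z * (z⁻¹ * x * z) * z⁻¹ = x := by group
    rwa [e] at h1
  have hconj_ne : ∀ z ∈ Subgroup.zpowers y, z ≠ 1 → MulAut.conj z • B ≠ B := by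
    intro z hz hz1 h
    exact hz1 (hstab z hz (mem_normalizer_of_conj_smul_eq h))
  have hsup : ∀ z ∈ Subgroup.zpowers y, z ≠ 1 →
      K ⊓ Subgroup.centralizer ((B ⊔ MulAut.conj z • B : Subgroup E) : Set E)
        = K ⊓ Subgroup.centralizer (A : Set E) := by
    intro z hz hz1
    by_contra hne
    have hmem : B ⊔ MulAut.conj z • B ∈ 𝓑 := by
      rw [h𝓑]; exact ⟨sup_le hBA (hconjA z hz), hne⟩
    have hle := hBm hmem le_sup_left
    have h2 : MulAut.conj z • B ≤ B := le_sup_right.trans hle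
    have h3 : MulAut.conj z • B = B :=
      Subgroup.eq_of_le_of_card_ge h2 (by rw [card_conj_smul])
    exact hconj_ne z hz hz1 h3
  -- `X₀ = [C_K(B), A]`
  have hnCB : A ≤ Subgroup.normalizer
      ((K ⊓ Subgroup.centralizer (B : Set E) : Subgroup E) : Set E) :=
    le_normalizer_cK hAcomm hAK hBA
  have hX₀CB : ⁅K ⊓ Subgroup.centralizer (B : Set E), A⁆ ≤ K ⊓ Subgroup.centralizer (B : Set E) :=
    Subgroup.le_normalizer_iff_commutator_le_left.1 hnCB
  have hC₀CB : K ⊓ Subgroup.centralizer (A : Set E) ≤ K ⊓ Subgroup.centralizer (B : Set E) :=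
    inf_le_inf_left K (Subgroup.centralizer_le hBA)
  have hX₀ne : ⁅K ⊓ Subgroup.centralizer (B : Set E), A⁆ ≠ ⊥ := by
    intro h
    have h1 : K ⊓ Subgroup.centralizer (B : Set E) ≤ Subgroup.centralizer (A : Set E) :=
      Subgroup.commutator_eq_bot_iff_le_centralizer.1 h
    exact hBC (le_antisymm (le_inf inf_le_left h1) hC₀CB)
  have hcomm : ∀ z ∈ Subgroup.zpowers y, z ≠ 1 →
      ∀ u ∈ ⁅K ⊓ Subgroup.centralizer (B : Set E), A⁆,
      ∀ w ∈ K ⊓ Subgroup.centralizer (B : Set E),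
        u * (z * w * z⁻¹) = (z * w * z⁻¹) * u := by
    intro z hz hz1 u hu w hw
    exact commute_of_cK_sup K A B (MulAut.conj z • B) hcen hAcomm hAK hBA (hconjA z hz)
      (hcop B _ hBA inf_le_left) (hsup z hz hz1) hu (mem_cK_conj (hZK hz) hw)
  have hAsolv : Group.IsSolvable A :=
    Group.isSolvable_of_comm (fun a b => Subtype.ext (hAcomm a a.2 b b.2))
  -- an element of `X₀` moved by `y`
  have hexg : ∃ g ∈ ⁅K ⊓ Subgroup.centralizer (B : Set E), A⁆, y * g * y⁻¹ ≠ g := by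
    by_contra hcon
    push Not at hcon
    have hy1 : y ≠ 1 := fun h => hyB (by rw [h]; exact Subgroup.one_mem _)
    have hyZ : y ∈ Subgroup.zpowers y := Subgroup.mem_zpowers y
    have hle : ⁅K ⊓ Subgroup.centralizer (B : Set E), A⁆
        ≤ K ⊓ Subgroup.centralizer (A : Set E) := by
      intro g hg
      have hgCB := hX₀CB hg
      have hg' : g ∈ K ⊓ Subgroup.centralizer ((MulAut.conj y • B : Subgroup E) : Set E) := by
        have := mem_cK_conj (B := B) hyK hgCB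
        rwa [hcon g hg] at this
      rw [← hsup y hyZ hy1, cK_sup]
      exact Subgroup.mem_inf.2 ⟨hgCB, hg'⟩
    have h1 : ⁅⁅K ⊓ Subgroup.centralizer (B : Set E), A⁆, A⁆ = ⊥ :=
      Subgroup.commutator_eq_bot_iff_le_centralizer.2 (hle.trans inf_le_right)
    have h2 := coprime_commutator_commutator A (K ⊓ Subgroup.centralizer (B : Set E)) hnCB
      (hcop A _ le_rfl inf_le_left) (Or.inl hAsolv)
    rw [h1] at h2
    exact hX₀ne h2.symm
  obtain ⟨g, hgX, hgy⟩ := hexg
  have hgCB := hX₀CB hgX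
  have hgK : g ∈ K := (Subgroup.mem_inf.1 hgCB).1
  -- the subgroup generated by the conjugates of `g`
  obtain ⟨S, hS⟩ : ∃ S : Set E, S = {x | ∃ z ∈ Subgroup.zpowers y, x = z * g * z⁻¹} := ⟨_, rfl⟩
  have hSK : S ⊆ K := by
    rw [hS]
    rintro _ ⟨z, hz, rfl⟩
    exact (Subgroup.mem_normalizer_iff.1 (hZK hz) g).1 hgK
  have hXK : Subgroup.closure S ≤ K := (Subgroup.closure_le K).2 hSK
  have hScomm : ∀ x ∈ S, ∀ x' ∈ S, x * x' = x' * x := by
    rw [hS]
    rintro _ ⟨z₁, hz₁, rfl⟩ _ ⟨z₂, hz₂, rfl⟩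
    by_cases h : z₁⁻¹ * z₂ = 1
    · have : z₂ = z₁ := by
        calc z₂ = z₁ * (z₁⁻¹ * z₂) := by group
          _ = z₁ := by rw [h, mul_one]
      rw [this]
    · have key := hcomm (z₁⁻¹ * z₂)
        (Subgroup.mul_mem _ (Subgroup.inv_mem _ hz₁) hz₂) h g hgX g hgCB
      calc z₁ * g * z₁⁻¹ * (z₂ * g * z₂⁻¹)
          = z₁ * (g * ((z₁⁻¹ * z₂) * g * (z₁⁻¹ * z₂)⁻¹)) * z₁⁻¹ := by group
        _ = z₁ * (((z₁⁻¹ * z₂) * g * (z₁⁻¹ * z₂)⁻¹) * g) * z₁⁻¹ := by rw [key]
        _ = z₂ * g * z₂⁻¹ * (z₁ * g * z₁⁻¹) := by group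
  have hXcomm : ∀ x ∈ Subgroup.closure S, ∀ x' ∈ Subgroup.closure S, x * x' = x' * x := by
    have h1 : Subgroup.closure S ≤ Subgroup.centralizer S := by
      rw [Subgroup.closure_le]
      intro x hx
      rw [SetLike.mem_coe, Subgroup.mem_centralizer_iff]
      intro x' hx'
      exact hScomm x' hx' x hx
    have h2 : Subgroup.closure S ≤ Subgroup.centralizer ((Subgroup.closure S : Subgroup E) : Set E) := by
      rw [Subgroup.centralizer_closure]
      exact h1
    intro x hx x' hx'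
    exact (Subgroup.mem_centralizer_iff.1 (h2 hx') x hx)
  haveI : IsMulCommutative (Subgroup.closure S) :=
    ⟨⟨fun a b => Subtype.ext (hXcomm a a.2 b b.2)⟩⟩
  have hyX : Subgroup.zpowers y ≤ Subgroup.normalizer ((Subgroup.closure S : Subgroup E) : Set E) := by
    rw [Subgroup.zpowers_le]
    apply mem_normalizer_of_conj_smul_eq
    rw [conj_smul_eq_map, MonoidHom.map_closure]
    congr 1
    rw [hS]
    ext x
    constructor
    · rintro ⟨_, ⟨z, hz, rfl⟩, rfl⟩
      refine ⟨y * z, Subgroup.mul_mem _ (Subgroup.mem_zpowers y) hz, ?_⟩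
      simp only [MulEquiv.coe_toMonoidHom, MulAut.conj_apply]
      group
    · rintro ⟨z, hz, rfl⟩
      refine ⟨(y⁻¹ * z) * g * (y⁻¹ * z)⁻¹,
        ⟨y⁻¹ * z, Subgroup.mul_mem _ (Subgroup.inv_mem _ (Subgroup.mem_zpowers y)) hz, rfl⟩, ?_⟩
      simp only [MulEquiv.coe_toMonoidHom, MulAut.conj_apply]
      group
  have hcopyX : (Nat.card (Subgroup.zpowers y)).Coprime (Nat.card (Subgroup.closure S)) := by
    obtain ⟨n, hn⟩ := IsPGroup.iff_card.1 (hK.to_le hXK)
    rw [hn]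
    apply Nat.Coprime.pow_right
    apply Nat.Coprime.coprime_dvd_left hZq
    exact (Nat.coprime_primes hq hs).2 (Ne.symm hsq)
  obtain ⟨hdisj, -⟩ := abelian_coprime_decomp (Subgroup.zpowers y) (Subgroup.closure S) hyX hcopyX
  have hcomle : ⁅Subgroup.closure S, Subgroup.zpowers y⁆ ≤ Subgroup.closure S :=
    Subgroup.le_normalizer_iff_commutator_le_left.1 hyX
  refine ⟨⁅Subgroup.closure S, Subgroup.zpowers y⁆, hcomle.trans hXK, ?_,
    fun a ha b hb => hXcomm a (hcomle ha) b (hcomle hb), ?_, ?_⟩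
  · intro h
    have hgS : g ∈ Subgroup.closure S := by
      apply Subgroup.subset_closure
      rw [hS]
      exact ⟨1, Subgroup.one_mem _, by group⟩
    have h1 : ⁅g, y⁆ ∈ ⁅Subgroup.closure S, Subgroup.zpowers y⁆ :=
      Subgroup.commutator_mem_commutator hgS (Subgroup.mem_zpowers y)
    rw [h, Subgroup.mem_bot, commutatorElement_eq_one_iff_mul_comm] at h1
    apply hgy
    rw [← h1]; group
  · exact Subgroup.normalizer_commutator_ge_right _ _ (Subgroup.mem_zpowers y)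
  · intro u hu huy
    have huX : u ∈ Subgroup.closure S := hcomle hu
    have huc : u ∈ Subgroup.centralizer ((Subgroup.zpowers y : Subgroup E) : Set E) := by
      rw [centralizer_zpowers_eq, Subgroup.mem_centralizer_iff]
      intro h hh
      rw [Set.mem_singleton_iff] at hh
      subst hh
      calc h * u = (h * u * h⁻¹) * h := by group
        _ = u * h := by rw [huy]
    have hmem : u ∈ (Subgroup.closure S ⊓ Subgroup.centralizer
        ((Subgroup.zpowers y : Subgroup E) : Set E)) ⊓ ⁅Subgroup.closure S, Subgroup.zpowers y⁆ :=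
      Subgroup.mem_inf.2 ⟨Subgroup.mem_inf.2 ⟨huX, huc⟩, hu⟩
    rw [hdisj] at hmem
    exact Subgroup.mem_bot.1 hmem

end Cfsg.Agent.Helper4.FrobR
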