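import Mathlib
import Cfsg.Agent.Helper4.FrobRC

/-!
S4306, Lemma R, Part B: the non-cyclic case as a pure group lemma, in the interface fixed in
`notes/S4306_lemmaR_split.md`.
-/

set_option autoImplicit false

namespace Cfsg.Agent.Helper4.FrobRC1

open scoped Pointwise
open Cfsg.Agent.Helper1

theorem exists_fpf_abelian {E : Type*} [Group E] [Finite E] {s r q : ℕ}
    (hs : s.Prime) (hr : r.Prime) (hq : q.Prime) (hsr : s ≠ r) (hsq : s ≠ q) (_hqr : q ≠ r)
    (Q A : Subgroup E) (y : E) (hQ : IsPGroup s Q)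
    (hAc : ∀ a ∈ A, ∀ b ∈ A, a * b = b * a) (hAr : ∀ a ∈ A, a ^ r = 1)
    (hAnc : ∀ a : E, A ≠ Subgroup.zpowers a)
    (hAQ : A ≤ Subgroup.normalizer (Q : Set E)) (hyQ : y ∈ Subgroup.normalizer (Q : Set E))
    (hyA : y ∈ Subgroup.normalizer (A : Set E)) (hyq : y ^ q = 1)
    (hfaithA : ∀ a ∈ A, (∀ g ∈ Q, a * g = g * a) → a = 1)
    (hirrA : ∀ B : Subgroup E, B ≤ A → y ∈ Subgroup.normalizer (B : Set E) → B = ⊥ ∨ B = A)
    (hcen : ∀ g ∈ Q, ∀ h ∈ Q, ∀ e : E, (g * h * g⁻¹ * h⁻¹) * e = e * (g * h * g⁻¹ * h⁻¹)) :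
    ∃ X : Subgroup E, X ≤ Q ∧ X ≠ ⊥ ∧ (∀ a ∈ X, ∀ b ∈ X, a * b = b * a) ∧
      y ∈ Subgroup.normalizer (X : Set E) ∧ ∀ u ∈ X, y * u * y⁻¹ = u → u = 1 := by
  refine FrobR.exists_fpf_subgroup hs hr hq hsr hsq Q A hQ hAc hAr y hyq hyQ hyA hAQ ?_ ?_ ?_ ?_
  · intro u hu w hw
    rw [Subgroup.mem_center_iff]
    intro e
    exact (hcen u hu w hw e).symm
  · intro a ha h
    apply hfaithA a ha
    intro g hg
    calc a * g = (a * g * a⁻¹) * a := by group
      _ = g * a := by rw [h g hg]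
  · intro B hBA hB
    apply hirrA B hBA
    apply mem_normalizer_of_conj_smul_eq
    apply Subgroup.eq_of_le_of_card_ge
    · intro x hx
      have hx' : y⁻¹ * x * y ∈ B := mem_conj_smul.1 hx
      have := hB _ hx'
      have e : y * (y⁻¹ * x * y) * y⁻¹ = x := by group
      rwa [e] at this
    · rw [card_conj_smul]
  · intro a ha
    by_contra hcon
    push Not at hcon
    apply hAnc a
    apply le_antisymm
    · exact hcon
    · exact (Subgroup.zpowers_le).2 ha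

end Cfsg.Agent.Helper4.FrobRC1
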