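import Mathlib
import Cfsg.Agent.Helper1.Basic
import Cfsg.Agent.Helper1.Coprime

/-!
S4306, Lemma R: a minimal `y`-invariant non-trivial subgroup of an `r`-group is elementary
abelian and `y`-irreducible.
-/

set_option autoImplicit false
set_option linter.style.haveILetI false

namespace Cfsg.Agent.Helper4.FrobR

open scoped Pointwise commutatorElement
open Cfsg.Agent.Helper1

variable {E : Type*} [Group E]

/-- conjugation by `y ∈ N(A)` normalises `[A, A]`. -/
theorem mem_normalizer_commutator_self {A : Subgroup E} {y : E}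
    (hy : y ∈ Subgroup.normalizer (A : Set E)) :
    y ∈ Subgroup.normalizer ((⁅A, A⁆ : Subgroup E) : Set E) := by
  apply mem_normalizer_of_conj_smul_eq
  rw [conj_smul_eq_map, Subgroup.map_commutator, ← conj_smul_eq_map,
    conj_smul_eq_of_mem_normalizer hy]

/-- **minimal invariant subgroup**: in a non-trivial `r`-subgroup `T` normalised by `y` there is
a non-trivial `y`-invariant elementary abelian subgroup `A` all of whose `y`-invariant subgroups
are `⊥` or `A`. -/
theorem exists_min_invariant [Finite E] {r : ℕ} (hr : r.Prime) (T : Subgroup E)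
    (hT : IsPGroup r T) (hT1 : T ≠ ⊥) (y : E) (hyT : y ∈ Subgroup.normalizer (T : Set E)) :
    ∃ A : Subgroup E, A ≤ T ∧ A ≠ ⊥ ∧ y ∈ Subgroup.normalizer (A : Set E) ∧
      (∀ a ∈ A, ∀ b ∈ A, a * b = b * a) ∧ (∀ a ∈ A, a ^ r = 1) ∧
      ∀ B : Subgroup E, B ≤ A → y ∈ Subgroup.normalizer (B : Set E) → B = ⊥ ∨ B = A := by
  haveI : Fact r.Prime := ⟨hr⟩
  obtain ⟨𝓐, h𝓐⟩ : ∃ 𝓐 : Set (Subgroup E), 𝓐 = {A | A ≤ T ∧ A ≠ ⊥ ∧
      y ∈ Subgroup.normalizer (A : Set E)} := ⟨_, rfl⟩
  have hfin : 𝓐.Finite := Set.toFinite _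
  have hTmem : T ∈ 𝓐 := by rw [h𝓐]; exact ⟨le_rfl, hT1, hyT⟩
  obtain ⟨A, hAmem, hAmin⟩ := hfin.exists_minimal ⟨T, hTmem⟩
  have hAmem' := hAmem
  rw [h𝓐] at hAmem'
  obtain ⟨hAT, hA1, hyA⟩ := hAmem'
  have hirr : ∀ B : Subgroup E, B ≤ A → y ∈ Subgroup.normalizer (B : Set E) →
      B = ⊥ ∨ B = A := by
    intro B hBA hyB
    by_cases hB : B = ⊥
    · exact Or.inl hB
    · right
      have hBmem : B ∈ 𝓐 := by rw [h𝓐]; exact ⟨hBA.trans hAT, hB, hyB⟩
      exact le_antisymm hBA (hAmin hBmem hBA)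
  have hAp : IsPGroup r A := hT.to_le hAT
  -- abelian
  have hcomm : ⁅A, A⁆ = ⊥ := by
    rcases hirr ⁅A, A⁆ (Subgroup.le_normalizer_iff_commutator_le_left.1 Subgroup.le_normalizer)
      (mem_normalizer_commutator_self hyA) with h | h
    · exact h
    · exfalso
      haveI : Nontrivial A := (Subgroup.nontrivial_iff_ne_bot A).2 hA1
      haveI : Group.IsNilpotent A := hAp.isNilpotent
      have h1 : commutator A < ⊤ := Group.IsSolvable.commutator_lt_top_of_nontrivial A
      have h2 : (commutator A).map A.subtype = A := by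
        rw [Subgroup.map_subtype_commutator, h]
      have h3 : commutator A = ⊤ := by
        apply Subgroup.map_injective A.subtype_injective
        rw [h2, ← MonoidHom.range_eq_map, Subgroup.range_subtype]
      exact h1.ne h3
  have hAc : ∀ a ∈ A, ∀ b ∈ A, a * b = b * a := by
    intro a ha b hb
    have h1 : ⁅a, b⁆ ∈ ⁅A, A⁆ := Subgroup.commutator_mem_commutator ha hb
    rw [hcomm, Subgroup.mem_bot, commutatorElement_eq_one_iff_mul_comm] at h1
    exact h1
  refine ⟨A, hAT, hA1, hyA, hAc, ?_, hirr⟩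
  -- exponent `r`: the subgroup of elements of order dividing `r`
  obtain ⟨Ω, hΩ⟩ : ∃ Ω : Subgroup E, ∀ x, x ∈ Ω ↔ x ∈ A ∧ x ^ r = 1 := by
    refine ⟨{ carrier := {x | x ∈ A ∧ x ^ r = 1}
              one_mem' := ⟨A.one_mem, one_pow r⟩
              mul_mem' := ?_
              inv_mem' := ?_ }, fun x => Iff.rfl⟩
    · rintro a b ⟨ha, ha'⟩ ⟨hb, hb'⟩
      refine ⟨A.mul_mem ha hb, ?_⟩
      rw [(show Commute a b from hAc a ha b hb).mul_pow, ha', hb', one_mul]
    · rintro a ⟨ha, ha'⟩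
      exact ⟨A.inv_mem ha, by rw [inv_pow, ha', inv_one]⟩
  have hΩA : Ω ≤ A := fun x hx => ((hΩ x).1 hx).1
  have hyΩ : y ∈ Subgroup.normalizer (Ω : Set E) := by
    have key : ∀ z : E, z ∈ Subgroup.normalizer (A : Set E) → ∀ x ∈ Ω, z * x * z⁻¹ ∈ Ω := by
      intro z hz x hx
      obtain ⟨hxA, hxr⟩ := (hΩ x).1 hx
      refine (hΩ _).2 ⟨(Subgroup.mem_normalizer_iff.1 hz x).1 hxA, ?_⟩
      rw [conj_pow, hxr, mul_one, mul_inv_cancel]
    rw [Subgroup.mem_normalizer_iff]
    intro x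
    constructor
    · exact key y hyA x
    · intro h
      have := key y⁻¹ (Subgroup.inv_mem _ hyA) _ h
      have e : y⁻¹ * (y * x * y⁻¹) * y⁻¹⁻¹ = x := by group
      rwa [e] at this
  have hΩ1 : Ω ≠ ⊥ := by
    haveI : Nontrivial A := (Subgroup.nontrivial_iff_ne_bot A).2 hA1
    have hdvd : r ∣ Nat.card A := by
      obtain ⟨n, hn⟩ := IsPGroup.iff_card.1 hAp
      have hn0 : n ≠ 0 := by
        rintro rfl
        rw [pow_zero] at hn
        exact hA1 (Subgroup.card_eq_one.1 hn)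
      rw [hn]
      exact dvd_pow_self r hn0
    obtain ⟨g, hg⟩ := exists_prime_orderOf_dvd_card' r hdvd
    intro h
    have hgΩ : (g : E) ∈ Ω := by
      refine (hΩ _).2 ⟨g.2, ?_⟩
      have : g ^ r = 1 := by rw [← hg]; exact pow_orderOf_eq_one g
      have := congrArg Subtype.val this
      simpa using this
    rw [h, Subgroup.mem_bot] at hgΩ
    have hg1 : g = 1 := Subtype.ext hgΩ
    rw [hg1, orderOf_one] at hg
    exact hr.one_lt.ne hg
  rcases hirr Ω hΩA hyΩ with h | h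
  · exact absurd h hΩ1
  · intro a ha
    have : a ∈ Ω := by rw [h]; exact ha
    exact ((hΩ a).1 this).2

end Cfsg.Agent.Helper4.FrobR
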