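import Mathlib

set_option autoImplicit false

namespace Cfsg.Agent.Helper4

/-- If `h` has no nontrivial fixed points on the finite normal subgroup `M` (by conjugation), then
every element of the coset `h M` is conjugate to `h` under `M`:
for every `m' ∈ M` there is `n ∈ M` with `n * h * n⁻¹ = h * m'`. -/
theorem exists_conj_eq_mul_of_fixedPointFree {G : Type*} [Group G] [Finite G] (M : Subgroup G)
    [M.Normal] (h : G) (hfpf : ∀ m ∈ M, h * m = m * h → m = 1) (m' : G) (hm' : m' ∈ M) :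
    ∃ n ∈ M, n * h * n⁻¹ = h * m' := by
  -- the map n ↦ h⁻¹ n h n⁻¹ on M is injective, hence surjective
  let f : M → M := fun n => ⟨h⁻¹ * n * h * n⁻¹, by
    have h1 : h⁻¹ * (n : G) * h ∈ M := by
      have := (inferInstance : M.Normal).conj_mem n n.2 h⁻¹
      simpa using this
    exact M.mul_mem h1 (M.inv_mem n.2)⟩
  have hinj : Function.Injective f := by
    intro n₁ n₂ h12
    have h1 : h⁻¹ * (n₁ : G) * h * (n₁ : G)⁻¹ = h⁻¹ * (n₂ : G) * h * (n₂ : G)⁻¹ :=
      congrArg Subtype.val h12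
    -- then n₂⁻¹ n₁ commutes with h
    have h2 : h * ((n₂ : G)⁻¹ * n₁) = ((n₂ : G)⁻¹ * n₁) * h := by
      have h3 : (n₁ : G) * h * (n₁ : G)⁻¹ = (n₂ : G) * h * (n₂ : G)⁻¹ := by
        have := congrArg (fun z => h * z) h1
        simpa [mul_assoc] using this
      calc h * ((n₂ : G)⁻¹ * n₁) = (n₂ : G)⁻¹ * ((n₂ : G) * h * (n₂ : G)⁻¹) * n₁ := by group
        _ = (n₂ : G)⁻¹ * ((n₁ : G) * h * (n₁ : G)⁻¹) * n₁ := by rw [h3]
        _ = ((n₂ : G)⁻¹ * n₁) * h := by group
    have h4 := hfpf _ (M.mul_mem (M.inv_mem n₂.2) n₁.2) h2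
    apply Subtype.ext
    rw [inv_mul_eq_one] at h4
    exact h4.symm
  have hsurj : Function.Surjective f := Finite.surjective_of_injective hinj
  obtain ⟨n, hn⟩ := hsurj ⟨m', hm'⟩
  refine ⟨n, n.2, ?_⟩
  have h1 : h⁻¹ * (n : G) * h * (n : G)⁻¹ = m' := congrArg Subtype.val hn
  rw [← h1]; group

end Cfsg.Agent.Helper4
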