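import Mathlib.LinearAlgebra.Matrix.GeneralLinearGroup.Card
import Mathlib.NumberTheory.Multiplicity
import Mathlib.NumberTheory.Padics.PadicVal.Basic
import Mathlib.Data.Nat.Factorization.Basic

set_option autoImplicit false

/-!
The `p`-part of `|GL_p(q)|` when `p ∣ q - 1` exactly once, `p` odd.
-/

namespace Cfsg.Agent.Helper4.GLpRed

open Matrix

theorem factorization_card_GL {F : Type*} [Field F] [Fintype F] (p : ℕ) [hp : Fact p.Prime]
    (hp2 : p ≠ 2) (h1 : p ∣ Fintype.card F - 1) (h2 : ¬ p ^ 2 ∣ Fintype.card F - 1) :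
    (Nat.card (GL (Fin p) F)).factorization p = p + 1 := by
  classical
  set q := Fintype.card F with hq
  have hq1 : 1 < q := Fintype.one_lt_card
  have hodd : Odd p := hp.out.odd_of_ne_two hp2
  have hpq : ¬ p ∣ q := by
    intro h
    have h3 : p ∣ q - (q - 1) := Nat.dvd_sub h h1
    have : q - (q - 1) = 1 := by omega
    rw [this, Nat.dvd_one] at h3
    exact hp.out.one_lt.ne' h3
  have hv1 : padicValNat p (q - 1) = 1 := by
    have hne : q - 1 ≠ 0 := by omega
    have hge : 1 ≤ padicValNat p (q - 1) := one_le_padicValNat_of_dvd hne h1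
    have hlt : padicValNat p (q - 1) < 2 := by
      by_contra hcon
      push Not at hcon
      apply h2
      exact (padicValNat_dvd_iff_le hne).2 hcon
    omega
  rw [Matrix.card_GL_field]
  have hfac : ∀ i : Fin p, (q ^ p - q ^ (i : ℕ)).factorization p = if (i : ℕ) = 0 then 2 else 1 := by
    intro i
    have hi : (i : ℕ) < p := i.2
    have hsplit : q ^ p - q ^ (i : ℕ) = q ^ (i : ℕ) * (q ^ (p - i) - 1) := by
      rw [Nat.mul_sub, mul_one, ← pow_add]
      congr 2
      omega
    have hne1 : q ^ (i : ℕ) ≠ 0 := pow_ne_zero _ (by omega)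
    have hne2 : q ^ (p - i) - 1 ≠ 0 := by
      have : 1 < q ^ (p - (i : ℕ)) := Nat.one_lt_pow (by omega) hq1
      omega
    rw [hsplit, Nat.factorization_mul hne1 hne2, Finsupp.add_apply, Nat.factorization_pow,
      Finsupp.smul_apply, Nat.factorization_eq_zero_of_not_dvd hpq, smul_zero, zero_add,
      Nat.factorization_def _ hp.out]
    have hlte := padicValNat.pow_sub_pow (p := p) hodd hq1 (by simpa using h1) hpq
      (n := p - i) (by omega)
    rw [one_pow] at hlte
    rw [hlte, hv1]
    by_cases h0 : (i : ℕ) = 0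
    · rw [if_pos h0, h0, Nat.sub_zero, padicValNat_self]
    · rw [if_neg h0]
      have : padicValNat p (p - i) = 0 := by
        apply padicValNat.eq_zero_of_not_dvd
        intro hd
        have := Nat.le_of_dvd (by omega) hd
        omega
      rw [this]
  have hne : ∀ i ∈ (Finset.univ : Finset (Fin p)), q ^ p - q ^ (i : ℕ) ≠ 0 := by
    intro i _
    have hi : (i : ℕ) < p := i.2
    have : q ^ (i : ℕ) < q ^ p := Nat.pow_lt_pow_right hq1 hi
    omega
  rw [Nat.factorization_prod hne, Finsupp.finsetSum_apply]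
  simp only [hfac]
  have hp0 : 0 < p := hp.out.pos
  rw [Finset.sum_ite, Finset.sum_const, Finset.sum_const]
  have hc1 : (Finset.univ.filter (fun i : Fin p => (i : ℕ) = 0)).card = 1 := by
    rw [Finset.card_eq_one]
    refine ⟨⟨0, hp0⟩, ?_⟩
    ext i
    rw [Finset.mem_filter, Finset.mem_singleton, Fin.ext_iff]
    exact ⟨fun h => h.2, fun h => ⟨Finset.mem_univ _, h⟩⟩
  have hc2 : (Finset.univ.filter (fun i : Fin p => ¬ (i : ℕ) = 0)).card = p - 1 := by
    have := Finset.card_filter_add_card_filter_not (s := (Finset.univ : Finset (Fin p)))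
      (fun i : Fin p => (i : ℕ) = 0)
    rw [hc1, Finset.card_univ, Fintype.card_fin] at this
    omega
  rw [hc1, hc2]
  simp only [smul_eq_mul]
  omega

end Cfsg.Agent.Helper4.GLpRed
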