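import Mathlib.LinearAlgebra.Matrix.GeneralLinearGroup.Defs
import Mathlib.GroupTheory.SpecificGroups.Cyclic
import Mathlib.RingTheory.IntegralDomain
import Mathlib.Algebra.Group.Pointwise.Set.Card
import Mathlib.Algebra.Group.Subgroup.Pointwise

set_option autoImplicit false
set_option linter.unusedSectionVars false

/-!
Monomial matrices `mon d k` (row `i` has its only nonzero entry `d i` in column `i + k`) and the
subgroup `Qsub p` of those with `p`-th roots of unity as entries.
-/

namespace Cfsg.Agent.Helper4.GLpRed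

open Matrix

variable {ι : Type*} [Fintype ι] [DecidableEq ι] [AddCommGroup ι] {F : Type*} [Field F]

/-- monomial matrix: row `i` has entry `d i` in column `i + k`. -/
def monM (d : ι → F) (k : ι) : Matrix ι ι F := Matrix.of fun i j => if j = i + k then d i else 0

lemma monM_apply (d : ι → F) (k i j : ι) : monM d k i j = if j = i + k then d i else 0 := rfl

lemma monM_mul (d d' : ι → F) (k k' : ι) :
    monM d k * monM d' k' = monM (fun i => d i * d' (i + k)) (k + k') := by
  ext i l
  rw [Matrix.mul_apply]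
  simp only [monM_apply]
  rw [Finset.sum_eq_single (i + k)]
  · rw [if_pos rfl]
    by_cases h : l = i + (k + k')
    · rw [if_pos h, if_pos (by rw [h, add_assoc])]
    · rw [if_neg h, if_neg (by rw [add_assoc]; exact h), mul_zero]
  · intro j _ hj
    rw [if_neg hj, zero_mul]
  · intro h; exact absurd (Finset.mem_univ _) h

lemma monM_one_zero : monM (fun _ => (1 : F)) (0 : ι) = 1 := by
  ext i j
  rw [monM_apply, add_zero, Matrix.one_apply]
  by_cases h : i = j
  · rw [if_pos h.symm, if_pos h]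
  · rw [if_neg (Ne.symm h), if_neg h]

/-- monomial matrix as an element of the general linear group. -/
def mon (d : ι → Fˣ) (k : ι) : GL ι F where
  val := monM (fun i => (d i : F)) k
  inv := monM (fun i => (((d (i - k))⁻¹ : Fˣ) : F)) (-k)
  val_inv := by
    rw [monM_mul]
    have h1 : (fun i : ι => (d i : F) * (((d (i + k - k))⁻¹ : Fˣ) : F)) = fun _ => 1 := by
      funext i
      rw [add_sub_cancel_right, ← Units.val_mul, mul_inv_cancel, Units.val_one]
    rw [h1, add_neg_cancel, monM_one_zero]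
  inv_val := by
    rw [monM_mul]
    have h1 : (fun i : ι => (((d (i - k))⁻¹ : Fˣ) : F) * (d (i + -k) : F)) = fun _ => 1 := by
      funext i
      rw [← sub_eq_add_neg, ← Units.val_mul, inv_mul_cancel, Units.val_one]
    rw [h1, neg_add_cancel, monM_one_zero]

lemma mon_val (d : ι → Fˣ) (k : ι) : ((mon d k : GL ι F) : Matrix ι ι F) = monM (fun i => (d i : F)) k :=
  rfl

lemma mon_apply (d : ι → Fˣ) (k i j : ι) :
    ((mon d k : GL ι F) : Matrix ι ι F) i j = if j = i + k then (d i : F) else 0 := rfl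

lemma mon_mul (d d' : ι → Fˣ) (k k' : ι) :
    mon d k * mon d' k' = mon (fun i => d i * d' (i + k)) (k + k') := by
  apply Units.ext
  rw [Units.val_mul, mon_val, mon_val, mon_val, monM_mul]
  simp only [Units.val_mul]

lemma mon_one : mon (fun _ => (1 : Fˣ)) (0 : ι) = 1 := by
  apply Units.ext
  rw [mon_val, Units.val_one]
  exact monM_one_zero

lemma mon_inv (d : ι → Fˣ) (k : ι) : (mon d k)⁻¹ = mon (fun i => (d (i - k))⁻¹) (-k) := by
  apply inv_eq_of_mul_eq_one_right
  rw [mon_mul]
  have h1 : (fun i : ι => d i * (d (i + k - k))⁻¹) = fun _ => 1 := by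
    funext i
    rw [add_sub_cancel_right, mul_inv_cancel]
  rw [h1, add_neg_cancel, mon_one]

lemma mon_inj {d d' : ι → Fˣ} {k k' : ι} (h : mon d k = mon d' k') : k = k' ∧ d = d' := by
  have hent : ∀ i, (if i + k = i + k' then (d' i : F) else 0) = (d i : F) := by
    intro i
    have h1 := congrArg (fun g : GL ι F => (g : Matrix ι ι F) i (i + k)) h
    simp only [mon_apply] at h1
    rw [if_pos trivial] at h1
    exact h1.symm
  have hk : k = k' := by
    obtain ⟨i⟩ : Nonempty ι := ⟨0⟩
    by_contra hne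
    have := hent i
    rw [if_neg (fun h2 => hne (add_left_cancel h2))] at this
    exact (d i).ne_zero this.symm
  refine ⟨hk, ?_⟩
  funext i
  have := hent i
  rw [hk, if_pos rfl] at this
  exact (Units.ext this).symm

/-- powers of a monomial matrix are monomial. -/
lemma mon_pow_exists (d : ι → Fˣ) (k : ι) (l : ℕ) : ∃ d' : ι → Fˣ, mon d k ^ l = mon d' (l • k) := by
  induction l with
  | zero => exact ⟨fun _ => 1, by rw [pow_zero, zero_smul, mon_one]⟩
  | succ l ih =>
    obtain ⟨d', hd'⟩ := ih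
    refine ⟨fun i => d' i * d (i + l • k), ?_⟩
    rw [pow_succ, hd', mon_mul, succ_nsmul]

/-- The group of monomial matrices with entries `p`-th roots of unity. -/
def Qsub (p : ℕ) : Subgroup (GL ι F) where
  carrier := {g | ∃ (d : ι → Fˣ) (k : ι), (∀ i, d i ^ p = 1) ∧ g = mon d k}
  mul_mem' := by
    rintro _ _ ⟨d, k, hd, rfl⟩ ⟨d', k', hd', rfl⟩
    refine ⟨_, _, ?_, mon_mul d d' k k'⟩
    intro i
    rw [mul_pow, hd, hd', one_mul]
  one_mem' := ⟨fun _ => 1, 0, fun _ => one_pow _, mon_one.symm⟩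
  inv_mem' := by
    rintro _ ⟨d, k, hd, rfl⟩
    refine ⟨_, _, ?_, mon_inv d k⟩
    intro i
    rw [inv_pow, hd, inv_one]

lemma mem_Qsub {p : ℕ} {g : GL ι F} :
    g ∈ (Qsub p : Subgroup (GL ι F)) ↔ ∃ (d : ι → Fˣ) (k : ι), (∀ i, d i ^ p = 1) ∧ g = mon d k :=
  Iff.rfl

lemma mon_mem_Qsub {p : ℕ} {d : ι → Fˣ} {k : ι} (hd : ∀ i, d i ^ p = 1) :
    mon d k ∈ (Qsub p : Subgroup (GL ι F)) := ⟨d, k, hd, rfl⟩

/-- an element of `Qsub` has at most one nonzero entry per row. -/
lemma eq_of_ne_zero_of_mem {p : ℕ} {g : GL ι F} (hg : g ∈ (Qsub p : Subgroup (GL ι F)))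
    {i j j' : ι} (h1 : (g : Matrix ι ι F) i j ≠ 0) (h2 : (g : Matrix ι ι F) i j' ≠ 0) : j = j' := by
  obtain ⟨d, k, -, rfl⟩ := hg
  rw [mon_apply] at h1 h2
  have e1 : j = i + k := by
    by_contra h; rw [if_neg h] at h1; exact h1 rfl
  have e2 : j' = i + k := by
    by_contra h; rw [if_neg h] at h2; exact h2 rfl
  rw [e1, e2]

/-- cardinality of `Qsub`. -/
theorem card_Qsub [Fintype F] (p : ℕ) (hp : p ∣ Fintype.card F - 1) :
    Nat.card (Qsub p : Subgroup (GL ι F)) = p ^ Fintype.card ι * Fintype.card ι := by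
  classical
  have hmu : Nat.card (powMonoidHom p : Fˣ →* Fˣ).ker = p := by
    rw [IsCyclic.card_powMonoidHom_ker, Nat.card_eq_fintype_card, Fintype.card_units]
    exact Nat.gcd_eq_right hp
  let f : ((ι → (powMonoidHom p : Fˣ →* Fˣ).ker) × ι) → (Qsub p : Subgroup (GL ι F)) :=
    fun x => ⟨mon (fun i => ((x.1 i : Fˣ))) x.2, mon_mem_Qsub (fun i => by
      have := (x.1 i).2
      rwa [MonoidHom.mem_ker, powMonoidHom_apply] at this)⟩
  have hf : Function.Bijective f := by
    constructor
    · rintro ⟨d, k⟩ ⟨d', k'⟩ h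
      have h1 := congrArg Subtype.val h
      obtain ⟨hk, hd⟩ := mon_inj h1
      have hk' : k = k' := hk
      have hd' : d = d' := by
        funext i
        exact Subtype.ext (congrFun hd i)
      rw [hk', hd']
    · rintro ⟨g, d, k, hd, rfl⟩
      refine ⟨(fun i => ⟨d i, by rw [MonoidHom.mem_ker, powMonoidHom_apply]; exact hd i⟩, k), rfl⟩
  rw [← Nat.card_eq_of_bijective f hf, Nat.card_prod, Nat.card_pi, Finset.prod_const, hmu,
    Finset.card_univ, Nat.card_eq_fintype_card]

end Cfsg.Agent.Helper4.GLpRed
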