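import Cfsg.Agent.Helper4.GLpRedB
import Mathlib.LinearAlgebra.Matrix.NonsingularInverse

set_option autoImplicit false
set_option linter.unusedSectionVars false

/-!
Index group of prime order: generation facts; commuting lemmas for monomial matrices.
-/

namespace Cfsg.Agent.Helper4.GLpRed

open Matrix

variable {ι : Type*} [Fintype ι] [DecidableEq ι] [AddCommGroup ι] {F : Type*} [Field F]
variable {p : ℕ} [hp : Fact p.Prime]

lemma exists_nsmul_eq (hι : Nat.card ι = p) {k : ι} (hk : k ≠ 0) (j : ι) : ∃ l : ℕ, j = l • k := by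
  have := mem_multiples_of_prime_card hι (g' := j) hk
  rw [AddSubmonoid.mem_multiples_iff] at this
  obtain ⟨l, hl⟩ := this
  exact ⟨l, hl.symm⟩

lemma const_of_shift (hι : Nat.card ι = p) {k : ι} (hk : k ≠ 0) {α : Type*} (f : ι → α)
    (h : ∀ i, f (i + k) = f i) : ∀ i j, f i = f j := by
  have key : ∀ (l : ℕ) (i : ι), f (i + l • k) = f i := by
    intro l
    induction l with
    | zero => intro i; rw [zero_smul, add_zero]
    | succ l ih =>
      intro i
      rw [succ_nsmul, ← add_assoc, h, ih]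
  intro i j
  obtain ⟨l, hl⟩ := exists_nsmul_eq hι hk (j - i)
  have : j = i + l • k := by rw [← hl]; abel
  rw [this, key]

lemma nsmul_ne_zero_of_lt (hι : Nat.card ι = p) {k : ι} (hk : k ≠ 0) {l : ℕ} (hl0 : 0 < l)
    (hlp : l < p) : l • k ≠ 0 := by
  intro h
  have h1 := addOrderOf_dvd_of_nsmul_eq_zero h
  have h2 := addOrderOf_dvd_natCard k
  rw [hι] at h2
  rcases (Nat.dvd_prime hp.out).1 h2 with h3 | h3
  · exact hk (AddMonoid.addOrderOf_eq_one_iff.1 h3)
  · rw [h3] at h1
    have := Nat.le_of_dvd hl0 h1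
    omega

lemma prime_nsmul (hι : Nat.card ι = p) (k : ι) : p • k = 0 := by
  rw [← hι]; exact card_nsmul_eq_zero'

/-- scalar matrices -/
def scal (c : Fˣ) : GL ι F := mon (fun _ => c) 0

lemma scal_val (c : Fˣ) : ((scal c : GL ι F) : Matrix ι ι F) = (c : F) • (1 : Matrix ι ι F) := by
  ext i j
  rw [scal, mon_apply, add_zero, Matrix.smul_apply, Matrix.one_apply, smul_eq_mul]
  by_cases h : i = j
  · rw [if_pos h.symm, if_pos h, mul_one]
  · rw [if_neg (Ne.symm h), if_neg h, mul_zero]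

lemma scal_comm (c : Fˣ) (g : GL ι F) : scal c * g = g * scal c := by
  apply Units.ext
  rw [Units.val_mul, Units.val_mul, scal_val, Matrix.smul_mul, Matrix.mul_smul, Matrix.one_mul,
    Matrix.mul_one]

/-- a diagonal monomial matrix commutes with `mon d k` iff its entries are invariant under
translation by `k`. -/
lemma diag_comm_iff (e d : ι → Fˣ) (k : ι) :
    mon e 0 * mon d k = mon d k * mon e 0 ↔ ∀ i, e (i + k) = e i := by
  rw [mon_mul, mon_mul]
  constructor
  · intro h i
    have h1 := (mon_inj h).2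
    have h2 := congrFun h1 i
    simp only [add_zero] at h2
    have h3 : e i * d i = e (i + k) * d i := by rw [h2, mul_comm]
    exact (mul_right_cancel h3).symm
  · intro h
    have h1 : (fun i => e i * d (i + 0)) = fun i => d i * e (i + k) := by
      funext i
      rw [add_zero, h, mul_comm]
    rw [h1, zero_add, add_zero]

/-- the `p`-th power of `mon d k`, `k ≠ 0`, is a scalar. -/
lemma exists_pow_eq_scal (hι : Nat.card ι = p) (d : ι → Fˣ) {k : ι} (hk : k ≠ 0) :
    ∃ c : Fˣ, mon d k ^ p = scal c := by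
  obtain ⟨d', hd'⟩ := mon_pow_exists d k p
  rw [prime_nsmul hι] at hd'
  have hcomm : mon d' 0 * mon d k = mon d k * mon d' 0 := by
    rw [← hd', ← pow_succ, ← pow_succ']
  have hconst := const_of_shift hι hk d' ((diag_comm_iff d' d k).1 hcomm)
  refine ⟨d' 0, ?_⟩
  rw [hd', scal]
  congr 1
  funext i
  exact hconst i 0

/-- the centralizer of `mon d k`, `k ≠ 0`, among monomial matrices. -/
lemma comm_mon_eq (hι : Nat.card ι = p) (d : ι → Fˣ) {k : ι} (hk : k ≠ 0) (d' : ι → Fˣ) (k' : ι)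
    (hcomm : mon d' k' * mon d k = mon d k * mon d' k') :
    ∃ (l : ℕ) (c : Fˣ), mon d' k' = scal c * mon d k ^ l := by
  obtain ⟨l, hl⟩ := exists_nsmul_eq hι hk k'
  obtain ⟨d'', hd''⟩ := mon_pow_exists d k l
  -- y' * (x^l)⁻¹ is diagonal
  have h1 : mon d' k' * (mon d k ^ l)⁻¹ = mon (fun i => d' i * (d'' (i + k' - l • k))⁻¹) 0 := by
    rw [hd'', mon_inv, mon_mul, hl, add_neg_cancel]
  have hcomm2 : (mon d' k' * (mon d k ^ l)⁻¹) * mon d k = mon d k * (mon d' k' * (mon d k ^ l)⁻¹) := by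
    have hx : mon d k * (mon d k ^ l)⁻¹ = (mon d k ^ l)⁻¹ * mon d k := by
      rw [eq_inv_mul_iff_mul_eq, ← mul_assoc, ← pow_succ, pow_succ', mul_assoc, mul_inv_cancel,
        mul_one]
    rw [mul_assoc, ← hx, ← mul_assoc, hcomm, mul_assoc]
  rw [h1] at hcomm2
  have hconst := const_of_shift hι hk _ ((diag_comm_iff _ d k).1 hcomm2)
  refine ⟨l, d' 0 * (d'' (0 + k' - l • k))⁻¹, ?_⟩
  have h2 : mon d' k' = (mon d' k' * (mon d k ^ l)⁻¹) * mon d k ^ l := by
    rw [mul_assoc, inv_mul_cancel, mul_one]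
  rw [h2, h1, scal]
  congr 2
  funext i
  exact hconst i 0

end Cfsg.Agent.Helper4.GLpRed
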