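import Cfsg.Agent.Helper4.GLpRedC
import Mathlib.Algebra.Ring.GeomSum

set_option autoImplicit false
set_option linter.unusedSectionVars false

/-!
Constructions (I) and (III): non-normalizing elements of the centralizer.
-/

namespace Cfsg.Agent.Helper4.GLpRed

open Matrix

variable {ι : Type*} [Fintype ι] [DecidableEq ι] [AddCommGroup ι] {F : Type*} [Field F]
variable {p : ℕ} [hp : Fact p.Prime]

lemma monM_apply_self (d : ι → F) (k i : ι) : monM d k i (i + k) = d i := by
  rw [monM_apply, if_pos rfl]

lemma monM_apply_ne (d : ι → F) (k : ι) {i j : ι} (h : j ≠ i + k) : monM d k i j = 0 := by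
  rw [monM_apply, if_neg h]

/-- Construction (I). -/
theorem caseI (hι : Nat.card ι = p) (hp2 : p ≠ 2) (d : ι → Fˣ) {k : ι} (hk : k ≠ 0) (c : Fˣ)
    (hc : c ≠ 1) (hpow : mon d k ^ p = scal c) (e : ι → Fˣ) (he : ∃ i j, e i ≠ e j) :
    ∃ g : GL ι F, g * mon d k = mon d k * g ∧ g * mon e 0 * g⁻¹ ∉ (Qsub p : Subgroup (GL ι F)) := by
  set X : Matrix ι ι F := ((mon d k : GL ι F) : Matrix ι ι F) with hX
  have hXp : X ^ p = (c : F) • (1 : Matrix ι ι F) := by
    rw [hX, ← Units.val_pow_eq_pow_val, hpow, scal_val]
  have hc1 : (c : F) - 1 ≠ 0 := by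
    intro h
    apply hc
    apply Units.ext
    rw [Units.val_one]
    exact sub_eq_zero.1 h
  have hAB : (X - 1) * (((c : F) - 1)⁻¹ • ∑ j ∈ Finset.range p, X ^ j) = 1 := by
    rw [Matrix.mul_smul, mul_geom_sum, hXp]
    have : (c : F) • (1 : Matrix ι ι F) - 1 = ((c : F) - 1) • (1 : Matrix ι ι F) := by
      rw [sub_smul, one_smul]
    rw [this, smul_smul, inv_mul_cancel₀ hc1, one_smul]
  have hA : IsUnit (X - 1) :=
    (Matrix.isUnit_iff_isUnit_det _).2 (Matrix.isUnit_det_of_right_inverse hAB)
  refine ⟨hA.unit, ?_, ?_⟩
  · apply Units.ext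
    rw [Units.val_mul, Units.val_mul, IsUnit.unit_spec, ← hX, sub_mul, mul_sub, one_mul, mul_one]
  · intro hmem
    obtain ⟨d', k', -, hm⟩ := hmem
    have hm2 : hA.unit * mon e 0 = mon d' k' * hA.unit := by
      rw [← hm, inv_mul_cancel_right]
    have hmat : (X - 1) * monM (fun i => (e i : F)) 0 = monM (fun i => (d' i : F)) k' * (X - 1) := by
      have := congrArg (fun g : GL ι F => (g : Matrix ι ι F)) hm2
      simp only [Units.val_mul, IsUnit.unit_spec, mon_val] at this
      exact this
    rw [sub_mul, mul_sub, one_mul, mul_one, hX, mon_val, monM_mul, monM_mul] at hmat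
    simp only [add_zero] at hmat
    have hent : ∀ i j, monM (fun i => (d i : F) * (e (i + k) : F)) k i j
        - monM (fun i => (e i : F)) 0 i j
        = monM (fun i => (d' i : F) * (d (i + k') : F)) (k' + k) i j
          - monM (fun i => (d' i : F)) k' i j := by
      intro i j
      have := congrFun (congrFun hmat i) j
      simpa only [Matrix.sub_apply] using this
    have hik : ∀ i : ι, i ≠ i + k := fun i h => hk (left_eq_add.1 h)
    have hik' : ∀ i : ι, i + k ≠ i + 0 := fun i h => by
      rw [add_zero] at h; exact hk (add_eq_left.1 h)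
    have hdiag : ∀ (f : ι → F) (i : ι), monM f 0 i i = f i := by
      intro f i
      have := monM_apply_self f 0 i
      rwa [add_zero] at this
    by_cases hk'0 : k' = 0
    · -- k' = 0
      subst hk'0
      simp only [add_zero, zero_add] at hent
      have hde : ∀ i, (d' i : F) = (e i : F) := by
        intro i
        have h1 := hent i i
        rw [monM_apply_ne _ _ (hik i), monM_apply_ne _ _ (hik i), hdiag, hdiag, zero_sub, zero_sub,
          neg_inj] at h1
        exact h1.symm
      have hshift : ∀ i, e (i + k) = e i := by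
        intro i
        have h1 := hent i (i + k)
        rw [monM_apply_self, monM_apply_self, monM_apply_ne _ _ (hik' i),
          monM_apply_ne _ _ (hik' i), sub_zero, sub_zero, hde, mul_comm] at h1
        have h6 := mul_right_cancel₀ (d i).ne_zero h1
        exact Units.ext h6
      obtain ⟨i, j, hij⟩ := he
      exact hij (const_of_shift hι hk e hshift i j)
    · -- k' ≠ 0
      obtain ⟨i⟩ : Nonempty ι := ⟨0⟩
      have hkk : k' + k = 0 := by
        by_contra hne
        have h1 := hent i i
        rw [monM_apply_ne _ _ (hik i), hdiag,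
          monM_apply_ne _ k' (fun h => hk'0 (left_eq_add.1 h)),
          monM_apply_ne _ (k' + k) (fun h => hne (left_eq_add.1 h)), zero_sub, sub_zero,
          neg_eq_zero] at h1
        exact (e i).ne_zero h1
      have hkeq : k = k' := by
        by_contra hne
        have h1 := hent i (i + k)
        rw [monM_apply_self, monM_apply_ne _ _ (hik' i),
          monM_apply_ne _ (k' + k) (by rw [hkk]; exact hik' i),
          monM_apply_ne _ k' (fun h => hne (add_left_cancel h)), sub_zero, sub_zero] at h1
        exact mul_ne_zero (d i).ne_zero (e (i + k)).ne_zero h1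
      rw [← hkeq] at hkk
      have h2k : 2 • k = 0 := by rw [two_nsmul]; exact hkk
      have hp3 : 2 < p := by
        have := hp.out.two_le
        omega
      exact nsmul_ne_zero_of_lt hι hk (by norm_num) hp3 h2k

end Cfsg.Agent.Helper4.GLpRed
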