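import Cfsg.Agent.Helper4.GLpRedD
import Mathlib.Tactic.NoncommRing

set_option autoImplicit false
set_option linter.unusedSectionVars false

/-!
Construction (III): transvections.
-/

namespace Cfsg.Agent.Helper4.GLpRed

open Matrix

variable {ι : Type*} [Fintype ι] [DecidableEq ι] [AddCommGroup ι] {F : Type*} [Field F]
variable {p : ℕ}

/-- elementary matrix -/
def elemM (i₁ i₂ : ι) : Matrix ι ι F := Matrix.of fun a b => if a = i₁ ∧ b = i₂ then 1 else 0

lemma elemM_apply (i₁ i₂ a b : ι) : (elemM i₁ i₂ : Matrix ι ι F) a b = if a = i₁ ∧ b = i₂ then 1 else 0 :=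
  rfl

lemma mul_elemM (M : Matrix ι ι F) (i₁ i₂ a b : ι) :
    (M * (elemM i₁ i₂ : Matrix ι ι F)) a b = if b = i₂ then M a i₁ else 0 := by
  rw [Matrix.mul_apply]
  simp only [elemM_apply]
  rw [Finset.sum_eq_single i₁]
  · by_cases h : b = i₂
    · rw [if_pos ⟨rfl, h⟩, if_pos h, mul_one]
    · rw [if_neg (fun h' => h h'.2), if_neg h, mul_zero]
  · intro c _ hc
    rw [if_neg (fun h' => hc h'.1), mul_zero]
  · intro h; exact absurd (Finset.mem_univ _) h

lemma elemM_mul (M : Matrix ι ι F) (i₁ i₂ a b : ι) :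
    ((elemM i₁ i₂ : Matrix ι ι F) * M) a b = if a = i₁ then M i₂ b else 0 := by
  rw [Matrix.mul_apply]
  simp only [elemM_apply]
  rw [Finset.sum_eq_single i₂]
  · by_cases h : a = i₁
    · rw [if_pos ⟨h, rfl⟩, if_pos h, one_mul]
    · rw [if_neg (fun h' => h h'.1), if_neg h, zero_mul]
  · intro c _ hc
    rw [if_neg (fun h' => hc h'.2), zero_mul]
  · intro h; exact absurd (Finset.mem_univ _) h

lemma elemM_sq {i₁ i₂ : ι} (hne : i₁ ≠ i₂) : (elemM i₁ i₂ : Matrix ι ι F) * elemM i₁ i₂ = 0 := by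
  ext a b
  rw [elemM_mul, elemM_apply, Matrix.zero_apply]
  by_cases h : a = i₁
  · rw [if_pos h, if_neg (fun h' => hne h'.1.symm)]
  · rw [if_neg h]

/-- the transvection `1 + E` as an element of `GL`. -/
def transv {i₁ i₂ : ι} (hne : i₁ ≠ i₂) : GL ι F where
  val := 1 + elemM i₁ i₂
  inv := 1 - elemM i₁ i₂
  val_inv := by
    have : (1 + (elemM i₁ i₂ : Matrix ι ι F)) * (1 - elemM i₁ i₂)
        = 1 - (elemM i₁ i₂ : Matrix ι ι F) * elemM i₁ i₂ := by noncomm_ring
    rw [this, elemM_sq hne, sub_zero]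
  inv_val := by
    have : (1 - (elemM i₁ i₂ : Matrix ι ι F)) * (1 + elemM i₁ i₂)
        = 1 - (elemM i₁ i₂ : Matrix ι ι F) * elemM i₁ i₂ := by noncomm_ring
    rw [this, elemM_sq hne, sub_zero]

lemma transv_val {i₁ i₂ : ι} (hne : i₁ ≠ i₂) :
    ((transv hne : GL ι F) : Matrix ι ι F) = 1 + elemM i₁ i₂ := rfl

/-- Construction (III). -/
theorem caseIII (d : ι → Fˣ) {i₁ i₂ : ι} (hne : i₁ ≠ i₂) (hd : d i₁ = d i₂) (e : ι → Fˣ)
    (he : e i₁ ≠ e i₂) :
    ∃ g : GL ι F, g * mon d 0 = mon d 0 * g ∧ g * mon e 0 * g⁻¹ ∉ (Qsub p : Subgroup (GL ι F)) := by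
  have hdiag : ∀ (f : ι → F) (a b : ι), monM f 0 a b = if b = a then f a else 0 := by
    intro f a b
    rw [monM_apply, add_zero]
  refine ⟨transv hne, ?_, ?_⟩
  · apply Units.ext
    rw [Units.val_mul, Units.val_mul, transv_val, mon_val, add_mul, mul_add, one_mul, mul_one]
    congr 1
    ext a b
    rw [elemM_mul, mul_elemM, hdiag, hdiag]
    by_cases ha : a = i₁
    · by_cases hb : b = i₂
      · rw [if_pos ha, if_pos hb, if_pos hb, if_pos ha.symm, ha, hd]
      · rw [if_pos ha, if_neg hb, if_neg hb]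
    · by_cases hb : b = i₂
      · rw [if_neg ha, if_pos hb, if_neg (fun h => ha h.symm)]
      · rw [if_neg ha, if_neg hb]
  · intro hmem
    obtain ⟨d', k', -, hm⟩ := hmem
    have hm2 : transv hne * mon e 0 = mon d' k' * transv hne := by
      rw [← hm, inv_mul_cancel_right]
    have hmat : (1 + (elemM i₁ i₂ : Matrix ι ι F)) * monM (fun i => (e i : F)) 0
        = monM (fun i => (d' i : F)) k' * (1 + (elemM i₁ i₂ : Matrix ι ι F)) := by
      have := congrArg (fun g : GL ι F => (g : Matrix ι ι F)) hm2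
      simp only [Units.val_mul, transv_val, mon_val] at this
      exact this
    rw [add_mul, mul_add, one_mul, mul_one] at hmat
    have hent : ∀ a b, monM (fun i => (e i : F)) 0 a b
        + (if a = i₁ then monM (fun i => (e i : F)) 0 i₂ b else 0)
        = monM (fun i => (d' i : F)) k' a b
          + (if b = i₂ then monM (fun i => (d' i : F)) k' a i₁ else 0) := by
      intro a b
      have := congrFun (congrFun hmat a) b
      rw [Matrix.add_apply, Matrix.add_apply, elemM_mul, mul_elemM] at this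
      exact this
    -- entry (i₁, i₁)
    have h11 := hent i₁ i₁
    rw [hdiag, hdiag, if_pos rfl, if_pos rfl, if_neg hne, if_neg hne, add_zero, add_zero] at h11
    have hk' : k' = 0 := by
      by_contra hk0
      rw [monM_apply_ne _ _ (fun h => hk0 (left_eq_add.1 h))] at h11
      exact (e i₁).ne_zero h11
    subst hk'
    rw [hdiag, if_pos rfl] at h11
    -- entry (i₁, i₂)
    have h12 := hent i₁ i₂
    rw [hdiag, hdiag, hdiag, hdiag, if_neg hne.symm, if_pos rfl, if_pos rfl, if_neg hne.symm,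
      if_pos rfl, if_pos rfl, zero_add, zero_add, ← h11] at h12
    exact he (Units.ext h12.symm)

end Cfsg.Agent.Helper4.GLpRed
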