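import Cfsg.Agent.Helper4.GLpRedE
import Mathlib.LinearAlgebra.Eigenspace.Basic
import Mathlib.LinearAlgebra.Matrix.ToLin

set_option autoImplicit false
set_option linter.unusedSectionVars false

/-!
Construction (II): the intertwiner between a monomial element of order `p` and a diagonal element
with distinct entries.
-/

namespace Cfsg.Agent.Helper4.GLpRed

open Matrix

variable {ι : Type*} [Fintype ι] [DecidableEq ι] [AddCommGroup ι] {F : Type*} [Field F]
variable {p : ℕ} [hp : Fact p.Prime]

lemma mon_diag_pow (e : ι → Fˣ) (l : ℕ) : mon e 0 ^ l = mon (fun i => e i ^ l) (0 : ι) := by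
  induction l with
  | zero =>
    rw [pow_zero]
    simp only [pow_zero]
    exact mon_one.symm
  | succ l ih =>
    rw [pow_succ, ih, mon_mul, add_zero]
    congr 1
    funext i
    rw [add_zero, pow_succ]

lemma mul_diagM (M : Matrix ι ι F) (f : ι → F) (a j : ι) :
    (M * monM f 0) a j = M a j * f j := by
  rw [Matrix.mul_apply, Finset.sum_eq_single j]
  · rw [monM_apply, add_zero, if_pos rfl]
  · intro c _ hc
    rw [monM_apply, add_zero, if_neg (Ne.symm hc), mul_zero]
  · intro h; exact absurd (Finset.mem_univ _) h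

/-- the row matrix -/
def rowM (o : ι) : Matrix ι ι F := Matrix.of fun i _ => if i = o then 1 else 0

lemma mul_rowM (M : Matrix ι ι F) (o a j : ι) : (M * (rowM o : Matrix ι ι F)) a j = M a o := by
  rw [Matrix.mul_apply, Finset.sum_eq_single o]
  · show M a o * (if o = o then 1 else 0) = M a o
    rw [if_pos rfl, mul_one]
  · intro c _ hc
    show M a c * (if c = o then 1 else 0) = 0
    rw [if_neg hc, mul_zero]
  · intro h; exact absurd (Finset.mem_univ _) h

theorem exists_intertwiner (hι : Nat.card ι = p) (d : ι → Fˣ) {k : ι} (hk : k ≠ 0)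
    (hpow : mon d k ^ p = 1) (b : ι → Fˣ) (hb : Function.Injective b) (hbp : ∀ i, b i ^ p = 1) :
    ∃ h : GL ι F, mon d k * h = h * mon b 0 := by
  set X : Matrix ι ι F := ((mon d k : GL ι F) : Matrix ι ι F) with hX
  have hXp : X ^ p = 1 := by
    rw [hX, ← Units.val_pow_eq_pow_val, hpow, Units.val_one]
  set Δ' : Matrix ι ι F := ((mon (fun i => (b i)⁻¹) 0 : GL ι F) : Matrix ι ι F) with hΔ'
  set Δ : Matrix ι ι F := ((mon b 0 : GL ι F) : Matrix ι ι F) with hΔ
  have hΔ'p : Δ' ^ p = 1 := by
    rw [hΔ', ← Units.val_pow_eq_pow_val, mon_diag_pow]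
    have : (fun i => ((b i)⁻¹) ^ p) = fun _ : ι => (1 : Fˣ) := by
      funext i
      rw [inv_pow, hbp, inv_one]
    rw [this, mon_one, Units.val_one]
  have hΔΔ : Δ' * Δ = 1 := by
    rw [hΔ', hΔ, ← Units.val_mul, mon_mul]
    have : (fun i => (b i)⁻¹ * b (i + 0)) = fun _ : ι => (1 : Fˣ) := by
      funext i
      rw [add_zero, inv_mul_cancel]
    rw [this, add_zero, mon_one, Units.val_one]
  let f : ℕ → Matrix ι ι F := fun l => X ^ l * rowM 0 * Δ' ^ l
  set H : Matrix ι ι F := ∑ l ∈ Finset.range p, f l with hH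
  have hfp : f p = f 0 := by
    show X ^ p * rowM 0 * Δ' ^ p = X ^ 0 * rowM 0 * Δ' ^ 0
    rw [hXp, hΔ'p, pow_zero, pow_zero]
  have hstep : ∀ l, X * f l * Δ' = f (l + 1) := by
    intro l
    show X * (X ^ l * rowM 0 * Δ' ^ l) * Δ' = X ^ (l + 1) * rowM 0 * Δ' ^ (l + 1)
    rw [pow_succ', pow_succ]
    simp only [Matrix.mul_assoc]
  have hXH : X * H * Δ' = H := by
    rw [hH, Finset.mul_sum, Finset.sum_mul]
    simp only [hstep]
    have h1 := Finset.sum_range_succ' f p
    have h2 := Finset.sum_range_succ f p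
    rw [h2, hfp] at h1
    exact (add_right_cancel h1).symm
  have hXH2 : X * H = H * Δ := by
    have h3 : X * H * Δ' * Δ = H * Δ := by rw [hXH]
    rw [Matrix.mul_assoc, hΔΔ, Matrix.mul_one] at h3
    exact h3
  -- entries of the row `0`
  have hrow : ∀ j, H 0 j = 1 := by
    intro j
    rw [hH, Matrix.sum_apply]
    rw [Finset.sum_eq_single 0]
    · show (X ^ 0 * (rowM 0 : Matrix ι ι F) * Δ' ^ 0) 0 j = 1
      rw [pow_zero, pow_zero, Matrix.mul_one, Matrix.one_mul]
      show (if (0 : ι) = 0 then (1 : F) else 0) = 1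
      rw [if_pos rfl]
    · intro l hl hl0
      rw [Finset.mem_range] at hl
      show (X ^ l * (rowM 0 : Matrix ι ι F) * Δ' ^ l) 0 j = 0
      have h1 : Δ' ^ l = monM (fun i => (((b i)⁻¹ ^ l : Fˣ) : F)) 0 := by
        rw [hΔ', ← Units.val_pow_eq_pow_val, mon_diag_pow, mon_val]
      rw [h1, mul_diagM, mul_rowM]
      obtain ⟨d'', hd''⟩ := mon_pow_exists d k l
      have h2 : X ^ l = monM (fun i => (d'' i : F)) (l • k) := by
        rw [hX, ← Units.val_pow_eq_pow_val, hd'', mon_val]
      rw [h2, monM_apply_ne, zero_mul]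
      intro h3
      exact nsmul_ne_zero_of_lt hι hk (Nat.pos_of_ne_zero hl0) hl (left_eq_add.1 h3)
    · intro h
      exact absurd (Finset.mem_range.2 hp.out.pos) h
  -- columns are eigenvectors
  have hli : LinearIndependent F H.col := by
    apply Module.End.eigenvectors_linearIndependent' (Matrix.toLin' X) (fun j => (b j : F))
    · intro i j hij
      exact hb (Units.ext hij)
    · intro j
      constructor
      · rw [Module.End.mem_eigenspace_iff, Matrix.toLin'_apply]
        funext a
        have h1 := congrFun (congrFun hXH2 a) j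
        rw [hΔ, mon_val, mul_diagM] at h1
        show (X *ᵥ H.col j) a = ((b j : F) • H.col j) a
        rw [Pi.smul_apply, smul_eq_mul, mul_comm]
        exact h1
      · intro h0
        have := congrFun h0 0
        have h2 : H.col j 0 = H 0 j := rfl
        rw [h2, hrow] at this
        exact one_ne_zero this
  have hU : IsUnit H := Matrix.linearIndependent_cols_iff_isUnit.1 hli
  refine ⟨hU.unit, ?_⟩
  apply Units.ext
  rw [Units.val_mul, Units.val_mul, IsUnit.unit_spec]
  exact hXH2

end Cfsg.Agent.Helper4.GLpRed
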