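import Cfsg.Agent.Helper4.GLpRedF
import Cfsg.Agent.Helper4.GLpRedA
import Mathlib.GroupTheory.Sylow

set_option autoImplicit false
set_option linter.unusedSectionVars false

/-!
Assembly: every element of `Qsub p` lies in a conjugate of `Qsub p` different from `Qsub p`.
-/

namespace Cfsg.Agent.Helper4.GLpRed

open Matrix
open scoped Pointwise

variable {ι : Type*} [Fintype ι] [DecidableEq ι] [AddCommGroup ι] {F : Type*} [Field F]
variable {p : ℕ} [hp : Fact p.Prime]

lemma mem_conj_smul {G : Type*} [Group G] (g x : G) (Q : Subgroup G) :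
    x ∈ MulAut.conj g • Q ↔ g⁻¹ * x * g ∈ Q := by
  rw [Subgroup.mem_pointwise_smul_iff_inv_smul_mem, MulAut.smul_def, ← map_inv, MulAut.conj_apply,
    inv_inv]

lemma conj_smul_ne_of_witness {G : Type*} [Group G] (g y : G) (Q : Subgroup G) (hy : y ∈ Q)
    (hgy : g * y * g⁻¹ ∉ Q) : MulAut.conj g • Q ≠ Q := by
  intro h
  apply hgy
  rw [← h, mem_conj_smul]
  have : g⁻¹ * (g * y * g⁻¹) * g = y := by group
  rw [this]; exact hy

/-- (II): non-normalization. -/
theorem caseII_ne (hι : Nat.card ι = p) (hp2 : p ≠ 2) (d : ι → Fˣ) {k : ι} (hk : k ≠ 0)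
    (b : ι → Fˣ) (hb : Function.Injective b) (hbp : ∀ i, b i ^ p = 1) (h : GL ι F)
    (hh : mon d k * h = h * mon b 0) (ζ : Fˣ) (hζ1 : ζ ≠ 1) (hζp : ζ ^ p = 1) :
    MulAut.conj h • (Qsub p : Subgroup (GL ι F)) ≠ Qsub p := by
  intro heq
  have hp3 : 2 < p := by
    have := hp.out.two_le
    omega
  let e : ι → Fˣ := Function.update (fun _ => 1) 0 ζ
  have he0 : e 0 = ζ := Function.update_self _ _ _
  have hene : ∀ i, i ≠ 0 → e i = 1 := fun i hi => Function.update_of_ne hi _ _
  have hep : ∀ i, e i ^ p = 1 := by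
    intro i
    by_cases hi : i = 0
    · rw [hi, he0, hζp]
    · rw [hene i hi, one_pow]
  have hy : mon e 0 ∈ (Qsub p : Subgroup (GL ι F)) := mon_mem_Qsub hep
  have hmem : h * mon e 0 * h⁻¹ ∈ (Qsub p : Subgroup (GL ι F)) := by
    rw [← heq, mem_conj_smul]
    have : h⁻¹ * (h * mon e 0 * h⁻¹) * h = mon e 0 := by group
    rw [this]; exact hy
  obtain ⟨d', k', -, hm⟩ := hmem
  have hx : mon d k = h * mon b 0 * h⁻¹ := by rw [← hh, mul_inv_cancel_right]
  have hyb : mon e 0 * mon b 0 = mon b 0 * mon e 0 :=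
    (diag_comm_iff e b 0).2 (fun i => by rw [add_zero])
  have hcomm : mon d' k' * mon d k = mon d k * mon d' k' := by
    rw [← hm, hx]
    have e1 : h * mon e 0 * h⁻¹ * (h * mon b 0 * h⁻¹) = h * (mon e 0 * mon b 0) * h⁻¹ := by group
    have e2 : h * mon b 0 * h⁻¹ * (h * mon e 0 * h⁻¹) = h * (mon b 0 * mon e 0) * h⁻¹ := by group
    rw [e1, e2, hyb]
  obtain ⟨l, c, hlc⟩ := comm_mon_eq hι d hk d' k' hcomm
  -- transport back
  have hxl : h⁻¹ * mon d k ^ l * h = mon b 0 ^ l := by
    rw [hx]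
    have : ∀ n : ℕ, h⁻¹ * (h * mon b 0 * h⁻¹) ^ n * h = mon b 0 ^ n := by
      intro n
      induction n with
      | zero => rw [pow_zero, pow_zero, mul_one, inv_mul_cancel]
      | succ n ih =>
        rw [pow_succ, pow_succ, ← ih]
        group
    exact this l
  have hye : mon e 0 = scal c * mon b 0 ^ l := by
    have h1 : mon e 0 = h⁻¹ * (h * mon e 0 * h⁻¹) * h := by group
    rw [h1, hm, hlc, ← hxl]
    have h2 : h⁻¹ * (scal c * mon d k ^ l) * h = (h⁻¹ * scal c) * (mon d k ^ l * h) := by group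
    rw [h2, ← scal_comm c h⁻¹]
    group
  rw [mon_diag_pow, scal, mon_mul] at hye
  have hent : ∀ i, e i = c * b i ^ l := by
    intro i
    have := congrFun (mon_inj hye).2 i
    simpa only [add_zero] using this
  -- two indices different from `0`
  have hk2 : 2 • k ≠ 0 := nsmul_ne_zero_of_lt hι hk (by norm_num) hp3
  have hkk2 : k ≠ 2 • k := by
    intro h1
    rw [two_nsmul] at h1
    exact hk (left_eq_add.1 h1)
  have h1 := hent k
  have h2 := hent (2 • k)
  rw [hene k hk] at h1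
  rw [hene _ hk2] at h2
  have hu : (b k / b (2 • k)) ^ l = 1 := by
    rw [div_pow, div_eq_one]
    exact mul_left_cancel (h1.symm.trans h2)
  have hu1 : b k / b (2 • k) ≠ 1 := by
    intro h3
    rw [div_eq_one] at h3
    exact hkk2 (hb h3)
  have hup : (b k / b (2 • k)) ^ p = 1 := by
    rw [div_pow, hbp, hbp, div_one]
  have hord : orderOf (b k / b (2 • k)) = p := orderOf_eq_prime hup hu1
  have hpl : p ∣ l := by
    rw [← hord]
    exact orderOf_dvd_of_pow_eq_one hu
  obtain ⟨m, hm'⟩ := hpl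
  have hbl : ∀ i, b i ^ l = 1 := by
    intro i
    rw [hm', pow_mul, hbp, one_pow]
  have h0 := hent 0
  rw [he0, hbl, mul_one] at h0
  rw [hbl, mul_one] at h1
  exact hζ1 (h0.trans h1.symm)

/-- **Main abstract theorem**: every element of `Qsub p` lies in another conjugate. -/
theorem redundant [Fintype F] (hι : Nat.card ι = p) (hp2 : p ≠ 2) (hpF : p ∣ Fintype.card F - 1) :
    ∀ x ∈ (Qsub p : Subgroup (GL ι F)), ∃ g : GL ι F,
      MulAut.conj g • (Qsub p : Subgroup (GL ι F)) ≠ Qsub p ∧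
        x ∈ MulAut.conj g • (Qsub p : Subgroup (GL ι F)) := by
  classical
  have hp3 : 2 < p := by
    have := hp.out.two_le
    omega
  -- the group of p-th roots of unity has order p
  have hmu : Nat.card (powMonoidHom p : Fˣ →* Fˣ).ker = p := by
    rw [IsCyclic.card_powMonoidHom_ker, Nat.card_eq_fintype_card, Fintype.card_units]
    exact Nat.gcd_eq_right hpF
  have hmem : ∀ a : Fˣ, a ∈ (powMonoidHom p : Fˣ →* Fˣ).ker ↔ a ^ p = 1 := by
    intro a
    rw [MonoidHom.mem_ker, powMonoidHom_apply]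
  -- a nontrivial root of unity
  obtain ⟨ζ, hζ1, hζp⟩ : ∃ ζ : Fˣ, ζ ≠ 1 ∧ ζ ^ p = 1 := by
    have hfin : Finite (powMonoidHom p : Fˣ →* Fˣ).ker := inferInstance
    have hnt : Nontrivial (powMonoidHom p : Fˣ →* Fˣ).ker := by
      rw [← Finite.one_lt_card_iff_nontrivial, hmu]
      omega
    obtain ⟨a, ha⟩ := exists_ne (1 : (powMonoidHom p : Fˣ →* Fˣ).ker)
    refine ⟨a, fun h => ha (Subtype.ext h), (hmem _).1 a.2⟩
  -- an injective family of roots of unity
  obtain ⟨b, hb, hbp⟩ : ∃ b : ι → Fˣ, Function.Injective b ∧ ∀ i, b i ^ p = 1 := by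
    let eq : ι ≃ (powMonoidHom p : Fˣ →* Fˣ).ker :=
      (Finite.equivFinOfCardEq hι).trans (Finite.equivFinOfCardEq hmu).symm
    exact ⟨fun i => (eq i : Fˣ), fun i j hij => eq.injective (Subtype.ext hij),
      fun i => (hmem _).1 (eq i).2⟩
  -- a nonzero index
  have hk0 : ∃ k₀ : ι, k₀ ≠ 0 := by
    have hnt : Nontrivial ι := by
      rw [← Finite.one_lt_card_iff_nontrivial, hι]
      omega
    exact exists_ne 0
  -- the witness family
  have hwit : ∀ i₁ i₂ : ι, i₁ ≠ i₂ → ∃ e : ι → Fˣ, (∀ i, e i ^ p = 1) ∧ e i₁ ≠ e i₂ := by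
    intro i₁ i₂ hne
    refine ⟨Function.update (fun _ => 1) i₁ ζ, ?_, ?_⟩
    · intro i
      by_cases hi : i = i₁
      · rw [hi, Function.update_self, hζp]
      · rw [Function.update_of_ne hi, one_pow]
    · rw [Function.update_self, Function.update_of_ne hne.symm]
      exact hζ1
  rintro x ⟨d, k, hd, rfl⟩
  by_cases hk : k = 0
  · subst hk
    by_cases hinj : Function.Injective d
    · -- diagonal with distinct entries
      obtain ⟨k₀, hk₀⟩ := hk0
      have hpow : mon (fun _ => (1 : Fˣ)) k₀ ^ p = 1 := by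
        obtain ⟨c, hc⟩ := exists_pow_eq_scal (F := F) hι (fun _ => (1 : Fˣ)) hk₀
        -- compute directly
        have : ∀ l : ℕ, mon (fun _ => (1 : Fˣ)) k₀ ^ l = mon (fun _ => (1 : Fˣ)) (l • k₀) := by
          intro l
          induction l with
          | zero => rw [pow_zero, zero_smul, mon_one]
          | succ l ih =>
            rw [pow_succ, ih, mon_mul, succ_nsmul]
            congr 1
            funext i
            rw [mul_one]
        rw [this, prime_nsmul hι, mon_one]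
      obtain ⟨h, hh⟩ := exists_intertwiner hι (fun _ => (1 : Fˣ)) hk₀ hpow d hinj hd
      have hne := caseII_ne hι hp2 (fun _ => (1 : Fˣ)) hk₀ d hinj hd h hh ζ hζ1 hζp
      refine ⟨h⁻¹, ?_, ?_⟩
      · intro heq
        apply hne
        have h5 : MulAut.conj h • (MulAut.conj h⁻¹ • (Qsub p : Subgroup (GL ι F)))
            = MulAut.conj h • (Qsub p : Subgroup (GL ι F)) := by rw [heq]
        rw [← h5, smul_smul, ← map_mul, mul_inv_cancel, map_one, one_smul]
      · rw [mem_conj_smul, inv_inv, ← hh, mul_inv_cancel_right]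
        exact mon_mem_Qsub (fun _ => one_pow _)
    · -- two equal entries
      rw [Function.Injective] at hinj
      push Not at hinj
      obtain ⟨i₁, i₂, hdi, hne⟩ := hinj
      obtain ⟨e, hep, he⟩ := hwit i₁ i₂ hne
      obtain ⟨g, hg1, hg2⟩ := caseIII (p := p) d hne hdi e he
      refine ⟨g, conj_smul_ne_of_witness g _ _ (mon_mem_Qsub hep) hg2, ?_⟩
      rw [mem_conj_smul, mul_assoc, ← hg1, ← mul_assoc, inv_mul_cancel, one_mul]
      exact mon_mem_Qsub hd
  · obtain ⟨c, hc⟩ := exists_pow_eq_scal hι d hk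
    by_cases hc1 : c = 1
    · -- order p, conjugate to a diagonal element
      have hpow : mon d k ^ p = 1 := by
        rw [hc, hc1, scal, mon_one]
      obtain ⟨h, hh⟩ := exists_intertwiner hι d hk hpow b hb hbp
      refine ⟨h, caseII_ne hι hp2 d hk b hb hbp h hh ζ hζ1 hζp, ?_⟩
      rw [mem_conj_smul, mul_assoc, hh, ← mul_assoc, inv_mul_cancel, one_mul]
      exact mon_mem_Qsub hbp
    · obtain ⟨k₀, hk₀⟩ := hk0
      obtain ⟨e, hep, he⟩ := hwit k₀ 0 hk₀
      obtain ⟨g, hg1, hg2⟩ := caseI hι hp2 d hk c hc1 hc e ⟨k₀, 0, he⟩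
      refine ⟨g, conj_smul_ne_of_witness g _ _ (mon_mem_Qsub hep) hg2, ?_⟩
      rw [mem_conj_smul, mul_assoc, ← hg1, ← mul_assoc, inv_mul_cancel, one_mul]
      exact mon_mem_Qsub hd

end Cfsg.Agent.Helper4.GLpRed
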