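import Mathlib
import Cfsg.Agent.Helper4.CopAutA
import Cfsg.Agent.Helper4.CopAutD

/-!
# The averaging inequality for a `p`-group of coprime operators

For a finite `p`-group `P` acting on a finite group `V` of order prime to `p`:
`|P| ^ p * [V : C_V(P)] ^ (p - 1) ≤ (∑ x : P, [V : C_V(x)]) ^ p`.
-/

set_option autoImplicit false

namespace Cfsg.Agent.Helper4.CopAut

universe u v

section real

/-- The inequality of the means, in power form. -/
theorem amgm_pow {p : ℕ} (hp : p ≠ 0) (y : Fin p → ℝ) (hy : ∀ j, 0 ≤ y j) :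
    (p : ℝ) ^ p * ∏ j, y j ≤ (∑ j, y j) ^ p := by
  have hp0 : (p : ℝ) ≠ 0 := Nat.cast_ne_zero.2 hp
  have hw : ∑ _j : Fin p, ((p : ℝ)⁻¹) = 1 := by
    rw [Finset.sum_const, Finset.card_univ, Fintype.card_fin, nsmul_eq_mul]
    exact mul_inv_cancel₀ hp0
  have h := Real.geom_mean_le_arith_mean_weighted Finset.univ (fun _ : Fin p => (p : ℝ)⁻¹) y
    (fun _ _ => by positivity) hw (fun j _ => hy j)
  have h0 : 0 ≤ ∏ j, y j ^ ((p : ℝ)⁻¹) :=
    Finset.prod_nonneg (fun j _ => Real.rpow_nonneg (hy j) _)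
  have h1 := pow_le_pow_left₀ h0 h p
  rw [← Finset.prod_pow,
    Finset.prod_congr rfl (fun j _ => Real.rpow_inv_natCast_pow (hy j) hp),
    ← Finset.mul_sum, mul_pow, inv_pow] at h1
  have hpp : (0 : ℝ) < (p : ℝ) ^ p := by positivity
  calc (p : ℝ) ^ p * ∏ j, y j ≤ (p : ℝ) ^ p * (((p : ℝ) ^ p)⁻¹ * (∑ j, y j) ^ p) := by gcongr
    _ = (∑ j, y j) ^ p := by
      rw [← mul_assoc, mul_inv_cancel₀ hpp.ne', one_mul]

theorem per_x {p : ℕ} (hp : p ≠ 0) (v c f a : ℝ) (e : Fin p → ℝ) (hv : 0 < v) (hc : 0 < c)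
    (hf : 0 < f) (he : ∀ j, 0 < e j) (_ha0 : 0 ≤ a) (ha : a ^ p = (v / c) ^ (p - 1))
    (hK : c * ∏ j, e j ≤ v * f ^ p) :
    (p : ℝ) * a * (c / f) ≤ ∑ j, v / e j := by
  have hsum0 : 0 ≤ ∑ j, v / e j := Finset.sum_nonneg (fun j _ => (div_pos hv (he j)).le)
  have h1 := amgm_pow hp (fun j => v / e j) (fun j => (div_pos hv (he j)).le)
  have hE : 0 < ∏ j, e j := Finset.prod_pos (fun j _ => he j)
  have hpp : (0 : ℝ) < (p : ℝ) ^ p := by positivity
  have key : (v / c) ^ (p - 1) * (c / f) ^ p ≤ ∏ j, (v / e j) := by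
    rw [Finset.prod_div_distrib, Finset.prod_const, Finset.card_univ, Fintype.card_fin,
      le_div_iff₀ hE]
    obtain ⟨k, rfl⟩ : ∃ k, p = k + 1 := Nat.exists_eq_succ_of_ne_zero hp
    simp only [Nat.add_sub_cancel]
    have h2 : (v / c) ^ k * (c / f) ^ (k + 1) * ∏ j, e j =
        v ^ k * (c * ∏ j, e j) / f ^ (k + 1) := by
      rw [div_pow, div_pow, pow_succ c k]
      field_simp
    rw [h2, div_le_iff₀ (by positivity)]
    calc v ^ k * (c * ∏ j, e j) ≤ v ^ k * (v * f ^ (k + 1)) := by gcongr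
      _ = v ^ (k + 1) * f ^ (k + 1) := by ring
  apply le_of_pow_le_pow_left₀ hp hsum0
  calc ((p : ℝ) * a * (c / f)) ^ p = (p : ℝ) ^ p * (a ^ p * (c / f) ^ p) := by ring
    _ = (p : ℝ) ^ p * ((v / c) ^ (p - 1) * (c / f) ^ p) := by rw [ha]
    _ ≤ (p : ℝ) ^ p * ∏ j, (v / e j) := by gcongr
    _ ≤ (∑ j, v / e j) ^ p := h1

end real

section transport

variable {P : Type v} [Group P] [Finite P] {p : ℕ} [Fact p.Prime]

/-- The fixed-point inequality with the hypotheses on the operators only. -/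
theorem card_fix_le' (hP : IsPGroup p P) (V : Type u) [Group V] [Finite V] (φ : P →* MulAut V)
    (hcop : (Nat.card V).Coprime p) (x z : P) (hc : φ x * φ z = φ z * φ x) (hζ : φ z ^ p = 1) :
    Nat.card (fixS φ {z}) * ∏ j : Fin p, Nat.card (fixS φ {x * z ^ (j : ℕ)}) ≤
      Nat.card V * Nat.card (fixS φ {x, z}) ^ p := by
  have hR : IsPGroup p φ.range := hP.of_surjective φ.rangeRestrict φ.rangeRestrict_surjective
  have : Finite φ.range := Finite.of_surjective φ.rangeRestrict φ.rangeRestrict_surjective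
  have key := card_fix_le hR (⟨φ x, x, rfl⟩ : φ.range) ⟨φ z, z, rfl⟩
    (Subtype.ext (by rw [Subgroup.coe_mul, Subgroup.coe_mul]; exact hc))
    (Subtype.ext (by rw [Subgroup.coe_pow]; exact hζ)) V φ.range.subtype hcop
  have e1 : ∀ a : P, fixS φ.range.subtype {(⟨φ a, a, rfl⟩ : φ.range)} = fixS φ {a} := by
    intro a
    ext v
    rw [mem_fixS_singleton, mem_fixS_singleton]
    rfl
  have e2 : ∀ j : ℕ, (⟨φ x, x, rfl⟩ : φ.range) * (⟨φ z, z, rfl⟩ : φ.range) ^ j =
      ⟨φ (x * z ^ j), x * z ^ j, rfl⟩ := by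
    intro j
    apply Subtype.ext
    change φ x * φ z ^ j = φ (x * z ^ j)
    rw [map_mul, map_pow]
  rw [e1, fixS_pair, e1, e1, ← fixS_pair,
    Finset.prod_congr rfl (fun j _ => by rw [e2, e1])] at key
  exact key

end transport

section main

variable {P : Type v} [Group P] [Fintype P] {p : ℕ} [Fact p.Prime]

/-- **The averaging inequality.** -/
theorem sum_index_ge (hP : IsPGroup p P) :
    ∀ (n : ℕ) (V : Type u) [Group V] [Finite V] (φ : P →* MulAut V), Nat.card V = n →
      (Nat.card V).Coprime p →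
      (Nat.card P : ℝ) ^ p * ((Nat.card V : ℝ) / Nat.card (fixS φ Set.univ)) ^ (p - 1) ≤
        (∑ x : P, (Nat.card V : ℝ) / Nat.card (fixS φ {x})) ^ p := by
  have hp : p ≠ 0 := (Fact.out : p.Prime).ne_zero
  intro n
  induction n using Nat.strong_induction_on with
  | _ n ih =>
  intro V _ _ φ hn hcop
  have hVpos : (0 : ℝ) < Nat.card V := Nat.cast_pos.2 Nat.card_pos
  by_cases htriv : ∀ x, φ x = 1
  · have h1 : ∀ S : Set P, fixS φ S = ⊤ := by
      intro S
      ext v
      simp [mem_fixS, htriv]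
    rw [h1, Finset.sum_congr rfl (fun x _ => by rw [h1])]
    rw [Subgroup.card_top, div_self hVpos.ne', one_pow, mul_one, Finset.sum_const,
      Finset.card_univ, nsmul_eq_mul, mul_one, Nat.card_eq_fintype_card]
  · push Not at htriv
    obtain ⟨x0, hx0⟩ := htriv
    have hR : IsPGroup p φ.range := hP.of_surjective φ.rangeRestrict φ.rangeRestrict_surjective
    have : Finite φ.range := Finite.of_surjective φ.rangeRestrict φ.rangeRestrict_surjective
    have : Nontrivial φ.range :=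
      ⟨⟨⟨φ x0, x0, rfl⟩, 1, fun h => hx0 (congrArg Subtype.val h)⟩⟩
    have hZ : Nontrivial (Subgroup.center φ.range) := hR.center_nontrivial
    have hpd : p ∣ Nat.card (Subgroup.center φ.range) := by
      obtain ⟨k, hk⟩ := (hR.to_subgroup (Subgroup.center φ.range)).exists_card_eq
      have hk0 : k ≠ 0 := by
        intro h0
        rw [h0, pow_zero] at hk
        have := Finite.one_lt_card (α := Subgroup.center φ.range)
        omega
      rw [hk]
      exact dvd_pow_self p hk0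
    obtain ⟨ζ, hζ⟩ := exists_prime_orderOf_dvd_card' p hpd
    obtain ⟨z, hz⟩ : ∃ z : P, φ z = ((ζ : φ.range) : MulAut V) := ζ.1.2
    have hzp : φ z ^ p = 1 := by
      rw [hz]
      have h := pow_orderOf_eq_one ζ
      rw [hζ] at h
      have h2 := congrArg (fun t : Subgroup.center φ.range => ((t : φ.range) : MulAut V)) h
      simpa using h2
    have hz1 : φ z ≠ 1 := by
      rw [hz]
      intro h
      have h2 : ζ = 1 := Subtype.ext (Subtype.ext h)
      rw [h2, orderOf_one] at hζ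
      exact (Fact.out : p.Prime).one_lt.ne hζ
    have hzc : ∀ q : P, φ q * φ z = φ z * φ q := by
      intro q
      have h := (Subgroup.mem_center_iff.1 ζ.2) ⟨φ q, q, rfl⟩
      rw [hz]
      exact congrArg Subtype.val h
    -- the fixed points of `z`
    obtain ⟨C, hCdef⟩ : ∃ C : Subgroup V, C = fixS φ {z} := ⟨_, rfl⟩
    have hCinv : Inv φ C := by
      rw [hCdef]
      apply fixS_inv
      intro q s hs
      refine ⟨z, rfl, ?_⟩
      rw [Set.mem_singleton_iff.1 hs]
      exact (hzc q).symm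
    have hCtop : C ≠ ⊤ := by
      intro h
      apply hz1
      ext v
      have hv : v ∈ C := by rw [h]; exact Subgroup.mem_top v
      rw [hCdef, mem_fixS_singleton] at hv
      rw [hv]; rfl
    have hClt : Nat.card C < Nat.card V := by
      apply lt_of_le_of_ne (Subgroup.card_le_card_group _)
      intro h
      exact hCtop ((Subgroup.card_eq_iff_eq_top _).1 h)
    have hCcop : (Nat.card C).Coprime p :=
      Nat.Coprime.coprime_dvd_left (Subgroup.card_subgroup_dvd_card C) hcop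
    have hCpos : (0 : ℝ) < Nat.card C := Nat.cast_pos.2 Nat.card_pos
    have ih1 := ih _ (hn ▸ hClt) C (res φ C hCinv) rfl hCcop
    have hFC : C ⊓ fixS φ Set.univ = fixS φ Set.univ := by
      rw [inf_eq_right, hCdef]
      exact fixS_anti φ (Set.subset_univ _)
    have hFx : ∀ x : P, C ⊓ fixS φ {x} = fixS φ {x, z} := by
      intro x
      rw [fixS_pair, hCdef, inf_comm]
    rw [card_fixS_res, hFC,
      Finset.sum_congr rfl (fun x _ => by rw [card_fixS_res, hFx x])] at ih1
    -- the root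
    obtain ⟨A, hA⟩ : ∃ A : ℝ, A = (Nat.card V : ℝ) / Nat.card C := ⟨_, rfl⟩
    have hApos : 0 < A := by rw [hA]; exact div_pos hVpos hCpos
    obtain ⟨a, ha⟩ : ∃ a : ℝ, a = (A ^ (p - 1)) ^ ((p : ℝ)⁻¹) := ⟨_, rfl⟩
    have ha0 : 0 ≤ a := by rw [ha]; exact Real.rpow_nonneg (pow_nonneg hApos.le _) _
    have hap : a ^ p = A ^ (p - 1) := by
      rw [ha]
      exact Real.rpow_inv_natCast_pow (pow_nonneg hApos.le _) hp
    -- the estimate for each `x`
    have hx : ∀ x : P, (p : ℝ) * a * ((Nat.card C : ℝ) / Nat.card (fixS φ {x, z})) ≤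
        ∑ j : Fin p, (Nat.card V : ℝ) / Nat.card (fixS φ {x * z ^ (j : ℕ)}) := by
      intro x
      have hK := card_fix_le' hP V φ hcop x z (hzc x) hzp
      rw [← hCdef] at hK
      apply per_x hp _ _ _ _ _ hVpos hCpos (Nat.cast_pos.2 Nat.card_pos)
        (fun j => Nat.cast_pos.2 Nat.card_pos) ha0 (by rw [hap, hA])
      exact_mod_cast hK
    -- summing up
    have hsum : ∑ x : P, ∑ j : Fin p, (Nat.card V : ℝ) / Nat.card (fixS φ {x * z ^ (j : ℕ)}) =
        (p : ℝ) * ∑ x : P, (Nat.card V : ℝ) / Nat.card (fixS φ {x}) := by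
      have hj : ∀ j : Fin p,
          ∑ x : P, (Nat.card V : ℝ) / Nat.card (fixS φ {x * z ^ (j : ℕ)}) =
            ∑ x : P, (Nat.card V : ℝ) / Nat.card (fixS φ {x}) := fun j =>
        Equiv.sum_comp (Equiv.mulRight (z ^ (j : ℕ)))
          (fun x : P => (Nat.card V : ℝ) / Nat.card (fixS φ {x}))
      rw [Finset.sum_comm, Finset.sum_congr rfl (fun j _ => hj j)]
      rw [Finset.sum_const, Finset.card_univ, Fintype.card_fin, nsmul_eq_mul]
    have htot : a * ∑ x : P, (Nat.card C : ℝ) / Nat.card (fixS φ {x, z}) ≤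
        ∑ x : P, (Nat.card V : ℝ) / Nat.card (fixS φ {x}) := by
      have h1 : ∑ x : P, (p : ℝ) * a * ((Nat.card C : ℝ) / Nat.card (fixS φ {x, z})) ≤
          ∑ x : P, ∑ j : Fin p, (Nat.card V : ℝ) / Nat.card (fixS φ {x * z ^ (j : ℕ)}) :=
        Finset.sum_le_sum (fun x _ => hx x)
      rw [hsum, ← Finset.mul_sum, mul_assoc] at h1
      exact le_of_mul_le_mul_left h1 (Nat.cast_pos.2 (Nat.pos_of_ne_zero hp))
    have hS0 : 0 ≤ ∑ x : P, (Nat.card C : ℝ) / Nat.card (fixS φ {x, z}) :=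
      Finset.sum_nonneg (fun x _ => by positivity)
    have hFpos : (0 : ℝ) < Nat.card (fixS φ Set.univ) := Nat.cast_pos.2 Nat.card_pos
    calc (Nat.card P : ℝ) ^ p * ((Nat.card V : ℝ) / Nat.card (fixS φ Set.univ)) ^ (p - 1)
        = A ^ (p - 1) * ((Nat.card P : ℝ) ^ p *
            ((Nat.card C : ℝ) / Nat.card (fixS φ Set.univ)) ^ (p - 1)) := by
          rw [hA, mul_left_comm, ← mul_pow]
          congr 2
          field_simp
      _ ≤ A ^ (p - 1) * (∑ x : P, (Nat.card C : ℝ) / Nat.card (fixS φ {x, z})) ^ p := by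
          gcongr
      _ = (a * ∑ x : P, (Nat.card C : ℝ) / Nat.card (fixS φ {x, z})) ^ p := by
          rw [mul_pow, hap]
      _ ≤ (∑ x : P, (Nat.card V : ℝ) / Nat.card (fixS φ {x})) ^ p :=
          pow_le_pow_left₀ (mul_nonneg ha0 hS0) htot p

end main

end Cfsg.Agent.Helper4.CopAut
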