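import Mathlib

/-!
# Counting the `p`-elements of a finite group through a Sylow subgroup

`#{p-elements of G} = ∑ x ∈ P, n / λ(x)`, where `n` is the number of Sylow `p`-subgroups and
`λ(x)` the number of them containing `x`.
-/

set_option autoImplicit false

namespace Cfsg.Agent.Helper4.Gheri

open scoped Pointwise

universe u

variable {G : Type u} [Group G] [Finite G] {p : ℕ} [Fact p.Prime]

/-- the number of Sylow `p`-subgroups containing `x`. -/
noncomputable def lam (p : ℕ) (x : G) : ℕ := Nat.card {Q : Sylow p G // x ∈ (Q : Subgroup G)}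

omit [Finite G] [Fact (Nat.Prime p)] in
theorem mem_smul_sylow_iff (g x : G) (Q : Sylow p G) :
    x ∈ ((g • Q : Sylow p G) : Subgroup G) ↔ g⁻¹ * x * g ∈ (Q : Subgroup G) := by
  rw [Sylow.coe_subgroup_smul, Subgroup.mem_pointwise_smul_iff_inv_smul_mem, ← map_inv,
    MulAut.smul_def, MulAut.conj_apply, inv_inv]

omit [Finite G] [Fact (Nat.Prime p)] in
theorem lam_conj (g x : G) : lam p (g * x * g⁻¹) = lam p x := by
  unfold lam
  apply Nat.card_congr
  refine Equiv.subtypeEquiv (MulAction.toPerm g⁻¹) (fun Q => ?_)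
  change g * x * g⁻¹ ∈ (Q : Subgroup G) ↔ x ∈ ((g⁻¹ • Q : Sylow p G) : Subgroup G)
  rw [mem_smul_sylow_iff, inv_inv]

theorem lam_pos_iff (x : G) : 0 < lam p x ↔ ∃ k : ℕ, orderOf x = p ^ k := by
  unfold lam
  rw [Nat.card_pos_iff]
  constructor
  · rintro ⟨⟨Q, hQ⟩, _⟩
    obtain ⟨k, hk⟩ := Q.2 ⟨x, hQ⟩
    have h1 : x ^ p ^ k = 1 := by simpa using congrArg Subtype.val hk
    obtain ⟨j, _, hj⟩ := (Nat.dvd_prime_pow (Fact.out : p.Prime)).1 (orderOf_dvd_of_pow_eq_one h1)
    exact ⟨j, hj⟩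
  · rintro ⟨k, hk⟩
    have hz : IsPGroup p (Subgroup.zpowers x) := IsPGroup.of_card (n := k) (by
      rw [Nat.card_zpowers, hk])
    obtain ⟨Q, hQ⟩ := hz.exists_le_sylow
    exact ⟨⟨⟨Q, hQ (Subgroup.mem_zpowers x)⟩⟩, inferInstance⟩

/-- **The number of `p`-elements.** -/
theorem card_pElements (P : Sylow p G) [Fintype (P : Subgroup G)] :
    (Nat.card {g : G // ∃ k : ℕ, orderOf g = p ^ k} : ℝ) =
      ∑ x : (P : Subgroup G), (Nat.card (Sylow p G) : ℝ) / lam p (x : G) := by
  classical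
  let _ : Fintype G := Fintype.ofFinite G
  let _ : Fintype (Sylow p G) := Fintype.ofFinite _
  have h1 : (Nat.card {g : G // ∃ k : ℕ, orderOf g = p ^ k} : ℝ) =
      ∑ x : G, ∑ Q : Sylow p G, if x ∈ (Q : Subgroup G) then ((lam p x : ℝ))⁻¹ else 0 := by
    rw [Nat.card_eq_fintype_card, Fintype.card_subtype, Finset.card_filter]
    push_cast
    apply Finset.sum_congr rfl
    intro x _
    rw [← Finset.sum_filter, Finset.sum_const, nsmul_eq_mul]
    have hl : (Finset.univ.filter (fun Q : Sylow p G => x ∈ (Q : Subgroup G))).card = lam p x := by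
      unfold lam
      rw [Nat.card_eq_fintype_card, Fintype.card_subtype]
    rw [hl]
    by_cases hx : ∃ k, orderOf x = p ^ k
    · rw [if_pos hx]
      have h2 : 0 < lam p x := (lam_pos_iff x).2 hx
      have h3 : (lam p x : ℝ) ≠ 0 := Nat.cast_ne_zero.2 h2.ne'
      rw [mul_inv_cancel₀ h3]
    · rw [if_neg hx]
      have h2 : lam p x = 0 := by
        have := (lam_pos_iff (p := p) x).not.2 hx
        omega
      rw [h2]
      simp
  rw [h1, Finset.sum_comm]
  have h2 : ∀ Q : Sylow p G,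
      ∑ x : G, (if x ∈ (Q : Subgroup G) then ((lam p x : ℝ))⁻¹ else 0) =
        ∑ x : (P : Subgroup G), ((lam p (x : G) : ℝ))⁻¹ := by
    intro Q
    obtain ⟨g, rfl⟩ := MulAction.exists_smul_eq G P Q
    rw [← Finset.sum_filter]
    symm
    apply Finset.sum_bij (fun (x : (P : Subgroup G)) _ => g * (x : G) * g⁻¹)
    · intro x _
      rw [Finset.mem_filter]
      refine ⟨Finset.mem_univ _, ?_⟩
      rw [mem_smul_sylow_iff]
      have : g⁻¹ * (g * (x : G) * g⁻¹) * g = x := by group
      rw [this]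
      exact x.2
    · intro a _ b _ h
      apply Subtype.ext
      exact mul_left_cancel (mul_right_cancel h)
    · intro y hy
      rw [Finset.mem_filter, mem_smul_sylow_iff] at hy
      refine ⟨⟨g⁻¹ * y * g, hy.2⟩, Finset.mem_univ _, ?_⟩
      change g * (g⁻¹ * y * g) * g⁻¹ = y
      group
    · intro x _
      rw [lam_conj]
  rw [Finset.sum_congr rfl (fun Q _ => h2 Q), Finset.sum_const, Finset.card_univ, nsmul_eq_mul,
    Finset.mul_sum, ← Nat.card_eq_fintype_card]
  simp only [div_eq_mul_inv]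

end Cfsg.Agent.Helper4.Gheri
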