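import Mathlib
import Cfsg.Agent.Helper4.SubnCount

set_option autoImplicit false

/-!
Casolo's formula for the order of the subnormalizer of a `p`-subgroup in a `p`-solvable group,
by induction along a normal series with `p`- and `p'`-factors (quotienting by the bottom term).
-/

namespace Cfsg.Agent.Helper4.SubnPSolv

open Cfsg.Agent.Helper4.SubnCount

universe u

variable {G : Type u} [Group G]

/-- The subnormalizer of `H`, in the form: elements normalizing some `p`-subgroup containing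
`H`. -/
def SubSet (p : ℕ) (H : Subgroup G) : Set G :=
  {g | ∃ R : Subgroup G, IsPGroup p R ∧ H ≤ R ∧ g ∈ Subgroup.normalizer (R : Set G)}

theorem card_preimage [Finite G] (N : Subgroup G) [N.Normal] (S : Set (G ⧸ N)) :
    Nat.card {g : G // (QuotientGroup.mk' N g) ∈ S} = Nat.card ↥N * Nat.card ↥S := by
  rw [← Nat.card_prod]
  exact Nat.card_congr (QuotientGroup.preimageMkEquivSubgroupProdSet N S)

/-- Quotienting by a normal `p`-subgroup: the subnormalizer is the full preimage. -/
theorem mem_subSet_iff_of_pgroup {p : ℕ} [Fact p.Prime] (N : Subgroup G) [N.Normal]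
    (hN : IsPGroup p N) (H : Subgroup G) (g : G) :
    g ∈ SubSet p H ↔ QuotientGroup.mk' N g ∈ SubSet p (H.map (QuotientGroup.mk' N)) := by
  constructor
  · rintro ⟨R, hRp, hHR, hg⟩
    exact ⟨R.map (QuotientGroup.mk' N), hRp.map _, Subgroup.map_mono hHR,
      Subgroup.le_normalizer_map _ (Subgroup.mem_map_of_mem _ hg)⟩
  · rintro ⟨R, hRp, hHR, hg⟩
    refine ⟨R.comap (QuotientGroup.mk' N), ?_, ?_, ?_⟩
    · apply hRp.comap_of_ker_isPGroup
      rw [QuotientGroup.ker_mk']
      exact hN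
    · rw [← Subgroup.map_le_iff_le_comap]; exact hHR
    · exact Subgroup.le_normalizer_comap _ (Subgroup.mem_comap.2 hg)

theorem card_subSet_of_pgroup [Finite G] {p : ℕ} [Fact p.Prime] (N : Subgroup G) [N.Normal]
    (hN : IsPGroup p N) (H : Subgroup G) :
    Nat.card ↥(SubSet p H) =
      Nat.card ↥N * Nat.card ↥(SubSet p (H.map (QuotientGroup.mk' N))) := by
  rw [← card_preimage N (SubSet p (H.map (QuotientGroup.mk' N)))]
  apply Nat.card_congr
  apply Equiv.subtypeEquivRight
  intro g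
  exact mem_subSet_iff_of_pgroup N hN H g

section coprime

set_option linter.unusedSectionVars false

variable [Finite G] {p : ℕ} [Fact p.Prime]

/-- A `p`-subgroup meets a subgroup of order prime to `p` trivially. -/
theorem eq_one_of_mem_of_mem {Q N : Subgroup G} (hQ : IsPGroup p Q)
    (hN : (Nat.card ↥N).Coprime p) {x : G} (hxQ : x ∈ Q) (hxN : x ∈ N) : x = 1 := by
  obtain ⟨k, hk⟩ := hQ ⟨x, hxQ⟩
  have h1 : x ^ (p ^ k) = 1 := by
    have := congrArg Subtype.val hk
    simpa using this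
  have h2 : orderOf x ∣ p ^ k := orderOf_dvd_of_pow_eq_one h1
  have h3 : orderOf x ∣ Nat.card ↥N := by
    have := orderOf_dvd_natCard (⟨x, hxN⟩ : ↥N)
    rwa [Subgroup.orderOf_mk] at this
  have h4 : (p ^ k).Coprime (Nat.card ↥N) := (Nat.Coprime.pow_left k hN.symm)
  have h5 : orderOf x = 1 := Nat.eq_one_of_dvd_coprimes h4 h2 h3
  exact orderOf_eq_one_iff.1 h5

theorem map_map_conj {G' : Type*} [Group G'] (f : G →* G') (H : Subgroup G) (g : G) :
    (H.map (MulAut.conj g).toMonoidHom).map f =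
      (H.map f).map (MulAut.conj (f g)).toMonoidHom := by
  rw [Subgroup.map_map, Subgroup.map_map]
  congr 1
  ext x
  simp

theorem card_map_conj (H : Subgroup G) (g : G) :
    Nat.card ↥(H.map (MulAut.conj g).toMonoidHom) = Nat.card ↥H :=
  Nat.card_congr (H.equivMapOfInjective _ (MulAut.conj g).injective).symm.toEquiv

/-- Sylow's theorem inside `P ⊔ N`: a `p`-subgroup of `P ⊔ N` is conjugate into the Sylow
`p`-subgroup `P` by an element of the normal subgroup `N`. -/
theorem exists_conj_le_sylow (N : Subgroup G) [N.Normal] (P : Sylow p G) (A : Subgroup G)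
    (hA : IsPGroup p A) (hAX : A ≤ (P : Subgroup G) ⊔ N) :
    ∃ n ∈ N, A.map (MulAut.conj n).toMonoidHom ≤ (P : Subgroup G) := by
  obtain ⟨X, hX⟩ : ∃ X : Subgroup G, X = (P : Subgroup G) ⊔ N := ⟨_, rfl⟩
  have hPX : (P : Subgroup G) ≤ X := by rw [hX]; exact le_sup_left
  rw [← hX] at hAX
  obtain ⟨Q', hQ'⟩ := (hA.comap_subtype (K := X)).exists_le_sylow
  obtain ⟨y, hy⟩ := MulAction.exists_smul_eq ↥X (P.subtype hPX) Q'
  have hconj : ∀ a ∈ A, (y : G)⁻¹ * a * (y : G) ∈ (P : Subgroup G) := by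
    intro a ha
    have h1 : (⟨a, hAX ha⟩ : ↥X) ∈ (Q' : Subgroup ↥X) :=
      hQ' (Subgroup.mem_subgroupOf.2 ha)
    rw [← hy, Sylow.smul_def, Sylow.pointwise_smul_def,
      Cfsg.Agent.Helper1.mem_conj_smul_iff, Sylow.coe_subtype, Subgroup.mem_subgroupOf] at h1
    simpa using h1
  -- write `y⁻¹ = q * n`
  have hy' : ((y : G))⁻¹ ∈ ((P : Subgroup G) ⊔ N : Subgroup G) := by
    rw [← hX]; exact inv_mem y.2
  rw [← SetLike.mem_coe, Subgroup.mul_normal] at hy'
  obtain ⟨q, hq, n, hn, hqn⟩ := Set.mem_mul.1 hy'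
  refine ⟨n, hn, ?_⟩
  rw [map_conj_le_iff]
  intro a ha
  have h1 := hconj a ha
  have h2 : q⁻¹ * ((y : G)⁻¹ * a * (y : G)) * q ∈ (P : Subgroup G) :=
    mul_mem (mul_mem (inv_mem hq) h1) hq
  have e : q⁻¹ * ((y : G)⁻¹ * a * (y : G)) * q = n * a * n⁻¹ := by
    have hy2 : (y : G) = n⁻¹ * q⁻¹ := by
      have : (y : G) = ((y : G)⁻¹)⁻¹ := (inv_inv _).symm
      rw [this, ← hqn, mul_inv_rev]
    rw [← hqn, hy2]
    group
  rwa [e] at h2

/-- The same for any `p`-subgroup `Q` in place of a Sylow subgroup, when `N` is a `p'`-group. -/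
theorem exists_conj_le (N : Subgroup G) [N.Normal] (hN : (Nat.card ↥N).Coprime p)
    (Q : Subgroup G) (hQ : IsPGroup p Q) (A : Subgroup G) (hA : IsPGroup p A)
    (hAX : A ≤ Q ⊔ N) : ∃ n ∈ N, A.map (MulAut.conj n).toMonoidHom ≤ Q := by
  obtain ⟨P, hP⟩ := hQ.exists_le_sylow
  obtain ⟨n, hn, hle⟩ := exists_conj_le_sylow N P A hA
    (hAX.trans (sup_le_sup_right hP N))
  refine ⟨n, hn, ?_⟩
  rw [map_conj_le_iff] at hle ⊢
  intro a ha
  have h1 := hle a ha
  have h2 : n * a * n⁻¹ ∈ (Q ⊔ N : Subgroup G) := by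
    have haX := hAX ha
    have hnX : n ∈ (Q ⊔ N : Subgroup G) := (le_sup_right : N ≤ Q ⊔ N) hn
    exact mul_mem (mul_mem hnX haX) (inv_mem hnX)
  rw [← SetLike.mem_coe, Subgroup.mul_normal] at h2
  obtain ⟨q, hq, m, hm, hqm⟩ := Set.mem_mul.1 h2
  have hmP : m ∈ (P : Subgroup G) := by
    have : m = q⁻¹ * (n * a * n⁻¹) := by rw [← hqm]; group
    rw [this]
    exact mul_mem (inv_mem (hP hq)) h1
  have hm1 : m = 1 := eq_one_of_mem_of_mem P.2 hN hmP hm
  rw [← hqm, hm1, mul_one]
  exact hq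

/-- The conjugates of `H` inside `P` correspond bijectively to the conjugates of the image of
`H` inside the image of `P`, modulo a normal `p'`-subgroup. -/
theorem card_conj_in_sylow_quotient (N : Subgroup G) [N.Normal] (hN : (Nat.card ↥N).Coprime p)
    (H : Subgroup G) (hH : IsPGroup p H) (P : Sylow p G) :
    Nat.card {K : Subgroup G // K ≤ (P : Subgroup G) ∧
        ∃ g : G, K = H.map (MulAut.conj g).toMonoidHom} =
      Nat.card {K : Subgroup (G ⧸ N) //
        K ≤ ((P.mapSurjective (QuotientGroup.mk'_surjective N) : Sylow p (G ⧸ N)) :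
          Subgroup (G ⧸ N)) ∧
        ∃ g : G ⧸ N, K = (H.map (QuotientGroup.mk' N)).map (MulAut.conj g).toMonoidHom} := by
  have hP' : ((P.mapSurjective (QuotientGroup.mk'_surjective N) : Sylow p (G ⧸ N)) :
      Subgroup (G ⧸ N)) = (P : Subgroup G).map (QuotientGroup.mk' N) := rfl
  rw [hP']
  refine Nat.card_eq_of_bijective
    (fun K => ⟨K.1.map (QuotientGroup.mk' N), Subgroup.map_mono K.2.1, ?_⟩) ⟨?_, ?_⟩
  · obtain ⟨g, hg⟩ := K.2.2
    exact ⟨QuotientGroup.mk' N g, by rw [hg, map_map_conj]⟩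
  · -- injective
    rintro ⟨K₁, hK₁, _⟩ ⟨K₂, hK₂, _⟩ h
    have h' : K₁.map (QuotientGroup.mk' N) = K₂.map (QuotientGroup.mk' N) :=
      congrArg Subtype.val h
    have key : ∀ A B : Subgroup G, A ≤ (P : Subgroup G) → B ≤ (P : Subgroup G) →
        A.map (QuotientGroup.mk' N) = B.map (QuotientGroup.mk' N) → A ≤ B := by
      intro A B hA hB hAB a ha
      have : QuotientGroup.mk' N a ∈ B.map (QuotientGroup.mk' N) := by
        rw [← hAB]; exact Subgroup.mem_map_of_mem _ ha
      obtain ⟨b, hb, hba⟩ := this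
      have hker : b⁻¹ * a ∈ N := by
        rw [← QuotientGroup.eq]
        exact hba
      have h1 : b⁻¹ * a = 1 :=
        eq_one_of_mem_of_mem P.2 hN (mul_mem (inv_mem (hB hb)) (hA ha)) hker
      have : a = b := by
        have := congrArg (fun z => b * z) h1
        simpa using this
      rw [this]; exact hb
    exact Subtype.ext (le_antisymm (key K₁ K₂ hK₁ hK₂ h') (key K₂ K₁ hK₂ hK₁ h'.symm))
  · -- surjective
    rintro ⟨K, hK, gbar, hgbar⟩
    obtain ⟨g, rfl⟩ := QuotientGroup.mk'_surjective N gbar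
    obtain ⟨A, hAdef⟩ : ∃ A : Subgroup G, A = H.map (MulAut.conj g).toMonoidHom := ⟨_, rfl⟩
    have hAp : IsPGroup p A := by rw [hAdef]; exact hH.map _
    have hAK : A.map (QuotientGroup.mk' N) = K := by rw [hAdef, map_map_conj, hgbar]
    have hAX : A ≤ (P : Subgroup G) ⊔ N := by
      have h1 : A.map (QuotientGroup.mk' N) ≤ (P : Subgroup G).map (QuotientGroup.mk' N) := by
        rw [hAK]; exact hK
      have h2 := Subgroup.comap_mono (f := QuotientGroup.mk' N) h1
      rw [Subgroup.comap_map_eq, Subgroup.comap_map_eq, QuotientGroup.ker_mk'] at h2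
      exact le_sup_left.trans h2
    obtain ⟨n, hn, hle⟩ := exists_conj_le_sylow N P A hAp hAX
    refine ⟨⟨A.map (MulAut.conj n).toMonoidHom, hle, n * g, ?_⟩, ?_⟩
    · rw [hAdef, map_conj_mul]
    · apply Subtype.ext
      show (A.map (MulAut.conj n).toMonoidHom).map (QuotientGroup.mk' N) = K
      have hn1 : QuotientGroup.mk' N n = 1 := by
        rw [QuotientGroup.mk'_apply, QuotientGroup.eq_one_iff]
        exact hn
      rw [map_map_conj, hn1, hAK, map_conj_one]

/-- Modulo a normal `p'`-subgroup `N`, the normalizer of the image of `H` is the image of the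
normalizer of `H` (Frattini argument). -/
theorem map_normalizer_eq (N : Subgroup G) [N.Normal] (hN : (Nat.card ↥N).Coprime p)
    (H : Subgroup G) (hH : IsPGroup p H) :
    (Subgroup.normalizer (H : Set G)).map (QuotientGroup.mk' N) =
      Subgroup.normalizer ((H.map (QuotientGroup.mk' N) : Subgroup (G ⧸ N)) : Set (G ⧸ N)) := by
  apply le_antisymm (Subgroup.le_normalizer_map _)
  intro gbar hgbar
  obtain ⟨g, rfl⟩ := QuotientGroup.mk'_surjective N gbar
  obtain ⟨A, hAdef⟩ : ∃ A : Subgroup G, A = H.map (MulAut.conj g).toMonoidHom := ⟨_, rfl⟩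
  have hAp : IsPGroup p A := by rw [hAdef]; exact hH.map _
  have hAK : A.map (QuotientGroup.mk' N) = H.map (QuotientGroup.mk' N) := by
    rw [hAdef, map_map_conj]
    exact (map_conj_eq_self_iff _ _).2 hgbar
  have hAX : A ≤ H ⊔ N := by
    have h2 := Subgroup.comap_mono (f := QuotientGroup.mk' N) hAK.le
    rw [Subgroup.comap_map_eq, Subgroup.comap_map_eq, QuotientGroup.ker_mk'] at h2
    exact le_sup_left.trans h2
  obtain ⟨n, hn, hle⟩ := exists_conj_le N hN H hH A hAp hAX
  have heq : A.map (MulAut.conj n).toMonoidHom = H := by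
    apply Subgroup.eq_of_le_of_card_ge hle
    rw [card_map_conj, hAdef, card_map_conj]
  refine ⟨n * g, ?_, ?_⟩
  · rw [SetLike.mem_coe, ← map_conj_eq_self_iff, map_conj_mul, ← hAdef]
    exact heq
  · have hn1 : QuotientGroup.mk' N n = 1 := by
      rw [QuotientGroup.mk'_apply, QuotientGroup.eq_one_iff]
      exact hn
    rw [map_mul, hn1, one_mul]

/-- `N ∩ N_G(H) = C_N(H)` for a `p`-subgroup `H` and a normal `p'`-subgroup `N`. -/
theorem mem_inf_normalizer_iff (N : Subgroup G) [N.Normal] (hN : (Nat.card ↥N).Coprime p)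
    (H : Subgroup G) (hH : IsPGroup p H) (u : G) :
    (u ∈ N ∧ u ∈ Subgroup.normalizer (H : Set G)) ↔
      (u ∈ N ∧ ∀ h ∈ H, h * u * h⁻¹ * u⁻¹ = 1) := by
  constructor
  · rintro ⟨huN, huH⟩
    refine ⟨huN, fun h hh => ?_⟩
    apply eq_one_of_mem_of_mem hH hN
    · have h1 : u * h⁻¹ * u⁻¹ ∈ H :=
        (Subgroup.mem_normalizer_iff.1 huH h⁻¹).1 (inv_mem hh)
      have : h * u * h⁻¹ * u⁻¹ = h * (u * h⁻¹ * u⁻¹) := by group
      rw [this]
      exact mul_mem hh h1
    · have h1 : h * u * h⁻¹ ∈ N := Subgroup.Normal.conj_mem inferInstance u huN h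
      exact mul_mem h1 (inv_mem huN)
  · rintro ⟨huN, hcomm⟩
    refine ⟨huN, ?_⟩
    apply Cfsg.Agent.Helper4.SubnormalPRad.mem_normalizer_of_conj_mem'
    intro h hh
    have h1 := hcomm h⁻¹ (inv_mem hh)
    have : u * h * u⁻¹ = h := by
      have e : u * h * u⁻¹ = h * (h⁻¹ * u * h⁻¹⁻¹ * u⁻¹) := by group
      rw [e, h1, mul_one]
    rw [this]
    exact hh

theorem card_normalizer_quotient (N : Subgroup G) [N.Normal] (hN : (Nat.card ↥N).Coprime p)
    (H : Subgroup G) (hH : IsPGroup p H) :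
    Nat.card ↥(Subgroup.normalizer (H : Set G)) =
      Nat.card {u : G // u ∈ N ∧ ∀ h ∈ H, h * u * h⁻¹ * u⁻¹ = 1} *
        Nat.card ↥(Subgroup.normalizer
          ((H.map (QuotientGroup.mk' N) : Subgroup (G ⧸ N)) : Set (G ⧸ N))) := by
  obtain ⟨φ, hφ⟩ : ∃ φ : ↥(Subgroup.normalizer (H : Set G)) →* G ⧸ N,
      φ = (QuotientGroup.mk' N).comp (Subgroup.normalizer (H : Set G)).subtype := ⟨_, rfl⟩
  have hφapp : ∀ x : ↥(Subgroup.normalizer (H : Set G)), φ x = QuotientGroup.mk' N (x : G) := by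
    intro x; rw [hφ]; rfl
  have hrange : φ.range = Subgroup.normalizer
      ((H.map (QuotientGroup.mk' N) : Subgroup (G ⧸ N)) : Set (G ⧸ N)) := by
    rw [hφ, MonoidHom.range_comp, Subgroup.range_subtype, map_normalizer_eq N hN H hH]
  have hker : Nat.card ↥φ.ker = Nat.card {u : G // u ∈ N ∧ ∀ h ∈ H, h * u * h⁻¹ * u⁻¹ = 1} := by
    refine Nat.card_congr ⟨fun x => ⟨(x.1 : G), ?_⟩, fun u => ⟨⟨u.1, ?_⟩, ?_⟩, ?_, ?_⟩
    · have hx : φ x.1 = 1 := x.2
      rw [hφapp] at hx
      have hxN : (x.1 : G) ∈ N := by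
        simpa [QuotientGroup.eq_one_iff] using hx
      exact ((mem_inf_normalizer_iff N hN H hH _).1 ⟨hxN, x.1.2⟩)
    · exact ((mem_inf_normalizer_iff N hN H hH _).2 u.2).2
    · show φ _ = 1
      rw [hφapp]
      simpa [QuotientGroup.eq_one_iff] using u.2.1
    · intro x; rfl
    · intro u; rfl
  rw [← hker, ← hrange, ← Subgroup.index_ker]
  exact (Subgroup.card_mul_index φ.ker).symm

/-- Quotienting by a normal `p'`-subgroup `N` divides the order of the subnormalizer of `H` by
`|C_N(H)|`. -/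
theorem card_subSet_of_coprime (N : Subgroup G) [N.Normal] (hN : (Nat.card ↥N).Coprime p)
    (H : Subgroup G) (hH : IsPGroup p H) :
    Nat.card ↥(SubSet p H) =
      Nat.card {u : G // u ∈ N ∧ ∀ h ∈ H, h * u * h⁻¹ * u⁻¹ = 1} *
        Nat.card ↥(SubSet p (H.map (QuotientGroup.mk' N))) := by
  obtain ⟨P⟩ : Nonempty (Sylow p G) := inferInstance
  have h1 : Nat.card ↥(SubSet p H) = _ :=
    (card_subnormalizer_eq (p := p) H P).trans (sylow_count_mul_eq (p := p) H P)
  have h2 : Nat.card ↥(SubSet p (H.map (QuotientGroup.mk' N))) = _ :=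
    (card_subnormalizer_eq (p := p) (H.map (QuotientGroup.mk' N))
      (P.mapSurjective (QuotientGroup.mk'_surjective N))).trans
      (sylow_count_mul_eq (p := p) (H.map (QuotientGroup.mk' N))
      (P.mapSurjective (QuotientGroup.mk'_surjective N)))
  rw [h1, h2, card_conj_in_sylow_quotient N hN H hH P, card_normalizer_quotient N hN H hH]
  ring

end coprime

section chain

variable [Finite G] {p : ℕ} [Fact p.Prime]

/-- The factor count `|C_{B/A}(H)|`, computed as in the statement. -/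
noncomputable def cterm (H A B : Subgroup G) : ℕ :=
  Nat.card {u : G // u ∈ B ∧ ∀ h ∈ H, h * u * h⁻¹ * u⁻¹ ∈ A} / Nat.card ↥A

theorem mk_mem_map_iff (N : Subgroup G) [N.Normal] {A : Subgroup G} (hNA : N ≤ A) (u : G) :
    QuotientGroup.mk' N u ∈ A.map (QuotientGroup.mk' N) ↔ u ∈ A := by
  constructor
  · intro h
    have h2 : u ∈ (A.map (QuotientGroup.mk' N)).comap (QuotientGroup.mk' N) :=
      Subgroup.mem_comap.2 h
    rw [Subgroup.comap_map_eq, QuotientGroup.ker_mk', sup_eq_left.2 hNA] at h2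
    exact h2
  · exact Subgroup.mem_map_of_mem _

theorem card_eq_mul_card_map (N : Subgroup G) [N.Normal] {A : Subgroup G} (hNA : N ≤ A) :
    Nat.card ↥A = Nat.card ↥N * Nat.card ↥(A.map (QuotientGroup.mk' N)) := by
  have h := card_preimage N ((A.map (QuotientGroup.mk' N) : Subgroup (G ⧸ N)) : Set (G ⧸ N))
  refine (Nat.card_congr (Equiv.subtypeEquivRight fun u => ?_)).trans h
  exact (mk_mem_map_iff N hNA u).symm

theorem cterm_quotient (N : Subgroup G) [N.Normal] (H : Subgroup G) {A B : Subgroup G}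
    (hNA : N ≤ A) (hNB : N ≤ B) :
    cterm H A B = cterm (H.map (QuotientGroup.mk' N)) (A.map (QuotientGroup.mk' N))
      (B.map (QuotientGroup.mk' N)) := by
  unfold cterm
  have h1 : Nat.card {u : G // u ∈ B ∧ ∀ h ∈ H, h * u * h⁻¹ * u⁻¹ ∈ A} =
      Nat.card ↥N * Nat.card {u : G ⧸ N // u ∈ B.map (QuotientGroup.mk' N) ∧
        ∀ h ∈ H.map (QuotientGroup.mk' N), h * u * h⁻¹ * u⁻¹ ∈ A.map (QuotientGroup.mk' N)} := by
    have h := card_preimage N {u : G ⧸ N | u ∈ B.map (QuotientGroup.mk' N) ∧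
        ∀ h ∈ H.map (QuotientGroup.mk' N), h * u * h⁻¹ * u⁻¹ ∈ A.map (QuotientGroup.mk' N)}
    refine (Nat.card_congr (Equiv.subtypeEquivRight fun u => ?_)).trans h
    simp only [Set.mem_ofPred_eq]
    rw [mk_mem_map_iff N hNB]
    constructor
    · rintro ⟨hu, hc⟩
      refine ⟨hu, ?_⟩
      rintro _ ⟨h, hh, rfl⟩
      have := (mk_mem_map_iff N hNA _).2 (hc h hh)
      simpa using this
    · rintro ⟨hu, hc⟩
      refine ⟨hu, fun h hh => ?_⟩
      have := hc _ (Subgroup.mem_map_of_mem (QuotientGroup.mk' N) hh)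
      rw [← mk_mem_map_iff N hNA]
      simpa using this
  rw [h1, card_eq_mul_card_map N hNA]
  exact Nat.mul_div_mul_left _ _ Nat.card_pos

theorem relIndex_quotient (N : Subgroup G) [N.Normal] {A B : Subgroup G}
    (hNA : N ≤ A) (hAB : A ≤ B) :
    A.relIndex B = (A.map (QuotientGroup.mk' N)).relIndex (B.map (QuotientGroup.mk' N)) := by
  have h1 := Subgroup.relIndex_mul_relIndex (⊥ : Subgroup G) A B bot_le hAB
  have h2 := Subgroup.relIndex_mul_relIndex (⊥ : Subgroup (G ⧸ N))
    (A.map (QuotientGroup.mk' N)) (B.map (QuotientGroup.mk' N)) bot_le (Subgroup.map_mono hAB)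
  rw [Subgroup.relIndex_bot_left, Subgroup.relIndex_bot_left] at h1 h2
  rw [card_eq_mul_card_map N hNA, card_eq_mul_card_map N (hNA.trans hAB), ← h2, mul_assoc] at h1
  have hpos : 0 < Nat.card ↥N * Nat.card ↥(A.map (QuotientGroup.mk' N)) :=
    Nat.mul_pos Nat.card_pos Nat.card_pos
  exact Nat.eq_of_mul_eq_mul_left hpos (by rw [mul_assoc, h1, mul_assoc])

end chain

/-- Casolo's formula for the subnormalizer of a `p`-subgroup along a normal series with
`p`- and `p'`-factors. -/
theorem card_subSet_psolv (p : ℕ) [Fact p.Prime] (n : ℕ) :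
    ∀ (G : Type u) [Group G] [Finite G] (H : Subgroup G), IsPGroup p H →
    ∀ (M : Fin (n + 1) → Subgroup G), M 0 = ⊥ → M (Fin.last n) = ⊤ → Monotone M →
      (∀ i, (M i).Normal) →
      (∀ i : Fin n, (∃ m : ℕ, (M i.castSucc).relIndex (M i.succ) = p ^ m) ∨
        ((M i.castSucc).relIndex (M i.succ)).Coprime p) →
      Nat.card ↥(SubSet p H) = p ^ (Nat.card G).factorization p *
        ∏ i : Fin n, (if ((M i.castSucc).relIndex (M i.succ)).Coprime p
          then cterm H (M i.castSucc) (M i.succ) else 1) := by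
  induction n with
  | zero =>
    intro G _ _ H hH M h0 hn _ _ _
    have htriv : ∀ g : G, g = 1 := by
      intro g
      have h1 : g ∈ M (Fin.last 0) := by rw [hn]; exact Subgroup.mem_top g
      have h2 : Fin.last 0 = 0 := rfl
      rw [h2, h0] at h1
      exact Subgroup.mem_bot.1 h1
    have hsub : Subsingleton G := ⟨fun a b => by rw [htriv a, htriv b]⟩
    have hcard : Nat.card G = 1 := Nat.card_eq_one_iff_unique.2 ⟨hsub, ⟨1⟩⟩
    have hS : Nat.card ↥(SubSet p H) = 1 := by
      rw [Nat.card_eq_one_iff_unique]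
      refine ⟨⟨fun a b => Subtype.ext (by rw [htriv a.1, htriv b.1])⟩,
        ⟨⟨1, H, hH, le_rfl, one_mem _⟩⟩⟩
    rw [hS, hcard]
    simp
  | succ n ih =>
    intro G _ _ H hH M h0 hn hmono hnormal hfac
    obtain ⟨N, hNdef⟩ : ∃ N : Subgroup G, N = M 1 := ⟨_, rfl⟩
    have hNn : N.Normal := by rw [hNdef]; exact hnormal 1
    have hNle : ∀ i : Fin (n + 1), N ≤ M i.succ := by
      intro i
      rw [hNdef]
      apply hmono
      rw [← Fin.succ_zero_eq_one]
      exact Fin.succ_le_succ_iff.2 (Fin.zero_le _)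
    obtain ⟨M', hM'⟩ : ∃ M' : Fin (n + 1) → Subgroup (G ⧸ N),
        M' = fun i => (M i.succ).map (QuotientGroup.mk' N) := ⟨_, rfl⟩
    have hM'app : ∀ i, M' i = (M i.succ).map (QuotientGroup.mk' N) := fun i => by rw [hM']
    have h0' : M' 0 = ⊥ := by
      rw [hM'app, Fin.succ_zero_eq_one, ← hNdef, QuotientGroup.map_mk'_self]
    have hn' : M' (Fin.last n) = ⊤ := by
      rw [hM'app, Fin.succ_last, hn]
      exact Subgroup.map_top_of_surjective _ (QuotientGroup.mk'_surjective N)
    have hmono' : Monotone M' := by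
      intro i j hij
      rw [hM'app, hM'app]
      exact Subgroup.map_mono (hmono (Fin.succ_le_succ_iff.2 hij))
    have hnormal' : ∀ i, (M' i).Normal := by
      intro i
      rw [hM'app]
      exact (hnormal i.succ).map _ (QuotientGroup.mk'_surjective N)
    have hle_step : ∀ i : Fin n, M i.succ.castSucc ≤ M i.succ.succ := by
      intro i
      apply hmono
      exact Fin.castSucc_le_succ _
    have hrel : ∀ i : Fin n, (M' i.castSucc).relIndex (M' i.succ) =
        (M i.succ.castSucc).relIndex (M i.succ.succ) := by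
      intro i
      rw [hM'app, hM'app, Fin.succ_castSucc]
      refine (relIndex_quotient N ?_ (hle_step i)).symm
      rw [← Fin.succ_castSucc]
      exact hNle _
    have hfac' : ∀ i : Fin n, (∃ m : ℕ, (M' i.castSucc).relIndex (M' i.succ) = p ^ m) ∨
        ((M' i.castSucc).relIndex (M' i.succ)).Coprime p := by
      intro i
      rw [hrel i]
      exact hfac i.succ
    have IH := ih (G ⧸ N) (H.map (QuotientGroup.mk' N)) (hH.map _) M' h0' hn' hmono' hnormal'
      hfac'
    have hterm : ∀ i : Fin n,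
        (if ((M i.succ.castSucc).relIndex (M i.succ.succ)).Coprime p
          then cterm H (M i.succ.castSucc) (M i.succ.succ) else 1) =
        (if ((M' i.castSucc).relIndex (M' i.succ)).Coprime p
          then cterm (H.map (QuotientGroup.mk' N)) (M' i.castSucc) (M' i.succ) else 1) := by
      intro i
      rw [hrel i]
      have hc : cterm H (M i.succ.castSucc) (M i.succ.succ) =
          cterm (H.map (QuotientGroup.mk' N)) (M' i.castSucc) (M' i.succ) := by
        rw [hM'app, hM'app, Fin.succ_castSucc]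
        refine cterm_quotient N H ?_ (hNle _)
        rw [← Fin.succ_castSucc]
        exact hNle _
      rw [hc]
    rw [Fin.prod_univ_succ, Finset.prod_congr rfl (fun i _ => hterm i)]
    have hrel0 : (M (0 : Fin (n + 1)).castSucc).relIndex (M (0 : Fin (n + 1)).succ) =
        Nat.card ↥N := by
      rw [Fin.castSucc_zero, Fin.succ_zero_eq_one, h0, ← hNdef, Subgroup.relIndex_bot_left]
    have hcardG : Nat.card G = Nat.card (G ⧸ N) * Nat.card ↥N :=
      Subgroup.card_eq_card_quotient_mul_card_subgroup N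
    have hfactG : (Nat.card G).factorization p =
        (Nat.card (G ⧸ N)).factorization p + (Nat.card ↥N).factorization p := by
      rw [hcardG, Nat.factorization_mul Nat.card_pos.ne' Nat.card_pos.ne']
      rfl
    by_cases hcop : (Nat.card ↥N).Coprime p
    · -- `p'`-factor at the bottom
      have hf0 : (Nat.card ↥N).factorization p = 0 := by
        apply Nat.factorization_eq_zero_of_not_dvd
        intro hdvd
        have := Nat.Coprime.eq_one_of_dvd hcop.symm hdvd
        exact (Fact.out : p.Prime).one_lt.ne' this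
      have hct : cterm H (M (0 : Fin (n + 1)).castSucc) (M (0 : Fin (n + 1)).succ) =
          Nat.card {u : G // u ∈ N ∧ ∀ h ∈ H, h * u * h⁻¹ * u⁻¹ = 1} := by
        unfold cterm
        rw [Fin.castSucc_zero, Fin.succ_zero_eq_one, h0, ← hNdef]
        have : Nat.card ↥(⊥ : Subgroup G) = 1 := Subgroup.card_bot
        rw [this, Nat.div_one]
        apply Nat.card_congr
        apply Equiv.subtypeEquivRight
        intro u
        simp only [Subgroup.mem_bot]
      rw [hrel0, if_pos hcop, hct, card_subSet_of_coprime N hcop H hH, IH, hfactG, hf0, add_zero]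
      ring
    · -- `p`-factor at the bottom
      have hpow : ∃ m : ℕ, Nat.card ↥N = p ^ m := by
        rcases hfac 0 with h | h
        · rw [hrel0] at h; exact h
        · rw [hrel0] at h; exact absurd h hcop
      obtain ⟨m, hm⟩ := hpow
      have hNp : IsPGroup p N := IsPGroup.of_card hm
      have hfm : (Nat.card ↥N).factorization p = m := by
        rw [hm, (Fact.out : p.Prime).factorization_pow, Finsupp.single_eq_same]
      rw [hrel0, if_neg hcop, card_subSet_of_pgroup N hNp H, IH, hfactG, hfm, hm, pow_add]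
      ring

end Cfsg.Agent.Helper4.SubnPSolv
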