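import Mathlib
import Cfsg.Agent.Helper4.CopAutA
import Cfsg.Agent.Helper4.SubnCount
import Cfsg.Agent.Helper4.SubnPSolv
import Cfsg.Agent.Helper4.GheriL
import Cfsg.Agent.Helper4.GheriU

/-!
# The number of `p`-elements of a `p`-solvable group and the number of Sylow subgroups
-/

set_option autoImplicit false

namespace Cfsg.Agent.Helper4.Gheri

open Cfsg.Agent.Helper4.CopAut Cfsg.Agent.Helper4.SubnPSolv

universe u

section general

variable {Q R V : Type*} [Group Q] [Group R] [Group V]

theorem fixS_comp (f : R →* Q) (φ : Q →* MulAut V) (S : Set R) :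
    fixS (φ.comp f) S = fixS φ (f '' S) := by
  ext v
  rw [mem_fixS, mem_fixS, Set.forall_mem_image]
  rfl

theorem fixS_one (φ : Q →* MulAut V) : fixS φ {(1 : Q)} = ⊤ := by
  ext v
  rw [mem_fixS_singleton, map_one]
  simp

end general

variable {G : Type u} [Group G]

section quotient

/-- the conjugation action of `G` on a quotient. -/
def conjQ (N : Subgroup G) [N.Normal] : G →* MulAut (G ⧸ N) :=
  MulAut.conj.comp (QuotientGroup.mk' N)

theorem conjQ_apply (N : Subgroup G) [N.Normal] (g : G) (v : G ⧸ N) :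
    conjQ N g v = (g : G ⧸ N) * v * (g : G ⧸ N)⁻¹ := rfl

theorem mk_mem_fixS_conjQ (N : Subgroup G) [N.Normal] (S : Set G) (u : G) :
    (QuotientGroup.mk' N u) ∈ fixS (conjQ N) S ↔ ∀ h ∈ S, h * u * h⁻¹ * u⁻¹ ∈ N := by
  rw [mem_fixS]
  apply forall₂_congr
  intro h _
  rw [conjQ_apply, ← QuotientGroup.eq_one_iff, QuotientGroup.mk_mul, QuotientGroup.mk_mul,
    QuotientGroup.mk_mul, QuotientGroup.mk_inv, QuotientGroup.mk_inv, mul_inv_eq_one]
  rfl

theorem cterm_eq_card [Finite G] (H A B : Subgroup G) [A.Normal] (hAB : A ≤ B) :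
    cterm H A B =
      Nat.card ↥(B.map (QuotientGroup.mk' A) ⊓ fixS (conjQ A) (H : Set G)) := by
  unfold cterm
  have h := card_preimage A ((B.map (QuotientGroup.mk' A) ⊓ fixS (conjQ A) (H : Set G) :
    Subgroup (G ⧸ A)) : Set (G ⧸ A))
  have h1 : Nat.card {u : G // u ∈ B ∧ ∀ h ∈ H, h * u * h⁻¹ * u⁻¹ ∈ A} =
      Nat.card A *
        Nat.card ↥(B.map (QuotientGroup.mk' A) ⊓ fixS (conjQ A) (H : Set G)) := by
    refine (Nat.card_congr (Equiv.subtypeEquivRight fun u => ?_)).trans h
    rw [SetLike.mem_coe, Subgroup.mem_inf, mk_mem_map_iff A hAB, mk_mem_fixS_conjQ]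
    rfl
  rw [h1]
  exact Nat.mul_div_cancel_left _ Nat.card_pos

end quotient

section pi

variable {ι : Type} [Fintype ι] (N : ι → Subgroup G) [∀ i, (N i).Normal]

/-- the diagonal conjugation action on a product of quotients. -/
def piAct : G →* MulAut (∀ i, G ⧸ N i) :=
  MulAut.conj.comp (MonoidHom.pi (fun i => QuotientGroup.mk' (N i)))

omit [Fintype ι] in
theorem piAct_apply (g : G) (v : ∀ i, G ⧸ N i) (i : ι) :
    piAct N g v i = conjQ (N i) g (v i) := rfl

omit [Fintype ι] in
theorem mem_fixS_piAct (S : Set G) (v : ∀ i, G ⧸ N i) :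
    v ∈ fixS (piAct N) S ↔ ∀ i, v i ∈ fixS (conjQ (N i)) S := by
  simp only [mem_fixS]
  constructor
  · intro h i s hs
    have := congrFun (h s hs) i
    exact this
  · intro h s hs
    funext i
    exact h i s hs

theorem card_pi_inf_fixS [Finite G] (W : ∀ i, Subgroup (G ⧸ N i)) (S : Set G) :
    Nat.card ↥(Subgroup.pi Set.univ W ⊓ fixS (piAct N) S) =
      ∏ i, Nat.card ↥(W i ⊓ fixS (conjQ (N i)) S) := by
  rw [← Nat.card_pi]
  apply Nat.card_congr
  exact
    { toFun := fun v i => ⟨v.1 i, ⟨(Subgroup.mem_pi _).1 v.2.1 i (Set.mem_univ i),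
        (mem_fixS_piAct N S v.1).1 v.2.2 i⟩⟩
      invFun := fun w => ⟨fun i => (w i).1, ⟨(Subgroup.mem_pi _).2 (fun i _ => (w i).2.1),
        (mem_fixS_piAct N S _).2 (fun i => (w i).2.2)⟩⟩
      left_inv := fun v => rfl
      right_inv := fun w => rfl }

omit [Fintype ι] in
theorem inv_piAct_pi (W : ∀ i, Subgroup (G ⧸ N i)) [hW : ∀ i, (W i).Normal] :
    Inv (piAct N) (Subgroup.pi Set.univ W) := by
  intro g v hv
  rw [Subgroup.mem_pi] at hv ⊢
  intro i hi
  rw [piAct_apply, conjQ_apply]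
  exact (hW i).conj_mem _ (hv i hi) _

end pi

section series

variable [Finite G] (p : ℕ) [Fact p.Prime] {n : ℕ} (M : Fin (n + 1) → Subgroup G)

/-- the indices of the `p'`-factors. -/
abbrev CopIdx : Type := {i : Fin n // ((M i.castSucc).relIndex (M i.succ)).Coprime p}

/-- the lower terms. -/
def serN (i : CopIdx p M) : Subgroup G := M i.1.castSucc

instance serN_normal [hM : ∀ i, (M i).Normal] (i : CopIdx p M) : (serN p M i).Normal :=
  hM _

/-- the `p'`-factors. -/
def serW [∀ i, (M i).Normal] (i : CopIdx p M) : Subgroup (G ⧸ serN p M i) :=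
  (M i.1.succ).map (QuotientGroup.mk' (serN p M i))

instance serW_normal [hM : ∀ i, (M i).Normal] (i : CopIdx p M) : (serW p M i).Normal :=
  Subgroup.Normal.map (hM _) _ (QuotientGroup.mk'_surjective _)

/-- the fixed-point count. -/
noncomputable def fcount [∀ i, (M i).Normal] (S : Set G) : ℕ :=
  Nat.card ↥(Subgroup.pi Set.univ (serW p M) ⊓ fixS (piAct (serN p M)) S)

theorem fcount_eq [∀ i, (M i).Normal] (hmono : Monotone M) (H : Subgroup G) :
    fcount p M (H : Set G) =
      ∏ i : Fin n, (if ((M i.castSucc).relIndex (M i.succ)).Coprime p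
        then cterm H (M i.castSucc) (M i.succ) else 1) := by
  classical
  unfold fcount
  rw [card_pi_inf_fixS, ← Finset.prod_filter,
    Finset.prod_subtype (p := fun i : Fin n => ((M i.castSucc).relIndex (M i.succ)).Coprime p)
      (Finset.univ.filter
      (fun i : Fin n => ((M i.castSucc).relIndex (M i.succ)).Coprime p)) (by simp)]
  apply Finset.prod_congr rfl
  intro i _
  exact (cterm_eq_card H (M i.1.castSucc) (M i.1.succ) (hmono (Fin.castSucc_le_succ _))).symm

end series

end Cfsg.Agent.Helper4.Gheri
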