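import Mathlib
import Cfsg.Agent.Helper4.GheriApp

/-!
# `|P|^p · n^(p-1) ≤ u^p` in a `p`-solvable group
-/

set_option autoImplicit false

namespace Cfsg.Agent.Helper4.Gheri

open Cfsg.Agent.Helper4.CopAut Cfsg.Agent.Helper4.SubnPSolv Cfsg.Agent.Helper4.SubnCount

universe u

theorem gheri_main {G : Type u} [Group G] [Finite G] (p : ℕ) [Fact p.Prime] (P : Sylow p G)
    (n : ℕ) (M : Fin (n + 1) → Subgroup G) (h0 : M 0 = ⊥) (hn : M (Fin.last n) = ⊤)
    (hmono : Monotone M) (hnormal : ∀ i, (M i).Normal)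
    (hfac : ∀ i : Fin n, (∃ m : ℕ, (M i.castSucc).relIndex (M i.succ) = p ^ m) ∨
      ((M i.castSucc).relIndex (M i.succ)).Coprime p) :
    Nat.card (P : Subgroup G) ^ p * Nat.card (Sylow p G) ^ (p - 1) ≤
      Nat.card {g : G // ∃ k : ℕ, orderOf g = p ^ k} ^ p := by
  classical
  have hpp : p.Prime := Fact.out
  have : ∀ i, (M i).Normal := hnormal
  let _ : Fintype (P : Subgroup G) := Fintype.ofFinite _
  obtain ⟨a, ha⟩ : ∃ a : ℕ, a = (Nat.card G).factorization p := ⟨_, rfl⟩
  -- the subnormalizer counts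
  have hs : ∀ H : Subgroup G, IsPGroup p H →
      Nat.card ↥(SubSet p H) = p ^ a * fcount p M (H : Set G) := by
    intro H hH
    rw [card_subSet_psolv p n G H hH M h0 hn hmono hnormal hfac, fcount_eq p M hmono H, ha]
  have hG : Nat.card G = p ^ a * fcount p M ((⊥ : Subgroup G) : Set G) := by
    rw [← hs ⊥ IsPGroup.of_bot]
    have h1 : SubSet p (⊥ : Subgroup G) = Set.univ := by
      ext g
      simp only [Set.mem_univ, iff_true]
      refine ⟨⊥, IsPGroup.of_bot, le_rfl, ?_⟩
      rw [Subgroup.normalizer_eq_top]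
      exact Subgroup.mem_top g
    rw [h1, Nat.card_congr (Equiv.Set.univ G)]
  obtain ⟨WP, hWP⟩ : ∃ WP : Subgroup (∀ i, G ⧸ serN p M i),
    WP = Subgroup.pi Set.univ (serW p M) := ⟨_, rfl⟩
  have hbot : fcount p M ((⊥ : Subgroup G) : Set G) = Nat.card WP := by
    unfold fcount
    rw [Subgroup.coe_bot, fixS_one, inf_top_eq, hWP]
  have hWcard : Nat.card G = p ^ a * Nat.card WP := by rw [hG, hbot]
  have hWcop : (Nat.card WP).Coprime p := by
    have h1 : Nat.card WP = Nat.card G / p ^ a := by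
      rw [hWcard, Nat.mul_div_cancel_left _ (pow_pos hpp.pos _)]
    rw [h1, ha]
    exact (Nat.coprime_ordCompl hpp Nat.card_pos.ne').symm
  obtain ⟨NP, hNP⟩ : ∃ NP : ℕ,
    NP = Nat.card ↥(Subgroup.normalizer ((P : Subgroup G) : Set G)) := ⟨_, rfl⟩
  have hNPpos : 0 < NP := by rw [hNP]; exact Nat.card_pos
  have hsl : ∀ H : Subgroup G, Nat.card ↥(SubSet p H) =
      Nat.card {Q : Sylow p G // H ≤ (Q : Subgroup G)} * NP := by
    intro H
    rw [hNP]
    exact card_subnormalizer_eq H P
  have hnN : Nat.card (Sylow p G) * NP = Nat.card G := by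
    rw [hNP, P.card_eq_index_normalizer, mul_comm]
    exact Subgroup.card_mul_index _
  have hcross : ∀ H : Subgroup G, IsPGroup p H →
      Nat.card (Sylow p G) * fcount p M (H : Set G) =
        Nat.card {Q : Sylow p G // H ≤ (Q : Subgroup G)} * Nat.card WP := by
    intro H hH
    have h1 := hs H hH
    rw [hsl H] at h1
    have hpos : 0 < p ^ a * NP := Nat.mul_pos (pow_pos hpp.pos _) hNPpos
    apply Nat.eq_of_mul_eq_mul_left hpos
    calc p ^ a * NP * (Nat.card (Sylow p G) * fcount p M (H : Set G))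
        = (Nat.card (Sylow p G) * NP) * (p ^ a * fcount p M (H : Set G)) := by ring
      _ = (p ^ a * Nat.card WP) *
            (Nat.card {Q : Sylow p G // H ≤ (Q : Subgroup G)} * NP) := by
          rw [hnN, hWcard, ← h1]
      _ = p ^ a * NP * (Nat.card {Q : Sylow p G // H ≤ (Q : Subgroup G)} * Nat.card WP) := by
          ring
  -- the action of `P`
  have hWinv : Inv (piAct (serN p M)) WP := by
    rw [hWP]
    exact inv_piAct_pi (serN p M) (serW p M)
  obtain ⟨φ, hφ⟩ : ∃ φ : (P : Subgroup G) →* MulAut WP,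
    φ = (res (piAct (serN p M)) WP hWinv).comp (P : Subgroup G).subtype := ⟨_, rfl⟩
  have hfix : ∀ S : Set (P : Subgroup G),
      Nat.card (fixS φ S) = fcount p M (Subtype.val '' S) := by
    intro S
    rw [hφ, fixS_comp, card_fixS_res]
    unfold fcount
    rw [hWP]
    rfl
  have hmain := sum_index_ge (P.isPGroup') _ WP φ rfl hWcop
  -- the number of Sylow subgroups
  have hWpos : (0 : ℝ) < Nat.card WP := Nat.cast_pos.2 Nat.card_pos
  have hfpos : ∀ S : Set G, (0 : ℝ) < fcount p M S := by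
    intro S
    unfold fcount
    exact Nat.cast_pos.2 Nat.card_pos
  have hn1 : (Nat.card WP : ℝ) / Nat.card (fixS φ Set.univ) = Nat.card (Sylow p G) := by
    rw [hfix, Set.image_univ, Subtype.range_coe_subtype]
    have h1 := hcross P P.isPGroup'
    have h2 : Nat.card {Q : Sylow p G // (P : Subgroup G) ≤ (Q : Subgroup G)} = 1 := by
      rw [Nat.card_eq_one_iff_unique]
      refine ⟨⟨?_⟩, ⟨⟨P, le_rfl⟩⟩⟩
      rintro ⟨Q1, hQ1⟩ ⟨Q2, hQ2⟩
      apply Subtype.ext
      change Q1 = Q2
      have e1 : (Q1 : Subgroup G) = P := P.3 Q1.2 hQ1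
      have e2 : (Q2 : Subgroup G) = P := P.3 Q2.2 hQ2
      exact Sylow.ext (e1.trans e2.symm)
    rw [h2, one_mul] at h1
    rw [div_eq_iff (hfpos _).ne']
    have : {x | x ∈ (P : Subgroup G)} = ((P : Subgroup G) : Set G) := rfl
    rw [this]
    exact_mod_cast h1.symm
  have hx1 : ∀ x : (P : Subgroup G), (Nat.card WP : ℝ) / Nat.card (fixS φ {x}) =
      (Nat.card (Sylow p G) : ℝ) / lam p (x : G) := by
    intro x
    rw [hfix, Set.image_singleton]
    have hzx : IsPGroup p (Subgroup.zpowers (x : G)) :=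
      P.isPGroup'.to_le ((Subgroup.zpowers_le).2 x.2)
    have h1 := hcross (Subgroup.zpowers (x : G)) hzx
    have h2 : Nat.card {Q : Sylow p G // Subgroup.zpowers (x : G) ≤ (Q : Subgroup G)} =
        lam p (x : G) := by
      unfold lam
      apply Nat.card_congr
      exact Equiv.subtypeEquivRight (fun Q => Subgroup.zpowers_le)
    have h3 : fcount p M ((Subgroup.zpowers (x : G) : Subgroup G) : Set G) =
        fcount p M {(x : G)} := by
      unfold fcount
      rw [Subgroup.zpowers_eq_closure, fixS_closure]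
    rw [h2, h3] at h1
    have hlpos : (0 : ℝ) < lam p (x : G) := by
      apply Nat.cast_pos.2
      rw [lam_pos_iff]
      obtain ⟨k, hk⟩ := (IsPGroup.iff_orderOf.1 P.isPGroup') x
      exact ⟨k, by rw [← hk, Subgroup.orderOf_coe]⟩
    rw [div_eq_div_iff (hfpos _).ne' hlpos.ne']
    have h4 : (Nat.card (Sylow p G) : ℝ) * fcount p M {(x : G)} =
        (lam p (x : G) : ℝ) * Nat.card WP := by exact_mod_cast h1
    linarith
  rw [hn1, Finset.sum_congr rfl (fun x _ => hx1 x), ← card_pElements P] at hmain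
  exact_mod_cast hmain

end Cfsg.Agent.Helper4.Gheri
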