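import Mathlib
import Cfsg.Agent.Helper4.StepwiseTransitive

set_option autoImplicit false

namespace Cfsg.Agent.Helper4

open MulAction

/-- fixed-point congruence on an invariant subset -/
theorem card_modEq_card_inter_fixedPoints {P α : Type*} [Group P] [MulAction P α] [Finite α]
    {p : ℕ} [Fact p.Prime] (hP : IsPGroup p P) (O : Set α)
    (hO : ∀ g : P, ∀ z ∈ O, g • z ∈ O) :
    Nat.card O ≡ Nat.card ↥(O ∩ fixedPoints P α) [MOD p] := by
  let S : SubMulAction P α := ⟨O, fun g {z} hz => hO g z hz⟩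
  have h := hP.card_modEq_card_fixedPoints S
  have e : fixedPoints P S ≃ ↥(O ∩ fixedPoints P α) :=
    { toFun := fun z => ⟨z.1.1, z.1.2, fun g => congrArg Subtype.val (z.2 g)⟩
      invFun := fun z => ⟨⟨z.1, z.2.1⟩, fun g => Subtype.ext (z.2.2 g)⟩
      left_inv := fun z => rfl
      right_inv := fun z => rfl }
  rw [Nat.card_congr e] at h
  exact h

/-- Gleason's lemma, stepwise form -/
theorem gleason_step {α : Type*} [Fintype α] [DecidableEq α] (G : Subgroup (Equiv.Perm α))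
    {p : ℕ} (hp : p.Prime) (t : Finset α) (a b : α) (ha : a ∉ t) (hb : b ∉ t)
    (Pa Pb : Subgroup G) (hPa : IsPGroup p Pa) (hPb : IsPGroup p Pb)
    (hFa : fixedPoints Pa α = ((insert a t : Finset α) : Set α))
    (hFb : fixedPoints Pb α = ((insert b t : Finset α) : Set α)) :
    ∃ g ∈ G, (∀ z ∈ t, g z = z) ∧ g a = b := by
  classical
  haveI : Fact p.Prime := ⟨hp⟩
  by_contra hcon
  obtain ⟨O, hOdef⟩ : ∃ O : Set α, O = {z | ∃ g ∈ G, (∀ y ∈ t, g y = y) ∧ g a = z} := ⟨_, rfl⟩
  have haO : a ∈ O := by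
    rw [hOdef]; exact ⟨1, G.one_mem, fun y _ => rfl, rfl⟩
  have hbO : b ∉ O := by
    rw [hOdef]; exact hcon
  have hOt : ∀ z ∈ O, z ∉ t := by
    intro z hz hzt
    rw [hOdef] at hz
    obtain ⟨g, _, hgt, hga⟩ := hz
    have : g z = g a := by rw [hgt z hzt, hga]
    exact ha (g.injective this ▸ hzt)
  -- invariance under subgroups fixing t
  have hinv : ∀ (P : Subgroup G), (∀ h : P, ∀ y ∈ t, ((h : G) : Equiv.Perm α) y = y) →
      ∀ h : P, ∀ z ∈ O, h • z ∈ O := by
    intro P hPt h z hz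
    rw [hOdef] at hz ⊢
    obtain ⟨g, hgG, hgt, hga⟩ := hz
    refine ⟨((h : G) : Equiv.Perm α) * g, G.mul_mem (h : G).2 hgG, ?_, ?_⟩
    · intro y hy
      rw [Equiv.Perm.mul_apply, hgt y hy, hPt h y hy]
    · rw [Equiv.Perm.mul_apply, hga]; rfl
  have hPat : ∀ h : Pa, ∀ y ∈ t, ((h : G) : Equiv.Perm α) y = y := by
    intro h y hy
    have : y ∈ fixedPoints Pa α := by
      rw [hFa]; exact Finset.mem_coe.2 (Finset.mem_insert_of_mem hy)
    exact this h
  have hPbt : ∀ h : Pb, ∀ y ∈ t, ((h : G) : Equiv.Perm α) y = y := by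
    intro h y hy
    have : y ∈ fixedPoints Pb α := by
      rw [hFb]; exact Finset.mem_coe.2 (Finset.mem_insert_of_mem hy)
    exact this h
  have h1 := card_modEq_card_inter_fixedPoints hPa O (hinv Pa hPat)
  have h2 := card_modEq_card_inter_fixedPoints hPb O (hinv Pb hPbt)
  have e1 : O ∩ fixedPoints Pa α = {a} := by
    ext z
    rw [hFa]
    simp only [Set.mem_inter_iff, Finset.coe_insert, Set.mem_insert_iff, Finset.mem_coe,
      Set.mem_singleton_iff]
    constructor
    · rintro ⟨hzO, hz | hz⟩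
      · exact hz
      · exact absurd hz (hOt z hzO)
    · intro hz
      rw [hz]; exact ⟨haO, Or.inl rfl⟩
  have e2 : O ∩ fixedPoints Pb α = ∅ := by
    ext z
    rw [hFb]
    simp only [Set.mem_inter_iff, Finset.coe_insert, Set.mem_insert_iff, Finset.mem_coe,
      Set.mem_empty_iff_false, iff_false, not_and, not_or]
    intro hzO
    refine ⟨?_, hOt z hzO⟩
    intro h
    exact hbO (h ▸ hzO)
  rw [e1] at h1
  rw [e2] at h2
  have h3 : (1 : ℕ) ≡ 0 [MOD p] := by
    have h1' : Nat.card O ≡ 1 [MOD p] := by simpa using h1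
    have h2' : Nat.card O ≡ 0 [MOD p] := by simpa using h2
    exact h1'.symm.trans h2'
  have := (Nat.modEq_zero_iff_dvd.1 h3)
  exact hp.one_lt.ne' (Nat.dvd_one.1 this)

end Cfsg.Agent.Helper4
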