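import Mathlib
import Cfsg.Agent.Helper9.Golay.Count

set_option autoImplicit false

/-!
# Linear maps on the length-24 code preserving the weights 8 and 16: three counts

Among the 1518 words of weight 8 or 16 of the code, the number of those meeting a given set of
0, 2, 4 points in an even number of points.
-/

namespace Cfsg.Agent.Helper4.GolLin

open Cfsg Cfsg.Agent.Helper9.Golay

/-- the parity test of a mask. -/
def evB (m : ℕ) : Bool := popc m % 2 == 0

theorem count0 : (codeList.filter (fun m => (popc m == 8 || popc m == 16) && evB (0 &&& m))).length
    = 1518 := by decide +kernel

theorem count2 : (codeList.filter (fun m => (popc m == 8 || popc m == 16) && evB (3 &&& m))).length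
    = 814 := by decide +kernel

theorem count4 : (codeList.filter (fun m => (popc m == 8 || popc m == 16) && evB (15 &&& m))).length
    = 750 := by decide +kernel

end Cfsg.Agent.Helper4.GolLin
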