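import Mathlib
import Cfsg.Agent.Helper9.Golay.Count
import Cfsg.Agent.Helper9.Golay.FixCoset
import Cfsg.Agent.Helper9.Golay.SetTrans
import Cfsg.Agent.Helper4.GolLinC

set_option autoImplicit false

/-!
# Linear maps on the length-24 code preserving the weights 8 and 16: counting

For a function on the code we count the words of weight 8 or 16 on which it vanishes.  This count
is unchanged by a bijection of the code preserving the weights 8 and 16, and for the sum of the
coordinates over a set of at most five points it depends only on the size of the set; it is 1518,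
814, 750 for sets of size 0, 2, 4.
-/

namespace Cfsg.Agent.Helper4.GolLin

open Cfsg Cfsg.Agent.Helper9 Cfsg.Agent.Helper9.Golay Cfsg.Agent.Helper9.FixCoset
open scoped Pointwise

/-- the weight of a word of the code is 8 or 16. -/
def isW (c : ↥golayCode) : Prop :=
  hammingNorm (c : GolayPt → ZMod 2) = 8 ∨ hammingNorm (c : GolayPt → ZMod 2) = 16

/-- the number of words of weight 8 or 16 on which a function vanishes. -/
noncomputable def NW (f : ↥golayCode → ZMod 2) : ℕ :=
  {c : ↥golayCode | isW c ∧ f c = 0}.ncard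

theorem NW_comp (e : ↥golayCode ≃ ↥golayCode) (he : ∀ c, isW (e c) ↔ isW c)
    (f : ↥golayCode → ZMod 2) : NW (fun c => f (e c)) = NW f := by
  unfold NW
  have : {c : ↥golayCode | isW c ∧ f (e c) = 0} = e.symm '' {c | isW c ∧ f c = 0} := by
    ext c
    simp only [Set.mem_setOf_eq, Set.mem_image]
    constructor
    · rintro ⟨h1, h2⟩
      exact ⟨e c, ⟨(he c).mpr h1, h2⟩, e.symm_apply_apply c⟩
    · rintro ⟨d, ⟨h1, h2⟩, rfl⟩
      refine ⟨?_, ?_⟩
      · rw [← he, e.apply_symm_apply]; exact h1
      · rw [e.apply_symm_apply]; exact h2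
  rw [this, Set.ncard_image_of_injective _ e.symm.injective]

/-- the sum of the coordinates of a word over a set of points. -/
def dotS (S : Finset GolayPt) (c : ↥golayCode) : ZMod 2 :=
  ∑ p ∈ S, (c : GolayPt → ZMod 2) p

theorem dotS_eq_card (S : Finset GolayPt) (c : ↥golayCode) :
    dotS S c = ((S ∩ support₂ (c : GolayPt → ZMod 2)).card : ZMod 2) := by
  unfold dotS
  have h1 : ∀ p, (c : GolayPt → ZMod 2) p
      = if p ∈ support₂ (c : GolayPt → ZMod 2) then 1 else 0 := by
    intro p
    unfold support₂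
    simp only [Finset.mem_filter, Finset.mem_univ, true_and]
    rcases zmod2_cases ((c : GolayPt → ZMod 2) p) with h | h <;> simp [h]
  rw [Finset.sum_congr rfl (fun p _ => h1 p), Finset.sum_boole, Finset.filter_mem_eq_inter]

theorem natCast_zmod2_eq_zero (n : ℕ) : ((n : ℕ) : ZMod 2) = 0 ↔ n % 2 = 0 := by
  rw [ZMod.natCast_eq_zero_iff, Nat.dvd_iff_mod_eq_zero]

theorem dotS_suppM_decW (s m : ℕ) (hm : decW m ∈ golayCode) :
    dotS (suppM s) ⟨decW m, hm⟩ = 0 ↔ evB (s &&& m) = true := by
  rw [dotS_eq_card]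
  show (((support₂ (decW s) ∩ support₂ (decW m)).card : ℕ) : ZMod 2) = 0 ↔ _
  rw [support₂_decW_inter, card_support₂_decW, natCast_zmod2_eq_zero]
  unfold evB
  simp

theorem NW_dotS_suppM (s : ℕ) :
    NW (dotS (suppM s))
      = (codeList.filter (fun m => (popc m == 8 || popc m == 16) && evB (s &&& m))).length := by
  have hnd : (codeList.filter (fun m => (popc m == 8 || popc m == 16) && evB (s &&& m))).Nodup :=
    codeList_nodup.filter _
  unfold NW
  have hg : Function.Injective (fun c : ↥golayCode => encW (c : GolayPt → ZMod 2)) :=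
    fun a b h => Subtype.ext (encW_injective h)
  rw [← Set.ncard_image_of_injective _ hg, ← List.toFinset_card_of_nodup hnd,
    ← Set.ncard_coe_finset]
  congr 1
  ext m
  simp only [Set.mem_image, Set.mem_setOf_eq, Finset.mem_coe, List.mem_toFinset, List.mem_filter,
    Bool.and_eq_true, Bool.or_eq_true, beq_iff_eq]
  constructor
  · rintro ⟨c, ⟨hw, hd⟩, rfl⟩
    have hc : (c : GolayPt → ZMod 2) = decW (encW (c : GolayPt → ZMod 2)) := (decW_encW _).symm
    have hmem : encW (c : GolayPt → ZMod 2) ∈ codeList := (mem_golayCode_iff _).mp c.2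
    have hm' : decW (encW (c : GolayPt → ZMod 2)) ∈ golayCode := by rw [← hc]; exact c.2
    have hc' : c = ⟨decW (encW (c : GolayPt → ZMod 2)), hm'⟩ := Subtype.ext hc
    refine ⟨hmem, ⟨?_, ?_⟩⟩
    · unfold isW at hw
      rw [hc, hammingNorm_decW] at hw
      exact hw
    · rw [hc'] at hd
      exact (dotS_suppM_decW s _ hm').mp hd
  · rintro ⟨hmem, hw, hd⟩
    have hm' : decW m ∈ golayCode := decW_mem_of_mem_codeList hmem
    refine ⟨⟨decW m, hm'⟩, ⟨?_, ?_⟩, ?_⟩
    · unfold isW
      show hammingNorm (decW m) = 8 ∨ hammingNorm (decW m) = 16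
      rw [hammingNorm_decW]
      exact hw
    · exact (dotS_suppM_decW s m hm').mpr hd
    · exact encW_decW m (codeList_lt hmem)

/-- the bijection of the code induced by a permutation in the group of the code. -/
def eqvOf (σ : Equiv.Perm GolayPt) (hσ : σ ∈ M24) : ↥golayCode ≃ ↥golayCode where
  toFun c := ⟨actW σ c, actW_mem hσ c.2⟩
  invFun c := ⟨actW σ⁻¹ c, actW_mem (M24.inv_mem hσ) c.2⟩
  left_inv c := by
    apply Subtype.ext
    funext p
    simp [actW, Equiv.Perm.inv_def]
  right_inv c := by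
    apply Subtype.ext
    funext p
    simp [actW, Equiv.Perm.inv_def]

theorem isW_eqvOf (σ : Equiv.Perm GolayPt) (hσ : σ ∈ M24) (c : ↥golayCode) :
    isW (eqvOf σ hσ c) ↔ isW c := by
  unfold isW
  show hammingNorm (actW σ (c : GolayPt → ZMod 2)) = 8 ∨
    hammingNorm (actW σ (c : GolayPt → ZMod 2)) = 16 ↔ _
  rw [hammingNorm_actW]

theorem dotS_eqvOf (g : Equiv.Perm GolayPt) (hg : g ∈ M24) (S : Finset GolayPt) (c : ↥golayCode) :
    dotS S (eqvOf g⁻¹ (M24.inv_mem hg) c) = dotS (g • S) c := by
  unfold dotS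
  show ∑ p ∈ S, (c : GolayPt → ZMod 2) ((g⁻¹).symm p) = _
  rw [Finset.smul_finset_def, Finset.sum_image (fun a _ b _ h => by simpa using h)]
  apply Finset.sum_congr rfl
  intro p _
  simp [Equiv.Perm.inv_def]

theorem NW_dotS_smul (g : Equiv.Perm GolayPt) (hg : g ∈ M24) (S : Finset GolayPt) :
    NW (dotS (g • S)) = NW (dotS S) := by
  rw [← NW_comp (eqvOf g⁻¹ (M24.inv_mem hg)) (isW_eqvOf _ _) (dotS S)]
  congr 1
  funext c
  rw [dotS_eqvOf g hg]

theorem NW_dotS_of_card {S T : Finset GolayPt} (h : T.card = S.card) (h5 : S.card ≤ 5) :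
    NW (dotS T) = NW (dotS S) := by
  have hT : T ∈ MulAction.orbit M24 S := by
    rw [orbit_M24_eq S h5]
    exact h
  obtain ⟨g, rfl⟩ := hT
  exact NW_dotS_smul g.1 g.2 S

theorem NW_card0 (S : Finset GolayPt) (h : S.card = 0) : NW (dotS S) = 1518 := by
  have h0 : (suppM 0).card = 0 := by rw [card_suppM]; decide
  rw [NW_dotS_of_card (S := suppM 0) (by rw [h, h0]) (by rw [h0]; norm_num), NW_dotS_suppM]
  exact count0

theorem NW_card2 (S : Finset GolayPt) (h : S.card = 2) : NW (dotS S) = 814 := by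
  have h0 : (suppM 3).card = 2 := by rw [card_suppM]; decide
  rw [NW_dotS_of_card (S := suppM 3) (by rw [h, h0]) (by rw [h0]; norm_num), NW_dotS_suppM]
  exact count2

theorem NW_card4 (S : Finset GolayPt) (h : S.card = 4) : NW (dotS S) = 750 := by
  have h0 : (suppM 15).card = 4 := by rw [card_suppM]; decide
  rw [NW_dotS_of_card (S := suppM 15) (by rw [h, h0]) (by rw [h0]; norm_num), NW_dotS_suppM]
  exact count4

end Cfsg.Agent.Helper4.GolLin
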