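import Mathlib
import Cfsg.Agent.Helper4.GolLinA
import Cfsg.Agent.S0362

set_option autoImplicit false

/-!
# Linear maps on the length-24 code preserving the weights 8 and 16: functionals

Every linear functional on the code vanishing at the all-ones word is the sum of the coordinates
over a set of 0, 2 or 4 points, and the count of the words of weight 8 or 16 on which it vanishes
tells the three cases apart.
-/

namespace Cfsg.Agent.Helper4.GolLin

open Cfsg Cfsg.Agent.Helper9 Cfsg.Agent.Helper9.Golay Cfsg.Agent.Helper9.FixCoset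

/-- the all-ones word as an element of the code. -/
def oneC : ↥golayCode := ⟨1, Leech.one_mem_code⟩

theorem dotS_oneC (S : Finset GolayPt) : dotS S oneC = (S.card : ZMod 2) := by
  unfold dotS oneC
  simp

theorem dotS_add (S : Finset GolayPt) (a b : ↥golayCode) : dotS S (a + b) = dotS S a + dotS S b := by
  unfold dotS
  rw [← Finset.sum_add_distrib]
  rfl

/-- the sum of the coordinates over a set of points, as a linear map. -/
def dotL (S : Finset GolayPt) : ↥golayCode →ₗ[ZMod 2] ZMod 2 where
  toFun := dotS S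
  map_add' a b := dotS_add S a b
  map_smul' r a := by
    unfold dotS
    simp [Finset.mul_sum]

theorem dotL_apply (S : Finset GolayPt) (c : ↥golayCode) : dotL S c = dotS S c := rfl

theorem exists_dotS (ψ : ↥golayCode →ₗ[ZMod 2] ZMod 2) (h1 : ψ oneC = 0) :
    ∃ S : Finset GolayPt, (S.card = 0 ∨ S.card = 2 ∨ S.card = 4) ∧ ∀ c, ψ c = dotS S c := by
  obtain ⟨g, hg⟩ := LinearMap.exists_extend ψ
  set w : GolayPt → ZMod 2 := fun p => g (fun j => if p = j then 1 else 0) with hw
  have hψ : ∀ c : ↥golayCode, ψ c = ∑ p, (c : GolayPt → ZMod 2) p * w p := by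
    intro c
    rw [← hg]
    show g (c : GolayPt → ZMod 2) = _
    rw [LinearMap.pi_apply_eq_sum_univ g]
    rfl
  obtain ⟨u, hu1, hu2⟩ : ∃ u : GolayPt → ZMod 2, u - w ∈ golayCode ∧ hammingNorm u ≤ 4 := by
    rcases coset_leaders card_golayPt golayCode Cfsg.Agent.S0358.result hmin w with
      ⟨u, hu, -⟩ | ⟨h6, -⟩
    · have : u ∈ {u : GolayPt → ZMod 2 | u - w ∈ golayCode ∧ hammingNorm u ≤ 4} := by
        rw [hu]; rfl
      exact ⟨u, this.1, this.2⟩
    · have hne : {u : GolayPt → ZMod 2 | u - w ∈ golayCode ∧ hammingNorm u ≤ 4}.Nonempty :=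
        Set.nonempty_of_ncard_ne_zero (by rw [h6]; norm_num)
      obtain ⟨u, hu⟩ := hne
      exact ⟨u, hu.1, hu.2⟩
  have hψ2 : ∀ c : ↥golayCode, ψ c = dotS (supp2 u) c := by
    intro c
    have h0 := Cfsg.Agent.S0362.result (c : GolayPt → ZMod 2) (u - w) c.2 hu1
    rw [hψ c]
    unfold dotS supp2
    rw [Finset.sum_filter]
    have h2 : ∀ p, (if u p ≠ 0 then (c : GolayPt → ZMod 2) p else 0)
        = (c : GolayPt → ZMod 2) p * w p + (c : GolayPt → ZMod 2) p * (u - w) p := by
      intro p
      have h3 : (c : GolayPt → ZMod 2) p * w p + (c : GolayPt → ZMod 2) p * (u - w) p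
          = (c : GolayPt → ZMod 2) p * u p := by
        rw [Pi.sub_apply]; ring
      rw [h3]
      rcases Golay.zmod2_cases (u p) with h | h <;> simp [h]
    rw [Finset.sum_congr rfl (fun p _ => h2 p), Finset.sum_add_distrib, h0, add_zero]
  refine ⟨supp2 u, ?_, hψ2⟩
  have h4 := hψ2 oneC
  rw [h1, dotS_oneC] at h4
  have h5 : (supp2 u).card % 2 = 0 := (natCast_zmod2_eq_zero _).mp h4.symm
  have h6 : (supp2 u).card ≤ 4 := hu2
  omega

theorem NW_zero : NW (fun _ => 0) = 1518 := by
  have h := NW_card0 ∅ rfl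
  have h2 : dotS ∅ = fun _ => 0 := by
    funext c
    unfold dotS
    simp
  rwa [h2] at h

/-- the sum of the coordinates over a set of 2 or 4 points does not vanish on the code. -/
theorem dotS_ne_zero (S : Finset GolayPt) (h : S.card = 2 ∨ S.card = 4) :
    ∃ c : ↥golayCode, dotS S c ≠ 0 := by
  by_contra hcon
  push Not at hcon
  have h2 : dotS S = fun _ => 0 := funext hcon
  have h3 := NW_zero
  rw [← h2] at h3
  rcases h with h | h
  · rw [NW_card2 S h] at h3; omega
  · rw [NW_card4 S h] at h3; omega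

/-- the sums over a set of 4 points and over a set of 2 points differ on the code. -/
theorem dotS_ne_dotS (A B : Finset GolayPt) (hA : A.card = 4) (hB : B.card = 2) :
    ∃ c : ↥golayCode, dotS A c ≠ dotS B c := by
  by_contra hcon
  push Not at hcon
  have h2 : dotS A = dotS B := funext hcon
  have h3 := NW_card4 A hA
  rw [h2, NW_card2 B hB] at h3
  omega

theorem dotS_symmDiff (A B : Finset GolayPt) (c : ↥golayCode) :
    dotS (symmDiff A B) c = dotS A c + dotS B c := by
  unfold dotS
  have key : ∀ S : Finset GolayPt, ∑ p ∈ S, (c : GolayPt → ZMod 2) p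
      = ∑ p, if p ∈ S then (c : GolayPt → ZMod 2) p else 0 := by
    intro S
    simp
  rw [key, key A, key B, ← Finset.sum_add_distrib]
  apply Finset.sum_congr rfl
  intro p _
  by_cases hA : p ∈ A <;> by_cases hB : p ∈ B <;>
    simp [Finset.mem_symmDiff, hA, hB, CharTwo.add_self_eq_zero]

end Cfsg.Agent.Helper4.GolLin
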