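import Mathlib
import Cfsg.Agent.Helper4.GolLinB

set_option autoImplicit false

/-!
# Linear maps on the length-24 code preserving the weights 8 and 16: the induced permutation

A linear bijection of the code fixing the all-ones word and preserving the set of words of weight
8 or 16 is, modulo the all-ones word, a permutation of the coordinates.
-/

namespace Cfsg.Agent.Helper4.GolLin

open Cfsg Cfsg.Agent.Helper9 Cfsg.Agent.Helper9.Golay Cfsg.Agent.Helper9.FixCoset

theorem zmod2_add_self (a : ZMod 2) : a + a = 0 := CharTwo.add_self_eq_zero a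

theorem dotS_pair {p q : GolayPt} (h : p ≠ q) (c : ↥golayCode) :
    dotS {p, q} c = (c : GolayPt → ZMod 2) p + (c : GolayPt → ZMod 2) q := by
  unfold dotS
  rw [Finset.sum_pair h]

theorem card_symmDiff_eq (A B : Finset GolayPt) :
    (symmDiff A B).card + 2 * (A ∩ B).card = A.card + B.card := by
  have h1 : symmDiff A B = (A \ B) ∪ (B \ A) := rfl
  have h2 : Disjoint (A \ B) (B \ A) := disjoint_sdiff_sdiff
  rw [h1, Finset.card_union_of_disjoint h2]
  have h3 := Finset.card_sdiff_add_card_inter A B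
  have h4 := Finset.card_sdiff_add_card_inter B A
  rw [Finset.inter_comm B A] at h4
  omega

section

variable (x : ↥golayCode ≃ₗ[ZMod 2] ↥golayCode)

theorem exists_pair_image (hx1 : x oneC = oneC) (hW : ∀ c, isW (x c) ↔ isW c)
    (S : Finset GolayPt) (hS : S.card = 2) :
    ∃ T : Finset GolayPt, T.card = 2 ∧ ∀ c, dotS S (x c) = dotS T c := by
  have h1 : ((dotL S).comp x.toLinearMap) oneC = 0 := by
    show dotS S (x oneC) = 0
    rw [hx1, dotS_oneC, hS]
    decide
  obtain ⟨T, hT, hT2⟩ := exists_dotS _ h1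
  have hNW : NW (dotS T) = 814 := by
    have h2 : dotS T = fun c => dotS S (x.toEquiv c) := by
      funext c
      exact (hT2 c).symm
    rw [h2, NW_comp x.toEquiv hW (dotS S), NW_card2 S hS]
  refine ⟨T, ?_, fun c => hT2 c⟩
  rcases hT with h | h | h
  · rw [NW_card0 T h] at hNW; omega
  · exact h
  · rw [NW_card4 T h] at hNW; omega

theorem exists_pair_fun (hx1 : x oneC = oneC) (hW : ∀ c, isW (x c) ↔ isW c) :
    ∃ P : GolayPt → GolayPt → Finset GolayPt, ∀ p q, p ≠ q → (P p q).card = 2 ∧
      ∀ c : ↥golayCode, ((x c : ↥golayCode) : GolayPt → ZMod 2) p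
        + ((x c : ↥golayCode) : GolayPt → ZMod 2) q = dotS (P p q) c := by
  have h : ∀ p q : GolayPt, ∃ T : Finset GolayPt, p ≠ q → T.card = 2 ∧
      ∀ c : ↥golayCode, ((x c : ↥golayCode) : GolayPt → ZMod 2) p
        + ((x c : ↥golayCode) : GolayPt → ZMod 2) q = dotS T c := by
    intro p q
    by_cases hpq : p = q
    · exact ⟨∅, fun h => absurd hpq h⟩
    · obtain ⟨T, hT, hT2⟩ := exists_pair_image x hx1 hW {p, q} (Finset.card_pair hpq)
      refine ⟨T, fun _ => ⟨hT, fun c => ?_⟩⟩
      rw [← hT2 c, dotS_pair hpq]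
  choose P hP using h
  exact ⟨P, hP⟩

end

section

variable (x : ↥golayCode ≃ₗ[ZMod 2] ↥golayCode) (P : GolayPt → GolayPt → Finset GolayPt)
  (hP : ∀ p q, p ≠ q → (P p q).card = 2 ∧
      ∀ c : ↥golayCode, ((x c : ↥golayCode) : GolayPt → ZMod 2) p
        + ((x c : ↥golayCode) : GolayPt → ZMod 2) q = dotS (P p q) c)

include hP

theorem card_inter_eq_one {p q r : GolayPt} (hpq : p ≠ q) (hpr : p ≠ r) (hqr : q ≠ r) :
    (P p q ∩ P p r).card = 1 := by
  obtain ⟨hA, hA2⟩ := hP p q hpq
  obtain ⟨hB, hB2⟩ := hP p r hpr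
  obtain ⟨hD, hD2⟩ := hP q r hqr
  have hsum : ∀ c, dotS (symmDiff (P p q) (P p r)) c = dotS (P q r) c := by
    intro c
    rw [dotS_symmDiff, ← hA2, ← hB2, ← hD2]
    generalize ((x c : ↥golayCode) : GolayPt → ZMod 2) p = a
    generalize ((x c : ↥golayCode) : GolayPt → ZMod 2) q = b
    generalize ((x c : ↥golayCode) : GolayPt → ZMod 2) r = d
    revert a b d
    decide
  have hcard := card_symmDiff_eq (P p q) (P p r)
  have hle : (P p q ∩ P p r).card ≤ 2 := hA ▸ Finset.card_le_card Finset.inter_subset_left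
  rw [hA, hB] at hcard
  by_contra hne
  have h02 : (P p q ∩ P p r).card = 0 ∨ (P p q ∩ P p r).card = 2 := by omega
  rcases h02 with h0 | h2
  · have h4 : (symmDiff (P p q) (P p r)).card = 4 := by omega
    obtain ⟨c, hc⟩ := dotS_ne_dotS _ _ h4 hD
    exact hc (hsum c)
  · have h4 : (symmDiff (P p q) (P p r)).card = 0 := by omega
    rw [Finset.card_eq_zero] at h4
    obtain ⟨c, hc⟩ := dotS_ne_zero (P q r) (Or.inl hD)
    apply hc
    rw [← hsum c, h4]
    unfold dotS
    simp

theorem star {p0 q1 q2 t : GolayPt} (h01 : p0 ≠ q1) (h02 : p0 ≠ q2) (h12 : q1 ≠ q2)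
    (ht : P p0 q1 ∩ P p0 q2 = {t}) {q : GolayPt} (hq0 : p0 ≠ q) : t ∈ P p0 q := by
  have ht1 : t ∈ P p0 q1 := (Finset.mem_inter.mp (ht ▸ Finset.mem_singleton_self t)).1
  have ht2 : t ∈ P p0 q2 := (Finset.mem_inter.mp (ht ▸ Finset.mem_singleton_self t)).2
  by_cases hq1 : q = q1
  · rw [hq1]; exact ht1
  by_cases hq2 : q = q2
  · rw [hq2]; exact ht2
  by_contra htA
  obtain ⟨hA, hA2⟩ := hP p0 q hq0
  obtain ⟨hA1, hA12⟩ := hP p0 q1 h01
  obtain ⟨hA2', hA22⟩ := hP p0 q2 h02
  obtain ⟨a, ha⟩ := Finset.card_eq_one.mp (card_inter_eq_one x P hP hq0 h01 hq1)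
  obtain ⟨b, hb⟩ := Finset.card_eq_one.mp (card_inter_eq_one x P hP hq0 h02 hq2)
  have haA : a ∈ P p0 q := (Finset.mem_inter.mp (ha ▸ Finset.mem_singleton_self a)).1
  have haA1 : a ∈ P p0 q1 := (Finset.mem_inter.mp (ha ▸ Finset.mem_singleton_self a)).2
  have hbA : b ∈ P p0 q := (Finset.mem_inter.mp (hb ▸ Finset.mem_singleton_self b)).1
  have hbA2 : b ∈ P p0 q2 := (Finset.mem_inter.mp (hb ▸ Finset.mem_singleton_self b)).2
  have hat : a ≠ t := fun h => htA (h ▸ haA)
  have hbt : b ≠ t := fun h => htA (h ▸ hbA)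
  have hab : a ≠ b := by
    intro h
    have : a ∈ P p0 q1 ∩ P p0 q2 := Finset.mem_inter.mpr ⟨haA1, h ▸ hbA2⟩
    rw [ht, Finset.mem_singleton] at this
    exact hat this
  have e1 : P p0 q1 = {t, a} := by
    symm
    apply Finset.eq_of_subset_of_card_le
    · intro y hy
      rcases Finset.mem_insert.mp hy with rfl | hy
      · exact ht1
      · rw [Finset.mem_singleton.mp hy]; exact haA1
    · rw [hA1, Finset.card_pair hat.symm]
  have e2 : P p0 q2 = {t, b} := by
    symm
    apply Finset.eq_of_subset_of_card_le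
    · intro y hy
      rcases Finset.mem_insert.mp hy with rfl | hy
      · exact ht2
      · rw [Finset.mem_singleton.mp hy]; exact hbA2
    · rw [hA2', Finset.card_pair hbt.symm]
  have e3 : P p0 q = {a, b} := by
    symm
    apply Finset.eq_of_subset_of_card_le
    · intro y hy
      rcases Finset.mem_insert.mp hy with rfl | hy
      · exact haA
      · rw [Finset.mem_singleton.mp hy]; exact hbA
    · rw [hA, Finset.card_pair hab]
  -- the sum over the four points vanishes on the code
  have hQ : ({q1, q2, p0, q} : Finset GolayPt).card = 4 := by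
    rw [Finset.card_insert_of_notMem, Finset.card_insert_of_notMem, Finset.card_pair hq0]
    · simp only [Finset.mem_insert, Finset.mem_singleton, not_or]
      exact ⟨h02.symm, fun h => hq2 h.symm⟩
    · simp only [Finset.mem_insert, Finset.mem_singleton, not_or]
      exact ⟨h12, h01.symm, fun h => hq1 h.symm⟩
  obtain ⟨y, hy⟩ := dotS_ne_zero _ (Or.inr hQ)
  apply hy
  obtain ⟨c, rfl⟩ := x.surjective y
  unfold dotS
  rw [Finset.sum_insert, Finset.sum_insert, Finset.sum_pair hq0]
  · have k1 := hA12 c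
    have k2 := hA22 c
    have k3 := hA2 c
    rw [e1, dotS_pair hat.symm] at k1
    rw [e2, dotS_pair hbt.symm] at k2
    rw [e3, dotS_pair hab] at k3
    revert k1 k2 k3
    generalize ((x c : ↥golayCode) : GolayPt → ZMod 2) p0 = v0
    generalize ((x c : ↥golayCode) : GolayPt → ZMod 2) q1 = v1
    generalize ((x c : ↥golayCode) : GolayPt → ZMod 2) q2 = v2
    generalize ((x c : ↥golayCode) : GolayPt → ZMod 2) q = v3
    generalize (c : GolayPt → ZMod 2) t = w0
    generalize (c : GolayPt → ZMod 2) a = w1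
    generalize (c : GolayPt → ZMod 2) b = w2
    revert v0 v1 v2 v3 w0 w1 w2
    decide
  · simp only [Finset.mem_insert, Finset.mem_singleton, not_or]
    exact ⟨h02.symm, fun h => hq2 h.symm⟩
  · simp only [Finset.mem_insert, Finset.mem_singleton, not_or]
    exact ⟨h12, h01.symm, fun h => hq1 h.symm⟩

theorem exists_tau : ∃ τ : GolayPt → GolayPt, ∃ k : ↥golayCode → ZMod 2,
    ∀ (c : ↥golayCode) (p : GolayPt),
      ((x c : ↥golayCode) : GolayPt → ZMod 2) p = (c : GolayPt → ZMod 2) (τ p) + k c := by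
  have h01 : (none : GolayPt) ≠ some 0 := by decide
  have h02 : (none : GolayPt) ≠ some 1 := by decide
  have h12 : (some 0 : GolayPt) ≠ some 1 := by decide
  obtain ⟨t, ht⟩ := Finset.card_eq_one.mp (card_inter_eq_one x P hP h01 h02 h12)
  have hstar : ∀ q : GolayPt, none ≠ q → t ∈ P none q := fun q hq => star x P hP h01 h02 h12 ht hq
  have hex : ∀ q : GolayPt, ∃ s : GolayPt, none ≠ q → ∀ c : ↥golayCode,
      ((x c : ↥golayCode) : GolayPt → ZMod 2) none + ((x c : ↥golayCode) : GolayPt → ZMod 2) q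
        = (c : GolayPt → ZMod 2) t + (c : GolayPt → ZMod 2) s := by
    intro q
    by_cases hq : (none : GolayPt) = q
    · exact ⟨t, fun h => absurd hq h⟩
    · obtain ⟨hA, hA2⟩ := hP none q hq
      obtain ⟨a, b, hab, hE⟩ := Finset.card_eq_two.mp hA
      have htm := hstar q hq
      rw [hE, Finset.mem_insert, Finset.mem_singleton] at htm
      rcases htm with rfl | rfl
      · refine ⟨b, fun _ c => ?_⟩
        rw [hA2 c, hE, dotS_pair hab]
      · refine ⟨a, fun _ c => ?_⟩
        rw [hA2 c, hE, dotS_pair hab, add_comm]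
  choose τ' hτ' using hex
  refine ⟨fun q => if none = q then t else τ' q,
    fun c => ((x c : ↥golayCode) : GolayPt → ZMod 2) none + (c : GolayPt → ZMod 2) t, ?_⟩
  intro c p
  by_cases hp : (none : GolayPt) = p
  · simp only [if_pos hp]
    rw [← hp]
    generalize ((x c : ↥golayCode) : GolayPt → ZMod 2) none = v0
    generalize (c : GolayPt → ZMod 2) t = w0
    revert v0 w0
    decide
  · simp only [if_neg hp]
    have k1 := hτ' p hp c
    revert k1
    generalize ((x c : ↥golayCode) : GolayPt → ZMod 2) none = v0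
    generalize ((x c : ↥golayCode) : GolayPt → ZMod 2) p = v1
    generalize (c : GolayPt → ZMod 2) t = w0
    generalize (c : GolayPt → ZMod 2) (τ' p) = w1
    revert v0 v1 w0 w1
    decide

end

theorem exists_perm (x : ↥golayCode ≃ₗ[ZMod 2] ↥golayCode) (hx1 : x oneC = oneC)
    (hW : ∀ c, isW (x c) ↔ isW c) :
    ∃ τ : Equiv.Perm GolayPt, ∃ k : ↥golayCode → ZMod 2, ∀ (c : ↥golayCode) (p : GolayPt),
      ((x c : ↥golayCode) : GolayPt → ZMod 2) p = (c : GolayPt → ZMod 2) (τ p) + k c := by
  obtain ⟨P, hP⟩ := exists_pair_fun x hx1 hW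
  obtain ⟨τ, k, hτ⟩ := exists_tau x P hP
  have hinj : Function.Injective τ := by
    intro q q' hqq
    by_contra hne
    obtain ⟨y, hy⟩ := dotS_ne_zero {q, q'} (Or.inl (Finset.card_pair hne))
    apply hy
    obtain ⟨c, rfl⟩ := x.surjective y
    rw [dotS_pair hne, hτ c q, hτ c q', hqq]
    exact zmod2_add_self _
  have hbij : Function.Bijective τ := Finite.injective_iff_bijective.mp hinj
  exact ⟨Equiv.ofBijective τ hbij, k, fun c p => hτ c p⟩

/-- a linear bijection of the code fixing the all-ones word and preserving the set of words of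
weight 8 or 16 is, modulo the all-ones word, induced by a permutation in the group of the code. -/
theorem exists_M24 (x : ↥golayCode ≃ₗ[ZMod 2] ↥golayCode) (hx1 : x oneC = oneC)
    (hW : ∀ c, isW (x c) ↔ isW c) :
    ∃ σ ∈ M24, ∀ c : ↥golayCode,
      ((x c : ↥golayCode) : GolayPt → ZMod 2) = (fun p => (c : GolayPt → ZMod 2) (σ.symm p)) ∨
      ((x c : ↥golayCode) : GolayPt → ZMod 2)
        = (fun p => (c : GolayPt → ZMod 2) (σ.symm p)) + fun _ => (1 : ZMod 2) := by
  obtain ⟨τ, k, hτ⟩ := exists_perm x hx1 hW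
  have hcomp : ∀ c : ↥golayCode, (c : GolayPt → ZMod 2) ∘ τ ∈ golayCode := by
    intro c
    rcases Golay.zmod2_cases (k c) with hk | hk
    · have : (c : GolayPt → ZMod 2) ∘ τ = ((x c : ↥golayCode) : GolayPt → ZMod 2) := by
        funext p
        rw [hτ c p, hk, add_zero]
        rfl
      rw [this]
      exact (x c).2
    · have : (c : GolayPt → ZMod 2) ∘ τ = ((x c : ↥golayCode) : GolayPt → ZMod 2) + 1 := by
        funext p
        rw [Pi.add_apply, hτ c p, hk, Pi.one_apply, add_assoc]
        rw [show (1 : ZMod 2) + 1 = 0 by decide, add_zero]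
        rfl
      rw [this]
      exact golayCode.add_mem (x c).2 Leech.one_mem_code
  have hτM : τ ∈ M24 := mem_M24_of_comp τ (fun o => hcomp ⟨genW o, genW_mem o⟩)
  refine ⟨τ⁻¹, M24.inv_mem hτM, fun c => ?_⟩
  rcases Golay.zmod2_cases (k c) with hk | hk
  · left
    funext p
    rw [hτ c p, hk, add_zero]
    rfl
  · right
    funext p
    rw [hτ c p, hk]
    rfl

end Cfsg.Agent.Helper4.GolLin
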