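import Mathlib
import Cfsg.Prelude.Def_Classical
import Cfsg.Agent.Helper4.F2H1Main
import Cfsg.Agent.S0288

set_option autoImplicit false

/-!
The certificate for `Ω⁻(4,2)`.
-/

namespace Cfsg.Agent.Helper4.H1M1

open Cfsg.Agent.Helper4.F2Code Cfsg.Agent.Helper4.F2Chain Cfsg.Agent.Helper4.F2H1

def A0 : List ℕ := [15, 7, 10, 9]
def A0' : List ℕ := [11, 7, 14, 3]
def B0 : List ℕ := [1, 2, 12, 4]
def B0' : List ℕ := [1, 2, 8, 12]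
def A1 : List ℕ := [1, 2, 8, 4]
def A1' : List ℕ := [1, 2, 8, 4]
def B1 : List ℕ := [7, 2, 14, 4]
def B1' : List ℕ := [11, 2, 8, 14]
def S0 : List ℕ := [2, 11, 8, 6]
def S1 : List ℕ := [7, 2, 14, 4]
def C : List (List ℕ) := [[2, 11, 8, 6],
  [7, 2, 14, 4],
  [7, 1, 9, 4],
  [1, 2, 4, 8],
  [2, 11, 8, 6],
  [7, 2, 14, 4],
  [11, 15, 6, 3],
  [15, 7, 3, 9],
  [15, 11, 5, 3],
  [11, 15, 6, 3],
  [1, 7, 13, 4],
  [2, 1, 4, 12],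
  [7, 1, 9, 4],
  [1, 7, 9, 13],
  [15, 11, 5, 3],
  [1, 7, 13, 4],
  [1, 15, 5, 9],
  [1, 11, 5, 8],
  [1, 2, 4, 8],
  [1, 11, 5, 8],
  [2, 1, 4, 12],
  [1, 7, 9, 13],
  [1, 15, 9, 12],
  [2, 1, 4, 12],
  [1, 7, 9, 13],
  [2, 1, 4, 12],
  [1, 7, 9, 13],
  [1, 15, 12, 5],
  [1, 7, 13, 4],
  [1, 15, 5, 9],
  [1, 11, 8, 13],
  [1, 15, 5, 9],
  [1, 15, 9, 12],
  [1, 2, 8, 12],
  [1, 15, 9, 12],
  [1, 2, 8, 12],
  [1, 2, 12, 4],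
  [1, 15, 12, 5],
  [1, 2, 12, 4],
  [1, 2, 8, 12],
  [1, 15, 9, 12],
  [1, 2, 8, 12],
  [1, 15, 9, 12],
  [1, 2, 8, 12],
  [1, 2, 12, 4],
  [1, 2, 8, 12],
  [1, 2, 12, 4]]
def St : List Step := [.gen 0, .gen 1, .inv 0, .mul 0 2, .mul 0 3, .mul 1 3, .mul 0 4, .mul 0 6, .mul 1 7, .inv 7, .mul 9 8, .mul 1 4, .inv 4, .mul 12 11, .mul 1 7, .mul 9 14, .mul 13 15, .mul 0 5, .inv 3, .mul 18 17, .mul 1 4, .mul 12 20, .mul 19 21, .mul 1 4, .mul 12 23, .mul 1 4, .mul 12 25, .mul 24 26, .mul 10 3, .mul 16 3, .mul 10 28, .inv 29, .mul 22 3, .mul 31 32, .mul 22 3, .mul 31 34, .mul 33 35, .mul 27 3, .mul 31 37, .mul 36 38, .mul 22 3, .mul 31 40, .mul 22 3, .mul 31 42, .mul 41 43, .mul 39 3, .mul 44 3]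
def levels : List (List ℕ × ℕ × List ℕ) := [([3, 4, 5, 6, 7], 1, [1, 2, 7, 11, 15]),
  ([3, 28, 29, 30], 2, [2, 7, 15, 11]),
  ([3, 45, 46], 4, [4, 8, 12])]
def L0 : List ℕ := [13, 0, 0, 15]
def L1 : List ℕ := [0, 0, 12, 11]
def rels0 : List (List (Fin 2)) := [[0, 0, 0, 0, 0]]
def rels : List (List (Fin 2)) := [[0, 0, 0, 0, 0], [1, 1, 1], [0, 1, 0, 1]]


/-- the numbering of the coordinates. -/
def e : (Fin 1 ⊕ Fin 1) ⊕ Fin 2 ≃ Fin 4 :=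
  (Equiv.sumCongr finSumFinEquiv (Equiv.refl (Fin 2))).trans finSumFinEquiv

theorem hcard : Nat.card ↥(Cfsg.isometryGroup (ZMod 2) (Cfsg.quadFormMinus 1 (ZMod 2) 1 1)) ≤
    2 * 60 := by
  have h := Cfsg.Agent.S0288.result (F := ZMod 2) (q := 2) (by simp) 2 (by norm_num) 1 1
    (by decide)
  have h2 : (2 - 1 : ℕ) = 1 := rfl
  rw [h2] at h
  rw [h]
  decide

set_option maxRecDepth 100000 in
theorem result (f : ↥(Cfsg.Omega (ZMod 2) (Cfsg.quadFormMinus 1 (ZMod 2) 1 1)) →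
      ((Fin 1 ⊕ Fin 1) ⊕ Fin 2 → ZMod 2))
    (hf : ∀ g h : ↥(Cfsg.Omega (ZMod 2) (Cfsg.quadFormMinus 1 (ZMod 2) 1 1)),
      f (g * h) = f g + Matrix.mulVec
        (((g : ↥(Cfsg.isometryGroup (ZMod 2) (Cfsg.quadFormMinus 1 (ZMod 2) 1 1))) :
          Matrix.GeneralLinearGroup ((Fin 1 ⊕ Fin 1) ⊕ Fin 2) (ZMod 2)) :
            Matrix ((Fin 1 ⊕ Fin 1) ⊕ Fin 2) ((Fin 1 ⊕ Fin 1) ⊕ Fin 2) (ZMod 2)) (f h)) :
    ∃ v : (Fin 1 ⊕ Fin 1) ⊕ Fin 2 → ZMod 2,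
      ∀ g : ↥(Cfsg.Omega (ZMod 2) (Cfsg.quadFormMinus 1 (ZMod 2) 1 1)), f g = Matrix.mulVec
        (((g : ↥(Cfsg.isometryGroup (ZMod 2) (Cfsg.quadFormMinus 1 (ZMod 2) 1 1))) :
          Matrix.GeneralLinearGroup ((Fin 1 ⊕ Fin 1) ⊕ Fin 2) (ZMod 2)) :
            Matrix ((Fin 1 ⊕ Fin 1) ⊕ Fin 2) ((Fin 1 ⊕ Fin 1) ⊕ Fin 2) (ZMod 2)) v - v :=
  main e (Cfsg.quadFormMinus 1 (ZMod 2) 1 1) 60 hcard A0 A0' B0 B0' A1 A1' B1 B1' S0 S1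
    (by decide +kernel) (by decide +kernel) (by decide +kernel) (by decide +kernel)
    (by decide +kernel) (by decide +kernel) (by decide +kernel) (by decide +kernel)
    (by decide +kernel) (by decide +kernel) (by decide +kernel)
    C St (by decide +kernel) levels (by decide +kernel) (by decide +kernel)
    L0 L1 rels0 rels (by decide +kernel) (by decide +kernel) (by decide +kernel) f hf

end Cfsg.Agent.Helper4.H1M1
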