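import Mathlib
import Cfsg.Prelude.Def_Classical
import Cfsg.Agent.Helper4.F2H1Main
import Cfsg.Agent.S0288

set_option autoImplicit false

/-!
The certificate for the form `Cfsg.quadFormMinus 2 (ZMod 2) 1 1`.
-/

namespace Cfsg.Agent.Helper4.H1M2

open Cfsg.Agent.Helper4.F2Code Cfsg.Agent.Helper4.F2Chain Cfsg.Agent.Helper4.F2H1

def A0 : List ℕ := [30, 29, 27, 26, 34, 50]
def A0' : List ℕ := [12, 15, 9, 55, 48, 31]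
def B0 : List ℕ := [55, 2, 21, 62, 38, 7]
def B0' : List ℕ := [55, 2, 21, 62, 38, 7]
def A1 : List ℕ := [45, 26, 4, 58, 14, 38]
def A1' : List ℕ := [53, 46, 4, 58, 22, 10]
def B1 : List ℕ := [1, 27, 29, 8, 16, 41]
def B1' : List ℕ := [1, 27, 29, 8, 16, 41]
def S0 : List ℕ := [55, 62, 3, 2, 48, 17]
def S1 : List ℕ := [15, 12, 4, 6, 16, 48]
def C : List (List ℕ) := [[55, 62, 3, 2, 48, 17],
  [15, 12, 4, 6, 16, 48],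
  [12, 8, 21, 15, 44, 60],
  [1, 2, 4, 8, 16, 32],
  [55, 62, 3, 2, 48, 17],
  [15, 12, 4, 6, 16, 48],
  [43, 30, 9, 62, 33, 7],
  [39, 46, 3, 12, 32, 31],
  [8, 1, 3, 61, 48, 33],
  [26, 15, 53, 30, 38, 10],
  [53, 30, 9, 46, 63, 7],
  [27, 46, 9, 1, 17, 56],
  [2, 55, 9, 23, 33, 38],
  [6, 15, 3, 45, 32, 63],
  [12, 8, 21, 15, 44, 60],
  [21, 15, 53, 46, 41, 10],
  [59, 46, 53, 55, 7, 35],
  [62, 43, 53, 58, 38, 44],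
  [61, 8, 9, 39, 17, 41],
  [4, 8, 21, 46, 36, 60],
  [42, 46, 21, 43, 10, 24],
  [37, 62, 43, 39, 7, 51],
  [30, 26, 21, 29, 44, 16],
  [46, 53, 43, 42, 56, 50],
  [23, 2, 53, 27, 7, 36],
  [45, 6, 9, 55, 31, 57],
  [3, 2, 4, 46, 18, 32],
  [58, 62, 27, 53, 10, 22],
  [9, 62, 3, 46, 14, 17],
  [29, 30, 59, 21, 60, 13],
  [27, 1, 43, 62, 57, 10],
  [8, 29, 39, 12, 24, 52],
  [1, 8, 45, 26, 40, 17],
  [45, 46, 4, 26, 60, 50],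
  [46, 53, 55, 42, 22, 50],
  [1, 26, 55, 9, 57, 17],
  [1, 58, 29, 27, 34, 41],
  [3, 12, 4, 62, 28, 48],
  [3, 2, 4, 46, 18, 32],
  [1, 42, 4, 26, 56, 50],
  [1, 8, 29, 3, 16, 49],
  [29, 30, 37, 27, 34, 13],
  [62, 61, 23, 9, 33, 47],
  [1, 2, 6, 43, 18, 32],
  [45, 46, 4, 26, 60, 50],
  [1, 26, 55, 9, 57, 17],
  [3, 12, 4, 62, 28, 48],
  [1, 42, 4, 26, 56, 50],
  [1, 2, 55, 42, 33, 50],
  [23, 12, 43, 21, 7, 52],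
  [53, 2, 39, 46, 17, 7],
  [1, 9, 30, 3, 16, 49],
  [3, 12, 4, 62, 28, 48],
  [1, 42, 4, 26, 56, 50],
  [1, 59, 30, 26, 34, 40],
  [26, 1, 43, 30, 56, 10],
  [43, 30, 9, 62, 33, 7],
  [1, 43, 12, 8, 24, 32],
  [58, 62, 21, 59, 10, 18],
  [26, 45, 3, 61, 14, 31],
  [1, 2, 23, 27, 16, 35],
  [1, 43, 62, 58, 24, 10],
  [26, 1, 43, 30, 56, 10],
  [1, 43, 12, 8, 24, 32],
  [37, 30, 26, 27, 10, 40],
  [46, 9, 55, 59, 31, 24],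
  [1, 26, 45, 3, 50, 35],
  [1, 59, 37, 42, 19, 10],
  [1, 8, 29, 3, 16, 49],
  [1, 2, 6, 43, 18, 32],
  [1, 2, 55, 42, 33, 50],
  [1, 59, 30, 26, 34, 40],
  [1, 43, 62, 58, 24, 10],
  [1, 59, 37, 42, 19, 10],
  [1, 3, 15, 9, 16, 32],
  [1, 42, 61, 3, 33, 18],
  [1, 26, 39, 58, 34, 11],
  [1, 8, 21, 59, 24, 49],
  [1, 2, 53, 27, 35, 50],
  [1, 59, 46, 9, 41, 49],
  [1, 27, 12, 59, 11, 40],
  [1, 26, 45, 8, 57, 17],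
  [1, 9, 23, 2, 16, 49],
  [1, 58, 62, 9, 48, 24],
  [1, 59, 12, 27, 11, 35],
  [1, 8, 4, 26, 40, 16],
  [1, 26, 30, 43, 10, 50],
  [1, 27, 12, 43, 56, 11],
  [1, 8, 4, 58, 48, 40],
  [1, 26, 4, 42, 56, 10],
  [1, 8, 4, 2, 16, 48],
  [1, 2, 4, 8, 16, 32],
  [1, 8, 4, 2, 16, 48],
  [1, 42, 4, 26, 56, 50],
  [1, 8, 53, 58, 48, 41],
  [1, 2, 39, 58, 49, 19],
  [1, 58, 4, 26, 34, 40],
  [1, 26, 39, 9, 17, 41],
  [1, 26, 21, 59, 35, 10],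
  [1, 2, 4, 58, 34, 48],
  [1, 42, 29, 58, 19, 24],
  [1, 9, 23, 2, 16, 49],
  [1, 58, 4, 42, 24, 18],
  [1, 42, 4, 8, 24, 32],
  [1, 59, 30, 26, 40, 10],
  [1, 2, 4, 8, 32, 48],
  [1, 42, 4, 8, 32, 56],
  [1, 58, 29, 42, 24, 19],
  [1, 42, 4, 58, 18, 24],
  [1, 43, 62, 3, 18, 51],
  [1, 2, 4, 58, 48, 18],
  [1, 9, 46, 27, 41, 17],
  [1, 43, 62, 9, 57, 24],
  [1, 8, 4, 26, 16, 56],
  [1, 58, 4, 8, 48, 24],
  [1, 9, 46, 27, 41, 17],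
  [1, 8, 4, 26, 16, 56],
  [1, 42, 4, 26, 56, 50],
  [1, 58, 4, 26, 34, 40],
  [1, 8, 4, 26, 16, 56],
  [1, 26, 4, 2, 16, 50],
  [1, 2, 4, 58, 34, 48],
  [1, 2, 4, 58, 34, 48],
  [1, 42, 4, 2, 50, 32],
  [1, 42, 4, 26, 56, 50],
  [1, 2, 4, 42, 32, 50],
  [1, 42, 4, 58, 18, 24],
  [1, 2, 4, 58, 18, 34],
  [1, 58, 4, 8, 48, 24],
  [1, 26, 4, 42, 56, 10],
  [1, 2, 4, 42, 50, 18],
  [1, 2, 4, 26, 50, 16],
  [1, 26, 4, 2, 16, 50],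
  [1, 58, 4, 8, 48, 24],
  [1, 2, 4, 42, 50, 18],
  [1, 2, 4, 58, 48, 18],
  [1, 2, 4, 58, 48, 18],
  [1, 2, 4, 8, 32, 48],
  [1, 8, 4, 2, 48, 32],
  [1, 2, 4, 26, 34, 50],
  [1, 2, 4, 42, 50, 18],
  [1, 2, 4, 58, 34, 48],
  [1, 2, 4, 42, 32, 50],
  [1, 2, 4, 26, 50, 16],
  [1, 2, 4, 26, 50, 16],
  [1, 2, 4, 42, 50, 18],
  [1, 2, 4, 8, 32, 48],
  [1, 2, 4, 42, 50, 18],
  [1, 2, 4, 8, 32, 48],
  [1, 2, 4, 42, 50, 18],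
  [1, 2, 4, 8, 32, 48],
  [1, 2, 4, 8, 48, 16],
  [1, 2, 4, 8, 32, 48],
  [1, 2, 4, 8, 48, 16]]
def St : List Step := [.gen 0, .gen 1, .inv 0, .mul 0 2, .mul 0 3, .mul 1 3, .mul 0 4, .mul 1 4, .mul 0 5, .mul 0 6, .mul 1 6, .mul 0 7, .mul 0 8, .mul 1 8, .mul 0 9, .mul 0 10, .mul 0 11, .mul 0 12, .mul 0 13, .mul 0 15, .mul 0 16, .mul 1 16, .mul 0 17, .mul 1 17, .mul 0 18, .mul 1 18, .mul 0 19, .mul 1 20, .mul 0 26, .mul 0 27, .mul 1 15, .inv 11, .mul 31 30, .mul 0 20, .inv 25, .mul 34 33, .mul 32 35, .mul 1 26, .inv 26, .mul 38 37, .mul 36 39, .mul 1 29, .inv 29, .mul 42 41, .mul 0 20, .mul 34 44, .mul 1 26, .mul 38 46, .mul 45 47, .mul 1 24, .inv 24, .mul 50 49, .mul 1 26, .mul 38 52, .mul 51 53, .mul 1 9, .inv 9, .mul 56 55, .mul 0 24, .inv 27, .mul 59 58, .mul 57 60, .mul 1 9, .mul 56 62, .mul 0 21, .inv 21, .mul 65 64,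 .mul 63 66, .mul 40 3, .mul 43 3, .mul 48 3, .mul 54 3, .mul 61 3, .mul 67 3, .mul 40 68, .mul 48 68, .mul 54 68, .mul 40 69, .mul 48 69, .mul 54 70, .mul 48 72, .mul 67 72, .mul 40 74, .mul 48 71, .inv 72, .mul 84 83, .mul 40 80, .inv 71, .mul 87 86, .mul 85 88, .mul 61 80, .inv 3, .mul 91 90, .mul 89 92, .mul 40 70, .inv 78, .mul 95 94, .mul 43 73, .inv 76, .mul 98 97, .mul 67 68, .inv 68, .mul 101 100, .mul 99 102, .mul 67 69, .mul 87 104, .mul 103 105, .mul 61 68, .mul 101 107, .mul 43 68, .mul 84 109, .mul 67 73, .inv 79, .mul 112 111, .mul 110 113, .mul 67 73, .mul 112 115, .mul 93 3, .mul 96 3, .mul 116 3, .mul 106 117, .mul 96 120, .mul 91 121, .mul 116 117, .inv 117, .mul 124 123, .mul 108 3, .mul 124 126, .mul 114 3, .inv 118, .mul 129 128, .mul 127 130, .inv 119, .mul 114 3, .mul 129 133, .mul 114 120, .mul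 91 135, .mul 134 136, .mul 108 117, .mul 132 138, .mul 137 139, .mul 122 3, .mul 125 3, .mul 131 3, .inv 142, .mul 140 3, .mul 144 145, .mul 140 3, .mul 144 147, .mul 140 3, .mul 144 149, .mul 148 150, .mul 146 3, .mul 151 3]
def levels : List (List ℕ × ℕ × List ℕ) := [([3, 4, 5, 6, 7, 8, 9, 10, 11, 12, 13, 14, 15, 16, 17, 18, 19, 20, 21, 22, 23, 24, 25, 26, 27, 28, 29], 1, [1, 55, 15, 43, 39, 8, 26, 53, 27, 2, 6, 12, 21, 59, 62, 61, 4, 42, 37, 30, 46, 23, 45, 3, 58, 9, 29]),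
  ([3, 68, 69, 70, 71, 72, 73, 74, 75, 76, 77, 78, 79, 80, 81, 82], 4, [4, 29, 6, 55, 30, 62, 37, 15, 61, 39, 21, 53, 46, 12, 45, 23]),
  ([3, 117, 118, 119, 120], 2, [2, 42, 58, 8, 26]),
  ([3, 141, 142, 143], 8, [8, 58, 42, 26]),
  ([3, 152, 153], 16, [16, 32, 48])]
def L0 : List ℕ := [0, 0, 4, 3, 30, 16]
def L1 : List ℕ := [0, 0, 0, 11, 46, 0]
def rels0 : List (List (Fin 2)) := [[0, 0, 0, 0, 0]]
def rels : List (List (Fin 2)) := [[0, 0, 0, 0, 0], [1, 1], [0, 1, 0, 0, 1, 0, 1, 0, 0, 1, 0, 1, 0, 0, 1, 0, 1, 0, 0, 1, 0, 1, 0, 0, 1]]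


/-- the numbering of the coordinates. -/
def e : (Fin 2 ⊕ Fin 2) ⊕ Fin 2 ≃ Fin 6 :=
  (Equiv.sumCongr finSumFinEquiv (Equiv.refl (Fin 2))).trans finSumFinEquiv

theorem hcard : Nat.card ↥(Cfsg.isometryGroup (ZMod 2) (Cfsg.quadFormMinus 2 (ZMod 2) 1 1)) ≤
    2 * 25920 := by
  have h := Cfsg.Agent.S0288.result (F := ZMod 2) (q := 2) (by simp) 3 (by norm_num) 1 1
    (by decide)
  have h2 : (3 - 1 : ℕ) = 2 := rfl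
  rw [h2] at h
  rw [h]
  decide

set_option maxRecDepth 100000 in
set_option maxHeartbeats 4000000 in
theorem result (f : ↥(Cfsg.Omega (ZMod 2) (Cfsg.quadFormMinus 2 (ZMod 2) 1 1)) →
      ((Fin 2 ⊕ Fin 2) ⊕ Fin 2 → ZMod 2))
    (hf : ∀ g h : ↥(Cfsg.Omega (ZMod 2) (Cfsg.quadFormMinus 2 (ZMod 2) 1 1)),
      f (g * h) = f g + Matrix.mulVec
        (((g : ↥(Cfsg.isometryGroup (ZMod 2) (Cfsg.quadFormMinus 2 (ZMod 2) 1 1))) :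
          Matrix.GeneralLinearGroup ((Fin 2 ⊕ Fin 2) ⊕ Fin 2) (ZMod 2)) :
            Matrix ((Fin 2 ⊕ Fin 2) ⊕ Fin 2) ((Fin 2 ⊕ Fin 2) ⊕ Fin 2) (ZMod 2)) (f h)) :
    ∃ v : (Fin 2 ⊕ Fin 2) ⊕ Fin 2 → ZMod 2,
      ∀ g : ↥(Cfsg.Omega (ZMod 2) (Cfsg.quadFormMinus 2 (ZMod 2) 1 1)), f g = Matrix.mulVec
        (((g : ↥(Cfsg.isometryGroup (ZMod 2) (Cfsg.quadFormMinus 2 (ZMod 2) 1 1))) :
          Matrix.GeneralLinearGroup ((Fin 2 ⊕ Fin 2) ⊕ Fin 2) (ZMod 2)) :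
            Matrix ((Fin 2 ⊕ Fin 2) ⊕ Fin 2) ((Fin 2 ⊕ Fin 2) ⊕ Fin 2) (ZMod 2)) v - v :=
  main e (Cfsg.quadFormMinus 2 (ZMod 2) 1 1) 25920 hcard A0 A0' B0 B0' A1 A1' B1 B1' S0 S1
    (by decide +kernel) (by decide +kernel) (by decide +kernel) (by decide +kernel)
    (by decide +kernel) (by decide +kernel) (by decide +kernel) (by decide +kernel)
    (by decide +kernel) (by decide +kernel) (by decide +kernel)
    C St (by decide +kernel) levels (by decide +kernel) (by decide +kernel)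
    L0 L1 rels0 rels (by decide +kernel) (by decide +kernel) (by decide +kernel) f hf

end Cfsg.Agent.Helper4.H1M2
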