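import Cfsg.Agent.Helper4.HDPolyE

set_option autoImplicit false

/-!
# Elements `x ≠ 1` of `GF(p^q)` with `N(x) = N(2 - x) = 1`
-/

namespace Cfsg.Agent.Helper4.HDPoly

open Polynomial IntermediateField

theorem norm_eq_coeff_zero_of_natDegree_minpoly {K L : Type*} [Field K] [Field L] [Algebra K L]
    [FiniteDimensional K L] [Normal K L] (x : L)
    (hd : (minpoly K x).natDegree = Module.finrank K L) :
    Algebra.norm K x = (-1) ^ (Module.finrank K L) * (minpoly K x).coeff 0 := by
  have hint : IsIntegral K x := Algebra.IsIntegral.isIntegral x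
  have hsplit := Normal.splits (inferInstance : Normal K L) x
  have h1 := Algebra.norm_eq_prod_roots (K := K) L hsplit
  have hfr : Module.finrank K⟮x⟯ L = 1 := by
    have h2 := IntermediateField.adjoin.finrank hint
    have h3 := Module.finrank_mul_finrank K K⟮x⟯ L
    rw [h2, hd] at h3
    have hpos : 0 < Module.finrank K L := Module.finrank_pos
    exact Nat.eq_of_mul_eq_mul_left hpos (by rw [h3, mul_one])
  rw [hfr, pow_one] at h1
  have hm := minpoly.monic hint
  have h4 := hsplit.coeff_zero_eq_prod_roots_of_monic (hm.map _)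
  rw [coeff_map, hm.natDegree_map, hd] at h4
  apply (algebraMap K L).injective
  rw [h1, map_mul, map_pow, map_neg, map_one, h4, ← mul_assoc, ← mul_pow]
  simp [aroots]

theorem exists_root_galoisField (p q : ℕ) [Fact p.Prime] (h : (ZMod p)[X])
    (hm : h.Monic) (hi : Irreducible h) (hd : h.natDegree = q) :
    ∃ x : GaloisField p q, aeval x h = 0 := by
  haveI : Fact (Irreducible h) := ⟨hi⟩
  have hne : h ≠ 0 := hm.ne_zero
  let pb := AdjoinRoot.powerBasis hne
  haveI hfin : Module.Finite (ZMod p) (AdjoinRoot h) := pb.finite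
  have hfr : Module.finrank (ZMod p) (AdjoinRoot h) = q := by
    rw [pb.finrank, AdjoinRoot.powerBasis_dim, hd]
  have hcard : Nat.card (AdjoinRoot h) = p ^ q := by
    rw [Module.natCard_eq_pow_finrank (K := ZMod p), hfr, Nat.card_zmod]
  let e := GaloisField.algEquivGaloisField p q hcard
  refine ⟨e (AdjoinRoot.root h), ?_⟩
  have : aeval ((e : AdjoinRoot h →ₐ[ZMod p] GaloisField p q) (AdjoinRoot.root h)) h =
      (e : AdjoinRoot h →ₐ[ZMod p] GaloisField p q) (aeval (AdjoinRoot.root h) h) :=
    aeval_algHom_apply _ _ _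
  rw [AdjoinRoot.aeval_eq, AdjoinRoot.mk_self, map_zero] at this
  exact this

theorem exists_norm_one_pair (p q : ℕ) [Fact p.Prime] [Fact q.Prime] (hp : p ≠ 2) (hq : q ≠ 2) :
    ∃ x : GaloisField p q, x ≠ 1 ∧ Algebra.norm (ZMod p) x = 1 ∧
      Algebra.norm (ZMod p) (2 - x) = 1 := by
  have hp' : p.Prime := Fact.out
  have hq' : q.Prime := Fact.out
  have hodd : Odd q := hq'.odd_of_ne_two hq
  have h02 : (0 : ZMod p) ≠ 2 := by
    intro h
    have h2 : ((2 : ℕ) : ZMod p) = 0 := by exact_mod_cast h.symm
    rw [ZMod.natCast_eq_zero_iff] at h2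
    exact hp ((Nat.prime_dvd_prime_iff_eq hp' Nat.prime_two).1 h2)
  obtain ⟨h, hm, hi, hd, h0, h2⟩ :=
    exists_irreducible_eval (0 : ZMod p) 2 h02 q hq' hq ((-1 : (ZMod p)ˣ), (1 : (ZMod p)ˣ))
  simp only [Units.val_neg, Units.val_one] at h0 h2
  obtain ⟨x, hx⟩ := exists_root_galoisField p q h hm hi hd
  have hfr : Module.finrank (ZMod p) (GaloisField p q) = q := GaloisField.finrank p hq'.ne_zero
  have hmin : minpoly (ZMod p) x = h := (minpoly.eq_of_irreducible_of_monic hi hx hm).symm
  have hsign : ((-1 : ZMod p)) ^ q = -1 := hodd.neg_one_pow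
  refine ⟨x, ?_, ?_, ?_⟩
  · rintro rfl
    have h1 : (aeval (1 : GaloisField p q)) h = algebraMap (ZMod p) (GaloisField p q) (h.eval 1) := by
      rw [← map_one (algebraMap (ZMod p) (GaloisField p q)), aeval_algebraMap_apply]
      simp
    rw [h1] at hx
    have h3 : h.eval 1 = 0 := by
      have := (algebraMap (ZMod p) (GaloisField p q)).injective
      exact this (by rw [hx, map_zero])
    have h4 := degree_eq_one_of_irreducible_of_root hi h3
    have h5 : h.natDegree = 1 := natDegree_eq_of_degree_eq_some h4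
    rw [hd] at h5
    exact hq'.one_lt.ne' h5
  · rw [norm_eq_coeff_zero_of_natDegree_minpoly x (by rw [hmin, hd, hfr]), hmin, hfr,
      coeff_zero_eq_eval_zero, h0, hsign]
    ring
  · have hy : (2 : GaloisField p q) - x = -(x - algebraMap (ZMod p) (GaloisField p q) 2) := by
      rw [map_ofNat]; ring
    have hminy : minpoly (ZMod p) (2 - x) = -((h.comp (X + C 2)).comp (-X)) := by
      rw [hy, minpoly.neg, minpoly.sub_algebraMap, hmin]
      have : (h.comp (X + C 2)).natDegree = q := by
        rw [natDegree_comp, natDegree_X_add_C, mul_one, hd]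
      rw [this, hodd.neg_one_pow]
      ring
    have hdy : (minpoly (ZMod p) (2 - x)).natDegree = q := by
      rw [hminy, natDegree_neg, natDegree_comp, natDegree_comp, natDegree_X_add_C, natDegree_neg,
        natDegree_X, mul_one, mul_one, hd]
    rw [norm_eq_coeff_zero_of_natDegree_minpoly (2 - x) (by rw [hdy, hfr]), hfr, hminy,
      coeff_zero_eq_eval_zero, hsign]
    simp only [eval_neg, eval_comp, eval_X, eval_add, eval_C, neg_zero, zero_add, h2]
    ring

end Cfsg.Agent.Helper4.HDPoly
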