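import Mathlib

set_option autoImplicit false

/-!
# Counting monic polynomials over a finite field with a multiplicative weight

The "von Mangoldt" identity `N * M_N = ∑_{k=1}^N L_k * M_{N-k}` for a completely multiplicative
weight `w : K[X] →* R`, where `M_N = ∑_{g monic, deg g = N} w g` and
`L_k = ∑_{h irreducible monic, j ≥ 1, j * deg h = k} deg h * w h ^ j`.
-/

namespace Cfsg.Agent.Helper4.HDPoly

open Polynomial UniqueFactorizationMonoid

noncomputable section

section General

variable {K : Type*} [Field K] [DecidableEq K]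

theorem pow_dvd_iff_le_count {g h : K[X]} (hg : g ≠ 0) (hh : Irreducible h) (hm : h.Monic)
    (j : ℕ) [DecidableEq K[X]] :
    h ^ j ∣ g ↔ j ≤ (normalizedFactors g).count h := by
  rw [dvd_iff_normalizedFactors_le_normalizedFactors (pow_ne_zero _ hh.ne_zero) hg,
    normalizedFactors_pow, normalizedFactors_irreducible hh, hm.normalize_eq_self,
    Multiset.nsmul_singleton, ← Multiset.le_count_iff_replicate_le]

theorem prod_normalizedFactors_monic {g : K[X]} (hg : g.Monic) :
    (normalizedFactors g).prod = g := by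
  have h1 := prod_normalizedFactors hg.ne_zero
  have h2 : (normalizedFactors g).prod.Monic := by
    have hh' : ∀ h ∈ normalizedFactors g, (id h : K[X]).Monic := by
      intro h hh
      have := normalize_normalized_factor h hh
      rw [id, ← this]
      exact monic_normalize (irreducible_of_normalized_factor h hh).ne_zero
    have := monic_multiset_prod_of_monic _ _ hh'
    simpa using this
  exact eq_of_monic_of_associated h2 hg h1

theorem natDegree_eq_sum_factors {g : K[X]} (hg : g.Monic) :
    g.natDegree = ((normalizedFactors g).map natDegree).sum := by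
  conv_lhs => rw [← prod_normalizedFactors_monic hg]
  rw [natDegree_multiset_prod]
  intro h0
  exact (irreducible_of_normalized_factor _ h0).ne_zero rfl

open Classical in
theorem natDegree_eq_sum_pow_dvd {g : K[X]} (hg : g.Monic) (N : ℕ) (hN : g.natDegree ≤ N)
    (I : Finset K[X])
    (hI : ∀ h : K[X], h.Monic → Irreducible h → h ∣ g → h ∈ I)
    (hI' : ∀ h ∈ I, h.Monic ∧ Irreducible h) :
    g.natDegree = ∑ h ∈ I, ∑ j ∈ Finset.Icc 1 N, if h ^ j ∣ g then h.natDegree else 0 := by
  set nf := normalizedFactors g with hnf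
  have hcount : ∀ h ∈ I, ∑ j ∈ Finset.Icc 1 N, (if h ^ j ∣ g then h.natDegree else 0) =
      nf.count h * h.natDegree := by
    intro h hh
    obtain ⟨hm, hirr⟩ := hI' h hh
    have hc : nf.count h ≤ N := by
      have h1 : h ^ (nf.count h) ∣ g := (pow_dvd_iff_le_count hg.ne_zero hirr hm _).2 le_rfl
      have h2 := natDegree_le_of_dvd h1 hg.ne_zero
      rw [natDegree_pow] at h2
      have h3 : 1 ≤ h.natDegree := hirr.natDegree_pos
      nlinarith
    simp only [pow_dvd_iff_le_count hg.ne_zero hirr hm]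
    rw [← Finset.sum_filter, Finset.sum_const, smul_eq_mul]
    congr 1
    have : (Finset.Icc 1 N).filter (fun j => j ≤ nf.count h) = Finset.Icc 1 (nf.count h) := by
      ext j; simp only [Finset.mem_filter, Finset.mem_Icc]; omega
    rw [this, Nat.card_Icc]; omega
  rw [Finset.sum_congr rfl hcount, natDegree_eq_sum_factors hg, Finset.sum_multiset_map_count]
  simp only [smul_eq_mul]
  refine Finset.sum_subset ?_ ?_
  · intro m hm
    rw [Multiset.mem_toFinset] at hm
    have h1 := irreducible_of_normalized_factor m hm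
    have h2 : m.Monic := by
      rw [← normalize_normalized_factor m hm]
      exact monic_normalize h1.ne_zero
    exact hI m h2 h1 (dvd_of_mem_normalizedFactors hm)
  · intro h _ hh
    rw [Multiset.mem_toFinset] at hh
    rw [Multiset.count_eq_zero_of_notMem hh, zero_mul]

end General

section FiniteField

variable {K : Type*} [Field K] [DecidableEq K] [Fintype K]
variable {R : Type*} [CommRing R]

theorem monSet_finite (N : ℕ) : {g : K[X] | g.Monic ∧ g.natDegree = N}.Finite := by
  have : Finite {g : K[X] // g.Monic ∧ g.natDegree = N} :=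
    Finite.of_equiv _ ((monicEquivDegreeLT N).trans (degreeLTEquiv K N).toEquiv).symm
  exact Set.finite_coe_iff.1 this

/-- The finite set of monic polynomials of degree `N`. -/
def MonF (N : ℕ) : Finset K[X] := (monSet_finite (K := K) N).toFinset

theorem mem_MonF {N : ℕ} {g : K[X]} : g ∈ MonF N ↔ g.Monic ∧ g.natDegree = N := by
  simp [MonF]

theorem card_MonF (N : ℕ) : (MonF (K := K) N).card = Fintype.card K ^ N := by
  have e := ((monicEquivDegreeLT (R := K) N).trans (degreeLTEquiv K N).toEquiv)
  rw [MonF, ← Set.ncard_eq_toFinset_card _ (monSet_finite N), ← Nat.card_coe_set_eq]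
  change Nat.card {g : K[X] // g.Monic ∧ g.natDegree = N} = _
  rw [Nat.card_congr e, Nat.card_eq_fintype_card, Fintype.card_fun, Fintype.card_fin]

open Classical in
/-- The finite set of monic irreducible polynomials of degree at most `B`. -/
def IrrF (B : ℕ) : Finset K[X] :=
  ((Finset.range (B + 1)).biUnion (fun d => MonF (K := K) d)).filter Irreducible

theorem mem_IrrF {B : ℕ} {h : K[X]} :
    h ∈ IrrF B ↔ h.Monic ∧ Irreducible h ∧ h.natDegree ≤ B := by
  simp only [IrrF, Finset.mem_filter, Finset.mem_biUnion, Finset.mem_range, mem_MonF]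
  constructor
  · rintro ⟨⟨d, hd, hm, rfl⟩, hi⟩
    exact ⟨hm, hi, by omega⟩
  · rintro ⟨hm, hi, hd⟩
    exact ⟨⟨h.natDegree, by omega, hm, rfl⟩, hi⟩

/-- `M_N = ∑_{g monic of degree N} w g`. -/
def Msum (w : K[X] →* R) (N : ℕ) : R := ∑ g ∈ MonF (K := K) N, w g

open Classical in
/-- `L_k = ∑_{(h, j), j * deg h = k} deg h * w h ^ j`, with index sets bounded by `B`. -/
def Lsum (w : K[X] →* R) (B k : ℕ) : R :=
  ∑ h ∈ IrrF (K := K) B, ∑ j ∈ Finset.Icc 1 B,
    if j * h.natDegree = k then (h.natDegree : R) * w h ^ j else 0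

open Classical in
theorem sum_dvd (w : K[X] →* R) {h : K[X]} (hm : h.Monic) (j N : ℕ) :
    ∑ g ∈ MonF (K := K) N, (if h ^ j ∣ g then w g else 0) =
      if j * h.natDegree ≤ N then w h ^ j * Msum w (N - j * h.natDegree) else 0 := by
  have hfm : (h ^ j).Monic := hm.pow j
  have hfd : (h ^ j).natDegree = j * h.natDegree := by rw [hm.natDegree_pow]
  split_ifs with hk
  · rw [← Finset.sum_filter, Msum, Finset.mul_sum, ← map_pow]
    have : (MonF N).filter (fun g => h ^ j ∣ g) =
        (MonF (N - j * h.natDegree)).image (fun g' => h ^ j * g') := by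
      ext g
      simp only [Finset.mem_filter, Finset.mem_image, mem_MonF]
      constructor
      · rintro ⟨⟨hgm, hgd⟩, g', rfl⟩
        have hg'm : g'.Monic := hfm.of_mul_monic_left hgm
        refine ⟨g', ⟨hg'm, ?_⟩, rfl⟩
        rw [hfm.natDegree_mul hg'm, hfd] at hgd
        omega
      · rintro ⟨g', ⟨hg'm, hg'd⟩, rfl⟩
        refine ⟨⟨hfm.mul hg'm, ?_⟩, dvd_mul_right _ _⟩
        rw [hfm.natDegree_mul hg'm, hfd, hg'd]; omega
    rw [this, Finset.sum_image]
    · simp only [map_mul]
    · intro a _ b _ hab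
      exact mul_left_cancel₀ hfm.ne_zero hab
  · apply Finset.sum_eq_zero
    intro g hg
    rw [if_neg]
    intro hdvd
    rw [mem_MonF] at hg
    have := natDegree_le_of_dvd hdvd hg.1.ne_zero
    rw [hfd, hg.2] at this
    exact hk this

open Classical in
theorem main_identity (w : K[X] →* R) (N : ℕ) :
    (N : R) * Msum w N = ∑ k ∈ Finset.Icc 1 N, Lsum w N k * Msum w (N - k) := by
  have h1 : ∀ g ∈ MonF (K := K) N, (N : R) * w g =
      ∑ h ∈ IrrF (K := K) N, ∑ j ∈ Finset.Icc 1 N,
        (h.natDegree : R) * (if h ^ j ∣ g then w g else 0) := by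
    intro g hg
    rw [mem_MonF] at hg
    have := natDegree_eq_sum_pow_dvd hg.1 N hg.2.le (IrrF N)
      (fun h hm hi hd => mem_IrrF.2 ⟨hm, hi, by
        have := natDegree_le_of_dvd hd hg.1.ne_zero; omega⟩)
      (fun h hh => ⟨(mem_IrrF.1 hh).1, (mem_IrrF.1 hh).2.1⟩)
    rw [hg.2] at this
    have h2 : (N : R) = ((∑ h ∈ IrrF (K := K) N, ∑ j ∈ Finset.Icc 1 N,
        if h ^ j ∣ g then h.natDegree else 0 : ℕ) : R) := by rw [← this]
    rw [h2]
    push_cast
    rw [Finset.sum_mul]
    refine Finset.sum_congr rfl fun h _ => ?_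
    rw [Finset.sum_mul]
    refine Finset.sum_congr rfl fun j _ => ?_
    split_ifs <;> simp
  rw [Msum, Finset.mul_sum, Finset.sum_congr rfl h1, Finset.sum_comm]
  -- right-hand side
  have h3 : ∑ k ∈ Finset.Icc 1 N, Lsum w N k * Msum w (N - k) =
      ∑ h ∈ IrrF (K := K) N, ∑ j ∈ Finset.Icc 1 N,
        if j * h.natDegree ≤ N then
          (h.natDegree : R) * w h ^ j * Msum w (N - j * h.natDegree) else 0 := by
    simp only [Lsum, Finset.sum_mul]
    rw [Finset.sum_comm]
    refine Finset.sum_congr rfl fun h hh => ?_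
    rw [Finset.sum_comm]
    refine Finset.sum_congr rfl fun j hj => ?_
    have hd : 1 ≤ h.natDegree := (mem_IrrF.1 hh).2.1.natDegree_pos
    have hj1 : 1 ≤ j := (Finset.mem_Icc.1 hj).1
    simp only [ite_mul, zero_mul]
    rw [Finset.sum_ite_eq]
    have h4 : 1 ≤ j * h.natDegree := Nat.mul_pos hj1 hd
    by_cases h5 : j * h.natDegree ≤ N
    · rw [if_pos (Finset.mem_Icc.2 ⟨h4, h5⟩), if_pos h5]
    · rw [if_neg (fun hc => h5 (Finset.mem_Icc.1 hc).2), if_neg h5]
  rw [h3]
  refine Finset.sum_congr rfl fun h hh => ?_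
  rw [Finset.sum_comm]
  refine Finset.sum_congr rfl fun j hj => ?_
  rw [← Finset.mul_sum, sum_dvd w (mem_IrrF.1 hh).1 j N]
  split_ifs
  · ring
  · simp

open Classical in
theorem Lsum_eq_of_le (w : K[X] →* R) {k B : ℕ} (hkB : k ≤ B) :
    Lsum w B k = Lsum (K := K) w k k := by
  unfold Lsum
  have hsub : IrrF (K := K) k ⊆ IrrF B := by
    intro h hh
    rw [mem_IrrF] at hh ⊢
    exact ⟨hh.1, hh.2.1, hh.2.2.trans hkB⟩
  rw [← Finset.sum_subset hsub]
  · refine Finset.sum_congr rfl fun h hh => ?_
    have hd : 1 ≤ h.natDegree := (mem_IrrF.1 hh).2.1.natDegree_pos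
    have hsub2 : Finset.Icc 1 k ⊆ Finset.Icc 1 B := Finset.Icc_subset_Icc le_rfl hkB
    rw [← Finset.sum_subset hsub2]
    intro j hj hj'
    rw [if_neg]
    intro hjk
    apply hj'
    rw [Finset.mem_Icc] at hj ⊢
    refine ⟨hj.1, ?_⟩
    calc j = j * 1 := (mul_one j).symm
      _ ≤ j * h.natDegree := Nat.mul_le_mul_left j hd
      _ = k := hjk
  · intro h hh hh'
    apply Finset.sum_eq_zero
    intro j hj
    rw [if_neg]
    intro hjk
    apply hh'
    rw [mem_IrrF] at hh ⊢
    refine ⟨hh.1, hh.2.1, ?_⟩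
    have hj1 : 1 ≤ j := (Finset.mem_Icc.1 hj).1
    calc h.natDegree = 1 * h.natDegree := (one_mul _).symm
      _ ≤ j * h.natDegree := Nat.mul_le_mul_right _ hj1
      _ = k := hjk

/-- The Newton-type recursion with `L k := Lsum w k k`. -/
theorem main_identity' (w : K[X] →* R) (N : ℕ) :
    (N : R) * Msum w N = ∑ k ∈ Finset.Icc 1 N, Lsum (K := K) w k k * Msum w (N - k) := by
  rw [main_identity]
  refine Finset.sum_congr rfl fun k hk => ?_
  rw [Lsum_eq_of_le w (Finset.mem_Icc.1 hk).2]

end FiniteField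

end

end Cfsg.Agent.Helper4.HDPoly
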