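import Cfsg.Agent.Helper4.HDPolyA

set_option autoImplicit false

/-!
# Solving the Newton recursion

* `newton`: if `M N ∈ ℤ σ` for `N ≥ 2` and `ℤ σ` is an ideal, then `L N ≡ (-1)^(N+1) (M 1)^N` mod `ℤ σ`.
* `Lsum_one`: for the trivial weight, `L_N = (#K)^N` (the necklace identity `∑_{d ∣ N} d I_d = p^N`).
-/

namespace Cfsg.Agent.Helper4.HDPoly

open Polynomial

theorem newton {R : Type*} [CommRing R] (M L : ℕ → R) (σ : R) (ε : R → ℤ) (c : ℕ → ℤ)
    (hM0 : M 0 = 1)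
    (hrec : ∀ N : ℕ, 1 ≤ N → (N : R) * M N = ∑ k ∈ Finset.Icc 1 N, L k * M (N - k))
    (hMσ : ∀ N : ℕ, 2 ≤ N → M N = c N • σ)
    (hσ : ∀ r : R, r * σ = ε r • σ) :
    ∀ N : ℕ, 1 ≤ N → L N - (-1) ^ (N + 1) * (M 1) ^ N ∈ AddSubgroup.zmultiples σ := by
  have hZmul : ∀ x z : R, z ∈ AddSubgroup.zmultiples σ → x * z ∈ AddSubgroup.zmultiples σ := by
    intro x z hz
    obtain ⟨κ, rfl⟩ := AddSubgroup.mem_zmultiples_iff.1 hz
    rw [mul_smul_comm, hσ, smul_smul]
    exact AddSubgroup.mem_zmultiples_iff.2 ⟨_, rfl⟩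
  have hMZ : ∀ N : ℕ, 2 ≤ N → M N ∈ AddSubgroup.zmultiples σ := by
    intro N hN
    rw [hMσ N hN]
    exact AddSubgroup.mem_zmultiples_iff.2 ⟨_, rfl⟩
  intro N
  induction N using Nat.strong_induction_on with
  | _ N ih =>
    intro hN
    rcases Nat.lt_or_ge N 2 with h2 | h2
    · have : N = 1 := by omega
      subst this
      have h := hrec 1 le_rfl
      simp [hM0] at h
      rw [← h]
      simp
    · obtain ⟨n, rfl⟩ : ∃ n, N = n + 2 := ⟨N - 2, by omega⟩
      have h := hrec (n + 2) (by omega)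
      rw [Finset.sum_Icc_succ_top (by omega), Finset.sum_Icc_succ_top (by omega)] at h
      have e1 : n + 1 + 1 - (n + 1) = 1 := by omega
      have e2 : n + 1 + 1 - (n + 1 + 1) = 0 := by omega
      have e3 : n + 2 = n + 1 + 1 := rfl
      rw [e3] at h
      rw [e1, e2, hM0, mul_one] at h
      have hsumZ : ∑ k ∈ Finset.Icc 1 n, L k * M (n + 1 + 1 - k) ∈ AddSubgroup.zmultiples σ := by
        refine sum_mem fun k hk => ?_
        rw [Finset.mem_Icc] at hk
        exact hZmul _ _ (hMZ _ (by omega))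
      have hlhsZ : ((n + 1 + 1 : ℕ) : R) * M (n + 1 + 1) ∈ AddSubgroup.zmultiples σ :=
        hZmul _ _ (hMZ _ (by omega))
      have ih1 := ih (n + 1) (by omega) (by omega)
      have hkey : L (n + 1 + 1) - (-1) ^ (n + 1 + 1 + 1) * M 1 ^ (n + 1 + 1) =
          ((n + 1 + 1 : ℕ) : R) * M (n + 1 + 1) - ∑ k ∈ Finset.Icc 1 n, L k * M (n + 1 + 1 - k) -
            M 1 * (L (n + 1) - (-1) ^ (n + 1 + 1) * M 1 ^ (n + 1)) := by
        rw [h]; ring
      change L (n + 1 + 1) - (-1) ^ (n + 1 + 1 + 1) * M 1 ^ (n + 1 + 1) ∈ _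
      rw [hkey]
      exact sub_mem (sub_mem hlhsZ hsumZ) (hZmul _ _ ih1)

section FiniteField

variable {K : Type*} [Field K] [DecidableEq K] [Fintype K]

theorem Msum_one (N : ℕ) : Msum (K := K) (1 : K[X] →* ℤ) N = (Fintype.card K : ℤ) ^ N := by
  rw [Msum]
  simp only [MonoidHom.one_apply, Finset.sum_const, smul_eq_mul, mul_one, nsmul_eq_mul]
  rw [card_MonF]
  push_cast
  rfl

theorem Lsum_one (N : ℕ) (hN : 1 ≤ N) :
    Lsum (K := K) (1 : K[X] →* ℤ) N N = (Fintype.card K : ℤ) ^ N := by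
  induction N using Nat.strong_induction_on with
  | _ N ih =>
    obtain ⟨n, rfl⟩ : ∃ n, N = n + 1 := ⟨N - 1, by omega⟩
    have h := main_identity' (K := K) (1 : K[X] →* ℤ) (n + 1)
    rw [Finset.sum_Icc_succ_top (by omega)] at h
    simp only [Msum_one, Nat.sub_self, pow_zero, mul_one] at h
    have hs : ∑ k ∈ Finset.Icc 1 n, Lsum (K := K) (1 : K[X] →* ℤ) k k *
        (Fintype.card K : ℤ) ^ (n + 1 - k) = n * (Fintype.card K : ℤ) ^ (n + 1) := by
      have : ∀ k ∈ Finset.Icc 1 n, Lsum (K := K) (1 : K[X] →* ℤ) k k *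
          (Fintype.card K : ℤ) ^ (n + 1 - k) = (Fintype.card K : ℤ) ^ (n + 1) := by
        intro k hk
        rw [Finset.mem_Icc] at hk
        rw [ih k (by omega) hk.1, ← pow_add]
        congr 1
        omega
      rw [Finset.sum_congr rfl this]
      simp
    rw [hs] at h
    push_cast at h
    linarith

end FiniteField

end Cfsg.Agent.Helper4.HDPoly
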