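import Cfsg.Agent.Helper4.HDPolyB

set_option autoImplicit false

/-!
# The class weight modulo `(X - a)(X - b)`

For two distinct points `a b : K` the weight of a polynomial `g` is the basis element of the
group ring `ℤ[Kˣ × Kˣ]` at `(g(a), g(b))` (or `0` if one of these values vanishes).
-/

namespace Cfsg.Agent.Helper4.HDPoly

open Polynomial

noncomputable section

section Classes

variable {K : Type*} [Field K] [DecidableEq K] [Fintype K]
variable (a b : K)

/-- `g` does not vanish at `a` and `b`. -/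
def good (g : K[X]) : Prop := g.eval a ≠ 0 ∧ g.eval b ≠ 0

theorem good_one : good a b (1 : K[X]) := by simp [good]

theorem good_mul (f g : K[X]) : good a b (f * g) ↔ good a b f ∧ good a b g := by
  simp only [good, eval_mul, mul_ne_zero_iff]; tauto

open Classical in
/-- The class `(g(a), g(b))` of a good polynomial. -/
def cls (g : K[X]) : Kˣ × Kˣ :=
  if h : good a b g then (Units.mk0 _ h.1, Units.mk0 _ h.2) else 1

theorem cls_fst {g : K[X]} (h : good a b g) : ((cls a b g).1 : K) = g.eval a := by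
  simp [cls, h]

theorem cls_snd {g : K[X]} (h : good a b g) : ((cls a b g).2 : K) = g.eval b := by
  simp [cls, h]

theorem cls_eq_iff {g : K[X]} (h : good a b g) (γ : Kˣ × Kˣ) :
    cls a b g = γ ↔ (g.eval a = (γ.1 : K) ∧ g.eval b = (γ.2 : K)) := by
  rw [Prod.ext_iff, Units.ext_iff, Units.ext_iff, cls_fst a b h, cls_snd a b h]

theorem cls_mul {f g : K[X]} (hf : good a b f) (hg : good a b g) :
    cls a b (f * g) = cls a b f * cls a b g := by
  have hfg := (good_mul a b f g).2 ⟨hf, hg⟩
  rw [cls_eq_iff a b hfg]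
  simp only [Prod.fst_mul, Prod.snd_mul, Units.val_mul, cls_fst a b hf, cls_fst a b hg,
    cls_snd a b hf, cls_snd a b hg, eval_mul, and_self]

theorem cls_one : cls a b (1 : K[X]) = 1 := by
  rw [cls_eq_iff a b (good_one a b)]
  simp

open Classical in
/-- The class weight, a monoid homomorphism into the group ring. -/
def wt : K[X] →* MonoidAlgebra ℤ (Kˣ × Kˣ) where
  toFun g := if good a b g then MonoidAlgebra.single (cls a b g) 1 else 0
  map_one' := by
    rw [if_pos (good_one a b), cls_one]
    rfl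
  map_mul' f g := by
    by_cases hf : good a b f
    · by_cases hg : good a b g
      · rw [if_pos hf, if_pos hg, if_pos ((good_mul a b f g).2 ⟨hf, hg⟩), cls_mul a b hf hg,
          MonoidAlgebra.single_mul_single, mul_one]
      · rw [if_neg hg, if_neg (fun h => hg ((good_mul a b f g).1 h).2), mul_zero]
    · rw [if_neg hf, if_neg (fun h => hf ((good_mul a b f g).1 h).1), zero_mul]

open Classical in
theorem wt_apply (g : K[X]) :
    wt a b g = if good a b g then MonoidAlgebra.single (cls a b g) 1 else 0 := rfl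

theorem wt_coeff (g : K[X]) (γ : Kˣ × Kˣ) :
    (wt a b g).coeff γ = if g.eval a = (γ.1 : K) ∧ g.eval b = (γ.2 : K) then 1 else 0 := by
  classical
  rw [wt_apply]
  by_cases hg : good a b g
  · rw [if_pos hg, MonoidAlgebra.coeff_single, Finsupp.single_apply]
    simp only [cls_eq_iff a b hg γ]
  · rw [if_neg hg, if_neg]
    · simp
    · rintro ⟨h1, h2⟩
      exact hg ⟨by rw [h1]; exact γ.1.ne_zero, by rw [h2]; exact γ.2.ne_zero⟩

/-- The sum of all group elements. -/
def sig (K : Type*) [Field K] [DecidableEq K] [Fintype K] : MonoidAlgebra ℤ (Kˣ × Kˣ) :=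
  ∑ γ : Kˣ × Kˣ, MonoidAlgebra.single γ 1

/-- The augmentation map. -/
def aug (K : Type*) [Field K] [DecidableEq K] [Fintype K] : MonoidAlgebra ℤ (Kˣ × Kˣ) →+* ℤ :=
  (MonoidAlgebra.lift ℤ ℤ (Kˣ × Kˣ) (1 : (Kˣ × Kˣ) →* ℤ)).toRingHom

theorem aug_single (γ : Kˣ × Kˣ) (c : ℤ) : aug K (MonoidAlgebra.single γ c) = c := by
  change MonoidAlgebra.lift ℤ ℤ (Kˣ × Kˣ) (1 : (Kˣ × Kˣ) →* ℤ) (MonoidAlgebra.single γ c) = c
  rw [MonoidAlgebra.lift_single]
  simp

theorem sig_coeff (γ : Kˣ × Kˣ) : (sig K).coeff γ = 1 := by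
  classical
  rw [sig, MonoidAlgebra.coeff_sum, Finsupp.finset_sum_apply]
  simp only [MonoidAlgebra.coeff_single, Finsupp.single_apply]
  simp

theorem aug_sig : aug K (sig K) = (Fintype.card (Kˣ × Kˣ) : ℤ) := by
  rw [sig, map_sum]
  simp only [aug_single]
  simp

theorem mul_sig (r : MonoidAlgebra ℤ (Kˣ × Kˣ)) : r * sig K = aug K r • sig K := by
  induction r using MonoidAlgebra.induction_linear with
  | zero => simp
  | add x y hx hy => rw [add_mul, hx, hy, map_add, add_smul]
  | single γ c =>
    rw [aug_single, sig, Finset.mul_sum, Finset.smul_sum]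
    simp only [MonoidAlgebra.single_mul_single, mul_one]
    rw [← Equiv.sum_comp (Equiv.mulLeft γ) (fun δ => c • MonoidAlgebra.single δ (1 : ℤ))]
    refine Finset.sum_congr rfl fun δ _ => ?_
    rw [MonoidAlgebra.smul_single]
    simp

theorem eq_smul_sig_of_coeff_const (x : MonoidAlgebra ℤ (Kˣ × Kˣ)) (c : ℤ)
    (h : ∀ γ, x.coeff γ = c) : x = c • sig K := by
  apply MonoidAlgebra.coeff_injective
  ext γ
  rw [h γ, MonoidAlgebra.coeff_smul, Finsupp.smul_apply, sig_coeff]
  simp

end Classes

end

end Cfsg.Agent.Helper4.HDPoly
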