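import Cfsg.Agent.Helper4.HDPolyC

set_option autoImplicit false

/-!
# The class sums `M_N` and the Newton recursion for the class weight
-/

namespace Cfsg.Agent.Helper4.HDPoly

open Polynomial

noncomputable section

section Classes

variable {K : Type*} [Field K] [DecidableEq K] [Fintype K]
variable (a b : K)

theorem MonF_zero : MonF (K := K) 0 = {1} := by
  ext g
  rw [mem_MonF, Finset.mem_singleton]
  constructor
  · rintro ⟨hm, hd⟩
    exact hm.natDegree_eq_zero.1 hd
  · rintro rfl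
    exact ⟨monic_one, natDegree_one⟩

theorem Msum_wt_zero : Msum (wt a b) 0 = 1 := by
  rw [Msum, MonF_zero, Finset.sum_singleton, map_one]

open Classical in
theorem Msum_wt_coeff (N : ℕ) (γ : Kˣ × Kˣ) :
    (Msum (wt a b) N).coeff γ =
      (((MonF (K := K) N).filter
        (fun g => g.eval a = (γ.1 : K) ∧ g.eval b = (γ.2 : K))).card : ℤ) := by
  rw [Msum, MonoidAlgebra.coeff_sum, Finsupp.finset_sum_apply]
  simp only [wt_coeff]
  rw [Finset.sum_boole]

open Classical in
theorem card_filter_eval_eq (hab : a ≠ b) (N : ℕ) (hN : 2 ≤ N) (u v u' v' : K) :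
    ((MonF (K := K) N).filter (fun g => g.eval a = u ∧ g.eval b = v)).card =
    ((MonF (K := K) N).filter (fun g => g.eval a = u' ∧ g.eval b = v')).card := by
  have hba : b - a ≠ 0 := sub_ne_zero.2 hab.symm
  set c₁ : K := ((v' - v) - (u' - u)) / (b - a) with hc₁
  set c₀ : K := (u' - u) - c₁ * a with hc₀
  set r : K[X] := C c₁ * X + C c₀ with hr
  have hra : r.eval a = u' - u := by
    simp only [hr, eval_add, eval_mul, eval_C, eval_X, hc₀]; ring
  have hrb : r.eval b = v' - v := by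
    simp only [hr, eval_add, eval_mul, eval_C, eval_X, hc₀]
    have : c₁ * (b - a) = (v' - v) - (u' - u) := by rw [hc₁]; field_simp
    linear_combination this
  have hrd : r.degree < 2 := lt_of_le_of_lt degree_linear_le (by norm_num)
  have hrd' : (-r).degree < 2 := by rwa [degree_neg]
  have hadd : ∀ (s : K[X]) (g : K[X]), s.degree < 2 → g ∈ MonF N → g + s ∈ MonF N := by
    intro s g hs hg
    rw [mem_MonF] at hg ⊢
    have hlt : s.degree < g.degree := by
      rw [degree_eq_natDegree hg.1.ne_zero, hg.2]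
      exact hs.trans_le (by exact_mod_cast hN)
    refine ⟨hg.1.add_of_left hlt, ?_⟩
    rw [natDegree_add_eq_left_of_degree_lt hlt, hg.2]
  refine Finset.card_bij' (fun g _ => g + r) (fun g _ => g + -r) ?_ ?_ ?_ ?_
  · intro g hg
    rw [Finset.mem_filter] at hg ⊢
    refine ⟨hadd r g hrd hg.1, ?_, ?_⟩
    · rw [eval_add, hg.2.1, hra]; ring
    · rw [eval_add, hg.2.2, hrb]; ring
  · intro g hg
    rw [Finset.mem_filter] at hg ⊢
    refine ⟨hadd (-r) g hrd' hg.1, ?_, ?_⟩
    · rw [eval_add, eval_neg, hg.2.1, hra]; ring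
    · rw [eval_add, eval_neg, hg.2.2, hrb]; ring
  · intro g _; simp
  · intro g _; simp

theorem Msum_wt_eq_smul_sig (hab : a ≠ b) (N : ℕ) (hN : 2 ≤ N) :
    Msum (wt a b) N = (Msum (wt a b) N).coeff 1 • sig K := by
  classical
  apply eq_smul_sig_of_coeff_const
  intro γ
  rw [Msum_wt_coeff, Msum_wt_coeff]
  congr 1
  exact card_filter_eval_eq a b hab N hN _ _ _ _

/-- The solution of the Newton recursion for the class weight. -/
theorem Lsum_wt_mem (hab : a ≠ b) (N : ℕ) (hN : 1 ≤ N) :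
    Lsum (K := K) (wt a b) N N - (-1) ^ (N + 1) * (Msum (wt a b) 1) ^ N ∈
      AddSubgroup.zmultiples (sig K) :=
  newton (fun N => Msum (wt a b) N) (fun k => Lsum (K := K) (wt a b) k k) (sig K)
    (fun r => aug K r) (fun N => (Msum (wt a b) N).coeff 1) (Msum_wt_zero a b)
    (fun N _ => main_identity' (wt a b) N) (fun N hN => Msum_wt_eq_smul_sig a b hab N hN)
    (fun r => mul_sig r) N hN

/-! ### Nonnegativity of coefficients -/

/-- All coefficients are nonnegative. -/
def NN (x : MonoidAlgebra ℤ (Kˣ × Kˣ)) : Prop := ∀ γ, 0 ≤ x.coeff γ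

omit [Fintype K] in
theorem NN_zero : NN (0 : MonoidAlgebra ℤ (Kˣ × Kˣ)) := fun γ => by simp

omit [Fintype K] in
theorem NN_add {x y : MonoidAlgebra ℤ (Kˣ × Kˣ)} (hx : NN x) (hy : NN y) : NN (x + y) := by
  intro γ
  rw [MonoidAlgebra.coeff_add, Finsupp.add_apply]
  exact add_nonneg (hx γ) (hy γ)

omit [Fintype K] in
theorem NN_single (γ : Kˣ × Kˣ) {c : ℤ} (hc : 0 ≤ c) :
    NN (MonoidAlgebra.single γ c : MonoidAlgebra ℤ (Kˣ × Kˣ)) := by
  classical
  intro δ
  rw [MonoidAlgebra.coeff_single, Finsupp.single_apply]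
  split_ifs <;> simp [hc]

omit [Fintype K] in
theorem NN_sum {ι : Type*} (s : Finset ι) (f : ι → MonoidAlgebra ℤ (Kˣ × Kˣ))
    (hf : ∀ i ∈ s, NN (f i)) : NN (∑ i ∈ s, f i) := by
  intro γ
  rw [MonoidAlgebra.coeff_sum, Finsupp.finset_sum_apply]
  exact Finset.sum_nonneg fun i hi => hf i hi γ

omit [Fintype K] in
theorem NN_mul {x y : MonoidAlgebra ℤ (Kˣ × Kˣ)} (hx : NN x) (hy : NN y) : NN (x * y) := by
  intro γ
  rw [MonoidAlgebra.coeff_mul_apply_left]
  exact Finsupp.sum_nonneg fun δ _ => mul_nonneg (hx δ) (hy _)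

omit [Fintype K] in
theorem NN_one : NN (1 : MonoidAlgebra ℤ (Kˣ × Kˣ)) := by
  rw [MonoidAlgebra.one_def]
  exact NN_single _ zero_le_one

omit [Fintype K] in
theorem NN_pow {x : MonoidAlgebra ℤ (Kˣ × Kˣ)} (hx : NN x) (n : ℕ) : NN (x ^ n) := by
  induction n with
  | zero => rw [pow_zero]; exact NN_one
  | succ n ih => rw [pow_succ]; exact NN_mul ih hx

omit [Fintype K] in
theorem NN_add_pow {x y : MonoidAlgebra ℤ (Kˣ × Kˣ)} (hx : NN x) (hy : NN y) (n : ℕ)
    (hn : 1 ≤ n) : NN ((x + y) ^ n - x ^ n - y ^ n) := by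
  induction n, hn using Nat.le_induction with
  | base =>
    have : (x + y) ^ 1 - x ^ 1 - y ^ 1 = 0 := by ring
    rw [this]; exact NN_zero
  | succ n hn ih =>
    have : (x + y) ^ (n + 1) - x ^ (n + 1) - y ^ (n + 1) =
        (x + y) * ((x + y) ^ n - x ^ n - y ^ n) + (x * y ^ n + y * x ^ n) := by ring
    rw [this]
    exact NN_add (NN_mul (NN_add hx hy) ih)
      (NN_add (NN_mul hx (NN_pow hy n)) (NN_mul hy (NN_pow hx n)))

omit [Fintype K] in
theorem NN_sum_pow {ι : Type*} (s : Finset ι) (f : ι → MonoidAlgebra ℤ (Kˣ × Kˣ))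
    (hf : ∀ i ∈ s, NN (f i)) (n : ℕ) (hn : 1 ≤ n) :
    NN ((∑ i ∈ s, f i) ^ n - ∑ i ∈ s, f i ^ n) := by
  classical
  induction s using Finset.induction_on with
  | empty =>
    simp only [Finset.sum_empty, sub_zero]
    rw [zero_pow (by omega)]
    exact NN_zero
  | insert i s hi ih =>
    rw [Finset.sum_insert hi, Finset.sum_insert hi]
    have h1 : NN (f i) := hf i (Finset.mem_insert_self i s)
    have h2 : ∀ j ∈ s, NN (f j) := fun j hj => hf j (Finset.mem_insert_of_mem hj)
    have : (f i + ∑ j ∈ s, f j) ^ n - (f i ^ n + ∑ j ∈ s, f j ^ n) =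
        ((f i + ∑ j ∈ s, f j) ^ n - f i ^ n - (∑ j ∈ s, f j) ^ n) +
          ((∑ j ∈ s, f j) ^ n - ∑ j ∈ s, f j ^ n) := by ring
    rw [this]
    exact NN_add (NN_add_pow h1 (NN_sum s f h2) n hn) (ih h2)

theorem NN_wt (g : K[X]) : NN (wt a b g) := by
  classical
  rw [wt_apply]
  split_ifs
  · exact NN_single _ zero_le_one
  · exact NN_zero

end Classes

end

end Cfsg.Agent.Helper4.HDPoly
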