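import Cfsg.Agent.Helper4.HDPolyD

set_option autoImplicit false

/-!
# Existence of irreducible polynomials of odd prime degree with prescribed values at two points
-/

namespace Cfsg.Agent.Helper4.HDPoly

open Polynomial

noncomputable section

section Classes

variable {K : Type*} [Field K] [DecidableEq K] [Fintype K]
variable (a b : K)

open Classical in
theorem map_Lsum {R S : Type*} [CommRing R] [CommRing S] (φ : R →+* S) (w : K[X] →* R)
    (B k : ℕ) : φ (Lsum w B k) = Lsum (K := K) ((φ : R →* S).comp w) B k := by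
  simp only [Lsum, map_sum]
  refine Finset.sum_congr rfl fun h _ => Finset.sum_congr rfl fun j _ => ?_
  split_ifs
  · simp [map_mul, map_pow, map_natCast]
  · simp

theorem aug_wt (g : K[X]) [Decidable (good a b g)] :
    aug K (wt a b g) = if good a b g then 1 else 0 := by
  classical
  rw [wt_apply]
  split_ifs
  · rw [aug_single]
  · rw [map_zero]

omit [DecidableEq K] [Fintype K] in
theorem eq_X_sub_C_of_irreducible_of_eval_eq_zero {h : K[X]} (hm : h.Monic) (hi : Irreducible h)
    {c : K} (hc : h.eval c = 0) : h = X - C c := by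
  have hd : (X - C c) ∣ h := dvd_iff_isRoot.2 hc
  have := (irreducible_X_sub_C c).dvd_symm hi hd
  exact eq_of_monic_of_associated hm (monic_X_sub_C c) (associated_of_dvd_dvd this hd)

open Classical in
theorem aug_Lsum_ge (q : ℕ) (hq : 1 ≤ q) :
    (Fintype.card K : ℤ) ^ q - 2 ≤ aug K (Lsum (K := K) (wt a b) q q) := by
  rw [map_Lsum, ← Lsum_one (K := K) q hq]
  set S : Finset K[X] := {X - C a, X - C b} with hS
  have hkey : Lsum (K := K) (1 : K[X] →* ℤ) q q -
      Lsum (K := K) (((aug K : _ →+* ℤ) : _ →* ℤ).comp (wt a b)) q q ≤ 2 := by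
    unfold Lsum
    rw [← Finset.sum_sub_distrib]
    have hF : ∀ h ∈ IrrF (K := K) q,
        (∑ j ∈ Finset.Icc 1 q, (if j * h.natDegree = q then
            ((h.natDegree : ℤ)) * ((1 : K[X] →* ℤ) h) ^ j else 0)) -
          (∑ j ∈ Finset.Icc 1 q, (if j * h.natDegree = q then
            ((h.natDegree : ℤ)) * ((((aug K : _ →+* ℤ) : _ →* ℤ).comp (wt a b)) h) ^ j else 0))
        ≤ if h ∈ S then 1 else 0 := by
      intro h hh
      rw [mem_IrrF] at hh
      rw [← Finset.sum_sub_distrib]
      by_cases hg : good a b h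
      · have : ∀ j ∈ Finset.Icc 1 q, (if j * h.natDegree = q then
            ((h.natDegree : ℤ)) * ((1 : K[X] →* ℤ) h) ^ j else 0) -
            (if j * h.natDegree = q then
            ((h.natDegree : ℤ)) * ((((aug K : _ →+* ℤ) : _ →* ℤ).comp (wt a b)) h) ^ j else 0)
              = 0 := by
          intro j _
          simp only [MonoidHom.one_apply, MonoidHom.coe_comp, Function.comp_apply,
            MonoidHom.coe_coe]
          rw [aug_wt, if_pos hg]
          simp
        rw [Finset.sum_congr rfl this]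
        simp only [Finset.sum_const_zero]
        split_ifs <;> norm_num
      · have hhS : h = X - C a ∨ h = X - C b := by
          by_contra hcon
          push Not at hcon
          apply hg
          constructor
          · intro h0
            exact hcon.1 (eq_X_sub_C_of_irreducible_of_eval_eq_zero hh.1 hh.2.1 h0)
          · intro h0
            exact hcon.2 (eq_X_sub_C_of_irreducible_of_eval_eq_zero hh.1 hh.2.1 h0)
        have hd : h.natDegree = 1 := by
          rcases hhS with rfl | rfl <;> exact natDegree_X_sub_C _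
        have hmem : h ∈ S := by
          rw [hS, Finset.mem_insert, Finset.mem_singleton]; exact hhS
        rw [if_pos hmem]
        have : ∀ j ∈ Finset.Icc 1 q, (if j * h.natDegree = q then
            ((h.natDegree : ℤ)) * ((1 : K[X] →* ℤ) h) ^ j else 0) -
            (if j * h.natDegree = q then
            ((h.natDegree : ℤ)) * ((((aug K : _ →+* ℤ) : _ →* ℤ).comp (wt a b)) h) ^ j else 0)
              = if q = j then 1 else 0 := by
          intro j hj
          have hj1 : j ≠ 0 := by
            have := (Finset.mem_Icc.1 hj).1; omega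
          simp only [MonoidHom.one_apply, MonoidHom.coe_comp, Function.comp_apply,
            MonoidHom.coe_coe]
          rw [aug_wt, if_neg hg, hd, zero_pow hj1]
          by_cases hjq : j = q
          · subst hjq; simp
          · rw [if_neg (by simpa using hjq), if_neg (by simpa using hjq),
              if_neg (fun h => hjq h.symm)]
            simp
        rw [Finset.sum_congr rfl this, Finset.sum_ite_eq]
        split_ifs <;> norm_num
    refine (Finset.sum_le_sum hF).trans ?_
    rw [Finset.sum_boole]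
    have h1 : ((IrrF (K := K) q).filter (fun h => h ∈ S)).card ≤ S.card :=
      Finset.card_le_card (fun x hx => (Finset.mem_filter.1 hx).2)
    have h2 : S.card ≤ 2 := Finset.card_le_two
    exact_mod_cast h1.trans h2
  linarith

open Classical in
theorem aug_Msum_one (hab : a ≠ b) :
    0 ≤ aug K (Msum (wt a b) 1) ∧ aug K (Msum (wt a b) 1) ≤ (Fintype.card K : ℤ) - 2 := by
  have h1 : aug K (Msum (wt a b) 1) =
      (((MonF (K := K) 1).filter (fun g => good a b g)).card : ℤ) := by
    rw [Msum, map_sum]
    simp only [aug_wt]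
    rw [Finset.sum_boole]
  rw [h1]
  refine ⟨by positivity, ?_⟩
  have h2 := Finset.card_filter_add_card_filter_not (s := MonF (K := K) 1)
    (fun g => good a b g)
  rw [card_MonF, pow_one] at h2
  have h3 : 2 ≤ ((MonF (K := K) 1).filter (fun g => ¬ good a b g)).card := by
    have hne : (X - C a : K[X]) ≠ X - C b := by
      intro h
      apply hab
      have := sub_right_injective h
      exact C_injective this
    rw [← Finset.card_pair hne]
    apply Finset.card_le_card
    intro g hg
    rw [Finset.mem_insert, Finset.mem_singleton] at hg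
    rw [Finset.mem_filter, mem_MonF]
    rcases hg with rfl | rfl
    · exact ⟨⟨monic_X_sub_C a, natDegree_X_sub_C a⟩, fun h => h.1 (by simp)⟩
    · exact ⟨⟨monic_X_sub_C b, natDegree_X_sub_C b⟩, fun h => h.2 (by simp)⟩
  have : (((MonF (K := K) 1).filter (fun g => good a b g)).card : ℤ) +
      (((MonF (K := K) 1).filter (fun g => ¬ good a b g)).card : ℤ) = (Fintype.card K : ℤ) := by
    exact_mod_cast h2
  have h3' : (2 : ℤ) ≤ (((MonF (K := K) 1).filter (fun g => ¬ good a b g)).card : ℤ) := by
    exact_mod_cast h3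
  linarith

open Classical in
theorem Lsum_wt_coeff_le (q : ℕ) (hq : q.Prime) (γ : Kˣ × Kˣ)
    (hno : ∀ h : K[X], h.Monic → Irreducible h → h.natDegree = q →
      ¬ (h.eval a = (γ.1 : K) ∧ h.eval b = (γ.2 : K))) :
    (Lsum (K := K) (wt a b) q q).coeff γ ≤ ((Msum (wt a b) 1) ^ q).coeff γ := by
  have hT : ∀ h ∈ IrrF (K := K) q, ∀ j ∈ Finset.Icc 1 q,
      (if j * h.natDegree = q then ((h.natDegree : ℕ) : MonoidAlgebra ℤ (Kˣ × Kˣ)) * wt a b h ^ j
        else 0).coeff γ =
      if q = j then (if h.natDegree = 1 then (wt a b h ^ q).coeff γ else 0) else 0 := by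
    intro h hh j hj
    rw [mem_IrrF] at hh
    rw [Finset.mem_Icc] at hj
    by_cases hc : j * h.natDegree = q
    · rw [if_pos hc]
      have hjd : j ∣ q := ⟨_, hc.symm⟩
      rcases (Nat.dvd_prime hq).1 hjd with hj1 | hjq
      · -- j = 1, deg h = q
        subst hj1
        have hdq : h.natDegree = q := by simpa using hc
        have hq1 : q ≠ 1 := hq.one_lt.ne'
        rw [if_neg hq1, pow_one, ← nsmul_eq_mul, MonoidAlgebra.coeff_smul, Finsupp.smul_apply,
          wt_coeff, if_neg (hno h hh.1 hh.2.1 hdq)]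
        simp
      · subst hjq
        have hd1 : h.natDegree = 1 := by
          have : j * h.natDegree = j * 1 := by rw [hc, mul_one]
          exact Nat.eq_of_mul_eq_mul_left (by omega) this
        rw [if_pos rfl, if_pos hd1, hd1]
        simp
    · rw [if_neg hc]
      simp only [MonoidAlgebra.coeff_zero, Finsupp.zero_apply]
      by_cases hjq : q = j
      · rw [if_pos hjq]
        rw [if_neg]
        intro hd1
        apply hc
        rw [hd1, mul_one, hjq]
      · rw [if_neg hjq]
  have h1 : (Lsum (K := K) (wt a b) q q).coeff γ =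
      ∑ h ∈ IrrF (K := K) q, if h.natDegree = 1 then (wt a b h ^ q).coeff γ else 0 := by
    unfold Lsum
    rw [MonoidAlgebra.coeff_sum, Finsupp.finset_sum_apply]
    refine Finset.sum_congr rfl fun h hh => ?_
    rw [MonoidAlgebra.coeff_sum, Finsupp.finset_sum_apply]
    rw [Finset.sum_congr rfl (hT h hh), Finset.sum_ite_eq, if_pos]
    exact Finset.mem_Icc.2 ⟨hq.one_le, le_rfl⟩
  rw [h1, ← Finset.sum_filter]
  have hsub : (IrrF (K := K) q).filter (fun h => h.natDegree = 1) ⊆ MonF 1 := by
    intro h hh
    rw [Finset.mem_filter, mem_IrrF] at hh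
    exact mem_MonF.2 ⟨hh.1.1, hh.2⟩
  have hnn : ∀ g : K[X], 0 ≤ (wt a b g ^ q).coeff γ := fun g => NN_pow (NN_wt a b g) q γ
  refine (Finset.sum_le_sum_of_subset_of_nonneg hsub (fun g _ _ => hnn g)).trans ?_
  have h2 := NN_sum_pow (MonF (K := K) 1) (fun g => wt a b g) (fun g _ => NN_wt a b g) q
    hq.one_le γ
  rw [MonoidAlgebra.coeff_sub, Finsupp.sub_apply, MonoidAlgebra.coeff_sum,
    Finsupp.finset_sum_apply] at h2
  rw [Msum]
  linarith

/-- **Main existence theorem.** For an odd prime `q`, two distinct points `a b` of a finite field `K`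
and nonzero values `γ`, there is a monic irreducible polynomial of degree `q` taking the values
`γ.1` at `a` and `γ.2` at `b`. -/
theorem exists_irreducible_eval (hab : a ≠ b) (q : ℕ) (hq : q.Prime) (hq2 : q ≠ 2)
    (γ : Kˣ × Kˣ) :
    ∃ h : K[X], h.Monic ∧ Irreducible h ∧ h.natDegree = q ∧
      h.eval a = (γ.1 : K) ∧ h.eval b = (γ.2 : K) := by
  classical
  by_contra hno
  push Not at hno
  have hno' : ∀ h : K[X], h.Monic → Irreducible h → h.natDegree = q →
      ¬ (h.eval a = (γ.1 : K) ∧ h.eval b = (γ.2 : K)) := by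
    intro h hm hi hd hc
    exact hno h hm hi hd hc.1 hc.2
  have hodd : Odd q := hq.odd_of_ne_two hq2
  have hsign : ((-1 : MonoidAlgebra ℤ (Kˣ × Kˣ))) ^ (q + 1) = 1 := by
    exact Even.neg_one_pow (by
      obtain ⟨m, hm⟩ := hodd
      exact ⟨m + 1, by omega⟩)
  obtain ⟨κ, hκ⟩ := AddSubgroup.mem_zmultiples_iff.1 (Lsum_wt_mem a b hab q hq.one_le)
  rw [hsign, one_mul] at hκ
  -- coefficient at γ
  have hc := congrArg (fun x : MonoidAlgebra ℤ (Kˣ × Kˣ) => x.coeff γ) hκ
  simp only [MonoidAlgebra.coeff_smul, Finsupp.smul_apply, sig_coeff, MonoidAlgebra.coeff_sub,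
    Finsupp.sub_apply, smul_eq_mul, mul_one] at hc
  have hκ0 : κ ≤ 0 := by
    have := Lsum_wt_coeff_le a b q hq γ hno'
    linarith
  -- augmentation
  have ha := congrArg (fun x : MonoidAlgebra ℤ (Kˣ × Kˣ) => aug K x) hκ
  simp only [map_zsmul, aug_sig, map_sub, map_pow, smul_eq_mul] at ha
  have hcard : (0 : ℤ) ≤ (Fintype.card (Kˣ × Kˣ) : ℤ) := by positivity
  have h1 : aug K (Lsum (K := K) (wt a b) q q) - aug K (Msum (wt a b) 1) ^ q ≤ 0 := by
    rw [← ha]
    exact mul_nonpos_of_nonpos_of_nonneg hκ0 hcard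
  have h2 := aug_Lsum_ge a b q hq.one_le
  obtain ⟨h3, h4⟩ := aug_Msum_one a b hab
  have h5 : aug K (Msum (wt a b) 1) ^ q ≤ ((Fintype.card K : ℤ) - 2) ^ q :=
    pow_le_pow_left₀ h3 h4 q
  have hp2 : (2 : ℤ) ≤ (Fintype.card K : ℤ) := by linarith
  have h6 : ((Fintype.card K : ℤ) - 2) ^ q + 2 ^ q ≤ (Fintype.card K : ℤ) ^ q := by
    have := pow_add_pow_le (x := (Fintype.card K : ℤ) - 2) (y := 2) (by linarith) (by norm_num)
      hq.ne_zero
    simpa using this
  have h7 : (4 : ℤ) ≤ 2 ^ q := by
    have : (2 : ℤ) ^ 2 ≤ 2 ^ q := pow_le_pow_right₀ (by norm_num) hq.two_le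
    linarith
  linarith

end Classes

end

end Cfsg.Agent.Helper4.HDPoly
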