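import Mathlib

/-!
# Half-transitive automorphism groups (Isaacs–Passman style), part A

Counting lemma and "collapse" lemma.
Setting: `A N : Subgroup G`, `N` normal, `cen A x = A ⊓ centralizer {x}`,
all `cen A x` for `x ∈ N`, `x ≠ 1` of the same cardinality `β`.
-/

set_option autoImplicit false
set_option linter.unusedSectionVars false
set_option linter.style.haveILetI false

namespace Cfsg.Agent.Helper4.HalfT

variable {G : Type*} [Group G]

/-- `cen A x = C_A(x)`. -/
def cen (A : Subgroup G) (x : G) : Subgroup G := A ⊓ Subgroup.centralizer {x}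

theorem mem_cen {A : Subgroup G} {x g : G} : g ∈ cen A x ↔ g ∈ A ∧ g * x = x * g := by
  unfold cen
  rw [Subgroup.mem_inf, Subgroup.mem_centralizer_iff]
  constructor
  · rintro ⟨h1, h2⟩; exact ⟨h1, (h2 x rfl).symm⟩
  · rintro ⟨h1, h2⟩
    refine ⟨h1, fun y hy => ?_⟩
    rw [Set.mem_singleton_iff] at hy; subst hy; exact h2.symm

theorem cen_le (A : Subgroup G) (x : G) : cen A x ≤ A := inf_le_left

/-- conjugation action of a subgroup `H` on an `H`-invariant set. -/
@[reducible] def conjOn (H : Subgroup G) (C : Set G)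
    (hinv : ∀ g ∈ H, ∀ u ∈ C, g * u * g⁻¹ ∈ C) : MulAction H C where
  smul g u := ⟨(g : G) * u * (g : G)⁻¹, hinv g g.2 u u.2⟩
  one_smul u := by
    apply Subtype.ext
    show ((1 : H) : G) * u * ((1 : H) : G)⁻¹ = u
    simp
  mul_smul g h u := by
    apply Subtype.ext
    show ((g * h : H) : G) * u * ((g * h : H) : G)⁻¹ = (g : G) * ((h : G) * u * (h : G)⁻¹) * (g : G)⁻¹
    simp [mul_assoc]

theorem card_dvd_of_invariant [Finite G] {A N : Subgroup G} {β : ℕ}
    (hhalf : ∀ x ∈ N, x ≠ 1 → Nat.card (cen A x) = β)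
    (H : Subgroup G) (hHA : H ≤ A) (C : Set G)
    (hCN : ∀ u ∈ C, u ∈ N ∧ u ≠ 1) (hinv : ∀ g ∈ H, ∀ u ∈ C, g * u * g⁻¹ ∈ C)
    (hcen : ∀ u ∈ C, cen A u ≤ H) : Nat.card H ∣ β * Nat.card C := by
  classical
  letI : MulAction H C := conjOn H C hinv
  haveI : Fintype H := Fintype.ofFinite _
  haveI : Fintype C := Fintype.ofFinite _
  haveI : Fintype (Quotient (MulAction.orbitRel H C)) := Fintype.ofFinite _
  haveI : ∀ b : C, Fintype (MulAction.stabilizer H b) := fun b => Fintype.ofFinite _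
  have key := MulAction.card_eq_sum_card_group_div_card_stabilizer H C
  have hst : ∀ b : C, Fintype.card (MulAction.stabilizer H b) = β := by
    intro b
    rw [← Nat.card_eq_fintype_card, ← hhalf b.1 (hCN b b.2).1 (hCN b b.2).2]
    have hmap : (MulAction.stabilizer H b).map H.subtype = cen A b.1 := by
      ext g
      simp only [Subgroup.mem_map, MulAction.mem_stabilizer_iff, mem_cen]
      constructor
      · rintro ⟨h, hh, rfl⟩
        refine ⟨hHA h.2, ?_⟩
        have h1 : (h : G) * b * (h : G)⁻¹ = b := congrArg Subtype.val hh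
        show (h : G) * b = b * (h : G)
        calc (h : G) * b = ((h : G) * b * (h : G)⁻¹) * h := by group
          _ = b * h := by rw [h1]
      · rintro ⟨hgA, hg⟩
        have hgH : g ∈ H := hcen b b.2 (mem_cen.2 ⟨hgA, hg⟩)
        refine ⟨⟨g, hgH⟩, ?_, rfl⟩
        apply Subtype.ext
        show g * b * g⁻¹ = b
        rw [hg]; group
    rw [← hmap]
    exact (Subgroup.card_map_of_injective H.subtype_injective).symm
  simp only [hst, Finset.sum_const, Finset.card_univ, smul_eq_mul] at key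
  rw [Nat.card_eq_fintype_card, Nat.card_eq_fintype_card]
  by_cases hC : Nonempty C
  · obtain ⟨b⟩ := hC
    have hβ : β ∣ Fintype.card H := by
      rw [← hst b, ← Nat.card_eq_fintype_card, ← Nat.card_eq_fintype_card]
      exact Subgroup.card_subgroup_dvd_card _
    obtain ⟨m, hm⟩ := hβ
    have hβpos : 0 < β := by
      rw [← hst b]; exact Fintype.card_pos
    refine ⟨Fintype.card (Quotient (MulAction.orbitRel H C)), ?_⟩
    rw [key, hm, Nat.mul_div_cancel_left _ hβpos]
    ring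
  · rw [not_nonempty_iff] at hC
    rw [Fintype.card_eq_zero (α := C)]
    simp

theorem card_A_dvd [Finite G] {A N : Subgroup G} {β : ℕ} [hN : N.Normal]
    (hhalf : ∀ x ∈ N, x ≠ 1 → Nat.card (cen A x) = β) :
    Nat.card A ∣ β * (Nat.card N - 1) := by
  have h := card_dvd_of_invariant hhalf A le_rfl ((N : Set G) \ {1})
    (fun u hu => ⟨hu.1, fun h1 => hu.2 (by rw [Set.mem_singleton_iff]; exact h1)⟩)
    (fun g _ u hu => ⟨hN.conj_mem u hu.1 g, fun h1 => hu.2 (by
      rw [Set.mem_singleton_iff] at h1 ⊢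
      have : u = g⁻¹ * (g * u * g⁻¹) * g := by group
      rw [this, h1]; group)⟩)
    (fun u _ => cen_le A u)
  have hc : Nat.card ((N : Set G) \ {1} : Set G) = Nat.card N - 1 := by
    rw [Nat.card_coe_set_eq, Set.ncard_sdiff_singleton_of_mem (show (1 : G) ∈ (N : Set G) from N.one_mem)]
    rw [← Nat.card_coe_set_eq]
    rfl
  rwa [hc] at h

theorem collapse [Finite G] {A N : Subgroup G} {β : ℕ} [hN : N.Normal]
    (hhalf : ∀ x ∈ N, x ≠ 1 → Nat.card (cen A x) = β)
    (H : Subgroup G) (hHA : H ≤ A) (C : Set G)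
    (hCN : ∀ u ∈ C, u ∈ N ∧ u ≠ 1) (hinv : ∀ g ∈ H, ∀ u ∈ C, g * u * g⁻¹ ∈ C)
    (hcen : ∀ u ∈ C, cen A u ≤ H) (hcard : Nat.card C ∣ Nat.card N) :
    ∀ u ∈ C, cen A u = H := by
  intro u hu
  have h1 := card_dvd_of_invariant hhalf H hHA C hCN hinv hcen
  have h2 := card_A_dvd hhalf (A := A) (N := N)
  have hβ : Nat.card (cen A u) = β := hhalf u (hCN u hu).1 (hCN u hu).2
  have hβH : β ∣ Nat.card H := hβ ▸ Subgroup.card_dvd_of_le (hcen u hu)
  obtain ⟨m, hm⟩ := hβH
  have hβpos : 0 < β := hβ ▸ Nat.card_pos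
  have hHA' : Nat.card H ∣ Nat.card A := Subgroup.card_dvd_of_le hHA
  have hm1 : m ∣ Nat.card N := by
    have : β * m ∣ β * Nat.card N := hm ▸ h1.trans (Nat.mul_dvd_mul_left β hcard)
    exact (Nat.mul_dvd_mul_iff_left hβpos).1 this
  have hm2 : m ∣ Nat.card N - 1 := by
    have : β * m ∣ β * (Nat.card N - 1) := hm ▸ hHA'.trans h2
    exact (Nat.mul_dvd_mul_iff_left hβpos).1 this
  have hNpos : 0 < Nat.card N := Nat.card_pos
  have hm3 : m ∣ 1 := by
    have h3 := Nat.dvd_sub hm1 hm2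
    have : Nat.card N - (Nat.card N - 1) = 1 := by omega
    rwa [this] at h3
  have hm4 : m = 1 := Nat.dvd_one.1 hm3
  apply Subgroup.eq_of_le_of_card_ge (hcen u hu)
  rw [hβ, hm, hm4, mul_one]

end Cfsg.Agent.Helper4.HalfT
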