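import Cfsg.Agent.Helper4.HalfTA

/-!
# Half-transitive automorphism groups, part B

`cen A x` is constant on `N`-classes; `N` is abelian.
-/

set_option autoImplicit false
set_option linter.unusedSectionVars false
set_option linter.style.haveILetI false

namespace Cfsg.Agent.Helper4.HalfT

variable {G : Type*} [Group G]

/-- Hypotheses: `A` acts (by conjugation) faithfully and half-transitively but not
semiregularly on the normal subgroup `N`. -/
structure HT (A N : Subgroup G) (β : ℕ) : Prop where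
  normal : N.Normal
  faithful : ∀ g ∈ A, (∀ x ∈ N, g * x = x * g) → g = 1
  half : ∀ x ∈ N, x ≠ 1 → Nat.card (cen A x) = β
  beta : 1 < β

/-- set stabilizer in `A` under conjugation -/
def setStab (A : Subgroup G) (C : Set G) : Subgroup G where
  carrier := {g | g ∈ A ∧ ∀ u, u ∈ C ↔ g * u * g⁻¹ ∈ C}
  one_mem' := ⟨A.one_mem, fun u => by simp⟩
  mul_mem' := by
    rintro g k ⟨hg, hg'⟩ ⟨hk, hk'⟩
    refine ⟨A.mul_mem hg hk, fun u => ?_⟩
    rw [hk' u, hg' (k * u * k⁻¹)]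
    have : g * (k * u * k⁻¹) * g⁻¹ = g * k * u * (g * k)⁻¹ := by group
    rw [this]
  inv_mem' := by
    rintro g ⟨hg, hg'⟩
    refine ⟨A.inv_mem hg, fun u => ?_⟩
    rw [hg' (g⁻¹ * u * g⁻¹⁻¹)]
    have : g * (g⁻¹ * u * g⁻¹⁻¹) * g⁻¹ = u := by group
    rw [this]

theorem setStab_le (A : Subgroup G) (C : Set G) : setStab A C ≤ A := fun _ hg => hg.1

theorem mem_setStab {A : Subgroup G} {C : Set G} {g : G} :
    g ∈ setStab A C ↔ g ∈ A ∧ ∀ u, u ∈ C ↔ g * u * g⁻¹ ∈ C := Iff.rfl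

/-- the `N`-class of `x` -/
def cls (N : Subgroup G) (x : G) : Set G := {u | ∃ m ∈ N, m * x * m⁻¹ = u}

theorem self_mem_cls (N : Subgroup G) (x : G) : x ∈ cls N x := ⟨1, N.one_mem, by simp⟩

theorem cls_eq_of_mem {N : Subgroup G} {x u : G} (hu : u ∈ cls N x) : cls N u = cls N x := by
  obtain ⟨m, hm, rfl⟩ := hu
  ext v
  constructor
  · rintro ⟨k, hk, rfl⟩
    exact ⟨k * m, N.mul_mem hk hm, by group⟩
  · rintro ⟨k, hk, rfl⟩
    exact ⟨k * m⁻¹, N.mul_mem hk (N.inv_mem hm), by group⟩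

theorem conj_mem_cls_iff {N : Subgroup G} [hN : N.Normal] (g x v : G) :
    g * v * g⁻¹ ∈ cls N (g * x * g⁻¹) ↔ v ∈ cls N x := by
  constructor
  · rintro ⟨m, hm, h⟩
    refine ⟨g⁻¹ * m * g, ?_, ?_⟩
    · have := hN.conj_mem m hm g⁻¹
      simpa using this
    · have : g⁻¹ * m * g * x * (g⁻¹ * m * g)⁻¹ = g⁻¹ * (m * (g * x * g⁻¹) * m⁻¹) * g := by group
      rw [this, h]; group
  · rintro ⟨m, hm, rfl⟩
    exact ⟨g * m * g⁻¹, hN.conj_mem m hm g, by group⟩

theorem cen_le_setStab_cls {A N : Subgroup G} [hN : N.Normal] {x u : G} (hu : u ∈ cls N x) :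
    cen A u ≤ setStab A (cls N x) := by
  intro g hg
  rw [mem_cen] at hg
  refine ⟨hg.1, fun v => ?_⟩
  have h1 : g * u * g⁻¹ = u := by rw [hg.2]; group
  rw [← cls_eq_of_mem hu]
  conv_rhs => rw [← h1]
  exact (conj_mem_cls_iff g u v).symm

theorem card_cls_dvd [Finite G] {N : Subgroup G} {x : G} : Nat.card (cls N x) ∣ Nat.card N := by
  have hinv : ∀ g ∈ N, ∀ u ∈ cls N x, g * u * g⁻¹ ∈ cls N x := by
    rintro g hg u ⟨m, hm, rfl⟩
    exact ⟨g * m, N.mul_mem hg hm, by group⟩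
  letI : MulAction N (cls N x) := conjOn N (cls N x) hinv
  haveI : MulAction.IsPretransitive N (cls N x) := by
    refine ⟨fun a b => ?_⟩
    obtain ⟨a, m, hm, rfl⟩ := a
    obtain ⟨b, k, hk, rfl⟩ := b
    refine ⟨⟨k * m⁻¹, N.mul_mem hk (N.inv_mem hm)⟩, ?_⟩
    apply Subtype.ext
    show (k * m⁻¹) * (m * x * m⁻¹) * (k * m⁻¹)⁻¹ = k * x * k⁻¹
    group
  rw [← MulAction.index_stabilizer_of_transitive N (⟨x, self_mem_cls N x⟩ : cls N x)]
  exact Subgroup.index_dvd_card _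

variable [Finite G] {A N : Subgroup G} {β : ℕ}

theorem cen_conj_eq (h : HT A N β) {x : G} (hx : x ∈ N) (hx1 : x ≠ 1) {n : G} (hn : n ∈ N) :
    cen A (n * x * n⁻¹) = cen A x := by
  haveI := h.normal
  have hc := collapse h.half (setStab A (cls N x)) (setStab_le _ _) (cls N x) ?_ ?_ ?_ card_cls_dvd
  · rw [hc x (self_mem_cls N x), hc (n * x * n⁻¹) ⟨n, hn, rfl⟩]
  · rintro u ⟨m, hm, rfl⟩
    refine ⟨h.normal.conj_mem x hx m, fun h1 => hx1 ?_⟩
    have : x = m⁻¹ * (m * x * m⁻¹) * m := by group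
    rw [this, h1]; group
  · intro g hg u hu
    exact (hg.2 u).1 hu
  · intro u hu
    exact cen_le_setStab_cls hu

theorem cen_eq_of_le (h : HT A N β) {x y : G} (hx : x ∈ N) (hx1 : x ≠ 1) (hy : y ∈ N)
    (hy1 : y ≠ 1) (hle : cen A x ≤ cen A y) : cen A x = cen A y :=
  Subgroup.eq_of_le_of_card_ge hle (by rw [h.half x hx hx1, h.half y hy hy1])

theorem cen_inv (A : Subgroup G) (x : G) : cen A x⁻¹ = cen A x := by
  ext g
  simp only [mem_cen]
  constructor
  · rintro ⟨h1, h2⟩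
    refine ⟨h1, ?_⟩
    calc g * x = x * (x⁻¹ * g) * x := by group
      _ = x * (g * x⁻¹) * x := by rw [h2]
      _ = x * g := by group
  · rintro ⟨h1, h2⟩
    refine ⟨h1, ?_⟩
    calc g * x⁻¹ = x⁻¹ * (x * g) * x⁻¹ := by group
      _ = x⁻¹ * (g * x) * x⁻¹ := by rw [h2]
      _ = x⁻¹ * g := by group

theorem mem_cen_mul {A : Subgroup G} {x y g : G} (hx : g ∈ cen A x) (hy : g ∈ cen A y) :
    g ∈ cen A (x * y) := by
  rw [mem_cen] at hx hy ⊢
  refine ⟨hx.1, ?_⟩
  rw [← mul_assoc, hx.2, mul_assoc, hy.2, mul_assoc]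

theorem comm_of_cen_ne (h : HT A N β) {x y : G} (hx : x ∈ N) (hx1 : x ≠ 1) (hy : y ∈ N)
    (hy1 : y ≠ 1) (hne : cen A x ≠ cen A y) : x * y = y * x := by
  by_contra hxy
  have hcN : x * y * x⁻¹ * y⁻¹ ∈ N :=
    N.mul_mem (N.mul_mem (N.mul_mem hx hy) (N.inv_mem hx)) (N.inv_mem hy)
  have hc1 : x * y * x⁻¹ * y⁻¹ ≠ 1 := by
    intro h1
    apply hxy
    calc x * y = (x * y * x⁻¹ * y⁻¹) * (y * x) := by group
      _ = y * x := by rw [h1, one_mul]
  have h1 : cen A x = cen A (x * y * x⁻¹ * y⁻¹) := by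
    apply cen_eq_of_le h hx hx1 hcN hc1
    intro g hg
    have hg2 : g ∈ cen A (y * x⁻¹ * y⁻¹) := by
      rw [cen_conj_eq h (N.inv_mem hx) (inv_ne_one.2 hx1) hy, cen_inv]; exact hg
    have : x * y * x⁻¹ * y⁻¹ = x * (y * x⁻¹ * y⁻¹) := by group
    rw [this]
    exact mem_cen_mul hg hg2
  have h2 : cen A y = cen A (x * y * x⁻¹ * y⁻¹) := by
    apply cen_eq_of_le h hy hy1 hcN hc1
    intro g hg
    have hg2 : g ∈ cen A (x * y * x⁻¹) := by
      rw [cen_conj_eq h hy hy1 hx]; exact hg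
    have hg3 : g ∈ cen A y⁻¹ := by rw [cen_inv]; exact hg
    exact mem_cen_mul hg2 hg3
  exact hne (h1.trans h2.symm)

/-- there is an element with a different centralizer in `A` -/
theorem exists_cen_ne (h : HT A N β) {x : G} (hx : x ∈ N) (hx1 : x ≠ 1) :
    ∃ z ∈ N, z ≠ 1 ∧ cen A z ≠ cen A x := by
  by_contra hcon
  push Not at hcon
  have hall : ∀ g ∈ cen A x, g = 1 := by
    intro g hg
    apply h.faithful g (cen_le A x hg)
    intro z hz
    by_cases hz1 : z = 1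
    · subst hz1; simp
    · have := hcon z hz hz1
      rw [← this] at hg
      exact (mem_cen.1 hg).2
  have hbot : cen A x = ⊥ := (Subgroup.eq_bot_iff_forall _).2 hall
  have hb := h.half x hx hx1
  rw [hbot, Subgroup.card_bot] at hb
  have := h.beta
  omega

theorem comm_of_cen_eq (h : HT A N β) {x y : G} (hx : x ∈ N) (hx1 : x ≠ 1) (hy : y ∈ N)
    (hy1 : y ≠ 1) (heq : cen A x = cen A y) : x * y = y * x := by
  obtain ⟨z, hz, hz1, hzx⟩ := exists_cen_ne h hx hx1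
  have hzx' : z * x = x * z := comm_of_cen_ne h hz hz1 hx hx1 hzx
  have hzy1 : z * y ≠ 1 := by
    intro h1
    have : z = y⁻¹ := eq_inv_of_mul_eq_one_left h1
    apply hzx
    rw [this, cen_inv, heq]
  have hzyN : z * y ∈ N := N.mul_mem hz hy
  have hzy : cen A (z * y) ≠ cen A x := by
    intro h1
    apply hzx
    symm
    apply cen_eq_of_le h hx hx1 hz hz1
    intro g hg
    have hg1 : g ∈ cen A (z * y) := by rw [h1]; exact hg
    have hg2 : g ∈ cen A y⁻¹ := by rw [cen_inv, ← heq]; exact hg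
    have := mem_cen_mul hg1 hg2
    have h3 : z * y * y⁻¹ = z := by group
    rwa [h3] at this
  have hzyx : z * y * x = x * (z * y) := comm_of_cen_ne h hzyN hzy1 hx hx1 hzy
  calc x * y = z⁻¹ * (z * x) * y := by group
    _ = z⁻¹ * (x * z) * y := by rw [hzx']
    _ = z⁻¹ * (x * (z * y)) := by group
    _ = z⁻¹ * (z * y * x) := by rw [hzyx]
    _ = y * x := by group

theorem comm (h : HT A N β) {x y : G} (hx : x ∈ N) (hy : y ∈ N) : x * y = y * x := by
  by_cases hx1 : x = 1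
  · subst hx1; simp
  by_cases hy1 : y = 1
  · subst hy1; simp
  by_cases heq : cen A x = cen A y
  · exact comm_of_cen_eq h hx hx1 hy hy1 heq
  · exact comm_of_cen_ne h hx hx1 hy hy1 heq

end Cfsg.Agent.Helper4.HalfT
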