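import Cfsg.Agent.Helper4.HalfTB

/-!
# Half-transitive automorphism groups, part C

Irreducibility, prime exponent, and the minimal normal subgroup statement.
-/

set_option autoImplicit false
set_option linter.unusedSectionVars false
set_option linter.style.haveILetI false

namespace Cfsg.Agent.Helper4.HalfT

variable {G : Type*} [Group G]

/-- the coset `vW` as a set -/
def cst (W : Subgroup G) (v : G) : Set G := {t | v⁻¹ * t ∈ W}

theorem cst_eq_image (W : Subgroup G) (v : G) : cst W v = (fun w => v * w) '' (W : Set G) := by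
  ext t
  constructor
  · intro ht
    exact ⟨v⁻¹ * t, ht, by group⟩
  · rintro ⟨w, hw, rfl⟩
    show v⁻¹ * (v * w) ∈ W
    rw [inv_mul_cancel_left]; exact hw

theorem card_cst [Finite G] (W : Subgroup G) (v : G) : Nat.card (cst W v) = Nat.card W := by
  rw [cst_eq_image]
  exact Nat.card_image_of_injective (mul_right_injective v) _

theorem cen_le_setStab_cst {A W : Subgroup G} (hWA : ∀ g ∈ A, ∀ w ∈ W, g * w * g⁻¹ ∈ W)
    {v u : G} (hu : u ∈ cst W v) : cen A u ≤ setStab A (cst W v) := by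
  intro g hg
  rw [mem_cen] at hg
  refine ⟨hg.1, fun t => ?_⟩
  have hu' : v⁻¹ * u ∈ W := hu
  have key : ∀ s : G, s ∈ cst W v ↔ u⁻¹ * s ∈ W := by
    intro s
    show v⁻¹ * s ∈ W ↔ _
    constructor
    · intro hs
      have : u⁻¹ * s = (v⁻¹ * u)⁻¹ * (v⁻¹ * s) := by group
      rw [this]; exact W.mul_mem (W.inv_mem hu') hs
    · intro hs
      have : v⁻¹ * s = (v⁻¹ * u) * (u⁻¹ * s) := by group
      rw [this]; exact W.mul_mem hu' hs
  rw [key, key]
  have h1 : u⁻¹ * (g * t * g⁻¹) = g * (u⁻¹ * t) * g⁻¹ := by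
    have : g * u⁻¹ = u⁻¹ * g := by
      calc g * u⁻¹ = u⁻¹ * (u * g) * u⁻¹ := by group
        _ = u⁻¹ * (g * u) * u⁻¹ := by rw [hg.2]
        _ = u⁻¹ * g := by group
    calc u⁻¹ * (g * t * g⁻¹) = (u⁻¹ * g) * t * g⁻¹ := by group
      _ = (g * u⁻¹) * t * g⁻¹ := by rw [this]
      _ = g * (u⁻¹ * t) * g⁻¹ := by group
  rw [h1]
  constructor
  · intro ht
    exact hWA g hg.1 _ ht
  · intro ht
    have := hWA g⁻¹ (A.inv_mem hg.1) _ ht
    have h2 : g⁻¹ * (g * (u⁻¹ * t) * g⁻¹) * g⁻¹⁻¹ = u⁻¹ * t := by group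
    rwa [h2] at this

variable [Finite G] {A N : Subgroup G} {β : ℕ}

/-- for `v ∈ N ∖ W`, `cen A v ≤ cen A w` for all `w ∈ W`. -/
theorem cen_le_of_not_mem (h : HT A N β) {W : Subgroup G} (hWN : W ≤ N)
    (hWA : ∀ g ∈ A, ∀ w ∈ W, g * w * g⁻¹ ∈ W) {v : G} (hv : v ∈ N) (hvW : v ∉ W)
    {w : G} (hw : w ∈ W) : cen A v ≤ cen A w := by
  haveI := h.normal
  have hcard : Nat.card (cst W v) ∣ Nat.card N := by
    rw [card_cst]; exact Subgroup.card_dvd_of_le hWN
  have hc := collapse h.half (setStab A (cst W v)) (setStab_le _ _) (cst W v) ?_ ?_ ?_ hcard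
  · have hv' : v ∈ cst W v := by
      show v⁻¹ * v ∈ W
      rw [inv_mul_cancel]; exact W.one_mem
    have hvw : v * w ∈ cst W v := by
      show v⁻¹ * (v * w) ∈ W
      rw [inv_mul_cancel_left]; exact hw
    have heq : cen A v = cen A (v * w) := by rw [hc v hv', hc (v * w) hvw]
    intro g hg
    have hg1 : g ∈ cen A (v * w) := by rw [← heq]; exact hg
    have hg2 : g ∈ cen A v⁻¹ := by rw [cen_inv]; exact hg
    have := mem_cen_mul hg2 hg1
    have h3 : v⁻¹ * (v * w) = w := by group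
    rwa [h3] at this
  · intro u hu
    have hu' : v⁻¹ * u ∈ W := hu
    refine ⟨?_, ?_⟩
    · have : u = v * (v⁻¹ * u) := by group
      rw [this]; exact N.mul_mem hv (hWN hu')
    · intro h1
      apply hvW
      rw [h1, mul_one] at hu'
      have := W.inv_mem hu'
      rwa [inv_inv] at this
  · intro g hg u hu
    exact (hg.2 u).1 hu
  · intro u hu
    exact cen_le_setStab_cst hWA hu

/-- irreducibility -/
theorem eq_of_invariant (h : HT A N β) {W : Subgroup G} (hWN : W ≤ N) (hW : W ≠ ⊥)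
    (hWA : ∀ g ∈ A, ∀ w ∈ W, g * w * g⁻¹ ∈ W) : W = N := by
  by_contra hne
  have hlt : ¬ N ≤ W := fun hle => hne (le_antisymm hWN hle)
  obtain ⟨v₀, hv₀, hv₀W⟩ := SetLike.not_le_iff_exists.1 hlt
  obtain ⟨w₁, hw₁, hw₁1⟩ := (Subgroup.bot_or_exists_ne_one W).resolve_left hW
  let w₀ : W := ⟨w₁, hw₁⟩
  have hw₀' : (w₀ : G) ≠ 1 := hw₁1
  have hv₀1 : v₀ ≠ 1 := fun h1 => hv₀W (h1 ▸ W.one_mem)
  -- all centralizers equal `cen A w₀`
  have hall : ∀ x ∈ N, x ≠ 1 → cen A x = cen A (w₀ : G) := by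
    intro x hx hx1
    by_cases hxW : x ∈ W
    · have h1 : cen A v₀ = cen A x :=
        cen_eq_of_le h hv₀ hv₀1 hx hx1 (cen_le_of_not_mem h hWN hWA hv₀ hv₀W hxW)
      have h2 : cen A v₀ = cen A (w₀ : G) :=
        cen_eq_of_le h hv₀ hv₀1 (hWN w₀.2) hw₀' (cen_le_of_not_mem h hWN hWA hv₀ hv₀W w₀.2)
      rw [← h1, h2]
    · exact cen_eq_of_le h hx hx1 (hWN w₀.2) hw₀' (cen_le_of_not_mem h hWN hWA hx hxW w₀.2)
  obtain ⟨z, hz, hz1, hzx⟩ := exists_cen_ne h (hWN w₀.2) hw₀'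
  exact hzx (hall z hz hz1)

/-- prime exponent -/
theorem exists_prime_exponent (h : HT A N β) (hne : ∃ x ∈ N, x ≠ 1) :
    ∃ p : ℕ, p.Prime ∧ ∀ x ∈ N, x ^ p = 1 := by
  haveI := h.normal
  have hcard : Nat.card N ≠ 1 := by
    intro h1
    obtain ⟨x, hx, hx1⟩ := hne
    have : N = ⊥ := Subgroup.card_eq_one.1 h1
    rw [this, Subgroup.mem_bot] at hx
    exact hx1 hx
  obtain ⟨p, hp, hpd⟩ := Nat.exists_prime_and_dvd hcard
  haveI : Fact p.Prime := ⟨hp⟩
  obtain ⟨x, hxo⟩ := exists_prime_orderOf_dvd_card' p hpd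
  refine ⟨p, hp, ?_⟩
  let W : Subgroup G :=
    { carrier := {y | y ∈ N ∧ y ^ p = 1}
      one_mem' := ⟨N.one_mem, one_pow _⟩
      mul_mem' := by
        rintro a b ⟨ha, ha'⟩ ⟨hb, hb'⟩
        refine ⟨N.mul_mem ha hb, ?_⟩
        have hc : Commute a b := comm h ha hb
        rw [hc.mul_pow, ha', hb', one_mul]
      inv_mem' := by
        rintro a ⟨ha, ha'⟩
        exact ⟨N.inv_mem ha, by rw [inv_pow, ha', inv_one]⟩ }
  have hWN : W ≤ N := fun y hy => hy.1
  have hWne : W ≠ ⊥ := by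
    intro hbot
    have hxW : (x : G) ∈ W := by
      refine ⟨x.2, ?_⟩
      have : x ^ p = 1 := by rw [← hxo]; exact pow_orderOf_eq_one x
      have := congrArg Subtype.val this
      simpa using this
    rw [hbot, Subgroup.mem_bot] at hxW
    have hx1 : x = 1 := Subtype.ext hxW
    rw [hx1, orderOf_one] at hxo
    exact hp.one_lt.ne hxo
  have hWA : ∀ g ∈ A, ∀ w ∈ W, g * w * g⁻¹ ∈ W := by
    rintro g _ w ⟨hw, hw'⟩
    refine ⟨h.normal.conj_mem w hw g, ?_⟩
    rw [conj_pow, hw']; group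
  have hWeq := eq_of_invariant h hWN hWne hWA
  intro y hy
  rw [← hWeq] at hy
  exact hy.2

/-- every non-trivial normal subgroup contains `N` -/
theorem le_of_normal (h : HT A N β) (hprod : ∀ g : G, ∃ n ∈ N, n⁻¹ * g ∈ A)
    (M : Subgroup G) (hM : M.Normal) (hMne : M ≠ ⊥) : N ≤ M := by
  haveI := h.normal
  by_cases hW : M ⊓ N = ⊥
  · exfalso
    -- `M` centralizes `N`
    have hcomm : ∀ m ∈ M, ∀ n ∈ N, m * n = n * m := by
      intro m hm n hn
      have h1 : m * n * m⁻¹ * n⁻¹ ∈ M ⊓ N := by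
        refine ⟨?_, ?_⟩
        · have : m * n * m⁻¹ * n⁻¹ = m * (n * m⁻¹ * n⁻¹) := by group
          rw [this]
          exact M.mul_mem hm (hM.conj_mem _ (M.inv_mem hm) n)
        · exact N.mul_mem (h.normal.conj_mem n hn m) (N.inv_mem hn)
      rw [hW, Subgroup.mem_bot] at h1
      calc m * n = (m * n * m⁻¹ * n⁻¹) * (n * m) := by group
        _ = n * m := by rw [h1, one_mul]
    obtain ⟨m₁, hm₁, hm₁1⟩ := (Subgroup.bot_or_exists_ne_one M).resolve_left hMne
    let m : M := ⟨m₁, hm₁⟩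
    have hm1 : m ≠ 1 := fun h1 => hm₁1 (congrArg Subtype.val h1)
    obtain ⟨n, hn, hnA⟩ := hprod (m : G)
    have hg1 : n⁻¹ * (m : G) = 1 := by
      apply h.faithful _ hnA
      intro x hx
      have h1 : (m : G) * x = x * m := hcomm m m.2 x hx
      have h2 : n⁻¹ * x = x * n⁻¹ := comm h (N.inv_mem hn) hx
      rw [mul_assoc, h1, ← mul_assoc, h2, mul_assoc]
    have hmn : (m : G) = n := by
      calc (m : G) = n * (n⁻¹ * m) := by group
        _ = n := by rw [hg1, mul_one]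
    have : (m : G) ∈ M ⊓ N := ⟨m.2, hmn ▸ hn⟩
    rw [hW, Subgroup.mem_bot] at this
    exact hm1 (Subtype.ext this)
  · have hWA : ∀ g ∈ A, ∀ w ∈ M ⊓ N, g * w * g⁻¹ ∈ M ⊓ N := by
      rintro g _ w ⟨hw1, hw2⟩
      exact ⟨hM.conj_mem w hw1 g, h.normal.conj_mem w hw2 g⟩
    have := eq_of_invariant h inf_le_right hW hWA
    rw [← this]
    exact inf_le_left

end Cfsg.Agent.Helper4.HalfT
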