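import Cfsg.Agent.Helper4.HalfTC

/-!
# Half-transitive automorphism groups, part D

Permutation-group side: a 3/2-transitive group with a regular normal subgroup which is not
a Frobenius group.
-/

set_option autoImplicit false
set_option linter.unusedSectionVars false
set_option linter.style.haveILetI false

namespace Cfsg.Agent.Helper4.HalfT

variable {G Ω : Type*} [Group G] [MulAction G Ω]

theorem cen_stab_eq_inf (N : Subgroup G) [hN : N.Normal]
    (hNr : ∀ a : Ω, MulAction.stabilizer N a = ⊥) (a : Ω) {x : G} (hx : x ∈ N) :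
    cen (MulAction.stabilizer G a) x = MulAction.stabilizer G a ⊓ MulAction.stabilizer G (x • a) := by
  ext g
  rw [mem_cen, Subgroup.mem_inf, MulAction.mem_stabilizer_iff, MulAction.mem_stabilizer_iff]
  constructor
  · rintro ⟨h1, h2⟩
    refine ⟨h1, ?_⟩
    rw [← mul_smul, h2, mul_smul, h1]
  · rintro ⟨h1, h2⟩
    refine ⟨h1, ?_⟩
    have hyN : x⁻¹ * (g * x * g⁻¹) ∈ N := N.mul_mem (N.inv_mem hx) (hN.conj_mem x hx g)
    have hg' : g⁻¹ • a = a := by
      rw [inv_smul_eq_iff, h1]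
    have hya : (x⁻¹ * (g * x * g⁻¹)) • a = a := by
      rw [mul_smul, mul_smul, mul_smul, hg', h2, inv_smul_smul]
    have hmem : (⟨x⁻¹ * (g * x * g⁻¹), hyN⟩ : N) ∈ MulAction.stabilizer N a := by
      rw [MulAction.mem_stabilizer_iff]
      exact hya
    rw [hNr a, Subgroup.mem_bot] at hmem
    have hy1 : x⁻¹ * (g * x * g⁻¹) = 1 := congrArg Subtype.val hmem
    calc g * x = x * (x⁻¹ * (g * x * g⁻¹)) * g := by group
      _ = x * g := by rw [hy1, mul_one]

theorem card_inf_stab_mul [Finite G] (a b : Ω) :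
    Nat.card (MulAction.orbit (MulAction.stabilizer G a) b) *
      Nat.card (MulAction.stabilizer G a ⊓ MulAction.stabilizer G b : Subgroup G) =
      Nat.card (MulAction.stabilizer G a) := by
  have hmap : (MulAction.stabilizer (MulAction.stabilizer G a) b).map
      (MulAction.stabilizer G a).subtype = MulAction.stabilizer G a ⊓ MulAction.stabilizer G b := by
    ext g
    simp only [Subgroup.mem_map, MulAction.mem_stabilizer_iff, Subgroup.mem_inf]
    constructor
    · rintro ⟨k, hk, rfl⟩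
      exact ⟨k.2, hk⟩
    · rintro ⟨h1, h2⟩
      exact ⟨⟨g, h1⟩, h2, rfl⟩
  rw [← hmap, Subgroup.card_map_of_injective (Subgroup.subtype_injective _)]
  rw [Nat.card_coe_set_eq, ← MulAction.index_stabilizer]
  exact Subgroup.index_mul_card _

theorem main_perm [Finite G] [FaithfulSMul G Ω]
    (hhalf : ∀ a b c : Ω, b ≠ a → c ≠ a →
      Nat.card (MulAction.orbit (MulAction.stabilizer G a) b) =
        Nat.card (MulAction.orbit (MulAction.stabilizer G a) c))
    (N : Subgroup G) [hN : N.Normal] (hNt : MulAction.IsPretransitive N Ω)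
    (hNr : ∀ a : Ω, MulAction.stabilizer N a = ⊥)
    (hnotF : ∃ a b : Ω, a ≠ b ∧ MulAction.stabilizer G a ⊓ MulAction.stabilizer G b ≠ ⊥) :
    (∃ p : ℕ, p.Prime ∧ (∀ x ∈ N, ∀ y ∈ N, x * y = y * x) ∧ ∀ x ∈ N, x ^ p = 1) ∧
    (∀ M : Subgroup G, M.Normal → M ≠ ⊥ → N ≤ M) := by
  obtain ⟨a, b₀, hab, hnb⟩ := hnotF
  set A := MulAction.stabilizer G a with hA
  -- regularity: `x ∈ N`, `x ≠ 1` moves `a`
  have hmove : ∀ x ∈ N, x ≠ 1 → x • a ≠ a := by
    intro x hx hx1 hxa
    have hmem : (⟨x, hx⟩ : N) ∈ MulAction.stabilizer N a := by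
      rw [MulAction.mem_stabilizer_iff]; exact hxa
    rw [hNr a, Subgroup.mem_bot] at hmem
    exact hx1 (congrArg Subtype.val hmem)
  have htr : ∀ b : Ω, ∃ n ∈ N, n • a = b := by
    intro b
    obtain ⟨n, hn⟩ := MulAction.exists_smul_eq N a b
    exact ⟨n, n.2, hn⟩
  have hcardpos : ∀ b : Ω, 0 < Nat.card (MulAction.orbit A b) := by
    intro b
    haveI : Nonempty (MulAction.orbit A b) := ⟨⟨b, MulAction.mem_orbit_self b⟩⟩
    haveI : Finite (MulAction.orbit A b) := Set.Finite.to_subtype (Set.finite_range _)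
    exact Nat.card_pos
  have hcardeq : ∀ b : Ω, b ≠ a →
      Nat.card (A ⊓ MulAction.stabilizer G b : Subgroup G) =
        Nat.card (A ⊓ MulAction.stabilizer G b₀ : Subgroup G) := by
    intro b hb
    have h1 := card_inf_stab_mul (G := G) a b
    have h2 := card_inf_stab_mul (G := G) a b₀
    rw [hhalf a b b₀ hb hab.symm, ← h2] at h1
    exact Nat.eq_of_mul_eq_mul_left (hcardpos b₀) h1
  have hHT : HT A N (Nat.card (A ⊓ MulAction.stabilizer G b₀ : Subgroup G)) := by
    refine ⟨hN, ?_, ?_, ?_⟩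
    · intro g hg hcomm
      apply FaithfulSMul.eq_of_smul_eq_smul (α := Ω)
      intro b
      obtain ⟨n, hn, rfl⟩ := htr b
      rw [one_smul, ← mul_smul, hcomm n hn, mul_smul]
      congr 1
    · intro x hx hx1
      rw [cen_stab_eq_inf N hNr a hx]
      exact hcardeq _ (hmove x hx hx1)
    · exact (Subgroup.one_lt_card_iff_ne_bot _).2 hnb
  have hne : ∃ x ∈ N, x ≠ 1 := by
    obtain ⟨n, hn, hnb₀⟩ := htr b₀
    refine ⟨n, hn, fun h1 => hab ?_⟩
    rw [← hnb₀, h1, one_smul]
  have hprod : ∀ g : G, ∃ n ∈ N, n⁻¹ * g ∈ A := by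
    intro g
    obtain ⟨n, hn, hng⟩ := htr (g • a)
    refine ⟨n, hn, ?_⟩
    rw [hA, MulAction.mem_stabilizer_iff, mul_smul, ← hng, inv_smul_smul]
  obtain ⟨p, hp, hpx⟩ := exists_prime_exponent hHT hne
  exact ⟨⟨p, hp, fun x hx y hy => comm hHT hx hy, hpx⟩, le_of_normal hHT hprod⟩

end Cfsg.Agent.Helper4.HalfT
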