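import Mathlib
import Cfsg.Agent.Helper1.Basic
import Cfsg.Agent.Helper1.Hall

set_option autoImplicit false
open scoped Pointwise

namespace Cfsg.Agent.Helper4

open Cfsg.Agent.Helper1

universe u

/-- number of subgroups of order `m` -/
noncomputable def cntOrder (G : Type u) [Group G] (m : ℕ) : ℕ :=
  Nat.card {H : Subgroup G // Nat.card H = m}

/-- a factor allowed in P. Hall's count -/
def GoodFactor (G : Type u) [Group G] (m x : ℕ) : Prop :=
  (∃ q e : ℕ, q.Prime ∧ x = q ^ e) ∧
  (∃ K L : Subgroup G, K.Normal ∧ L.Normal ∧ K < L ∧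
    (∀ M : Subgroup G, M.Normal → K ≤ M → M ≤ L → M = K ∨ M = L) ∧ x ∣ K.relIndex L) ∧
  (∃ q : ℕ, q.Prime ∧ q ∣ m ∧ x ≡ 1 [MOD q])

/-- a product of allowed factors -/
def GoodProd (G : Type u) [Group G] (m c : ℕ) : Prop :=
  ∃ l : List ℕ, l.prod = c ∧ ∀ x ∈ l, GoodFactor G m x

theorem GoodProd.one (G : Type u) [Group G] (m : ℕ) : GoodProd G m 1 :=
  ⟨[], rfl, fun _ h => absurd h List.not_mem_nil⟩

theorem GoodProd.mul {G : Type u} [Group G] {m a b : ℕ} (ha : GoodProd G m a)
    (hb : GoodProd G m b) : GoodProd G m (a * b) := by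
  obtain ⟨l1, h1, h1'⟩ := ha
  obtain ⟨l2, h2, h2'⟩ := hb
  refine ⟨l1 ++ l2, by rw [List.prod_append, h1, h2], ?_⟩
  intro x hx
  rcases List.mem_append.1 hx with h | h
  · exact h1' x h
  · exact h2' x h

theorem GoodProd.single {G : Type u} [Group G] {m a : ℕ} (ha : GoodFactor G m a) :
    GoodProd G m a :=
  ⟨[a], by simp, fun x hx => by rw [List.mem_singleton.1 hx]; exact ha⟩

theorem GoodProd.to_fin {G : Type u} [Group G] {m c : ℕ} (h : GoodProd G m c) :
    ∃ (k : ℕ) (f : Fin k → ℕ), c = ∏ i, f i ∧ ∀ i, GoodFactor G m (f i) := by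
  obtain ⟨l, hl, hl'⟩ := h
  refine ⟨l.length, l.get, ?_, fun i => hl' _ (List.get_mem l i)⟩
  rw [← hl, ← List.prod_ofFn, List.ofFn_get]

/-- lifting a factor from a quotient -/
theorem GoodFactor.of_quotient {G : Type u} [Group G] (N : Subgroup G) [N.Normal] {m m' x : ℕ}
    (hmm : m' ∣ m) (h : GoodFactor (G ⧸ N) m' x) : GoodFactor G m x := by
  obtain ⟨h1, ⟨K, L, hKn, hLn, hKL, hmin, hdvd⟩, ⟨q, hq, hqm, hx⟩⟩ := h
  refine ⟨h1, ?_, ⟨q, hq, hqm.trans hmm, hx⟩⟩
  have hsurj := QuotientGroup.mk'_surjective N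
  refine ⟨K.comap (QuotientGroup.mk' N), L.comap (QuotientGroup.mk' N), inferInstance,
    inferInstance, ?_, ?_, ?_⟩
  · rw [lt_iff_le_and_ne]
    refine ⟨Subgroup.comap_mono hKL.le, ?_⟩
    intro heq
    apply hKL.ne
    rw [← Subgroup.map_comap_eq_self_of_surjective hsurj K,
      ← Subgroup.map_comap_eq_self_of_surjective hsurj L, heq]
  · intro M hM hKM hML
    have hNM : (QuotientGroup.mk' N).ker ≤ M := by
      rw [QuotientGroup.ker_mk']
      intro n hn
      apply hKM
      rw [Subgroup.mem_comap, QuotientGroup.mk'_apply, (QuotientGroup.eq_one_iff n).2 hn]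
      exact K.one_mem
    have hMn : (M.map (QuotientGroup.mk' N)).Normal := hM.map _ hsurj
    have h1 : K ≤ M.map (QuotientGroup.mk' N) := by
      rw [← Subgroup.map_comap_eq_self_of_surjective hsurj K]
      exact Subgroup.map_mono hKM
    have h2 : M.map (QuotientGroup.mk' N) ≤ L := by
      rw [← Subgroup.map_comap_eq_self_of_surjective hsurj L]
      exact Subgroup.map_mono hML
    rcases hmin _ hMn h1 h2 with h | h
    · left
      rw [← h, Subgroup.comap_map_eq_self hNM]
    · right
      rw [← h, Subgroup.comap_map_eq_self hNM]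
  · rw [Subgroup.relIndex_comap, Subgroup.map_comap_eq_self_of_surjective hsurj]
    exact hdvd

theorem GoodProd.of_quotient {G : Type u} [Group G] (N : Subgroup G) [N.Normal] {m m' c : ℕ}
    (hmm : m' ∣ m) (h : GoodProd (G ⧸ N) m' c) : GoodProd G m c := by
  obtain ⟨l, hl, hl'⟩ := h
  exact ⟨l, hl, fun x hx => (hl' x hx).of_quotient N hmm⟩

/-- the number of subgroups of a given order, when they are all conjugate -/
theorem cntOrder_eq_index_normalizer {G : Type u} [Group G] [Finite G] (H : Subgroup G)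
    (hconj : ∀ K : Subgroup G, Nat.card K = Nat.card H → ∃ g : G, MulAut.conj g • H = K) :
    cntOrder G (Nat.card H) = (Subgroup.normalizer (H : Set G)).index := by
  let _inst : MulAction G (Subgroup G) := MulAction.compHom _ (MulAut.conj : G →* MulAut G)
  have hsmul : ∀ (g : G) (K : Subgroup G), g • K = MulAut.conj g • K := fun _ _ => rfl
  have hstab : MulAction.stabilizer G H = Subgroup.normalizer (H : Set G) := by
    ext g
    rw [MulAction.mem_stabilizer_iff, hsmul, Subgroup.mem_normalizer_iff]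
    constructor
    · intro h x
      constructor
      · intro hx
        rw [← h]
        exact conj_mem_conj_smul hx
      · intro hx
        rw [← h, mem_conj_smul] at hx
        have : g⁻¹ * (g * x * g⁻¹) * g = x := by group
        rwa [this] at hx
    · intro h
      ext x
      rw [mem_conj_smul, h (g⁻¹ * x * g)]
      have : g * (g⁻¹ * x * g) * g⁻¹ = x := by group
      rw [this]
  have horb : MulAction.orbit G H = {K : Subgroup G | Nat.card K = Nat.card H} := by
    ext K
    rw [MulAction.mem_orbit_iff, Set.mem_ofPred_eq]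
    constructor
    · rintro ⟨g, rfl⟩
      rw [hsmul, card_conj_smul]
    · intro hK
      obtain ⟨g, hg⟩ := hconj K hK
      exact ⟨g, hg⟩
  rw [← hstab, MulAction.index_stabilizer, horb]
  unfold cntOrder
  rw [← Nat.card_coe_set_eq]
  rfl

end Cfsg.Agent.Helper4
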