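import Mathlib
import Cfsg.Agent.Helper1.Basic
import Cfsg.Agent.Helper1.MinNonNilp
import Cfsg.Agent.Helper4.SylowCoprime

set_option autoImplicit false
open scoped Pointwise

namespace Cfsg.Agent.Helper4

open Cfsg.Agent.Helper1

universe u

theorem centralizer_sup_eq {G : Type u} [Group G] (A B : Subgroup G) :
    Subgroup.centralizer ((A ⊔ B : Subgroup G) : Set G) =
      Subgroup.centralizer (A : Set G) ⊓ Subgroup.centralizer (B : Set G) := by
  apply le_antisymm
  · exact le_inf (Subgroup.centralizer_le (by exact_mod_cast (le_sup_left : A ≤ A ⊔ B)))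
      (Subgroup.centralizer_le (by exact_mod_cast (le_sup_right : B ≤ A ⊔ B)))
  · intro x hx
    have h1 : A ≤ Subgroup.centralizer ((Subgroup.zpowers x : Subgroup G) : Set G) := by
      rw [Subgroup.le_centralizer_iff, Subgroup.zpowers_le]; exact hx.1
    have h2 : B ≤ Subgroup.centralizer ((Subgroup.zpowers x : Subgroup G) : Set G) := by
      rw [Subgroup.le_centralizer_iff, Subgroup.zpowers_le]; exact hx.2
    have h3 := sup_le h1 h2
    rw [Subgroup.le_centralizer_iff, Subgroup.zpowers_le] at h3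
    exact h3

theorem conj_mem_centralizer_of_mem_normalizer {G : Type u} [Group G] {A : Subgroup G} {x y : G}
    (hx : x ∈ Subgroup.normalizer (A : Set G)) (hy : y ∈ Subgroup.centralizer (A : Set G)) :
    x * y * x⁻¹ ∈ Subgroup.centralizer (A : Set G) := by
  rw [Subgroup.mem_centralizer_iff] at hy ⊢
  intro h hh
  have h1 : x⁻¹ * h * x ∈ A := by
    have := (Subgroup.mem_normalizer_iff.1 (Subgroup.inv_mem _ hx) h).1 hh
    simpa using this
  have h2 := hy _ h1
  calc h * (x * y * x⁻¹) = x * ((x⁻¹ * h * x) * y) * x⁻¹ := by group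
    _ = x * (y * (x⁻¹ * h * x)) * x⁻¹ := by rw [h2]
    _ = x * y * x⁻¹ * h := by group

/-- The index of the centralizer of a solvable `p'`-group `H` in a `p`-group `M` that it
normalizes is a product of powers of `p`, each `≡ 1` modulo a prime divisor of `|H|`. -/
theorem centralizer_relIndex_goodList {G : Type u} [Group G] [Finite G] {p : ℕ}
    [hp : Fact p.Prime] (M : Subgroup G) (hMp : IsPGroup p M) :
    ∀ (n : ℕ) (H : Subgroup G), Nat.card H = n → Group.IsSolvable H →
      H ≤ Subgroup.normalizer (M : Set G) → (Nat.card H).Coprime p →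
      ∃ l : List ℕ, l.prod = (M ⊓ Subgroup.centralizer (H : Set G)).relIndex M ∧
        ∀ x ∈ l, (∃ e : ℕ, x = p ^ e) ∧ x ∣ Nat.card M ∧
          ∃ q : ℕ, q.Prime ∧ q ∣ Nat.card H ∧ x ≡ 1 [MOD q] := by
  intro n
  induction n using Nat.strong_induction_on with
  | _ n ih =>
  intro H hn hsol hHM hcop
  by_cases hbot : H = ⊥
  · refine ⟨[], ?_, fun _ h => absurd h List.not_mem_nil⟩
    rw [List.prod_nil, hbot]
    symm
    rw [Subgroup.relIndex_eq_one]
    intro x hx
    refine ⟨hx, Subgroup.mem_centralizer_iff.2 ?_⟩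
    intro y hy
    rw [Subgroup.coe_bot, Set.mem_singleton_iff] at hy
    rw [hy, one_mul, mul_one]
  · have hnt : Nontrivial H := (Subgroup.nontrivial_iff_ne_bot H).2 hbot
    obtain ⟨N', hN'n, hN'q⟩ := exists_normal_prime_index ↥H
    obtain ⟨q, hq⟩ : ∃ q, q = N'.index := ⟨_, rfl⟩
    rw [← hq] at hN'q
    have hqF : Fact q.Prime := ⟨hN'q⟩
    obtain ⟨H1, hH1⟩ : ∃ H1 : Subgroup G, H1 = N'.map H.subtype := ⟨_, rfl⟩
    have hH1H : H1 ≤ H := by rw [hH1]; exact Subgroup.map_subtype_le _
    have hsub : H1.subgroupOf H = N' := by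
      rw [hH1]; exact Subgroup.comap_map_eq_self_of_injective H.subtype_injective _
    have hHn1 : H ≤ Subgroup.normalizer (H1 : Set G) := by
      rw [← Subgroup.normal_subgroupOf_iff_le_normalizer hH1H, hsub]; exact hN'n
    have hcard1 : Nat.card H1 * q = Nat.card H := by
      rw [hH1, Subgroup.card_map_of_injective H.subtype_injective, hq]
      exact Subgroup.card_mul_index N'
    have hH1pos : 0 < Nat.card H1 := Nat.card_pos
    have hlt : Nat.card H1 < n := by
      rw [← hn, ← hcard1]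
      exact lt_mul_of_one_lt_right hH1pos hN'q.one_lt
    have hsol1 : Group.IsSolvable H1 :=
      Group.isSolvable_of_isSolvable_injective (f := Subgroup.inclusion hH1H)
        (Subgroup.inclusion_injective hH1H)
    have hcop1 : (Nat.card H1).Coprime p :=
      Nat.Coprime.coprime_dvd_left (Dvd.intro _ hcard1) hcop
    obtain ⟨l1, hl1, hl1'⟩ := ih _ hlt H1 rfl hsol1 (hH1H.trans hHM) hcop1
    -- the Sylow q-subgroup
    obtain ⟨Q'⟩ : Nonempty (Sylow q ↥H) := inferInstance
    obtain ⟨Qs, hQs⟩ : ∃ Qs : Subgroup G, Qs = (Q' : Subgroup ↥H).map H.subtype := ⟨_, rfl⟩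
    have hQsH : Qs ≤ H := by rw [hQs]; exact Subgroup.map_subtype_le _
    have hQsq : IsPGroup q Qs := by rw [hQs]; exact Q'.isPGroup'.map _
    have hcardQs : Nat.card Qs = q ^ (Nat.card H).factorization q := by
      rw [hQs, Subgroup.card_map_of_injective H.subtype_injective, Q'.card_eq_multiplicity]
    have hQsnot : ¬ Qs ≤ H1 := by
      intro hle
      have hdvd := Subgroup.card_dvd_of_le hle
      rw [hcardQs, ← hcard1, Nat.factorization_mul hH1pos.ne' hN'q.ne_zero] at hdvd
      simp only [Finsupp.coe_add, Pi.add_apply, hN'q.factorization_self] at hdvd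
      exact Nat.pow_succ_factorization_not_dvd hH1pos.ne' hN'q hdvd
    have hsupH : H1 ⊔ Qs = H := by
      apply le_antisymm (sup_le hH1H hQsH)
      have h1 := Subgroup.relIndex_mul_relIndex H1 (H1 ⊔ Qs) H le_sup_left (sup_le hH1H hQsH)
      have h2 : H1.relIndex H = q := by
        show (H1.subgroupOf H).index = q
        rw [hsub, hq]
      rw [h2] at h1
      have h3 : H1.relIndex (H1 ⊔ Qs) ≠ 1 := by
        intro h
        rw [Subgroup.relIndex_eq_one] at h
        exact hQsnot (le_sup_right.trans h)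
      have h4 : H1.relIndex (H1 ⊔ Qs) = q :=
        (Nat.dvd_prime hN'q).1 (Dvd.intro _ h1) |>.resolve_left h3
      rw [h4] at h1
      have h5 : (H1 ⊔ Qs).relIndex H = 1 := by
        have : q * (H1 ⊔ Qs).relIndex H = q * 1 := by rw [h1, mul_one]
        exact Nat.eq_of_mul_eq_mul_left hN'q.pos this
      exact Subgroup.relIndex_eq_one.1 h5
    obtain ⟨C1, hC1⟩ : ∃ C1 : Subgroup G, C1 = M ⊓ Subgroup.centralizer (H1 : Set G) := ⟨_, rfl⟩
    obtain ⟨C, hC⟩ : ∃ C : Subgroup G, C = M ⊓ Subgroup.centralizer (H : Set G) := ⟨_, rfl⟩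
    rw [← hC1] at hl1
    rw [← hC]
    have hC1M : C1 ≤ M := by rw [hC1]; exact inf_le_left
    have hCC1 : C ≤ C1 := by
      rw [hC, hC1]
      exact inf_le_inf_left _ (Subgroup.centralizer_le (by exact_mod_cast hH1H))
    have hQsN : Qs ≤ Subgroup.normalizer (C1 : Set G) := by
      intro x hx
      have hxM : x ∈ Subgroup.normalizer (M : Set G) := hHM (hQsH hx)
      have hxH1 : x ∈ Subgroup.normalizer (H1 : Set G) := hHn1 (hQsH hx)
      rw [Subgroup.mem_normalizer_iff]
      intro y
      rw [hC1]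
      constructor
      · rintro ⟨h1, h2⟩
        exact ⟨(Subgroup.mem_normalizer_iff.1 hxM y).1 h1,
          conj_mem_centralizer_of_mem_normalizer hxH1 h2⟩
      · rintro ⟨h1, h2⟩
        refine ⟨(Subgroup.mem_normalizer_iff.1 hxM y).2 h1, ?_⟩
        have := conj_mem_centralizer_of_mem_normalizer (Subgroup.inv_mem _ hxH1) h2
        have e : x⁻¹ * (x * y * x⁻¹) * x⁻¹⁻¹ = y := by group
        rwa [e] at this
    have hmod := card_modEq_card_inf_centralizer Qs C1 hQsq hQsN
    have hCeq : C1 ⊓ Subgroup.centralizer (Qs : Set G) = C := by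
      rw [hC1, hC, ← hsupH, centralizer_sup_eq, inf_assoc]
    rw [hCeq] at hmod
    obtain ⟨r, hr⟩ : ∃ r, r = C.relIndex C1 := ⟨_, rfl⟩
    have hrC : r * Nat.card C = Nat.card C1 := by rw [hr]; exact relIndex_mul_card_of_le hCC1
    obtain ⟨k, hk⟩ := IsPGroup.iff_card.1 hMp
    have hpq : p ≠ q := by
      rintro rfl
      have h1 : p ∣ Nat.card H := Dvd.intro_left _ hcard1
      have := Nat.Coprime.eq_one_of_dvd hcop.symm h1
      exact hp.out.one_lt.ne' this
    have hCdvd : Nat.card C ∣ p ^ k := by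
      rw [← hk]; exact Subgroup.card_dvd_of_le (hCC1.trans hC1M)
    have hgcd : Nat.gcd q (Nat.card C) = 1 := by
      obtain ⟨j, -, hj⟩ := (Nat.dvd_prime_pow hp.out).1 hCdvd
      rw [hj]
      exact Nat.Coprime.pow_right _ ((Nat.coprime_primes hN'q hp.out).2 (Ne.symm hpq))
    have hr1 : r ≡ 1 [MOD q] := by
      apply Nat.ModEq.cancel_right_of_coprime hgcd
      rw [hrC, one_mul]
      exact hmod
    have hrM : r ∣ Nat.card M := (Dvd.intro _ hrC).trans (Subgroup.card_dvd_of_le hC1M)
    have hrp : ∃ e : ℕ, r = p ^ e := by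
      rw [hk] at hrM
      obtain ⟨j, -, hj⟩ := (Nat.dvd_prime_pow hp.out).1 hrM
      exact ⟨j, hj⟩
    refine ⟨l1 ++ [r], ?_, ?_⟩
    · rw [List.prod_append, hl1, List.prod_singleton, hr, mul_comm]
      exact Subgroup.relIndex_mul_relIndex C C1 M hCC1 hC1M
    · intro x hx
      rcases List.mem_append.1 hx with h | h
      · obtain ⟨h1, h2, q', hq', hq'd, hx1⟩ := hl1' x h
        exact ⟨h1, h2, q', hq', hq'd.trans (Dvd.intro _ hcard1), hx1⟩
      · rw [List.mem_singleton.1 h]
        exact ⟨hrp, hrM, q, hN'q, Dvd.intro_left _ hcard1, hr1⟩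

end Cfsg.Agent.Helper4
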