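import Mathlib
import Cfsg.Agent.Helper1.Basic
import Cfsg.Agent.Helper1.Hall
import Cfsg.Agent.Helper1.Card
import Cfsg.Agent.Helper1.CoreFree
import Cfsg.Agent.Helper4.HallCountA
import Cfsg.Agent.Helper4.HallCountB

set_option autoImplicit false
open scoped Pointwise

namespace Cfsg.Agent.Helper4

open Cfsg.Agent.Helper1

universe u

/-- Frattini argument for a Hall subgroup `H` of the solvable group `H ⊔ M`. -/
theorem normalizer_sup_le_of_hall {G : Type u} [Group G] [Finite G] (H M : Subgroup G)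
    [hMn : M.Normal] (hsol : Group.IsSolvable (H ⊔ M : Subgroup G))
    (hcop : (Nat.card H).Coprime (Nat.card M)) :
    Subgroup.normalizer ((H ⊔ M : Subgroup G) : Set G) ≤ M ⊔ Subgroup.normalizer (H : Set G) := by
  have hinf : H ⊓ M = ⊥ := inf_eq_bot_of_coprime_card hcop
  have hcard : Nat.card (H ⊔ M : Subgroup G) = Nat.card H * Nat.card M :=
    card_sup_of_disjoint_normal H M hinf
  obtain ⟨hC, -⟩ := (hallProp_of_solvable _ (H ⊔ M : Subgroup G) rfl).internal _ _ hcard hcop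
  intro g hg
  have hgH : MulAut.conj g • H ≤ H ⊔ M := by
    intro x hx
    rw [mem_conj_smul] at hx
    have h1 : g⁻¹ * x * g ∈ H ⊔ M := Subgroup.mem_sup_left hx
    have h2 := (Subgroup.mem_normalizer_iff.1 hg (g⁻¹ * x * g)).1 h1
    have e : g * (g⁻¹ * x * g) * g⁻¹ = x := by group
    rwa [e] at h2
  obtain ⟨x, hxX, hx⟩ := hC (MulAut.conj g • H) H hgH le_sup_left (card_conj_smul g H) rfl
  -- conj (x * g) • H = H
  have hxg : x * g ∈ Subgroup.normalizer (H : Set G) := by
    rw [Subgroup.mem_normalizer_iff]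
    intro y
    have hmem : ∀ z, z ∈ H ↔ z ∈ MulAut.conj x • (MulAut.conj g • H) := by
      intro z; rw [hx]
    constructor
    · intro hy
      rw [hmem, mem_conj_smul, mem_conj_smul]
      have e : g⁻¹ * (x⁻¹ * (x * g * y * (x * g)⁻¹) * x) * g = y := by group
      rw [e]; exact hy
    · intro hy
      rw [hmem, mem_conj_smul, mem_conj_smul] at hy
      have e : g⁻¹ * (x⁻¹ * (x * g * y * (x * g)⁻¹) * x) * g = y := by group
      rwa [e] at hy
  have hXle : H ⊔ M ≤ M ⊔ Subgroup.normalizer (H : Set G) :=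
    sup_le (Subgroup.le_normalizer.trans le_sup_right) le_sup_left
  have e : g = x⁻¹ * (x * g) := by group
  rw [e]
  exact Subgroup.mul_mem _ (Subgroup.inv_mem _ (hXle hxX)) (Subgroup.mem_sup_right hxg)

theorem normalizer_inf_normal_eq_centralizer {G : Type u} [Group G] (H M : Subgroup G)
    [hMn : M.Normal] (hinf : H ⊓ M = ⊥) :
    Subgroup.normalizer (H : Set G) ⊓ M = M ⊓ Subgroup.centralizer (H : Set G) := by
  apply le_antisymm
  · rintro x ⟨hxN, hxM⟩
    refine ⟨hxM, Subgroup.mem_centralizer_iff.2 ?_⟩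
    intro h hh
    have h1 : x * h * x⁻¹ ∈ H := (Subgroup.mem_normalizer_iff.1 hxN h).1 hh
    have h2 : x * h * x⁻¹ * h⁻¹ ∈ H := H.mul_mem h1 (H.inv_mem hh)
    have h3 : x * h * x⁻¹ * h⁻¹ ∈ M := by
      have := M.mul_mem hxM (hMn.conj_mem _ (M.inv_mem hxM) h)
      simpa [mul_assoc] using this
    have h4 : x * h * x⁻¹ * h⁻¹ ∈ H ⊓ M := ⟨h2, h3⟩
    rw [hinf, Subgroup.mem_bot] at h4
    calc h * x = (x * h * x⁻¹ * h⁻¹)⁻¹ * (x * h) := by group
      _ = x * h := by rw [h4, inv_one, one_mul]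
  · rintro x ⟨hxM, hxC⟩
    exact ⟨Subgroup.centralizer_le_normalizer _ hxC, hxM⟩

end Cfsg.Agent.Helper4
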