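import Mathlib
import Cfsg.Agent.Helper4.HallCountC

set_option autoImplicit false
open scoped Pointwise

namespace Cfsg.Agent.Helper4

open Cfsg.Agent.Helper1

universe u

theorem goodProd_cntOrder : ∀ (k : ℕ) (G : Type u) [Group G] [Finite G] [Group.IsSolvable G],
    Nat.card G = k → ∀ m n : ℕ, Nat.card G = m * n → m.Coprime n →
    GoodProd G m (cntOrder G m) := by
  intro k
  induction k using Nat.strong_induction_on with
  | _ k ih =>
  intro G _ _ _ hk m n hmn hcop
  rcases subsingleton_or_nontrivial G with hs | hnt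
  · have h1 : Nat.card G = 1 := Nat.card_eq_one_iff_unique.2 ⟨hs, ⟨1⟩⟩
    have hm1 : m = 1 := by
      rw [h1] at hmn
      exact Nat.eq_one_of_mul_eq_one_right hmn.symm
    have hc : cntOrder G m = 1 := by
      unfold cntOrder
      rw [Nat.card_eq_one_iff_unique]
      refine ⟨⟨fun a b => Subtype.ext ?_⟩, ⟨⟨⊥, by rw [hm1, Subgroup.card_bot]⟩⟩⟩
      rw [Subgroup.eq_bot_of_subsingleton a.1, Subgroup.eq_bot_of_subsingleton b.1]
    rw [hc]
    exact GoodProd.one G m
  obtain ⟨p, hp, M, hMn, hMne, hMp, hMc, hMmin⟩ := exists_minimal_normal_abelian G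
  obtain ⟨hC, hD⟩ := hallProp_of_solvable _ G rfl m n hmn hcop
  obtain ⟨H, hHm, -⟩ := hD ⊥ (by rw [Subgroup.card_bot]; exact Nat.coprime_one_left n)
  have hconj : ∀ K : Subgroup G, Nat.card K = Nat.card H → ∃ g : G, MulAut.conj g • H = K := by
    intro K hK
    exact hC H K hHm (hK.trans hHm)
  have hcnt : cntOrder G m = (Subgroup.normalizer (H : Set G)).index := by
    rw [← hHm]; exact cntOrder_eq_index_normalizer H hconj
  have hcardG : Nat.card G = Nat.card (G ⧸ M) * Nat.card M :=
    Subgroup.card_eq_card_quotient_mul_card_subgroup M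
  have hM1 : 1 < Nat.card M := (Subgroup.one_lt_card_iff_ne_bot M).2 hMne
  have hQpos : 0 < Nat.card (G ⧸ M) := Nat.card_pos
  have hQlt : Nat.card (G ⧸ M) < k := by
    rw [← hk, hcardG]
    exact lt_mul_of_one_lt_right hQpos hM1
  have hQsolv : Group.IsSolvable (G ⧸ M) :=
    Group.isSolvable_of_surjective (QuotientGroup.mk'_surjective M)
  have hsurj := QuotientGroup.mk'_surjective M
  obtain ⟨e, he⟩ := IsPGroup.iff_card.1 hMp
  have hmpos : 0 < m := by
    rcases Nat.eq_zero_or_pos m with h | h
    · rw [h, zero_mul] at hmn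
      exact absurd hmn Nat.card_pos.ne'
    · exact h
  have hnpos : 0 < n := by
    rcases Nat.eq_zero_or_pos n with h | h
    · rw [h, mul_zero] at hmn
      exact absurd hmn Nat.card_pos.ne'
    · exact h
  have hMdvd : Nat.card M ∣ m * n := hmn ▸ Subgroup.card_subgroup_dvd_card M
  -- the normalizer of the image
  have hnormidx : (Subgroup.normalizer ((H.map (QuotientGroup.mk' M) : Subgroup (G ⧸ M)) :
      Set (G ⧸ M))).index = (Subgroup.normalizer ((H ⊔ M : Subgroup G) : Set G)).index := by
    rw [← Subgroup.index_comap_of_surjective _ hsurj,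
      Subgroup.comap_normalizer_eq_of_surjective _ hsurj, Subgroup.comap_map_eq,
      QuotientGroup.ker_mk']
  by_cases hpm : p ∣ m
  · -- `M ≤ H`
    have hpn : ¬ p ∣ n := by
      intro hpn
      exact hp.out.one_lt.ne' (Nat.eq_one_of_dvd_coprimes hcop hpm hpn)
    have hMn' : (Nat.card M).Coprime n := by
      rw [he]; exact Nat.Coprime.pow_left _ ((Nat.Prime.coprime_iff_not_dvd hp.out).2 hpn)
    have hMm : Nat.card M ∣ m := hMn'.dvd_of_dvd_mul_right hMdvd
    obtain ⟨m', hm'⟩ := hMm
    obtain ⟨H0, hH0m, hMH0⟩ := hD M hMn'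
    have hMH : M ≤ H := by
      obtain ⟨g, hg⟩ := hC H0 H hH0m hHm
      rw [← hg, ← conj_smul_normal M g]
      exact conj_smul_mono hMH0 g
    have hcardQ : Nat.card (G ⧸ M) = m' * n := by
      have h1 : Nat.card (G ⧸ M) * Nat.card M = (m' * n) * Nat.card M := by
        rw [← hcardG, hmn, hm']; ring
      exact Nat.eq_of_mul_eq_mul_right (by omega) h1
    have hm'm : m' ∣ m := Dvd.intro_left _ hm'.symm
    have hcop' : m'.Coprime n := Nat.Coprime.coprime_dvd_left hm'm hcop
    have hIH := ih _ hQlt (G ⧸ M) rfl m' n hcardQ hcop'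
    have hlift : GoodProd G m (cntOrder (G ⧸ M) m') := hIH.of_quotient M hm'm
    -- the counts agree
    have hcardHbar : Nat.card (H.map (QuotientGroup.mk' M)) = m' := by
      have h1 := card_map_mk'_mul_card M H hMH
      rw [hHm, hm', mul_comm] at h1
      exact Nat.eq_of_mul_eq_mul_left (by omega) h1
    obtain ⟨hCQ, -⟩ := hallProp_of_solvable _ (G ⧸ M) rfl m' n hcardQ hcop'
    have hcntQ : cntOrder (G ⧸ M) m' =
        (Subgroup.normalizer ((H.map (QuotientGroup.mk' M) : Subgroup (G ⧸ M)) :
          Set (G ⧸ M))).index := by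
      rw [← hcardHbar]
      apply cntOrder_eq_index_normalizer
      intro K hK
      exact hCQ _ K hcardHbar (hK.trans hcardHbar)
    have hsupeq : H ⊔ M = H := sup_eq_left.2 hMH
    rw [hcnt, ← hsupeq, ← hnormidx, ← hcntQ]
    exact hlift
  · -- `H ⊓ M = ⊥`
    have hMm' : (Nat.card M).Coprime m := by
      rw [he]; exact Nat.Coprime.pow_left _ ((Nat.Prime.coprime_iff_not_dvd hp.out).2 hpm)
    have hMn' : Nat.card M ∣ n := hMm'.dvd_of_dvd_mul_left hMdvd
    obtain ⟨n', hn'⟩ := hMn'
    have hcardQ : Nat.card (G ⧸ M) = m * n' := by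
      have h1 : Nat.card (G ⧸ M) * Nat.card M = (m * n') * Nat.card M := by
        rw [← hcardG, hmn, hn']; ring
      exact Nat.eq_of_mul_eq_mul_right (by omega) h1
    have hcop' : m.Coprime n' := Nat.Coprime.coprime_dvd_right (Dvd.intro_left _ hn'.symm) hcop
    have hIH := ih _ hQlt (G ⧸ M) rfl m n' hcardQ hcop'
    have hlift : GoodProd G m (cntOrder (G ⧸ M) m) := hIH.of_quotient M dvd_rfl
    have hHMcop : (Nat.card H).Coprime (Nat.card M) := by rw [hHm]; exact hMm'.symm
    have hinf : H ⊓ M = ⊥ := inf_eq_bot_of_coprime_card hHMcop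
    have hcardHbar : Nat.card (H.map (QuotientGroup.mk' M)) = m := by
      rw [card_map_mk'_of_disjoint M H hinf, hHm]
    obtain ⟨hCQ, -⟩ := hallProp_of_solvable _ (G ⧸ M) rfl m n' hcardQ hcop'
    have hcntQ : cntOrder (G ⧸ M) m =
        (Subgroup.normalizer ((H.map (QuotientGroup.mk' M) : Subgroup (G ⧸ M)) :
          Set (G ⧸ M))).index := by
      conv_lhs => rw [← hcardHbar]
      apply cntOrder_eq_index_normalizer
      intro K hK
      exact hCQ _ K hcardHbar (hK.trans hcardHbar)
    rw [hnormidx] at hcntQ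
    -- normalizers
    have hNle : Subgroup.normalizer (H : Set G) ≤
        Subgroup.normalizer ((H ⊔ M : Subgroup G) : Set G) := by
      intro g hg
      rw [Subgroup.mem_normalizer_iff]
      intro x
      have hsm : MulAut.conj g • (H ⊔ M) = H ⊔ M := by
        rw [Subgroup.smul_sup, conj_smul_normal M g,
          conj_smul_eq_of_mem_normalizer hg]
      constructor
      · intro hx
        rw [← hsm]
        exact conj_mem_conj_smul hx
      · intro hx
        rw [← hsm, mem_conj_smul] at hx
        have e : g⁻¹ * (g * x * g⁻¹) * g = x := by group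
        rwa [e] at hx
    have hsolHM : Group.IsSolvable (H ⊔ M : Subgroup G) :=
      Group.isSolvable_of_isSolvable_injective (Subgroup.subtype_injective _)
    have hfrat := normalizer_sup_le_of_hall H M hsolHM hHMcop
    have hNeq : Subgroup.normalizer ((H ⊔ M : Subgroup G) : Set G) =
        M ⊔ Subgroup.normalizer (H : Set G) := by
      apply le_antisymm hfrat
      apply sup_le _ hNle
      exact (le_sup_right : M ≤ H ⊔ M).trans Subgroup.le_normalizer
    have hrel : (Subgroup.normalizer (H : Set G)).relIndex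
        (Subgroup.normalizer ((H ⊔ M : Subgroup G) : Set G)) =
        (M ⊓ Subgroup.centralizer (H : Set G)).relIndex M := by
      rw [hNeq, relIndex_sup_of_le_normalizer' (le_normalizer_of_normal _ M),
        ← Subgroup.inf_relIndex_right, normalizer_inf_normal_eq_centralizer H M hinf]
    have hprod : cntOrder G m =
        (M ⊓ Subgroup.centralizer (H : Set G)).relIndex M * cntOrder (G ⧸ M) m := by
      rw [hcnt, hcntQ, ← hrel]
      exact (Subgroup.relIndex_mul_index hNle).symm
    rw [hprod]
    apply GoodProd.mul _ hlift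
    have hHsol : Group.IsSolvable H :=
      Group.isSolvable_of_isSolvable_injective (Subgroup.subtype_injective _)
    obtain ⟨l, hl, hl'⟩ := centralizer_relIndex_goodList M hMp _ H rfl hHsol
      (le_normalizer_of_normal H M) (by rw [hHm]; rw [he] at hMm'; exact
        (Nat.Coprime.symm hMm').coprime_dvd_right (dvd_pow_self p (by
          rintro rfl
          rw [pow_zero] at he
          omega)))
    refine ⟨l, hl, ?_⟩
    intro x hx
    obtain ⟨⟨e', he'⟩, hxM, q, hq, hqH, hx1⟩ := hl' x hx
    refine ⟨⟨p, e', hp.out, he'⟩, ⟨⊥, M, inferInstance, hMn, ?_, ?_, ?_⟩,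
      ⟨q, hq, hHm ▸ hqH, hx1⟩⟩
    · exact bot_lt_iff_ne_bot.2 hMne
    · intro K hK _ hKM
      exact hMmin K hK hKM
    · rw [Subgroup.relIndex_bot_left]; exact hxM

end Cfsg.Agent.Helper4
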