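import Mathlib
import Cfsg.Prelude.Def_HallClasses
import Cfsg.Agent.Helper1.WielandtNilpHall
import Cfsg.Agent.Helper1.FrobPCompl
import Cfsg.Agent.Helper1.FrobPCompl2
import Cfsg.Agent.Helper1.MinNonPNilp
import Cfsg.Agent.Helper1.PNilpBasic
import Cfsg.Agent.Helper1.Coprime
import Cfsg.Agent.Helper1.Carter
import Cfsg.Agent.Lead.SylowLemmas
import Cfsg.Agent.Helper4.ItoTwoA
import Cfsg.Agent.Helper4.PClassAbelSylow

/-!
# A `D_π` criterion (Wielandt-type)

If `G` has a Hall `π`-subgroup `H = Hs × Ht` with `Hs` a nilpotent `σ`-group, `Ht` a `τ`-group,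
`π = σ ∪ τ` disjoint, and `G` is a `D_τ`-group, then `G` is a `D_π`-group.
-/

set_option autoImplicit false

namespace Cfsg.Agent.Helper4.HallDPi

open scoped Pointwise
open Cfsg.Agent

variable {G : Type*} [Group G]

/-! ### Generalities -/

theorem mem_map_conj_inv {x z : G} {L : Subgroup G} :
    z ∈ L.map (MulAut.conj x⁻¹).toMonoidHom ↔ x * z * x⁻¹ ∈ L := by
  constructor
  · rintro ⟨w, hw, rfl⟩
    have e : x * ((MulAut.conj x⁻¹).toMonoidHom w) * x⁻¹ = w := by
      simp only [MulEquiv.coe_toMonoidHom, MulAut.conj_apply]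
      group
    rw [e]
    exact hw
  · intro h
    refine ⟨x * z * x⁻¹, h, ?_⟩
    simp only [MulEquiv.coe_toMonoidHom, MulAut.conj_apply]
    group

theorem mem_normalizer_of_conj_mem [Finite G] {H : Subgroup G} {g : G}
    (h1 : ∀ x ∈ H, g * x * g⁻¹ ∈ H) : g ∈ Subgroup.normalizer (H : Set G) := by
  have hinj : Function.Injective (fun x : H => (⟨g * x * g⁻¹, h1 x x.2⟩ : H)) := by
    intro x y hxy
    have h2 : g * (x : G) * g⁻¹ = g * (y : G) * g⁻¹ := congrArg Subtype.val hxy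
    have h3 : (x : G) = y := by simpa using h2
    exact Subtype.ext h3
  have hsurj := Finite.surjective_of_injective hinj
  rw [Subgroup.mem_normalizer_iff]
  intro x
  refine ⟨h1 x, fun hx => ?_⟩
  obtain ⟨y, hy⟩ := hsurj ⟨g * x * g⁻¹, hx⟩
  have h2 : g * (y : G) * g⁻¹ = g * x * g⁻¹ := congrArg Subtype.val hy
  have h3 : (y : G) = x := by simpa using h2
  rw [← h3]; exact y.2

theorem comm_of_conj_comm {x a b : G}
    (h : x * a * x⁻¹ * (x * b * x⁻¹) = x * b * x⁻¹ * (x * a * x⁻¹)) : a * b = b * a := by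
  have a1 : x * a * x⁻¹ * (x * b * x⁻¹) = x * (a * b) * x⁻¹ := by group
  have a2 : x * b * x⁻¹ * (x * a * x⁻¹) = x * (b * a) * x⁻¹ := by group
  rw [a1, a2] at h
  exact mul_left_cancel (mul_right_cancel h)

theorem le_sylow_of_le_normalizer [Finite G] {p : ℕ} [Fact p.Prime] (P : Sylow p G)
    {U : Subgroup G} (hU : IsPGroup p U)
    (hUN : U ≤ Subgroup.normalizer ((P : Subgroup G) : Set G)) : U ≤ (P : Subgroup G) := by
  intro u hu
  obtain ⟨k, hk⟩ := hU ⟨u, hu⟩
  have hk' : u ^ (p ^ k) = 1 := by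
    have := congrArg Subtype.val hk
    simpa using this
  exact PClassAbelSylow.mem_sylow_of_mem_normalizer P (hUN hu) hk'

theorem exists_maximal_ge [Finite G] (π : Set ℕ) (K : Subgroup G)
    (hK : Cfsg.IsPiSubgroup π K) :
    ∃ X : Subgroup G, K ≤ X ∧ Maximal (Cfsg.IsPiSubgroup π) X :=
  Finite.exists_le_maximal (p := Cfsg.IsPiSubgroup π) hK

/-- From a `p'`-element normalizing but not centralizing `Q`, extract one of prime power order. -/
theorem exists_prime_power_witness {K : Type*} [Group K] [Finite K] {p : ℕ} (Q : Subgroup K) :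
    ∀ (n : ℕ) (g : K), orderOf g = n → g ∈ Subgroup.normalizer (Q : Set K) →
      (orderOf g).Coprime p → g ∉ Subgroup.centralizer (Q : Set K) →
      ∃ (r : ℕ) (y : K), r.Prime ∧ r ≠ p ∧ y ∈ Subgroup.normalizer (Q : Set K) ∧
        (∃ k : ℕ, orderOf y = r ^ k) ∧ y ∉ Subgroup.centralizer (Q : Set K) := by
  intro n
  induction n using Nat.strong_induction_on with
  | _ n ih =>
  intro g hgn hg hcop hgC
  have hg1 : orderOf g ≠ 1 := by
    intro h
    rw [orderOf_eq_one_iff] at h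
    rw [h] at hgC
    exact hgC (Subgroup.one_mem _)
  obtain ⟨r, hr, hrd⟩ := Nat.exists_prime_and_dvd hg1
  have hrp : r ≠ p := by
    intro h
    rw [h] at hrd hr
    exact hr.one_lt.ne' ((Nat.coprime_self p).1 (Nat.Coprime.coprime_dvd_left hrd hcop))
  obtain ⟨c₁, c₂, hc₁, hc₂, hc₁o, hc₂o, hc⟩ := ItoTwo.exists_parts r hr g
  have hzN : Subgroup.zpowers g ≤ Subgroup.normalizer (Q : Set K) := by
    rw [Subgroup.zpowers_le]; exact hg
  by_cases h1 : c₁ ∈ Subgroup.centralizer (Q : Set K)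
  · have h2 : c₂ ∉ Subgroup.centralizer (Q : Set K) := by
      intro h2
      apply hgC
      rw [← hc]
      exact Subgroup.mul_mem _ h1 h2
    have hdvd : orderOf c₂ ∣ orderOf g := orderOf_dvd_of_mem_zpowers hc₂
    have hne : orderOf c₂ ≠ orderOf g := by
      intro h
      rw [h] at hc₂o
      exact hc₂o hrd
    have hlt : orderOf c₂ < n := by
      rw [← hgn]
      exact lt_of_le_of_ne (Nat.le_of_dvd (orderOf_pos g) hdvd) hne
    exact ih (orderOf c₂) hlt c₂ rfl (hzN hc₂) (Nat.Coprime.coprime_dvd_left hdvd hcop) h2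
  · exact ⟨r, c₁, hr, hrp, hzN hc₁, hc₁o, h1⟩

/-! ### The setup -/

structure HSetup (σ τ : Set ℕ) (H Hs Ht : Subgroup G) : Prop where
  hd : Disjoint σ τ
  hH : Cfsg.IsPiHall (σ ∪ τ) H
  hs : Cfsg.IsPiSubgroup σ Hs
  ht : Cfsg.IsPiSubgroup τ Ht
  hsn : Group.IsNilpotent Hs
  hjoin : Hs ⊔ Ht = H
  hcomm : ∀ a ∈ Hs, ∀ b ∈ Ht, a * b = b * a

namespace HSetup

variable {σ τ : Set ℕ} {H Hs Ht : Subgroup G} (S : HSetup σ τ H Hs Ht)
include S

theorem hH1 : ∀ p : ℕ, p.Prime → p ∣ Nat.card H → p ∈ σ ∪ τ := by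
  obtain ⟨h1, -⟩ := S.hH
  exact h1

theorem hH2 : ∀ p : ℕ, p.Prime → p ∈ σ ∪ τ → ¬ p ∣ H.index := by
  obtain ⟨-, h2⟩ := S.hH
  exact h2

theorem hs_le : Hs ≤ H := by
  rw [← S.hjoin]; exact le_sup_left

theorem ht_le : Ht ≤ H := by
  rw [← S.hjoin]; exact le_sup_right

theorem ht_le_centralizer : Ht ≤ Subgroup.centralizer (Hs : Set G) := by
  intro b hb
  rw [Subgroup.mem_centralizer_iff]
  intro a ha
  exact S.hcomm a ha b hb

theorem coprime_card : (Nat.card Ht).Coprime (Nat.card Hs) :=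
  Nat.coprime_of_dvd fun k hk h1 h2 =>
    Set.disjoint_left.1 S.hd (S.hs k hk h2) (S.ht k hk h1)

theorem inf_eq_bot : Ht ⊓ Hs = ⊥ := (Subgroup.disjoint_of_coprime_natCard S.coprime_card).eq_bot

variable [Finite G]

theorem card_eq : Nat.card H = Nat.card Ht * Nat.card Hs := by
  have h1 : Ht ≤ Subgroup.normalizer (Hs : Set G) :=
    S.ht_le_centralizer.trans (Subgroup.centralizer_le_normalizer _)
  have h2 := Helper1.card_sup_of_le_normalizer h1 S.inf_eq_bot
  rw [S.hjoin] at h2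
  exact h2

theorem not_dvd_index_s {p : ℕ} (hp : p.Prime) (hps : p ∈ σ) : ¬ p ∣ Hs.index := by
  intro hdvd
  have h1 : Hs.relIndex H * H.index = Hs.index := Subgroup.relIndex_mul_index S.hs_le
  have h2 : Hs.relIndex H * Nat.card Hs = Nat.card H := Helper1.relIndex_mul_card_of_le S.hs_le
  rw [S.card_eq] at h2
  have h3 : Hs.relIndex H = Nat.card Ht := Nat.eq_of_mul_eq_mul_right Nat.card_pos h2
  rw [← h1, h3] at hdvd
  rcases (Nat.Prime.dvd_mul hp).1 hdvd with h | h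
  · exact Set.disjoint_left.1 S.hd hps (S.ht p hp h)
  · exact S.hH2 p hp (Set.mem_union_left _ hps) h

theorem not_dvd_index_t {p : ℕ} (hp : p.Prime) (hpt : p ∈ τ) : ¬ p ∣ Ht.index := by
  intro hdvd
  have h1 : Ht.relIndex H * H.index = Ht.index := Subgroup.relIndex_mul_index S.ht_le
  have h2 : Ht.relIndex H * Nat.card Ht = Nat.card H := Helper1.relIndex_mul_card_of_le S.ht_le
  rw [S.card_eq, mul_comm (Nat.card Ht)] at h2
  have h3 : Ht.relIndex H = Nat.card Hs := Nat.eq_of_mul_eq_mul_right Nat.card_pos h2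
  rw [← h1, h3] at hdvd
  rcases (Nat.Prime.dvd_mul hp).1 hdvd with h | h
  · exact Set.disjoint_left.1 S.hd (S.hs p hp h) hpt
  · exact S.hH2 p hp (Set.mem_union_right _ hpt) h

theorem coprime_index_s : (Nat.card Hs).Coprime Hs.index :=
  Nat.coprime_of_dvd fun k hk h1 h2 => S.not_dvd_index_s hk (S.hs k hk h1) h2

theorem exists_sylow_dec (p : ℕ) [hp : Fact p.Prime] (hps : p ∈ σ) :
    ∃ PH : Sylow p G, (PH : Subgroup G) ≤ Hs ∧
      H ≤ Subgroup.normalizer ((PH : Subgroup G) : Set G) ∧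
      ∀ y ∈ H, (orderOf y).Coprime p →
        y ∈ Subgroup.centralizer ((PH : Subgroup G) : Set G) := by
  obtain ⟨P, Q, hPle, hQle, hPp, hQcop, hcard, hQC, hPcard⟩ :=
    Helper1.nilpotent_decomp Hs S.hsn p
  have hfac : (Nat.card Hs).factorization p = (Nat.card G).factorization p := by
    have h1 : Nat.card Hs * Hs.index = Nat.card G := Hs.card_mul_index
    rw [← h1, Nat.factorization_mul Nat.card_pos.ne' Subgroup.index_ne_zero_of_finite,
      Finsupp.add_apply,
      Nat.factorization_eq_zero_of_not_dvd (S.not_dvd_index_s hp.out hps), add_zero]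
  rw [hfac] at hPcard
  have hPQ : Q ⊓ P = ⊥ := by
    apply Disjoint.eq_bot
    apply Subgroup.disjoint_of_coprime_natCard
    rw [hPcard]
    exact Nat.Coprime.pow_right _ hQcop
  have hQN : Q ≤ Subgroup.normalizer (P : Set G) :=
    hQC.trans (Subgroup.centralizer_le_normalizer _)
  have hc := Helper1.card_sup_of_le_normalizer hQN hPQ
  have hle : P ⊔ Q ≤ Hs := sup_le hPle hQle
  have heq : P ⊔ Q = Hs :=
    Subgroup.eq_of_le_of_card_ge hle (le_of_eq (by rw [hc, mul_comm, hcard]))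
  have hXC : Q ⊔ Ht ≤ Subgroup.centralizer (P : Set G) :=
    sup_le hQC (S.ht_le_centralizer.trans (Subgroup.centralizer_le (fun z hz => hPle hz)))
  have hXN : Q ⊔ Ht ≤ Subgroup.normalizer (P : Set G) :=
    hXC.trans (Subgroup.centralizer_le_normalizer _)
  have hH' : H = P ⊔ (Q ⊔ Ht) := by rw [← sup_assoc, heq, S.hjoin]
  have hdec : ∀ y ∈ H, ∃ u ∈ P, ∃ c ∈ Q ⊔ Ht, y = u * c := by
    intro y hy
    rw [hH'] at hy
    exact Helper1.mem_sup_of_le_normalizer hXN hy
  refine ⟨Sylow.ofCard P hPcard, ?_, ?_, ?_⟩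
  · exact hPle
  · intro y hy
    obtain ⟨u, hu, c, hc, rfl⟩ := hdec y hy
    exact Subgroup.mul_mem _ (Subgroup.le_normalizer hu) (hXN hc)
  · intro y hy hcop
    obtain ⟨u, hu, c, hc, rfl⟩ := hdec y hy
    have hcu : u * c = c * u := Subgroup.mem_centralizer_iff.1 (hXC hc) u hu
    have hcomm' : Commute u c := hcu
    have h1 : (u * c) ^ (orderOf (u * c)) = 1 := pow_orderOf_eq_one _
    rw [hcomm'.mul_pow] at h1
    have h2 : u ^ (orderOf (u * c)) = (c ^ (orderOf (u * c)))⁻¹ := eq_inv_of_mul_eq_one_left h1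
    have h3 : u ^ (orderOf (u * c)) ∈ Subgroup.centralizer (P : Set G) := by
      rw [h2]; exact Subgroup.inv_mem _ (Subgroup.pow_mem _ (hXC hc) _)
    obtain ⟨k, hk⟩ := (IsPGroup.iff_orderOf.1 hPp) ⟨u, hu⟩
    have hk' : orderOf u = p ^ k := (Subgroup.orderOf_coe (⟨u, hu⟩ : P)).trans hk
    have hcop' : Nat.Coprime (orderOf (u * c)) (orderOf u) := by
      rw [hk']; exact Nat.Coprime.pow_right k hcop
    obtain ⟨j, hj⟩ := exists_pow_eq_self_of_coprime hcop'
    have h4 : (u ^ (orderOf (u * c))) ^ j ∈ Subgroup.centralizer (P : Set G) :=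
      Subgroup.pow_mem _ h3 j
    rw [hj] at h4
    exact Subgroup.mul_mem _ h4 (hXC hc)

theorem exists_sylow_t (r : ℕ) [hr : Fact r.Prime] (hrt : r ∈ τ) :
    ∃ RH : Sylow r G, (RH : Subgroup G) ≤ Ht := by
  obtain ⟨R, -, hR⟩ := PClassAbelSylow.exists_sylow_le (S.not_dvd_index_t hr.out hrt)
    (IsPGroup.of_bot : IsPGroup r (⊥ : Subgroup G)) bot_le
  exact ⟨R, hR⟩

theorem hnpc (p : ℕ) [hp : Fact p.Prime] (hps : p ∈ σ) : Cfsg.HasNormalPComplement p H := by
  obtain ⟨PH, hPHs, hPHN, hPHC⟩ := S.exists_sylow_dec p hps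
  apply Helper1.frobenius_pcomplement
  unfold Helper1.PLocalCentral
  intro Q hQ g hg hcop
  have hQ' : IsPGroup p (Q.map H.subtype) := hQ.map _
  have hQle : Q.map H.subtype ≤ (PH : Subgroup G) := by
    apply le_sylow_of_le_normalizer PH hQ'
    rintro _ ⟨x, -, rfl⟩
    exact hPHN x.2
  have hgC : (g : G) ∈ Subgroup.centralizer ((PH : Subgroup G) : Set G) :=
    hPHC g g.2 (by rw [Subgroup.orderOf_coe]; exact hcop)
  rw [Subgroup.mem_centralizer_iff]
  intro q hq
  apply Subtype.ext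
  have := Subgroup.mem_centralizer_iff.1 hgC (q : G) (hQle ⟨q, hq, rfl⟩)
  exact this

theorem maximal_t : Maximal (Cfsg.IsPiSubgroup τ) Ht := by
  refine ⟨S.ht, fun X hX hle => ?_⟩
  rw [← Subgroup.relIndex_eq_one]
  by_contra hne
  obtain ⟨q, hq, hqd⟩ := Nat.exists_prime_and_dvd hne
  have h1 : q ∣ Nat.card X :=
    hqd.trans ⟨Nat.card Ht, (Helper1.relIndex_mul_card_of_le hle).symm⟩
  have h2 : q ∣ Ht.index := hqd.trans (Subgroup.relIndex_dvd_index_of_le hle)
  exact S.not_dvd_index_t hq (hX q hq h1) h2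

/-- Case A: `K` has a normal `p`-complement. -/
theorem caseA (p : ℕ) [hp : Fact p.Prime] (hps : p ∈ σ) (K : Subgroup G)
    (hKπ : Cfsg.IsPiSubgroup (σ ∪ τ) K) (hpK : p ∣ Nat.card K)
    (ih : ∀ K' : Subgroup G, Nat.card K' < Nat.card K → Cfsg.IsPiSubgroup (σ ∪ τ) K' →
      ∃ x : G, ∀ k ∈ K', x * k * x⁻¹ ∈ H)
    (hnp : Cfsg.HasNormalPComplement p K) : ∃ x : G, ∀ k ∈ K, x * k * x⁻¹ ∈ H := by
  obtain ⟨PH, hPHs, hPHN, hPHC⟩ := S.exists_sylow_dec p hps
  obtain ⟨P₀, M, hMn, hcompl⟩ := hnp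
  have hcardM : Nat.card (M.map K.subtype) = Nat.card M :=
    Subgroup.card_map_of_injective K.subtype_injective
  have hM₀K : M.map K.subtype ≤ K := by
    rintro _ ⟨z, -, rfl⟩
    exact z.2
  have hidx : (P₀ : Subgroup K).index = Nat.card M := hcompl.index_eq_card
  have hP₀ : p ∣ Nat.card (P₀ : Subgroup K) := by
    rw [P₀.card_eq_multiplicity]
    exact dvd_pow_self p (Nat.Prime.factorization_pos_of_dvd hp.out Nat.card_pos.ne' hpK).ne'
  have e1 : Nat.card (P₀ : Subgroup K) * Nat.card M = Nat.card K := by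
    rw [← hidx]; exact Subgroup.card_mul_index _
  have hlt : Nat.card (M.map K.subtype) < Nat.card K := by
    rw [hcardM, ← e1]
    have h2 : 2 ≤ Nat.card (P₀ : Subgroup K) :=
      hp.out.two_le.trans (Nat.le_of_dvd Nat.card_pos hP₀)
    have h3 : 0 < Nat.card M := Nat.card_pos
    nlinarith
  have hMπ : Cfsg.IsPiSubgroup (σ ∪ τ) (M.map K.subtype) := fun q hq hqd =>
    hKπ q hq (hqd.trans (Subgroup.card_dvd_of_le hM₀K))
  obtain ⟨x, hx⟩ := ih _ hlt hMπ
  have hMcop : (Nat.card (M.map K.subtype)).Coprime p := by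
    rw [hcardM, ← hidx]
    exact ((Nat.Prime.coprime_iff_not_dvd hp.out).2 P₀.not_dvd_index).symm
  have hconjC : ∀ m ∈ M.map K.subtype,
      x * m * x⁻¹ ∈ Subgroup.centralizer ((PH : Subgroup G) : Set G) := by
    intro m hm
    apply hPHC _ (hx m hm)
    have h1 : orderOf (x * m * x⁻¹) = orderOf m := MulEquiv.orderOf_eq (MulAut.conj x) m
    rw [h1]
    exact Nat.Coprime.coprime_dvd_left (Subgroup.orderOf_dvd_natCard _ hm) hMcop
  have hAC : (PH : Subgroup G).map (MulAut.conj x⁻¹).toMonoidHom ≤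
      Subgroup.centralizer ((M.map K.subtype : Subgroup G) : Set G) := by
    intro z hz
    rw [Subgroup.mem_centralizer_iff]
    intro m hm
    have h1 := Subgroup.mem_centralizer_iff.1 (hconjC m hm) (x * z * x⁻¹)
      (mem_map_conj_inv.1 hz)
    exact (comm_of_conj_comm h1).symm
  have hKN : K ≤ Subgroup.normalizer ((M.map K.subtype : Subgroup G) : Set G) := by
    intro k hk
    apply mem_normalizer_of_conj_mem
    rintro _ ⟨m, hm, rfl⟩
    exact ⟨⟨k, hk⟩ * m * ⟨k, hk⟩⁻¹, hMn.conj_mem m hm ⟨k, hk⟩, rfl⟩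
  have hAN := hAC.trans (Subgroup.centralizer_le_normalizer _)
  have hAp : IsPGroup p ((PH : Subgroup G).map (MulAut.conj x⁻¹).toMonoidHom) := PH.2.map _
  have hAcard0 : Nat.card ((PH : Subgroup G).map (MulAut.conj x⁻¹).toMonoidHom) =
      p ^ (Nat.card (⊤ : Subgroup G)).factorization p := by
    rw [Lead.card_map_conj, Subgroup.card_top]; exact PH.card_eq_multiplicity
  have hAcard := Lead.card_eq_ppart_of_le hAN le_top hAp hAcard0
  have hP₁p : IsPGroup p ((P₀ : Subgroup K).map K.subtype) := P₀.2.map _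
  have hP₁N : (P₀ : Subgroup K).map K.subtype ≤
      Subgroup.normalizer ((M.map K.subtype : Subgroup G) : Set G) := by
    rintro _ ⟨u, -, rfl⟩
    exact hKN u.2
  obtain ⟨g, hgN, hg⟩ := Lead.exists_conj_le_of_card_eq_ppart hAN hAcard hP₁N hP₁p
  refine ⟨x * g, fun k hk => ?_⟩
  have hbij : Function.Bijective
      (fun a : ↥(M : Set K) × ↥((P₀ : Subgroup K) : Set K) => a.1.1 * a.2.1) := hcompl
  obtain ⟨⟨⟨m, hm⟩, ⟨u, hu⟩⟩, hmu⟩ := hbij.2 ⟨k, hk⟩
  have hmu' : (m : G) * (u : G) = k := congrArg Subtype.val hmu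
  have e : x * g * k * (x * g)⁻¹ =
      (x * (g * (m : G) * g⁻¹) * x⁻¹) * (x * (g * (u : G) * g⁻¹) * x⁻¹) := by
    rw [← hmu']; group
  rw [e]
  apply H.mul_mem
  · apply hx
    exact (Subgroup.mem_normalizer_iff.1 hgN (m : G)).1 ⟨m, hm, rfl⟩
  · apply S.hs_le
    apply hPHs
    have h1 : g * (u : G) * g⁻¹ ∈ (PH : Subgroup G).map (MulAut.conj x⁻¹).toMonoidHom :=
      hg ⟨(u : G), ⟨u, hu, rfl⟩, rfl⟩
    exact mem_map_conj_inv.1 h1

/-- Case B: `K` has no normal `p`-complement. -/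
theorem caseB (p : ℕ) [hp : Fact p.Prime] (hps : p ∈ σ) (K : Subgroup G)
    (hKπ : Cfsg.IsPiSubgroup (σ ∪ τ) K)
    (ih : ∀ K' : Subgroup G, Nat.card K' < Nat.card K → Cfsg.IsPiSubgroup (σ ∪ τ) K' →
      ∃ x : G, ∀ k ∈ K', x * k * x⁻¹ ∈ H)
    (hnp : ¬ Cfsg.HasNormalPComplement p K) : ∃ x : G, ∀ k ∈ K, x * k * x⁻¹ ∈ H := by
  obtain ⟨PH, hPHs, hPHN, hPHC⟩ := S.exists_sylow_dec p hps
  have hPN : ∀ L : Subgroup K, L ≠ ⊤ → Cfsg.HasNormalPComplement p L := by
    intro L hL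
    have hcardL : Nat.card (L.map K.subtype) = Nat.card L :=
      Subgroup.card_map_of_injective K.subtype_injective
    have hlt : Nat.card (L.map K.subtype) < Nat.card K := by
      rw [hcardL]; exact Helper1.card_lt_of_ne_top hL
    have hLK : L.map K.subtype ≤ K := by
      rintro _ ⟨z, -, rfl⟩; exact z.2
    have hLπ : Cfsg.IsPiSubgroup (σ ∪ τ) (L.map K.subtype) := fun q hq hqd =>
      hKπ q hq (hqd.trans (Subgroup.card_dvd_of_le hLK))
    obtain ⟨x, hx⟩ := ih _ hlt hLπ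
    have hle : (L.map K.subtype).map (MulAut.conj x).toMonoidHom ≤ H := by
      rintro _ ⟨z, hz, rfl⟩; exact hx z hz
    have h1 := Helper1.hasNormalPComplement_of_le hle (S.hnpc p hps)
    have e1 : L ≃* (L.map K.subtype) := L.equivMapOfInjective K.subtype K.subtype_injective
    have e2 : (L.map K.subtype) ≃* ((L.map K.subtype).map (MulAut.conj x).toMonoidHom) :=
      (L.map K.subtype).equivMapOfInjective _ (MulAut.conj x).injective
    exact Helper1.hasNormalPComplement_of_mulEquiv (e1.trans e2).symm h1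
  have hnB : ¬ Helper1.PLocalCentral p K := fun hB => hnp (Helper1.frobenius_pcomplement hB)
  unfold Helper1.PLocalCentral at hnB
  push Not at hnB
  obtain ⟨Q, hQ, g, hg, hcop, hgC⟩ := hnB
  obtain ⟨r, y, hr, hrp, hyN, ⟨e, hye⟩, hyC⟩ :=
    exists_prime_power_witness Q (orderOf g) g rfl hg hcop hgC
  have hycop : (orderOf y).Coprime p := by
    rw [hye]; exact Nat.Coprime.pow_left e ((Nat.coprime_primes hr hp.out).2 hrp)
  have hQy : Q ⊔ Subgroup.zpowers y = ⊤ := by
    by_contra hne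
    apply hyC
    exact Helper1.mem_centralizer_of_plocalCentral_subgroup _
      (Helper1.plocalCentral_of_hasNormalPComplement (hPN _ hne)) Q hQ le_sup_left y
      (Subgroup.mem_sup_right (Subgroup.mem_zpowers y)) hyN hycop
  have hy1 : y ≠ 1 := by
    intro h
    rw [h] at hyC
    exact hyC (Subgroup.one_mem _)
  have he : e ≠ 0 := by
    intro h
    rw [h, pow_zero, orderOf_eq_one_iff] at hye
    exact hy1 hye
  obtain ⟨a, hQa⟩ := IsPGroup.iff_card.1 hQ
  have hzN : Subgroup.zpowers y ≤ Subgroup.normalizer (Q : Set K) := by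
    rw [Subgroup.zpowers_le]; exact hyN
  have hdisj : Subgroup.zpowers y ⊓ Q = ⊥ := by
    apply Disjoint.eq_bot
    apply Subgroup.disjoint_of_coprime_natCard
    rw [Nat.card_zpowers, hye, hQa]
    exact Nat.Coprime.pow _ _ ((Nat.coprime_primes hr hp.out).2 hrp)
  have hcard : Nat.card K = r ^ e * p ^ a := by
    have h1 := Helper1.card_sup_of_le_normalizer hzN hdisj
    rw [hQy, Subgroup.card_top, Nat.card_zpowers, hye, hQa] at h1
    exact h1
  have hprimes : ∀ q : ℕ, q.Prime → q ∣ Nat.card K → q = r ∨ q = p := by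
    intro q hq hqd
    rw [hcard] at hqd
    rcases (Nat.Prime.dvd_mul hq).1 hqd with h | h
    · exact Or.inl ((Nat.prime_dvd_prime_iff_eq hq hr).1 (hq.dvd_of_dvd_pow h))
    · exact Or.inr ((Nat.prime_dvd_prime_iff_eq hq hp.out).1 (hq.dvd_of_dvd_pow h))
  have hrK : r ∣ Nat.card K := by
    rw [hcard]; exact Dvd.dvd.mul_right (dvd_pow_self r he) _
  rcases hKπ r hr hrK with hrσ | hrτ
  · -- `K` is a `σ`-group: Wielandt
    have hK' : ∀ q : ℕ, q.Prime → q ∣ Nat.card K → q ∣ Nat.card Hs := by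
      intro q hq hqd
      have hqσ : q ∈ σ := by
        rcases hprimes q hq hqd with h | h
        · rw [h]; exact hrσ
        · rw [h]; exact hps
      have h1 : q ∣ Nat.card Hs * Hs.index := by
        rw [Hs.card_mul_index]; exact hqd.trans (Subgroup.card_subgroup_dvd_card K)
      exact ((Nat.Prime.dvd_mul hq).1 h1).resolve_right (S.not_dvd_index_s hq hqσ)
    obtain ⟨x, hx⟩ := Helper1.wielandt_nilpotent_hall Hs K S.hsn S.coprime_index_s hK'
    refine ⟨x⁻¹, fun k hk => ?_⟩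
    have h1 := PClassAbelSylow.mem_conj_smul.1 (hx hk)
    apply S.hs_le
    rw [inv_inv]
    exact h1
  · -- contradiction
    exfalso
    have : Fact r.Prime := ⟨hr⟩
    have hcardQ₀ : Nat.card (Q.map K.subtype) = Nat.card Q :=
      Subgroup.card_map_of_injective K.subtype_injective
    have hQ₀K : Q.map K.subtype ≤ K := by
      rintro _ ⟨z, -, rfl⟩; exact z.2
    have hlt : Nat.card (Q.map K.subtype) < Nat.card K := by
      rw [hcardQ₀, hcard, hQa]
      have h2 : 2 ≤ r ^ e := by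
        calc 2 ≤ r := hr.two_le
          _ = r ^ 1 := (pow_one r).symm
          _ ≤ r ^ e := Nat.pow_le_pow_right hr.pos (Nat.one_le_iff_ne_zero.2 he)
      have h3 : 0 < p ^ a := pow_pos hp.out.pos a
      nlinarith
    have hQπ : Cfsg.IsPiSubgroup (σ ∪ τ) (Q.map K.subtype) := fun q hq hqd =>
      hKπ q hq (hqd.trans (Subgroup.card_dvd_of_le hQ₀K))
    obtain ⟨x, hx⟩ := ih _ hlt hQπ
    have hQ₀p : IsPGroup p (Q.map K.subtype) := hQ.map _
    have hQ₀PH : ∀ q ∈ Q.map K.subtype, x * q * x⁻¹ ∈ (PH : Subgroup G) := by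
      have hU : ((Q.map K.subtype).map (MulAut.conj x).toMonoidHom) ≤ (PH : Subgroup G) := by
        apply le_sylow_of_le_normalizer PH (hQ₀p.map _)
        rintro _ ⟨z, hz, rfl⟩
        exact hPHN (hx z hz)
      intro q hq
      exact hU ⟨q, hq, rfl⟩
    obtain ⟨RH, hRH⟩ := S.exists_sylow_t r hrτ
    have hRHC : (RH : Subgroup G) ≤ Subgroup.centralizer ((PH : Subgroup G) : Set G) :=
      hRH.trans (S.ht_le_centralizer.trans (Subgroup.centralizer_le (fun z hz => hPHs hz)))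
    have hBC : (RH : Subgroup G).map (MulAut.conj x⁻¹).toMonoidHom ≤
        Subgroup.centralizer ((Q.map K.subtype : Subgroup G) : Set G) := by
      intro z hz
      rw [Subgroup.mem_centralizer_iff]
      intro q hq
      have h1 := Subgroup.mem_centralizer_iff.1 (hRHC (mem_map_conj_inv.1 hz)) (x * q * x⁻¹)
        (hQ₀PH q hq)
      exact comm_of_conj_comm h1
    have hBN := hBC.trans (Subgroup.centralizer_le_normalizer _)
    have hBp : IsPGroup r ((RH : Subgroup G).map (MulAut.conj x⁻¹).toMonoidHom) := RH.2.map _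
    have hBcard0 : Nat.card ((RH : Subgroup G).map (MulAut.conj x⁻¹).toMonoidHom) =
        r ^ (Nat.card (⊤ : Subgroup G)).factorization r := by
      rw [Lead.card_map_conj, Subgroup.card_top]; exact RH.card_eq_multiplicity
    have hBcard := Lead.card_eq_ppart_of_le hBN le_top hBp hBcard0
    have hyN' : (y : G) ∈ Subgroup.normalizer ((Q.map K.subtype : Subgroup G) : Set G) := by
      apply mem_normalizer_of_conj_mem
      rintro _ ⟨q, hq, rfl⟩
      exact ⟨y * q * y⁻¹, (Subgroup.mem_normalizer_iff.1 hyN q).1 hq, rfl⟩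
    have hTN : Subgroup.zpowers (y : G) ≤
        Subgroup.normalizer ((Q.map K.subtype : Subgroup G) : Set G) := by
      rw [Subgroup.zpowers_le]; exact hyN'
    have hTr : IsPGroup r (Subgroup.zpowers (y : G)) := by
      apply IsPGroup.of_card (n := e)
      rw [Nat.card_zpowers, Subgroup.orderOf_coe, hye]
    obtain ⟨n', hn'N, hn'⟩ := Lead.exists_conj_le_of_card_eq_ppart hBN hBcard hTN hTr
    have h1 : n' * (y : G) * n'⁻¹ ∈
        Subgroup.centralizer ((Q.map K.subtype : Subgroup G) : Set G) :=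
      hBC (hn' ⟨(y : G), Subgroup.mem_zpowers _, rfl⟩)
    apply hyC
    rw [Subgroup.mem_centralizer_iff]
    intro q hq
    apply Subtype.ext
    have hq' : n' * (q : G) * n'⁻¹ ∈ Q.map K.subtype :=
      (Subgroup.mem_normalizer_iff.1 hn'N (q : G)).1 ⟨q, hq, rfl⟩
    have h2 := Subgroup.mem_centralizer_iff.1 h1 _ hq'
    exact comm_of_conj_comm h2

/-- Every `π`-subgroup is conjugate into `H`. -/
theorem conj_le (hD : Cfsg.IsDPiGroup τ G) :
    ∀ (n : ℕ) (K : Subgroup G), Nat.card K = n → Cfsg.IsPiSubgroup (σ ∪ τ) K →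
      ∃ x : G, ∀ k ∈ K, x * k * x⁻¹ ∈ H := by
  intro n
  induction n using Nat.strong_induction_on with
  | _ n ih =>
  intro K hKn hKπ
  subst hKn
  have ih' : ∀ K' : Subgroup G, Nat.card K' < Nat.card K → Cfsg.IsPiSubgroup (σ ∪ τ) K' →
      ∃ x : G, ∀ k ∈ K', x * k * x⁻¹ ∈ H := fun K' hlt hπ' => ih _ hlt K' rfl hπ'
  by_cases hcase : ∃ p : ℕ, p.Prime ∧ p ∈ σ ∧ p ∣ Nat.card K
  · obtain ⟨p, hp, hps, hpK⟩ := hcase
    have : Fact p.Prime := ⟨hp⟩
    by_cases hnp : Cfsg.HasNormalPComplement p K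
    · exact S.caseA p hps K hKπ hpK ih' hnp
    · exact S.caseB p hps K hKπ ih' hnp
  · push Not at hcase
    have hKτ : Cfsg.IsPiSubgroup τ K := by
      intro q hq hqd
      rcases hKπ q hq hqd with h | h
      · exact absurd hqd (hcase q hq h)
      · exact h
    obtain ⟨X, hKX, hXmax⟩ := exists_maximal_ge τ K hKτ
    obtain ⟨g, hg⟩ := hD X Ht hXmax S.maximal_t
    refine ⟨g, fun k hk => ?_⟩
    apply S.ht_le
    rw [hg]
    exact ⟨k, hKX hk, rfl⟩

end HSetup

theorem main {G : Type*} [Group G] [Finite G]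
    (σ τ π : Set ℕ) (hπ : π = σ ∪ τ) (hd : Disjoint σ τ) (H Hs Ht : Subgroup G)
    (hH : Cfsg.IsPiHall π H)
    (hs : Cfsg.IsPiSubgroup σ Hs) (ht : Cfsg.IsPiSubgroup τ Ht) (hsn : Group.IsNilpotent Hs)
    (hjoin : Hs ⊔ Ht = H) (hcomm : ∀ a ∈ Hs, ∀ b ∈ Ht, a * b = b * a)
    (hD : Cfsg.IsDPiGroup τ G) :
    Cfsg.IsDPiGroup π G := by
  subst hπ
  have S : HSetup σ τ H Hs Ht := ⟨hd, hH, hs, ht, hsn, hjoin, hcomm⟩
  have key : ∀ X : Subgroup G, Maximal (Cfsg.IsPiSubgroup (σ ∪ τ)) X →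
      ∃ x : G, X = H.map (MulAut.conj x).toMonoidHom := by
    intro X hX
    obtain ⟨x, hx⟩ := S.conj_le hD _ X rfl hX.prop
    refine ⟨x⁻¹, ?_⟩
    have hle : X ≤ H.map (MulAut.conj x⁻¹).toMonoidHom :=
      fun k hk => mem_map_conj_inv.2 (hx k hk)
    have hπ' : Cfsg.IsPiSubgroup (σ ∪ τ) (H.map (MulAut.conj x⁻¹).toMonoidHom) := by
      intro q hq hqd
      rw [Lead.card_map_conj] at hqd
      exact S.hH1 q hq hqd
    exact le_antisymm hle (hX.le_of_ge hπ' hle)
  intro X Y hX hY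
  obtain ⟨x, rfl⟩ := key X hX
  obtain ⟨y, rfl⟩ := key Y hY
  refine ⟨y * x⁻¹, ?_⟩
  ext z
  simp only [Subgroup.mem_map]
  constructor
  · rintro ⟨h, hh, rfl⟩
    refine ⟨(MulAut.conj x) h, ⟨h, hh, rfl⟩, ?_⟩
    simp only [MulEquiv.coe_toMonoidHom, MulAut.conj_apply]
    group
  · rintro ⟨_, ⟨h, hh, rfl⟩, rfl⟩
    refine ⟨h, hh, ?_⟩
    simp only [MulEquiv.coe_toMonoidHom, MulAut.conj_apply]
    group

end Cfsg.Agent.Helper4.HallDPi
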