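import Mathlib
import Cfsg.Agent.Helper4.HallEnumA

set_option autoImplicit false

/-!
Second-order Wielandt count.
-/

namespace Cfsg.Agent.Helper4.HallEnum

open scoped Pointwise
open MulAction Cfsg.Agent.Helper3

section Count

variable {G : Type*} [Group G] [Fintype G] [DecidableEq G] [Fintype (Subgroup G)]
  [DecidableLE (Subgroup G)]

theorem hall_count (p β N : ℕ) (hp : p.Prime) (hn : Fintype.card G = p ^ (β + 1) * N) :
    ∃ y t : ℕ,
      (p ^ (β + 1) * N).choose (p ^ (β + 1)) =
        (Finset.univ.filter (fun L : Subgroup G => Nat.card L = p ^ (β + 1))).card * N + y +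
          p ^ 2 * N * t ∧
      (Finset.univ.filter (fun K : Subgroup G => Nat.card K = p ^ β)).card * (p * N).choose p =
        N * ∑ L ∈ Finset.univ.filter (fun L : Subgroup G => Nat.card L = p ^ (β + 1)),
          ((Finset.univ.filter (fun K : Subgroup G => Nat.card K = p ^ β)).filter
            (fun K => K ≤ L)).card + y := by
  classical
  set k := p ^ (β + 1) with hk
  have hkpos : 0 < k := pow_pos hp.pos _
  have hkβ : k = p * p ^ β := pow_succ' p β
  have hβpos : 0 < p ^ β := pow_pos hp.pos β
  have hne : k ≠ p ^ β := by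
    rw [hkβ]
    intro h
    have : p * p ^ β = 1 * p ^ β := by rw [h, one_mul]
    have := Nat.eq_of_mul_eq_mul_right hβpos this
    exact hp.one_lt.ne' this
  have hcardG : Nat.card G = k * N := by rw [Nat.card_eq_fintype_card, hn]
  have hNpos : 0 < N := by
    rcases Nat.eq_zero_or_pos N with h | h
    · rw [h, mul_zero] at hn
      exact absurd hn Fintype.card_pos.ne'
    · exact h
  set Y : Finset (Finset G) := Finset.powersetCard k Finset.univ with hY
  have hYcard : Y.card = (k * N).choose k := by
    rw [hY, Finset.card_powersetCard, Finset.card_univ, hn]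
  set Y₁ := Y.filter (fun X => Nat.card (stabilizer G X) = k) with hY₁
  set Y₁' := Y.filter (fun X => ¬ Nat.card (stabilizer G X) = k) with hY₁'
  set Y₂ := Y₁'.filter (fun X => Nat.card (stabilizer G X) = p ^ β) with hY₂
  set Y₃ := Y₁'.filter (fun X => ¬ Nat.card (stabilizer G X) = p ^ β) with hY₃
  have hsplit1 : Y₁.card + Y₁'.card = Y.card := Finset.card_filter_add_card_filter_not _
  have hsplit2 : Y₂.card + Y₃.card = Y₁'.card := Finset.card_filter_add_card_filter_not _
  set SL := Finset.univ.filter (fun L : Subgroup G => Nat.card L = k) with hSL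
  set SK := Finset.univ.filter (fun K : Subgroup G => Nat.card K = p ^ β) with hSK
  -- stabilizer orders
  have hstab : ∀ X ∈ Y, ∃ j, j ≤ β + 1 ∧ Nat.card (stabilizer G X) = p ^ j := by
    intro X hX
    rw [hY, Finset.mem_powersetCard_univ] at hX
    have hdvd : Nat.card (stabilizer G X) ∣ p ^ (β + 1) := by
      have := card_stabilizer_dvd_card X
      rwa [hX] at this
    exact (Nat.dvd_prime_pow hp).1 hdvd
  -- Y₁
  have hY₁card : Y₁.card = SL.card * N := by
    have h := sum_stabilizer_weight (G := G) k N hkpos hn (fun _ => 1)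
    simp only [Finset.sum_const, smul_eq_mul, mul_one] at h
    rw [hY₁, hY, h, mul_comm]
  -- Y₃
  have hY₃dvd : p ^ 2 * N ∣ Y₃.card := by
    apply dvd_card_finset_of_dvd_index (S := G) (α := Finset G) _ Y₃
    · intro g X hX
      rw [hY₃, Finset.mem_filter, hY₁', Finset.mem_filter, hY, Finset.mem_powersetCard_univ] at hX ⊢
      refine ⟨⟨by rw [Finset.card_smul_finset]; exact hX.1.1, ?_⟩, ?_⟩
      · rw [card_stabilizer_smul]; exact hX.1.2
      · rw [card_stabilizer_smul]; exact hX.2
    · intro X hX
      rw [hY₃, Finset.mem_filter, hY₁', Finset.mem_filter] at hX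
      obtain ⟨j, hj, hSj⟩ := hstab X hX.1.1
      have hjlt : j + 2 ≤ β + 1 := by
        have h1 : j ≠ β + 1 := fun h => hX.1.2 (by rw [hSj, h])
        have h2 : j ≠ β := fun h => hX.2 (by rw [hSj, h])
        omega
      have hidx : (stabilizer G X).index * p ^ j = p ^ (β + 1) * N := by
        rw [← hSj, Subgroup.index_mul_card, hcardG]
      have hβ : p ^ (β + 1) = p ^ j * (p ^ 2 * p ^ (β + 1 - j - 2)) := by
        rw [← pow_add, ← pow_add]
        congr 1
        omega
      have hpj : 0 < p ^ j := pow_pos hp.pos j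
      have : (stabilizer G X).index = p ^ 2 * p ^ (β + 1 - j - 2) * N := by
        apply Nat.eq_of_mul_eq_mul_right hpj
        rw [hidx, hβ]; ring
      rw [this]
      exact ⟨p ^ (β + 1 - j - 2), by ring⟩
  obtain ⟨t, ht⟩ := hY₃dvd
  refine ⟨Y₂.card, t, ?_, ?_⟩
  · rw [← hYcard, ← hsplit1, ← hsplit2, hY₁card, ht]
    ring
  · -- double count
    have hdc : ∑ X ∈ Y, (SK.filter (fun K => K ≤ stabilizer G X)).card =
        ∑ K ∈ SK, (Y.filter (fun X => K ≤ stabilizer G X)).card := by
      simp only [Finset.card_filter]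
      exact Finset.sum_comm
    have hK : ∀ K ∈ SK, (Y.filter (fun X => K ≤ stabilizer G X)).card = (p * N).choose p := by
      intro K hK
      rw [hSK, Finset.mem_filter] at hK
      have hidx : K.index = p * N := by
        have h1 : K.index * p ^ β = p * p ^ β * N := by
          rw [← hK.2, Subgroup.index_mul_card, hcardG, hkβ, hK.2]
        apply Nat.eq_of_mul_eq_mul_right hβpos
        rw [h1]; ring
      have h2 := card_invariant_sets K p
      rw [hK.2, ← hkβ, hidx] at h2
      rw [hY]
      convert h2 using 2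
      ext X
      simp only [Finset.mem_filter]
    rw [Finset.sum_congr rfl hK, Finset.sum_const, smul_eq_mul] at hdc
    rw [← hdc]
    -- split the left side
    have hs1 : ∑ X ∈ Y, (SK.filter (fun K => K ≤ stabilizer G X)).card =
        ∑ X ∈ Y₁, (SK.filter (fun K => K ≤ stabilizer G X)).card +
          ∑ X ∈ Y₁', (SK.filter (fun K => K ≤ stabilizer G X)).card :=
      (Finset.sum_filter_add_sum_filter_not _ _ _).symm
    have hs2 : ∑ X ∈ Y₁', (SK.filter (fun K => K ≤ stabilizer G X)).card =
        ∑ X ∈ Y₂, (SK.filter (fun K => K ≤ stabilizer G X)).card +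
          ∑ X ∈ Y₃, (SK.filter (fun K => K ≤ stabilizer G X)).card :=
      (Finset.sum_filter_add_sum_filter_not _ _ _).symm
    have h1 : ∑ X ∈ Y₁, (SK.filter (fun K => K ≤ stabilizer G X)).card =
        N * ∑ L ∈ SL, (SK.filter (fun K => K ≤ L)).card :=
      sum_stabilizer_weight (G := G) k N hkpos hn (fun L => (SK.filter (fun K => K ≤ L)).card)
    have h2 : ∑ X ∈ Y₂, (SK.filter (fun K => K ≤ stabilizer G X)).card = Y₂.card := by
      rw [Finset.card_eq_sum_ones]
      apply Finset.sum_congr rfl
      intro X hX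
      rw [hY₂, Finset.mem_filter] at hX
      have : SK.filter (fun K => K ≤ stabilizer G X) = {stabilizer G X} := by
        ext K
        rw [Finset.mem_filter, Finset.mem_singleton, hSK, Finset.mem_filter]
        constructor
        · rintro ⟨⟨-, hKc⟩, hKle⟩
          exact Subgroup.eq_of_le_of_card_ge hKle (by rw [hKc, hX.2])
        · rintro rfl
          exact ⟨⟨Finset.mem_univ _, hX.2⟩, le_refl _⟩
      rw [this, Finset.card_singleton]
    have h3 : ∑ X ∈ Y₃, (SK.filter (fun K => K ≤ stabilizer G X)).card = 0 := by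
      apply Finset.sum_eq_zero
      intro X hX
      rw [hY₃, Finset.mem_filter, hY₁', Finset.mem_filter] at hX
      obtain ⟨j, hj, hSj⟩ := hstab X hX.1.1
      have hjlt : j < β := by
        have h1 : j ≠ β + 1 := fun h => hX.1.2 (by rw [hSj, h])
        have h2 : j ≠ β := fun h => hX.2 (by rw [hSj, h])
        omega
      rw [Finset.card_eq_zero, Finset.filter_eq_empty_iff]
      intro K hK hKle
      rw [hSK, Finset.mem_filter] at hK
      have := Subgroup.card_le_of_le hKle
      rw [hK.2, hSj] at this
      exact absurd (Nat.pow_lt_pow_right hp.one_lt hjlt) (not_lt.2 this)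
    rw [hs1, hs2, h1, h2, h3, add_zero]

end Count

end Cfsg.Agent.Helper4.HallEnum
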