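import Mathlib
import Cfsg.Agent.Helper4.HallEnumB
import Cfsg.Agent.Helper4.HallEnumC

set_option autoImplicit false

/-!
P. Hall's identity: `s_β(G) ≡ 1 + p · nc_{β+1}(G) (mod p²)`.
-/

namespace Cfsg.Agent.Helper4.HallEnum

open Cfsg.Agent.Helper3

section Conv

variable {G : Type*} [Group G] [Finite G]

/-- Subgroups of `G` inside `L` of a given order correspond to subgroups of `↥L` of that order. -/
theorem card_subgroups_le (L : Subgroup G) (n : ℕ) :
    Nat.card {K : Subgroup G // Nat.card K = n ∧ K ≤ L} =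
      Nat.card {K' : Subgroup ↥L // Nat.card K' = n} := by
  apply Nat.card_congr
  refine ⟨fun K => ⟨K.1.subgroupOf L, ?_⟩, fun K' => ⟨K'.1.map L.subtype, ?_, ?_⟩, ?_, ?_⟩
  · rw [Nat.card_congr (Subgroup.subgroupOfEquivOfLe K.2.2).toEquiv]
    exact K.2.1
  · rw [Subgroup.card_map_of_injective L.subtype_injective]
    exact K'.2
  · exact Subgroup.map_subtype_le _
  · intro K
    apply Subtype.ext
    exact Subgroup.map_subgroupOf_eq_of_le K.2.2
  · intro K'
    apply Subtype.ext
    exact Subgroup.comap_map_eq_self_of_injective L.subtype_injective _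

end Conv

section Main

/-- the two consequences of the count, with all the quantities as `Nat.card`s -/
theorem hall_count' {G : Type*} [Group G] [Finite G] (p β N : ℕ) [hp : Fact p.Prime]
    (hn : Nat.card G = p ^ (β + 1) * N) :
    ∃ t f : ℕ,
      f ≡ Nat.card {L : Subgroup G // Nat.card L = p ^ (β + 1)} +
        p * Nat.card {L : Subgroup G // Nat.card L = p ^ (β + 1) ∧ ¬ IsCyclic L} [MOD p ^ 2] ∧
      ((∀ L : Subgroup G, Nat.card L = p ^ (β + 1) → IsCyclic L) →
        f = Nat.card {L : Subgroup G // Nat.card L = p ^ (β + 1)}) ∧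
      (p ^ (β + 1) * N).choose (p ^ (β + 1)) + N * f =
        Nat.card {L : Subgroup G // Nat.card L = p ^ (β + 1)} * N +
          Nat.card {K : Subgroup G // Nat.card K = p ^ β} * (p * N).choose p + p ^ 2 * N * t := by
  classical
  have : Fintype G := Fintype.ofFinite G
  have : Fintype (Subgroup G) := Fintype.ofFinite _
  obtain ⟨y, t, h1, h2⟩ := hall_count (G := G) p β N hp.out
    (by rw [← Nat.card_eq_fintype_card, hn])
  have hcL : (Finset.univ.filter (fun L : Subgroup G => Nat.card L = p ^ (β + 1))).card =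
      Nat.card {L : Subgroup G // Nat.card L = p ^ (β + 1)} := by
    rw [Nat.card_eq_fintype_card, Fintype.card_subtype]
  have hcK : (Finset.univ.filter (fun L : Subgroup G => Nat.card L = p ^ β)).card =
      Nat.card {L : Subgroup G // Nat.card L = p ^ β} := by
    rw [Nat.card_eq_fintype_card, Fintype.card_subtype]
  have hm : ∀ L : Subgroup G,
      ((Finset.univ.filter (fun K : Subgroup G => Nat.card K = p ^ β)).filter
        (fun K => K ≤ L)).card = Nat.card {K' : Subgroup ↥L // Nat.card K' = p ^ β} := by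
    intro L
    rw [← card_subgroups_le, Finset.filter_filter, Nat.card_eq_fintype_card, Fintype.card_subtype]
  set SL := Finset.univ.filter (fun L : Subgroup G => Nat.card L = p ^ (β + 1)) with hSL
  set f := ∑ L ∈ SL, ((Finset.univ.filter (fun K : Subgroup G => Nat.card K = p ^ β)).filter
        (fun K => K ≤ L)).card with hf
  refine ⟨t, f, ?_, ?_, ?_⟩
  · -- congruence for f
    have hnc : Nat.card {L : Subgroup G // Nat.card L = p ^ (β + 1) ∧ ¬ IsCyclic L} =
        (SL.filter (fun L : Subgroup G => ¬ IsCyclic L)).card := by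
      rw [hSL, Finset.filter_filter, Nat.card_eq_fintype_card, Fintype.card_subtype]
    have e1 : SL.card = ∑ _L ∈ SL, 1 := Finset.card_eq_sum_ones _
    have e2 : (SL.filter (fun L : Subgroup G => ¬ IsCyclic L)).card =
        ∑ L ∈ SL, (if ¬ IsCyclic L then 1 else 0) := Finset.card_filter _ _
    rw [← hcL, hnc, e1, e2, Finset.mul_sum, ← Finset.sum_add_distrib,
      ← ZMod.natCast_eq_natCast_iff, hf, Nat.cast_sum, Nat.cast_sum]
    apply Finset.sum_congr rfl
    intro L hL
    rw [hSL, Finset.mem_filter] at hL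
    rw [hm L]
    by_cases hc : IsCyclic L
    · have := card_subgroups_of_isCyclic (p := p) (Z := L) β
        (by rw [hL.2]; exact pow_dvd_pow p (Nat.le_succ β))
      rw [this]
      simp [hc]
    · have := card_maximal_modEq (p := p) (L := L) hL.2 hc
      rw [← ZMod.natCast_eq_natCast_iff] at this
      rw [this]
      simp [hc]
  · intro hall
    rw [← hcL, hf, Finset.card_eq_sum_ones]
    apply Finset.sum_congr rfl
    intro L hL
    rw [hSL, Finset.mem_filter] at hL
    rw [hm L]
    haveI := hall L hL.2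
    exact card_subgroups_of_isCyclic (p := p) (Z := L) β
        (by rw [hL.2]; exact pow_dvd_pow p (Nat.le_succ β))
  · rw [← hcL, ← hcK, h1, h2]
    ring

/-- **P. Hall**: if `p ^ (β + 1)` divides `|G|` then the number of subgroups of order `p ^ β` is
congruent modulo `p ^ 2` to `1 + p · (number of noncyclic subgroups of order p ^ (β + 1))`. -/
theorem hall_identity {G : Type*} [Group G] [Finite G] (p β : ℕ) [hp : Fact p.Prime]
    (hdvd : p ^ (β + 1) ∣ Nat.card G) :
    Nat.card {K : Subgroup G // Nat.card K = p ^ β} ≡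
      1 + p * Nat.card {L : Subgroup G // Nat.card L = p ^ (β + 1) ∧ ¬ IsCyclic L}
        [MOD p ^ 2] := by
  obtain ⟨N, hN⟩ := hdvd
  have hNpos : 0 < N := by
    rcases Nat.eq_zero_or_pos N with h | h
    · rw [h, mul_zero] at hN
      exact absurd hN Nat.card_pos.ne'
    · exact h
  haveI : NeZero (p ^ (β + 1) * N) := ⟨(Nat.mul_pos (pow_pos hp.out.pos _) hNpos).ne'⟩
  have hZcard : Nat.card (Multiplicative (ZMod (p ^ (β + 1) * N))) = p ^ (β + 1) * N := by
    rw [Nat.card_congr Multiplicative.toAdd, Nat.card_zmod]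
  obtain ⟨t, f, hf, -, h⟩ := hall_count' (G := G) p β N hN
  obtain ⟨t', f', -, hf', h'⟩ :=
    hall_count' (G := Multiplicative (ZMod (p ^ (β + 1) * N))) p β N hZcard
  have hsL' : Nat.card {L : Subgroup (Multiplicative (ZMod (p ^ (β + 1) * N))) //
      Nat.card L = p ^ (β + 1)} = 1 :=
    card_subgroups_of_isCyclic (β + 1) (by rw [hZcard]; exact Dvd.intro _ rfl)
  have hsK' : Nat.card {L : Subgroup (Multiplicative (ZMod (p ^ (β + 1) * N))) //
      Nat.card L = p ^ β} = 1 :=
    card_subgroups_of_isCyclic β (by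
      rw [hZcard]; exact Dvd.intro _ (by rw [pow_succ]; ring : p ^ β * (p * N) = _))
  have hf'1 : f' = 1 := by rw [hf' (fun L _ => Subgroup.isCyclic L), hsL']
  rw [hsL', hsK', hf'1] at h'
  set c := (p * N - 1).choose (p - 1) with hc
  have hC' : (p * N).choose p = N * c := choose_mul_eq p N hp.out.pos hNpos
  have hc1 : c ≡ 1 [MOD p] := by
    have := choose_pred_modEq_one p N hNpos 1
    rwa [pow_one] at this
  have hcpos : 1 ≤ c := by
    rcases Nat.eq_zero_or_pos c with h0 | h0
    · exfalso
      rw [h0] at hc1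
      have := (Nat.modEq_zero_iff_dvd.1 hc1.symm)
      exact hp.out.one_lt.ne' (Nat.dvd_one.1 this)
    · exact h0
  obtain ⟨u, hu⟩ := (Nat.modEq_iff_dvd' hcpos).1 hc1.symm
  have hcu : c = 1 + p * u := by omega
  set sL := Nat.card {L : Subgroup G // Nat.card L = p ^ (β + 1)} with hsL
  set sK := Nat.card {K : Subgroup G // Nat.card K = p ^ β} with hsK
  set nc := Nat.card {L : Subgroup G // Nat.card L = p ^ (β + 1) ∧ ¬ IsCyclic L} with hnc
  -- the key equation
  have hkey : c + p ^ 2 * t' + f = sL + sK * c + p ^ 2 * t := by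
    apply Nat.eq_of_mul_eq_mul_left hNpos
    rw [hC'] at h h'
    nlinarith [h, h']
  rw [← ZMod.natCast_eq_natCast_iff] at hf ⊢
  have hE := congrArg (Nat.cast : ℕ → ZMod (p ^ 2)) hkey
  have hCc := congrArg (Nat.cast : ℕ → ZMod (p ^ 2)) hcu
  have hP : ((p : ℕ) : ZMod (p ^ 2)) ^ 2 = 0 := by
    rw [← Nat.cast_pow]; exact ZMod.natCast_self _
  push_cast at hE hCc hf ⊢
  linear_combination (-(1 - (p : ZMod (p ^ 2)) * u)) * hE + (1 - (p : ZMod (p ^ 2)) * u) * hf +
    ((1 - (p : ZMod (p ^ 2)) * u) * ((t' : ZMod (p ^ 2)) - t) +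
      ((u : ZMod (p ^ 2)) ^ 2 * sK - (u : ZMod (p ^ 2)) ^ 2 - nc * u)) * hP -
    (1 - (p : ZMod (p ^ 2)) * u) * ((sK : ZMod (p ^ 2)) - 1) * hCc

end Main

end Cfsg.Agent.Helper4.HallEnum
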