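import Mathlib

set_option autoImplicit false

namespace Cfsg.Agent.Helper4

/-- in a finite cyclic group, a solvable equation `w ^ d = z` has `gcd |C| d` solutions -/
theorem card_pow_eq_of_cyclic {C : Type*} [CommGroup C] [IsCyclic C] [Finite C] (d : ℕ) (z : C)
    (h : ∃ w : C, w ^ d = z) : Nat.card {w : C // w ^ d = z} = (Nat.card C).gcd d := by
  obtain ⟨w₀, hw₀⟩ := h
  rw [← IsCyclic.card_powMonoidHom_ker C d]
  apply Nat.card_congr
  refine ⟨fun w => ⟨w.1 * w₀⁻¹, ?_⟩, fun t => ⟨t.1 * w₀, ?_⟩, ?_, ?_⟩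
  · rw [MonoidHom.mem_ker, powMonoidHom_apply, mul_pow, inv_pow, w.2, hw₀, mul_inv_cancel]
  · have := t.2
    rw [MonoidHom.mem_ker, powMonoidHom_apply] at this
    rw [mul_pow, this, one_mul, hw₀]
  · intro w
    apply Subtype.ext
    simp
  · intro t
    apply Subtype.ext
    simp

section

variable {L : Type*} [Group L] [Finite L]

open scoped IsMulCommutative in
/-- count of solutions of `w ^ n = u₀ ^ n` in the cyclic group generated by `u₀` -/
theorem card_zpowers_pow_eq (u₀ : L) (n : ℕ) :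
    Nat.card {w : Subgroup.zpowers u₀ // w ^ n = ⟨u₀, Subgroup.mem_zpowers u₀⟩ ^ n} =
      (orderOf u₀).gcd n := by
  have := card_pow_eq_of_cyclic (C := Subgroup.zpowers u₀) n
    (⟨u₀, Subgroup.mem_zpowers u₀⟩ ^ n) ⟨⟨u₀, Subgroup.mem_zpowers u₀⟩, rfl⟩
  rw [Nat.card_zpowers] at this
  exact this

/-- block counting: if `z₁ ≠ 1` is a `q`-element, the number of `q`-elements `u` with
`u ^ n = z₁` is divisible by every power of `q` dividing `n`. -/
theorem dvd_card_pow_eq_of_ne_one (q : ℕ) (hq : q.Prime) (c : ℕ) (z₁ : L) (hz1 : z₁ ≠ 1)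
    (n k : ℕ) (hkn : q ^ k ∣ n) :
    q ^ k ∣ Nat.card {u : L // u ^ q ^ c = 1 ∧ u ^ n = z₁} := by
  classical
  have : Fintype (Subgroup L) := Fintype.ofFinite _
  obtain ⟨f, hf⟩ : ∃ f : {u : L // u ^ q ^ c = 1 ∧ u ^ n = z₁} → Subgroup L,
      f = fun u => Subgroup.zpowers u.1 := ⟨_, rfl⟩
  have hfu : ∀ u, f u = Subgroup.zpowers u.1 := fun u => by rw [hf]
  rw [Nat.card_congr (Equiv.sigmaFiberEquiv f).symm, Nat.card_sigma]
  apply Finset.dvd_sum
  intro W _
  by_cases hne : Nonempty {u : {u : L // u ^ q ^ c = 1 ∧ u ^ n = z₁} // f u = W}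
  · obtain ⟨⟨⟨u₀, hu₀A, hu₀n⟩, hu₀W⟩⟩ := hne
    rw [hfu] at hu₀W
    simp only at hu₀W
    subst hu₀W
    -- order of u₀
    obtain ⟨r, hrc, hr⟩ := (Nat.dvd_prime_pow hq).1 (orderOf_dvd_of_pow_eq_one hu₀A)
    have hkr : k ≤ r := by
      by_contra hlt
      push Not at hlt
      apply hz1
      rw [← hu₀n]
      apply orderOf_dvd_iff_pow_eq_one.1
      rw [hr]
      exact (pow_dvd_pow q hlt.le).trans hkn
    -- the equivalence with solutions inside the cyclic group
    have hequiv : Nat.card {u : {u : L // u ^ q ^ c = 1 ∧ u ^ n = z₁} // f u = Subgroup.zpowers u₀} =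
        Nat.card {w : Subgroup.zpowers u₀ // w ^ n = ⟨u₀, Subgroup.mem_zpowers u₀⟩ ^ n} := by
      apply Nat.card_congr
      refine ⟨fun u => ⟨⟨u.1.1, ?_⟩, ?_⟩, fun w => ⟨⟨w.1.1, ?_, ?_⟩, ?_⟩, ?_, ?_⟩
      · have := u.2
        rw [hfu] at this
        have h2 : u.1.1 ∈ Subgroup.zpowers u.1.1 := Subgroup.mem_zpowers _
        rw [this] at h2
        exact h2
      · apply Subtype.ext
        show u.1.1 ^ n = u₀ ^ n
        rw [u.1.2.2, hu₀n]
      · obtain ⟨i, hi⟩ := Subgroup.mem_zpowers_iff.1 w.1.2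
        rw [← hi, ← zpow_natCast, ← zpow_mul, mul_comm, zpow_mul, zpow_natCast, hu₀A, one_zpow]
      · have := congrArg (fun t : Subgroup.zpowers u₀ => (t : L)) w.2
        simp only [Subgroup.coe_pow] at this
        rw [this, hu₀n]
      · -- the generator argument
        rw [hfu]
        simp only
        have hwn : (w.1.1 : L) ^ n = z₁ := by
          have := congrArg (fun t : Subgroup.zpowers u₀ => (t : L)) w.2
          simp only [Subgroup.coe_pow] at this
          rw [this, hu₀n]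
        obtain ⟨i, hi⟩ := (mem_powers_iff_mem_zpowers).2 w.1.2
        have hi' : u₀ ^ i = (w.1.1 : L) := hi
        have hzi : z₁ ^ i = z₁ ^ 1 := by
          rw [pow_one, ← hu₀n, ← pow_mul, mul_comm, pow_mul, hi', hwn, hu₀n]
        have hmod := (pow_eq_pow_iff_modEq).1 hzi
        have hqz : q ∣ orderOf z₁ := by
          have h1 : z₁ ^ q ^ c = 1 := by
            rw [← hu₀n, ← pow_mul, mul_comm, pow_mul, hu₀A, one_pow]
          obtain ⟨b, _, hb⟩ := (Nat.dvd_prime_pow hq).1 (orderOf_dvd_of_pow_eq_one h1)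
          have hb0 : b ≠ 0 := by
            rintro rfl
            rw [pow_zero, orderOf_eq_one_iff] at hb
            exact hz1 hb
          rw [hb]
          exact dvd_pow_self q hb0
        have hqi : ¬ q ∣ i := by
          intro hqi
          have h1 : i ≡ 1 [MOD q] := hmod.of_dvd hqz
          have h2 : i ≡ 0 [MOD q] := (Nat.modEq_zero_iff_dvd).2 hqi
          have h3 : (1 : ℕ) ≡ 0 [MOD q] := h1.symm.trans h2
          have h4 : q ∣ 1 := (Nat.modEq_zero_iff_dvd).1 h3
          exact hq.one_lt.ne' (Nat.dvd_one.1 h4)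
        have hcop : Nat.Coprime i (orderOf u₀) := by
          rw [hr]
          exact Nat.Coprime.pow_right r ((Nat.Prime.coprime_iff_not_dvd hq).2 hqi).symm
        obtain ⟨m, hm⟩ := exists_pow_eq_self_of_coprime hcop
        apply le_antisymm
        · rw [Subgroup.zpowers_le]
          exact w.1.2
        · rw [Subgroup.zpowers_le]
          have h5 : ((w.1.1 : L)) ^ m = u₀ := by rw [← hi']; exact hm
          exact Subgroup.mem_zpowers_iff.2 ⟨m, by rw [zpow_natCast]; exact h5⟩
      · intro u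
        apply Subtype.ext
        apply Subtype.ext
        rfl
      · intro w
        apply Subtype.ext
        apply Subtype.ext
        rfl
    rw [hequiv, card_zpowers_pow_eq, hr]
    exact Nat.dvd_gcd (pow_dvd_pow q hkr) hkn
  · rw [not_nonempty_iff] at hne
    rw [Nat.card_of_isEmpty]
    exact dvd_zero _

end

end Cfsg.Agent.Helper4
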