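import Mathlib
import Cfsg.Agent.S3808
import Cfsg.Agent.Helper1.NormalEA2
import Cfsg.Agent.Helper1.Class2
import Cfsg.Agent.Helper4.HallFrobA
import Cfsg.Agent.Helper4.HallEnumC

set_option autoImplicit false

/-!
Miller's theorem: in a noncyclic `p`-group, `p` odd, the number of cyclic subgroups of order
`p ^ c`, `c ≥ 2`, is divisible by `p`.
-/

namespace Cfsg.Agent.Helper4.HallEnum

universe u

section PowE

variable {R : Type u} [Group R] [Finite R] {p : ℕ} [hp : Fact p.Prime]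

/-- For `E` normal elementary abelian of order `p ^ 2` in a `p`-group, `p` odd:
`(x e) ^ p = x ^ p`. -/
theorem mul_pow_eq_of_normal_elementary (hp2 : p ≠ 2) (hR : IsPGroup p R) (E : Subgroup R)
    [hEn : E.Normal] (hEe : Cfsg.IsElementaryAbelian p E) (hEc : Nat.card E = p ^ 2)
    (x e : R) (he : e ∈ E) : (x * e) ^ p = x ^ p := by
  have hEne : E ≠ ⊥ := by
    intro h
    rw [h, Subgroup.card_bot] at hEc
    have : 1 < p ^ 2 := Nat.one_lt_pow (by norm_num) hp.out.one_lt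
    omega
  obtain ⟨M, hMn, hME, hcard⟩ := Cfsg.Agent.Helper1.exists_normal_index_p_in_normal hR E hEne
  have hMcard : Nat.card M = p := by
    rw [hEc, pow_two] at hcard
    exact (Nat.eq_of_mul_eq_mul_left hp.out.pos hcard).symm
  have hMc : M ≤ Subgroup.center R := Cfsg.Agent.S3808.normal_card_prime_le_center p hR M hMcard
  have hQ : IsPGroup p (R ⧸ M) := hR.to_quotient M
  haveI hE'n : (E.map (QuotientGroup.mk' M)).Normal :=
    hEn.map _ (QuotientGroup.mk'_surjective M)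
  have hE'card : Nat.card (E.map (QuotientGroup.mk' M)) = p := by
    have := Cfsg.Agent.Helper1.card_map_mk'_mul_card M E hME
    rw [hMcard, hEc, pow_two] at this
    exact Nat.eq_of_mul_eq_mul_right hp.out.pos this
  have hE'c : E.map (QuotientGroup.mk' M) ≤ Subgroup.center (R ⧸ M) :=
    Cfsg.Agent.S3808.normal_card_prime_le_center p hQ _ hE'card
  set c := e * x * e⁻¹ * x⁻¹ with hc
  have hcM : c ∈ M := by
    rw [← QuotientGroup.eq_one_iff]
    have h1 : (QuotientGroup.mk' M e) ∈ Subgroup.center (R ⧸ M) :=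
      hE'c (Subgroup.mem_map_of_mem _ he)
    have h2 := Subgroup.mem_center_iff.1 h1 (QuotientGroup.mk' M x)
    change QuotientGroup.mk' M c = 1
    rw [hc, map_mul, map_mul, map_mul, map_inv, map_inv, ← h2]
    group
  have hcz : ∀ z, Commute c z := by
    intro z
    exact (Subgroup.mem_center_iff.1 (hMc hcM) z).symm
  have hyx : e * x = c * x * e := by rw [hc]; group
  rw [Cfsg.Agent.Helper1.mul_pow_of_central hcz hyx p, hEe.2 e he, mul_one]
  have hdvd : p ∣ p.choose 2 := by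
    apply hp.out.dvd_choose_self (by norm_num)
    have := hp.out.two_le
    omega
  obtain ⟨k, hk⟩ := hdvd
  rw [hk, pow_mul, hEe.2 c (hME hcM), one_pow, mul_one]

end PowE

section Miller

variable {G : Type*} [Group G] [Finite G] {p : ℕ} [hp : Fact p.Prime]

omit [Finite G] in
/-- The order of a `p`-th root of an element of order `p ^ c`, `c ≥ 1`. -/
theorem orderOf_of_pow_eq {x y : G} {c : ℕ} (hc : 1 ≤ c) (hy : orderOf y = p ^ c)
    (hxy : x ^ p = y) : orderOf x = p ^ (c + 1) := by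
  have h1 := orderOf_pow' x hp.out.ne_zero
  rw [hxy, hy] at h1
  have hg : (orderOf x).gcd p ∣ p := Nat.gcd_dvd_right _ _
  rcases hp.out.eq_one_or_self_of_dvd _ hg with h | h
  · exfalso
    rw [h, Nat.div_one] at h1
    have hdvd : p ∣ orderOf x := by
      rw [← h1]; exact dvd_pow_self p (by omega)
    have : p ∣ (orderOf x).gcd p := Nat.dvd_gcd hdvd dvd_rfl
    rw [h] at this
    exact hp.out.one_lt.ne' (Nat.dvd_one.1 this)
  · rw [h] at h1
    have hdvd : p ∣ orderOf x := by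
      rw [← h]; exact Nat.gcd_dvd_left _ _
    rw [pow_succ, h1, Nat.div_mul_cancel hdvd]

omit [Finite G] in
theorem exists_gen (X : Subgroup G) (hX : IsCyclic X) :
    ∃ g : G, g ∈ X ∧ Subgroup.zpowers g = X ∧ orderOf g = Nat.card X := by
  obtain ⟨⟨g, hgX⟩, hg⟩ := IsCyclic.exists_generator (α := X)
  have h1 : Subgroup.zpowers g = X := by
    apply le_antisymm (Subgroup.zpowers_le.2 hgX)
    intro x hx
    obtain ⟨k, hk⟩ := Subgroup.mem_zpowers_iff.1 (hg ⟨x, hx⟩)
    have := congrArg Subtype.val hk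
    rw [Subgroup.coe_zpow] at this
    exact Subgroup.mem_zpowers_iff.2 ⟨k, this⟩
  refine ⟨g, hgX, h1, ?_⟩
  rw [← Nat.card_zpowers, h1]

/-- In a cyclic group of order `p ^ (c + 1)` every element of order dividing `p ^ c` is a
`p`-th power. -/
theorem exists_root_of_isCyclic (X : Subgroup G) (hX : IsCyclic X) {c : ℕ}
    (hXc : Nat.card X = p ^ (c + 1)) (y : G) (hyX : y ∈ X) (hy : y ^ p ^ c = 1) :
    ∃ w ∈ X, w ^ p = y := by
  obtain ⟨g, hgX, hgz, hgo⟩ := exists_gen X hX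
  have ho : orderOf (g ^ p) = p ^ c := by
    rw [orderOf_pow' g hp.out.ne_zero, hgo, hXc, pow_succ, Nat.gcd_mul_left_left,
      Nat.mul_div_cancel _ hp.out.pos]
  have hmem := mem_zpowers_of_pow_eq_one_of_isCyclic' X hX (g ^ p) y (X.pow_mem hgX p) hyX
    (p ^ c) (pow_pos hp.out.pos c) ho hy
  obtain ⟨k, hk⟩ := Subgroup.mem_zpowers_iff.1 hmem
  refine ⟨g ^ k, X.zpow_mem hgX k, ?_⟩
  rw [← hk, ← zpow_natCast, ← zpow_natCast, ← zpow_mul, ← zpow_mul, mul_comm]

variable (P E : Subgroup G) (hEP : E ≤ P) (hEc : Nat.card E = p ^ 2)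
  (hE : ∀ x ∈ P, ∀ e ∈ E, (x * e) ^ p = x ^ p)

include hEP hEc hE in
/-- the number of `p`-th roots in `P` of any element is divisible by `p ^ 2` -/
theorem sq_dvd_card_roots (y : G) : p ^ 2 ∣ Nat.card {x : G // x ∈ P ∧ x ^ p = y} := by
  apply dvd_card_of_fibers (fun x : {x : G // x ∈ P ∧ x ^ p = y} => (x.1 : G ⧸ E)) (p ^ 2)
  intro a
  rw [← hEc]
  refine dvd_of_eq (Nat.card_congr ?_).symm
  refine ⟨fun a' => ⟨a.1⁻¹ * a'.1.1, QuotientGroup.eq.1 a'.2.symm⟩,
    fun e => ⟨⟨a.1 * e.1, P.mul_mem a.2.1 (hEP e.2), ?_⟩, ?_⟩, ?_, ?_⟩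
  · rw [hE a.1 a.2.1 e.1 e.2, a.2.2]
  · change ((a.1 * e.1 : G) : G ⧸ E) = (a.1 : G ⧸ E)
    rw [QuotientGroup.eq, mul_inv_rev, inv_mul_cancel_right]
    exact E.inv_mem e.2
  · intro a'
    apply Subtype.ext
    apply Subtype.ext
    simp
  · intro e
    apply Subtype.ext
    simp

include hEP hEc hE in
/-- the number of cyclic subgroups of order `p ^ (c + 1)` of `P` containing a given element of
order `p ^ c` is divisible by `p` -/
theorem dvd_card_cyclic_over (c : ℕ) (hc : 1 ≤ c) (y : G) (hy : orderOf y = p ^ c) :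
    p ∣ Nat.card {X : Subgroup G // X ≤ P ∧ IsCyclic X ∧ Nat.card X = p ^ (c + 1) ∧ y ∈ X} := by
  have h1 := sq_dvd_card_roots P E hEP hEc hE y
  have hzp : ∀ x : {x : G // x ∈ P ∧ x ^ p = y},
      Subgroup.zpowers x.1 ≤ P ∧ IsCyclic (Subgroup.zpowers x.1) ∧
        Nat.card (Subgroup.zpowers x.1) = p ^ (c + 1) ∧ y ∈ Subgroup.zpowers x.1 := by
    intro x
    refine ⟨Subgroup.zpowers_le.2 x.2.1, inferInstance, ?_, ?_⟩
    · rw [Nat.card_zpowers, orderOf_of_pow_eq hc hy x.2.2]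
    · have h := Subgroup.pow_mem _ (Subgroup.mem_zpowers x.1) p
      rwa [x.2.2] at h
  have h2 := card_eq_mul_of_fibers
    (fun x : {x : G // x ∈ P ∧ x ^ p = y} =>
      (⟨Subgroup.zpowers x.1, hzp x⟩ : {X : Subgroup G // X ≤ P ∧ IsCyclic X ∧
        Nat.card X = p ^ (c + 1) ∧ y ∈ X})) p ?_
  · rw [h2, pow_two] at h1
    exact Nat.dvd_of_mul_dvd_mul_right hp.out.pos h1
  · rintro ⟨X, hXP, hXc, hXcard, hyX⟩
    haveI := hXc
    letI : CommGroup X := IsCyclic.commGroup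
    have hy1 : y ^ p ^ c = 1 := by rw [← hy]; exact pow_orderOf_eq_one y
    obtain ⟨w₀, hw₀X, hw₀⟩ := exists_root_of_isCyclic X hXc hXcard y hyX hy1
    have h3 := card_pow_eq_of_cyclic (C := X) p ⟨y, hyX⟩ ⟨⟨w₀, hw₀X⟩, Subtype.ext (by simpa using hw₀)⟩
    rw [hXcard, pow_succ, Nat.gcd_mul_left_left] at h3
    refine (Nat.card_congr ?_).trans h3
    refine ⟨fun x => ⟨⟨x.1.1, ?_⟩, ?_⟩, fun w => ⟨⟨w.1.1, hXP w.1.2, ?_⟩, ?_⟩, ?_, ?_⟩
    · have := congrArg Subtype.val x.2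
      simp only at this
      have hmem : x.1.1 ∈ Subgroup.zpowers x.1.1 := Subgroup.mem_zpowers _
      exact this.le hmem
    · apply Subtype.ext
      simpa using x.1.2.2
    · have := congrArg Subtype.val w.2
      simpa using this
    · apply Subtype.ext
      simp only
      have hwy : (w.1.1 : G) ^ p = y := by
        have := congrArg Subtype.val w.2
        simpa using this
      apply Subgroup.eq_of_le_of_card_ge (Subgroup.zpowers_le.2 w.1.2)
      rw [Nat.card_zpowers, orderOf_of_pow_eq hc hy hwy, hXcard]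
    · intro x; rfl
    · intro w; rfl

include hEP hEc hE in
/-- **Miller**: the number of cyclic subgroups of order `p ^ (c + 1)`, `c ≥ 1`, of `P` is
divisible by `p`. -/
theorem dvd_card_cyclic (c : ℕ) (hc : 1 ≤ c) :
    p ∣ Nat.card {X : Subgroup G // X ≤ P ∧ IsCyclic X ∧ Nat.card X = p ^ (c + 1)} := by
  have hgen : ∀ X : {X : Subgroup G // X ≤ P ∧ IsCyclic X ∧ Nat.card X = p ^ (c + 1)},
      ∃ g : G, g ∈ X.1 ∧ Subgroup.zpowers g = X.1 ∧ orderOf g = Nat.card X.1 :=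
    fun X => exists_gen X.1 X.2.2.1
  choose gen hgenX hgenz hgeno using hgen
  have hyo : ∀ X, orderOf (gen X ^ p) = p ^ c := by
    intro X
    rw [orderOf_pow' _ hp.out.ne_zero, hgeno, X.2.2.2, pow_succ, Nat.gcd_mul_left_left,
      Nat.mul_div_cancel _ hp.out.pos]
  apply dvd_card_of_fibers (fun X => Subgroup.zpowers (gen X ^ p)) p
  intro X
  have h1 := dvd_card_cyclic_over P E hEP hEc hE c hc (gen X ^ p) (hyo X)
  have hiff : ∀ X' : {X : Subgroup G // X ≤ P ∧ IsCyclic X ∧ Nat.card X = p ^ (c + 1)},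
      Subgroup.zpowers (gen X' ^ p) = Subgroup.zpowers (gen X ^ p) ↔ gen X ^ p ∈ X'.1 := by
    intro X'
    constructor
    · intro h
      have : gen X ^ p ∈ Subgroup.zpowers (gen X' ^ p) := by
        rw [h]; exact Subgroup.mem_zpowers _
      exact (Subgroup.zpowers_le.2 (X'.1.pow_mem (hgenX X') p)) this
    · intro h
      have hy1 : (gen X ^ p) ^ p ^ c = 1 := by rw [← hyo X]; exact pow_orderOf_eq_one _
      have hmem := mem_zpowers_of_pow_eq_one_of_isCyclic' X'.1 X'.2.2.1 (gen X' ^ p) (gen X ^ p)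
        (X'.1.pow_mem (hgenX X') p) h (p ^ c) (pow_pos hp.out.pos c) (hyo X') hy1
      symm
      apply Subgroup.eq_of_le_of_card_ge (Subgroup.zpowers_le.2 hmem)
      rw [Nat.card_zpowers, Nat.card_zpowers, hyo X, hyo X']
  convert h1 using 1
  apply Nat.card_congr
  refine ⟨fun X' => ⟨X'.1.1, X'.1.2.1, X'.1.2.2.1, X'.1.2.2.2, (hiff X'.1).1 X'.2⟩,
    fun X' => ⟨⟨X'.1, X'.2.1, X'.2.2.1, X'.2.2.2.1⟩, (hiff _).2 X'.2.2.2.2⟩, ?_, ?_⟩
  · intro X'; rfl
  · intro X'; rfl

end Miller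

end Cfsg.Agent.Helper4.HallEnum
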