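import Mathlib
import Cfsg.Agent.Helper3.SubgroupCount
import Cfsg.Agent.Helper4.Conj
import Cfsg.Agent.Helper4.HallEnumE

set_option autoImplicit false

/-!
Reduction of the count of cyclic subgroups to a Sylow subgroup, and the number of noncyclic
subgroups of order `p ^ (c + 1)` modulo `p`.
-/

namespace Cfsg.Agent.Helper4.HallEnum

open scoped Pointwise
open Cfsg.Agent.Helper3

universe u

section Sylow

variable {G : Type u} [Group G] [Finite G] {p : ℕ} [hp : Fact p.Prime]

/-- A `p`-subgroup normalized by a Sylow `p`-subgroup lies in it. -/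
theorem le_sylow_of_normalized (P : Sylow p G) (X : Subgroup G) (hX : IsPGroup p X)
    (h : (P : Subgroup G) ≤ Subgroup.normalizer (X : Set G)) : X ≤ P := by
  have h1 : IsPGroup p ((P : Subgroup G) ⊔ X : Subgroup G) :=
    IsPGroup.to_sup_of_normal_right' P.isPGroup' hX h
  have h2 := P.is_maximal' h1 le_sup_left
  calc X ≤ (P : Subgroup G) ⊔ X := le_sup_right
    _ = P := h2

theorem card_cyclic_modEq_sylow (P : Sylow p G) (c : ℕ) :
    Nat.card {X : Subgroup G // IsCyclic X ∧ Nat.card X = p ^ c} ≡
      Nat.card {X : Subgroup G // X ≤ P ∧ IsCyclic X ∧ Nat.card X = p ^ c} [MOD p] := by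
  classical
  have : Fintype (Subgroup G) := Fintype.ofFinite _
  letI act : MulAction (↥(P : Subgroup G)) (Subgroup G) :=
    MulAction.compHom (Subgroup G) ((MulAut.conj : G →* MulAut G).comp (P : Subgroup G).subtype)
  have hsmul : ∀ (g : ↥(P : Subgroup G)) (X : Subgroup G),
      g • X = X.map (MulAut.conj (g : G)).toMonoidHom := fun _ _ => rfl
  set s₀ := Finset.univ.filter (fun X : Subgroup G => IsCyclic X ∧ Nat.card X = p ^ c) with hs₀
  set s := s₀.filter (fun X : Subgroup G => ¬ X ≤ P) with hs
  have hdvd : p ∣ s.card := by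
    apply dvd_card_finset_of_dvd_index (S := ↥(P : Subgroup G)) (α := Subgroup G) p s
    · intro g X hX
      rw [hs, Finset.mem_filter, hs₀, Finset.mem_filter] at hX ⊢
      obtain ⟨⟨-, hXc, hXcard⟩, hXP⟩ := hX
      rw [hsmul]
      refine ⟨⟨Finset.mem_univ _, ?_, ?_⟩, ?_⟩
      · haveI := hXc
        exact isCyclic_of_surjective
          (X.equivMapOfInjective _ (MulAut.conj (g : G)).injective).toMonoidHom
          (X.equivMapOfInjective _ (MulAut.conj (g : G)).injective).surjective
      · rw [Subgroup.card_map_of_injective (MulAut.conj (g : G)).injective]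
        exact hXcard
      · intro hle
        apply hXP
        intro x hx
        have h1 : (g : G) * x * (g : G)⁻¹ ∈ (P : Subgroup G) := by
          apply hle
          rw [mem_map_conj_iff]
          have : (g : G)⁻¹ * ((g : G) * x * (g : G)⁻¹) * (g : G) = x := by group
          rw [this]; exact hx
        have h2 := (P : Subgroup G).mul_mem ((P : Subgroup G).mul_mem
          ((P : Subgroup G).inv_mem g.2) h1) g.2
        have : (g : G)⁻¹ * ((g : G) * x * (g : G)⁻¹) * (g : G) = x := by group
        rwa [this] at h2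
    · intro X hX
      rw [hs, Finset.mem_filter, hs₀, Finset.mem_filter] at hX
      obtain ⟨⟨-, hXc, hXcard⟩, hXP⟩ := hX
      obtain ⟨n, hn⟩ := (P.isPGroup').index (MulAction.stabilizer (↥(P : Subgroup G)) X)
      rcases Nat.eq_zero_or_pos n with h0 | h0
      · exfalso
        rw [h0, pow_zero, Subgroup.index_eq_one] at hn
        apply hXP
        apply le_sylow_of_normalized P X (IsPGroup.of_card hXcard)
        intro g hg
        have h1 : (⟨g, hg⟩ : ↥(P : Subgroup G)) ∈ MulAction.stabilizer (↥(P : Subgroup G)) X := by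
          rw [hn]; exact Subgroup.mem_top _
        rw [MulAction.mem_stabilizer_iff, hsmul] at h1
        exact mem_normalizer_of_map_conj_eq X g h1
      · rw [hn]
        exact dvd_pow_self p (by omega)
  have h1 : Nat.card {X : Subgroup G // IsCyclic X ∧ Nat.card X = p ^ c} = s₀.card := by
    rw [hs₀, Nat.card_eq_fintype_card, Fintype.card_subtype]
  have h2 : Nat.card {X : Subgroup G // X ≤ P ∧ IsCyclic X ∧ Nat.card X = p ^ c} =
      (s₀.filter (fun X : Subgroup G => X ≤ P)).card := by
    rw [hs₀, Finset.filter_filter, Nat.card_eq_fintype_card, Fintype.card_subtype]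
    congr 1
    ext X
    simp only [Finset.mem_filter, Finset.mem_univ, true_and]
    tauto
  have h3 : (s₀.filter (fun X : Subgroup G => X ≤ P)).card + s.card = s₀.card :=
    Finset.card_filter_add_card_filter_not _
  rw [h1, h2, ← h3]
  obtain ⟨k, hk⟩ := hdvd
  rw [hk]
  unfold Nat.ModEq
  rw [Nat.add_mul_mod_self_left]

/-- The number of noncyclic subgroups of order `p ^ (c + 1)`, `c ≥ 1`, `p` odd, is `≡ 0` or
`≡ 1 (mod p)`. -/
theorem card_noncyclic_modEq (hp2 : p ≠ 2) (c : ℕ) (hc : 1 ≤ c)
    (hdvd : p ^ (c + 1) ∣ Nat.card G) :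
    Nat.card {L : Subgroup G // Nat.card L = p ^ (c + 1) ∧ ¬ IsCyclic L} ≡ 0 [MOD p] ∨
      Nat.card {L : Subgroup G // Nat.card L = p ^ (c + 1) ∧ ¬ IsCyclic L} ≡ 1 [MOD p] := by
  classical
  have P : Sylow p G := default
  by_cases hPc : IsCyclic (↥(P : Subgroup G))
  · left
    have hemp : IsEmpty {L : Subgroup G // Nat.card L = p ^ (c + 1) ∧ ¬ IsCyclic L} := by
      constructor
      rintro ⟨L, hLcard, hLnc⟩
      apply hLnc
      obtain ⟨Q, hQ⟩ := (IsPGroup.of_card hLcard).exists_le_sylow
      haveI : IsCyclic (↥(Q : Subgroup G)) :=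
        isCyclic_of_surjective (Sylow.equiv P Q).toMonoidHom (Sylow.equiv P Q).surjective
      haveI : IsCyclic (L.subgroupOf (Q : Subgroup G)) := Subgroup.isCyclic _
      exact isCyclic_of_surjective (Subgroup.subgroupOfEquivOfLe hQ).toMonoidHom
        (Subgroup.subgroupOfEquivOfLe hQ).surjective
    rw [Nat.card_eq_zero.2 (Or.inl hemp)]
  · right
    obtain ⟨E₀, hE₀n, hE₀e, hE₀c⟩ :=
      Cfsg.Agent.Helper1.exists_normal_elementary_p2_top hp2 P.isPGroup' hPc
    have hmiller := dvd_card_cyclic (P : Subgroup G) (E₀.map (P : Subgroup G).subtype)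
      (Subgroup.map_subtype_le _)
      (by rw [Subgroup.card_map_of_injective (Subgroup.subtype_injective _)]; exact hE₀c)
      (by
        rintro x hx e ⟨e₀, he₀, rfl⟩
        have := mul_pow_eq_of_normal_elementary hp2 P.isPGroup' E₀ hE₀e hE₀c ⟨x, hx⟩ e₀ he₀
        have h2 := congrArg Subtype.val this
        simpa using h2) c hc
    have hcyc : Nat.card {X : Subgroup G // IsCyclic X ∧ Nat.card X = p ^ (c + 1)} ≡ 0 [MOD p] :=
      (card_cyclic_modEq_sylow P (c + 1)).trans (Nat.modEq_zero_iff_dvd.2 hmiller)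
    have hall := card_subgroups_prime_pow_modEq_one (G := G) p (c + 1) hp.out hdvd
    have : Fintype (Subgroup G) := Fintype.ofFinite _
    have hsum : Nat.card {L : Subgroup G // Nat.card L = p ^ (c + 1)} =
        Nat.card {X : Subgroup G // IsCyclic X ∧ Nat.card X = p ^ (c + 1)} +
          Nat.card {L : Subgroup G // Nat.card L = p ^ (c + 1) ∧ ¬ IsCyclic L} := by
      rw [Nat.card_eq_fintype_card, Nat.card_eq_fintype_card, Nat.card_eq_fintype_card,
        Fintype.card_subtype, Fintype.card_subtype, Fintype.card_subtype,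
        ← Finset.card_filter_add_card_filter_not (fun L : Subgroup G => IsCyclic L),
        Finset.filter_filter, Finset.filter_filter]
      congr 2
      ext X
      simp only [Finset.mem_filter, Finset.mem_univ, true_and]
      tauto
    rw [hsum] at hall
    have h3 := (Nat.ModEq.add_right _ hcyc).symm.trans hall
    rwa [zero_add] at h3

end Sylow

end Cfsg.Agent.Helper4.HallEnum
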