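import Mathlib
import Cfsg.Agent.S3993
import Cfsg.Agent.Helper4.HallFrobA
import Cfsg.Agent.Helper4.ClassSize

set_option autoImplicit false

namespace Cfsg.Agent.Helper4

universe u

section

variable {K : Type u} [Group K]

theorem pow_eq_pow_of_modEq_of_pow_eq_one {x : K} {M a b : ℕ} (hx : x ^ M = 1)
    (h : a ≡ b [MOD M]) : x ^ a = x ^ b :=
  pow_eq_pow_iff_modEq.2 (h.of_dvd (orderOf_dvd_of_pow_eq_one hx))

/-- the fibre of the `q'`-part map, as solutions in a centralizer -/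
theorem hallFiber_card [Finite K] (A B e₁ e₂ n : ℕ) (hK : Nat.card K = A * B)
    (h1A : e₁ ≡ 1 [MOD A]) (h1B : e₁ ≡ 0 [MOD B]) (h2A : e₂ ≡ 0 [MOD A]) (h2B : e₂ ≡ 1 [MOD B])
    (hcop : A.Coprime B) (z : K) (hz : z ∈ Subgroup.center K) (y : K) (hyB : y ^ B = 1)
    (hyn : y ^ n = z ^ e₂) :
    Nat.card {x : K // x ^ n = z ∧ x ^ e₂ = y} =
      Nat.card {u : Subgroup.centralizer ({y} : Set K) // u ^ A = 1 ∧
        u ^ n = ⟨z ^ e₁, Subgroup.center_le_centralizer _ (Subgroup.pow_mem _ hz _)⟩} := by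
  have hcard : ∀ x : K, x ^ (A * B) = 1 := fun x => by rw [← hK]; exact pow_card_eq_one'
  have hsum : ∀ x : K, x ^ e₁ * x ^ e₂ = x := by
    intro x
    rw [← pow_add]
    have h1 : e₁ + e₂ ≡ 1 [MOD A * B] := by
      apply (Nat.modEq_and_modEq_iff_modEq_mul hcop).1
      exact ⟨by simpa using h1A.add h2A, by simpa using h1B.add h2B⟩
    have := pow_eq_pow_of_modEq_of_pow_eq_one (hcard x) h1
    rw [this, pow_one]
  have hA : ∀ x : K, (x ^ e₁) ^ A = 1 := by
    intro x
    obtain ⟨t, rfl⟩ := (Nat.modEq_zero_iff_dvd).1 h1B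
    rw [← pow_mul, show B * t * A = A * B * t by ring, pow_mul, hcard, one_pow]
  have hu1 : ∀ u : K, u ^ A = 1 → u ^ e₁ = u := by
    intro u hu
    have := pow_eq_pow_of_modEq_of_pow_eq_one hu h1A
    rw [this, pow_one]
  have hu2 : ∀ u : K, u ^ A = 1 → u ^ e₂ = 1 := by
    intro u hu
    have := pow_eq_pow_of_modEq_of_pow_eq_one hu h2A
    rw [this, pow_zero]
  have hy1 : y ^ e₁ = 1 := by
    have := pow_eq_pow_of_modEq_of_pow_eq_one hyB h1B
    rw [this, pow_zero]
  have hy2 : y ^ e₂ = y := by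
    have := pow_eq_pow_of_modEq_of_pow_eq_one hyB h2B
    rw [this, pow_one]
  have hmem : ∀ x : K, x ^ e₂ = y → x ^ e₁ ∈ Subgroup.centralizer ({y} : Set K) := by
    intro x hx
    rw [Subgroup.mem_centralizer_singleton_iff, ← hx]
    exact ((Commute.refl x).pow_pow e₁ e₂).eq
  have hcomm : ∀ u : Subgroup.centralizer ({y} : Set K), Commute (u : K) y := by
    intro u
    have := u.2
    rw [Subgroup.mem_centralizer_singleton_iff] at this
    exact this
  apply Nat.card_congr
  refine ⟨fun x => ⟨⟨x.1 ^ e₁, hmem x.1 x.2.2⟩, ?_, ?_⟩, fun u => ⟨u.1.1 * y, ?_, ?_⟩, ?_, ?_⟩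
  · apply Subtype.ext
    rw [Subgroup.coe_pow]
    exact hA x.1
  · apply Subtype.ext
    rw [Subgroup.coe_pow]
    show (x.1 ^ e₁) ^ n = z ^ e₁
    rw [← pow_mul, mul_comm, pow_mul, x.2.1]
  · rw [(hcomm u.1).mul_pow, hyn]
    have h1 : (u.1.1) ^ n = z ^ e₁ := by
      have := congrArg Subtype.val u.2.2
      rwa [Subgroup.coe_pow] at this
    rw [h1, hsum]
  · rw [(hcomm u.1).mul_pow, hy2]
    have h1 : (u.1.1) ^ A = 1 := by
      have := congrArg Subtype.val u.2.1
      rwa [Subgroup.coe_pow] at this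
    rw [hu2 _ h1, one_mul]
  · intro x
    apply Subtype.ext
    show x.1 ^ e₁ * y = x.1
    have h := hsum x.1
    rw [x.2.2] at h
    exact h
  · intro u
    apply Subtype.ext
    apply Subtype.ext
    show (u.1.1 * y) ^ e₁ = u.1.1
    have h1 : (u.1.1) ^ A = 1 := by
      have := congrArg Subtype.val u.2.1
      rwa [Subgroup.coe_pow] at this
    rw [(hcomm u.1).mul_pow, hy1, mul_one, hu1 _ h1]

/-- central version: for `z` central and a prime power `q ^ k` dividing both `n` and `|K|`,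
the number of solutions of `x ^ n = z` is divisible by `q ^ k` -/
theorem prime_pow_dvd_card_pow_eq_central [Finite K] (z : K) (hz : z ∈ Subgroup.center K)
    (q : ℕ) (hq : q.Prime) (n k : ℕ) (hkn : q ^ k ∣ n) (hkK : q ^ k ∣ Nat.card K) :
    q ^ k ∣ Nat.card {x : K // x ^ n = z} := by
  classical
  have hfin : Fintype K := Fintype.ofFinite K
  obtain ⟨c, B, hB, hK⟩ := Nat.exists_eq_pow_mul_and_not_dvd (n := Nat.card K)
    Nat.card_pos.ne' q hq.ne_one
  have hqB : q.Coprime B := (hq.coprime_iff_not_dvd).2 hB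
  have hcop : (q ^ c).Coprime B := hqB.pow_left c
  have hkc : q ^ k ∣ q ^ c := by
    rw [hK] at hkK
    exact (hqB.pow_left k).dvd_of_dvd_mul_right hkK
  obtain ⟨e₁, h1A, h1B⟩ := Nat.chineseRemainder hcop 1 0
  obtain ⟨e₂, h2A, h2B⟩ := Nat.chineseRemainder hcop 0 1
  have hcard : ∀ x : K, x ^ (q ^ c * B) = 1 := fun x => by rw [← hK]; exact pow_card_eq_one'
  have hBpow : ∀ x : K, (x ^ e₂) ^ B = 1 := by
    intro x
    obtain ⟨t, rfl⟩ := (Nat.modEq_zero_iff_dvd).1 h2A
    rw [← pow_mul, show q ^ c * t * B = q ^ c * B * t by ring, pow_mul, hcard, one_pow]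
  have hsumEq : Nat.card {x : K // x ^ n = z} =
      ∑ y : K, Nat.card {x : K // x ^ n = z ∧ x ^ e₂ = y} := by
    rw [← Nat.card_sigma]
    apply Nat.card_congr
    exact ⟨fun x => ⟨x.1 ^ e₂, ⟨x.1, x.2, rfl⟩⟩, fun s => ⟨s.2.1, s.2.2.1⟩, fun x => rfl,
      fun s => by
        obtain ⟨y, x, hx, rfl⟩ := s
        rfl⟩
  rw [hsumEq]
  apply Cfsg.Agent.S3993.dvd_sum_of_invariant (H := ConjAct K)
    (fun y => Nat.card {x : K // x ^ n = z ∧ x ^ e₂ = y})
  · intro h y
    have hsm : h • y = MulAut.conj (ConjAct.ofConjAct h) y := by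
      rw [ConjAct.smul_def, MulAut.conj_apply]
    obtain ⟨φ, hφ⟩ : ∃ φ : K ≃* K, φ = MulAut.conj (ConjAct.ofConjAct h) := ⟨_, rfl⟩
    have hφz : φ z = z := by
      rw [hφ, MulAut.conj_apply, (Subgroup.mem_center_iff.1 hz) (ConjAct.ofConjAct h)]
      group
    have hφz' : φ.symm z = z := by
      rw [MulEquiv.symm_apply_eq, hφz]
    show Nat.card {x : K // x ^ n = z ∧ x ^ e₂ = h • y} = Nat.card {x : K // x ^ n = z ∧ x ^ e₂ = y}
    rw [hsm, ← hφ]
    apply Nat.card_congr
    refine ⟨fun x => ⟨φ.symm x.1, ?_, ?_⟩, fun x => ⟨φ x.1, ?_, ?_⟩, ?_, ?_⟩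
    · rw [← map_pow, x.2.1, hφz']
    · rw [← map_pow, x.2.2, MulEquiv.symm_apply_apply]
    · rw [← map_pow, x.2.1, hφz]
    · rw [← map_pow, x.2.2]
    · intro x
      exact Subtype.ext (φ.apply_symm_apply _)
    · intro x
      exact Subtype.ext (φ.symm_apply_apply _)
  · intro y
    by_cases hne : Nonempty {x : K // x ^ n = z ∧ x ^ e₂ = y}
    · obtain ⟨⟨x₀, hx₀n, hx₀y⟩⟩ := hne
      have hyB : y ^ B = 1 := by rw [← hx₀y]; exact hBpow x₀
      have hyn : y ^ n = z ^ e₂ := by rw [← hx₀y, ← pow_mul, mul_comm, pow_mul, hx₀n]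
      show q ^ k ∣ Nat.card (MulAction.orbit (ConjAct K) y) *
        Nat.card {x : K // x ^ n = z ∧ x ^ e₂ = y}
      rw [hallFiber_card (q ^ c) B e₁ e₂ n hK h1A h1B h2A h2B hcop z hz y hyB hyn]
      have horb : Nat.card (MulAction.orbit (ConjAct K) y) =
          (Subgroup.centralizer ({y} : Set K)).index := by
        rw [index_centralizer_eq_card_conj]
        apply Nat.card_congr
        refine Equiv.subtypeEquivRight ?_
        intro y'
        rw [ConjAct.mem_orbit_conjAct, isConj_comm]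
      rw [horb]
      by_cases hz1 : z ^ e₁ = 1
      · -- Frobenius in the centralizer
        have hF := (Cfsg.Agent.S3993.frobenius _ (Subgroup.centralizer ({y} : Set K)) rfl).gcd_dvd
          ((q ^ c).gcd n)
        have hcongr : Nat.card {u : Subgroup.centralizer ({y} : Set K) // u ^ q ^ c = 1 ∧
            u ^ n = ⟨z ^ e₁, Subgroup.center_le_centralizer _ (Subgroup.pow_mem _ hz _)⟩} =
            Nat.card {u : Subgroup.centralizer ({y} : Set K) // u ^ ((q ^ c).gcd n) = 1} := by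
          apply Nat.card_congr
          refine Equiv.subtypeEquivRight ?_
          intro u
          rw [pow_gcd_eq_one]
          have : (⟨z ^ e₁, Subgroup.center_le_centralizer _ (Subgroup.pow_mem _ hz _)⟩ :
              Subgroup.centralizer ({y} : Set K)) = 1 := Subtype.ext hz1
          rw [this]
        rw [hcongr]
        refine dvd_trans ?_ (Nat.mul_dvd_mul_left _ hF)
        rw [← Nat.gcd_mul_left, Subgroup.index_mul_card]
        apply Nat.dvd_gcd
        · exact Dvd.dvd.mul_left (Nat.dvd_gcd hkc hkn) _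
        · exact hkK
      · have := dvd_card_pow_eq_of_ne_one (L := Subgroup.centralizer ({y} : Set K)) q hq c
          ⟨z ^ e₁, Subgroup.center_le_centralizer _ (Subgroup.pow_mem _ hz _)⟩
          (by intro h; exact hz1 (congrArg Subtype.val h)) n k hkn
        exact Dvd.dvd.mul_left this _
    · rw [not_nonempty_iff] at hne
      show q ^ k ∣ Nat.card (MulAction.orbit (ConjAct K) y) *
        Nat.card {x : K // x ^ n = z ∧ x ^ e₂ = y}
      rw [Nat.card_of_isEmpty (α := {x : K // x ^ n = z ∧ x ^ e₂ = y}), mul_zero]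
      exact dvd_zero _

/-- P. Hall: for `z` central, `gcd n |K|` divides the number of solutions of `x ^ n = z` -/
theorem gcd_dvd_card_pow_eq_central [Finite K] (z : K) (hz : z ∈ Subgroup.center K) (n : ℕ) :
    Nat.gcd n (Nat.card K) ∣ Nat.card {x : K // x ^ n = z} := by
  rw [Nat.dvd_iff_prime_pow_dvd_dvd]
  intro p k hp hpk
  exact prime_pow_dvd_card_pow_eq_central z hz p hp n k (dvd_trans hpk (Nat.gcd_dvd_left _ _))
    (dvd_trans hpk (Nat.gcd_dvd_right _ _))

end

end Cfsg.Agent.Helper4
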