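import Mathlib
import Cfsg.Agent.Helper4.HamiltonianA
import Cfsg.Agent.Helper4.CyclicCentA

set_option autoImplicit false

namespace Cfsg.Agent.Helper4

section Dedekind

variable {G : Type*} [Group G]

/-- the twist `t` with `y x = x y t` -/
def twist (x y : G) : G := y⁻¹ * x⁻¹ * y * x

theorem twist_spec (x y : G) : y * x = x * y * twist x y := by
  unfold twist; group

theorem twist_mem_zpowers_left (hn : ∀ H : Subgroup G, H.Normal) (x y : G) :
    twist x y ∈ Subgroup.zpowers x := by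
  have h1 : y⁻¹ * x⁻¹ * y⁻¹⁻¹ ∈ Subgroup.zpowers x :=
    (hn _).conj_mem _ (Subgroup.inv_mem _ (Subgroup.mem_zpowers x)) _
  rw [inv_inv] at h1
  exact Subgroup.mul_mem _ h1 (Subgroup.mem_zpowers x)

theorem twist_mem_zpowers_right (hn : ∀ H : Subgroup G, H.Normal) (x y : G) :
    twist x y ∈ Subgroup.zpowers y := by
  have h1 : x⁻¹ * y * x⁻¹⁻¹ ∈ Subgroup.zpowers y :=
    (hn _).conj_mem _ (Subgroup.mem_zpowers y) _
  rw [inv_inv] at h1
  have : twist x y = y⁻¹ * (x⁻¹ * y * x) := by unfold twist; group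
  rw [this]
  exact Subgroup.mul_mem _ (Subgroup.inv_mem _ (Subgroup.mem_zpowers y)) h1

theorem commute_of_mem_zpowers {t x : G} (h : t ∈ Subgroup.zpowers x) : Commute t x := by
  obtain ⟨k, rfl⟩ := Subgroup.mem_zpowers_iff.1 h
  exact (Commute.refl x).zpow_left k

/-- in a finite cyclic group generated by `x`, an element killed by `p` is a power of any
nontrivial element killed by `p` -/
theorem exists_pow_eq_of_pow_prime_eq_one [Finite G] {p : ℕ} (hp : p.Prime) (x h X : G)
    (hh : h ∈ Subgroup.zpowers x) (hhp : h ^ p = 1) (hX : X ∈ Subgroup.zpowers x)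
    (hXp : X ^ p = 1) (hX1 : X ≠ 1) : ∃ j : ℕ, X ^ j = h := by
  have hmem := mem_zpowers_of_isCyclic_of_pow_prime (G := Subgroup.zpowers x) hp
    ⟨h, hh⟩ ⟨X, hX⟩ (Subtype.ext (by simpa using hhp)) (Subtype.ext (by simpa using hXp))
    (fun h1 => hX1 (congrArg Subtype.val h1))
  rw [← mem_powers_iff_mem_zpowers, Submonoid.mem_powers_iff] at hmem
  obtain ⟨j, hj⟩ := hmem
  refine ⟨j, ?_⟩
  have := congrArg Subtype.val hj
  simpa using this

/-- a non-commuting pair with the sum of the orders as small as possible -/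
def IsMinNoncomm (x y : G) : Prop :=
  x * y ≠ y * x ∧ ∀ x' y' : G, x' * y' ≠ y' * x' → orderOf x + orderOf y ≤ orderOf x' + orderOf y'

theorem IsMinNoncomm.symm {x y : G} (h : IsMinNoncomm x y) : IsMinNoncomm y x := by
  refine ⟨fun h1 => h.1 h1.symm, fun x' y' h' => ?_⟩
  have := h.2 x' y' h'
  omega

theorem exists_isMinNoncomm (hna : ∃ a b : G, a * b ≠ b * a) :
    ∃ x y : G, IsMinNoncomm x y ∧ orderOf y ≤ orderOf x := by
  classical
  have hex : ∃ n : ℕ, ∃ x y : G, x * y ≠ y * x ∧ n = orderOf x + orderOf y := by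
    obtain ⟨a, b, hab⟩ := hna
    exact ⟨_, a, b, hab, rfl⟩
  obtain ⟨x, y, hxy, hn⟩ := Nat.find_spec hex
  have hmin : IsMinNoncomm x y := by
    refine ⟨hxy, fun x' y' h' => ?_⟩
    rw [← hn]
    exact Nat.find_min' hex ⟨x', y', h', rfl⟩
  rcases le_total (orderOf y) (orderOf x) with h | h
  · exact ⟨x, y, hmin, h⟩
  · exact ⟨y, x, hmin.symm, h⟩

end Dedekind

end Cfsg.Agent.Helper4
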