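import Mathlib
import Cfsg.Agent.Helper4.HamiltonianB

set_option autoImplicit false

namespace Cfsg.Agent.Helper4

section Dedekind

variable {G : Type*} [Group G] [Finite G]

theorem prime_dvd_choose_two_of_pow {p b : ℕ} (hp : p.Prime) (hb : 2 ≤ b)
    (hne : ¬ (p = 2 ∧ b = 2)) : p ∣ (p ^ (b - 1)).choose 2 := by
  obtain ⟨n, hn⟩ : ∃ n, n = p ^ (b - 1) := ⟨_, rfl⟩
  rw [← hn]
  have hpn : p ∣ n := by
    rw [hn]; exact dvd_pow_self p (by omega)
  have h2 : 2 * n.choose 2 = n * (n - 1) := by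
    rw [Nat.choose_two_right]
    exact Nat.mul_div_cancel' (Nat.even_mul_pred_self n).two_dvd
  by_cases hp2 : p = 2
  · have hb3 : 3 ≤ b := by
      by_contra hlt
      exact hne ⟨hp2, by omega⟩
    have h4 : 4 ∣ n := by
      rw [hn, hp2]
      have : b - 1 = 2 + (b - 3) := by omega
      rw [this, pow_add]
      exact Dvd.intro _ rfl
    obtain ⟨k, hk⟩ := h4
    rw [hp2]
    obtain ⟨m, hm⟩ : ∃ m, m = k * (n - 1) := ⟨_, rfl⟩
    have : 2 * n.choose 2 = 4 * m := by rw [h2, hm, ← mul_assoc, ← hk]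
    exact ⟨m, by omega⟩
  · have hcop : Nat.Coprime p 2 := (Nat.coprime_primes hp Nat.prime_two).2 hp2
    have : p ∣ 2 * n.choose 2 := by rw [h2]; exact Dvd.dvd.mul_right hpn _
    exact hcop.dvd_of_dvd_mul_left this

theorem quaternion_relations_of_isMinNoncomm (hn : ∀ H : Subgroup G, H.Normal) {x y : G}
    (h : IsMinNoncomm x y) (hle : orderOf y ≤ orderOf x) :
    x ^ 4 = 1 ∧ y * y = x ^ 2 ∧ x * y * x = y ∧ x ^ 2 ≠ 1 := by
  obtain ⟨hxy, hmin⟩ := h
  obtain ⟨t, htdef⟩ : ∃ t, t = twist x y := ⟨_, rfl⟩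
  have ht : y * x = x * y * t := by rw [htdef]; exact twist_spec x y
  have htmx : t ∈ Subgroup.zpowers x := by rw [htdef]; exact twist_mem_zpowers_left hn x y
  have htmy : t ∈ Subgroup.zpowers y := by rw [htdef]; exact twist_mem_zpowers_right hn x y
  have htx : Commute t x := commute_of_mem_zpowers htmx
  have hty : Commute t y := commute_of_mem_zpowers htmy
  have ht1 : t ≠ 1 := by
    intro h1
    rw [h1, mul_one] at ht
    exact hxy ht.symm
  -- primes dividing the orders kill t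
  have hpx : ∀ r : ℕ, r.Prime → r ∣ orderOf x → t ^ r = 1 := by
    intro r hr hdvd
    have hlt : orderOf (x ^ r) < orderOf x := by
      rw [orderOf_pow_of_dvd hr.ne_zero hdvd]
      exact Nat.div_lt_self (orderOf_pos x) hr.one_lt
    have hc : x ^ r * y = y * x ^ r := by
      by_contra hne
      have := hmin (x ^ r) y hne
      omega
    have h2 := twist_mul_pow x y t ht htx r
    rw [hc] at h2
    have h3 : y * x ^ r * 1 = y * x ^ r * t ^ r := by rw [mul_one]; exact h2
    exact (mul_left_cancel h3).symm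
  have hpy : ∀ r : ℕ, r.Prime → r ∣ orderOf y → t ^ r = 1 := by
    intro r hr hdvd
    have hlt : orderOf (y ^ r) < orderOf y := by
      rw [orderOf_pow_of_dvd hr.ne_zero hdvd]
      exact Nat.div_lt_self (orderOf_pos y) hr.one_lt
    have hc : x * y ^ r = y ^ r * x := by
      by_contra hne
      have := hmin x (y ^ r) hne
      omega
    have h2 := twist_pow_mul x y t ht hty r
    rw [← hc] at h2
    have h3 : x * y ^ r * 1 = x * y ^ r * t ^ r := by rw [mul_one]; exact h2
    exact (mul_left_cancel h3).symm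
  have hx1 : orderOf x ≠ 1 := by
    intro h1
    rw [orderOf_eq_one_iff] at h1
    apply hxy
    rw [h1, one_mul, mul_one]
  have hy1 : orderOf y ≠ 1 := by
    intro h1
    rw [orderOf_eq_one_iff] at h1
    apply hxy
    rw [h1, one_mul, mul_one]
  obtain ⟨p, hpdef⟩ : ∃ p, p = orderOf t := ⟨_, rfl⟩
  have hkill : ∀ r : ℕ, r.Prime → t ^ r = 1 → r = p := by
    intro r hr hk
    have hd : orderOf t ∣ r := orderOf_dvd_of_pow_eq_one hk
    rcases (Nat.dvd_prime hr).1 hd with h1 | h1
    · exact absurd (orderOf_eq_one_iff.1 h1) ht1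
    · rw [hpdef, h1]
  have hp : p.Prime := by
    obtain ⟨r, hr, hrd⟩ := Nat.exists_prime_and_dvd hx1
    rw [← hkill r hr (hpx r hr hrd)]
    exact hr
  have htp : t ^ p = 1 := by rw [hpdef]; exact pow_orderOf_eq_one t
  obtain ⟨a, ha⟩ : ∃ a, orderOf x = p ^ a :=
    ⟨_, Nat.eq_prime_pow_of_unique_prime_dvd (orderOf_pos x).ne'
      (fun {d} hd hdd => hkill d hd (hpx d hd hdd))⟩
  obtain ⟨b, hb⟩ : ∃ b, orderOf y = p ^ b :=
    ⟨_, Nat.eq_prime_pow_of_unique_prime_dvd (orderOf_pos y).ne'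
      (fun {d} hd hdd => hkill d hd (hpy d hd hdd))⟩
  have ha0 : a ≠ 0 := by
    rintro rfl
    rw [pow_zero] at ha
    exact hx1 ha
  have hb0 : b ≠ 0 := by
    rintro rfl
    rw [pow_zero] at hb
    exact hy1 hb
  have hba : b ≤ a := by
    rw [ha, hb] at hle
    exact (Nat.pow_le_pow_iff_right hp.one_lt).1 hle
  -- the elements of order p
  obtain ⟨X, hXdef⟩ : ∃ X, X = x ^ (p ^ (a - 1)) := ⟨_, rfl⟩
  obtain ⟨W, hWdef⟩ : ∃ W, W = y ^ (p ^ (b - 1)) := ⟨_, rfl⟩
  have hXp : X ^ p = 1 := by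
    rw [hXdef, ← pow_mul, ← pow_succ, Nat.sub_add_cancel (Nat.one_le_iff_ne_zero.2 ha0), ← ha]
    exact pow_orderOf_eq_one x
  have hWp : W ^ p = 1 := by
    rw [hWdef, ← pow_mul, ← pow_succ, Nat.sub_add_cancel (Nat.one_le_iff_ne_zero.2 hb0), ← hb]
    exact pow_orderOf_eq_one y
  have hX1 : X ≠ 1 := by
    intro h1
    rw [hXdef] at h1
    have hd : orderOf x ∣ p ^ (a - 1) := orderOf_dvd_of_pow_eq_one h1
    rw [ha] at hd
    have := (Nat.pow_dvd_pow_iff_le_right hp.one_lt).1 hd
    omega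
  have hXm : X ∈ Subgroup.zpowers x := by
    rw [hXdef]; exact Subgroup.pow_mem _ (Subgroup.mem_zpowers x) _
  have hWm : W ∈ Subgroup.zpowers y := by
    rw [hWdef]; exact Subgroup.pow_mem _ (Subgroup.mem_zpowers y) _
  -- W⁻¹ is a power of t, t is a power of X
  obtain ⟨i, hi⟩ := exists_pow_eq_of_pow_prime_eq_one hp y W⁻¹ t
    (Subgroup.inv_mem _ hWm) (by rw [inv_pow, hWp, inv_one]) htmy htp ht1
  obtain ⟨l, hl⟩ := exists_pow_eq_of_pow_prime_eq_one hp x t X htmx htp hXm hXp hX1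
  obtain ⟨j, hj⟩ : ∃ j : ℕ, X ^ j = W⁻¹ := ⟨l * i, by rw [pow_mul, hl, hi]⟩
  -- b ≥ 2
  have hb2 : 2 ≤ b := by
    by_contra hlt
    have hb1 : b = 1 := by omega
    rw [hb1, Nat.sub_self, pow_zero, pow_one] at hWdef
    have hyx : y⁻¹ ∈ Subgroup.zpowers x := by
      rw [← hWdef, ← hj]
      exact Subgroup.pow_mem _ hXm _
    have hc : Commute y⁻¹ x := commute_of_mem_zpowers hyx
    exact hxy (Commute.inv_left_iff.1 hc).eq.symm
  -- the modified element
  obtain ⟨e, hedef⟩ : ∃ e, e = p ^ (a - b) * j := ⟨_, rfl⟩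
  obtain ⟨z, hzdef⟩ : ∃ z, z = x ^ e := ⟨_, rfl⟩
  have hzpow : z ^ (p ^ (b - 1)) = W⁻¹ := by
    rw [hzdef, hedef, ← pow_mul, ← hj, hXdef, ← pow_mul]
    congr 1
    have : p ^ (a - 1) = p ^ (a - b) * p ^ (b - 1) := by
      rw [← pow_add]; congr 1; omega
    rw [this]; ring
  have hzx : Commute z x := by rw [hzdef]; exact (Commute.refl x).pow_left e
  have hnc : x * (z * y) ≠ (z * y) * x := by
    intro hc
    apply hxy
    have h1 : z * (x * y) = z * (y * x) := by
      calc z * (x * y) = (z * x) * y := by rw [mul_assoc]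
        _ = (x * z) * y := by rw [hzx.eq]
        _ = x * (z * y) := by rw [mul_assoc]
        _ = (z * y) * x := hc
        _ = z * (y * x) := by rw [mul_assoc]
    exact mul_left_cancel h1
  have hord := hmin x (z * y) hnc
  have hyz : y * z = z * y * t ^ e := by rw [hzdef]; exact twist_mul_pow x y t ht htx e
  have htez : Commute (t ^ e) z := by rw [hzdef]; exact (htx.pow_left e).pow_right e
  have htey : Commute (t ^ e) y := hty.pow_left e
  have hpow := twist_mul_pow_choose z y (t ^ e) hyz htez htey (p ^ (b - 1))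
  rw [hzpow, ← hWdef, inv_mul_cancel, one_mul, ← pow_mul] at hpow
  by_cases hgood : p = 2 ∧ a = 2 ∧ b = 2
  · obtain ⟨hp2, ha2, hb2'⟩ := hgood
    subst hp2 ha2 hb2'
    have hX2 : X = x ^ 2 := by rw [hXdef]; norm_num
    have hW2 : W = y ^ 2 := by rw [hWdef]; norm_num
    have htX : t = X := by
      rcases Nat.even_or_odd' l with ⟨k, hk | hk⟩
      · rw [hk, pow_mul, hXp, one_pow] at hl
        exact absurd hl.symm ht1
      · rw [hk, pow_succ, pow_mul, hXp, one_pow, one_mul] at hl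
        exact hl.symm
    have hW1 : W ≠ 1 := by
      intro h1
      rw [hW2] at h1
      have hd : orderOf y ∣ 2 := orderOf_dvd_of_pow_eq_one h1
      rw [hb] at hd
      have := Nat.le_of_dvd (by norm_num) hd
      omega
    have hWinv : W⁻¹ = W := by
      rw [inv_eq_iff_mul_eq_one, ← pow_two]; exact hWp
    have htW : t = W := by
      rw [hWinv] at hi
      rcases Nat.even_or_odd' i with ⟨k, hk | hk⟩
      · rw [hk, pow_mul, htp, one_pow] at hi
        exact absurd hi.symm hW1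
      · rw [hk, pow_succ, pow_mul, htp, one_pow, one_mul] at hi
        exact hi
    have hx4 : x ^ 4 = 1 := by
      have := pow_orderOf_eq_one x
      rw [ha] at this
      exact this
    refine ⟨hx4, ?_, ?_, ?_⟩
    · rw [← pow_two, ← hW2, ← htW, htX, hX2]
    · have htt : t * t = 1 := by rw [← pow_two]; exact htp
      calc x * y * x = x * (y * x) := by rw [mul_assoc]
        _ = x * (x * y * t) := by rw [ht]
        _ = x ^ 2 * y * t := by rw [pow_two]; simp only [mul_assoc]
        _ = t * y * t := by rw [← hX2, ← htX]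
        _ = y * t * t := by rw [hty.eq]
        _ = y := by rw [mul_assoc, htt, mul_one]
    · rw [← hX2]; exact hX1
  · exfalso
    have hdvd : p ∣ e * (p ^ (b - 1)).choose 2 := by
      by_cases hab : a = b
      · have hne : ¬ (p = 2 ∧ b = 2) := fun h => hgood ⟨h.1, hab.trans h.2, h.2⟩
        exact Dvd.dvd.mul_left (prime_dvd_choose_two_of_pow hp hb2 hne) _
      · have h1 : p ∣ e := by
          rw [hedef]
          exact Dvd.dvd.mul_right (dvd_pow_self p (by omega)) _
        exact Dvd.dvd.mul_right h1 _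
    have h1 : (z * y) ^ (p ^ (b - 1)) = 1 := by
      rw [hpow]
      obtain ⟨c, hc⟩ := hdvd
      rw [hc, pow_mul, htp, one_pow]
    have hd : orderOf (z * y) ∣ p ^ (b - 1) := orderOf_dvd_of_pow_eq_one h1
    have hle2 : orderOf (z * y) ≤ p ^ (b - 1) := Nat.le_of_dvd (pow_pos hp.pos _) hd
    have hlt : p ^ (b - 1) < p ^ b := Nat.pow_lt_pow_right hp.one_lt (by omega)
    rw [hb] at hord
    omega

end Dedekind

end Cfsg.Agent.Helper4
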