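import Mathlib
import Cfsg.Agent.Helper4.HamiltonianC

set_option autoImplicit false

namespace Cfsg.Agent.Helper4

section Dedekind

variable {G : Type*} [Group G]

/-- in a group with all subgroups normal, an element with `u^4 = 1 ≠ u^2` is conjugate only to
itself and its inverse -/
theorem conj_eq_or_inv_of_pow_four (hn : ∀ H : Subgroup G, H.Normal) (u : G) (hu4 : u ^ 4 = 1)
    (hu2 : u ^ 2 ≠ 1) (g : G) : g * u * g⁻¹ = u ∨ g * u * g⁻¹ = u⁻¹ := by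
  have hmem : g * u * g⁻¹ ∈ Subgroup.zpowers u := (hn _).conj_mem _ (Subgroup.mem_zpowers u) g
  have hfin : IsOfFinOrder u := isOfFinOrder_iff_pow_eq_one.2 ⟨4, by norm_num, hu4⟩
  rw [← hfin.mem_powers_iff_mem_zpowers, Submonoid.mem_powers_iff] at hmem
  obtain ⟨k, hk⟩ := hmem
  rw [pow_eq_pow_mod k hu4] at hk
  have hlt : k % 4 < 4 := Nat.mod_lt _ (by norm_num)
  have hsq : (g * u * g⁻¹) ^ 2 ≠ 1 := by
    intro h1
    rw [conj_pow] at h1
    apply hu2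
    have : u ^ 2 = g⁻¹ * (g * u ^ 2 * g⁻¹) * g := by group
    rw [this, h1]; group
  obtain ⟨r, hr⟩ : ∃ r, r = k % 4 := ⟨_, rfl⟩
  rw [← hr] at hk hlt
  interval_cases r
  · exfalso
    rw [pow_zero] at hk
    rw [← hk, one_pow] at hsq
    exact hsq rfl
  · left; rw [← hk, pow_one]
  · exfalso
    rw [← hk, ← pow_mul] at hsq
    exact hsq hu4
  · right
    rw [← hk]
    rw [eq_inv_iff_mul_eq_one, ← pow_succ]
    exact hu4

variable (hn : ∀ H : Subgroup G, H.Normal) (x y : G) (hx4 : x ^ 4 = 1) (hyy : y * y = x ^ 2)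
  (hxyx : x * y * x = y) (hx2 : x ^ 2 ≠ 1)

include hx4 hyy hxyx hx2

theorem quat_not_comm : x * y ≠ y * x := by
  intro h
  apply hx2
  have h1 : y * x ^ 2 = y * 1 := by
    calc y * x ^ 2 = y * x * x := by rw [pow_two, mul_assoc]
      _ = x * y * x := by rw [h]
      _ = y := hxyx
      _ = y * 1 := (mul_one y).symm
  exact mul_left_cancel h1

theorem quat_y_pow_four : y ^ 4 = 1 := by
  have : y ^ 4 = (y * y) ^ 2 := by rw [← pow_two, ← pow_mul]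
  rw [this, hyy, ← pow_mul]
  exact hx4

theorem quat_y_sq_ne : y ^ 2 ≠ 1 := by
  rw [pow_two, hyy]; exact hx2

/-- `y x y⁻¹ = x⁻¹` -/
theorem quat_conj_y : y * x * y⁻¹ = x⁻¹ := by
  have : y * x = x⁻¹ * y := by
    rw [eq_inv_mul_iff_mul_eq, ← mul_assoc]; exact hxyx
  rw [this, mul_inv_cancel_right]

/-- `x y x⁻¹ = y⁻¹` -/
theorem quat_conj_x : x * y * x⁻¹ = y⁻¹ := by
  -- x y = y x⁻¹ and x⁻² = y⁻²
  have h1 : x * y = y * x⁻¹ := by
    rw [eq_mul_inv_iff_mul_eq]; exact hxyx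
  have hx2inv : x⁻¹ * x⁻¹ = x ^ 2 := by
    have : x ^ 2 * (x ^ 2) = 1 := by rw [← pow_add]; exact hx4
    have h2 : x⁻¹ * x⁻¹ = (x ^ 2)⁻¹ := by rw [pow_two, mul_inv_rev]
    rw [h2, inv_eq_iff_mul_eq_one]; exact this
  have hy3 : y * (y * y) = y⁻¹ := by
    rw [eq_inv_iff_mul_eq_one]
    have := quat_y_pow_four x y hx4 hyy hxyx hx2
    calc y * (y * y) * y = y ^ 4 := by simp only [pow_succ, pow_zero, one_mul, mul_assoc]
      _ = 1 := this
  calc x * y * x⁻¹ = y * x⁻¹ * x⁻¹ := by rw [h1]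
    _ = y * (x⁻¹ * x⁻¹) := by rw [mul_assoc]
    _ = y * (y * y) := by rw [hx2inv, hyy]
    _ = y⁻¹ := hy3

include hn

/-- every element is a product of an element of `⟨x, y⟩` and an element centralizing `x` and `y` -/
theorem quat_factor (g : G) : ∃ q ∈ Subgroup.closure ({x, y} : Set G),
    (q⁻¹ * g) * x = x * (q⁻¹ * g) ∧ (q⁻¹ * g) * y = y * (q⁻¹ * g) := by
  have hxQ : x ∈ Subgroup.closure ({x, y} : Set G) := Subgroup.subset_closure (by simp)
  have hyQ : y ∈ Subgroup.closure ({x, y} : Set G) := Subgroup.subset_closure (by simp)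
  have hcy := quat_conj_y x y hx4 hyy hxyx hx2
  have hcx := quat_conj_x x y hx4 hyy hxyx hx2
  have hy4 := quat_y_pow_four x y hx4 hyy hxyx hx2
  have hy2 := quat_y_sq_ne x y hx4 hyy hxyx hx2
  -- first make it centralize x
  obtain ⟨q₁, hq₁, h1⟩ : ∃ q₁ ∈ Subgroup.closure ({x, y} : Set G),
      (q₁⁻¹ * g) * x = x * (q₁⁻¹ * g) := by
    rcases conj_eq_or_inv_of_pow_four hn x hx4 hx2 g with h | h
    · refine ⟨1, Subgroup.one_mem _, ?_⟩
      rw [inv_one, one_mul]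
      calc g * x = g * x * g⁻¹ * g := by group
        _ = x * g := by rw [h]
    · refine ⟨y, hyQ, ?_⟩
      have h2 : y⁻¹ * x⁻¹ = x * y⁻¹ := by
        rw [← hcy]; group
      calc y⁻¹ * g * x = y⁻¹ * (g * x * g⁻¹) * g := by group
        _ = y⁻¹ * x⁻¹ * g := by rw [h]
        _ = x * y⁻¹ * g := by rw [h2]
        _ = x * (y⁻¹ * g) := by rw [mul_assoc]
  obtain ⟨g₁, hg₁⟩ : ∃ g₁, g₁ = q₁⁻¹ * g := ⟨_, rfl⟩
  rw [← hg₁] at h1
  rcases conj_eq_or_inv_of_pow_four hn y hy4 hy2 g₁ with h | h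
  · refine ⟨q₁, hq₁, ?_, ?_⟩
    · rw [← hg₁]; exact h1
    · rw [← hg₁]
      calc g₁ * y = g₁ * y * g₁⁻¹ * g₁ := by group
        _ = y * g₁ := by rw [h]
  · refine ⟨q₁ * x, Subgroup.mul_mem _ hq₁ hxQ, ?_, ?_⟩
    · have : (q₁ * x)⁻¹ * g = x⁻¹ * g₁ := by rw [hg₁]; group
      rw [this]
      calc x⁻¹ * g₁ * x = x⁻¹ * (g₁ * x) := by rw [mul_assoc]
        _ = x⁻¹ * (x * g₁) := by rw [h1]
        _ = x * (x⁻¹ * g₁) := by group
    · have : (q₁ * x)⁻¹ * g = x⁻¹ * g₁ := by rw [hg₁]; group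
      rw [this]
      have h2 : x⁻¹ * y⁻¹ = y * x⁻¹ := by
        rw [← hcx]; group
      calc x⁻¹ * g₁ * y = x⁻¹ * (g₁ * y * g₁⁻¹) * g₁ := by group
        _ = x⁻¹ * y⁻¹ * g₁ := by rw [h]
        _ = y * x⁻¹ * g₁ := by rw [h2]
        _ = y * (x⁻¹ * g₁) := by rw [mul_assoc]

end Dedekind

end Cfsg.Agent.Helper4
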