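import Mathlib
import Cfsg.Agent.Helper4.HamiltonianD

set_option autoImplicit false
set_option linter.unusedSectionVars false

namespace Cfsg.Agent.Helper4

section Dedekind

variable {G : Type*} [Group G]

variable (hn : ∀ H : Subgroup G, H.Normal) (x y : G) (hx4 : x ^ 4 = 1) (hyy : y * y = x ^ 2)
  (hxyx : x * y * x = y) (hx2 : x ^ 2 ≠ 1)

include hn hx4 hyy hxyx hx2

theorem quat_centralizer_sq (c : G) (hcx : c * x = x * c) (hcy : c * y = y * c)
    (hc4 : c ^ 4 = 1) : c ^ 2 = 1 := by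
  obtain ⟨v, hv⟩ : ∃ v, v = c * y := ⟨_, rfl⟩
  obtain ⟨t, ht⟩ : ∃ t, t = x ^ 2 := ⟨_, rfl⟩
  have htt : t * t = 1 := by rw [ht, ← pow_add]; exact hx4
  have ht1 : t ≠ 1 := by rw [ht]; exact hx2
  have hcyx := quat_conj_y x y hx4 hyy hxyx hx2
  have hyx : x⁻¹ * y = y * x := by
    rw [← hcyx]; group
  have htw : twist x v = t := by
    unfold twist
    rw [hv]
    have h1 : c⁻¹ * x⁻¹ * c = x⁻¹ := by
      have : x⁻¹ * c = c * x⁻¹ := by
        calc x⁻¹ * c = x⁻¹ * (c * x) * x⁻¹ := by group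
          _ = x⁻¹ * (x * c) * x⁻¹ := by rw [hcx]
          _ = c * x⁻¹ := by group
      rw [mul_assoc, this]; group
    calc (c * y)⁻¹ * x⁻¹ * (c * y) * x = y⁻¹ * (c⁻¹ * x⁻¹ * c) * y * x := by group
      _ = y⁻¹ * x⁻¹ * y * x := by rw [h1]
      _ = y⁻¹ * (x⁻¹ * y) * x := by simp only [mul_assoc]
      _ = y⁻¹ * (y * x) * x := by rw [hyx]
      _ = x ^ 2 := by rw [pow_two]; group
      _ = t := ht.symm
  have hmem : t ∈ Subgroup.zpowers v := by
    rw [← htw]; exact twist_mem_zpowers_right hn x v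
  have hcc : Commute c y := hcy
  have hv2 : v ^ 2 = c ^ 2 * t := by
    rw [hv, hcc.mul_pow, ht, pow_two y, hyy]
  have hct : Commute (c ^ 2) t := by
    rw [ht]
    exact ((show Commute c x from hcx).pow_left 2).pow_right 2
  have hv4 : v ^ 4 = 1 := by
    have : v ^ 4 = (v ^ 2) ^ 2 := by rw [← pow_mul]
    rw [this, hv2, hct.mul_pow, ← pow_mul, hc4, one_mul, pow_two, htt]
  have hfin : IsOfFinOrder v := isOfFinOrder_iff_pow_eq_one.2 ⟨4, by norm_num, hv4⟩
  rw [← hfin.mem_powers_iff_mem_zpowers, Submonoid.mem_powers_iff] at hmem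
  obtain ⟨k, hk⟩ := hmem
  rw [pow_eq_pow_mod k hv4] at hk
  have hlt : k % 4 < 4 := Nat.mod_lt _ (by norm_num)
  obtain ⟨r, hr⟩ : ∃ r, r = k % 4 := ⟨_, rfl⟩
  rw [← hr] at hk hlt
  -- the case v = t is impossible
  have hbad : v = t → False := by
    intro hvt
    rw [hv] at hvt
    have hc : c = t * y⁻¹ := eq_mul_inv_of_mul_eq hvt
    have hcx' := hcx
    rw [hc, ht] at hcx'
    have h3 : x ^ 2 * (y⁻¹ * x) = x ^ 2 * (x * y⁻¹) := by
      calc x ^ 2 * (y⁻¹ * x) = x ^ 2 * y⁻¹ * x := by rw [mul_assoc]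
        _ = x * (x ^ 2 * y⁻¹) := hcx'
        _ = x ^ 2 * (x * y⁻¹) := by
          rw [← mul_assoc, ← mul_assoc, ← pow_succ', ← pow_succ]
    have h4 : y⁻¹ * x = x * y⁻¹ := mul_left_cancel h3
    apply quat_not_comm x y hx4 hyy hxyx hx2
    calc x * y = y * (y⁻¹ * x) * y := by group
      _ = y * (x * y⁻¹) * y := by rw [h4]
      _ = y * x := by group
  interval_cases r
  · rw [pow_zero] at hk
    exact absurd hk.symm ht1
  · rw [pow_one] at hk
    exact absurd hk hbad
  · rw [hv2] at hk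
    have : c ^ 2 * t = 1 * t := by rw [one_mul]; exact hk
    exact mul_right_cancel this
  · exfalso
    apply hbad
    calc v = v * (t * t) := by rw [htt, mul_one]
      _ = v * v ^ 3 * t := by rw [hk, mul_assoc]
      _ = v ^ 4 * t := by rw [← pow_succ']
      _ = t := by rw [hv4, one_mul]

theorem quat_centralizer_two_pow (i : ℕ) : ∀ c : G, c * x = x * c → c * y = y * c →
    c ^ (2 ^ i) = 1 → c ^ 2 = 1 := by
  induction i with
  | zero =>
    intro c _ _ h
    rw [pow_zero, pow_one] at h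
    rw [h, one_pow]
  | succ i ih =>
    intro c hcx hcy h
    rcases Nat.eq_zero_or_pos i with h0 | hpos
    · rw [h0] at h
      simpa using h
    · obtain ⟨j, rfl⟩ : ∃ j, i = j + 1 := ⟨i - 1, by omega⟩
      have hcx' : c ^ (2 ^ j) * x = x * c ^ (2 ^ j) := ((show Commute c x from hcx).pow_left _).eq
      have hcy' : c ^ (2 ^ j) * y = y * c ^ (2 ^ j) := ((show Commute c y from hcy).pow_left _).eq
      have h4 : (c ^ (2 ^ j)) ^ 4 = 1 := by
        rw [← pow_mul]
        have : 2 ^ j * 4 = 2 ^ (j + 1 + 1) := by ring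
        rw [this]; exact h
      have h2 := quat_centralizer_sq hn x y hx4 hyy hxyx hx2 _ hcx' hcy' h4
      apply ih c hcx hcy
      rw [← pow_mul] at h2
      have : 2 ^ j * 2 = 2 ^ (j + 1) := by ring
      rw [this] at h2
      exact h2

theorem quat_centralizer_comm [Finite G] (a b : G)
    (ha : a ∈ Subgroup.centralizer ({x, y} : Set G))
    (hb : b ∈ Subgroup.centralizer ({x, y} : Set G)) : a * b = b * a := by
  by_contra hab
  obtain ⟨C, hC⟩ : ∃ C : Subgroup G, C = Subgroup.centralizer ({x, y} : Set G) := ⟨_, rfl⟩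
  rw [← hC] at ha hb
  have hnC : ∀ K : Subgroup C, K.Normal := by
    intro K
    constructor
    intro k hk c
    have h1 : (K.map C.subtype).Normal := hn _
    have h2 : (k : G) ∈ K.map C.subtype := ⟨k, hk, rfl⟩
    have h3 := h1.conj_mem _ h2 (c : G)
    obtain ⟨k', hk', hkk⟩ := h3
    have : k' = c * k * c⁻¹ := Subtype.ext (by rw [Subgroup.coe_subtype] at hkk; rw [hkk]; simp)
    rw [← this]; exact hk'
  have hna : ∃ a' b' : C, a' * b' ≠ b' * a' :=
    ⟨⟨a, ha⟩, ⟨b, hb⟩, fun h => hab (congrArg Subtype.val h)⟩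
  obtain ⟨x', y', hmin, hle⟩ := exists_isMinNoncomm hna
  obtain ⟨h4, -, -, h2⟩ := quaternion_relations_of_isMinNoncomm hnC hmin hle
  apply h2
  have hx'C : (x' : G) ∈ Subgroup.centralizer ({x, y} : Set G) := by rw [← hC]; exact x'.2
  rw [Subgroup.mem_centralizer_iff] at hx'C
  have hcx : (x' : G) * x = x * (x' : G) := (hx'C x (by simp)).symm
  have hcy : (x' : G) * y = y * (x' : G) := (hx'C y (by simp)).symm
  have h4' : (x' : G) ^ 4 = 1 := by
    have := congrArg Subtype.val h4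
    simpa using this
  have := quat_centralizer_sq hn x y hx4 hyy hxyx hx2 _ hcx hcy h4'
  apply Subtype.ext
  simpa using this

end Dedekind

end Cfsg.Agent.Helper4
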