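import Mathlib
import Cfsg.Agent.Helper4.HamiltonianE
import Cfsg.Agent.Helper4.DicyclicHom

set_option autoImplicit false

namespace Cfsg.Agent.Helper4

section Dedekind

variable {G : Type*} [Group G]

/-- elements of `C` with square one -/
def sqOneSubgroup (C : Subgroup G) (hC : ∀ a ∈ C, ∀ b ∈ C, a * b = b * a) : Subgroup G where
  carrier := {g | g ∈ C ∧ g ^ 2 = 1}
  one_mem' := ⟨C.one_mem, one_pow 2⟩
  mul_mem' := by
    rintro a b ⟨ha, ha2⟩ ⟨hb, hb2⟩
    exact ⟨C.mul_mem ha hb, by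
      rw [(show Commute a b from hC a ha b hb).mul_pow, ha2, hb2, one_mul]⟩
  inv_mem' := by
    rintro a ⟨ha, ha2⟩
    exact ⟨C.inv_mem ha, by rw [inv_pow, ha2, inv_one]⟩

/-- elements of `C` of odd order -/
def oddSubgroup (C : Subgroup G) (hC : ∀ a ∈ C, ∀ b ∈ C, a * b = b * a) : Subgroup G where
  carrier := {g | g ∈ C ∧ ∃ m : ℕ, Odd m ∧ g ^ m = 1}
  one_mem' := ⟨C.one_mem, 1, odd_one, one_pow 1⟩
  mul_mem' := by
    rintro a b ⟨ha, m, hm, ham⟩ ⟨hb, m', hm', hbm⟩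
    refine ⟨C.mul_mem ha hb, m * m', hm.mul hm', ?_⟩
    rw [(show Commute a b from hC a ha b hb).mul_pow, pow_mul, ham, one_pow, mul_comm m m',
      pow_mul, hbm, one_pow, one_mul]
  inv_mem' := by
    rintro a ⟨ha, m, hm, ham⟩
    exact ⟨C.inv_mem ha, m, hm, by rw [inv_pow, ham, inv_one]⟩

theorem mem_sqOneSubgroup {C : Subgroup G} {hC : ∀ a ∈ C, ∀ b ∈ C, a * b = b * a} {g : G} :
    g ∈ sqOneSubgroup C hC ↔ g ∈ C ∧ g ^ 2 = 1 := Iff.rfl

theorem mem_oddSubgroup {C : Subgroup G} {hC : ∀ a ∈ C, ∀ b ∈ C, a * b = b * a} {g : G} :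
    g ∈ oddSubgroup C hC ↔ g ∈ C ∧ ∃ m : ℕ, Odd m ∧ g ^ m = 1 := Iff.rfl

theorem eq_one_of_sq_of_odd_pow {g : G} (h2 : g ^ 2 = 1) {m : ℕ} (hm : Odd m) (hgm : g ^ m = 1) :
    g = 1 := by
  obtain ⟨k, rfl⟩ := hm
  rw [pow_succ, pow_mul, h2, one_pow, one_mul] at hgm
  exact hgm

/-- a complement to `⟨t⟩` in an elementary abelian 2-group, in the form we need -/
theorem exists_complement_of_sq_one [Finite G] (hn : ∀ H : Subgroup G, H.Normal)
    (E1 : Subgroup G) (hE1 : ∀ g ∈ E1, g ^ 2 = 1) (t : G) (ht1 : t ≠ 1) :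
    ∃ E : Subgroup G, E ≤ E1 ∧ t ∉ E ∧ ∀ g ∈ E1, g ∈ E ∨ g * t ∈ E := by
  have hne : Nonempty {K : Subgroup G // K ≤ E1 ∧ t ∉ K} :=
    ⟨⟨⊥, bot_le, by rw [Subgroup.mem_bot]; exact ht1⟩⟩
  obtain ⟨⟨E, hEle, htE⟩, hmax⟩ :=
    Finite.exists_max (fun K : {K : Subgroup G // K ≤ E1 ∧ t ∉ K} => Nat.card K.1)
  refine ⟨E, hEle, htE, ?_⟩
  intro g hg
  by_cases hgE : g ∈ E
  · exact Or.inl hgE
  right
  have hK' : E ⊔ Subgroup.zpowers g ≤ E1 := sup_le hEle (Subgroup.zpowers_le.2 hg)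
  have htK : t ∈ E ⊔ Subgroup.zpowers g := by
    by_contra htK
    have h1 := hmax ⟨E ⊔ Subgroup.zpowers g, hK', htK⟩
    have h2 : E = E ⊔ Subgroup.zpowers g := Subgroup.eq_of_le_of_card_ge le_sup_left h1
    apply hgE
    rw [h2]
    exact (le_sup_right : Subgroup.zpowers g ≤ _) (Subgroup.mem_zpowers g)
  have hnz : (Subgroup.zpowers g).Normal := hn _
  have htK' : t ∈ ((E ⊔ Subgroup.zpowers g : Subgroup G) : Set G) := htK
  rw [Subgroup.mul_normal E (Subgroup.zpowers g), Set.mem_mul] at htK'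
  obtain ⟨e, he, z, hz, hez⟩ := htK'
  have hg2 : g ^ 2 = 1 := hE1 g hg
  have hfin : IsOfFinOrder g := isOfFinOrder_iff_pow_eq_one.2 ⟨2, by norm_num, hg2⟩
  have hz' : z ∈ Subgroup.zpowers g := hz
  rw [← hfin.mem_powers_iff_mem_zpowers, Submonoid.mem_powers_iff] at hz'
  obtain ⟨k, hk⟩ := hz'
  rcases Nat.even_or_odd' k with ⟨m, hm | hm⟩
  · exfalso
    rw [hm, pow_mul, hg2, one_pow] at hk
    rw [← hk, mul_one] at hez
    apply htE
    rw [← hez]
    exact he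
  · rw [hm, pow_succ, pow_mul, hg2, one_pow, one_mul] at hk
    rw [← hk] at hez
    -- e * g = t, so g * t = g * e * g; everything has square one
    have he2 : e ^ 2 = 1 := hE1 e (hEle he)
    have ht2 : t ^ 2 = 1 := by
      rw [← hez]
      exact hE1 _ (E1.mul_mem (hEle he) hg)
    have : g * t = e⁻¹ := by
      rw [eq_inv_iff_mul_eq_one]
      -- g * t * e = 1 : from t = e g : (e g)^2 = 1
      have h3 : e * g * (e * g) = 1 := by rw [← pow_two, hez]; exact ht2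
      have hgg : g * g = 1 := by rw [← pow_two]; exact hg2
      have hee : e * e = 1 := by rw [← pow_two]; exact he2
      -- g * (e * g) * e = g * e * g * e ; from e g e g = 1 get g e g e = 1 by conjugation
      calc g * t * e = g * (e * g) * e := by rw [hez]
        _ = e⁻¹ * (e * g * (e * g)) * e := by group
        _ = 1 := by rw [h3]; group
    rw [this]
    exact E.inv_mem he

end Dedekind

end Cfsg.Agent.Helper4
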