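import Mathlib
import Cfsg.Agent.Helper4.HamiltonianF

set_option autoImplicit false

namespace Cfsg.Agent.Helper4

open QuaternionGroup

section Dedekind

variable {G : Type*} [Group G]

theorem hamiltonian_structure [Finite G] (hn : ∀ H : Subgroup G, H.Normal)
    (hna : ∃ a b : G, a * b ≠ b * a) :
    ∃ Q E A : Subgroup G, Nonempty (Q ≃* QuaternionGroup 2) ∧
      (IsMulCommutative E ∧ ∀ a ∈ E, a ^ 2 = 1) ∧ IsMulCommutative A ∧ Odd (Nat.card A) ∧
      E ⊓ A = ⊥ ∧ Q ⊓ (E ⊔ A) = ⊥ ∧ Q ⊔ (E ⊔ A) = ⊤ := by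
  obtain ⟨x, y, hmin, hle⟩ := exists_isMinNoncomm hna
  obtain ⟨hx4, hyy, hxyx, hx2⟩ := quaternion_relations_of_isMinNoncomm hn hmin hle
  have hnc := quat_not_comm x y hx4 hyy hxyx hx2
  obtain ⟨C, hC⟩ : ∃ C : Subgroup G, C = Subgroup.centralizer ({x, y} : Set G) := ⟨_, rfl⟩
  have hCmem : ∀ g, g ∈ C ↔ g * x = x * g ∧ g * y = y * g := by
    intro g
    rw [hC, Subgroup.mem_centralizer_iff]
    constructor
    · intro h
      exact ⟨(h x (by simp)).symm, (h y (by simp)).symm⟩
    · rintro ⟨h1, h2⟩ z hz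
      rcases hz with rfl | hz
      · exact h1.symm
      · rw [Set.mem_singleton_iff] at hz
        subst hz
        exact h2.symm
  have hCcomm : ∀ a ∈ C, ∀ b ∈ C, a * b = b * a := fun a ha b hb =>
    quat_centralizer_comm hn x y hx4 hyy hxyx hx2 a b (by rw [← hC]; exact ha)
      (by rw [← hC]; exact hb)
  obtain ⟨t, ht⟩ : ∃ t, t = x ^ 2 := ⟨_, rfl⟩
  have htt : t * t = 1 := by rw [ht, ← pow_add]; exact hx4
  have ht1 : t ≠ 1 := by rw [ht]; exact hx2
  have htC : t ∈ C := by
    rw [hCmem]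
    refine ⟨?_, ?_⟩
    · rw [ht]; exact ((Commute.refl x).pow_left 2).eq
    · rw [ht, ← hyy, mul_assoc]
  have hxQ : x ∈ Subgroup.closure ({x, y} : Set G) := Subgroup.subset_closure (by simp)
  have hyQ : y ∈ Subgroup.closure ({x, y} : Set G) := Subgroup.subset_closure (by simp)
  have htQ : t ∈ Subgroup.closure ({x, y} : Set G) := by
    rw [ht]; exact Subgroup.pow_mem _ hxQ 2
  obtain ⟨E, hEle, htE, hEor⟩ := exists_complement_of_sq_one hn (sqOneSubgroup C hCcomm)
    (fun g hg => hg.2) t ht1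
  have hEC : E ≤ C := fun g hg => (hEle hg).1
  have hAC : oddSubgroup C hCcomm ≤ C := fun g hg => hg.1
  -- the quaternion group
  have hu : x ^ (2 * 2) = 1 := hx4
  have hord : ∀ k : ℕ, 0 < k → k < 2 * 2 → x ^ k ≠ 1 := by
    intro k hk0 hk4 hxk
    have hx1 : x ≠ 1 := by
      intro h1
      apply hx2
      rw [h1, one_pow]
    interval_cases k
    · rw [pow_one] at hxk
      exact hx1 hxk
    · exact hx2 hxk
    · apply hx1
      have : x ^ 4 = x ^ 3 * x := pow_succ x 3
      rw [hx4, hxk, one_mul] at this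
      exact this.symm
  have hJu : ∀ k : ℕ, y * x ^ k ≠ 1 := by
    intro k hk
    apply hnc
    have hy : y = (x ^ k)⁻¹ := eq_inv_of_mul_eq_one_left hk
    rw [hy]
    exact ((Commute.refl x).pow_right k).inv_right.eq
  have hinj := dicyclicHom_injective (n := 2) x y hu hyy hxyx hord hJu
  have hrange : (dicyclicHom (n := 2) x y hu hyy hxyx).range = Subgroup.closure ({x, y} : Set G) := by
    apply le_antisymm
    · rintro _ ⟨q, rfl⟩
      rcases q with i | i
      · rw [dicyclicHom_a]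
        exact Subgroup.pow_mem _ hxQ _
      · rw [dicyclicHom_xa]
        exact Subgroup.mul_mem _ hyQ (Subgroup.pow_mem _ hxQ _)
    · rw [Subgroup.closure_le]
      rintro z (rfl | hz)
      · refine ⟨a 1, ?_⟩
        rw [dicyclicHom_a]
        have : ((1 : ZMod (2 * 2))).val = 1 := rfl
        rw [this, pow_one]
      · rw [Set.mem_singleton_iff] at hz
        subst hz
        refine ⟨xa 0, ?_⟩
        rw [dicyclicHom_xa, ZMod.val_zero, pow_zero, mul_one]
  -- the intersection of Q with C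
  have hQC : ∀ g ∈ Subgroup.closure ({x, y} : Set G), g ∈ C → g = 1 ∨ g = t := by
    intro g hgQ hgC
    rw [← hrange] at hgQ
    obtain ⟨q, rfl⟩ := hgQ
    rw [hCmem] at hgC
    obtain ⟨hgx, hgy⟩ := hgC
    rcases q with i | i
    · rw [dicyclicHom_a] at hgy ⊢
      have hlt : i.val < 2 * 2 := ZMod.val_lt i
      obtain ⟨k, hk⟩ : ∃ k, k = i.val := ⟨_, rfl⟩
      rw [← hk] at hgy hlt ⊢
      interval_cases k
      · left; rw [pow_zero]
      · exfalso; rw [pow_one] at hgy; exact hnc hgy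
      · right; exact ht.symm
      · exfalso
        apply hnc
        have hx3 : x ^ 3 = x⁻¹ := by
          rw [eq_inv_iff_mul_eq_one, ← pow_succ]; exact hx4
        rw [hx3] at hgy
        calc x * y = x * (y * x⁻¹) * x := by group
          _ = x * (x⁻¹ * y) * x := by rw [hgy]
          _ = y * x := by group
    · exfalso
      rw [dicyclicHom_xa] at hgx
      apply hnc
      have h1 : y * x * x ^ i.val = x * y * x ^ i.val := by
        calc y * x * x ^ i.val = y * (x ^ i.val * x) := by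
              rw [mul_assoc, ((Commute.refl x).pow_right _).eq]
          _ = y * x ^ i.val * x := by rw [mul_assoc]
          _ = x * (y * x ^ i.val) := hgx
          _ = x * y * x ^ i.val := by rw [mul_assoc]
      exact (mul_right_cancel h1).symm
  refine ⟨Subgroup.closure ({x, y} : Set G), E, oddSubgroup C hCcomm, ?_, ⟨?_, ?_⟩, ?_, ?_, ?_,
    ?_, ?_⟩
  · exact ⟨((MonoidHom.ofInjective hinj).trans (MulEquiv.subgroupCongr hrange)).symm⟩
  · exact ⟨⟨fun a b => Subtype.ext (hCcomm a (hEC a.2) b (hEC b.2))⟩⟩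
  · intro a ha
    exact (hEle ha).2
  · exact ⟨⟨fun a b => Subtype.ext (hCcomm a (hAC a.2) b (hAC b.2))⟩⟩
  · by_contra hodd
    rw [Nat.not_odd_iff_even] at hodd
    obtain ⟨z, hz⟩ := exists_prime_orderOf_dvd_card' (G := oddSubgroup C hCcomm) 2 hodd.two_dvd
    obtain ⟨-, m, hm, hzm⟩ := z.2
    have hz2 : (z : G) ^ 2 = 1 := by
      have : z ^ 2 = 1 := by rw [← hz]; exact pow_orderOf_eq_one z
      have h2 := congrArg Subtype.val this
      simpa using h2
    have hz1 : (z : G) = 1 := eq_one_of_sq_of_odd_pow hz2 hm hzm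
    have : z = 1 := Subtype.ext hz1
    rw [this, orderOf_one] at hz
    omega
  · rw [eq_bot_iff]
    rintro g ⟨hgE, hgA⟩
    obtain ⟨-, m, hm, hgm⟩ := hgA
    rw [Subgroup.mem_bot]
    exact eq_one_of_sq_of_odd_pow (hEle hgE).2 hm hgm
  · rw [eq_bot_iff]
    rintro g ⟨hgQ, hgEA⟩
    rw [Subgroup.mem_bot]
    have hgC : g ∈ C := (sup_le hEC hAC) hgEA
    rcases hQC g hgQ hgC with h | h
    · exact h
    · exfalso
      have hnA : (oddSubgroup C hCcomm).Normal := hn _
      have hg' : g ∈ ((E ⊔ oddSubgroup C hCcomm : Subgroup G) : Set G) := hgEA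
      rw [Subgroup.mul_normal E (oddSubgroup C hCcomm), Set.mem_mul] at hg'
      obtain ⟨e, he, a', ha', hea⟩ := hg'
      obtain ⟨ha'C, m, hm, ha'm⟩ := ha'
      have he2 : e ^ 2 = 1 := (hEle he).2
      have ha'2 : a' ^ 2 = 1 := by
        have : a' = e⁻¹ * t := by rw [← h, ← hea]; group
        rw [this, (show Commute e⁻¹ t from hCcomm _ (C.inv_mem (hEC he)) _ htC).mul_pow, inv_pow,
          he2, inv_one, one_mul, pow_two, htt]
      have ha'1 : a' = 1 := eq_one_of_sq_of_odd_pow ha'2 hm ha'm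
      rw [ha'1, mul_one] at hea
      apply htE
      rw [← h, ← hea]
      exact he
  · rw [eq_top_iff]
    intro g _
    obtain ⟨q, hq, hgx, hgy⟩ := quat_factor hn x y hx4 hyy hxyx hx2 g
    obtain ⟨c, hc⟩ : ∃ c, c = q⁻¹ * g := ⟨_, rfl⟩
    rw [← hc] at hgx hgy
    have hg : g = q * c := by rw [hc]; group
    have hcC : c ∈ C := (hCmem c).2 ⟨hgx, hgy⟩
    -- decompose c
    have hn0 : orderOf c ≠ 0 := (orderOf_pos c).ne'
    obtain ⟨i, m, hm, hnm⟩ := Nat.exists_eq_two_pow_mul_odd hn0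
    have hcm : (c ^ m) ^ 2 = 1 := by
      apply quat_centralizer_two_pow hn x y hx4 hyy hxyx hx2 i (c ^ m)
        ((show Commute c x from hgx).pow_left m).eq ((show Commute c y from hgy).pow_left m).eq
      rw [← pow_mul, mul_comm, ← hnm]
      exact pow_orderOf_eq_one c
    obtain ⟨k, hk⟩ := hm
    have h2m : c ^ (2 * m) = 1 := by rw [mul_comm, pow_mul]; exact hcm
    have he1 : c ^ m ∈ sqOneSubgroup C hCcomm := ⟨C.pow_mem hcC m, hcm⟩
    have ha1 : c ^ (2 * (k + 1)) ∈ oddSubgroup C hCcomm := by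
      refine ⟨C.pow_mem hcC _, m, ⟨k, hk⟩, ?_⟩
      rw [← pow_mul, show 2 * (k + 1) * m = (2 * m) * (k + 1) by ring, pow_mul, h2m, one_pow]
    have hcdecomp : c = c ^ m * c ^ (2 * (k + 1)) := by
      rw [← pow_add]
      have : m + 2 * (k + 1) = 2 * m + 1 := by omega
      rw [this, pow_succ, h2m, one_mul]
    rcases hEor (c ^ m) he1 with h | h
    · rw [hg, hcdecomp]
      exact Subgroup.mul_mem_sup hq (Subgroup.mul_mem_sup h ha1)
    · have hcm' : c ^ m = (c ^ m * t) * t := by rw [mul_assoc, htt, mul_one]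
      have hcomm : (c ^ m * t) * t = t * (c ^ m * t) :=
        hCcomm _ (C.mul_mem (C.pow_mem hcC m) htC) _ htC
      rw [hg, hcdecomp, hcm', hcomm]
      have : q * (t * (c ^ m * t) * c ^ (2 * (k + 1))) =
          (q * t) * ((c ^ m * t) * c ^ (2 * (k + 1))) := by simp only [mul_assoc]
      rw [this]
      exact Subgroup.mul_mem_sup (Subgroup.mul_mem _ hq htQ) (Subgroup.mul_mem_sup h ha1)

end Dedekind

end Cfsg.Agent.Helper4
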