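import Mathlib

set_option autoImplicit false

namespace Cfsg.Agent.Helper4.Hamming

open Equiv
open scoped Pointwise

variable {ι : Type*} [Fintype ι] {m : ℕ}

/-- Hamming distance on `ι → Fin m`. -/
def hdist (x y : ι → Fin m) : ℕ := (Finset.univ.filter (fun i => x i ≠ y i)).card

/-- The isometry group of the Hamming scheme. -/
def isom (ι : Type*) [Fintype ι] (m : ℕ) : Subgroup (Perm (ι → Fin m)) where
  carrier := {σ | ∀ x y, hdist (σ x) (σ y) = hdist x y}
  mul_mem' := by
    intro a b ha hb x y
    simp only [Perm.mul_apply]
    rw [ha, hb]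
  one_mem' := by intro x y; rfl
  inv_mem' := by
    intro a ha x y
    have := ha (a⁻¹ x) (a⁻¹ y)
    simp at this
    exact this.symm

theorem mem_isom {σ : Perm (ι → Fin m)} :
    σ ∈ isom ι m ↔ ∀ x y, hdist (σ x) (σ y) = hdist x y := Iff.rfl

/-- coordinatewise permutations are isometries -/
theorem piCongrRight_mem_isom (σ : ι → Perm (Fin m)) : Equiv.piCongrRight σ ∈ isom ι m := by
  intro x y
  unfold hdist
  congr 1
  ext i
  simp only [Finset.mem_filter, Finset.mem_univ, true_and]
  change σ i (x i) ≠ σ i (y i) ↔ x i ≠ y i
  exact (σ i).injective.ne_iff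

/-- permutations of the coordinates are isometries -/
theorem arrowCongr_mem_isom (τ : Perm ι) :
    Equiv.arrowCongr τ (Equiv.refl (Fin m)) ∈ isom ι m := by
  intro x y
  unfold hdist
  apply Finset.card_bij (fun i _ => τ.symm i)
  · intro i hi
    simp only [Finset.mem_filter, Finset.mem_univ, true_and] at hi ⊢
    exact hi
  · intro i _ j _ hij
    exact τ.symm.injective hij
  · intro j hj
    refine ⟨τ j, ?_, by simp⟩
    simp only [Finset.mem_filter, Finset.mem_univ, true_and] at hj ⊢
    change x (τ.symm (τ j)) ≠ y (τ.symm (τ j))
    simpa using hj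

section Block

/-- the base point -/
def base (hm : 3 ≤ m) : ι → Fin m := fun _ => ⟨0, by omega⟩

/-- the block argument: a block containing the base point is trivial. -/
theorem isTrivialBlock_of_base_mem (hm : 3 ≤ m) (B : Set (ι → Fin m))
    (hB : MulAction.IsBlock (isom ι m) B) (h0 : base hm ∈ B) : MulAction.IsTrivialBlock B := by
  classical
  by_cases hsub : B.Subsingleton
  · exact Or.inl hsub
  right
  obtain ⟨o, ho⟩ : ∃ o : Fin m, o = ⟨0, by omega⟩ := ⟨_, rfl⟩
  have hbase : ∀ i, base (ι := ι) hm i = o := fun i => by rw [ho]; rfl
  -- invariance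
  have key : ∀ σ ∈ isom ι m, ∀ a ∈ B, σ a ∈ B → ∀ b, (b ∈ B ↔ σ b ∈ B) := by
    intro σ hσ a ha hσa b
    have h1 : (⟨σ, hσ⟩ : isom ι m) • B = B := hB.smul_eq_of_mem (g := ⟨σ, hσ⟩) ha hσa
    have h2 : σ b ∈ (⟨σ, hσ⟩ : isom ι m) • B ↔ b ∈ B :=
      Set.smul_mem_smul_set_iff (a := (⟨σ, hσ⟩ : isom ι m)) (x := b) (s := B)
    rw [h1] at h2
    exact h2.symm
  -- translation to the base point
  have htrans : ∀ z : ι → Fin m, ∃ g ∈ isom ι m, g z = base hm ∧
      ∀ w : ι → Fin m, ∀ i, g w i = swap (z i) o (w i) := by
    intro z
    refine ⟨Equiv.piCongrRight (fun i => swap (z i) o), piCongrRight_mem_isom _, ?_, fun w i => rfl⟩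
    funext i
    change swap (z i) o (z i) = base hm i
    rw [swap_apply_left, hbase]
  -- single-coordinate points
  obtain ⟨e, he⟩ : ∃ e : ι → Fin m → (ι → Fin m), ∀ j c, e j c = Function.update (base hm) j c :=
    ⟨_, fun _ _ => rfl⟩
  have he_apply : ∀ j c i, e j c i = if i = j then c else o := by
    intro j c i
    rw [he, Function.update_apply, hbase]
  -- Step 1: a point of weight one in `B`
  obtain ⟨v, hvB, hv0⟩ : ∃ v ∈ B, v ≠ base hm := by
    rw [Set.not_subsingleton_iff] at hsub
    obtain ⟨x, hx, y, hy, hxy⟩ := hsub
    by_cases hx0 : x = base hm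
    · exact ⟨y, hy, fun h => hxy (hx0.trans h.symm)⟩
    · exact ⟨x, hx, hx0⟩
  obtain ⟨j, hj⟩ : ∃ j, v j ≠ o := by
    by_contra hno
    push Not at hno
    apply hv0
    funext i
    rw [hno i, hbase]
  obtain ⟨c, hco, hcv⟩ : ∃ c : Fin m, c ≠ o ∧ c ≠ v j := by
    by_cases h1 : v j = ⟨1, by omega⟩
    · refine ⟨⟨2, by omega⟩, ?_, ?_⟩
      · rw [ho]; intro h; simp [Fin.ext_iff] at h
      · rw [h1]; intro h; simp [Fin.ext_iff] at h
    · refine ⟨⟨1, by omega⟩, ?_, fun h => h1 h.symm⟩
      rw [ho]; intro h; simp [Fin.ext_iff] at h
  have step1 : e j c ∈ B := by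
    -- σ₁ fixes the base point and moves `v` to `update v j c`
    have hσ₁ := piCongrRight_mem_isom (ι := ι) (m := m)
      (fun i => if i = j then swap (v j) c else 1)
    have h1 : Equiv.piCongrRight (fun i => if i = j then swap (v j) c else (1 : Perm (Fin m)))
        (base hm) = base hm := by
      funext i
      change (if i = j then swap (v j) c else (1 : Perm (Fin m))) (base hm i) = base hm i
      rw [hbase]
      split_ifs with h
      · exact swap_apply_of_ne_of_ne (Ne.symm hj) (Ne.symm hco)
      · rfl
    have h2 := (key _ hσ₁ (base hm) h0 (by rw [h1]; exact h0) v).1 hvB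
    obtain ⟨g, hg, hgv, hgw⟩ := htrans v
    have h3 := (key g hg v hvB (by rw [hgv]; exact h0) _).1 h2
    have h4 : g (Equiv.piCongrRight (fun i => if i = j then swap (v j) c else (1 : Perm (Fin m)))
        v) = e j c := by
      funext i
      rw [hgw, he_apply]
      change swap (v i) o ((if i = j then swap (v j) c else (1 : Perm (Fin m))) (v i)) = _
      split_ifs with h
      · subst h
        rw [swap_apply_left]
        exact swap_apply_of_ne_of_ne hcv hco
      · change swap (v i) o (v i) = o
        exact swap_apply_left _ _
    rw [h4] at h3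
    exact h3
  -- Step 2: all points of weight one
  have step2 : ∀ j' c', c' ≠ o → e j' c' ∈ B := by
    intro j' c' hc'
    have hπ := arrowCongr_mem_isom (ι := ι) (m := m) (swap j j')
    have h1 : Equiv.arrowCongr (swap j j') (Equiv.refl (Fin m)) (base hm) = base hm := by
      funext i; rfl
    have h2 := (key _ hπ (base hm) h0 (by rw [h1]; exact h0) (e j c)).1 step1
    have h3 : Equiv.arrowCongr (swap j j') (Equiv.refl (Fin m)) (e j c) = e j' c := by
      funext i
      change e j c ((swap j j').symm i) = e j' c i
      rw [he_apply, he_apply, symm_swap]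
      by_cases hij' : i = j'
      · subst hij'; rw [swap_apply_right]; simp
      · rw [if_neg hij']
        rw [if_neg]
        intro h
        apply hij'
        have := congrArg (swap j j') h
        rw [swap_apply_self, swap_apply_left] at this
        exact this
    rw [h3] at h2
    have hσ₂ := piCongrRight_mem_isom (ι := ι) (m := m)
      (fun i => if i = j' then swap c c' else 1)
    have h4 : Equiv.piCongrRight (fun i => if i = j' then swap c c' else (1 : Perm (Fin m)))
        (base hm) = base hm := by
      funext i
      change (if i = j' then swap c c' else (1 : Perm (Fin m))) (base hm i) = base hm i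
      rw [hbase]
      split_ifs with h
      · exact swap_apply_of_ne_of_ne (Ne.symm hco) (Ne.symm hc')
      · rfl
    have h5 := (key _ hσ₂ (base hm) h0 (by rw [h4]; exact h0) (e j' c)).1 h2
    have h6 : Equiv.piCongrRight (fun i => if i = j' then swap c c' else (1 : Perm (Fin m)))
        (e j' c) = e j' c' := by
      funext i
      change (if i = j' then swap c c' else (1 : Perm (Fin m))) (e j' c i) = e j' c' i
      rw [he_apply, he_apply]
      split_ifs with h
      · exact swap_apply_left _ _
      · rfl
    rw [h6] at h5
    exact h5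
  -- Step 3: induction on the size of the support
  have step3 : ∀ n : ℕ, ∀ z : ι → Fin m,
      (Finset.univ.filter (fun i => z i ≠ o)).card ≤ n → z ∈ B := by
    intro n
    induction n with
    | zero =>
      intro z hz
      have h1 : Finset.univ.filter (fun i => z i ≠ o) = ∅ := Finset.card_eq_zero.1 (by omega)
      have h2 : z = base hm := by
        funext i
        rw [hbase]
        by_contra hne
        have : i ∈ Finset.univ.filter (fun i => z i ≠ o) := by simp [hne]
        rw [h1] at this
        simp at this
      rw [h2]; exact h0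
    | succ n ih =>
      intro z hz
      by_cases hz0 : ∃ j₀, z j₀ ≠ o
      · obtain ⟨j₀, hj₀⟩ := hz0
        have hz' : Function.update z j₀ o ∈ B := by
          apply ih
          have hsub' : Finset.univ.filter (fun i => Function.update z j₀ o i ≠ o) ⊆
              (Finset.univ.filter (fun i => z i ≠ o)).erase j₀ := by
            intro i hi
            simp only [Finset.mem_filter, Finset.mem_univ, true_and] at hi
            rw [Finset.mem_erase]
            by_cases hij : i = j₀
            · subst hij; simp at hi
            · rw [Function.update_of_ne hij] at hi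
              exact ⟨hij, by simp [hi]⟩
          have h1 := Finset.card_le_card hsub'
          have h2 : j₀ ∈ Finset.univ.filter (fun i => z i ≠ o) := by simp [hj₀]
          rw [Finset.card_erase_of_mem h2] at h1
          omega
        obtain ⟨g, hg, hgz', hgw⟩ := htrans (Function.update z j₀ o)
        have h3 : g z = e j₀ (z j₀) := by
          funext i
          rw [hgw, he_apply]
          by_cases hij : i = j₀
          · subst hij
            rw [Function.update_self, if_pos rfl, swap_self]; rfl
          · rw [Function.update_of_ne hij, if_neg hij, swap_apply_left]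
        have h4 := step2 j₀ (z j₀) hj₀
        rw [← h3] at h4
        exact (key g hg _ hz' (by rw [hgz']; exact h0) z).2 h4
      · push Not at hz0
        have h2 : z = base hm := by
          funext i; rw [hbase, hz0 i]
        rw [h2]; exact h0
  rw [Set.eq_univ_iff_forall]
  intro z
  exact step3 _ z le_rfl

end Block

end Cfsg.Agent.Helper4.Hamming
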