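import Mathlib
import Cfsg.Agent.Helper4.HammingA

set_option autoImplicit false

namespace Cfsg.Agent.Helper4.Hamming

open Equiv
open scoped Pointwise

variable {ι : Type*} [Fintype ι] {m : ℕ}

theorem isPreprimitive_isom (hm : 3 ≤ m) [Nonempty ι] :
    MulAction.IsPreprimitive (isom ι m) (ι → Fin m) := by
  classical
  apply MulAction.IsPreprimitive.of_isTrivialBlock_of_notMem_fixedPoints (a := base hm)
  · rw [MulAction.mem_fixedPoints]
    intro hfix
    have hσ := piCongrRight_mem_isom (ι := ι) (m := m)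
      (fun _ => swap (⟨0, by omega⟩ : Fin m) ⟨1, by omega⟩)
    have h1 := hfix ⟨_, hσ⟩
    have h2 := congrFun h1 (Classical.arbitrary ι)
    change swap (⟨0, by omega⟩ : Fin m) ⟨1, by omega⟩ ⟨0, by omega⟩ = ⟨0, by omega⟩ at h2
    rw [swap_apply_left] at h2
    simp [Fin.ext_iff] at h2
  · intro B h0 hB
    exact isTrivialBlock_of_base_mem hm B hB h0

theorem not_two_pretransitive_isom (hm : 3 ≤ m) (hι : 2 ≤ Fintype.card ι) :
    ¬ MulAction.IsMultiplyPretransitive (isom ι m) (ι → Fin m) 2 := by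
  classical
  intro h2
  rw [MulAction.is_two_pretransitive_iff] at h2
  obtain ⟨j₁, j₂, hj⟩ : ∃ j₁ j₂ : ι, j₁ ≠ j₂ :=
    Fintype.exists_pair_of_one_lt_card (by omega)
  obtain ⟨o, ho⟩ : ∃ o : Fin m, o = ⟨0, by omega⟩ := ⟨_, rfl⟩
  obtain ⟨c, hc⟩ : ∃ c : Fin m, c = ⟨1, by omega⟩ := ⟨_, rfl⟩
  have hco : c ≠ o := by rw [hc, ho]; intro h; simp [Fin.ext_iff] at h
  obtain ⟨a, ha⟩ : ∃ a : ι → Fin m, a = fun _ => o := ⟨_, rfl⟩
  obtain ⟨b, hb⟩ : ∃ b : ι → Fin m, b = fun i => if i = j₁ then c else o := ⟨_, rfl⟩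
  obtain ⟨d, hd⟩ : ∃ d : ι → Fin m, d = fun i => if i = j₁ ∨ i = j₂ then c else o := ⟨_, rfl⟩
  have h1 : Finset.univ.filter (fun i => a i ≠ b i) = {j₁} := by
    ext i
    simp only [Finset.mem_filter, Finset.mem_univ, true_and, Finset.mem_singleton, ha, hb]
    by_cases h : i = j₁
    · simp [h, hco.symm]
    · simp [h]
  have h3 : Finset.univ.filter (fun i => a i ≠ d i) = {j₁, j₂} := by
    ext i
    simp only [Finset.mem_filter, Finset.mem_univ, true_and, Finset.mem_insert,
      Finset.mem_singleton, ha, hd]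
    by_cases h : i = j₁ ∨ i = j₂
    · simp [h, hco.symm]
    · simp [h]
  have hab : a ≠ b := by
    intro h
    have := congrFun h j₁
    rw [ha, hb] at this
    simp at this
    exact hco this.symm
  have had : a ≠ d := by
    intro h
    have := congrFun h j₁
    rw [ha, hd] at this
    simp at this
    exact hco this.symm
  obtain ⟨g, hga, hgb⟩ := h2 hab had
  have hiso := g.2 a b
  have hga' : (g : Perm (ι → Fin m)) a = a := hga
  have hgb' : (g : Perm (ι → Fin m)) b = d := hgb
  rw [hga', hgb'] at hiso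
  unfold hdist at hiso
  rw [h1, h3, Finset.card_singleton, Finset.card_pair hj] at hiso
  omega

section Regular

variable {F : ι → Type*} [∀ i, Group (F i)] (β : ∀ i, F i ≃ Fin m)

/-- the regular representation of the product, transported to `ι → Fin m` -/
def reg : (∀ i, F i) →* Perm (ι → Fin m) where
  toFun k := Equiv.piCongrRight (fun i => (β i).symm.trans ((Equiv.mulLeft (k i)).trans (β i)))
  map_one' := by
    ext x i
    simp
  map_mul' := by
    intro k k'
    ext x i
    simp [mul_assoc]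

omit [Fintype ι] in
theorem reg_apply (k : ∀ i, F i) (x : ι → Fin m) (i : ι) :
    reg β k x i = β i (k i * (β i).symm (x i)) := rfl

theorem reg_mem_isom (k : ∀ i, F i) : reg β k ∈ isom ι m :=
  piCongrRight_mem_isom _

theorem reg_eq_one_of_apply_eq (k : ∀ i, F i) (x : ι → Fin m) (h : reg β k x = x) : k = 1 := by
  funext i
  have h1 := congrFun h i
  rw [reg_apply] at h1
  have h2 : k i * (β i).symm (x i) = (β i).symm (x i) := by
    apply (β i).injective
    rw [h1, Equiv.apply_symm_apply]
  exact mul_eq_right.1 h2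

theorem reg_injective [Nonempty (ι → Fin m)] : Function.Injective (reg β) := by
  rw [injective_iff_map_eq_one]
  intro k hk
  apply reg_eq_one_of_apply_eq β k (Classical.arbitrary _)
  rw [hk]; rfl

theorem reg_transitive (x y : ι → Fin m) : ∃ k : ∀ i, F i, reg β k x = y := by
  refine ⟨fun i => (β i).symm (y i) * ((β i).symm (x i))⁻¹, ?_⟩
  funext i
  rw [reg_apply]
  simp

end Regular

end Cfsg.Agent.Helper4.Hamming
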