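import Mathlib
import Cfsg.Agent.Helper4.HammingB

set_option autoImplicit false

namespace Cfsg.Agent.Helper4.Hamming

open Equiv

/-- transport of a permutation group configuration on a finite type `X` to `Fin n`. -/
theorem exists_transport {X : Type*} [Fintype X] {K : Type*} [Group K]
    (G₁ R₁ : Subgroup (Perm X)) (hRG : R₁ ≤ G₁) (eR : R₁ ≃* K)
    (htr : ∀ x y : X, ∃ g ∈ R₁, g x = y)
    (hfree : ∀ g ∈ R₁, ∀ x : X, g x = x → g = 1)
    (hprim : MulAction.IsPreprimitive G₁ X)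
    (h2 : ¬ MulAction.IsMultiplyPretransitive G₁ X 2) :
    ∃ (n : ℕ) (G R : Subgroup (Perm (Fin n))), R ≤ G ∧ Nonempty (R ≃* K) ∧
      MulAction.IsPretransitive R (Fin n) ∧ (∀ a : Fin n, MulAction.stabilizer R a = ⊥) ∧
      MulAction.IsPreprimitive G (Fin n) ∧ ¬ MulAction.IsMultiplyPretransitive G (Fin n) 2 := by
  classical
  obtain ⟨ε⟩ : Nonempty (X ≃ Fin (Fintype.card X)) := ⟨Fintype.equivFin X⟩
  obtain ⟨f, hf⟩ : ∃ f : Perm X →* Perm (Fin (Fintype.card X)),
      f = ε.permCongrHom.toMonoidHom := ⟨_, rfl⟩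
  have hfapp : ∀ (g : Perm X) (x : X), f g (ε x) = ε (g x) := by
    intro g x
    rw [hf]
    simp [Equiv.permCongrHom]
  have hfinj : Function.Injective f := by rw [hf]; exact ε.permCongrHom.injective
  refine ⟨Fintype.card X, G₁.map f, R₁.map f, Subgroup.map_mono hRG,
    ⟨(R₁.equivMapOfInjective f hfinj).symm.trans eR⟩, ?_, ?_, ?_, ?_⟩
  · constructor
    intro a b
    obtain ⟨g, hg, hgx⟩ := htr (ε.symm a) (ε.symm b)
    refine ⟨⟨f g, Subgroup.mem_map_of_mem f hg⟩, ?_⟩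
    change f g a = b
    have h1 := hfapp g (ε.symm a)
    rw [Equiv.apply_symm_apply] at h1
    rw [h1, hgx, Equiv.apply_symm_apply]
  · intro a
    rw [eq_bot_iff]
    intro g hg
    rw [MulAction.mem_stabilizer_iff] at hg
    obtain ⟨g₁, hg₁, hgg⟩ := g.2
    have h1 : g₁ (ε.symm a) = ε.symm a := by
      apply ε.injective
      rw [← hfapp, hgg, Equiv.apply_symm_apply]
      exact hg
    have h3 := hfree g₁ hg₁ _ h1
    rw [Subgroup.mem_bot]
    apply Subtype.ext
    rw [← hgg, h3, map_one]; rfl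
  · let φ : G₁ → G₁.map f := fun g => ⟨f g, Subgroup.mem_map_of_mem f g.2⟩
    have hφ : Function.Surjective φ := by
      rintro ⟨g, g₁, hg₁, rfl⟩
      exact ⟨⟨g₁, hg₁⟩, rfl⟩
    let F : X →ₑ[φ] Fin (Fintype.card X) :=
      { toFun := ε
        map_smul' := by
          intro g x
          exact (hfapp g x).symm }
    exact (MulAction.isPreprimitive_congr (f := F) hφ ε.bijective).1 hprim
  · intro h
    apply h2
    rw [MulAction.is_two_pretransitive_iff] at h ⊢
    intro a b c d hab hcd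
    obtain ⟨g, hga, hgb⟩ := h (a := ε a) (b := ε b) (c := ε c) (d := ε d)
      (ε.injective.ne hab) (ε.injective.ne hcd)
    obtain ⟨g₁, hg₁, hgg⟩ := g.2
    refine ⟨⟨g₁, hg₁⟩, ?_, ?_⟩
    · apply ε.injective
      change ε (g₁ a) = ε c
      rw [← hfapp, hgg]; exact hga
    · apply ε.injective
      change ε (g₁ b) = ε d
      rw [← hfapp, hgg]; exact hgb

theorem not_bGroup {K : Type*} [Group K] [Finite K] {ι : Type*} [Fintype ι] (F : ι → Type*)
    [∀ i, Group (F i)] (hr : 2 ≤ Fintype.card ι) (m : ℕ) (hm : 3 ≤ m)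
    (hcard : ∀ i, Nat.card (F i) = m) (e : K ≃* (∀ i, F i)) :
    ∃ (n : ℕ) (G R : Subgroup (Equiv.Perm (Fin n))), R ≤ G ∧ Nonempty (↥R ≃* K) ∧
      MulAction.IsPretransitive ↥R (Fin n) ∧ (∀ a : Fin n, MulAction.stabilizer ↥R a = ⊥) ∧
      MulAction.IsPreprimitive ↥G (Fin n) ∧ ¬ MulAction.IsMultiplyPretransitive ↥G (Fin n) 2 := by
  classical
  have hβ : ∀ i, Nonempty (F i ≃ Fin m) := fun i => by
    have hfin : Finite (F i) := Nat.finite_of_card_ne_zero (by rw [hcard]; omega)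
    have hft : Fintype (F i) := Fintype.ofFinite (F i)
    have h1 : Fintype.card (F i) = m := by rw [← Nat.card_eq_fintype_card]; exact hcard i
    exact ⟨Fintype.equivFinOfCardEq h1⟩
  obtain ⟨β⟩ : Nonempty (∀ i, F i ≃ Fin m) := ⟨fun i => Classical.choice (hβ i)⟩
  have hne : Nonempty ι := by
    rw [← Fintype.card_pos_iff]; omega
  have hne' : Nonempty (ι → Fin m) := ⟨fun _ => ⟨0, by omega⟩⟩
  refine exists_transport (isom ι m) (reg β).range ?_ ?_ ?_ ?_ (isPreprimitive_isom hm)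
    (not_two_pretransitive_isom hm hr)
  · rintro _ ⟨k, rfl⟩
    exact reg_mem_isom β k
  · exact ((MonoidHom.ofInjective (reg_injective β)).symm.trans e.symm)
  · intro x y
    obtain ⟨k, hk⟩ := reg_transitive β x y
    exact ⟨reg β k, ⟨k, rfl⟩, hk⟩
  · rintro _ ⟨k, rfl⟩ x hx
    rw [reg_eq_one_of_apply_eq β k x hx, map_one]

end Cfsg.Agent.Helper4.Hamming
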