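import Mathlib
import Cfsg.Agent.S3734

/-!
# Abelian TI Sylow subgroups with "strongly embedded" normalizer: general lemmas

`T ≤ H ≤ G`, `T` an abelian `p`-group containing every `p`-element of `H`, `N_G(T) ≤ H` and
`C_G(t) ≤ H` for every `t ∈ T \ 1`.
-/

set_option autoImplicit false
set_option linter.style.haveILetI false

namespace Cfsg.Agent.Helper4.Hig

universe u

variable {G : Type u} [Group G]

/-- strongly-embedded data -/
structure SEmb (p : ℕ) (T H : Subgroup G) : Prop where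
  le : T ≤ H
  pgroup : IsPGroup p T
  comm : ∀ x ∈ T, ∀ y ∈ T, x * y = y * x
  pel : ∀ h ∈ H, (∃ k : ℕ, h ^ p ^ k = 1) → h ∈ T
  norm : Subgroup.normalizer (T : Set G) ≤ H
  cent : ∀ t ∈ T, t ≠ 1 → Subgroup.centralizer ({t} : Set G) ≤ H

theorem inv_conj_pow (x u : G) (n : ℕ) : (x⁻¹ * u * x) ^ n = x⁻¹ * u ^ n * x := by
  have := conj_pow (a := x⁻¹) (b := u) (i := n)
  simpa using this

theorem inv_conj_ne_one {x t : G} (ht : t ≠ 1) : x⁻¹ * t * x ≠ 1 := by
  intro h
  apply ht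
  have : t = x * (x⁻¹ * t * x) * x⁻¹ := by group
  rw [this, h]; group

theorem exists_ne_one_of_ne_bot {T : Subgroup G} (hT : T ≠ ⊥) : ∃ t ∈ T, t ≠ 1 := by
  by_contra h
  push Not at h
  exact hT ((Subgroup.eq_bot_iff_forall T).mpr h)

variable {p : ℕ} {T H : Subgroup G}

theorem SEmb.pel_of_mem (D : SEmb p T H) {u : G} (hu : u ∈ T) : ∃ k : ℕ, u ^ p ^ k = 1 := by
  obtain ⟨k, hk⟩ := D.pgroup ⟨u, hu⟩
  refine ⟨k, ?_⟩
  have := congrArg Subtype.val hk
  simpa using this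

/-- the TI property -/
theorem SEmb.ti [Finite G] (D : SEmb p T H) {t x : G} (ht : t ∈ T) (ht1 : t ≠ 1)
    (hx : x⁻¹ * t * x ∈ T) : x ∈ H := by
  have h1 : x⁻¹ ∈ Subgroup.normalizer (T : Set G) := by
    apply Subgroup.mem_normalizer_fintype
    intro u hu
    rw [inv_inv]
    have hcomm : (x⁻¹ * u * x) * (x⁻¹ * t * x) = (x⁻¹ * t * x) * (x⁻¹ * u * x) := by
      have := D.comm u hu t ht
      calc (x⁻¹ * u * x) * (x⁻¹ * t * x) = x⁻¹ * (u * t) * x := by group
        _ = x⁻¹ * (t * u) * x := by rw [this]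
        _ = _ := by group
    have hH : x⁻¹ * u * x ∈ H := by
      apply D.cent _ hx (inv_conj_ne_one ht1)
      rw [Subgroup.mem_centralizer_iff]
      intro y hy
      rw [Set.mem_singleton_iff] at hy
      subst hy
      exact hcomm.symm
    apply D.pel _ hH
    obtain ⟨k, hk⟩ := D.pel_of_mem hu
    exact ⟨k, by rw [inv_conj_pow, hk]; group⟩
  have := H.inv_mem (D.norm h1)
  simpa using this

/-- variant of the TI property with the conjugation on the other side -/
theorem SEmb.ti' [Finite G] (D : SEmb p T H) {t x : G} (ht : t ∈ T) (ht1 : t ≠ 1)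
    (hx : x * t * x⁻¹ ∈ T) : x ∈ H := by
  have : x⁻¹ ∈ H := D.ti (x := x⁻¹) ht ht1 (by simpa using hx)
  simpa using H.inv_mem this

theorem SEmb.conj_mem (D : SEmb p T H) {h t : G} (hh : h ∈ H) (ht : t ∈ T) :
    h * t * h⁻¹ ∈ T := by
  apply D.pel _ (H.mul_mem (H.mul_mem hh (D.le ht)) (H.inv_mem hh))
  obtain ⟨k, hk⟩ := D.pel_of_mem ht
  exact ⟨k, by rw [conj_pow, hk]; group⟩

/-- a `p`-subgroup meeting `T` nontrivially lies in `T` -/
theorem SEmb.pgroup_le [Finite G] [Fact p.Prime] (D : SEmb p T H) {P : Subgroup G}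
    (hP : IsPGroup p P) {t : G} (htP : t ∈ P) (htT : t ∈ T) (ht1 : t ≠ 1) : P ≤ T := by
  have hpelP : ∀ y ∈ P, ∃ k : ℕ, y ^ p ^ k = 1 := by
    intro y hy
    obtain ⟨k, hk⟩ := hP ⟨y, hy⟩
    refine ⟨k, ?_⟩
    have := congrArg Subtype.val hk
    simpa using this
  haveI : Nontrivial P :=
    ⟨⟨⟨t, htP⟩, 1, fun h => ht1 (congrArg Subtype.val h)⟩⟩
  have hcen : Nontrivial (Subgroup.center P) := hP.center_nontrivial
  obtain ⟨z, hz⟩ := exists_ne (1 : Subgroup.center P)
  have hz1 : ((z : P) : G) ≠ 1 := by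
    intro h
    apply hz
    apply Subtype.ext
    apply Subtype.ext
    simpa using h
  have hzc : ∀ y : P, y * (z : P) = (z : P) * y := by
    intro y
    have := Subgroup.mem_center_iff.mp z.2 y
    exact this
  have hzP : ((z : P) : G) ∈ P := (z : P).2
  have hzt : t * ((z : P) : G) = ((z : P) : G) * t := by
    have := congrArg Subtype.val (hzc ⟨t, htP⟩)
    simpa using this
  have hzH : ((z : P) : G) ∈ H := by
    apply D.cent t htT ht1
    rw [Subgroup.mem_centralizer_iff]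
    intro y hy
    rw [Set.mem_singleton_iff] at hy
    subst hy
    exact hzt
  have hzT : ((z : P) : G) ∈ T := D.pel _ hzH (hpelP _ hzP)
  intro y hy
  have hyH : y ∈ H := by
    apply D.cent _ hzT hz1
    rw [Subgroup.mem_centralizer_iff]
    intro y' hy'
    rw [Set.mem_singleton_iff] at hy'
    subst hy'
    have := congrArg Subtype.val (hzc ⟨y, hy⟩)
    simpa using this.symm
  exact D.pel y hyH (hpelP y hy)

theorem isPGroup_zpowers {C : Type*} [Group C] {p : ℕ} {y : C} {k : ℕ} (hy : y ^ p ^ k = 1) :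
    IsPGroup p (Subgroup.zpowers y) := by
  rintro ⟨z, hz⟩
  obtain ⟨n, rfl⟩ := Subgroup.mem_zpowers_iff.mp hz
  refine ⟨k, ?_⟩
  apply Subtype.ext
  show (y ^ n) ^ p ^ k = 1
  rw [← zpow_natCast, ← zpow_mul, mul_comm, zpow_mul, zpow_natCast, hy, one_zpow]

/-- Sylow: two `p`-elements of a finite group; a conjugate of the second lies in a `p`-subgroup
containing the first -/
theorem exists_pgroup_conj {C : Type*} [Group C] [Finite C] (p : ℕ) [Fact p.Prime] (t y : C)
    {k l : ℕ} (ht : t ^ p ^ k = 1) (hy : y ^ p ^ l = 1) :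
    ∃ (R : Subgroup C) (c : C), IsPGroup p R ∧ t ∈ R ∧ c * y * c⁻¹ ∈ R := by
  obtain ⟨Q, hQ⟩ := (isPGroup_zpowers ht).exists_le_sylow
  obtain ⟨Q', hQ'⟩ := (isPGroup_zpowers hy).exists_le_sylow
  obtain ⟨c, hc⟩ := MulAction.exists_smul_eq C Q' Q
  refine ⟨Q, c, Q.2, hQ (Subgroup.mem_zpowers t), ?_⟩
  have hy' : y ∈ (Q' : Subgroup C) := hQ' (Subgroup.mem_zpowers y)
  have := Subgroup.smul_mem_pointwise_smul y (MulAut.conj c) (Q' : Subgroup C) hy'
  rw [← Sylow.coe_subgroup_smul, hc] at this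
  simpa [MulAut.smul_def] using this

/-- every `p`-element is conjugate into `T` -/
theorem SEmb.exists_conj_mem [Finite G] [Fact p.Prime] (D : SEmb p T H) (hT : T ≠ ⊥) {y : G}
    {k : ℕ} (hy : y ^ p ^ k = 1) : ∃ g : G, g * y * g⁻¹ ∈ T := by
  obtain ⟨t, htT, ht1⟩ := exists_ne_one_of_ne_bot hT
  obtain ⟨l, hl⟩ := D.pel_of_mem htT
  obtain ⟨R, c, hR, htR, hc⟩ := exists_pgroup_conj p t y hl hy
  exact ⟨c, D.pgroup_le hR htR htT ht1 hc⟩

/-- control of fusion for elements centralizing nontrivial elements of `T` -/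
theorem SEmb.fusion [Finite G] [Fact p.Prime] (D : SEmb p T H) {w w' g t t' : G}
    (hg : g * w * g⁻¹ = w') (ht : t ∈ T) (ht1 : t ≠ 1) (htw : t * w = w * t)
    (ht' : t' ∈ T) (ht'1 : t' ≠ 1) (htw' : t' * w' = w' * t') :
    ∃ h ∈ H, h * w * h⁻¹ = w' := by
  set C : Subgroup G := Subgroup.centralizer ({w'} : Set G) with hC
  have hmemC : ∀ y : G, y * w' = w' * y → y ∈ C := by
    intro y hy
    rw [hC, Subgroup.mem_centralizer_iff]
    intro z hz
    rw [Set.mem_singleton_iff] at hz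
    subst hz
    exact hy.symm
  have hCcomm : ∀ c ∈ C, c * w' = w' * c := by
    intro c hc
    rw [hC, Subgroup.mem_centralizer_iff] at hc
    exact (hc w' rfl).symm
  have ht'C : t' ∈ C := hmemC t' htw'
  set y : G := g * t * g⁻¹ with hy
  have hyw : y * w' = w' * y := by
    rw [hy, ← hg]
    calc g * t * g⁻¹ * (g * w * g⁻¹) = g * (t * w) * g⁻¹ := by group
      _ = g * (w * t) * g⁻¹ := by rw [htw]
      _ = _ := by group
  have hyC : y ∈ C := hmemC y hyw
  obtain ⟨k, hk⟩ := D.pel_of_mem ht'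
  obtain ⟨l, hl⟩ := D.pel_of_mem ht
  have hk' : (⟨t', ht'C⟩ : C) ^ p ^ k = 1 := Subtype.ext (by simpa using hk)
  have hl' : (⟨y, hyC⟩ : C) ^ p ^ l = 1 := by
    apply Subtype.ext
    show y ^ p ^ l = 1
    rw [hy, conj_pow, hl]; group
  obtain ⟨R, c, hR, htR, hc⟩ := exists_pgroup_conj p (⟨t', ht'C⟩ : C) ⟨y, hyC⟩ hk' hl'
  have hR' : IsPGroup p (R.map C.subtype) := hR.map C.subtype
  have hle : R.map C.subtype ≤ T :=
    D.pgroup_le hR' (Subgroup.mem_map.mpr ⟨_, htR, rfl⟩) ht' ht'1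
  have hcy : (c : G) * y * (c : G)⁻¹ ∈ T := by
    apply hle
    exact Subgroup.mem_map.mpr ⟨_, hc, by simp⟩
  refine ⟨(c : G) * g, ?_, ?_⟩
  · apply D.ti' ht ht1
    have : (c : G) * g * t * ((c : G) * g)⁻¹ = (c : G) * y * (c : G)⁻¹ := by
      rw [hy]; group
    rw [this]; exact hcy
  · have h1 : (c : G) * g * w * ((c : G) * g)⁻¹ = (c : G) * (g * w * g⁻¹) * (c : G)⁻¹ := by group
    rw [h1, hg, hCcomm c c.2]
    group

/-- a normal subgroup meeting `T` trivially has order prime to `p` -/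
theorem SEmb.coprime_of_normal [Finite G] [hp : Fact p.Prime] (D : SEmb p T H) (hT : T ≠ ⊥)
    (W : Subgroup G) [hW : W.Normal] (hWT : ∀ x ∈ W, x ∈ T → x = 1) :
    (Nat.card W).Coprime p := by
  rw [Nat.coprime_comm, Nat.Prime.coprime_iff_not_dvd hp.out]
  intro hdvd
  obtain ⟨x, hx⟩ := exists_prime_orderOf_dvd_card' (G := W) p hdvd
  have hxp : (x : G) ^ p ^ 1 = 1 := by
    rw [pow_one, ← hx]
    exact_mod_cast congrArg Subtype.val (pow_orderOf_eq_one x)
  obtain ⟨g, hg⟩ := D.exists_conj_mem hT hxp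
  have hgW : g * (x : G) * g⁻¹ ∈ W := hW.conj_mem _ x.2 g
  have h1 := hWT _ hgW hg
  have hx1 : x = 1 := by
    apply Subtype.ext
    have : (x : G) = g⁻¹ * (g * (x : G) * g⁻¹) * g := by group
    rw [this, h1]; simp
  rw [hx1, orderOf_one] at hx
  exact hp.out.one_lt.ne' hx.symm

/-- a normal subgroup meeting `T` trivially is trivial, if `T` is not cyclic and self-centralizing
in `H` -/
theorem SEmb.core_trivial [Finite G] [hp : Fact p.Prime] (D : SEmb p T H)
    (hncyc : ∀ a ∈ T, Subgroup.zpowers a ≠ T)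
    (hself : ∀ h ∈ H, (∀ t ∈ T, h * t = t * h) → h ∈ T)
    (W : Subgroup G) [hW : W.Normal] (hWT : ∀ x ∈ W, x ∈ T → x = 1) : W = ⊥ := by
  have hT : T ≠ ⊥ := by
    intro h
    apply hncyc 1 T.one_mem
    rw [h]; simp
  have hcopW := D.coprime_of_normal hT W hWT
  have hcop : (Nat.card T).Coprime (Nat.card W) := by
    obtain ⟨n, hn⟩ := IsPGroup.iff_card.mp D.pgroup
    rw [hn]
    exact (Nat.Coprime.pow_left n hcopW.symm)
  have hTab : IsMulCommutative T := ⟨⟨fun a b => Subtype.ext (D.comm a a.2 b b.2)⟩⟩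
  have hTW : T ≤ Subgroup.normalizer (W : Set G) := by
    intro t _
    rw [Subgroup.mem_normalizer_iff]
    intro h
    constructor
    · intro hh; exact hW.conj_mem h hh t
    · intro hh
      have := hW.conj_mem _ hh t⁻¹
      simpa [mul_assoc] using this
  have hgen := (Cfsg.Agent.S3734.result T W hTab hTW hcop).1
  have hWH : W ≤ H := by
    rw [← hgen]
    apply iSup₂_le
    intro B hB
    obtain ⟨hBT, a, haT, hBa⟩ := hB
    have hBne : B ≠ ⊥ := by
      intro hbot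
      apply hncyc a haT
      rw [← hBa, hbot, bot_sup_eq]
    obtain ⟨t, htB, ht1⟩ := exists_ne_one_of_ne_bot hBne
    intro x hx
    apply D.cent t (hBT htB) ht1
    have hxc : x ∈ Subgroup.centralizer (B : Set G) := (Subgroup.mem_inf.mp hx).2
    rw [Subgroup.mem_centralizer_iff] at hxc ⊢
    intro y hy
    rw [Set.mem_singleton_iff] at hy
    subst hy
    exact hxc y htB
  rw [Subgroup.eq_bot_iff_forall]
  intro x hx
  apply hWT x hx
  apply hself x (hWH hx)
  intro t ht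
  have hcomm : x * t * x⁻¹ * t⁻¹ = 1 := by
    apply hWT
    · have h1 : t * x⁻¹ * t⁻¹ ∈ W := hW.conj_mem _ (W.inv_mem hx) t
      have h2 : x * t * x⁻¹ * t⁻¹ = x * (t * x⁻¹ * t⁻¹) := by group
      rw [h2]; exact W.mul_mem hx h1
    · exact T.mul_mem (D.conj_mem (hWH hx) ht) (T.inv_mem ht)
  calc x * t = (x * t * x⁻¹ * t⁻¹) * (t * x) := by group
    _ = t * x := by rw [hcomm, one_mul]

end Cfsg.Agent.Helper4.Hig
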