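import Mathlib

/-!
# A linear character of order 3 from a normal subgroup with cyclic quotient of order 3
-/

set_option autoImplicit false
set_option linter.style.haveILetI false

namespace Cfsg.Agent.Helper4.Hig

universe u

theorem exists_omega {C : Type u} [Group C] [Finite C] (S : Subgroup C) [S.Normal] (a : C)
    (ha : a ∉ S) (ha3 : a ^ 3 ∈ S) (hgen : ∀ c : C, ∃ i : ℤ, ∃ s ∈ S, c = a ^ i * s) :
    ∃ ω : C →* ℂˣ, (∀ c, ω c ^ 3 = 1) ∧ ω a ≠ 1 ∧ ∀ s ∈ S, ω s = 1 := by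
  set q : C ⧸ S := (a : C ⧸ S) with hq
  have hq1 : q ≠ 1 := by
    intro h; exact ha ((QuotientGroup.eq_one_iff a).mp h)
  have hq3 : q ^ 3 = 1 := by
    rw [hq, ← QuotientGroup.mk_pow]; exact (QuotientGroup.eq_one_iff _).mpr ha3
  have hpow : ∀ x : C ⧸ S, ∃ i : ℤ, x = q ^ i := by
    intro x
    induction x using QuotientGroup.induction_on with
    | H c =>
      obtain ⟨i, s, hs, rfl⟩ := hgen c
      refine ⟨i, ?_⟩
      rw [QuotientGroup.mk_mul, QuotientGroup.mk_zpow, (QuotientGroup.eq_one_iff s).mpr hs,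
        mul_one]
  have hcomm : ∀ x y : C ⧸ S, x * y = y * x := by
    intro x y
    obtain ⟨i, rfl⟩ := hpow x
    obtain ⟨j, rfl⟩ := hpow y
    rw [← zpow_add, ← zpow_add, add_comm]
  letI : CommGroup (C ⧸ S) := { (inferInstance : Group (C ⧸ S)) with mul_comm := hcomm }
  haveI : NeZero ((Monoid.exponent (C ⧸ S) : ℕ) : ℂ) :=
    ⟨by exact_mod_cast Monoid.exponent_ne_zero_of_finite⟩
  obtain ⟨φ, hφ⟩ := CommGroup.exists_apply_ne_one_of_hasEnoughRootsOfUnity (C ⧸ S) ℂ hq1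
  refine ⟨φ.comp (QuotientGroup.mk' S), ?_, ?_, ?_⟩
  · intro c
    obtain ⟨i, hi⟩ := hpow (c : C ⧸ S)
    show φ (c : C ⧸ S) ^ 3 = 1
    rw [← map_pow, hi, ← zpow_natCast, ← zpow_mul, mul_comm, zpow_mul, zpow_natCast, hq3,
      one_zpow, map_one]
  · exact hφ
  · intro s hs
    show φ (s : C ⧸ S) = 1
    rw [(QuotientGroup.eq_one_iff s).mpr hs, map_one]

end Cfsg.Agent.Helper4.Hig
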