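import Mathlib

/-!
# The configuration `3^3 : 2^2` (even part of `S₃ × S₃ × S₃`), abstractly

Three commuting elements `a p` of order dividing 3 and three involutions `w p` forming a four-group,
`w p` centralizing `a p` and inverting `a q` for `q ≠ p`.
-/

set_option autoImplicit false
set_option linter.style.haveILetI false

namespace Cfsg.Agent.Helper4.Hig

universe u

/-- extension of a subgroup by an involution normalizing it -/
def ext2 {G : Type u} [Group G] (X : Subgroup G) (v : G) (hv : v * v = 1)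
    (hX : ∀ x ∈ X, v * x * v⁻¹ ∈ X) : Subgroup G where
  carrier := {y | y ∈ X ∨ y * v ∈ X}
  one_mem' := Or.inl X.one_mem
  mul_mem' := by
    have hvi : v⁻¹ = v := inv_eq_of_mul_eq_one_right hv
    rintro x y (hx | hx) (hy | hy)
    · exact Or.inl (X.mul_mem hx hy)
    · right
      rw [mul_assoc]; exact X.mul_mem hx hy
    · right
      have h1 := hX y hy
      have : x * y * v = (x * v) * (v * y * v⁻¹) := by
        rw [hvi]
        calc x * y * v = x * (v * v) * y * v := by rw [hv, mul_one]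
          _ = _ := by group
      rw [this]; exact X.mul_mem hx h1
    · left
      have h1 := hX (y * v) hy
      have : x * y = (x * v) * (v * (y * v) * v⁻¹) := by
        calc x * y = x * (v * v) * y * (v * v⁻¹) := by rw [hv, mul_one, mul_inv_cancel, mul_one]
          _ = _ := by group
      rw [this]; exact X.mul_mem hx h1
  inv_mem' := by
    have hvi : v⁻¹ = v := inv_eq_of_mul_eq_one_right hv
    rintro x (hx | hx)
    · exact Or.inl (X.inv_mem hx)
    · right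
      have h1 := hX _ (X.inv_mem hx)
      have : x⁻¹ * v = v * (x * v)⁻¹ * v⁻¹ := by
        have e : v * (x * v)⁻¹ * v⁻¹ = x⁻¹ * v⁻¹ := by group
        rw [e, hvi]
      rw [this]; exact h1

theorem mem_ext2 {G : Type u} [Group G] {X : Subgroup G} {v : G} {hv : v * v = 1}
    {hX : ∀ x ∈ X, v * x * v⁻¹ ∈ X} {y : G} : y ∈ ext2 X v hv hX ↔ y ∈ X ∨ y * v ∈ X := Iff.rfl

/-- the abstract configuration -/
structure Cfg3 (G : Type u) [Group G] where
  a : Fin 3 → G
  w : Fin 3 → G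
  a_comm : ∀ p q, a p * a q = a q * a p
  a_cube : ∀ p, a p ^ 3 = 1
  w_sq : ∀ p, w p * w p = 1
  w_mul : ∀ p q r, p ≠ q → q ≠ r → p ≠ r → w p * w q = w r
  cen : ∀ p, w p * a p = a p * w p
  inv : ∀ p q, p ≠ q → w p * a q * (w p)⁻¹ = (a q)⁻¹

namespace Cfg3

variable {G : Type u} [Group G] (c : Cfg3 G)

theorem third (p q : Fin 3) (h : p ≠ q) : ∃ r : Fin 3, q ≠ r ∧ p ≠ r := by
  revert p q; decide

theorem w_inv (p : Fin 3) : (c.w p)⁻¹ = c.w p := inv_eq_of_mul_eq_one_right (c.w_sq p)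

theorem w_comm (p q : Fin 3) : c.w p * c.w q = c.w q * c.w p := by
  by_cases h : p = q
  · rw [h]
  · obtain ⟨r, h1, h2⟩ := third p q h
    rw [c.w_mul p q r h h1 h2, c.w_mul q p r (Ne.symm h) h2 h1]

/-- the elementary abelian group generated by the `a p` -/
def A : Subgroup G := Subgroup.closure (Set.range c.a)

/-- the part of `A` inverted by `w p` -/
def B (p : Fin 3) : Subgroup G := Subgroup.closure {x | ∃ q, q ≠ p ∧ x = c.a q}

/-- the four-group, as a set -/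
def W : Set G := {x | x = 1 ∨ ∃ p, x = c.w p}

/-- the whole group -/
def Hs : Subgroup G := Subgroup.closure (Set.range c.a ∪ Set.range c.w)

theorem a_mem_A (p : Fin 3) : c.a p ∈ c.A := Subgroup.subset_closure ⟨p, rfl⟩

theorem a_mem_B {p q : Fin 3} (h : q ≠ p) : c.a q ∈ c.B p := Subgroup.subset_closure ⟨q, h, rfl⟩

theorem B_le_A (p : Fin 3) : c.B p ≤ c.A := by
  apply (Subgroup.closure_le _).mpr
  rintro x ⟨q, -, rfl⟩
  exact c.a_mem_A q

theorem A_le_Hs : c.A ≤ c.Hs := Subgroup.closure_mono Set.subset_union_left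

theorem w_mem_Hs (p : Fin 3) : c.w p ∈ c.Hs := Subgroup.subset_closure (Or.inr ⟨p, rfl⟩)

theorem a_comm_A (p : Fin 3) : ∀ x ∈ c.A, c.a p * x = x * c.a p := by
  intro x hx
  induction hx using Subgroup.closure_induction with
  | mem x hx => obtain ⟨q, rfl⟩ := hx; exact c.a_comm p q
  | one => simp
  | mul x y _ _ hx hy => rw [← mul_assoc, hx, mul_assoc, hy, mul_assoc]
  | inv x _ hx =>
    calc c.a p * x⁻¹ = x⁻¹ * (x * c.a p) * x⁻¹ := by group
      _ = x⁻¹ * (c.a p * x) * x⁻¹ := by rw [hx]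
      _ = x⁻¹ * c.a p := by group

theorem A_comm : ∀ x ∈ c.A, ∀ y ∈ c.A, x * y = y * x := by
  intro x hx y hy
  induction hx using Subgroup.closure_induction with
  | mem x hx => obtain ⟨q, rfl⟩ := hx; exact c.a_comm_A q y hy
  | one => simp
  | mul x z _ _ hx hz => rw [mul_assoc, hz, ← mul_assoc, hx, mul_assoc]
  | inv x _ hx =>
    calc x⁻¹ * y = x⁻¹ * (y * x) * x⁻¹ := by group
      _ = x⁻¹ * (x * y) * x⁻¹ := by rw [hx]
      _ = y * x⁻¹ := by group

theorem A_cube : ∀ x ∈ c.A, x ^ 3 = 1 := by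
  intro x hx
  induction hx using Subgroup.closure_induction with
  | mem x hx => obtain ⟨q, rfl⟩ := hx; exact c.a_cube q
  | one => simp
  | mul x y hx' hy' hx hy =>
    have hc : Commute x y := c.A_comm x hx' y hy'
    rw [hc.mul_pow, hx, hy, one_mul]
  | inv x _ hx => rw [inv_pow, hx, inv_one]

/-- conjugation by `w q` on a generator -/
theorem conj_a (q p : Fin 3) : c.w q * c.a p * (c.w q)⁻¹ = c.a p ∨
    c.w q * c.a p * (c.w q)⁻¹ = (c.a p)⁻¹ := by
  by_cases h : q = p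
  · left
    rw [h, c.cen p]; group
  · right
    exact c.inv q p h

theorem conjW_A (q : Fin 3) : ∀ x ∈ c.A, c.w q * x * (c.w q)⁻¹ ∈ c.A := by
  intro x hx
  induction hx using Subgroup.closure_induction with
  | mem x hx =>
    obtain ⟨p, rfl⟩ := hx
    rcases c.conj_a q p with h | h <;> rw [h]
    · exact c.a_mem_A p
    · exact c.A.inv_mem (c.a_mem_A p)
  | one => simp
  | mul x y _ _ hx hy =>
    have : c.w q * (x * y) * (c.w q)⁻¹ = (c.w q * x * (c.w q)⁻¹) * (c.w q * y * (c.w q)⁻¹) := by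
      group
    rw [this]; exact c.A.mul_mem hx hy
  | inv x _ hx =>
    have : c.w q * x⁻¹ * (c.w q)⁻¹ = (c.w q * x * (c.w q)⁻¹)⁻¹ := by group
    rw [this]; exact c.A.inv_mem hx

theorem conjW_B (q p : Fin 3) : ∀ x ∈ c.B p, c.w q * x * (c.w q)⁻¹ ∈ c.B p := by
  intro x hx
  induction hx using Subgroup.closure_induction with
  | mem x hx =>
    obtain ⟨r, hr, rfl⟩ := hx
    rcases c.conj_a q r with h | h <;> rw [h]
    · exact c.a_mem_B hr
    · exact (c.B p).inv_mem (c.a_mem_B hr)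
  | one => simp
  | mul x y _ _ hx hy =>
    have : c.w q * (x * y) * (c.w q)⁻¹ = (c.w q * x * (c.w q)⁻¹) * (c.w q * y * (c.w q)⁻¹) := by
      group
    rw [this]; exact (c.B p).mul_mem hx hy
  | inv x _ hx =>
    have : c.w q * x⁻¹ * (c.w q)⁻¹ = (c.w q * x * (c.w q)⁻¹)⁻¹ := by group
    rw [this]; exact (c.B p).inv_mem hx

/-- `w p` inverts `B p` -/
theorem inv_B (p : Fin 3) : ∀ x ∈ c.B p, c.w p * x * (c.w p)⁻¹ = x⁻¹ := by
  intro x hx
  induction hx using Subgroup.closure_induction with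
  | mem x hx =>
    obtain ⟨r, hr, rfl⟩ := hx
    exact c.inv p r (Ne.symm hr)
  | one => simp
  | mul x y hx' hy' hx hy =>
    have : c.w p * (x * y) * (c.w p)⁻¹ = (c.w p * x * (c.w p)⁻¹) * (c.w p * y * (c.w p)⁻¹) := by
      group
    rw [this, hx, hy, mul_inv_rev]
    have := c.A_comm x (c.B_le_A p hx') y (c.B_le_A p hy')
    calc x⁻¹ * y⁻¹ = (y * x)⁻¹ := by group
      _ = (x * y)⁻¹ := by rw [this]
      _ = y⁻¹ * x⁻¹ := by group
  | inv x _ hx =>
    have : c.w p * x⁻¹ * (c.w p)⁻¹ = (c.w p * x * (c.w p)⁻¹)⁻¹ := by group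
    rw [this, hx]

theorem cen_a (p : Fin 3) : c.w p * c.a p * (c.w p)⁻¹ = c.a p := by
  rw [c.cen p]; group

theorem cen_a_zpow (p : Fin 3) (i : ℤ) : c.w p * c.a p ^ i * (c.w p)⁻¹ = c.a p ^ i := by
  have h : Commute (c.w p) (c.a p) := c.cen p
  have := (h.zpow_right i).eq
  rw [this]; group

/-- decomposition `A = ⟨a p⟩ B p` -/
theorem A_decomp (p : Fin 3) : ∀ x ∈ c.A, ∃ i : ℤ, ∃ b ∈ c.B p, x = c.a p ^ i * b := by
  intro x hx
  induction hx using Subgroup.closure_induction with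
  | mem x hx =>
    obtain ⟨q, rfl⟩ := hx
    by_cases h : q = p
    · exact ⟨1, 1, (c.B p).one_mem, by rw [h]; simp⟩
    · exact ⟨0, c.a q, c.a_mem_B h, by simp⟩
  | one => exact ⟨0, 1, (c.B p).one_mem, by simp⟩
  | mul x y _ _ hx hy =>
    obtain ⟨i, b, hb, rfl⟩ := hx
    obtain ⟨j, b', hb', rfl⟩ := hy
    refine ⟨i + j, b * b', (c.B p).mul_mem hb hb', ?_⟩
    have h1 : b * c.a p ^ j = c.a p ^ j * b :=
      c.A_comm b (c.B_le_A p hb) _ (c.A.zpow_mem (c.a_mem_A p) j)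
    calc c.a p ^ i * b * (c.a p ^ j * b') = c.a p ^ i * (b * c.a p ^ j) * b' := by group
      _ = c.a p ^ i * (c.a p ^ j * b) * b' := by rw [h1]
      _ = c.a p ^ (i + j) * (b * b') := by rw [zpow_add]; group
  | inv x _ hx =>
    obtain ⟨i, b, hb, rfl⟩ := hx
    refine ⟨-i, b⁻¹, (c.B p).inv_mem hb, ?_⟩
    have h1 : b⁻¹ * c.a p ^ (-i) = c.a p ^ (-i) * b⁻¹ :=
      c.A_comm b⁻¹ (c.B_le_A p ((c.B p).inv_mem hb)) _ (c.A.zpow_mem (c.a_mem_A p) (-i))
    rw [mul_inv_rev, ← zpow_neg, h1]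

theorem one_mem_W : (1 : G) ∈ c.W := Or.inl rfl

theorem w_mem_W (p : Fin 3) : c.w p ∈ c.W := Or.inr ⟨p, rfl⟩

theorem W_mul {v v' : G} (hv : v ∈ c.W) (hv' : v' ∈ c.W) : v * v' ∈ c.W := by
  rcases hv with rfl | ⟨p, rfl⟩
  · rwa [one_mul]
  · rcases hv' with rfl | ⟨q, rfl⟩
    · rw [mul_one]; exact c.w_mem_W p
    · by_cases h : p = q
      · rw [h, c.w_sq q]; exact c.one_mem_W
      · obtain ⟨r, h1, h2⟩ := third p q h
        rw [c.w_mul p q r h h1 h2]; exact c.w_mem_W r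

theorem W_sq {v : G} (hv : v ∈ c.W) : v * v = 1 := by
  rcases hv with rfl | ⟨p, rfl⟩
  · simp
  · exact c.w_sq p

theorem W_inv {v : G} (hv : v ∈ c.W) : v⁻¹ = v := inv_eq_of_mul_eq_one_right (c.W_sq hv)

theorem W_comm {v v' : G} (hv : v ∈ c.W) (hv' : v' ∈ c.W) : v * v' = v' * v := by
  rcases hv with rfl | ⟨p, rfl⟩
  · simp
  · rcases hv' with rfl | ⟨q, rfl⟩
    · simp
    · exact c.w_comm p q

theorem W_mem_Hs {v : G} (hv : v ∈ c.W) : v ∈ c.Hs := by
  rcases hv with rfl | ⟨p, rfl⟩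
  · exact c.Hs.one_mem
  · exact c.w_mem_Hs p

theorem conjW_A' {v : G} (hv : v ∈ c.W) : ∀ x ∈ c.A, v * x * v⁻¹ ∈ c.A := by
  rcases hv with rfl | ⟨p, rfl⟩
  · intro x hx; simpa using hx
  · exact c.conjW_A p

/-- normal form in `Hs` -/
theorem Hs_decomp : ∀ h ∈ c.Hs, ∃ x ∈ c.A, ∃ v ∈ c.W, h = x * v := by
  intro h hh
  induction hh using Subgroup.closure_induction with
  | mem h hh =>
    rcases hh with ⟨p, rfl⟩ | ⟨p, rfl⟩
    · exact ⟨c.a p, c.a_mem_A p, 1, c.one_mem_W, by simp⟩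
    · exact ⟨1, c.A.one_mem, c.w p, c.w_mem_W p, by simp⟩
  | one => exact ⟨1, c.A.one_mem, 1, c.one_mem_W, by simp⟩
  | mul h h' _ _ hh hh' =>
    obtain ⟨x, hx, v, hv, rfl⟩ := hh
    obtain ⟨x', hx', v', hv', rfl⟩ := hh'
    refine ⟨x * (v * x' * v⁻¹), c.A.mul_mem hx (c.conjW_A' hv x' hx'), v * v', c.W_mul hv hv', ?_⟩
    group
  | inv h _ hh =>
    obtain ⟨x, hx, v, hv, rfl⟩ := hh
    refine ⟨v * x⁻¹ * v⁻¹, c.conjW_A' hv _ (c.A.inv_mem hx), v, hv, ?_⟩
    rw [mul_inv_rev, c.W_inv hv]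
    calc v * x⁻¹ = v * x⁻¹ * (v * v) := by rw [c.W_sq hv, mul_one]
      _ = v * x⁻¹ * v * v := by group

theorem sq_mem_A : ∀ h ∈ c.Hs, h * h ∈ c.A := by
  intro h hh
  obtain ⟨x, hx, v, hv, rfl⟩ := c.Hs_decomp h hh
  have : x * v * (x * v) = x * (v * x * v⁻¹) := by
    rw [c.W_inv hv]
    calc x * v * (x * v) = x * v * x * v := by group
      _ = _ := by group
  rw [this]
  exact c.A.mul_mem hx (c.conjW_A' hv x hx)

end Cfg3

end Cfsg.Agent.Helper4.Hig
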