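import Mathlib
import Cfsg.Agent.Helper4.Hig3C

/-!
# The configuration `3^3 : 2^2`: the subgroups `C p`, `S p`, involutions, counting
-/

set_option autoImplicit false
set_option linter.style.haveILetI false

namespace Cfsg.Agent.Helper4.Hig

universe u

section counting

variable {G : Type u} [Group G]

/-- counting lemma: `K ⊆ ⟨x⟩ L` with `x ^ 3 = 1` -/
theorem card_le_three_mul (K L : Subgroup G) [Finite L] (x : G) (hx : x ^ 3 = 1)
    (h : ∀ y ∈ K, ∃ i : ℤ, ∃ b ∈ L, y = x ^ i * b) : Nat.card K ≤ 3 * Nat.card L := by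
  classical
  have h' : ∀ y : K, ∃ i : Fin 3, ∃ b : L, (y : G) = x ^ (i : ℕ) * (b : G) := by
    intro y
    obtain ⟨i, b, hb, hy⟩ := h y y.2
    have h0 : 0 ≤ i % 3 := Int.emod_nonneg _ (by norm_num)
    have h3 : i % 3 < 3 := Int.emod_lt_of_pos _ (by norm_num)
    refine ⟨⟨(i % 3).toNat, by omega⟩, ⟨b, hb⟩, ?_⟩
    rw [hy, zpow_eq_zpow_emod' i hx]
    show x ^ (i % ((3 : ℕ) : ℤ)) * b = x ^ ((i % 3).toNat) * b
    rw [← zpow_natCast, Int.toNat_of_nonneg h0]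
    rfl
  choose fi fb hf using h'
  have hinj : Function.Injective (fun y : K => (fi y, fb y)) := by
    intro y y' hyy'
    simp only [Prod.mk.injEq] at hyy'
    apply Subtype.ext
    rw [hf y, hf y', hyy'.1, hyy'.2]
  have := Nat.card_le_card_of_injective _ hinj
  rwa [Nat.card_prod, Nat.card_fin] at this

theorem card_zpowers_le_three (x : G) (hx : x ^ 3 = 1) : Nat.card (Subgroup.zpowers x) ≤ 3 := by
  rw [Nat.card_zpowers]
  exact Nat.le_of_dvd (by norm_num) (orderOf_dvd_of_pow_eq_one hx)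

/-- elements of the closure of two commuting elements -/
theorem mem_closure_pair_comm {x y : G} (hxy : Commute x y) :
    ∀ z ∈ Subgroup.closure ({x, y} : Set G), ∃ j : ℤ, ∃ b ∈ Subgroup.zpowers y, z = x ^ j * b := by
  intro z hz
  induction hz using Subgroup.closure_induction with
  | mem z hz =>
    rcases hz with rfl | rfl
    · exact ⟨1, 1, Subgroup.one_mem _, by simp⟩
    · exact ⟨0, z, Subgroup.mem_zpowers z, by simp⟩
  | one => exact ⟨0, 1, Subgroup.one_mem _, by simp⟩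
  | mul z z' _ _ hz hz' =>
    obtain ⟨j, b, hb, rfl⟩ := hz
    obtain ⟨j', b', hb', rfl⟩ := hz'
    obtain ⟨k, rfl⟩ := Subgroup.mem_zpowers_iff.mp hb
    refine ⟨j + j', y ^ k * b', Subgroup.mul_mem _ hb hb', ?_⟩
    have h1 : y ^ k * x ^ j' = x ^ j' * y ^ k := ((hxy.zpow_zpow j' k).eq).symm
    calc x ^ j * y ^ k * (x ^ j' * b') = x ^ j * (y ^ k * x ^ j') * b' := by group
      _ = x ^ j * (x ^ j' * y ^ k) * b' := by rw [h1]
      _ = x ^ (j + j') * (y ^ k * b') := by rw [zpow_add]; group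
  | inv z _ hz =>
    obtain ⟨j, b, hb, rfl⟩ := hz
    obtain ⟨k, rfl⟩ := Subgroup.mem_zpowers_iff.mp hb
    refine ⟨-j, (y ^ k)⁻¹, Subgroup.inv_mem _ hb, ?_⟩
    have h1 : (y ^ k)⁻¹ * (x ^ j)⁻¹ = (x ^ j)⁻¹ * (y ^ k)⁻¹ := by
      have := (hxy.zpow_zpow j k).eq
      rw [← mul_inv_rev, ← mul_inv_rev, this]
    rw [mul_inv_rev, h1, zpow_neg]

theorem card_closure_pair_le {x y : G} [Finite G] (hxy : Commute x y) (hx : x ^ 3 = 1)
    (hy : y ^ 3 = 1) : Nat.card (Subgroup.closure ({x, y} : Set G)) ≤ 9 := by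
  have h1 := card_le_three_mul (Subgroup.closure ({x, y} : Set G)) (Subgroup.zpowers y) x hx
    (mem_closure_pair_comm hxy)
  have h2 := card_zpowers_le_three y hy
  omega

end counting

namespace Cfg3

variable {G : Type u} [Group G] (c : Cfg3 G)

/-- `C p = A ∪ A w p` -/
def C (p : Fin 3) : Subgroup G := ext2 c.A (c.w p) (c.w_sq p) (c.conjW_A p)

/-- `S p = B p ∪ B p w p` -/
def S (p : Fin 3) : Subgroup G := ext2 (c.B p) (c.w p) (c.w_sq p) (c.conjW_B p p)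

theorem mem_C {p : Fin 3} {y : G} : y ∈ c.C p ↔ y ∈ c.A ∨ y * c.w p ∈ c.A := Iff.rfl

theorem mem_S {p : Fin 3} {y : G} : y ∈ c.S p ↔ y ∈ c.B p ∨ y * c.w p ∈ c.B p := Iff.rfl

theorem A_le_C (p : Fin 3) : c.A ≤ c.C p := fun _ hx => Or.inl hx

theorem B_le_S (p : Fin 3) : c.B p ≤ c.S p := fun _ hx => Or.inl hx

theorem w_mem_C (p : Fin 3) : c.w p ∈ c.C p := Or.inr (by rw [c.w_sq p]; exact c.A.one_mem)

theorem w_mem_S (p : Fin 3) : c.w p ∈ c.S p := Or.inr (by rw [c.w_sq p]; exact (c.B p).one_mem)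

theorem S_le_C (p : Fin 3) : c.S p ≤ c.C p := by
  rintro x (hx | hx)
  · exact Or.inl (c.B_le_A p hx)
  · exact Or.inr (c.B_le_A p hx)

theorem C_le_Hs (p : Fin 3) : c.C p ≤ c.Hs := by
  rintro x (hx | hx)
  · exact c.A_le_Hs hx
  · have : x = x * c.w p * (c.w p)⁻¹ := by group
    rw [this]
    exact c.Hs.mul_mem (c.A_le_Hs hx) (c.Hs.inv_mem (c.w_mem_Hs p))

theorem mul_w_mem_S {p : Fin 3} {b : G} (hb : b ∈ c.B p) : b * c.w p ∈ c.S p :=
  (c.S p).mul_mem (c.B_le_S p hb) (c.w_mem_S p)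

/-- decomposition `C p = ⟨a p⟩ S p` -/
theorem C_decomp (p : Fin 3) : ∀ x ∈ c.C p, ∃ i : ℤ, ∃ s ∈ c.S p, x = c.a p ^ i * s := by
  rintro x (hx | hx)
  · obtain ⟨i, b, hb, rfl⟩ := c.A_decomp p x hx
    exact ⟨i, b, c.B_le_S p hb, rfl⟩
  · obtain ⟨i, b, hb, h⟩ := c.A_decomp p _ hx
    refine ⟨i, b * c.w p, c.mul_w_mem_S hb, ?_⟩
    have : x = x * c.w p * (c.w p)⁻¹ := by group
    rw [this, h, c.w_inv p]; group

/-- `y (w p y⁻¹ w p⁻¹) ∈ B p` for `y ∈ A` -/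
theorem comm_mem_B (p : Fin 3) : ∀ y ∈ c.A, y * (c.w p * y⁻¹ * (c.w p)⁻¹) ∈ c.B p := by
  intro y hy
  obtain ⟨i, b, hb, rfl⟩ := c.A_decomp p y hy
  have h1 : c.w p * (c.a p ^ i * b)⁻¹ * (c.w p)⁻¹ =
      (c.w p * b * (c.w p)⁻¹)⁻¹ * (c.w p * c.a p ^ i * (c.w p)⁻¹)⁻¹ := by group
  rw [h1, c.inv_B p b hb, c.cen_a_zpow, inv_inv]
  have hz : c.a p ^ i ∈ c.A := c.A.zpow_mem (c.a_mem_A p) i
  have hbb : b * b ∈ c.A := c.A.mul_mem (c.B_le_A p hb) (c.B_le_A p hb)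
  have := c.A_comm _ hz _ hbb
  have h2 : c.a p ^ i * b * (b * (c.a p ^ i)⁻¹) = b * b := by
    calc c.a p ^ i * b * (b * (c.a p ^ i)⁻¹) = c.a p ^ i * (b * b) * (c.a p ^ i)⁻¹ := by group
      _ = (b * b) * c.a p ^ i * (c.a p ^ i)⁻¹ := by rw [this]
      _ = b * b := by group
  rw [h2]
  exact (c.B p).mul_mem hb hb

theorem conjA_S (p : Fin 3) : ∀ y ∈ c.A, ∀ s ∈ c.S p, y * s * y⁻¹ ∈ c.S p := by
  intro y hy s hs
  rcases hs with hs | hs
  · left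
    have := c.A_comm y hy s (c.B_le_A p hs)
    have h : y * s * y⁻¹ = s := by rw [this]; group
    rw [h]; exact hs
  · right
    have hb := c.B_le_A p hs
    have hcomm := c.A_comm y hy _ hb
    have hwi := c.w_inv p
    have h : y * s * y⁻¹ * c.w p = (s * c.w p) * (y * (c.w p * y⁻¹ * (c.w p)⁻¹)) := by
      calc y * s * y⁻¹ * c.w p = y * (s * c.w p) * ((c.w p)⁻¹ * y⁻¹ * c.w p) := by group
        _ = (s * c.w p) * y * ((c.w p)⁻¹ * y⁻¹ * c.w p) := by rw [hcomm]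
        _ = (s * c.w p) * y * (c.w p * y⁻¹ * (c.w p)⁻¹) := by rw [hwi]
        _ = (s * c.w p) * (y * (c.w p * y⁻¹ * (c.w p)⁻¹)) := by group
    rw [h]
    exact (c.B p).mul_mem hs (c.comm_mem_B p y hy)

/-- `S p` is normal in `C p` -/
theorem S_normal_C (p : Fin 3) : ∀ g ∈ c.C p, ∀ s ∈ c.S p, g * s * g⁻¹ ∈ c.S p := by
  intro g hg s hs
  rcases hg with hg | hg
  · exact c.conjA_S p g hg s hs
  · have h1 : (c.w p)⁻¹ * s * c.w p ∈ c.S p :=
      (c.S p).mul_mem ((c.S p).mul_mem ((c.S p).inv_mem (c.w_mem_S p)) hs) (c.w_mem_S p)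
    have := c.conjA_S p _ hg _ h1
    have h2 : g * s * g⁻¹ = g * c.w p * ((c.w p)⁻¹ * s * c.w p) * (g * c.w p)⁻¹ := by group
    rw [h2]; exact this

theorem A_inv_two : ∀ x ∈ c.A, x * x = 1 → x = 1 := by
  intro x hx h2
  have h3 := c.A_cube x hx
  calc x = x ^ 3 * (x * x)⁻¹ := by rw [pow_succ, pow_two]; group
    _ = 1 := by rw [h3, h2]; simp

/-- involutions of `Hs` -/
theorem invol_decomp : ∀ x ∈ c.Hs, x * x = 1 → x ∈ c.A ∨ ∃ q, ∃ b ∈ c.B q, x = b * c.w q := by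
  intro x hx h2
  obtain ⟨y, hy, v, hv, rfl⟩ := c.Hs_decomp x hx
  rcases hv with rfl | ⟨q, rfl⟩
  · left; simpa using hy
  · right
    refine ⟨q, ?_⟩
    obtain ⟨i, b, hb, rfl⟩ := c.A_decomp q y hy
    have hz : c.a q ^ i ∈ c.A := c.A.zpow_mem (c.a_mem_A q) i
    have e1 : c.a q ^ i * b * c.w q * (c.a q ^ i * b * c.w q) =
        c.a q ^ i * b * (c.w q * c.a q ^ i * (c.w q)⁻¹) * (c.w q * b * (c.w q)⁻¹) *
          (c.w q * c.w q) := by group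
    rw [e1, c.cen_a_zpow, c.inv_B q b hb, c.w_sq q, mul_one] at h2
    have hcomm := c.A_comm b (c.B_le_A q hb) _ hz
    have e2 : c.a q ^ i * b * c.a q ^ i * b⁻¹ = c.a q ^ i * c.a q ^ i := by
      calc c.a q ^ i * b * c.a q ^ i * b⁻¹ = c.a q ^ i * (b * c.a q ^ i) * b⁻¹ := by group
        _ = c.a q ^ i * (c.a q ^ i * b) * b⁻¹ := by rw [hcomm]
        _ = _ := by group
    rw [e2] at h2
    have h1 := c.A_inv_two _ hz h2
    exact ⟨b, hb, by rw [h1, one_mul]⟩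

theorem B_cube (p : Fin 3) : ∀ b ∈ c.B p, b ^ 3 = 1 := fun b hb => c.A_cube b (c.B_le_A p hb)

/-- `b w q` is conjugate to `w q` under `A` -/
theorem invol_conj (q : Fin 3) : ∀ b ∈ c.B q, b * c.w q = b⁻¹ * c.w q * (b⁻¹)⁻¹ := by
  intro b hb
  have h3 := c.B_cube q b hb
  have h1 := c.inv_B q b hb
  have e : b⁻¹ * c.w q * (b⁻¹)⁻¹ = b⁻¹ * (c.w q * b * (c.w q)⁻¹) * c.w q := by group
  rw [e, h1]
  have : b⁻¹ * b⁻¹ = b := by
    calc b⁻¹ * b⁻¹ = (b ^ 3) * (b⁻¹ * b⁻¹) := by rw [h3, one_mul]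
      _ = b := by rw [pow_succ, pow_two]; group
  rw [this]

/-- product of two involutions of the class of `w p` -/
theorem prod_invol (p : Fin 3) {b b' : G} (hb : b ∈ c.B p) (hb' : b' ∈ c.B p) :
    (b * c.w p) * (b' * c.w p) ∈ c.B p := by
  have e : (b * c.w p) * (b' * c.w p) = b * (c.w p * b' * (c.w p)⁻¹) * (c.w p * c.w p) := by group
  rw [e, c.inv_B p b' hb', c.w_sq p, mul_one]
  exact (c.B p).mul_mem hb ((c.B p).inv_mem hb')

/-- `Hs`-conjugates of `w p` lie in `A w p` -/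
theorem conj_w_mem (p : Fin 3) : ∀ h ∈ c.Hs, h * c.w p * h⁻¹ * c.w p ∈ c.A := by
  intro h hh
  obtain ⟨x, hx, v, hv, rfl⟩ := c.Hs_decomp h hh
  have hvw := c.W_comm hv (c.w_mem_W p)
  have e : x * v * c.w p * (x * v)⁻¹ * c.w p = x * (v * c.w p) * v⁻¹ * x⁻¹ * c.w p := by group
  rw [e, hvw]
  have e2 : x * (c.w p * v) * v⁻¹ * x⁻¹ * c.w p = x * (c.w p * x⁻¹ * (c.w p)⁻¹) * (c.w p * c.w p) := by
    group
  rw [e2, c.w_sq p, mul_one]
  exact c.A.mul_mem hx (c.conjW_A p _ (c.A.inv_mem hx))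

theorem ext2_conj {X : Subgroup G} {v : G} {hv : v * v = 1} {hX : ∀ x ∈ X, v * x * v⁻¹ ∈ X}
    (u : G) (huv : u * v = v * u) (hu : ∀ x ∈ X, u * x * u⁻¹ ∈ X) :
    ∀ y ∈ ext2 X v hv hX, u * y * u⁻¹ ∈ ext2 X v hv hX := by
  have h1 : u⁻¹ * v = v * u⁻¹ := by
    calc u⁻¹ * v = u⁻¹ * (v * u) * u⁻¹ := by group
      _ = u⁻¹ * (u * v) * u⁻¹ := by rw [huv]
      _ = v * u⁻¹ := by group
  rintro y (hy | hy)
  · exact Or.inl (hu y hy)
  · right
    have : u * y * u⁻¹ * v = u * (y * v) * u⁻¹ := by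
      rw [mul_assoc (u * y), h1]; group
    rw [this]; exact hu _ hy

theorem conjW_C (q p : Fin 3) : ∀ y ∈ c.C p, c.w q * y * (c.w q)⁻¹ ∈ c.C p :=
  ext2_conj (c.w q) (c.w_comm q p) (c.conjW_A q)

theorem conjW_S (q p : Fin 3) : ∀ y ∈ c.S p, c.w q * y * (c.w q)⁻¹ ∈ c.S p :=
  ext2_conj (c.w q) (c.w_comm q p) (c.conjW_B q p)

theorem conjHs_C (p : Fin 3) : ∀ h ∈ c.Hs, ∀ y ∈ c.C p, h * y * h⁻¹ ∈ c.C p := by
  intro h hh y hy
  obtain ⟨x, hx, v, hv, rfl⟩ := c.Hs_decomp h hh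
  have h1 : v * y * v⁻¹ ∈ c.C p := by
    rcases hv with rfl | ⟨q, rfl⟩
    · simpa using hy
    · exact c.conjW_C q p y hy
  have e : x * v * y * (x * v)⁻¹ = x * (v * y * v⁻¹) * x⁻¹ := by group
  rw [e]
  exact (c.C p).mul_mem ((c.C p).mul_mem (c.A_le_C p hx) h1) ((c.C p).inv_mem (c.A_le_C p hx))

theorem conjHs_S (p : Fin 3) : ∀ h ∈ c.Hs, ∀ y ∈ c.S p, h * y * h⁻¹ ∈ c.S p := by
  intro h hh y hy
  obtain ⟨x, hx, v, hv, rfl⟩ := c.Hs_decomp h hh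
  have h1 : v * y * v⁻¹ ∈ c.S p := by
    rcases hv with rfl | ⟨q, rfl⟩
    · simpa using hy
    · exact c.conjW_S q p y hy
  have e : x * v * y * (x * v)⁻¹ = x * (v * y * v⁻¹) * x⁻¹ := by group
  rw [e]
  exact c.conjA_S p x hx _ h1

/-- elements of `Hs` outside `C p` invert `a p` -/
theorem conj_a_of_not_mem_C (p : Fin 3) : ∀ h ∈ c.Hs, h ∉ c.C p →
    h * c.a p * h⁻¹ = (c.a p)⁻¹ := by
  intro h hh hnC
  obtain ⟨x, hx, v, hv, rfl⟩ := c.Hs_decomp h hh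
  rcases hv with rfl | ⟨q, rfl⟩
  · exfalso; apply hnC; rw [mul_one]; exact c.A_le_C p hx
  · have hqp : q ≠ p := by
      rintro rfl
      apply hnC
      exact (c.C q).mul_mem (c.A_le_C q hx) (c.w_mem_C q)
    have e : x * c.w q * c.a p * (x * c.w q)⁻¹ = x * (c.w q * c.a p * (c.w q)⁻¹) * x⁻¹ := by group
    rw [e, c.inv q p hqp]
    have := c.A_comm x hx _ (c.A.inv_mem (c.a_mem_A p))
    rw [this]; group

/-- an element of all three `B p` is trivial -/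
theorem B_inter {x : G} (h0 : x ∈ c.B 0) (h1 : x ∈ c.B 1) (h2 : x ∈ c.B 2) : x = 1 := by
  have e0 := c.inv_B 0 x h0
  have e1 := c.inv_B 1 x h1
  have e2 := c.inv_B 2 x h2
  have hw : c.w 0 * c.w 1 = c.w 2 := c.w_mul 0 1 2 (by decide) (by decide) (by decide)
  have e3 : c.w 2 * x * (c.w 2)⁻¹ = x := by
    rw [← hw]
    calc c.w 0 * c.w 1 * x * (c.w 0 * c.w 1)⁻¹ = c.w 0 * (c.w 1 * x * (c.w 1)⁻¹) * (c.w 0)⁻¹ := by
          group
      _ = c.w 0 * x⁻¹ * (c.w 0)⁻¹ := by rw [e1]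
      _ = (c.w 0 * x * (c.w 0)⁻¹)⁻¹ := by group
      _ = x := by rw [e0, inv_inv]
  rw [e3] at e2
  apply c.A_inv_two x (c.B_le_A 0 h0)
  calc x * x = x * x⁻¹ := by rw [← e2]
    _ = 1 := by group

end Cfg3

end Cfsg.Agent.Helper4.Hig
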