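import Mathlib
import Cfsg.Agent.Helper4.Hig3A
import Cfsg.Agent.Helper4.Hig3D

/-!
# The configuration `3^3 : 2^2`: nondegeneracy from `|A| = 27`, the strongly embedded data
-/

set_option autoImplicit false
set_option linter.style.haveILetI false

namespace Cfsg.Agent.Helper4.Hig

universe u

namespace Cfg3

variable {G : Type u} [Group G] (c : Cfg3 G)

theorem fin3_cases (p q : Fin 3) (h : q ≠ p) : q = p + 1 ∨ q = p + 2 := by
  revert p q; decide

theorem fin3_ne1 (p : Fin 3) : p + 1 ≠ p := by revert p; decide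

theorem fin3_ne2 (p : Fin 3) : p + 2 ≠ p := by revert p; decide

theorem fin3_ne12 (p : Fin 3) : p + 1 ≠ p + 2 := by revert p; decide

theorem B_eq_pair (p : Fin 3) :
    c.B p = Subgroup.closure ({c.a (p + 1), c.a (p + 2)} : Set G) := by
  show Subgroup.closure {x | ∃ q, q ≠ p ∧ x = c.a q} = _
  congr 1
  ext x
  constructor
  · rintro ⟨q, hq, rfl⟩
    rcases fin3_cases p q hq with h | h <;> rw [h] <;> simp
  · rintro (rfl | rfl)
    · exact ⟨p + 1, fin3_ne1 p, rfl⟩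
    · exact ⟨p + 2, fin3_ne2 p, rfl⟩

variable [Finite G]

theorem card_B_le (p : Fin 3) : Nat.card (c.B p) ≤ 9 := by
  rw [c.B_eq_pair p]
  exact card_closure_pair_le (c.a_comm _ _) (c.a_cube _) (c.a_cube _)

theorem card_A_le (p : Fin 3) : Nat.card c.A ≤ 3 * Nat.card (c.B p) :=
  card_le_three_mul c.A (c.B p) (c.a p) (c.a_cube p) (c.A_decomp p)

variable (hA : Nat.card c.A = 27)

include hA

theorem a_not_mem_B (p : Fin 3) : c.a p ∉ c.B p := by
  intro h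
  have hle : c.A ≤ c.B p := by
    intro x hx
    obtain ⟨i, b, hb, rfl⟩ := c.A_decomp p x hx
    exact (c.B p).mul_mem ((c.B p).zpow_mem h i) hb
  have h1 := Subgroup.card_le_of_le hle
  have h2 := c.card_B_le p
  omega

theorem a_ne_one (p : Fin 3) : c.a p ≠ 1 := by
  intro h
  apply c.a_not_mem_B hA p
  rw [h]; exact (c.B p).one_mem

theorem w_ne_one (p : Fin 3) : c.w p ≠ 1 := by
  intro h
  have h1 := c.inv p (p + 1) (fin3_ne1 p).symm
  rw [h] at h1
  simp only [one_mul, inv_one, mul_one] at h1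
  apply c.a_ne_one hA (p + 1)
  apply c.A_inv_two _ (c.a_mem_A _)
  calc c.a (p + 1) * c.a (p + 1) = c.a (p + 1) * (c.a (p + 1))⁻¹ := by rw [← h1]
    _ = 1 := by group

theorem w_not_mem_A (p : Fin 3) : c.w p ∉ c.A := by
  intro h
  exact c.w_ne_one hA p (c.A_inv_two _ h (c.w_sq p))

theorem w_not_mem_C {p q : Fin 3} (h : q ≠ p) : c.w q ∉ c.C p := by
  rintro (h1 | h1)
  · exact c.w_not_mem_A hA q h1
  · obtain ⟨r, h2, h3⟩ := third q p h
    rw [c.w_mul q p r h h2 h3] at h1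
    exact c.w_not_mem_A hA r h1

theorem a_not_mem_S (p : Fin 3) : c.a p ∉ c.S p := by
  rintro (h1 | h1)
  · exact c.a_not_mem_B hA p h1
  · apply c.w_not_mem_A hA p
    have : c.w p = (c.a p)⁻¹ * (c.a p * c.w p) := by group
    rw [this]
    exact c.A.mul_mem (c.A.inv_mem (c.a_mem_A p)) (c.B_le_A p h1)

theorem relIndex_C (p : Fin 3) : (c.C p).relIndex c.Hs = 2 := by
  rw [Subgroup.relIndex_eq_two_iff_exists_notMem_and]
  refine ⟨c.w (p + 1), c.w_mem_Hs _, c.w_not_mem_C hA (fin3_ne1 p), ?_⟩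
  intro b hb
  obtain ⟨x, hx, v, hv, rfl⟩ := c.Hs_decomp b hb
  rcases hv with rfl | ⟨q, rfl⟩
  · right; rw [mul_one]; exact c.A_le_C p hx
  · by_cases hqp : q = p
    · right
      rw [hqp]
      exact (c.C p).mul_mem (c.A_le_C p hx) (c.w_mem_C p)
    · left
      rcases fin3_cases p q hqp with h | h
      · rw [h, mul_assoc, c.w_sq, mul_one]; exact c.A_le_C p hx
      · rw [h, mul_assoc, c.w_mul (p + 2) (p + 1) p (fin3_ne12 p).symm (fin3_ne1 p) (fin3_ne2 p)]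
        exact (c.C p).mul_mem (c.A_le_C p hx) (c.w_mem_C p)

theorem card_Hs (p : Fin 3) : Nat.card c.Hs = 2 * Nat.card (c.C p) := by
  have h := Subgroup.relIndex_mul_relIndex ⊥ (c.C p) c.Hs bot_le (c.C_le_Hs p)
  rw [Subgroup.relIndex_bot_left, Subgroup.relIndex_bot_left, c.relIndex_C hA p] at h
  omega

theorem self_centralizing : ∀ h ∈ c.Hs, (∀ t ∈ c.A, h * t = t * h) → h ∈ c.A := by
  intro h hh hcen
  obtain ⟨x, hx, v, hv, rfl⟩ := c.Hs_decomp h hh
  rcases hv with rfl | ⟨p, rfl⟩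
  · simpa using hx
  · exfalso
    have h1 := hcen _ (c.a_mem_A (p + 1))
    have h2 := c.A_comm x hx _ (c.a_mem_A (p + 1))
    have h3 : c.w p * c.a (p + 1) * (c.w p)⁻¹ = c.a (p + 1) := by
      calc c.w p * c.a (p + 1) * (c.w p)⁻¹ = x⁻¹ * (x * c.w p * c.a (p + 1)) * (c.w p)⁻¹ := by group
        _ = x⁻¹ * (c.a (p + 1) * (x * c.w p)) * (c.w p)⁻¹ := by rw [h1]
        _ = x⁻¹ * (c.a (p + 1) * x) * c.w p * (c.w p)⁻¹ := by group
        _ = x⁻¹ * (x * c.a (p + 1)) * c.w p * (c.w p)⁻¹ := by rw [h2]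
        _ = c.a (p + 1) := by group
    rw [c.inv p (p + 1) (fin3_ne1 p).symm] at h3
    apply c.a_ne_one hA (p + 1)
    apply c.A_inv_two _ (c.a_mem_A _)
    calc c.a (p + 1) * c.a (p + 1) = c.a (p + 1) * (c.a (p + 1))⁻¹ := by rw [h3]
      _ = 1 := by group

theorem not_cyclic : ∀ a ∈ c.A, Subgroup.zpowers a ≠ c.A := by
  intro a ha h
  have h1 := card_zpowers_le_three a (c.A_cube a ha)
  rw [h, hA] at h1
  omega

omit hA in
theorem pel : ∀ h ∈ c.Hs, (∃ k : ℕ, h ^ 3 ^ k = 1) → h ∈ c.A := by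
  intro h hh ⟨k, hk⟩
  have hodd : Odd (3 ^ k) := Odd.pow (by decide)
  obtain ⟨m, hm⟩ := hodd
  have : h = (h * h) ^ (m + 1) := by
    rw [← pow_two, ← pow_mul]
    have : 2 * (m + 1) = 3 ^ k + 1 := by omega
    rw [this, pow_succ, hk, one_mul]
  rw [this]
  exact c.A.pow_mem (c.sq_mem_A h hh) _

theorem semb (hN : Subgroup.normalizer (c.A : Set G) ≤ c.Hs)
    (hC : ∀ t ∈ c.A, t ≠ 1 → Subgroup.centralizer ({t} : Set G) ≤ c.Hs) : SEmb 3 c.A c.Hs where
  le := c.A_le_Hs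
  pgroup := IsPGroup.of_card (n := 3) (by rw [hA]; norm_num)
  comm := c.A_comm
  pel := c.pel
  norm := hN
  cent := hC

theorem w_not_conj_Hs {p q : Fin 3} (h : p ≠ q) : ∀ g ∈ c.Hs, g * c.w p * g⁻¹ ≠ c.w q := by
  intro g hg hcon
  have h1 := c.conj_w_mem p g hg
  rw [hcon] at h1
  obtain ⟨r, h2, h3⟩ := third q p h.symm
  rw [c.w_mul q p r h.symm h2 h3] at h1
  exact c.w_not_mem_A hA r h1

theorem w_not_conj (hN : Subgroup.normalizer (c.A : Set G) ≤ c.Hs)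
    (hC : ∀ t ∈ c.A, t ≠ 1 → Subgroup.centralizer ({t} : Set G) ≤ c.Hs) {p q : Fin 3}
    (h : p ≠ q) : ∀ g : G, g * c.w p * g⁻¹ ≠ c.w q := by
  intro g hcon
  haveI : Fact (Nat.Prime 3) := ⟨by norm_num⟩
  obtain ⟨h', hh', hcon'⟩ := (c.semb hA hN hC).fusion hcon (c.a_mem_A p) (c.a_ne_one hA p)
    (c.cen p).symm (c.a_mem_A q) (c.a_ne_one hA q) (c.cen q).symm
  exact c.w_not_conj_Hs hA h h' hh' hcon'

end Cfg3

end Cfsg.Agent.Helper4.Hig
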