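import Mathlib
import Cfsg.Prelude.Def_Characters
import Cfsg.Agent.Helper6.ClassMult
import Cfsg.Agent.Helper6.NormTwo
import Cfsg.Agent.Helper6.Codegree
import Cfsg.Agent.Helper6.Linear
import Cfsg.Agent.Helper6.Expansion

/-!
# Higman-style kernel lemma

A generalized character `β` of norm `3` containing the trivial character once and vanishing at `1`
is `1 + c₁ χ₁ + c₂ χ₂`.  If moreover `β` vanishes at `s` and at all products of two conjugates of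
`s`, then `s` lies in `ker χ₁ ∩ ker χ₂`, a normal subgroup on which `β` vanishes.
-/

set_option autoImplicit false
set_option linter.style.haveILetI false

namespace Cfsg.Agent.Helper4.Hig

open Module Representation
open scoped ComplexConjugate
open Cfsg.Agent.Helper6

universe u

variable {G : Type u} [Group G]

theorem isIrr_one : Cfsg.IsIrrCharacter G (fun _ => (1 : ℂ)) := by
  have := isIrrCharacter_of_hom (1 : G →* ℂˣ)
  simpa using this

/-- Decomposition of a norm-3 generalized character containing the trivial character once. -/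
theorem decomp_norm_three [Fintype G] {β : G → ℂ} (hβ : Cfsg.IsGeneralizedCharacter G β)
    (hnorm : Cfsg.classInner β β = 3) (h1 : Cfsg.classInner β (fun _ => (1 : ℂ)) = 1) :
    ∃ (χ₁ χ₂ : G → ℂ) (c₁ c₂ : ℂ), Cfsg.IsIrrCharacter G χ₁ ∧ Cfsg.IsIrrCharacter G χ₂ ∧
      (c₁ = 1 ∨ c₁ = -1) ∧ (c₂ = 1 ∨ c₂ = -1) ∧
      ∀ g, β g = 1 + c₁ * χ₁ g + c₂ * χ₂ g := by
  classical
  haveI : Finite (Cfsg.IrrCharacter G) := irr_finite
  haveI : Fintype (Cfsg.IrrCharacter G) := Fintype.ofFinite _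
  have hcf := IsGeneralizedCharacter.isClassFunction hβ
  have hc : ∀ χ : Cfsg.IrrCharacter G, ∃ c : ℤ, Cfsg.classInner β (χ : G → ℂ) = c := fun χ =>
    IsGeneralizedCharacter.classInner_irr_int hβ χ.2
  choose c hc using hc
  have hc' : ∀ χ : Cfsg.IrrCharacter G, Cfsg.classInner (χ : G → ℂ) β = c χ := by
    intro χ
    rw [classInner_conj_symm, hc, map_intCast]
  have hsumC : ((∑ χ : Cfsg.IrrCharacter G, c χ * c χ : ℤ) : ℂ) = 3 := by
    rw [← hnorm, classInner_self_expansion β hcf β]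
    push_cast
    apply Finset.sum_congr rfl
    intro χ _
    rw [hc, hc']
  have hsum : ∑ χ : Cfsg.IrrCharacter G, c χ * c χ = 3 := by exact_mod_cast hsumC
  set t : Cfsg.IrrCharacter G := ⟨fun _ => (1 : ℂ), isIrr_one⟩ with ht
  have hct : c t = 1 := by
    have := hc t
    rw [show ((t : Cfsg.IrrCharacter G) : G → ℂ) = fun _ => (1 : ℂ) from rfl, h1] at this
    exact_mod_cast this.symm
  -- remove t
  have hsplit1 := Finset.add_sum_erase Finset.univ (fun χ => c χ * c χ) (Finset.mem_univ t)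
  rw [hsum, hct] at hsplit1
  have hrest1 : ∑ χ ∈ Finset.univ.erase t, c χ * c χ = 2 := by linarith
  have hex1 : ∃ χ₁ ∈ Finset.univ.erase t, c χ₁ ≠ 0 := by
    by_contra hcon
    push Not at hcon
    rw [Finset.sum_eq_zero (fun χ hχ => by rw [hcon χ hχ, mul_zero])] at hrest1
    omega
  obtain ⟨χ₁, hχ₁mem, hχ₁⟩ := hex1
  have hsplit2 := Finset.add_sum_erase (Finset.univ.erase t) (fun χ => c χ * c χ) hχ₁mem
  rw [hrest1] at hsplit2
  have hnn2 : 0 ≤ ∑ χ ∈ (Finset.univ.erase t).erase χ₁, c χ * c χ :=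
    Finset.sum_nonneg (fun χ _ => mul_self_nonneg _)
  have hpos1 : 1 ≤ c χ₁ * c χ₁ := by
    have := mul_self_pos.mpr hχ₁
    omega
  have hc1sq : c χ₁ * c χ₁ = 1 := by
    have hle : c χ₁ * c χ₁ ≤ 2 := by linarith
    by_contra hne
    have h2 : c χ₁ * c χ₁ = 2 := by omega
    have hlt : c χ₁ < 2 := by nlinarith
    have hgt : -2 < c χ₁ := by nlinarith
    have : c χ₁ = -1 ∨ c χ₁ = 0 ∨ c χ₁ = 1 := by omega
    rcases this with h | h | h <;> rw [h] at h2 <;> omega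
  have hrest2 : ∑ χ ∈ (Finset.univ.erase t).erase χ₁, c χ * c χ = 1 := by omega
  have hex2 : ∃ χ₂ ∈ (Finset.univ.erase t).erase χ₁, c χ₂ ≠ 0 := by
    by_contra hcon
    push Not at hcon
    rw [Finset.sum_eq_zero (fun χ hχ => by rw [hcon χ hχ, mul_zero])] at hrest2
    omega
  obtain ⟨χ₂, hχ₂mem, hχ₂⟩ := hex2
  have hsplit3 := Finset.add_sum_erase ((Finset.univ.erase t).erase χ₁) (fun χ => c χ * c χ) hχ₂mem
  rw [hrest2] at hsplit3
  have hnn3 : 0 ≤ ∑ χ ∈ ((Finset.univ.erase t).erase χ₁).erase χ₂, c χ * c χ :=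
    Finset.sum_nonneg (fun χ _ => mul_self_nonneg _)
  have hpos2 : 1 ≤ c χ₂ * c χ₂ := by
    have := mul_self_pos.mpr hχ₂
    omega
  have hc2sq : c χ₂ * c χ₂ = 1 := by omega
  have hrest3 : ∑ χ ∈ ((Finset.univ.erase t).erase χ₁).erase χ₂, c χ * c χ = 0 := by omega
  have hothers : ∀ χ ∈ ((Finset.univ.erase t).erase χ₁).erase χ₂, c χ = 0 := by
    intro χ hχ
    have := (Finset.sum_eq_zero_iff_of_nonneg (fun χ _ => mul_self_nonneg (c χ))).mp hrest3 χ hχ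
    exact mul_self_eq_zero.mp this
  have hsign : ∀ z : ℤ, z * z = 1 → ((z : ℂ) = 1 ∨ (z : ℂ) = -1) := by
    intro z hz
    have : (z - 1) * (z + 1) = 0 := by ring_nf; linarith
    rcases mul_eq_zero.mp this with h | h
    · left
      have : z = 1 := by omega
      rw [this]; simp
    · right
      have : z = -1 := by omega
      rw [this]; simp
  refine ⟨χ₁, χ₂, (c χ₁ : ℂ), (c χ₂ : ℂ), χ₁.2, χ₂.2, hsign _ hc1sq, hsign _ hc2sq, ?_⟩
  intro g
  have hexp := congrFun (classFunction_expansion β hcf) g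
  rw [Finset.sum_apply] at hexp
  rw [← Finset.add_sum_erase Finset.univ _ (Finset.mem_univ t),
    ← Finset.add_sum_erase (Finset.univ.erase t) _ hχ₁mem,
    ← Finset.add_sum_erase ((Finset.univ.erase t).erase χ₁) _ hχ₂mem] at hexp
  rw [Finset.sum_eq_zero (fun χ hχ => by
    rw [Pi.smul_apply, hc, hothers χ hχ, Int.cast_zero, zero_smul])] at hexp
  rw [hexp, Pi.smul_apply, Pi.smul_apply, Pi.smul_apply, hc, hc, hc, hct]
  simp only [smul_eq_mul, Int.cast_one, one_mul, add_zero]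
  rw [show ((t : Cfsg.IrrCharacter G) : G → ℂ) g = 1 from rfl]
  ring

/-- The class-sum identity for an irreducible character at `(s, s)`. -/
theorem sum_class_sq [Fintype G] {χ : G → ℂ} (hχ : Cfsg.IsIrrCharacter G χ) (s : G) :
    ∑ x ∈ classFinset s, ∑ y ∈ classFinset s, χ (x * y) =
      ((classFinset s).card : ℂ) ^ 2 * (χ s) ^ 2 / χ 1 := by
  obtain ⟨n, ρ, hirr, rfl⟩ := hχ
  haveI := hirr
  haveI : Nontrivial (Fin n → ℂ) := irr_nontrivial ρ
  have hd : (finrank ℂ (Fin n → ℂ) : ℂ) ≠ 0 := by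
    have : finrank ℂ (Fin n → ℂ) ≠ 0 := Module.finrank_pos.ne'
    exact_mod_cast this
  have h := class_mult_rep ρ s s 1
  simp only [mul_one] at h
  rw [h, char_one]
  field_simp

/-- **Kernel lemma.** -/
theorem kernel_lemma [Fintype G] {β : G → ℂ} (hβ : Cfsg.IsGeneralizedCharacter G β)
    (hnorm : Cfsg.classInner β β = 3) (h1 : Cfsg.classInner β (fun _ => (1 : ℂ)) = 1)
    (hdeg : β 1 = 0) (s : G) (hs : β s = 0)
    (hprod : ∀ x y : G, IsConj s x → IsConj s y → β (x * y) = 0) :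
    ∃ K : Subgroup G, K.Normal ∧ s ∈ K ∧ ∀ g ∈ K, β g = 0 := by
  classical
  obtain ⟨χ₁, χ₂, c₁, c₂, hχ₁, hχ₂, hc₁, hc₂, hval⟩ := decomp_norm_three hβ hnorm h1
  obtain ⟨K₁, hK₁n, hK₁, hd₁pos, hd₁, -⟩ := exists_kernel_data hχ₁
  obtain ⟨K₂, hK₂n, hK₂, hd₂pos, hd₂, -⟩ := exists_kernel_data hχ₂
  have hn₁ : χ₁ 1 ≠ 0 := by
    rw [hd₁]; exact_mod_cast hd₁pos.ne'
  have hn₂ : χ₂ 1 ≠ 0 := by
    rw [hd₂]; exact_mod_cast hd₂pos.ne'
  have hc₁sq : c₁ * c₁ = 1 := by rcases hc₁ with h | h <;> rw [h] <;> ring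
  have hc₂sq : c₂ * c₂ = 1 := by rcases hc₂ with h | h <;> rw [h] <;> ring
  have hc₁0 : c₁ ≠ 0 := by rcases hc₁ with h | h <;> rw [h] <;> norm_num
  have hc₂0 : c₂ ≠ 0 := by rcases hc₂ with h | h <;> rw [h] <;> norm_num
  -- the class sum
  have hk0 : ((classFinset s).card : ℂ) ≠ 0 := by
    have : s ∈ classFinset s := (mem_classFinset s s).mpr (IsConj.refl s)
    have : 0 < (classFinset s).card := Finset.card_pos.mpr ⟨s, this⟩
    exact_mod_cast this.ne'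
  have hsum0 : ∑ x ∈ classFinset s, ∑ y ∈ classFinset s, β (x * y) = 0 := by
    apply Finset.sum_eq_zero
    intro x hx
    apply Finset.sum_eq_zero
    intro y hy
    exact hprod x y ((mem_classFinset s x).mp hx) ((mem_classFinset s y).mp hy)
  have hsum1 : ∑ x ∈ classFinset s, ∑ y ∈ classFinset s, β (x * y) =
      ((classFinset s).card : ℂ) ^ 2 +
        c₁ * (((classFinset s).card : ℂ) ^ 2 * (χ₁ s) ^ 2 / χ₁ 1) +
        c₂ * (((classFinset s).card : ℂ) ^ 2 * (χ₂ s) ^ 2 / χ₂ 1) := by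
    simp_rw [hval]
    rw [← sum_class_sq hχ₁ s, ← sum_class_sq hχ₂ s]
    simp only [Finset.sum_add_distrib, Finset.mul_sum, Finset.sum_const, nsmul_eq_mul, mul_one]
    ring
  rw [hsum0] at hsum1
  have e1 : 1 + c₁ * ((χ₁ s) ^ 2 / χ₁ 1) + c₂ * ((χ₂ s) ^ 2 / χ₂ 1) = 0 := by
    have hk2 : ((classFinset s).card : ℂ) ^ 2 ≠ 0 := pow_ne_zero _ hk0
    have : ((classFinset s).card : ℂ) ^ 2 *
        (1 + c₁ * ((χ₁ s) ^ 2 / χ₁ 1) + c₂ * ((χ₂ s) ^ 2 / χ₂ 1)) = 0 := by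
      rw [hsum1]; ring
    rcases mul_eq_zero.mp this with h | h
    · exact absurd h hk2
    · exact h
  have e2 : 1 + c₁ * χ₁ s + c₂ * χ₂ s = 0 := by rw [← hval s, hs]
  have e3 : 1 + c₁ * χ₁ 1 + c₂ * χ₂ 1 = 0 := by rw [← hval 1, hdeg]
  -- algebra
  have key : (c₁ * χ₁ 1 - c₁ * χ₁ s) ^ 2 = 0 := by
    have e1' : χ₁ 1 * χ₂ 1 + c₁ * (χ₁ s) ^ 2 * χ₂ 1 + c₂ * (χ₂ s) ^ 2 * χ₁ 1 = 0 := by
      have := congrArg (fun z => z * (χ₁ 1 * χ₂ 1)) e1
      simp only [zero_mul] at this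
      rw [← this]
      field_simp
    have hg2 : c₂ * χ₂ s = -1 - c₁ * χ₁ s := by linear_combination e2
    have hd2 : c₂ * χ₂ 1 = -1 - c₁ * χ₁ 1 := by linear_combination e3
    -- multiply e1' by c₁ c₂ appropriately
    have h1' : (c₁ * χ₁ 1) * (c₂ * χ₂ 1) + (c₁ * χ₁ s) ^ 2 * (c₂ * χ₂ 1)
        + (c₂ * χ₂ s) ^ 2 * (c₁ * χ₁ 1) = 0 := by
      have : (c₁ * χ₁ 1) * (c₂ * χ₂ 1) + (c₁ * χ₁ s) ^ 2 * (c₂ * χ₂ 1)
        + (c₂ * χ₂ s) ^ 2 * (c₁ * χ₁ 1) =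
        c₁ * c₂ * (χ₁ 1 * χ₂ 1) + (c₁ * c₁) * c₂ * ((χ₁ s) ^ 2 * χ₂ 1)
          + (c₂ * c₂) * c₁ * ((χ₂ s) ^ 2 * χ₁ 1) := by ring
      rw [this, hc₁sq, hc₂sq]
      have : c₁ * c₂ * (χ₁ 1 * χ₂ 1) + 1 * c₂ * ((χ₁ s) ^ 2 * χ₂ 1)
          + 1 * c₁ * ((χ₂ s) ^ 2 * χ₁ 1) =
          c₁ * c₂ * (χ₁ 1 * χ₂ 1 + c₁ * (χ₁ s) ^ 2 * χ₂ 1 + c₂ * (χ₂ s) ^ 2 * χ₁ 1)
          + (1 - c₁ * c₁) * c₂ * ((χ₁ s) ^ 2 * χ₂ 1) + (1 - c₂ * c₂) * c₁ * ((χ₂ s) ^ 2 * χ₁ 1) := by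
        ring
      rw [this, e1', hc₁sq, hc₂sq]
      ring
    rw [hg2, hd2] at h1'
    linear_combination -h1'
  have hf1 : χ₁ s = χ₁ 1 := by
    have := pow_eq_zero_iff (two_ne_zero) |>.mp key
    have h' : c₁ * (χ₁ 1 - χ₁ s) = 0 := by linear_combination this
    rcases mul_eq_zero.mp h' with h | h
    · exact absurd h hc₁0
    · exact (sub_eq_zero.mp h).symm
  have hf2 : χ₂ s = χ₂ 1 := by
    have h' : c₂ * (χ₂ 1 - χ₂ s) = 0 := by
      have : c₂ * χ₂ s = c₂ * χ₂ 1 := by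
        have a := e2; have b := e3
        rw [hf1] at a
        linear_combination a - b
      linear_combination -this
    rcases mul_eq_zero.mp h' with h | h
    · exact absurd h hc₂0
    · exact (sub_eq_zero.mp h).symm
  refine ⟨K₁ ⊓ K₂, inferInstance, ⟨(hK₁ s).mpr hf1, (hK₂ s).mpr hf2⟩, ?_⟩
  intro g hg
  rw [hval g, (hK₁ g).mp hg.1, (hK₂ g).mp hg.2, e3]

end Cfsg.Agent.Helper4.Hig
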