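import Mathlib
import Cfsg.Prelude.Def_Characters
import Cfsg.Agent.Helper6.IndFun
import Cfsg.Agent.Helper6.Induced
import Cfsg.Agent.Helper6.Linear
import Cfsg.Agent.Helper6.Brauer8
import Cfsg.Agent.Helper6.CharBasic
import Cfsg.Agent.Helper6.ClassInner

/-!
# Exceptional generalized character attached to a linear character of order 3

`C ≤ N ≤ G`, `C` normal of index `2` in `N`, `ω : C →* ℂˣ` with `ω ^ 3 = 1`, `ω ≠ 1`, inverted by
`N \ C`, and the elements of `C` outside `ker ω` are "TI" (conjugation into `C` forces the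
conjugator into `N`).  Then `β = Ind_C^G (1 - ω)` is a generalized character of norm `3` with
`(β, 1) = 1`, `β 1 = 0`, known values on `C` and vanishing off the conjugates of `C \ ker ω`.
-/

set_option autoImplicit false
set_option linter.style.haveILetI false

namespace Cfsg.Agent.Helper4.Hig

open scoped ComplexConjugate
open Cfsg.Agent.Helper6

universe u

variable {G : Type u} [Group G]

/-- the class function `1 - ω` on `C` -/
noncomputable def theta {C : Subgroup G} (ω : C →* ℂˣ) : C → ℂ := fun c => 1 - ((ω c : ℂˣ) : ℂ)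

/-- the exceptional generalized character -/
noncomputable def excBeta [Fintype G] {C : Subgroup G} (ω : C →* ℂˣ) : G → ℂ :=
  Cfsg.indFun C (theta ω)

structure ExcData (N C : Subgroup G) (ω : C →* ℂˣ) : Prop where
  le : C ≤ N
  conj_mem : ∀ x ∈ N, ∀ c ∈ C, x⁻¹ * c * x ∈ C
  pow3 : ∀ c : C, ω c ^ 3 = 1
  ne_one : ∃ c : C, ω c ≠ 1
  card : Nat.card N = 2 * Nat.card C
  twist : ∀ x ∈ N, x ∉ C → ∀ c : C, ∀ h : x⁻¹ * (c : G) * x ∈ C, ω ⟨x⁻¹ * (c : G) * x, h⟩ = (ω c)⁻¹
  ti : ∀ c : C, ω c ≠ 1 → ∀ x : G, x⁻¹ * (c : G) * x ∈ C → x ∈ N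

variable {N C : Subgroup G} {ω : C →* ℂˣ}

theorem theta_isGen : Cfsg.IsGeneralizedCharacter C (theta ω) := by
  refine ⟨fun _ => (1 : ℂ), fun c => ((ω c : ℂˣ) : ℂ), ?_, ?_, rfl⟩
  · have := isIrrCharacter_of_hom (1 : C →* ℂˣ)
    have h2 : Cfsg.IsIrrCharacter C (fun _ => (1 : ℂ)) := by simpa using this
    exact IsIrrCharacter.isCharacter h2
  · exact IsIrrCharacter.isCharacter (isIrrCharacter_of_hom ω)

theorem excBeta_isGen [Fintype G] : Cfsg.IsGeneralizedCharacter G (excBeta ω) :=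
  IsGeneralizedCharacter.indFun C theta_isGen

theorem omega_conj_self (x c : C) : ω (x⁻¹ * c * x) = ω c := by
  rw [map_mul, map_mul, map_inv]
  rw [mul_comm (ω x)⁻¹, mul_assoc, inv_mul_cancel, mul_one]

/-- each summand of the induced function: conjugators outside `N` contribute `0` -/
theorem ext_eq_zero_of_not_mem (D : ExcData N C ω) (g x : G) (hx : x ∉ N)
    (hg : g ∈ C) : Cfsg.extendByZero C (theta ω) (x⁻¹ * g * x) = 0 := by
  by_cases h : x⁻¹ * g * x ∈ C
  · rw [extendByZero_mem C _ h]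
    unfold theta
    by_contra hne
    have hω : ω ⟨x⁻¹ * g * x, h⟩ ≠ 1 := by
      intro h1
      apply hne
      rw [h1]; simp
    have := D.ti ⟨x⁻¹ * g * x, h⟩ hω x⁻¹ (by
      have : x⁻¹⁻¹ * (x⁻¹ * g * x) * x⁻¹ = g := by group
      simp only [this]; exact hg)
    exact hx (by simpa using N.inv_mem this)
  · exact extendByZero_not_mem C _ h

theorem ext_of_mem_C (D : ExcData N C ω) (c : C) (x : G) (hx : x ∈ C) :
    Cfsg.extendByZero C (theta ω) (x⁻¹ * (c : G) * x) = 1 - ((ω c : ℂˣ) : ℂ) := by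
  have h : x⁻¹ * (c : G) * x ∈ C := D.conj_mem x (D.le hx) c c.2
  rw [extendByZero_mem C _ h]
  unfold theta
  have : (⟨x⁻¹ * (c : G) * x, h⟩ : C) = (⟨x, hx⟩ : C)⁻¹ * c * ⟨x, hx⟩ := by
    apply Subtype.ext; simp
  rw [this, omega_conj_self]

theorem ext_of_mem_N (D : ExcData N C ω) (c : C) (x : G) (hx : x ∈ N) (hxC : x ∉ C) :
    Cfsg.extendByZero C (theta ω) (x⁻¹ * (c : G) * x) = 1 - (((ω c)⁻¹ : ℂˣ) : ℂ) := by
  have h : x⁻¹ * (c : G) * x ∈ C := D.conj_mem x hx c c.2
  rw [extendByZero_mem C _ h]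
  unfold theta
  rw [D.twist x hx hxC c h]

theorem card_filter_mem [Fintype G] (H : Subgroup G) [DecidablePred (· ∈ H)] :
    ((Finset.univ.filter (fun x : G => x ∈ H)).card : ℂ) = (Nat.card H : ℂ) := by
  congr 1
  rw [Nat.card_eq_fintype_card, Fintype.card_subtype]

/-- values of `β` on `C` -/
theorem excBeta_apply_mem [Fintype G] (D : ExcData N C ω) (c : C) :
    excBeta ω (c : G) = 2 - ((ω c : ℂˣ) : ℂ) - (((ω c)⁻¹ : ℂˣ) : ℂ) := by
  classical
  unfold excBeta
  rw [indFun_apply]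
  have hterm : ∀ x : G, Cfsg.extendByZero C (theta ω) (x⁻¹ * (c : G) * x) =
      (if x ∈ C then 1 - ((ω c : ℂˣ) : ℂ) else 0) +
      (if x ∈ N ∧ x ∉ C then 1 - (((ω c)⁻¹ : ℂˣ) : ℂ) else 0) := by
    intro x
    by_cases hxC : x ∈ C
    · rw [if_pos hxC, if_neg (fun h => h.2 hxC), add_zero]
      exact ext_of_mem_C D c x hxC
    · by_cases hxN : x ∈ N
      · rw [if_neg hxC, if_pos ⟨hxN, hxC⟩, zero_add]
        exact ext_of_mem_N D c x hxN hxC
      · rw [if_neg hxC, if_neg (fun h => hxN h.1), add_zero]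
        exact ext_eq_zero_of_not_mem D c x hxN c.2
  simp_rw [hterm]
  rw [Finset.sum_add_distrib, ← Finset.sum_filter, ← Finset.sum_filter, Finset.sum_const,
    Finset.sum_const, nsmul_eq_mul, nsmul_eq_mul, card_filter_mem C]
  have hcardNC : ((Finset.univ.filter (fun x : G => x ∈ N ∧ x ∉ C)).card : ℂ) = (Nat.card C : ℂ) := by
    have h1 : (Finset.univ.filter (fun x : G => x ∈ N ∧ x ∉ C)) =
        (Finset.univ.filter (fun x : G => x ∈ N)) \ (Finset.univ.filter (fun x : G => x ∈ C)) := by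
      ext x; simp
    have hsub : (Finset.univ.filter (fun x : G => x ∈ C)) ⊆
        (Finset.univ.filter (fun x : G => x ∈ N)) := by
      intro x hx
      simp only [Finset.mem_filter, Finset.mem_univ, true_and] at hx ⊢
      exact D.le hx
    rw [h1, Finset.card_sdiff_of_subset hsub]
    have hN : (Finset.univ.filter (fun x : G => x ∈ N)).card = Nat.card N := by
      rw [Nat.card_eq_fintype_card, Fintype.card_subtype]
    have hC : (Finset.univ.filter (fun x : G => x ∈ C)).card = Nat.card C := by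
      rw [Nat.card_eq_fintype_card, Fintype.card_subtype]
    rw [hN, hC, D.card]
    congr 1
    omega
  rw [hcardNC]
  have hC0 : (Nat.card C : ℂ) ≠ 0 := Nat.cast_ne_zero.mpr Nat.card_pos.ne'
  field_simp
  ring

/-- vanishing of `β` -/
theorem excBeta_eq_zero [Fintype G] (g : G)
    (h : ∀ x : G, ∀ hx : x⁻¹ * g * x ∈ C, ω ⟨x⁻¹ * g * x, hx⟩ = 1) : excBeta ω g = 0 := by
  unfold excBeta
  rw [indFun_apply]
  rw [Finset.sum_eq_zero, mul_zero]
  intro x _
  by_cases hx : x⁻¹ * g * x ∈ C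
  · rw [extendByZero_mem C _ hx]
    unfold theta
    rw [h x hx]; simp
  · exact extendByZero_not_mem C _ hx

theorem excBeta_one [Fintype G] : excBeta ω (1 : G) = 0 := by
  apply excBeta_eq_zero
  intro x hx
  have : (⟨x⁻¹ * 1 * x, hx⟩ : C) = 1 := by
    apply Subtype.ext; simp
  rw [this, map_one]

/-- the coerced hom `C →* ℂ` -/
noncomputable def omegaC (ω : C →* ℂˣ) : C →* ℂ := (Units.coeHom ℂ).comp ω

theorem omegaC_ne_one (D : ExcData N C ω) : omegaC ω ≠ 1 := by
  obtain ⟨c, hc⟩ := D.ne_one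
  intro h
  apply hc
  have := DFunLike.congr_fun h c
  unfold omegaC at this
  simp only [MonoidHom.coe_comp, Function.comp_apply, Units.coeHom_apply, MonoidHom.one_apply] at this
  exact Units.ext this

theorem sum_omega [Fintype C] (D : ExcData N C ω) : ∑ c : C, ((ω c : ℂˣ) : ℂ) = 0 := by
  have := sum_hom_units_eq_zero (omegaC ω) (omegaC_ne_one D)
  simpa [omegaC] using this

theorem sum_omega_inv [Fintype C] (D : ExcData N C ω) : ∑ c : C, (((ω c)⁻¹ : ℂˣ) : ℂ) = 0 := by
  rw [← sum_omega D]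
  apply Fintype.sum_equiv (Equiv.inv C)
  intro c
  simp

theorem classInner_one [Fintype G] (D : ExcData N C ω) :
    Cfsg.classInner (excBeta ω) (fun _ => (1 : ℂ)) = 1 := by
  classical
  haveI : Fintype C := Fintype.ofFinite _
  unfold excBeta
  rw [frobenius_reciprocity C (theta ω) (fun _ => (1 : ℂ)) (fun _ _ => rfl)]
  rw [classInner_def]
  unfold theta
  simp only [map_one, mul_one]
  rw [Finset.sum_sub_distrib, sum_omega D, sub_zero, Finset.sum_const, Finset.card_univ,
    nsmul_eq_mul, mul_one, Nat.card_eq_fintype_card]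
  have hC0 : (Fintype.card C : ℂ) ≠ 0 := Nat.cast_ne_zero.mpr Fintype.card_pos.ne'
  field_simp

theorem conj_omega (D : ExcData N C ω) (c : C) :
    conj ((ω c : ℂˣ) : ℂ) = (((ω c)⁻¹ : ℂˣ) : ℂ) := by
  have h3 : ((ω c : ℂˣ) : ℂ) ^ 3 = 1 := by
    have := D.pow3 c
    have h := congrArg (fun u : ℂˣ => (u : ℂ)) this
    simpa using h
  have hnorm : ‖((ω c : ℂˣ) : ℂ)‖ = 1 := Complex.norm_eq_one_of_pow_eq_one h3 (by norm_num)
  rw [Units.val_inv_eq_inv_val, Complex.inv_eq_conj hnorm]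

theorem classInner_self [Fintype G] (D : ExcData N C ω) :
    Cfsg.classInner (excBeta ω) (excBeta ω) = 3 := by
  classical
  haveI : Fintype C := Fintype.ofFinite _
  have hcf : Cfsg.IsClassFunction G (excBeta ω) :=
    IsGeneralizedCharacter.isClassFunction excBeta_isGen
  conv_lhs => rw [show excBeta ω = Cfsg.indFun C (theta ω) from rfl]
  rw [show Cfsg.classInner (Cfsg.indFun C (theta ω)) (Cfsg.indFun C (theta ω)) =
    Cfsg.classInner (Cfsg.indFun C (theta ω)) (excBeta ω) from rfl]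
  rw [frobenius_reciprocity C (theta ω) (excBeta ω) hcf]
  rw [classInner_def]
  have hterm : ∀ c : C, theta ω c * conj (excBeta ω (c : G)) =
      3 - 3 * ((ω c : ℂˣ) : ℂ) := by
    intro c
    rw [excBeta_apply_mem D c]
    unfold theta
    have h3 : ((ω c : ℂˣ) : ℂ) ^ 3 = 1 := by
      have := D.pow3 c
      have h := congrArg (fun u : ℂˣ => (u : ℂ)) this
      simpa using h
    have hne : ((ω c : ℂˣ) : ℂ) ≠ 0 := Units.ne_zero _
    rw [map_sub, map_sub, conj_omega D c]
    have hc2 : conj (2 : ℂ) = 2 := by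
      rw [show (2 : ℂ) = ((2 : ℝ) : ℂ) by norm_num, Complex.conj_ofReal]
    rw [hc2]
    have hinv : conj (((ω c)⁻¹ : ℂˣ) : ℂ) = ((ω c : ℂˣ) : ℂ) := by
      rw [← conj_omega D c, Complex.conj_conj]
    rw [hinv, Units.val_inv_eq_inv_val]
    set w := ((ω c : ℂˣ) : ℂ) with hw
    have hw2 : w⁻¹ = w ^ 2 := by
      apply inv_eq_of_mul_eq_one_right
      rw [← h3]; ring
    rw [hw2]
    linear_combination (1 : ℂ) * h3
  simp_rw [hterm]
  rw [Finset.sum_sub_distrib, ← Finset.mul_sum, sum_omega D, mul_zero, sub_zero, Finset.sum_const,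
    Finset.card_univ, nsmul_eq_mul, Nat.card_eq_fintype_card]
  have hC0 : (Fintype.card C : ℂ) ≠ 0 := Nat.cast_ne_zero.mpr Fintype.card_pos.ne'
  field_simp

end Cfsg.Agent.Helper4.Hig
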