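import Mathlib
import Cfsg.Agent.Helper4.HigA
import Cfsg.Agent.Helper4.HigB

/-!
# Kernel produced by an exceptional character of order 3 and an involution

Combination of `HigA.kernel_lemma` and the exceptional generalized character of `HigB`.
-/

set_option autoImplicit false
set_option linter.style.haveILetI false

namespace Cfsg.Agent.Helper4.Hig

open Cfsg.Agent.Helper6

universe u

variable {G : Type u} [Group G] {N C : Subgroup G} {ω : C →* ℂˣ}

theorem excBeta_ne_zero [Fintype G] (D : ExcData N C ω) (c : C) (hc : ω c ≠ 1) :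
    excBeta ω (c : G) ≠ 0 := by
  rw [excBeta_apply_mem D c]
  have h3u := D.pow3 c
  have h3 : ((ω c : ℂˣ) : ℂ) ^ 3 = 1 := by
    have h := congrArg (fun u : ℂˣ => (u : ℂ)) h3u
    simpa using h
  have hne : ((ω c : ℂˣ) : ℂ) ≠ 1 := by
    intro h
    apply hc
    exact Units.ext (by simpa using h)
  have hw0 : ((ω c : ℂˣ) : ℂ) ≠ 0 := Units.ne_zero _
  rw [Units.val_inv_eq_inv_val]
  set w : ℂ := ((ω c : ℂˣ) : ℂ) with hw
  intro h0
  have hinv : w⁻¹ = w ^ 2 := by
    field_simp
    rw [← h3]
  rw [hinv] at h0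
  -- 2 - w - w^2 = 0, so (1 - w) * (2 + w) = 0
  have hfac : (1 - w) * (2 + w) = 0 := by linear_combination h0
  rcases mul_eq_zero.mp hfac with h | h
  · apply hne
    linear_combination -h
  · have hw2 : w = -2 := by linear_combination h
    rw [hw2] at h3
    norm_num at h3

/-- **Kernel from an exceptional character.**  If all products of two conjugates of the
involution `s` that fall into `C` lie in `ker ω`, then there is a normal subgroup containing `s`
and avoiding `C \ ker ω`. -/
theorem exists_kernel [Fintype G] (D : ExcData N C ω) (s : G) (hs2 : s * s = 1)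
    (hprod : ∀ x y : G, IsConj s x → IsConj s y → ∀ h : x * y ∈ C, ω ⟨x * y, h⟩ = 1) :
    ∃ K : Subgroup G, K.Normal ∧ s ∈ K ∧ ∀ c : C, ω c ≠ 1 → (c : G) ∉ K := by
  have hinv : ∀ c : C, c * c = 1 → ω c = 1 := by
    intro c hcc
    have h2 : ω c * ω c = 1 := by rw [← map_mul, hcc, map_one]
    have h3 := D.pow3 c
    calc ω c = ω c ^ 3 * (ω c * ω c)⁻¹ := by
          rw [pow_succ, pow_two]; group
      _ = 1 := by rw [h3, h2]; simp
  obtain ⟨K, hKn, hsK, hK⟩ := kernel_lemma (β := excBeta ω) excBeta_isGen (classInner_self D)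
    (classInner_one D) excBeta_one s
    (by
      apply excBeta_eq_zero
      intro x hx
      apply hinv
      apply Subtype.ext
      show x⁻¹ * s * x * (x⁻¹ * s * x) = 1
      calc x⁻¹ * s * x * (x⁻¹ * s * x) = x⁻¹ * (s * s) * x := by group
        _ = 1 := by rw [hs2]; group)
    (by
      intro x y hx hy
      apply excBeta_eq_zero
      intro g hg
      have hx' : IsConj s (g⁻¹ * x * g) := by
        obtain ⟨c, hc⟩ := isConj_iff.mp hx
        exact isConj_iff.mpr ⟨g⁻¹ * c, by rw [← hc]; group⟩
      have hy' : IsConj s (g⁻¹ * y * g) := by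
        obtain ⟨c, hc⟩ := isConj_iff.mp hy
        exact isConj_iff.mpr ⟨g⁻¹ * c, by rw [← hc]; group⟩
      have heq : g⁻¹ * (x * y) * g = (g⁻¹ * x * g) * (g⁻¹ * y * g) := by group
      have hmem : (g⁻¹ * x * g) * (g⁻¹ * y * g) ∈ C := by rw [← heq]; exact hg
      have := hprod _ _ hx' hy' hmem
      rw [← this]
      congr 1
      exact Subtype.ext heq)
  refine ⟨K, hKn, hsK, ?_⟩
  intro c hc hcK
  exact excBeta_ne_zero D c hc (hK _ hcK)

end Cfsg.Agent.Helper4.Hig
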