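import Mathlib
import Cfsg.Agent.Helper4.HigC
import Cfsg.Agent.Helper4.Hig3B
import Cfsg.Agent.Helper4.Hig3E

/-!
# The configuration `3^3 : 2^2`: exceptional characters, the three kernels, and `G = H`
-/

set_option autoImplicit false
set_option linter.style.haveILetI false
set_option linter.unusedSectionVars false

namespace Cfsg.Agent.Helper4.Hig

universe u

theorem zpow_eq_one_of (i : ℤ) (u : ℂˣ) (hu3 : u ^ 3 = 1) (hu1 : u ≠ 1) (hui : u ^ i = 1)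
    {G : Type u} [Group G] (a : G) (ha : a ^ 3 = 1) : a ^ i = 1 := by
  rw [zpow_eq_zpow_emod' i hu3] at hui
  rw [zpow_eq_zpow_emod' i ha]
  have h0 : 0 ≤ i % 3 := Int.emod_nonneg _ (by norm_num)
  have h3 : i % 3 < 3 := Int.emod_lt_of_pos _ (by norm_num)
  have hcases : i % 3 = 0 ∨ i % 3 = 1 ∨ i % 3 = 2 := by omega
  have e3 : ((3 : ℕ) : ℤ) = 3 := rfl
  rw [e3] at hui ⊢
  rcases hcases with h | h | h
  · rw [h, zpow_zero]
  · rw [h, zpow_one] at hui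
    exact absurd hui hu1
  · exfalso
    rw [h] at hui
    apply hu1
    have hu2 : u ^ 2 = 1 := by exact_mod_cast hui
    calc u = u ^ 3 * (u ^ 2)⁻¹ := by rw [pow_succ]; group
      _ = 1 := by rw [hu3, hu2]; simp

namespace Cfg3

variable {G : Type u} [Group G] (c : Cfg3 G)

/-- the element `a p` of `C p` -/
def aC (p : Fin 3) : c.C p := ⟨c.a p, c.A_le_C p (c.a_mem_A p)⟩

/-- value of a character of `C p` trivial on `S p` -/
theorem omega_decomp (p : Fin 3) (ω : c.C p →* ℂˣ)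
    (hS : ∀ s : c.C p, (s : G) ∈ c.S p → ω s = 1)
    (x : c.C p) (i : ℤ) (s : G) (hs : s ∈ c.S p) (hx : (x : G) = c.a p ^ i * s) :
    ω x = ω (c.aC p) ^ i := by
  have : x = (c.aC p) ^ i * ⟨s, c.S_le_C p hs⟩ := by
    apply Subtype.ext
    rw [hx]
    simp [aC]
  rw [this, map_mul, map_zpow, hS ⟨s, _⟩ hs, mul_one]

theorem pow4_mem (p : Fin 3) (y : G) (hy : y ∈ c.C p) : (y * y) * (y * y) ∈ c.A := by
  have := c.sq_mem_A y (c.C_le_Hs p hy)
  exact c.A.mul_mem this this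

theorem pow4_ne_one (p : Fin 3) (ω : c.C p →* ℂˣ) (h3 : ∀ x, ω x ^ 3 = 1) (y : c.C p)
    (hy : ω y ≠ 1) : ((y : G) * y) * (y * y) ≠ 1 := by
  intro h
  apply hy
  have h1 : (y * y) * (y * y) = (1 : c.C p) := Subtype.ext (by simpa using h)
  have h2 := congrArg ω h1
  simp only [map_mul, map_one] at h2
  calc ω y = ((ω y * ω y) * (ω y * ω y)) * (ω y ^ 3)⁻¹ := by
        rw [pow_succ, pow_two]; group
    _ = 1 := by rw [h2, h3]; simp

variable [Finite G]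

theorem exists_omega_C (hA : Nat.card c.A = 27) (p : Fin 3) :
    ∃ ω : c.C p →* ℂˣ, (∀ x, ω x ^ 3 = 1) ∧ ω (c.aC p) ≠ 1 ∧
      ∀ s : c.C p, (s : G) ∈ c.S p → ω s = 1 := by
  haveI : ((c.S p).subgroupOf (c.C p)).Normal := by
    constructor
    intro n hn g
    rw [Subgroup.mem_subgroupOf] at hn ⊢
    have := c.S_normal_C p g g.2 n hn
    simpa using this
  have ha : c.aC p ∉ (c.S p).subgroupOf (c.C p) := by
    rw [Subgroup.mem_subgroupOf]
    exact c.a_not_mem_S hA p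
  have ha3 : c.aC p ^ 3 ∈ (c.S p).subgroupOf (c.C p) := by
    have : c.aC p ^ 3 = 1 := Subtype.ext (by simpa [aC] using c.a_cube p)
    rw [this]; exact Subgroup.one_mem _
  have hgen : ∀ x : c.C p, ∃ i : ℤ, ∃ s ∈ (c.S p).subgroupOf (c.C p), x = c.aC p ^ i * s := by
    intro x
    obtain ⟨i, s, hs, hx⟩ := c.C_decomp p x x.2
    refine ⟨i, ⟨s, c.S_le_C p hs⟩, by rw [Subgroup.mem_subgroupOf]; exact hs, ?_⟩
    apply Subtype.ext
    rw [hx]; simp [aC]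
  obtain ⟨ω, h1, h2, h3⟩ := exists_omega ((c.S p).subgroupOf (c.C p)) (c.aC p) ha ha3 hgen
  refine ⟨ω, h1, h2, ?_⟩
  intro s hs
  exact h3 s (by rw [Subgroup.mem_subgroupOf]; exact hs)

variable (hA : Nat.card c.A = 27) (hN : Subgroup.normalizer (c.A : Set G) ≤ c.Hs)
  (hC : ∀ t ∈ c.A, t ≠ 1 → Subgroup.centralizer ({t} : Set G) ≤ c.Hs)

include hA hN hC

theorem excData (p : Fin 3) (ω : c.C p →* ℂˣ) (h3 : ∀ x, ω x ^ 3 = 1) (hne : ω (c.aC p) ≠ 1)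
    (hS : ∀ s : c.C p, (s : G) ∈ c.S p → ω s = 1) : ExcData c.Hs (c.C p) ω where
  le := c.C_le_Hs p
  conj_mem := by
    intro x hx y hy
    have := c.conjHs_C p x⁻¹ (c.Hs.inv_mem hx) y hy
    simpa using this
  pow3 := h3
  ne_one := ⟨_, hne⟩
  card := c.card_Hs hA p
  twist := by
    intro x hx hxC y h
    obtain ⟨i, s, hs, hy⟩ := c.C_decomp p y y.2
    have hxi : x⁻¹ ∉ c.C p := fun h' => hxC (by simpa using (c.C p).inv_mem h')
    have h1 : x⁻¹ * c.a p * x = (c.a p)⁻¹ := by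
      have := c.conj_a_of_not_mem_C p x⁻¹ (c.Hs.inv_mem hx) hxi
      simpa using this
    have h2 : x⁻¹ * s * x ∈ c.S p := by
      have := c.conjHs_S p x⁻¹ (c.Hs.inv_mem hx) s hs
      simpa using this
    have h4 : x⁻¹ * c.a p ^ i * x = c.a p ^ (-i) := by
      have e := conj_zpow (a := x⁻¹) (b := c.a p) (i := i)
      rw [inv_inv] at e
      rw [← e, h1, inv_zpow, zpow_neg]
    have h5 : x⁻¹ * (y : G) * x = c.a p ^ (-i) * (x⁻¹ * s * x) := by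
      rw [hy, ← h4]; group
    rw [c.omega_decomp p ω hS ⟨x⁻¹ * (y : G) * x, h⟩ (-i) _ h2 h5,
      c.omega_decomp p ω hS y i s hs hy, zpow_neg]
  ti := by
    intro y hy x hx
    have ht := c.pow4_mem p y y.2
    have ht1 := c.pow4_ne_one p ω h3 y hy
    have hx' : x⁻¹ * (((y : G) * y) * (y * y)) * x ∈ c.A := by
      have := c.pow4_mem p _ hx
      have e : x⁻¹ * (((y : G) * y) * (y * y)) * x =
          ((x⁻¹ * y * x) * (x⁻¹ * y * x)) * ((x⁻¹ * y * x) * (x⁻¹ * y * x)) := by group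
      rw [e]; exact this
    exact (c.semb hA hN hC).ti ht ht1 hx'

/-- involutions of `Hs` conjugate in `G` to `w p` -/
theorem conj_class (p : Fin 3) (x : G) (hx : IsConj (c.w p) x) (hxH : x ∈ c.Hs) :
    ∃ b ∈ c.B p, x = b * c.w p := by
  obtain ⟨g, hg⟩ := isConj_iff.mp hx
  have hx2 : x * x = 1 := by
    rw [← hg]
    calc g * c.w p * g⁻¹ * (g * c.w p * g⁻¹) = g * (c.w p * c.w p) * g⁻¹ := by group
      _ = 1 := by rw [c.w_sq p]; group
  rcases c.invol_decomp x hxH hx2 with h | ⟨q, b, hb, hxb⟩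
  · exfalso
    have h1 := c.A_inv_two x h hx2
    apply c.w_ne_one hA p
    rw [h1] at hg
    calc c.w p = g⁻¹ * (g * c.w p * g⁻¹) * g := by group
      _ = 1 := by rw [hg]; group
  · by_cases hqp : p = q
    · subst hqp
      exact ⟨b, hb, hxb⟩
    · exfalso
      have h1 := c.invol_conj q b hb
      rw [← hxb, ← hg] at h1
      apply c.w_not_conj hA hN hC hqp (b * g)
      calc b * g * c.w p * (b * g)⁻¹ = b * (g * c.w p * g⁻¹) * b⁻¹ := by group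
        _ = b * (b⁻¹ * c.w q * (b⁻¹)⁻¹) * b⁻¹ := by rw [h1]
        _ = c.w q := by group

theorem hprod (p : Fin 3) (ω : c.C p →* ℂˣ) (h3 : ∀ x, ω x ^ 3 = 1)
    (hS : ∀ s : c.C p, (s : G) ∈ c.S p → ω s = 1) :
    ∀ x y : G, IsConj (c.w p) x → IsConj (c.w p) y → ∀ h : x * y ∈ c.C p, ω ⟨x * y, h⟩ = 1 := by
  intro x y hx hy h
  by_contra hne
  have hsq : ∀ x : G, IsConj (c.w p) x → x * x = 1 := by
    intro x hx
    obtain ⟨g, hg⟩ := isConj_iff.mp hx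
    rw [← hg]
    calc g * c.w p * g⁻¹ * (g * c.w p * g⁻¹) = g * (c.w p * c.w p) * g⁻¹ := by group
      _ = 1 := by rw [c.w_sq p]; group
  have hx2 := hsq x hx
  have hy2 := hsq y hy
  have hxi : x⁻¹ = x := inv_eq_of_mul_eq_one_right hx2
  have hyi : y⁻¹ = y := inv_eq_of_mul_eq_one_right hy2
  set t : G := ((x * y) * (x * y)) * ((x * y) * (x * y)) with ht
  have htA : t ∈ c.A := c.pow4_mem p _ h
  have ht1 : t ≠ 1 := c.pow4_ne_one p ω h3 ⟨x * y, h⟩ hne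
  have hD := c.semb hA hN hC
  have hzx : x * (x * y) * x⁻¹ = (x * y)⁻¹ := by
    rw [mul_inv_rev, hxi, hyi]
    calc x * (x * y) * x = (x * x) * y * x := by group
      _ = y * x := by rw [hx2, one_mul]
  have hzy : y * (x * y) * y⁻¹ = (x * y)⁻¹ := by
    rw [mul_inv_rev, hxi, hyi]
    calc y * (x * y) * y = y * x * (y * y) := by group
      _ = y * x := by rw [hy2, mul_one]
  have hxH : x ∈ c.Hs := by
    apply hD.ti' htA ht1
    have e : x * t * x⁻¹ = ((x * (x * y) * x⁻¹) * (x * (x * y) * x⁻¹)) *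
        ((x * (x * y) * x⁻¹) * (x * (x * y) * x⁻¹)) := by rw [ht]; group
    rw [e, hzx]
    have e2 : ((x * y)⁻¹ * (x * y)⁻¹) * ((x * y)⁻¹ * (x * y)⁻¹) = t⁻¹ := by rw [ht]; group
    rw [e2]; exact c.A.inv_mem htA
  have hyH : y ∈ c.Hs := by
    apply hD.ti' htA ht1
    have e : y * t * y⁻¹ = ((y * (x * y) * y⁻¹) * (y * (x * y) * y⁻¹)) *
        ((y * (x * y) * y⁻¹) * (y * (x * y) * y⁻¹)) := by rw [ht]; group
    rw [e, hzy]
    have e2 : ((x * y)⁻¹ * (x * y)⁻¹) * ((x * y)⁻¹ * (x * y)⁻¹) = t⁻¹ := by rw [ht]; group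
    rw [e2]; exact c.A.inv_mem htA
  obtain ⟨b, hb, rfl⟩ := c.conj_class hA hN hC p x hx hxH
  obtain ⟨b', hb', rfl⟩ := c.conj_class hA hN hC p y hy hyH
  apply hne
  apply hS
  exact c.B_le_S p (c.prod_invol p hb hb')

/-- the kernel attached to the index `p` -/
theorem exists_K (p : Fin 3) : ∃ K : Subgroup G, K.Normal ∧ c.w p ∈ K ∧
    (∀ q, q ≠ p → c.a q ∈ K) ∧ ∀ t ∈ c.A, t ∈ K → t ∈ c.B p := by
  haveI : Fintype G := Fintype.ofFinite G
  obtain ⟨ω, h3, hne, hS⟩ := c.exists_omega_C hA p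
  have D := c.excData hA hN hC p ω h3 hne hS
  obtain ⟨K, hKn, hwK, hK⟩ := exists_kernel D (c.w p) (c.w_sq p) (c.hprod hA hN hC p ω h3 hS)
  refine ⟨K, hKn, hwK, ?_, ?_⟩
  · intro q hq
    have h1 := c.inv p q (Ne.symm hq)
    have hcube := c.a_cube q
    have h2 : c.a q = (c.w p * c.a q * (c.w p)⁻¹) * (c.a q)⁻¹ := by
      rw [h1]
      calc c.a q = c.a q ^ 3 * ((c.a q)⁻¹ * (c.a q)⁻¹) := by rw [pow_succ, pow_two]; group
        _ = _ := by rw [hcube, one_mul]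
    have h3' : (c.w p * c.a q * (c.w p)⁻¹) * (c.a q)⁻¹ =
        c.w p * (c.a q * (c.w p)⁻¹ * (c.a q)⁻¹) := by group
    rw [h2, h3']
    exact K.mul_mem hwK (hKn.conj_mem _ (K.inv_mem hwK) _)
  · intro t htA htK
    obtain ⟨i, b, hb, ht⟩ := c.A_decomp p t htA
    have hval := c.omega_decomp p ω hS ⟨t, c.A_le_C p htA⟩ i b (c.B_le_S p hb) ht
    have hone : ω ⟨t, c.A_le_C p htA⟩ = 1 := by
      by_contra hne'
      exact hK _ hne' htK
    rw [hone] at hval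
    have := zpow_eq_one_of i (ω (c.aC p)) (h3 _) hne hval.symm (c.a p) (c.a_cube p)
    rw [ht, this, one_mul]
    exact hb

/-- **Main theorem for the configuration**: `Hs = ⊤`. -/
theorem Hs_eq_top : c.Hs = ⊤ := by
  haveI : Fact (Nat.Prime 3) := ⟨by norm_num⟩
  obtain ⟨K0, hK0n, -, hK0a, hK0B⟩ := c.exists_K hA hN hC 0
  obtain ⟨K1, hK1n, -, hK1a, hK1B⟩ := c.exists_K hA hN hC 1
  obtain ⟨K2, hK2n, -, hK2a, hK2B⟩ := c.exists_K hA hN hC 2
  have hD := c.semb hA hN hC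
  haveI : (K0 ⊓ K1).Normal := Subgroup.normal_inf_normal K0 K1
  haveI : (K0 ⊓ K1 ⊓ K2).Normal := Subgroup.normal_inf_normal (K0 ⊓ K1) K2
  have hW : ∀ x ∈ K0 ⊓ K1 ⊓ K2, x ∈ c.A → x = 1 := by
    intro x hx hxA
    have h01 := (Subgroup.mem_inf.mp hx).1
    have h2 := (Subgroup.mem_inf.mp hx).2
    have h0 := (Subgroup.mem_inf.mp h01).1
    have h1 := (Subgroup.mem_inf.mp h01).2
    exact c.B_inter (hK0B x hxA h0) (hK1B x hxA h1) (hK2B x hxA h2)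
  have hbot : K0 ⊓ K1 ⊓ K2 = ⊥ :=
    hD.core_trivial (c.not_cyclic hA) (c.self_centralizing hA) _ hW
  have ha0 : c.a 0 ∈ K2 := hK2a 0 (by decide)
  have ha2 : c.a 2 ∈ K0 ⊓ K1 := Subgroup.mem_inf.mpr ⟨hK0a 2 (by decide), hK1a 2 (by decide)⟩
  have hDle : K0 ⊓ K1 ≤ c.Hs := by
    intro d hd
    apply hC (c.a 0) (c.a_mem_A 0) (c.a_ne_one hA 0)
    rw [Subgroup.mem_centralizer_iff]
    intro y hy
    rw [Set.mem_singleton_iff] at hy
    subst hy
    have hcomm : d * c.a 0 * d⁻¹ * (c.a 0)⁻¹ ∈ K0 ⊓ K1 ⊓ K2 := by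
      apply Subgroup.mem_inf.mpr
      constructor
      · have h1 : c.a 0 * d⁻¹ * (c.a 0)⁻¹ ∈ K0 ⊓ K1 :=
          (inferInstance : (K0 ⊓ K1).Normal).conj_mem _ ((K0 ⊓ K1).inv_mem hd) _
        have e : d * c.a 0 * d⁻¹ * (c.a 0)⁻¹ = d * (c.a 0 * d⁻¹ * (c.a 0)⁻¹) := by group
        rw [e]; exact (K0 ⊓ K1).mul_mem hd h1
      · exact K2.mul_mem (hK2n.conj_mem _ ha0 _) (K2.inv_mem ha0)
    rw [hbot, Subgroup.mem_bot] at hcomm
    calc c.a 0 * d = (d * c.a 0 * d⁻¹ * (c.a 0)⁻¹)⁻¹ * (d * c.a 0) := by group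
      _ = d * c.a 0 := by rw [hcomm]; simp
  rw [Subgroup.eq_top_iff']
  intro g
  have h1 : g * c.a 2 * g⁻¹ ∈ K0 ⊓ K1 :=
    (inferInstance : (K0 ⊓ K1).Normal).conj_mem _ ha2 _
  have h2 : g * c.a 2 * g⁻¹ ∈ c.A := by
    apply c.pel _ (hDle h1)
    refine ⟨1, ?_⟩
    rw [pow_one, conj_pow, c.a_cube 2]; group
  exact hD.ti' (c.a_mem_A 2) (c.a_ne_one hA 2) h2

end Cfg3

end Cfsg.Agent.Helper4.Hig
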