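import Mathlib
import Cfsg.Agent.Helper4.Hig3C

/-!
# The concrete configuration in `Sym(9)`, and transport of configurations
-/

set_option autoImplicit false
set_option linter.style.haveILetI false

namespace Cfsg.Agent.Helper4.Hig

universe u v

namespace Cfg3

variable {G : Type u} [Group G]

/-- transport along a homomorphism -/
def map {G' : Type v} [Group G'] (c : Cfg3 G) (ψ : G →* G') : Cfg3 G' where
  a := fun p => ψ (c.a p)
  w := fun p => ψ (c.w p)
  a_comm := fun p q => by rw [← map_mul, ← map_mul, c.a_comm]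
  a_cube := fun p => by rw [← map_pow, c.a_cube, map_one]
  w_sq := fun p => by rw [← map_mul, c.w_sq, map_one]
  w_mul := fun p q r h1 h2 h3 => by rw [← map_mul, c.w_mul p q r h1 h2 h3]
  cen := fun p => by rw [← map_mul, ← map_mul, c.cen]
  inv := fun p q h => by rw [← map_inv, ← map_mul, ← map_mul, c.inv p q h, map_inv]

/-- restriction to a subgroup containing the generators -/
def restrict (c : Cfg3 G) (K : Subgroup G) (ha : ∀ p, c.a p ∈ K) (hw : ∀ p, c.w p ∈ K) :
    Cfg3 K where
  a := fun p => ⟨c.a p, ha p⟩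
  w := fun p => ⟨c.w p, hw p⟩
  a_comm := fun p q => Subtype.ext (c.a_comm p q)
  a_cube := fun p => Subtype.ext (by simpa using c.a_cube p)
  w_sq := fun p => Subtype.ext (c.w_sq p)
  w_mul := fun p q r h1 h2 h3 => Subtype.ext (c.w_mul p q r h1 h2 h3)
  cen := fun p => Subtype.ext (c.cen p)
  inv := fun p q h => Subtype.ext (by simpa using c.inv p q h)

end Cfg3

/-- the three 3-cycles -/
def aP : Fin 3 → Equiv.Perm (Fin 9) :=
  ![Equiv.swap (0 : Fin 9) 1 * Equiv.swap 1 2, Equiv.swap (3 : Fin 9) 4 * Equiv.swap 4 5,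
    Equiv.swap (6 : Fin 9) 7 * Equiv.swap 7 8]

/-- the three involutions; `wP p` centralizes `aP p` -/
def wP : Fin 3 → Equiv.Perm (Fin 9) :=
  ![(Equiv.swap (0 : Fin 9) 1 * Equiv.swap 3 4) * (Equiv.swap (0 : Fin 9) 1 * Equiv.swap 6 7),
    Equiv.swap (0 : Fin 9) 1 * Equiv.swap 6 7, Equiv.swap (0 : Fin 9) 1 * Equiv.swap 3 4]

/-- the concrete configuration in `Sym(9)` -/
def cP : Cfg3 (Equiv.Perm (Fin 9)) where
  a := aP
  w := wP
  a_comm := by decide
  a_cube := by decide
  w_sq := by decide
  w_mul := by decide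
  cen := by decide
  inv := by decide

end Cfsg.Agent.Helper4.Hig
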