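import Mathlib

/-!
# Subgroups of index six in the symmetric group of degree six, part A

Every subgroup of index `6` of `Perm (Fin 6)` is isomorphic to `Perm (Fin 5)`
(via the action on its six cosets), and it is self-normalising.
-/

set_option autoImplicit false

namespace Cfsg.Agent.Helper4.S6Index

open Equiv

/-- The stabiliser of a point in the full symmetric group is the symmetric group on the rest. -/
theorem nonempty_stabilizer_equiv {α : Type*} [DecidableEq α] (a : α) :
    Nonempty (MulAction.stabilizer (Perm α) a ≃* Perm {x : α // x ≠ a}) := by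
  let f : Perm {x : α // x ≠ a} →* Perm α := Perm.ofSubtype
  have hinj : Function.Injective f := Perm.ofSubtype_injective
  have hrange : f.range = MulAction.stabilizer (Perm α) a := by
    ext g
    rw [MulAction.mem_stabilizer_iff, MonoidHom.mem_range]
    constructor
    · rintro ⟨σ, rfl⟩
      show Perm.ofSubtype σ a = a
      exact Perm.ofSubtype_apply_of_not_mem σ (by simp)
    · intro hg
      have hg' : g a = a := hg
      have h1 : ∀ x, (g x ≠ a) ↔ (x ≠ a) := by
        intro x
        constructor
        · intro h hx; apply h; rw [hx, hg']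
        · intro h hx; apply h; apply g.injective; rw [hx, hg']
      refine ⟨Perm.subtypePerm g h1, ?_⟩
      exact Perm.ofSubtype_subtypePerm h1
        (fun x hx => by intro h; rw [h] at hx; exact hx hg')
  exact ⟨((MonoidHom.ofInjective hinj).trans (MulEquiv.subgroupCongr hrange)).symm⟩

theorem nonempty_stabilizer_equiv_fin {α : Type*} [Fintype α] [DecidableEq α] (a : α) (n : ℕ)
    (hn : Fintype.card α = n + 1) :
    Nonempty (MulAction.stabilizer (Perm α) a ≃* Perm (Fin n)) := by
  obtain ⟨ψ⟩ := nonempty_stabilizer_equiv a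
  have hc : Fintype.card {x : α // x ≠ a} = n := by
    have h := Fintype.card_subtype_compl (fun x : α => x = a)
    rw [Fintype.card_subtype_eq, hn] at h
    simpa using h
  exact ⟨ψ.trans (Fintype.equivFinOfCardEq hc).permCongrHom⟩

theorem card_perm_six : Nat.card (Perm (Fin 6)) = 720 := by
  rw [Nat.card_eq_fintype_card, Fintype.card_perm, Fintype.card_fin]
  rfl

theorem card_alt_six : Nat.card (alternatingGroup (Fin 6)) = 360 := by
  have := nat_card_alternatingGroup (α := Fin 6)
  rw [this, Nat.card_eq_fintype_card, Fintype.card_fin]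
  rfl

theorem card_of_index_six (H : Subgroup (Perm (Fin 6))) (hH : H.index = 6) : Nat.card H = 120 := by
  have := H.index_mul_card
  rw [hH, card_perm_six] at this
  omega

theorem index_six_of_card (H : Subgroup (Perm (Fin 6))) (hH : Nat.card H = 120) : H.index = 6 := by
  have := H.index_mul_card
  rw [hH, card_perm_six] at this
  omega

/-- A normal subgroup of `Perm (Fin 6)` with fewer than `360` elements is trivial. -/
theorem normal_eq_bot_of_card_lt (K : Subgroup (Perm (Fin 6))) [K.Normal]
    (hK : Nat.card K < 360) : K = ⊥ := by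
  by_contra hne
  haveI : Nontrivial K := (Subgroup.nontrivial_iff_ne_bot _).2 hne
  have hle := Equiv.Perm.alternatingGroup_le_of_normal (α := Fin 6) (by simp) (N := K) inferInstance
  have h1 : Nat.card (alternatingGroup (Fin 6)) ≤ Nat.card K := Subgroup.card_le_of_le hle
  rw [card_alt_six] at h1
  omega

/-- A normal subgroup of `Perm (Fin 6)` is trivial or contains the alternating group. -/
theorem alt_le_of_normal (K : Subgroup (Perm (Fin 6))) [K.Normal] (hK : K ≠ ⊥) :
    alternatingGroup (Fin 6) ≤ K := by
  haveI : Nontrivial K := (Subgroup.nontrivial_iff_ne_bot _).2 hK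
  exact Equiv.Perm.alternatingGroup_le_of_normal (α := Fin 6) (by simp) (N := K) inferInstance

/-- Every subgroup of index `6` in `Perm (Fin 6)` is isomorphic to `Perm (Fin 5)`. -/
theorem nonempty_equiv_perm_five (H : Subgroup (Perm (Fin 6))) (hH : H.index = 6) :
    Nonempty (H ≃* Perm (Fin 5)) := by
  classical
  haveI : Fintype (Perm (Fin 6) ⧸ H) := Fintype.ofFinite _
  have hX : Fintype.card (Perm (Fin 6) ⧸ H) = 6 := by
    rw [← Nat.card_eq_fintype_card]; exact hH
  let φ : Perm (Fin 6) →* Perm (Perm (Fin 6) ⧸ H) := MulAction.toPermHom _ _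
  have hcard := card_of_index_six H hH
  have hker : φ.ker = ⊥ := by
    apply normal_eq_bot_of_card_lt
    have hkH : φ.ker ≤ H := by
      rw [← Subgroup.normalCore_eq_ker]; exact Subgroup.normalCore_le H
    have := Subgroup.card_le_of_le hkH
    omega
  have hinj : Function.Injective φ := (MonoidHom.ker_eq_bot_iff φ).1 hker
  have hbij : Function.Bijective φ := by
    rw [Fintype.bijective_iff_injective_and_card]
    refine ⟨hinj, ?_⟩
    rw [Fintype.card_perm, Fintype.card_perm, hX, Fintype.card_fin]
  let e : Perm (Fin 6) ≃* Perm (Perm (Fin 6) ⧸ H) := MulEquiv.ofBijective φ hbij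
  have hHst : H.map e.toMonoidHom =
      MulAction.stabilizer (Perm (Perm (Fin 6) ⧸ H)) ((1 : Perm (Fin 6)) : Perm (Fin 6) ⧸ H) := by
    ext σ
    obtain ⟨g, rfl⟩ := hbij.2 σ
    rw [MulAction.mem_stabilizer_iff]
    have h1 : φ g • ((1 : Perm (Fin 6)) : Perm (Fin 6) ⧸ H) = ((g : Perm (Fin 6)) : Perm (Fin 6) ⧸ H) := by
      show g • ((1 : Perm (Fin 6)) : Perm (Fin 6) ⧸ H) = _
      rw [MulAction.Quotient.smul_coe, smul_eq_mul, mul_one]
    rw [h1]
    have h2 : ((g : Perm (Fin 6)) : Perm (Fin 6) ⧸ H) = ((1 : Perm (Fin 6)) : Perm (Fin 6) ⧸ H) ↔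
        g ∈ H := by
      rw [QuotientGroup.eq, mul_one, inv_mem_iff]
    rw [h2]
    constructor
    · rintro ⟨h, hh, hhg⟩
      have : h = g := hinj hhg
      rw [← this]
      exact hh
    · intro hg
      exact ⟨g, hg, rfl⟩
  obtain ⟨ψ⟩ := nonempty_stabilizer_equiv_fin
    (((1 : Perm (Fin 6)) : Perm (Fin 6) ⧸ H)) 5 hX
  exact ⟨((e.subgroupMap H).trans (MulEquiv.subgroupCongr hHst)).trans ψ⟩

end Cfsg.Agent.Helper4.S6Index
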