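import Mathlib.GroupTheory.OrderOfElement
import Mathlib.GroupTheory.Frattini
import Mathlib.GroupTheory.PGroup
import Mathlib.GroupTheory.Abelianization.Defs
import Mathlib.Tactic.Group

set_option autoImplicit false
set_option linter.unusedSectionVars false

namespace Cfsg.Agent.Helper4.InvAct

variable {G : Type*} [Group G] [Finite G]

/-- In a group of odd order every element has a square root among its powers. -/
lemma exists_sqrt (hodd : Odd (Nat.card G)) (y : G) :
    ∃ i ∈ Subgroup.zpowers y, i * i = y := by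
  have hy : Odd (orderOf y) := by
    have hdvd : orderOf y ∣ Nat.card G := orderOf_dvd_natCard y
    exact Odd.of_dvd_nat hodd hdvd
  obtain ⟨k, hk⟩ := hy
  refine ⟨y ^ (k + 1), Subgroup.npow_mem_zpowers y _, ?_⟩
  rw [← pow_add]
  have : k + 1 + (k + 1) = orderOf y + 1 := by omega
  rw [this, pow_succ, pow_orderOf_eq_one, one_mul]

lemma mem_zpowers_sq (hodd : Odd (Nat.card G)) (x : G) : x ∈ Subgroup.zpowers (x * x) := by
  have hy : Odd (orderOf x) := Odd.of_dvd_nat hodd (orderOf_dvd_natCard x)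
  obtain ⟨k, hk⟩ := hy
  have h2 : x = (x * x) ^ (k + 1) := by
    rw [← pow_two x, ← pow_mul]
    have h3 : 2 * (k + 1) = orderOf x + 1 := by omega
    rw [h3, pow_succ, pow_orderOf_eq_one, one_mul]
  have h4 := Subgroup.npow_mem_zpowers (x * x) (k + 1)
  rwa [← h2] at h4

/-- The fixed-point subgroup of an automorphism. -/
def fixSub (T : MulAut G) : Subgroup G where
  carrier := {x | T x = x}
  one_mem' := map_one T
  mul_mem' := by
    intro a b ha hb
    show T (a * b) = a * b
    rw [map_mul, ha, hb]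
  inv_mem' := by
    intro a ha
    show T a⁻¹ = a⁻¹
    rw [map_inv, ha]

omit [Finite G] in
lemma mem_fixSub {T : MulAut G} {x : G} : x ∈ fixSub T ↔ T x = x := Iff.rfl

/-- Decomposition with respect to an involutory automorphism of a group of odd order. -/
lemma decomp (hodd : Odd (Nat.card G)) (T : MulAut G) (hT : ∀ x, T (T x) = x) (x : G) :
    ∃ c, T c = c ∧ c⁻¹ * x ∈ Subgroup.zpowers (x⁻¹ * T x) := by
  obtain ⟨y, hy⟩ : ∃ y, y = x⁻¹ * T x := ⟨_, rfl⟩
  have hTy : T y = y⁻¹ := by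
    rw [hy, map_mul, map_inv, hT, mul_inv_rev, inv_inv]
  obtain ⟨i, hi, hii⟩ := exists_sqrt hodd y
  have hTi : T i = i⁻¹ := by
    obtain ⟨k, rfl⟩ := Subgroup.mem_zpowers_iff.1 hi
    rw [map_zpow, hTy, inv_zpow]
  refine ⟨x * i, ?_, ?_⟩
  · rw [map_mul, hTi]
    have : T x = x * y := by rw [hy]; group
    rw [this, ← hii]; group
  · rw [← hy]
    have : (x * i)⁻¹ * x = i⁻¹ := by group
    rw [this]
    exact Subgroup.inv_mem _ hi

lemma lift_fixed (hodd : Odd (Nat.card G)) (T : MulAut G) (hT : ∀ x, T (T x) = x)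
    (N : Subgroup G) (x : G) (hx : x⁻¹ * T x ∈ N) : ∃ c, T c = c ∧ c⁻¹ * x ∈ N := by
  obtain ⟨c, hc, hcx⟩ := decomp hodd T hT x
  refine ⟨c, hc, ?_⟩
  have : Subgroup.zpowers (x⁻¹ * T x) ≤ N := by
    rw [Subgroup.zpowers_le]; exact hx
  exact this hcx

end Cfsg.Agent.Helper4.InvAct
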