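import Cfsg.Agent.Helper4.InvActA
import Cfsg.Agent.Helper4.FrattiniQuotient

set_option autoImplicit false
set_option linter.unusedSectionVars false

namespace Cfsg.Agent.Helper4.InvAct

/-- A finite abelian group of odd order acted on by a Klein four-group is generated by the
fixed points of the three involutions. -/
lemma klein_gen_comm {A : Type*} [CommGroup A] [Finite A] (hodd : Odd (Nat.card A))
    (a1 a2 : A →* A) (h11 : ∀ v, a1 (a1 v) = v) (h22 : ∀ v, a2 (a2 v) = v)
    (h12 : ∀ v, a1 (a2 v) = a2 (a1 v)) (L : Subgroup A)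
    (hL1 : ∀ v, a1 v = v → v ∈ L) (hL2 : ∀ v, a2 v = v → v ∈ L)
    (hL3 : ∀ v, a1 (a2 v) = v → v ∈ L) : L = ⊤ := by
  rw [eq_top_iff]
  intro v _
  have hsq : ∀ w : A, w * w ∈ L → w ∈ L := by
    intro w hw
    have h1 : Subgroup.zpowers (w * w) ≤ L := by
      rw [Subgroup.zpowers_le]; exact hw
    exact h1 (mem_zpowers_sq hodd w)
  apply hsq
  obtain ⟨w, hw⟩ : ∃ w, w = v * (a1 v)⁻¹ := ⟨_, rfl⟩
  have hu : v * a1 v ∈ L := by
    apply hL1
    rw [map_mul, h11, mul_comm]
  have ha1w : a1 w = w⁻¹ := by
    rw [hw, map_mul, map_inv, h11, mul_inv_rev, inv_inv]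
  have hwL : w ∈ L := by
    apply hsq
    have h2 : w * a2 w ∈ L := by
      apply hL2
      rw [map_mul, h22, mul_comm]
    have h3 : w * (a2 w)⁻¹ ∈ L := by
      apply hL3
      rw [map_mul, map_inv, h22, map_mul, map_inv, h12, ha1w, map_inv, inv_inv, mul_comm]
    have : w * w = (w * a2 w) * (w * (a2 w)⁻¹) := by
      rw [mul_mul_mul_comm, mul_inv_cancel, mul_one]
    rw [this]
    exact L.mul_mem h2 h3
  have : v * v = (v * a1 v) * w := by
    rw [hw, mul_mul_mul_comm, mul_inv_cancel, mul_one]
  rw [this]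
  exact L.mul_mem hu hwL

/-- A finite `p`-group of odd order acted on by a Klein four-group is generated by the
fixed points of the three involutions. -/
theorem klein_gen {P : Type*} [Group P] [Finite P] {p : ℕ} [Fact p.Prime] (hP : IsPGroup p P)
    (hodd : Odd (Nat.card P)) (h1 h2 : MulAut P) (h11 : ∀ x, h1 (h1 x) = x)
    (h22 : ∀ x, h2 (h2 x) = x) (h12 : ∀ x, h1 (h2 x) = h2 (h1 x)) (K : Subgroup P)
    (hK1 : ∀ x, h1 x = x → x ∈ K) (hK2 : ∀ x, h2 x = x → x ∈ K)
    (hK3 : ∀ x, h1 (h2 x) = x → x ∈ K) : K = ⊤ := by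
  have hoddA : Odd (Nat.card (Abelianization P)) := by
    have : Nat.card (Abelianization P) ∣ Nat.card P :=
      Subgroup.card_quotient_dvd_card (commutator P)
    exact Odd.of_dvd_nat hodd this
  have hsurj : ∀ v : Abelianization P, ∃ x, Abelianization.of x = v := by
    intro v
    exact QuotientGroup.mk_surjective v
  have hker : ∀ x y : P, Abelianization.of x = Abelianization.of y → y⁻¹ * x ∈ commutator P := by
    intro x y hxy
    rw [← Abelianization.ker_of, MonoidHom.mem_ker, map_mul, map_inv, hxy, inv_mul_cancel]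
  have hker' : ∀ x y : P, y⁻¹ * x ∈ commutator P → Abelianization.of x = Abelianization.of y := by
    intro x y hxy
    rw [← Abelianization.ker_of, MonoidHom.mem_ker, map_mul, map_inv] at hxy
    exact (inv_mul_eq_one.1 hxy).symm
  -- lifting fixed points
  have hlift : ∀ (T : MulAut P), (∀ x, T (T x) = x) → (∀ x, T x = x → x ∈ K) →
      ∀ x, Abelianization.of (T x) = Abelianization.of x →
        Abelianization.of x ∈ K.map Abelianization.of := by
    intro T hT hTK x hx
    obtain ⟨c, hc, hcx⟩ := lift_fixed hodd T hT (commutator P) x (hker _ _ hx)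
    rw [hker' _ _ hcx]
    exact Subgroup.mem_map_of_mem _ (hTK c hc)
  have hLtop : K.map Abelianization.of = ⊤ := by
    apply klein_gen_comm hoddA h1.abelianizationCongr.toMonoidHom
      h2.abelianizationCongr.toMonoidHom
    · intro v
      obtain ⟨x, rfl⟩ := hsurj v
      simp only [MulEquiv.coe_toMonoidHom, abelianizationCongr_of, h11]
    · intro v
      obtain ⟨x, rfl⟩ := hsurj v
      simp only [MulEquiv.coe_toMonoidHom, abelianizationCongr_of, h22]
    · intro v
      obtain ⟨x, rfl⟩ := hsurj v
      simp only [MulEquiv.coe_toMonoidHom, abelianizationCongr_of, h12]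
    · intro v hv
      obtain ⟨x, rfl⟩ := hsurj v
      simp only [MulEquiv.coe_toMonoidHom, abelianizationCongr_of] at hv
      exact hlift h1 h11 hK1 x hv
    · intro v hv
      obtain ⟨x, rfl⟩ := hsurj v
      simp only [MulEquiv.coe_toMonoidHom, abelianizationCongr_of] at hv
      exact hlift h2 h22 hK2 x hv
    · intro v hv
      obtain ⟨x, rfl⟩ := hsurj v
      simp only [MulEquiv.coe_toMonoidHom, abelianizationCongr_of] at hv
      refine hlift (h1 * h2) ?_ hK3 x hv
      intro y
      show h1 (h2 (h1 (h2 y))) = y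
      rw [← h12, h11, h22]
  have h1 : K ⊔ commutator P = ⊤ := by
    rw [← Abelianization.ker_of, ← Subgroup.comap_map_eq, hLtop, Subgroup.comap_top]
  have h2 : commutator P ≤ frattini P := by
    rw [commutator_def, Subgroup.commutator_le]
    intro x _ y _
    exact pgroup_commutator_mem_frattini hP x y
  apply frattini_nongenerating
  rw [eq_top_iff, ← h1]
  exact sup_le_sup_left h2 K

end Cfsg.Agent.Helper4.InvAct
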