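import Cfsg.Agent.Helper4.InvActA
import Mathlib.RingTheory.PrincipalIdealDomain
import Mathlib.RingTheory.Int.Basic

set_option autoImplicit false
set_option linter.unusedSectionVars false

namespace Cfsg.Agent.Helper4.InvAct

/-- An involutory automorphism of a `p`-group (`p` odd) normalizing a cyclic subgroup either
centralizes or inverts it. -/
lemma sign_of_invol {P : Type*} [Group P] [Finite P] {p : ℕ} (hp : p.Prime) (hp2 : p ≠ 2)
    (hP : IsPGroup p P) (T : MulAut P) (hT : ∀ x, T (T x) = x) (g : P)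
    (hg : T g ∈ Subgroup.zpowers g) : T g = g ∨ T g = g⁻¹ := by
  haveI : Fact p.Prime := ⟨hp⟩
  obtain ⟨k, hk⟩ := Subgroup.mem_zpowers_iff.1 hg
  have h1 : g ^ (k * k - 1) = 1 := by
    have h2 : g ^ (k * k) = g := by
      rw [zpow_mul, hk, ← map_zpow, hk, hT]
    rw [zpow_sub, zpow_one, h2, mul_inv_cancel]
  obtain ⟨e, he⟩ := (IsPGroup.iff_orderOf.1 hP) g
  have hdvd : ((p : ℤ) ^ e) ∣ (k - 1) * (k + 1) := by
    have := (orderOf_dvd_iff_zpow_eq_one).2 h1
    rw [he] at this
    have h3 : (k - 1) * (k + 1) = k * k - 1 := by ring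
    rw [h3]
    exact_mod_cast this
  have hpZ : Prime (p : ℤ) := Nat.prime_iff_prime_int.1 hp
  by_cases hpk : (p : ℤ) ∣ k + 1
  · right
    have hnot : ¬ (p : ℤ) ∣ k - 1 := by
      intro h
      have h2 : (p : ℤ) ∣ 2 := by
        have := dvd_sub hpk h
        have h3 : k + 1 - (k - 1) = 2 := by ring
        rwa [h3] at this
      have h4 : p ∣ 2 := by exact_mod_cast h2
      have := (Nat.prime_dvd_prime_iff_eq hp Nat.prime_two).1 h4
      exact hp2 this
    have hcop : IsCoprime ((p : ℤ) ^ e) (k - 1) :=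
      (hpZ.coprime_iff_not_dvd.2 hnot).pow_left
    have h5 : ((p : ℤ) ^ e) ∣ k + 1 := hcop.dvd_of_dvd_mul_left hdvd
    have h6 : g ^ (k + 1) = 1 := by
      apply (orderOf_dvd_iff_zpow_eq_one).1
      rw [he]
      exact_mod_cast h5
    rw [← hk]
    rw [zpow_add, zpow_one] at h6
    exact eq_inv_of_mul_eq_one_left h6
  · left
    have hcop : IsCoprime ((p : ℤ) ^ e) (k + 1) :=
      (hpZ.coprime_iff_not_dvd.2 hpk).pow_left
    have h5 : ((p : ℤ) ^ e) ∣ k - 1 := hcop.dvd_of_dvd_mul_right hdvd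
    have h6 : g ^ (k - 1) = 1 := by
      apply (orderOf_dvd_iff_zpow_eq_one).1
      rw [he]
      exact_mod_cast h5
    rw [← hk]
    rw [zpow_sub, zpow_one] at h6
    exact mul_inv_eq_one.1 h6

end Cfsg.Agent.Helper4.InvAct
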