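import Cfsg.Agent.Helper4.InvActA
import Mathlib.SetTheory.Cardinal.Finite

set_option autoImplicit false
set_option linter.unusedSectionVars false

namespace Cfsg.Agent.Helper4.InvAct

open Classical in
/-- The sign pattern of an automorphism on a family of elements. -/
noncomputable def signPat {P : Type*} [Group P] {ι : Type*} (ys : ι → P) (T : MulAut P) :
    ι → Bool := fun j => decide (T (ys j) = ys j)

lemma signPat_apply {P : Type*} [Group P] {ι : Type*} (ys : ι → P) (T : MulAut P) (j : ι) :
    signPat ys T j = true ↔ T (ys j) = ys j := by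
  unfold signPat
  simp

/-- Automorphisms acting by signs on a generating family are determined by their sign
pattern. -/
lemma eq_of_signPat_eq {P : Type*} [Group P] {ι : Type*} (ys : ι → P)
    (hgen : Subgroup.closure (Set.range ys) = ⊤) (T T' : MulAut P)
    (hT : ∀ j, T (ys j) = ys j ∨ T (ys j) = (ys j)⁻¹)
    (hT' : ∀ j, T' (ys j) = ys j ∨ T' (ys j) = (ys j)⁻¹)
    (h : signPat ys T = signPat ys T') : T = T' := by
  have key : ∀ j, T (ys j) = T' (ys j) := by
    intro j
    have hj := congrFun h j
    by_cases h1 : T (ys j) = ys j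
    · have h2 : T' (ys j) = ys j := by
        rw [← signPat_apply, ← hj, signPat_apply]; exact h1
      rw [h1, h2]
    · have h2 : ¬ T' (ys j) = ys j := by
        rw [← signPat_apply, ← hj, signPat_apply]; exact h1
      rcases hT j with h3 | h3
      · exact absurd h3 h1
      · rcases hT' j with h4 | h4
        · exact absurd h4 h2
        · rw [h3, h4]
  have h2 : T.toMonoidHom = T'.toMonoidHom := by
    apply MonoidHom.eq_of_eqOn_dense hgen
    rintro _ ⟨j, rfl⟩
    exact key j
  ext x
  exact DFunLike.congr_fun h2 x

lemma card_le_of_signs {P : Type*} [Group P] {ι : Type*} [Fintype ι] (I : Subgroup (MulAut P))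
    (ys : ι → P) (hgen : Subgroup.closure (Set.range ys) = ⊤)
    (hsign : ∀ T ∈ I, ∀ j, T (ys j) = ys j ∨ T (ys j) = (ys j)⁻¹) :
    Nat.card I ≤ 2 ^ Fintype.card ι := by
  have hinj : Function.Injective (fun T : I => signPat ys T.1) := by
    intro T T' h
    exact Subtype.ext (eq_of_signPat_eq ys hgen T.1 T'.1 (hsign _ T.2) (hsign _ T'.2) h)
  have h1 := Nat.card_le_card_of_injective _ hinj
  have h2 : Nat.card (ι → Bool) = 2 ^ Fintype.card ι := by
    classical
    rw [Nat.card_eq_fintype_card, Fintype.card_fun, Fintype.card_bool]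
  rwa [h2] at h1

end Cfsg.Agent.Helper4.InvAct
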