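import Cfsg.Agent.Helper4.InvActB
import Cfsg.Agent.Helper4.InvActC
import Cfsg.Agent.Helper4.InvActD

set_option autoImplicit false
set_option linter.unusedSectionVars false

namespace Cfsg.Agent.Helper4.InvAct

lemma fin3_cases (i j k l : Fin 3) (hij : i ≠ j) (hjk : j ≠ k) (hik : i ≠ k) :
    l = i ∨ l = j ∨ l = k := by
  revert i j k l; decide

lemma fin3_others (i : Fin 3) : ∃ j k : Fin 3, i ≠ j ∧ j ≠ k ∧ i ≠ k := by
  revert i; decide

lemma fin3_third (i j : Fin 3) (hij : i ≠ j) : ∃ k : Fin 3, j ≠ k ∧ i ≠ k := by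
  revert i j; decide

variable {P : Type*} [Group P] [Finite P]

/-- The fixed points form a cyclic subgroup. -/
def Narrow (T : MulAut P) : Prop := ∃ g : P, ∀ x : P, (T x = x ↔ x ∈ Subgroup.zpowers g)

/-- The standing hypotheses on `p`, `P` and `I`. -/
structure Setup (p : ℕ) (I : Subgroup (MulAut P)) : Prop where
  hp : p.Prime
  hp2 : p ≠ 2
  hP : IsPGroup p P
  comm : ∀ T ∈ I, ∀ T' ∈ I, T * T' = T' * T
  sq : ∀ T ∈ I, T * T = 1
  card : Nat.card I = 8

/-- A Klein four-group `{1, h 0, h 1, h 2}` in `I` whose involutions have cyclic centralizers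
generated by `x 0`, `x 1`, `x 2`. -/
structure KData (I : Subgroup (MulAut P)) (h : Fin 3 → MulAut P) (x : Fin 3 → P) : Prop where
  mem : ∀ i, h i ∈ I
  prod : ∀ i j k, i ≠ j → j ≠ k → i ≠ k → h i * h j = h k
  fix : ∀ i y, h i y = y ↔ y ∈ Subgroup.zpowers (x i)

namespace Setup

variable {p : ℕ} {I : Subgroup (MulAut P)} (hS : Setup (P := P) p I)
include hS

lemma odd_card : Odd (Nat.card P) := by
  have : Fact p.Prime := ⟨hS.hp⟩
  obtain ⟨n, hn⟩ := IsPGroup.iff_card.1 hS.hP
  rw [hn]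
  exact Odd.pow (hS.hp.odd_of_ne_two hS.hp2)

lemma invol {T : MulAut P} (hT : T ∈ I) (y : P) : T (T y) = y := by
  have := hS.sq T hT
  have h2 : (T * T) y = y := by rw [this]; rfl
  exact h2

lemma commute {T T' : MulAut P} (hT : T ∈ I) (hT' : T' ∈ I) (y : P) : T (T' y) = T' (T y) := by
  have := hS.comm T hT T' hT'
  have h2 : (T * T') y = (T' * T) y := by rw [this]
  exact h2

lemma inv_ne_self {y : P} (hy : y ≠ 1) : y⁻¹ ≠ y := by
  intro h
  apply hy
  have h2 : y * y = 1 := by
    nth_rewrite 1 [← h]; exact inv_mul_cancel y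
  have h3 := mem_zpowers_sq hS.odd_card y
  rw [h2] at h3
  simpa using h3

end Setup

namespace KData

variable {p : ℕ} {I : Subgroup (MulAut P)} {h : Fin 3 → MulAut P} {x : Fin 3 → P}
variable (hS : Setup (P := P) p I) (hK : KData I h x)
include hS hK

lemma fix_self (i : Fin 3) : h i (x i) = x i :=
  (hK.fix i (x i)).2 (Subgroup.mem_zpowers _)

lemma gen : Subgroup.closure (Set.range x) = ⊤ := by
  have : Fact p.Prime := ⟨hS.hp⟩
  have hle : ∀ i, Subgroup.zpowers (x i) ≤ Subgroup.closure (Set.range x) := by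
    intro i
    rw [Subgroup.zpowers_le]
    exact Subgroup.subset_closure ⟨i, rfl⟩
  have h01 : h 0 * h 1 = h 2 := hK.prod 0 1 2 (by decide) (by decide) (by decide)
  apply klein_gen hS.hP hS.odd_card (h 0) (h 1) (hS.invol (hK.mem 0)) (hS.invol (hK.mem 1))
    (hS.commute (hK.mem 0) (hK.mem 1))
  · intro y hy
    exact hle 0 ((hK.fix 0 y).1 hy)
  · intro y hy
    exact hle 1 ((hK.fix 1 y).1 hy)
  · intro y hy
    have : h 2 y = y := by rw [← h01]; exact hy
    exact hle 2 ((hK.fix 2 y).1 this)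

lemma sign {T : MulAut P} (hT : T ∈ I) (i : Fin 3) : T (x i) = x i ∨ T (x i) = (x i)⁻¹ := by
  apply sign_of_invol hS.hp hS.hp2 hS.hP T (hS.invol hT)
  rw [← hK.fix i, hS.commute (hK.mem i) hT, hK.fix_self hS]

/-- No two sign-elements generate `P`. -/
lemma not_gen_two (ys : Fin 2 → P)
    (hsign : ∀ T ∈ I, ∀ j, T (ys j) = ys j ∨ T (ys j) = (ys j)⁻¹) :
    Subgroup.closure (Set.range ys) ≠ ⊤ := by
  intro hgen
  have := card_le_of_signs I ys hgen hsign
  rw [hS.card] at this
  norm_num at this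

lemma not_gen_pair (i j : Fin 3) : Subgroup.closure ({x i, x j} : Set P) ≠ ⊤ := by
  have := hK.not_gen_two hS ![x i, x j] (by
    intro T hT l
    fin_cases l
    · exact hK.sign hS hT i
    · exact hK.sign hS hT j)
  intro h2
  apply this
  rw [← h2]
  congr 1
  ext y
  simp only [Set.mem_range, Set.mem_insert_iff, Set.mem_singleton_iff]
  constructor
  · rintro ⟨l, rfl⟩
    fin_cases l
    · left; rfl
    · right; rfl
  · rintro (rfl | rfl)
    · exact ⟨0, rfl⟩
    · exact ⟨1, rfl⟩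

/-- If `x i` lies in the subgroup generated by the other two then we get a contradiction. -/
lemma not_mem_pair (i j k : Fin 3) (hij : i ≠ j) (hjk : j ≠ k) (hik : i ≠ k) :
    x i ∉ Subgroup.closure ({x j, x k} : Set P) := by
  intro hmem
  apply hK.not_gen_pair hS j k
  rw [eq_top_iff, ← hK.gen hS, Subgroup.closure_le]
  rintro _ ⟨l, rfl⟩
  have hl : l = i ∨ l = j ∨ l = k := fin3_cases i j k l hij hjk hik
  rcases hl with rfl | rfl | rfl
  · exact hmem
  · exact Subgroup.subset_closure (by simp)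
  · exact Subgroup.subset_closure (by simp)

lemma x_ne_one (i : Fin 3) : x i ≠ 1 := by
  intro h1
  obtain ⟨j, k, hij, hjk, hik⟩ := fin3_others i
  apply hK.not_mem_pair hS i j k hij hjk hik
  rw [h1]
  exact Subgroup.one_mem _

/-- `h i` inverts `x j` for `j ≠ i`. -/
lemma h_inverts (i j : Fin 3) (hij : i ≠ j) : h i (x j) = (x j)⁻¹ := by
  rcases hK.sign hS (hK.mem i) j with h1 | h1
  · exfalso
    obtain ⟨k, hjk, hik⟩ := fin3_third i j hij
    apply hK.not_mem_pair hS j i k hij.symm hik hjk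
    have : x j ∈ Subgroup.zpowers (x i) := (hK.fix i _).1 h1
    have hle : Subgroup.zpowers (x i) ≤ Subgroup.closure ({x i, x k} : Set P) := by
      rw [Subgroup.zpowers_le]
      exact Subgroup.subset_closure (by simp)
    exact hle this
  · exact h1

end KData

end Cfsg.Agent.Helper4.InvAct
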