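import Cfsg.Agent.Helper4.InvActE

set_option autoImplicit false
set_option linter.unusedSectionVars false

namespace Cfsg.Agent.Helper4.InvAct

lemma pat_cases : ∀ f : Fin 3 → Bool, f = (fun _ => true) ∨ (∃ i, f = fun j => decide (j = i)) ∨
    (∃ i, f = fun j => decide (j ≠ i)) ∨ f = fun _ => false := by
  decide

variable {P : Type*} [Group P] [Finite P]

/-- The elements of `I` outside the Klein four-group. -/
structure TData (I : Subgroup (MulAut P)) (x : Fin 3 → P) (t : Fin 3 → MulAut P)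
    (t0 : MulAut P) : Prop where
  tmem : ∀ i, t i ∈ I
  t0mem : t0 ∈ I
  tfix : ∀ i j, j ≠ i → t i (x j) = x j
  tinv : ∀ i, t i (x i) = (x i)⁻¹
  t0inv : ∀ i, t0 (x i) = (x i)⁻¹

namespace KData

variable {p : ℕ} {I : Subgroup (MulAut P)} {h : Fin 3 → MulAut P} {x : Fin 3 → P}
variable (hS : Setup (P := P) p I) (hK : KData I h x)
include hS hK

lemma x_inv_ne (i : Fin 3) : (x i)⁻¹ ≠ x i := hS.inv_ne_self (hK.x_ne_one hS i)

lemma eq_of_pat {T T' : MulAut P} (hT : T ∈ I) (hT' : T' ∈ I)
    (hpat : ∀ i, T (x i) = x i ↔ T' (x i) = x i) : T = T' := by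
  apply eq_of_signPat_eq x (hK.gen hS) T T' (hK.sign hS hT) (hK.sign hS hT')
  funext i
  have := hpat i
  rw [← signPat_apply x T i, ← signPat_apply x T' i] at this
  exact Bool.eq_iff_iff.2 this

lemma exists_pat (f : Fin 3 → Bool) : ∃ T ∈ I, ∀ i, T (x i) = x i ↔ f i = true := by
  have hinj : Function.Injective (fun T : I => signPat x T.1) := by
    intro T T' hTT
    exact Subtype.ext (eq_of_signPat_eq x (hK.gen hS) T.1 T'.1 (hK.sign hS T.2)
      (hK.sign hS T'.2) hTT)
  have hI : Finite I := Nat.finite_of_card_ne_zero (by rw [hS.card]; norm_num)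
  have hbij := hinj.bijective_of_nat_card_le (by
    rw [hS.card, Nat.card_eq_fintype_card, Fintype.card_fun, Fintype.card_bool,
      Fintype.card_fin]; norm_num)
  obtain ⟨T, hT⟩ := hbij.2 f
  refine ⟨T.1, T.2, fun i => ?_⟩
  rw [← signPat_apply x T.1 i]
  have := congrFun hT i
  simp only at this
  rw [this]

lemma exists_TData : ∃ t t0, TData I x t t0 := by
  choose t ht using fun i : Fin 3 => hK.exists_pat hS (fun j => decide (j ≠ i))
  obtain ⟨t0, ht0I, ht0⟩ := hK.exists_pat hS (fun _ => false)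
  refine ⟨t, t0, fun i => (ht i).1, ht0I, ?_, ?_, ?_⟩
  · intro i j hji
    rw [(ht i).2 j]
    simpa using hji
  · intro i
    rcases hK.sign hS (ht i).1 i with h1 | h1
    · have := ((ht i).2 i).1 h1
      simp at this
    · exact h1
  · intro i
    rcases hK.sign hS ht0I i with h1 | h1
    · have := (ht0 i).1 h1
      simp at this
    · exact h1

/-- The fixing pattern of a product. -/
lemma mul_fix_iff {T T' : MulAut P} (hT : T ∈ I) (hT' : T' ∈ I) (i : Fin 3) :
    (T * T') (x i) = x i ↔ (T (x i) = x i ↔ T' (x i) = x i) := by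
  have hne := hK.x_inv_ne hS i
  show T (T' (x i)) = x i ↔ _
  rcases hK.sign hS hT' i with h1 | h1 <;> rcases hK.sign hS hT i with h2 | h2
  · rw [h1, h2]; simp
  · rw [h1, h2]; simp [hne]
  · rw [h1, map_inv, h2]; simp [hne]
  · rw [h1, map_inv, h2]; simp [hne]

lemma h_fix_iff (i j : Fin 3) : h i (x j) = x j ↔ j = i := by
  constructor
  · intro h1
    by_contra hji
    have := hK.h_inverts hS i j (fun h => hji h.symm)
    rw [this] at h1
    exact hK.x_inv_ne hS j h1
  · rintro rfl
    exact hK.fix_self hS j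

variable {t : Fin 3 → MulAut P} {t0 : MulAut P} (hT : TData I x t t0)
include hT

lemma t_fix_iff (i j : Fin 3) : t i (x j) = x j ↔ j ≠ i := by
  constructor
  · intro h1 hji
    rw [hji, hT.tinv i] at h1
    exact hK.x_inv_ne hS i h1
  · exact hT.tfix i j

lemma t0_fix_iff (j : Fin 3) : t0 (x j) = x j ↔ False := by
  constructor
  · intro h1
    rw [hT.t0inv j] at h1
    exact hK.x_inv_ne hS j h1
  · exact False.elim

/-- `t j * t k = h i` for distinct `i`, `j`, `k`. -/
lemma t_mul (i j k : Fin 3) (hij : i ≠ j) (hjk : j ≠ k) (hik : i ≠ k) : t j * t k = h i := by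
  apply hK.eq_of_pat hS (I.mul_mem (hT.tmem j) (hT.tmem k)) (hK.mem i)
  intro l
  rw [hK.mul_fix_iff hS (hT.tmem j) (hT.tmem k), hK.t_fix_iff hS hT, hK.t_fix_iff hS hT,
    hK.h_fix_iff hS]
  revert i j k l
  decide

/-- Classification of the elements of `I`. -/
lemma classify {T : MulAut P} (hTI : T ∈ I) :
    T = 1 ∨ (∃ i, T = h i) ∨ (∃ i, T = t i) ∨ T = t0 := by
  classical
  rcases pat_cases (signPat x T) with h1 | ⟨i, h1⟩ | ⟨i, h1⟩ | h1
  · left
    apply hK.eq_of_pat hS hTI I.one_mem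
    intro l
    rw [← signPat_apply x T l, h1]
    simp
  · right; left
    refine ⟨i, hK.eq_of_pat hS hTI (hK.mem i) ?_⟩
    intro l
    rw [← signPat_apply x T l, h1, hK.h_fix_iff hS]
    simp
  · right; right; left
    refine ⟨i, hK.eq_of_pat hS hTI (hT.tmem i) ?_⟩
    intro l
    rw [← signPat_apply x T l, h1, hK.t_fix_iff hS hT]
    simp
  · right; right; right
    apply hK.eq_of_pat hS hTI hT.t0mem
    intro l
    rw [← signPat_apply x T l, h1, hK.t0_fix_iff hS hT]
    simp

end KData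

end Cfsg.Agent.Helper4.InvAct
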