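import Cfsg.Agent.Helper4.InvActF
import Mathlib.GroupTheory.Nilpotent
import Mathlib.GroupTheory.Subgroup.Centralizer

set_option autoImplicit false
set_option linter.unusedSectionVars false

namespace Cfsg.Agent.Helper4.InvAct

open scoped commutatorElement

variable {P : Type*} [Group P] [Finite P]

/-- A nilpotent group whose derived subgroup equals the next term of the lower central
series is abelian. -/
lemma commutator_eq_bot_of_le [Group.IsNilpotent P]
    (h : commutator P ≤ ⁅commutator P, (⊤ : Subgroup P)⁆) : commutator P = ⊥ := by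
  have key : ∀ n, commutator P ≤ (⊤ : Subgroup P).lowerCentralSeries n := by
    intro n
    induction n with
    | zero => rw [Subgroup.lowerCentralSeries_zero]; exact le_top
    | succ n ih =>
      refine le_trans h ?_
      rw [Subgroup.lowerCentralSeries_succ]
      exact Subgroup.commutator_mono ih le_rfl
  obtain ⟨n, hn⟩ := Subgroup.nilpotent_iff_lowerCentralSeries.1
    (inferInstance : Group.IsNilpotent P)
  rw [eq_bot_iff, ← hn]
  exact key n

/-- In a group, `⁅a⁻¹, b⁻¹⁆` and `⁅a, b⁆` agree modulo the third term of the lower central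
series. -/
lemma comm_inv_inv_mod (a b : P) :
    ⁅a, b⁆⁻¹ * ⁅a⁻¹, b⁻¹⁆ ∈ ⁅commutator P, (⊤ : Subgroup P)⁆ := by
  have h1 : ⁅a, b⁆⁻¹ * ⁅a⁻¹, b⁻¹⁆ = ⁅⁅a, b⁆⁻¹, (b * a)⁻¹⁆ := by
    simp only [commutatorElement_def]
    group
  rw [h1]
  apply Subgroup.commutator_mem_commutator
  · apply Subgroup.inv_mem
    rw [commutator_def]
    exact Subgroup.commutator_mem_commutator (Subgroup.mem_top a) (Subgroup.mem_top b)
  · exact Subgroup.mem_top _

lemma gamma3_invariant (T : MulAut P) {n : P} (hn : n ∈ ⁅commutator P, (⊤ : Subgroup P)⁆) :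
    T n ∈ ⁅commutator P, (⊤ : Subgroup P)⁆ := by
  have hchar : (⁅commutator P, (⊤ : Subgroup P)⁆).Characteristic := by
    rw [commutator_def]; infer_instance
  have := (Subgroup.characteristic_iff_map_eq.1 hchar) T
  rw [← this]
  exact Subgroup.mem_map_of_mem _ hn

namespace KData

variable {p : ℕ} {I : Subgroup (MulAut P)} {h : Fin 3 → MulAut P} {x : Fin 3 → P}
variable (hS : Setup (P := P) p I) (hK : KData I h x)
variable {t : Fin 3 → MulAut P} {t0 : MulAut P} (hT : TData I x t t0)
include hS hK hT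

/-- The elements `t i` have non-cyclic centralizers. -/
lemma t_broad (i : Fin 3) : ¬ Narrow (t i) := by
  rintro ⟨g, hg⟩
  obtain ⟨j, k, hij, hjk, hik⟩ := fin3_others i
  have hxj : x j ∈ Subgroup.zpowers g := (hg _).1 (hT.tfix i j (fun h => hij h.symm))
  have hxk : x k ∈ Subgroup.zpowers g := (hg _).1 (hT.tfix i k (fun h => hik h.symm))
  have hgfix : t i g = g := (hg g).2 (Subgroup.mem_zpowers g)
  have h1 : h j g ∈ Subgroup.zpowers g := by
    rw [← hg, hS.commute (hT.tmem i) (hK.mem j), hgfix]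
  rcases sign_of_invol hS.hp hS.hp2 hS.hP (h j) (hS.invol (hK.mem j)) g h1 with h2 | h2
  · have h3 : g ∈ Subgroup.zpowers (x j) := (hK.fix j g).1 h2
    have h4 : Subgroup.zpowers g ≤ Subgroup.zpowers (x j) := by
      rw [Subgroup.zpowers_le]; exact h3
    apply hK.not_mem_pair hS k j i hjk.symm hij.symm hik.symm
    have hle : Subgroup.zpowers (x j) ≤ Subgroup.closure ({x j, x i} : Set P) := by
      rw [Subgroup.zpowers_le]
      exact Subgroup.subset_closure (by simp)
    exact hle (h4 hxk)
  · obtain ⟨m, hm⟩ := Subgroup.mem_zpowers_iff.1 hxj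
    have h3 : h j (x j) = (x j)⁻¹ := by
      rw [← hm, map_zpow, h2, inv_zpow]
    rw [hK.fix_self hS j] at h3
    exact hK.x_inv_ne hS j h3.symm

/-- Commutators of the generators lie in the third term of the lower central series. -/
lemma comm_mem (i j k : Fin 3) (hij : i ≠ j) (hjk : j ≠ k) (hik : i ≠ k) :
    ⁅x j, x k⁆ ∈ ⁅commutator P, (⊤ : Subgroup P)⁆ := by
  set N := ⁅commutator P, (⊤ : Subgroup P)⁆ with hN
  obtain ⟨c, hc⟩ : ∃ c, c = ⁅x j, x k⁆ := ⟨_, rfl⟩
  rw [← hc]
  have htc : t i c = c := by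
    rw [hc, map_commutatorElement, hT.tfix i j (fun h => hij h.symm),
      hT.tfix i k (fun h => hik h.symm)]
  have hhc : c⁻¹ * h i c ∈ N := by
    rw [hc, map_commutatorElement, hK.h_inverts hS i j hij, hK.h_inverts hS i k hik]
    exact comm_inv_inv_mod _ _
  obtain ⟨c', hc'fix, hc'⟩ := lift_fixed hS.odd_card (h i) (hS.invol (hK.mem i)) N c hhc
  have hc'mem : c' ∈ Subgroup.zpowers (x i) := (hK.fix i c').1 hc'fix
  have htc' : t i c' = c'⁻¹ := by
    obtain ⟨m, hm⟩ := Subgroup.mem_zpowers_iff.1 hc'mem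
    rw [← hm, map_zpow, hT.tinv i, inv_zpow]
  -- c = c' * n
  obtain ⟨n, hn⟩ : ∃ n, n = c'⁻¹ * c := ⟨_, rfl⟩
  have hnN : n ∈ N := by rw [hn]; exact hc'
  have hcn : c = c' * n := by rw [hn]; group
  have htn : t i n ∈ N := gamma3_invariant (t i) hnN
  have h1 : c' * n = c'⁻¹ * t i n := by
    rw [← hcn]
    conv_lhs => rw [← htc]
    rw [hcn, map_mul, htc']
  have h2 : c' * c' = t i n * n⁻¹ := by
    have : c' * c' = c' * (c' * n) * n⁻¹ := by group
    rw [this, h1]; group
  have h3 : c' * c' ∈ N := by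
    rw [h2]; exact N.mul_mem htn (N.inv_mem hnN)
  have h4 : c' ∈ N := by
    have hle : Subgroup.zpowers (c' * c') ≤ N := by
      rw [Subgroup.zpowers_le]; exact h3
    exact hle (mem_zpowers_sq hS.odd_card c')
  rw [hcn]
  exact N.mul_mem h4 hnN

/-- `P` is abelian. -/
theorem comm (a b : P) : a * b = b * a := by
  have : Fact p.Prime := ⟨hS.hp⟩
  have : Group.IsNilpotent P := hS.hP.isNilpotent
  set N := ⁅commutator P, (⊤ : Subgroup P)⁆ with hN
  have hNn : N.Normal := by rw [hN, commutator_def]; infer_instance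
  -- the generators commute modulo N
  have hgen : ∀ j k : Fin 3, ⁅x j, x k⁆ ∈ N := by
    intro j k
    by_cases hjk : j = k
    · rw [hjk, commutatorElement_self]; exact N.one_mem
    · obtain ⟨i, hki, hji⟩ := fin3_third j k hjk
      exact hK.comm_mem hS hT i j k (fun h => hji h.symm) hjk (fun h => hki h.symm)
  -- the quotient is commutative
  have hQ : ∀ u v : P ⧸ N, u * v = v * u := by
    have hcl : Subgroup.closure (Set.range (fun l => (QuotientGroup.mk (x l) : P ⧸ N))) = ⊤ := by
      have h1 : Set.range (fun l => (QuotientGroup.mk (x l) : P ⧸ N))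
          = (QuotientGroup.mk' N) '' (Set.range x) := by
        ext y
        simp [Set.mem_image]
      rw [h1, ← MonoidHom.map_closure, hK.gen hS, ← MonoidHom.range_eq_map,
        MonoidHom.range_eq_top]
      exact QuotientGroup.mk'_surjective N
    have hc := Subgroup.isMulCommutative_closure
      (k := Set.range (fun l => (QuotientGroup.mk (x l) : P ⧸ N))) (by
        rintro _ ⟨j, rfl⟩ _ ⟨k, rfl⟩
        have h2 : (QuotientGroup.mk ⁅x j, x k⁆ : P ⧸ N) = 1 :=
          (QuotientGroup.eq_one_iff _).2 (hgen j k)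
        rw [commutatorElement_def] at h2
        simp only [QuotientGroup.mk_mul, QuotientGroup.mk_inv] at h2
        exact commutatorElement_eq_one_iff_mul_comm.1 h2)
    intro u v
    have hu : u ∈ Subgroup.closure (Set.range (fun l => (QuotientGroup.mk (x l) : P ⧸ N))) := by
      rw [hcl]; trivial
    have hv : v ∈ Subgroup.closure (Set.range (fun l => (QuotientGroup.mk (x l) : P ⧸ N))) := by
      rw [hcl]; trivial
    have := hc.is_comm.comm ⟨u, hu⟩ ⟨v, hv⟩
    exact congrArg Subtype.val this
  have hle : commutator P ≤ N := by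
    rw [commutator_def, Subgroup.commutator_le]
    intro g₁ _ g₂ _
    rw [← QuotientGroup.eq_one_iff, commutatorElement_def]
    simp only [QuotientGroup.mk_mul, QuotientGroup.mk_inv]
    rw [hQ (g₁ : P ⧸ N) (g₂ : P ⧸ N)]
    group
  have hbot := commutator_eq_bot_of_le hle
  have h1 : ⁅a, b⁆ ∈ commutator P := by
    rw [commutator_def]
    exact Subgroup.commutator_mem_commutator (Subgroup.mem_top a) (Subgroup.mem_top b)
  rw [hbot, Subgroup.mem_bot, commutatorElement_eq_one_iff_mul_comm] at h1
  exact h1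

end KData

end Cfsg.Agent.Helper4.InvAct
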