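import Mathlib.GroupTheory.PGroup
import Mathlib.GroupTheory.OrderOfElement
import Mathlib.Data.ZMod.Basic
import Mathlib.Tactic.Abel
import Mathlib.Tactic.Ring
import Mathlib.Tactic.Linarith
import Mathlib.Tactic.Positivity
import Mathlib.RingTheory.Int.Basic
import Mathlib.Algebra.Group.TypeTags.Basic

set_option autoImplicit false
set_option linter.unusedSectionVars false

namespace Cfsg.Agent.Helper4.InvAct

/-- An abelian `p`-group (`p` odd) with three nontrivial "eigen-elements" for distinct sign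
characters is not generated by two elements. -/
theorem not_two_gen_comm {P : Type*} [CommGroup P] [Finite P] {p : ℕ} (hp : p.Prime)
    (hp2 : p ≠ 2) (hP : IsPGroup p P) (x : Fin 3 → P) (h : Fin 3 → (P →* P))
    (hfix : ∀ i y, h i y = y → y ∈ Subgroup.zpowers (x i))
    (hself : ∀ i, h i (x i) = x i)
    (hinv : ∀ i j, i ≠ j → h i (x j) = (x j)⁻¹)
    (hinvol : ∀ i y, h i (h i y) = y)
    (hne : ∀ i, x i ≠ 1) :
    ¬ ∃ u v : P, Subgroup.closure ({u, v} : Set P) = ⊤ := by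
  have : Fact p.Prime := ⟨hp⟩
  have hpZ : Prime (p : ℤ) := Nat.prime_iff_prime_int.1 hp
  -- Claim A
  have claimA : ∀ i j k : Fin 3, i ≠ j → i ≠ k → ∀ a b c : ℤ,
      (∃ z : P, z ^ p = (x i) ^ a * (x j) ^ b * (x k) ^ c) → (p : ℤ) ∣ a := by
    intro i j k hij hik a b c ⟨z, hz⟩
    have hw : h i (z * h i z) = z * h i z := by
      rw [map_mul, hinvol, mul_comm]
    obtain ⟨m, hm⟩ := Subgroup.mem_zpowers_iff.1 (hfix i _ hw)
    have h1 : (z * h i z) ^ p = (x i) ^ (a + a) := by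
      rw [mul_pow, ← map_pow, hz, map_mul, map_mul, map_zpow, map_zpow, map_zpow, hself,
        hinv i j hij, hinv i k hik, inv_zpow, inv_zpow, zpow_add]
      generalize (x i) ^ a = A
      generalize (x j) ^ b = B
      generalize (x k) ^ c = C
      apply Additive.ofMul.injective
      simp only [ofMul_mul, ofMul_inv]
      abel
    rw [← hm, ← zpow_natCast, ← zpow_mul] at h1
    have h2 : (x i) ^ (a + a - m * p) = 1 := by
      rw [zpow_sub, ← h1, mul_inv_cancel]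
    obtain ⟨e, he⟩ := (IsPGroup.iff_orderOf.1 hP) (x i)
    have he0 : e ≠ 0 := by
      intro h0
      rw [h0, pow_zero, orderOf_eq_one_iff] at he
      exact hne i he
    have h3 : (p : ℤ) ∣ a + a - m * p := by
      have h4 := (orderOf_dvd_iff_zpow_eq_one).2 h2
      rw [he] at h4
      have h5 : (p : ℤ) ∣ ((p ^ e : ℕ) : ℤ) := by
        push_cast
        exact dvd_pow_self _ he0
      exact dvd_trans h5 h4
    have h4 : (p : ℤ) ∣ 2 * a := by
      have h5 : 2 * a = (a + a - m * p) + m * p := by ring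
      rw [h5]
      exact dvd_add h3 (dvd_mul_left _ _)
    rcases hpZ.dvd_or_dvd h4 with h5 | h5
    · exfalso
      have h6 : p ∣ 2 := by exact_mod_cast h5
      exact hp2 ((Nat.prime_dvd_prime_iff_eq hp Nat.prime_two).1 h6)
    · exact h5
  rintro ⟨u, v, huv⟩
  have hrep : ∀ y : P, ∃ A B : ℤ, u ^ A * v ^ B = y := by
    intro y
    have hy : y ∈ Subgroup.closure ({u, v} : Set P) := by rw [huv]; trivial
    exact Subgroup.mem_closure_pair.1 hy
  choose fA fB hfAB using hrep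
  -- the pigeonhole map
  let Y : Fin p × Fin p × Fin p → P := fun a =>
    (x 0) ^ ((a.1 : ℕ) : ℤ) * (x 1) ^ ((a.2.1 : ℕ) : ℤ) * (x 2) ^ ((a.2.2 : ℕ) : ℤ)
  let F : Fin p × Fin p × Fin p → ZMod p × ZMod p := fun a =>
    (((fA (Y a) : ℤ) : ZMod p), ((fB (Y a) : ℤ) : ZMod p))
  have hcard : Fintype.card (ZMod p × ZMod p) < Fintype.card (Fin p × Fin p × Fin p) := by
    rw [Fintype.card_prod, Fintype.card_prod, Fintype.card_prod, ZMod.card, Fintype.card_fin]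
    have h2 : 2 ≤ p := hp.two_le
    nlinarith
  obtain ⟨a, a', hne', hF⟩ := Fintype.exists_ne_map_eq_of_card_lt F hcard
  have hF1 : (p : ℤ) ∣ fA (Y a') - fA (Y a) :=
    (ZMod.intCast_eq_intCast_iff_dvd_sub _ _ _).1 (congrArg Prod.fst hF)
  have hF2 : (p : ℤ) ∣ fB (Y a') - fB (Y a) :=
    (ZMod.intCast_eq_intCast_iff_dvd_sub _ _ _).1 (congrArg Prod.snd hF)
  obtain ⟨q1, hq1⟩ := hF1
  obtain ⟨q2, hq2⟩ := hF2
  -- the quotient element is a p-th power
  have hpow : (u ^ q1 * v ^ q2) ^ p = Y a' * (Y a)⁻¹ := by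
    rw [← hfAB (Y a'), ← hfAB (Y a)]
    rw [mul_pow, ← zpow_natCast, ← zpow_natCast, ← zpow_mul, ← zpow_mul]
    have e1 : q1 * (p : ℤ) = fA (Y a') - fA (Y a) := by rw [hq1]; ring
    have e2 : q2 * (p : ℤ) = fB (Y a') - fB (Y a) := by rw [hq2]; ring
    rw [e1, e2, zpow_sub, zpow_sub]
    generalize u ^ fA (Y a') = U1
    generalize u ^ fA (Y a) = U2
    generalize v ^ fB (Y a') = V1
    generalize v ^ fB (Y a) = V2
    apply Additive.ofMul.injective
    simp only [ofMul_mul, ofMul_inv]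
    abel
  have hYdiff : Y a' * (Y a)⁻¹ = (x 0) ^ (((a'.1 : ℕ) : ℤ) - ((a.1 : ℕ) : ℤ))
      * (x 1) ^ (((a'.2.1 : ℕ) : ℤ) - ((a.2.1 : ℕ) : ℤ))
      * (x 2) ^ (((a'.2.2 : ℕ) : ℤ) - ((a.2.2 : ℕ) : ℤ)) := by
    simp only [Y]
    rw [zpow_sub, zpow_sub, zpow_sub]
    generalize (x 0) ^ ((a'.1 : ℕ) : ℤ) = A1
    generalize (x 0) ^ ((a.1 : ℕ) : ℤ) = A2
    generalize (x 1) ^ ((a'.2.1 : ℕ) : ℤ) = B1
    generalize (x 1) ^ ((a.2.1 : ℕ) : ℤ) = B2
    generalize (x 2) ^ ((a'.2.2 : ℕ) : ℤ) = C1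
    generalize (x 2) ^ ((a.2.2 : ℕ) : ℤ) = C2
    apply Additive.ofMul.injective
    simp only [ofMul_mul, ofMul_inv]
    abel
  rw [hYdiff] at hpow
  set d0 : ℤ := ((a'.1 : ℕ) : ℤ) - ((a.1 : ℕ) : ℤ) with hd0
  set d1 : ℤ := ((a'.2.1 : ℕ) : ℤ) - ((a.2.1 : ℕ) : ℤ) with hd1
  set d2 : ℤ := ((a'.2.2 : ℕ) : ℤ) - ((a.2.2 : ℕ) : ℤ) with hd2
  have hdvd0 : (p : ℤ) ∣ d0 :=
    claimA 0 1 2 (by decide) (by decide) d0 d1 d2 ⟨_, hpow⟩
  have hdvd1 : (p : ℤ) ∣ d1 := by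
    apply claimA 1 0 2 (by decide) (by decide) d1 d0 d2 ⟨_, _⟩
    · exact u ^ q1 * v ^ q2
    · rw [hpow, mul_comm ((x 0) ^ d0)]
  have hdvd2 : (p : ℤ) ∣ d2 := by
    apply claimA 2 0 1 (by decide) (by decide) d2 d0 d1 ⟨_, _⟩
    · exact u ^ q1 * v ^ q2
    · rw [hpow, mul_comm, mul_assoc]
  -- small differences divisible by p vanish
  have hsmall : ∀ (s s' : Fin p), (p : ℤ) ∣ ((s' : ℕ) : ℤ) - ((s : ℕ) : ℤ) → s' = s := by
    intro s s' hd
    have h1 : ((s : ℕ) : ℤ) < p := by exact_mod_cast s.2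
    have h2 : ((s' : ℕ) : ℤ) < p := by exact_mod_cast s'.2
    have h3 : (0 : ℤ) ≤ ((s : ℕ) : ℤ) := by positivity
    have h4 : (0 : ℤ) ≤ ((s' : ℕ) : ℤ) := by positivity
    obtain ⟨q, hq⟩ := hd
    have hq0 : q = 0 := by
      have hp0 : (0 : ℤ) < p := by exact_mod_cast hp.pos
      by_contra hq0
      rcases lt_or_gt_of_ne hq0 with h5 | h5
      · have : (p : ℤ) * q ≤ (p : ℤ) * (-1) := by
          apply mul_le_mul_of_nonneg_left _ hp0.le
          omega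
        omega
      · have : (p : ℤ) * 1 ≤ (p : ℤ) * q := by
          apply mul_le_mul_of_nonneg_left _ hp0.le
          omega
        omega
    rw [hq0, mul_zero] at hq
    apply Fin.ext
    have : ((s' : ℕ) : ℤ) = ((s : ℕ) : ℤ) := by omega
    exact_mod_cast this
  apply hne'
  have e0 := hsmall a.1 a'.1 hdvd0
  have e1 := hsmall a.2.1 a'.2.1 hdvd1
  have e2 := hsmall a.2.2 a'.2.2 hdvd2
  exact (Prod.ext e0 (Prod.ext e1 e2)).symm

end Cfsg.Agent.Helper4.InvAct
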