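import Cfsg.Agent.Helper4.InvActG
import Cfsg.Agent.Helper4.InvActH

set_option autoImplicit false
set_option linter.unusedSectionVars false

namespace Cfsg.Agent.Helper4.InvAct

variable {P : Type*} [Group P] [Finite P]

namespace KData

variable {p : ℕ} {I : Subgroup (MulAut P)} {h : Fin 3 → MulAut P} {x : Fin 3 → P}
variable (hS : Setup (P := P) p I) (hK : KData I h x)
include hS hK

lemma h_narrow (i : Fin 3) : Narrow (h i) := ⟨x i, hK.fix i⟩

section
variable {t : Fin 3 → MulAut P} {t0 : MulAut P} (hT : TData I x t t0)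
include hT

lemma t0_inverts (y : P) : t0 y = y⁻¹ := by
  have hy : y ∈ Subgroup.closure (Set.range x) := by rw [hK.gen hS]; trivial
  induction hy using Subgroup.closure_induction with
  | mem z hz =>
    obtain ⟨i, rfl⟩ := hz
    exact hT.t0inv i
  | one => simp
  | mul a b _ _ ha hb => rw [map_mul, ha, hb, mul_inv_rev, hK.comm hS hT]
  | inv a _ ha => rw [map_inv, ha]

lemma t0_narrow : Narrow t0 := by
  refine ⟨1, fun y => ?_⟩
  rw [Subgroup.zpowers_one_eq_bot, Subgroup.mem_bot, hK.t0_inverts hS hT]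
  constructor
  · intro h1
    by_contra hy
    exact hS.inv_ne_self hy h1
  · rintro rfl
    simp

lemma t_ne_one (i : Fin 3) : t i ≠ 1 := by
  intro h1
  have := hT.tinv i
  rw [h1] at this
  exact hK.x_inv_ne hS i this.symm

lemma t_injective : Function.Injective t := by
  intro i j hij
  by_contra hne
  have h1 := hT.tfix j i hne
  rw [← hij, hT.tinv i] at h1
  exact hK.x_inv_ne hS i h1

lemma broad_eq {T : MulAut P} (hTI : T ∈ I) (hT1 : T ≠ 1) (hTb : ¬ Narrow T) : ∃ i, T = t i := by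
  rcases hK.classify hS hT hTI with h1 | ⟨i, h1⟩ | ⟨i, h1⟩ | h1
  · exact absurd h1 hT1
  · exfalso; rw [h1] at hTb; exact hTb (hK.h_narrow hS i)
  · exact ⟨i, h1⟩
  · exfalso; rw [h1] at hTb; exact hTb (hK.t0_narrow hS hT)

theorem not_two_gen : ¬ ∃ u v : P, Subgroup.closure ({u, v} : Set P) = ⊤ := by
  have hcomm := hK.comm hS hT
  letI : CommGroup P := { (inferInstance : Group P) with mul_comm := hcomm }
  exact not_two_gen_comm hS.hp hS.hp2 hS.hP x (fun i => (h i).toMonoidHom)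
    (fun i y hy => (hK.fix i y).1 hy) (fun i => hK.fix_self hS i)
    (fun i j hij => hK.h_inverts hS i j hij) (fun i y => hS.invol (hK.mem i) y)
    (fun i => hK.x_ne_one hS i)

end

/-- The main structure theorem for a Klein four-group of narrow elements. -/
theorem main : ∃ t : Fin 3 → MulAut P,
    (∀ i, t i ∈ I) ∧ (∀ i, t i ≠ 1) ∧ (∀ i, ¬ Narrow (t i)) ∧ Function.Injective t ∧
    (∀ i j k : Fin 3, i ≠ j → j ≠ k → i ≠ k → t j * t k = h i) ∧
    (∀ T ∈ I, T ≠ 1 → ¬ Narrow T → ∃ i, T = t i) ∧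
    (∀ a b : P, a * b = b * a) ∧ Subgroup.closure (Set.range x) = ⊤ ∧
    ¬ ∃ u v : P, Subgroup.closure ({u, v} : Set P) = ⊤ := by
  obtain ⟨t, t0, hT⟩ := hK.exists_TData hS
  exact ⟨t, hT.tmem, hK.t_ne_one hS hT, hK.t_broad hS hT, hK.t_injective hS hT,
    hK.t_mul hS hT, fun T hTI hT1 hTb => hK.broad_eq hS hT hTI hT1 hTb, hK.comm hS hT,
    hK.gen hS, hK.not_two_gen hS hT⟩

end KData

end Cfsg.Agent.Helper4.InvAct
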