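import Cfsg.Agent.Helper4.InvActI
import Mathlib.Tactic.IntervalCases

set_option autoImplicit false
set_option linter.unusedSectionVars false

namespace Cfsg.Agent.Helper4.InvAct

lemma ncard_pair_le {α : Type*} (a b : α) : ({a, b} : Set α).ncard ≤ 2 := by
  refine le_trans (Set.ncard_insert_le _ _) ?_
  rw [Set.ncard_singleton]

lemma ncard_four_le {α : Type*} (a b c d : α) : ({a, b, c, d} : Set α).ncard ≤ 4 := by
  refine le_trans (Set.ncard_insert_le _ _) ?_
  refine Nat.succ_le_succ (le_trans (Set.ncard_insert_le _ _) ?_)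
  exact Nat.succ_le_succ (ncard_pair_le c d)

variable {P : Type*} [Group P] [Finite P]

/-- Pick an element of `I` outside a set with fewer elements. -/
lemma Setup.exists_notMem {p : ℕ} {I : Subgroup (MulAut P)} (hS : Setup (P := P) p I)
    (s : Set (MulAut P)) (hs : s.Finite) (hcard : s.ncard < 8) : ∃ T ∈ I, T ∉ s := by
  have h8 : (I : Set (MulAut P)).ncard = 8 := by
    rw [← hS.card]; exact (Nat.card_coe_set_eq _).symm
  obtain ⟨T, hT, hTs⟩ := Set.exists_mem_notMem_of_ncard_lt_ncard (by rw [h8]; exact hcard) hs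
  exact ⟨T, hT, hTs⟩

lemma Setup.inv_eq {p : ℕ} {I : Subgroup (MulAut P)} (hS : Setup (P := P) p I)
    {T : MulAut P} (hT : T ∈ I) : T⁻¹ = T := inv_eq_of_mul_eq_one_right (hS.sq T hT)

/-- Existence of a Klein four-group of narrow elements. -/
lemma exists_narrow_klein {p : ℕ} {I : Subgroup (MulAut P)} (hS : Setup (P := P) p I)
    (I₀ : Subgroup (MulAut P)) (hI₀ : I₀ < I)
    (hdisj : ∀ T ∈ I₀, T ≠ 1 → Narrow T)
    (hprod : ∀ T ∈ I, ∀ T' ∈ I, T ≠ 1 → T' ≠ 1 → ¬ Narrow T → ¬ Narrow T' → T * T' ∈ I₀) :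
    ∃ h1 h2 : MulAut P, h1 ∈ I ∧ h2 ∈ I ∧ h1 ≠ 1 ∧ h2 ≠ 1 ∧ h1 ≠ h2 ∧ Narrow h1 ∧ Narrow h2 ∧
      Narrow (h1 * h2) := by
  have hfinI : Finite I := Nat.finite_of_card_ne_zero (by rw [hS.card]; norm_num)
  have hfin0 : Finite I₀ := Finite.of_injective (fun T : I₀ => (⟨T.1, hI₀.le T.2⟩ : I))
    (fun a b hab => Subtype.ext (congrArg (fun z : I => z.1) hab))
  have hdvd : Nat.card I₀ ∣ 8 := by
    rw [← hS.card]; exact Subgroup.card_dvd_of_le hI₀.le
  have hne8 : Nat.card I₀ ≠ 8 := by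
    intro h8
    have : I₀ = I := Subgroup.eq_of_le_of_card_ge hI₀.le (by rw [h8, hS.card])
    exact hI₀.ne this
  have hcases : Nat.card I₀ = 1 ∨ Nat.card I₀ = 2 ∨ Nat.card I₀ = 4 := by
    have h8 : (8 : ℕ) = 2 ^ 3 := by norm_num
    rw [h8, Nat.dvd_prime_pow Nat.prime_two] at hdvd
    obtain ⟨m, hm, hm2⟩ := hdvd
    interval_cases m
    · left; simpa using hm2
    · right; left; simpa using hm2
    · right; right; simpa using hm2
    · exfalso; apply hne8; simpa using hm2
  have hn0 : (I₀ : Set (MulAut P)).ncard = Nat.card I₀ := (Nat.card_coe_set_eq _).symm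
  by_cases hB : ∃ T ∈ I, T ≠ 1 ∧ ¬ Narrow T
  swap
  · -- no broad elements at all
    push Not at hB
    obtain ⟨u, huI, hu⟩ := hS.exists_notMem {1} (Set.finite_singleton _)
      (by rw [Set.ncard_singleton]; norm_num)
    obtain ⟨w, hwI, hw⟩ := hS.exists_notMem {1, u} (Set.toFinite _)
      (lt_of_le_of_lt (ncard_pair_le _ _) (by norm_num))
    simp only [Set.mem_singleton_iff, Set.mem_insert_iff, not_or] at hu hw
    refine ⟨u, w, huI, hwI, hu, hw.1, fun h => hw.2 h.symm, hB u huI hu, hB w hwI hw.1, ?_⟩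
    apply hB _ (I.mul_mem huI hwI)
    intro h1
    apply hw.2
    rw [← hS.inv_eq huI]
    exact (eq_inv_of_mul_eq_one_right h1)
  obtain ⟨Ts, hTsI, hTs1, hTsb⟩ := hB
  rcases hcases with h1 | h2 | h4
  · -- I₀ trivial
    have hbot : I₀ = ⊥ := Subgroup.card_eq_one.1 h1
    have hBeq : ∀ T ∈ I, T ≠ 1 → ¬ Narrow T → T = Ts := by
      intro T hT hT1 hTb
      have := hprod Ts hTsI T hT hTs1 hT1 hTsb hTb
      rw [hbot, Subgroup.mem_bot] at this
      rw [← hS.inv_eq hTsI]
      exact (eq_inv_of_mul_eq_one_right this)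
    obtain ⟨u, huI, hu⟩ := hS.exists_notMem {1, Ts} (Set.toFinite _)
      (lt_of_le_of_lt (ncard_pair_le _ _) (by norm_num))
    obtain ⟨w, hwI, hw⟩ := hS.exists_notMem {1, Ts, u, u * Ts} (Set.toFinite _)
      (lt_of_le_of_lt (ncard_four_le _ _ _ _) (by norm_num))
    simp only [Set.mem_singleton_iff, Set.mem_insert_iff, not_or] at hu hw
    have hun : Narrow u := by
      by_contra hb
      exact hu.2 (hBeq u huI hu.1 hb)
    have hwn : Narrow w := by
      by_contra hb
      exact hw.2.1 (hBeq w hwI hw.1 hb)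
    refine ⟨u, w, huI, hwI, hu.1, hw.1, fun h => hw.2.2.1 h.symm, hun, hwn, ?_⟩
    by_contra hb
    have huw1 : u * w ≠ 1 := by
      intro h1
      apply hw.2.2.1
      rw [← hS.inv_eq huI]
      exact (eq_inv_of_mul_eq_one_right h1)
    have := hBeq (u * w) (I.mul_mem huI hwI) huw1 hb
    apply hw.2.2.2
    rw [← this, ← mul_assoc, hS.sq u huI, one_mul]
  · -- I₀ of order two
    have hn2 : (I₀ : Set (MulAut P)).ncard = 2 := by rw [hn0, h2]
    obtain ⟨k, hk0, hk⟩ : ∃ k ∈ (I₀ : Set (MulAut P)), k ∉ ({1} : Set (MulAut P)) := by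
      apply Set.exists_mem_notMem_of_ncard_lt_ncard _ (Set.finite_singleton _)
      rw [hn2, Set.ncard_singleton]; norm_num
    simp only [Set.mem_singleton_iff] at hk
    have hkI : k ∈ I := hI₀.le hk0
    have hI0set : ({1, k} : Set (MulAut P)) = (I₀ : Set (MulAut P)) := by
      apply Set.eq_of_subset_of_ncard_le
      · rintro y (rfl | rfl)
        · exact I₀.one_mem
        · exact hk0
      · rw [hn2, Set.ncard_pair (fun h => hk h.symm)]
      · exact Set.toFinite _
    have hBeq : ∀ T ∈ I, T ≠ 1 → ¬ Narrow T → T = Ts ∨ T = Ts * k := by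
      intro T hT hT1 hTb
      have h3 : Ts * T ∈ (I₀ : Set (MulAut P)) := hprod Ts hTsI T hT hTs1 hT1 hTsb hTb
      rw [← hI0set] at h3
      rcases h3 with h3 | h3
      · left
        rw [← hS.inv_eq hTsI]
        exact (eq_inv_of_mul_eq_one_right h3)
      · right
        have h3' : Ts * T = k := h3
        rw [← h3', ← mul_assoc, hS.sq Ts hTsI, one_mul]
    obtain ⟨u, huI, hu⟩ := hS.exists_notMem {1, k, Ts, Ts * k} (Set.toFinite _)
      (lt_of_le_of_lt (ncard_four_le _ _ _ _) (by norm_num))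
    simp only [Set.mem_singleton_iff, Set.mem_insert_iff, not_or] at hu
    have hun : Narrow u := by
      by_contra hb
      rcases hBeq u huI hu.1 hb with h3 | h3
      · exact hu.2.2.1 h3
      · exact hu.2.2.2 h3
    have huk1 : u * k ≠ 1 := by
      intro h1
      apply hu.2.1
      rw [← hS.inv_eq hkI]
      exact eq_inv_of_mul_eq_one_left h1
    have hukn : Narrow (u * k) := by
      by_contra hb
      rcases hBeq (u * k) (I.mul_mem huI hkI) huk1 hb with h3 | h3
      · apply hu.2.2.2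
        have : u = u * k * k := by rw [mul_assoc, hS.sq k hkI, mul_one]
        rw [this, h3]
      · exact hu.2.2.1 (mul_right_cancel h3)
    refine ⟨u, u * k, huI, I.mul_mem huI hkI, hu.1, huk1, ?_, hun, hukn, ?_⟩
    · intro h
      apply hk
      have : u * 1 = u * k := by rw [mul_one]; exact h
      exact (mul_left_cancel this).symm
    · rw [← mul_assoc, hS.sq u huI, one_mul]
      exact hdisj k hk0 hk
  · -- I₀ of order four
    have hn4 : (I₀ : Set (MulAut P)).ncard = 4 := by rw [hn0, h4]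
    obtain ⟨u, hu0, hu⟩ : ∃ u ∈ (I₀ : Set (MulAut P)), u ∉ ({1} : Set (MulAut P)) := by
      apply Set.exists_mem_notMem_of_ncard_lt_ncard _ (Set.finite_singleton _)
      rw [hn4, Set.ncard_singleton]; norm_num
    obtain ⟨w, hw0, hw⟩ : ∃ w ∈ (I₀ : Set (MulAut P)), w ∉ ({1, u} : Set (MulAut P)) := by
      apply Set.exists_mem_notMem_of_ncard_lt_ncard _ (Set.toFinite _)
      rw [hn4]
      exact lt_of_le_of_lt (ncard_pair_le _ _) (by norm_num)
    simp only [Set.mem_singleton_iff, Set.mem_insert_iff, not_or] at hu hw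
    have huI : u ∈ I := hI₀.le hu0
    have hwI : w ∈ I := hI₀.le hw0
    refine ⟨u, w, huI, hwI, hu, hw.1, fun h => hw.2 h.symm, hdisj u hu0 hu, hdisj w hw0 hw.1, ?_⟩
    apply hdisj _ (I₀.mul_mem hu0 hw0)
    intro h1
    apply hw.2
    rw [← hS.inv_eq huI]
    exact (eq_inv_of_mul_eq_one_right h1)

end Cfsg.Agent.Helper4.InvAct
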