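import Cfsg.Agent.Helper4.InvActJ

set_option autoImplicit false
set_option linter.unusedSectionVars false

namespace Cfsg.Agent.Helper4.InvAct

variable {P : Type*} [Group P] [Finite P]

lemma ncard_klein {α : Type*} [Group α] (h1 h2 : α) (h1ne : h1 ≠ 1) (h2ne : h2 ≠ 1)
    (h12 : h1 ≠ h2) (hsq : h1 * h1 = 1) :
    ({1, h1, h2, h1 * h2} : Set α).ncard = 4 := by
  have e1 : h1 * h2 ≠ 1 := by
    intro h
    apply h12
    have : h1 * h2 = h1 * h1 := by rw [h, hsq]
    exact (mul_left_cancel this).symm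
  have e2 : h1 * h2 ≠ h1 := by
    intro h
    apply h2ne
    have : h1 * h2 = h1 * 1 := by rw [h, mul_one]
    exact mul_left_cancel this
  have e3 : h1 * h2 ≠ h2 := by
    intro h
    apply h1ne
    have : h1 * h2 = 1 * h2 := by rw [h, one_mul]
    exact mul_right_cancel this
  rw [Set.ncard_insert_of_notMem, Set.ncard_insert_of_notMem, Set.ncard_pair]
  · exact fun h => e3 h.symm
  · simp only [Set.mem_insert_iff, Set.mem_singleton_iff, not_or]
    exact ⟨h12, fun h => e2 h.symm⟩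
  · simp only [Set.mem_insert_iff, Set.mem_singleton_iff, not_or]
    exact ⟨fun h => h1ne h.symm, fun h => h2ne h.symm, fun h => e1 h.symm⟩

theorem final {p : ℕ} {I : Subgroup (MulAut P)} (hS : Setup (P := P) p I)
    (I₀ : Subgroup (MulAut P)) (hI₀ : I₀ < I)
    (hdisj : ∀ T ∈ I₀, T ≠ 1 → Narrow T)
    (hprod : ∀ T ∈ I, ∀ T' ∈ I, T ≠ 1 → T' ≠ 1 → ¬ Narrow T → ¬ Narrow T' → T * T' ∈ I₀) :
    (∀ a b : P, a * b = b * a) ∧
    (∃ a b c : P, Subgroup.closure ({a, b, c} : Set P) = ⊤) ∧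
    (¬ ∃ a b : P, Subgroup.closure ({a, b} : Set P) = ⊤) ∧
    Nat.card {T : MulAut P // T ∈ I ∧ T ≠ 1 ∧ ¬ Narrow T} = 3 ∧
    Subgroup.closure {T : MulAut P | T ∈ I ∧ T ≠ 1 ∧ ¬ Narrow T} = I ∧
    (I₀ : Set (MulAut P)) = {S : MulAut P | ∃ T T' : MulAut P, T ∈ I ∧ T' ∈ I ∧ T ≠ 1 ∧ T' ≠ 1 ∧
      ¬ Narrow T ∧ ¬ Narrow T' ∧ S = T * T'} := by
  obtain ⟨h1, h2, h1I, h2I, h1ne, h2ne, h12ne, ⟨x1, hx1⟩, ⟨x2, hx2⟩, ⟨x3, hx3⟩⟩ :=
    exists_narrow_klein hS I₀ hI₀ hdisj hprod
  have hc12 : h1 * h2 = h2 * h1 := hS.comm h1 h1I h2 h2I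
  have hs1 : h1 * h1 = 1 := hS.sq h1 h1I
  have hs2 : h2 * h2 = 1 := hS.sq h2 h2I
  -- the six product relations
  have e12 : h1 * h2 = h1 * h2 := rfl
  have e21 : h2 * h1 = h1 * h2 := hc12.symm
  have e13 : h1 * (h1 * h2) = h2 := by rw [← mul_assoc, hs1, one_mul]
  have e31 : h1 * h2 * h1 = h2 := by rw [hc12, mul_assoc, hs1, mul_one]
  have e23 : h2 * (h1 * h2) = h1 := by rw [hc12, ← mul_assoc, hs2, one_mul]
  have e32 : h1 * h2 * h2 = h1 := by rw [mul_assoc, hs2, mul_one]
  have hK : KData I ![h1, h2, h1 * h2] ![x1, x2, x3] := by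
    refine ⟨?_, ?_, ?_⟩
    · intro i
      fin_cases i
      · exact h1I
      · exact h2I
      · exact I.mul_mem h1I h2I
    · intro i j k hij hjk hik
      fin_cases i <;> fin_cases j <;> fin_cases k <;>
        first
        | exact absurd rfl hij
        | exact absurd rfl hjk
        | exact absurd rfl hik
        | exact e12
        | exact e21
        | exact e13
        | exact e31
        | exact e23
        | exact e32
    · intro i
      fin_cases i
      · exact hx1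
      · exact hx2
      · exact hx3
  obtain ⟨t, tI, tne, tbroad, tinj, tmul, tall, hcomm, hgen, hnot2⟩ := hK.main hS
  have ht12 : t 1 * t 2 = h1 := tmul 0 1 2 (by decide) (by decide) (by decide)
  have ht02 : t 0 * t 2 = h2 := tmul 1 0 2 (by decide) (by decide) (by decide)
  have ht01 : t 0 * t 1 = h1 * h2 := tmul 2 0 1 (by decide) (by decide) (by decide)
  have hbr : ∀ i j, t i * t j ∈ I₀ := fun i j =>
    hprod _ (tI i) _ (tI j) (tne i) (tne j) (tbroad i) (tbroad j)
  -- the subgroup I₀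
  have hsub : ({1, h1, h2, h1 * h2} : Set (MulAut P)) ⊆ (I₀ : Set (MulAut P)) := by
    rintro y (rfl | rfl | rfl | rfl)
    · exact I₀.one_mem
    · rw [← ht12]; exact hbr 1 2
    · rw [← ht02]; exact hbr 0 2
    · have := hbr 0 1
      rw [ht01] at this
      exact this
  have hn4 := ncard_klein h1 h2 h1ne h2ne h12ne hs1
  have hfinI : Finite I := Nat.finite_of_card_ne_zero (by rw [hS.card]; norm_num)
  have hfin0 : Finite I₀ := Finite.of_injective (fun T : I₀ => (⟨T.1, hI₀.le T.2⟩ : I))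
    (fun a b hab => Subtype.ext (congrArg (fun z : I => z.1) hab))
  have hI0set : ({1, h1, h2, h1 * h2} : Set (MulAut P)) = (I₀ : Set (MulAut P)) := by
    apply Set.eq_of_subset_of_ncard_le hsub _ (Set.toFinite _)
    rw [hn4]
    have hn0 : (I₀ : Set (MulAut P)).ncard = Nat.card I₀ := (Nat.card_coe_set_eq _).symm
    rw [hn0]
    have hdvd : Nat.card I₀ ∣ 8 := by
      rw [← hS.card]; exact Subgroup.card_dvd_of_le hI₀.le
    have hne8 : Nat.card I₀ ≠ 8 := by
      intro h8
      have : I₀ = I := Subgroup.eq_of_le_of_card_ge hI₀.le (by rw [h8, hS.card])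
      exact hI₀.ne this
    have h8 : (8 : ℕ) = 2 ^ 3 := by norm_num
    rw [h8, Nat.dvd_prime_pow Nat.prime_two] at hdvd
    obtain ⟨m, hm, hm2⟩ := hdvd
    interval_cases m
    · rw [hm2]; norm_num
    · rw [hm2]; norm_num
    · rw [hm2]; norm_num
    · exfalso; apply hne8; simpa using hm2
  refine ⟨hcomm, ⟨x1, x2, x3, ?_⟩, hnot2, ?_, ?_, ?_⟩
  · rw [← hgen]
    congr 1
    ext y
    simp only [Set.mem_range, Set.mem_insert_iff, Set.mem_singleton_iff]
    constructor
    · rintro (rfl | rfl | rfl)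
      · exact ⟨0, rfl⟩
      · exact ⟨1, rfl⟩
      · exact ⟨2, rfl⟩
    · rintro ⟨l, rfl⟩
      fin_cases l
      · left; rfl
      · right; left; rfl
      · right; right; rfl
  · -- exactly three broad elements
    have hbij : Function.Bijective (fun i : Fin 3 =>
        (⟨t i, tI i, tne i, tbroad i⟩ : {T : MulAut P // T ∈ I ∧ T ≠ 1 ∧ ¬ Narrow T})) := by
      constructor
      · intro i j hij
        exact tinj (congrArg Subtype.val hij)
      · rintro ⟨T, hTI, hT1, hTb⟩
        obtain ⟨i, hi⟩ := tall T hTI hT1 hTb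
        exact ⟨i, Subtype.ext hi.symm⟩
    rw [← Nat.card_congr (Equiv.ofBijective _ hbij)]
    simp
  · -- the broad elements generate I
    set B : Set (MulAut P) := {T : MulAut P | T ∈ I ∧ T ≠ 1 ∧ ¬ Narrow T} with hB
    have htB : ∀ i, t i ∈ Subgroup.closure B := fun i =>
      Subgroup.subset_closure ⟨tI i, tne i, tbroad i⟩
    have hle : Subgroup.closure B ≤ I := by
      rw [Subgroup.closure_le]
      intro T hT
      exact hT.1
    apply Subgroup.eq_of_le_of_card_ge hle
    have hfinC : Finite (Subgroup.closure B) :=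
      Finite.of_injective (fun T : Subgroup.closure B => (⟨T.1, hle T.2⟩ : I))
        (fun a b hab => Subtype.ext (congrArg (fun z : I => z.1) hab))
    have h5 : 5 ≤ Nat.card (Subgroup.closure B) := by
      have hsub5 : (insert (t 0) ({1, h1, h2, h1 * h2} : Set (MulAut P)))
          ⊆ (Subgroup.closure B : Set (MulAut P)) := by
        rintro y (rfl | rfl | rfl | rfl | rfl)
        · exact htB 0
        · exact Subgroup.one_mem _
        · rw [← ht12]; exact Subgroup.mul_mem _ (htB 1) (htB 2)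
        · rw [← ht02]; exact Subgroup.mul_mem _ (htB 0) (htB 2)
        · rw [← ht01]; exact Subgroup.mul_mem _ (htB 0) (htB 1)
      have hnot : t 0 ∉ ({1, h1, h2, h1 * h2} : Set (MulAut P)) := by
        rintro (h | h | h | h)
        · exact tne 0 h
        · exact tbroad 0 (h ▸ ⟨x1, hx1⟩)
        · exact tbroad 0 (h ▸ ⟨x2, hx2⟩)
        · exact tbroad 0 (h ▸ ⟨x3, hx3⟩)
      have h5' : (insert (t 0) ({1, h1, h2, h1 * h2} : Set (MulAut P))).ncard = 5 := by
        rw [Set.ncard_insert_of_notMem hnot, hn4]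
      have := Set.ncard_le_ncard hsub5 (Set.toFinite _)
      rw [h5'] at this
      rwa [← Nat.card_coe_set_eq] at this
    have hdvd : Nat.card (Subgroup.closure B) ∣ 8 := by
      rw [← hS.card]; exact Subgroup.card_dvd_of_le hle
    rw [hS.card]
    have h8 : (8 : ℕ) = 2 ^ 3 := by norm_num
    rw [h8, Nat.dvd_prime_pow Nat.prime_two] at hdvd
    obtain ⟨m, hm, hm2⟩ := hdvd
    rw [hm2] at h5 ⊢
    interval_cases m
    · norm_num at h5
    · norm_num at h5
    · norm_num at h5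
    · norm_num
  · -- the description of I₀
    ext S
    constructor
    · intro hS0
      rw [← hI0set] at hS0
      have hsq0 : t 0 * t 0 = 1 := hS.sq _ (tI 0)
      rcases hS0 with rfl | rfl | rfl | rfl
      · exact ⟨t 0, t 0, tI 0, tI 0, tne 0, tne 0, tbroad 0, tbroad 0, hsq0.symm⟩
      · exact ⟨t 1, t 2, tI 1, tI 2, tne 1, tne 2, tbroad 1, tbroad 2, ht12.symm⟩
      · exact ⟨t 0, t 2, tI 0, tI 2, tne 0, tne 2, tbroad 0, tbroad 2, ht02.symm⟩
      · exact ⟨t 0, t 1, tI 0, tI 1, tne 0, tne 1, tbroad 0, tbroad 1, ht01.symm⟩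
    · rintro ⟨T, T', hT, hT', hT1, hT'1, hTb, hT'b, rfl⟩
      exact hprod T hT T' hT' hT1 hT'1 hTb hT'b

end Cfsg.Agent.Helper4.InvAct
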