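import Mathlib
import Cfsg.Agent.Helper1.Nilp
import Cfsg.Agent.Helper1.Coprime

set_option autoImplicit false

/-!
An elementary abelian `2`-group acting faithfully on a normal nilpotent subgroup `F` of odd order
acts faithfully on some invariant abelian subgroup of `F`.
-/

namespace Cfsg.Agent.Helper4

open Cfsg.Agent.Helper1
open scoped Pointwise commutatorElement

universe u

variable {S : Type u} [Group S]

/-- normalizer membership from one-sided conjugation in a finite group, for `g` and `g⁻¹` -/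
theorem mem_normalizer_of_conj_mem {H : Subgroup S} {g : S}
    (h1 : ∀ x ∈ H, g * x * g⁻¹ ∈ H) (h2 : ∀ x ∈ H, g⁻¹ * x * g ∈ H) :
    g ∈ Subgroup.normalizer (H : Set S) := by
  rw [Subgroup.mem_normalizer_iff]
  intro x
  constructor
  · exact h1 x
  · intro hx
    have := h2 _ hx
    simpa [mul_assoc] using this

theorem odd_order_sq_eq_one [Finite S] {F : Subgroup S} (hFodd : Odd (Nat.card F)) {c : S}
    (hc : c ∈ F) (h2 : c ^ 2 = 1) : c = 1 := by
  have h1 : orderOf (⟨c, hc⟩ : F) ∣ 2 := by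
    apply orderOf_dvd_of_pow_eq_one
    exact Subtype.ext h2
  have h3 : orderOf (⟨c, hc⟩ : F) ∣ Nat.card F := orderOf_dvd_natCard _
  have h4 : (Nat.card F).Coprime 2 := Nat.coprime_two_right.2 hFodd
  have h5 : orderOf (⟨c, hc⟩ : F) = 1 := Nat.eq_one_of_dvd_coprimes h4 h3 h1
  rw [orderOf_eq_one_iff] at h5
  exact congrArg Subtype.val h5

set_option maxHeartbeats 800000 in
theorem exists_faithful_abelian [Finite S] (F I : Subgroup S) [hFn : F.Normal]
    (hFnil : Group.IsNilpotent F) (hFodd : Odd (Nat.card F))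
    (hIcomm : ∀ a ∈ I, ∀ b ∈ I, a * b = b * a) (hI2 : ∀ a ∈ I, a ^ 2 = 1)
    (hCF : ∀ t ∈ I, t ∈ Subgroup.centralizer (F : Set S) → t = 1) :
    ∃ B : Subgroup S, B ≤ F ∧ (∀ x ∈ B, ∀ y ∈ B, x * y = y * x) ∧
      I ≤ Subgroup.normalizer (B : Set S) ∧
      ∀ t ∈ I, t ∈ Subgroup.centralizer (B : Set S) → t = 1 := by
  classical
  let 𝓑 : Set (Subgroup S) := {B | B ≤ F ∧ (∀ x ∈ B, ∀ y ∈ B, x * y = y * x) ∧
    F ≤ Subgroup.normalizer (B : Set S) ∧ I ≤ Subgroup.normalizer (B : Set S)}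
  have hbot : (⊥ : Subgroup S) ∈ 𝓑 := by
    refine ⟨bot_le, ?_, ?_, ?_⟩
    · intro x hx y hy
      rw [Subgroup.mem_bot] at hx hy
      rw [hx, hy]
    · intro g _
      rw [Subgroup.mem_normalizer_iff]
      intro x
      simp only [Subgroup.mem_bot]
      constructor
      · intro h; rw [h]; group
      · intro h
        have := congrArg (fun y => g⁻¹ * y * g) h
        simpa [mul_assoc] using this
    · intro g _
      rw [Subgroup.mem_normalizer_iff]
      intro x
      simp only [Subgroup.mem_bot]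
      constructor
      · intro h; rw [h]; group
      · intro h
        have := congrArg (fun y => g⁻¹ * y * g) h
        simpa [mul_assoc] using this
  obtain ⟨B, -, hBmax⟩ := (Set.toFinite 𝓑).exists_le_maximal hbot
  obtain ⟨hBF, hBcomm, hFB, hIB⟩ := hBmax.prop
  have hinvI : ∀ s ∈ I, s⁻¹ = s := by
    intro s hs
    have := hI2 s hs
    rw [sq] at this
    exact inv_eq_of_mul_eq_one_left this
  -- conjugation by normalizing elements preserves `B`
  have hconjB : ∀ g ∈ Subgroup.normalizer (B : Set S), ∀ b ∈ B, g * b * g⁻¹ ∈ B := by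
    intro g hg b hb
    exact (Subgroup.mem_normalizer_iff.1 hg b).1 hb
  have hconjB' : ∀ g ∈ Subgroup.normalizer (B : Set S), ∀ b ∈ B, g⁻¹ * b * g ∈ B := by
    intro g hg b hb
    have := hconjB g⁻¹ (inv_mem hg) b hb
    simpa using this
  have hBcent : ∀ b ∈ B, b ∈ Subgroup.centralizer (B : Set S) := by
    intro b hb
    rw [Subgroup.mem_centralizer_iff]
    intro y hy
    exact hBcomm y hy b hb
  -- centralizer of `B` is preserved by the normalizer
  have hconjC : ∀ g ∈ Subgroup.normalizer (B : Set S), ∀ d ∈ Subgroup.centralizer (B : Set S),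
      g * d * g⁻¹ ∈ Subgroup.centralizer (B : Set S) := by
    intro g hg d hd
    rw [Subgroup.mem_centralizer_iff] at hd ⊢
    intro b hb
    have h1 := hd _ (hconjB' g hg b hb)
    calc b * (g * d * g⁻¹) = g * ((g⁻¹ * b * g) * d) * g⁻¹ := by group
      _ = g * (d * (g⁻¹ * b * g)) * g⁻¹ := by rw [h1]
      _ = g * d * g⁻¹ * b := by group
  -- Step 1 : `C_F(B) ≤ B`
  have hself : ∀ c ∈ Subgroup.centralizer (B : Set S), c ∈ F → c ∈ B := by
    by_contra hnot
    push Not at hnot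
    obtain ⟨c, hcC, hcF, hcB⟩ := hnot
    obtain ⟨C₀, hC₀⟩ : ∃ C₀ : Subgroup F,
        C₀ = (Subgroup.centralizer (B : Set S) ⊓ F).subgroupOf F := ⟨_, rfl⟩
    obtain ⟨N₀, hN₀⟩ : ∃ N₀ : Subgroup F, N₀ = B.subgroupOf F := ⟨_, rfl⟩
    have hC₀n : C₀.Normal := by
      constructor
      intro x hx g
      rw [hC₀, Subgroup.mem_subgroupOf] at hx ⊢
      refine ⟨?_, (g * x * g⁻¹).2⟩
      exact hconjC g (hFB g.2) x hx.1
    have hnle : ¬ C₀ ≤ N₀ := by
      intro hle
      have h1 : (⟨c, hcF⟩ : F) ∈ C₀ := by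
        rw [hC₀, Subgroup.mem_subgroupOf]; exact ⟨hcC, hcF⟩
      have h2 := hle h1
      rw [hN₀, Subgroup.mem_subgroupOf] at h2
      exact hcB h2
    obtain ⟨x, hxC, hxN, hx⟩ := exists_mem_commutator_mem_of_not_le hnle
    rw [hC₀, Subgroup.mem_subgroupOf] at hxC
    rw [hN₀, Subgroup.mem_subgroupOf] at hxN
    have hx' : ∀ g ∈ F, (x : S) * g * (x : S)⁻¹ * g⁻¹ ∈ B := by
      intro g hg
      have h1 := hx ⟨g, hg⟩
      rw [hN₀, Subgroup.mem_subgroupOf] at h1
      exact h1
    -- the subgroup `Z₁`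
    let Z₁ : Subgroup S :=
      { carrier := {d | d ∈ Subgroup.centralizer (B : Set S) ∧ d ∈ F ∧
          ∀ g ∈ F, d * g * d⁻¹ * g⁻¹ ∈ B}
        one_mem' := by
          refine ⟨Subgroup.one_mem _, Subgroup.one_mem _, ?_⟩
          intro g _
          simp
        mul_mem' := by
          rintro d e ⟨hd1, hd2, hd3⟩ ⟨he1, he2, he3⟩
          refine ⟨Subgroup.mul_mem _ hd1 he1, Subgroup.mul_mem _ hd2 he2, ?_⟩
          intro g hg
          have h1 := he3 g hg
          have h2 := hd3 g hg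
          have h3 : d * (e * g * e⁻¹ * g⁻¹) = (e * g * e⁻¹ * g⁻¹) * d :=
            ((Subgroup.mem_centralizer_iff.1 hd1) _ h1).symm
          have h4 : d * e * g * (d * e)⁻¹ * g⁻¹ =
              d * (e * g * e⁻¹ * g⁻¹) * d⁻¹ * (d * g * d⁻¹ * g⁻¹) := by group
          rw [h4, h3]
          have h5 : e * g * e⁻¹ * g⁻¹ * d * d⁻¹ * (d * g * d⁻¹ * g⁻¹) =
              (e * g * e⁻¹ * g⁻¹) * (d * g * d⁻¹ * g⁻¹) := by group
          rw [h5]
          exact B.mul_mem h1 h2
        inv_mem' := by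
          rintro d ⟨hd1, hd2, hd3⟩
          refine ⟨Subgroup.inv_mem _ hd1, Subgroup.inv_mem _ hd2, ?_⟩
          intro g hg
          have h2 := B.inv_mem (hd3 g hg)
          have h4 : d⁻¹ * g * d⁻¹⁻¹ * g⁻¹ = d⁻¹ * (d * g * d⁻¹ * g⁻¹)⁻¹ * d := by group
          rw [h4]
          have h6 := (Subgroup.mem_centralizer_iff.1 (Subgroup.inv_mem _ hd1)) _ h2
          -- h6 : (..)⁻¹ * d⁻¹ = d⁻¹ * (..)⁻¹
          rw [← h6]
          have h7 : (d * g * d⁻¹ * g⁻¹)⁻¹ * d⁻¹ * d = (d * g * d⁻¹ * g⁻¹)⁻¹ := by group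
          rw [h7]
          exact h2 }
    have hZmem : ∀ d, d ∈ Z₁ ↔ (d ∈ Subgroup.centralizer (B : Set S) ∧ d ∈ F ∧
        ∀ g ∈ F, d * g * d⁻¹ * g⁻¹ ∈ B) := fun d => Iff.rfl
    have hBZ : B ≤ Z₁ := by
      intro b hb
      rw [hZmem]
      refine ⟨hBcent b hb, hBF hb, ?_⟩
      intro g hg
      have h1 := hconjB g (hFB hg) b⁻¹ (B.inv_mem hb)
      have h2 : b * g * b⁻¹ * g⁻¹ = b * (g * b⁻¹ * g⁻¹) := by group
      rw [h2]
      exact B.mul_mem hb h1
    have hxZ : (x : S) ∈ Z₁ := (hZmem _).2 ⟨hxC.1, x.2, hx'⟩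
    have hZconj : ∀ s ∈ Subgroup.normalizer (B : Set S), ∀ d ∈ Z₁, s * d * s⁻¹ ∈ Z₁ := by
      intro s hs d hd
      rw [hZmem] at hd ⊢
      obtain ⟨hd1, hd2, hd3⟩ := hd
      refine ⟨hconjC s hs d hd1, hFn.conj_mem d hd2 s, ?_⟩
      intro g hg
      have hg' : s⁻¹ * g * s ∈ F := by
        have := hFn.conj_mem g hg s⁻¹
        simpa using this
      have h1 := hconjB s hs _ (hd3 _ hg')
      have h2 : s * (d * (s⁻¹ * g * s) * d⁻¹ * (s⁻¹ * g * s)⁻¹) * s⁻¹ =
          s * d * s⁻¹ * g * (s * d * s⁻¹)⁻¹ * g⁻¹ := by group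
      rw [h2] at h1
      exact h1
    have hIZ : I ≤ Subgroup.normalizer (Z₁ : Set S) := by
      intro s hs
      apply mem_normalizer_of_conj_mem
      · exact hZconj s (hIB hs)
      · intro d hd
        have := hZconj s⁻¹ (inv_mem (hIB hs)) d hd
        simpa using this
    -- minimal invariant subgroup above `B`
    let 𝓓 : Set (Subgroup S) := {D | B ≤ D ∧ D ≤ Z₁ ∧ D ≠ B ∧ I ≤ Subgroup.normalizer (D : Set S)}
    have hZ𝓓 : Z₁ ∈ 𝓓 := by
      refine ⟨hBZ, le_rfl, ?_, hIZ⟩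
      intro h
      apply hxN
      rw [← h]; exact hxZ
    obtain ⟨D, -, hDmin⟩ := (Set.toFinite 𝓓).exists_le_minimal hZ𝓓
    obtain ⟨hBD, hDZ, hDB, hID⟩ := hDmin.prop
    have hDcent : ∀ d ∈ D, ∀ b ∈ B, b * d = d * b := by
      intro d hd b hb
      exact (Subgroup.mem_centralizer_iff.1 ((hZmem d).1 (hDZ hd)).1) b hb
    have hDF : D ≤ F := fun d hd => ((hZmem d).1 (hDZ hd)).2.1
    have hDcomm : ∀ d ∈ D, ∀ e ∈ D, d * e * d⁻¹ * e⁻¹ ∈ B := by
      intro d hd e he
      exact ((hZmem d).1 (hDZ hd)).2.2 e (hDF he)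
    have hIconjD : ∀ s ∈ I, ∀ d ∈ D, s * d * s⁻¹ ∈ D := by
      intro s hs d hd
      exact (Subgroup.mem_normalizer_iff.1 (hID hs) d).1 hd
    have hIconjB : ∀ s ∈ I, ∀ b ∈ B, s * b * s⁻¹ ∈ B := fun s hs => hconjB s (hIB hs)
    -- a sub-lemma: any invariant subgroup between is `B` or `D`
    have hmin : ∀ E : Subgroup S, B ≤ E → E ≤ D → I ≤ Subgroup.normalizer (E : Set S) →
        E = B ∨ E = D := by
      intro E hBE hED hIE
      by_cases hEB : E = B
      · left; exact hEB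
      · right
        exact le_antisymm hED (hDmin.le_of_le ⟨hBE, hED.trans hDZ, hEB, hIE⟩ hED)
    -- the eigen-subgroups
    have hplus : ∀ s ∈ I, ∃ E : Subgroup S, (∀ d, d ∈ E ↔ d ∈ D ∧ s * d * s⁻¹ * d⁻¹ ∈ B) ∧
        B ≤ E ∧ E ≤ D ∧ I ≤ Subgroup.normalizer (E : Set S) := by
      intro s hs
      let E : Subgroup S :=
        { carrier := {d | d ∈ D ∧ s * d * s⁻¹ * d⁻¹ ∈ B}
          one_mem' := ⟨D.one_mem, by simp⟩
          mul_mem' := by
            rintro d e ⟨hd, hd'⟩ ⟨he, he'⟩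
            refine ⟨D.mul_mem hd he, ?_⟩
            have h1 : s * (d * e) * s⁻¹ * (d * e)⁻¹ =
                (s * d * s⁻¹ * d⁻¹) * (d * (s * e * s⁻¹ * e⁻¹) * d⁻¹) := by group
            rw [h1]
            have h2 : d * (s * e * s⁻¹ * e⁻¹) * d⁻¹ = s * e * s⁻¹ * e⁻¹ := by
              rw [← hDcent d hd _ he']; group
            rw [h2]
            exact B.mul_mem hd' he'
          inv_mem' := by
            rintro d ⟨hd, hd'⟩
            refine ⟨D.inv_mem hd, ?_⟩
            have h1 : s * d⁻¹ * s⁻¹ * d⁻¹⁻¹ = d⁻¹ * (s * d * s⁻¹ * d⁻¹)⁻¹ * d := by group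
            rw [h1]
            have h2 := hDcent d⁻¹ (D.inv_mem hd) _ (B.inv_mem hd')
            rw [← h2]
            have h3 : (s * d * s⁻¹ * d⁻¹)⁻¹ * d⁻¹ * d = (s * d * s⁻¹ * d⁻¹)⁻¹ := by group
            rw [h3]
            exact B.inv_mem hd' }
      have hE : ∀ d, d ∈ E ↔ d ∈ D ∧ s * d * s⁻¹ * d⁻¹ ∈ B := fun d => Iff.rfl
      refine ⟨E, hE, ?_, fun d hd => ((hE d).1 hd).1, ?_⟩
      · intro b hb
        rw [hE]
        exact ⟨hBD hb, B.mul_mem (hIconjB s hs b hb) (B.inv_mem hb)⟩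
      · have key : ∀ r ∈ I, ∀ d ∈ E, r * d * r⁻¹ ∈ E := by
          intro r hr d hd
          rw [hE] at hd ⊢
          refine ⟨hIconjD r hr d hd.1, ?_⟩
          have h1 := hIconjB r hr _ hd.2
          have hsr : s * r = r * s := hIcomm s hs r hr
          have hsr' : s⁻¹ * r = r * s⁻¹ := by
            rw [hinvI s hs]; exact hsr
          have h2 : s * (r * d * r⁻¹) * s⁻¹ * (r * d * r⁻¹)⁻¹ =
              r * (s * d * s⁻¹ * d⁻¹) * r⁻¹ := by
            have e1 : s * (r * d * r⁻¹) * s⁻¹ = r * (s * d * s⁻¹) * r⁻¹ := by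
              calc s * (r * d * r⁻¹) * s⁻¹ = (s * r) * d * (s * r)⁻¹ := by group
                _ = (r * s) * d * (r * s)⁻¹ := by rw [hsr]
                _ = r * (s * d * s⁻¹) * r⁻¹ := by group
            rw [e1]; group
          rw [h2]; exact h1
        intro r hr
        apply mem_normalizer_of_conj_mem
        · exact key r hr
        · intro d hd
          have := key r⁻¹ (I.inv_mem hr) d hd
          simpa using this
    have hminus : ∀ s ∈ I, ∃ E : Subgroup S, (∀ d, d ∈ E ↔ d ∈ D ∧ s * d * s⁻¹ * d ∈ B) ∧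
        B ≤ E ∧ E ≤ D ∧ I ≤ Subgroup.normalizer (E : Set S) := by
      intro s hs
      let E : Subgroup S :=
        { carrier := {d | d ∈ D ∧ s * d * s⁻¹ * d ∈ B}
          one_mem' := ⟨D.one_mem, by simp⟩
          mul_mem' := by
            rintro d e ⟨hd, hd'⟩ ⟨he, he'⟩
            refine ⟨D.mul_mem hd he, ?_⟩
            -- s d s⁻¹ = b1 d⁻¹ , s e s⁻¹ = b2 e⁻¹
            have h1 : s * (d * e) * s⁻¹ * (d * e) =
                (s * d * s⁻¹ * d) * (d⁻¹ * (s * e * s⁻¹ * e) * d) *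
                  (d⁻¹ * e⁻¹ * d⁻¹⁻¹ * e⁻¹⁻¹) := by group
            rw [h1]
            have h2 : d⁻¹ * (s * e * s⁻¹ * e) * d = s * e * s⁻¹ * e := by
              rw [← hDcent d⁻¹ (D.inv_mem hd) _ he']; group
            rw [h2]
            exact B.mul_mem (B.mul_mem hd' he')
              (hDcomm d⁻¹ (D.inv_mem hd) e⁻¹ (D.inv_mem he))
          inv_mem' := by
            rintro d ⟨hd, hd'⟩
            refine ⟨D.inv_mem hd, ?_⟩
            have h1 : s * d⁻¹ * s⁻¹ * d⁻¹ = d * (s * d * s⁻¹ * d)⁻¹ * d⁻¹ := by group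
            rw [h1]
            have h2 := hDcent d hd _ (B.inv_mem hd')
            rw [← h2]
            have h3 : (s * d * s⁻¹ * d)⁻¹ * d * d⁻¹ = (s * d * s⁻¹ * d)⁻¹ := by group
            rw [h3]
            exact B.inv_mem hd' }
      have hE : ∀ d, d ∈ E ↔ d ∈ D ∧ s * d * s⁻¹ * d ∈ B := fun d => Iff.rfl
      refine ⟨E, hE, ?_, fun d hd => ((hE d).1 hd).1, ?_⟩
      · intro b hb
        rw [hE]
        exact ⟨hBD hb, B.mul_mem (hIconjB s hs b hb) hb⟩
      · have key : ∀ r ∈ I, ∀ d ∈ E, r * d * r⁻¹ ∈ E := by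
          intro r hr d hd
          rw [hE] at hd ⊢
          refine ⟨hIconjD r hr d hd.1, ?_⟩
          have h1 := hIconjB r hr _ hd.2
          have hsr : s * r = r * s := hIcomm s hs r hr
          have h2 : s * (r * d * r⁻¹) * s⁻¹ * (r * d * r⁻¹) =
              r * (s * d * s⁻¹ * d) * r⁻¹ := by
            have e1 : s * (r * d * r⁻¹) * s⁻¹ = r * (s * d * s⁻¹) * r⁻¹ := by
              calc s * (r * d * r⁻¹) * s⁻¹ = (s * r) * d * (s * r)⁻¹ := by group
                _ = (r * s) * d * (r * s)⁻¹ := by rw [hsr]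
                _ = r * (s * d * s⁻¹) * r⁻¹ := by group
            rw [e1]; group
          rw [h2]; exact h1
        intro r hr
        apply mem_normalizer_of_conj_mem
        · exact key r hr
        · intro d hd
          have := key r⁻¹ (I.inv_mem hr) d hd
          simpa using this
    -- each `s ∈ I` acts as `±1` on `D` modulo `B`
    have hpm : ∀ s ∈ I, (∀ d ∈ D, s * d * s⁻¹ * d⁻¹ ∈ B) ∨ (∀ d ∈ D, s * d * s⁻¹ * d ∈ B) := by
      intro s hs
      obtain ⟨Ep, hEp, hBEp, hEpD, hIEp⟩ := hplus s hs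
      obtain ⟨Em, hEm, hBEm, hEmD, hIEm⟩ := hminus s hs
      rcases hmin Ep hBEp hEpD hIEp with h | h
      · right
        intro d hd
        -- e = s d s⁻¹ d ∈ Ep = B
        have he : s * d * s⁻¹ * d ∈ Ep := by
          rw [hEp]
          refine ⟨D.mul_mem (hIconjD s hs d hd) hd, ?_⟩
          have hs2 : s * s = 1 := by rw [← sq]; exact hI2 s hs
          have h1 : s * (s * d * s⁻¹ * d) * s⁻¹ * (s * d * s⁻¹ * d)⁻¹ =
              (s * s) * d * (s * s)⁻¹ * (s * d * s⁻¹) * d⁻¹ * (s * d * s⁻¹)⁻¹ := by group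
          rw [h1, hs2]
          have h2 : (1 : S) * d * 1⁻¹ * (s * d * s⁻¹) * d⁻¹ * (s * d * s⁻¹)⁻¹ =
              d * (s * d * s⁻¹) * d⁻¹ * (s * d * s⁻¹)⁻¹ := by group
          rw [h2]
          exact hDcomm d hd _ (hIconjD s hs d hd)
        rw [h] at he
        exact he
      · left
        intro d hd
        have : d ∈ Ep := by rw [h]; exact hd
        exact ((hEp d).1 this).2
    -- `D = B ⊔ ⟨y⟩` is abelian
    obtain ⟨y, hyD, hyB⟩ : ∃ y ∈ D, y ∉ B := by
      by_contra hno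
      push Not at hno
      exact hDB (le_antisymm hno hBD)
    obtain ⟨E, hE⟩ : ∃ E : Subgroup S, E = B ⊔ Subgroup.zpowers y := ⟨_, rfl⟩
    have hBE : B ≤ E := by rw [hE]; exact le_sup_left
    have hyE : y ∈ E := by rw [hE]; exact Subgroup.mem_sup_right (Subgroup.mem_zpowers y)
    have hED : E ≤ D := by
      rw [hE]; exact sup_le hBD (by rw [Subgroup.zpowers_le]; exact hyD)
    have hIE : I ≤ Subgroup.normalizer (E : Set S) := by
      have key : ∀ s ∈ I, ∀ d ∈ E, s * d * s⁻¹ ∈ E := by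
        intro s hs d hd
        have hle : E ≤ (E.comap (MulAut.conj s).toMonoidHom) := by
          rw [hE]
          apply sup_le
          · intro b hb
            rw [Subgroup.mem_comap]
            show s * b * s⁻¹ ∈ B ⊔ Subgroup.zpowers y
            exact Subgroup.mem_sup_left (hIconjB s hs b hb)
          · rw [Subgroup.zpowers_le, Subgroup.mem_comap]
            show s * y * s⁻¹ ∈ B ⊔ Subgroup.zpowers y
            rcases hpm s hs with h | h
            · have h1 : s * y * s⁻¹ = (s * y * s⁻¹ * y⁻¹) * y := by group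
              rw [h1]
              exact Subgroup.mul_mem _ (Subgroup.mem_sup_left (h y hyD))
                (Subgroup.mem_sup_right (Subgroup.mem_zpowers y))
            · have h1 : s * y * s⁻¹ = (s * y * s⁻¹ * y) * y⁻¹ := by group
              rw [h1]
              exact Subgroup.mul_mem _ (Subgroup.mem_sup_left (h y hyD))
                (Subgroup.mem_sup_right (Subgroup.inv_mem _ (Subgroup.mem_zpowers y)))
        exact hle hd
      intro s hs
      apply mem_normalizer_of_conj_mem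
      · exact key s hs
      · intro d hd
        have := key s⁻¹ (I.inv_mem hs) d hd
        simpa using this
    have hEeqD : E = D := by
      rcases hmin E hBE hED hIE with h | h
      · exfalso; apply hyB; rw [← h]; exact hyE
      · exact h
    -- `D` is abelian
    have hDab : ∀ d ∈ D, ∀ e ∈ D, d * e = e * d := by
      have hcl : E = Subgroup.closure ((B : Set S) ∪ {y}) := by
        rw [hE, Subgroup.closure_union, Subgroup.closure_eq, Subgroup.zpowers_eq_closure]
      have hcomm' : IsMulCommutative (Subgroup.closure ((B : Set S) ∪ {y})) := by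
        apply Subgroup.isMulCommutative_closure
        rintro a (ha | ha) b (hb | hb)
        · exact hBcomm a ha b hb
        · rw [Set.mem_singleton_iff] at hb; subst hb
          exact hDcent b hyD a ha
        · rw [Set.mem_singleton_iff] at ha; subst ha
          exact (hDcent a hyD b hb).symm
        · rw [Set.mem_singleton_iff] at ha hb; subst ha; subst hb; rfl
      intro d hd e he
      rw [← hEeqD, hcl] at hd he
      exact congrArg Subtype.val (mul_comm' (⟨d, hd⟩ : Subgroup.closure ((B : Set S) ∪ {y})) ⟨e, he⟩)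
    -- `F` normalizes `D`
    have hFD : F ≤ Subgroup.normalizer (D : Set S) := by
      have key : ∀ g ∈ F, ∀ d ∈ D, g * d * g⁻¹ ∈ D := by
        intro g hg d hd
        have h1 := ((hZmem d).1 (hDZ hd)).2.2 g⁻¹ (F.inv_mem hg)
        have h2 := hconjB g (hFB hg) _ h1
        have h3 : g * (d * g⁻¹ * d⁻¹ * g⁻¹⁻¹) * g⁻¹ = g * d * g⁻¹ * d⁻¹ := by group
        rw [h3] at h2
        have h4 : g * d * g⁻¹ = (g * d * g⁻¹ * d⁻¹) * d := by group
        rw [h4]
        exact D.mul_mem (hBD h2) hd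
      intro g hg
      apply mem_normalizer_of_conj_mem
      · exact key g hg
      · intro d hd
        have := key g⁻¹ (F.inv_mem hg) d hd
        simpa using this
    have hD𝓑 : D ∈ 𝓑 := ⟨hDF, hDab, hFD, hID⟩
    exact hDB (le_antisymm (hBmax.le_of_ge hD𝓑 hBD) hBD)
  -- Step 2 : faithfulness
  refine ⟨B, hBF, hBcomm, hIB, ?_⟩
  intro t ht htC
  apply hCF t ht
  rw [Subgroup.mem_centralizer_iff]
  intro f hf
  obtain ⟨c, hc⟩ : ∃ c, c = f * t * f⁻¹ * t⁻¹ := ⟨_, rfl⟩
  have hcF : c ∈ F := by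
    rw [hc]
    have h1 : f * t * f⁻¹ * t⁻¹ = f * (t * f⁻¹ * t⁻¹) := by group
    rw [h1]
    exact F.mul_mem hf (hFn.conj_mem _ (F.inv_mem hf) t)
  have hcC : c ∈ Subgroup.centralizer (B : Set S) := by
    rw [Subgroup.mem_centralizer_iff]
    intro b hb
    have htb : ∀ b' ∈ B, b' * t = t * b' := fun b' hb' => Subgroup.mem_centralizer_iff.1 htC b' hb'
    have h1 := htb _ (hconjB' f (hFB hf) b hb)
    have h2 := htb b hb
    -- c b c⁻¹ = b
    have h3 : t⁻¹ * b = b * t⁻¹ := by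
      have := congrArg (fun z => t⁻¹ * z * t⁻¹) h2
      simpa [mul_assoc] using this
    rw [hc]
    calc b * (f * t * f⁻¹ * t⁻¹) = f * ((f⁻¹ * b * f) * t) * f⁻¹ * t⁻¹ := by group
      _ = f * (t * (f⁻¹ * b * f)) * f⁻¹ * t⁻¹ := by rw [h1]
      _ = f * t * f⁻¹ * (b * t⁻¹) := by group
      _ = f * t * f⁻¹ * (t⁻¹ * b) := by rw [h3]
      _ = f * t * f⁻¹ * t⁻¹ * b := by group
  have hcB : c ∈ B := hself c hcC hcF
  have htc : c * t = t * c := Subgroup.mem_centralizer_iff.1 htC c hcB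
  have ht2 : t * t = 1 := by rw [← sq]; exact hI2 t ht
  have htinv : t⁻¹ = t := hinvI t ht
  -- t f t⁻¹ = c⁻¹ f
  have h1 : t * f * t⁻¹ = c⁻¹ * f := by
    rw [hc]; group
  have h2 : f = c⁻¹ * c⁻¹ * f := by
    calc f = (t * t) * f * (t * t)⁻¹ := by rw [ht2]; group
      _ = t * (t * f * t⁻¹) * t⁻¹ := by group
      _ = t * (c⁻¹ * f) * t⁻¹ := by rw [h1]
      _ = (t * c⁻¹ * t⁻¹) * (t * f * t⁻¹) := by group
      _ = c⁻¹ * (c⁻¹ * f) := by
        rw [h1]
        have : t * c⁻¹ * t⁻¹ = c⁻¹ := by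
          have h3 : t * c⁻¹ = c⁻¹ * t := by
            have := congrArg (fun z => c⁻¹ * z * c⁻¹) htc
            simpa [mul_assoc] using this
          rw [h3]; group
        rw [this]
      _ = c⁻¹ * c⁻¹ * f := by group
  have h3 : c ^ 2 = 1 := by
    have h4 : c⁻¹ * c⁻¹ = 1 := by
      have := congrArg (fun z => z * f⁻¹) h2
      simp only [mul_inv_cancel] at this
      rw [mul_assoc, mul_assoc, mul_inv_cancel, mul_one] at this
      exact this.symm
    have h5 : (c * c)⁻¹ = 1 := by rw [mul_inv_rev]; exact h4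
    rw [sq]
    exact inv_eq_one.1 h5
  have hc1 : c = 1 := odd_order_sq_eq_one hFodd hcF h3
  rw [hc1] at hc
  have h5 : f * t = t * f := by
    have := congrArg (fun z => z * (t * f)) hc
    simp only [one_mul] at this
    rw [this]; group
  exact h5
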