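import Mathlib
import Cfsg.Agent.Helper4.InvolFaithfulA

set_option autoImplicit false

/-!
An elementary abelian `2`-group of order `2 ^ n` acting faithfully on an abelian group `B` of odd
order: there are `n` independent invariant subgroups of prime order on whose product it acts
faithfully.
-/

namespace Cfsg.Agent.Helper4

open Cfsg.Agent.Helper1
open scoped Pointwise

universe u

variable {S : Type u} [Group S]

set_option maxHeartbeats 800000 in
theorem exists_prime_invariant_inverted [Finite S] (B I : Subgroup S)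
    (hBcomm : ∀ x ∈ B, ∀ y ∈ B, x * y = y * x)
    (hIB : I ≤ Subgroup.normalizer (B : Set S))
    (hIcomm : ∀ a ∈ I, ∀ b ∈ I, a * b = b * a) (hI2 : ∀ a ∈ I, a ^ 2 = 1)
    (t : S) (ht : t ∈ I) (htC : t ∉ Subgroup.centralizer (B : Set S)) :
    ∃ A : Subgroup S, A ≤ B ∧ (Nat.card A).Prime ∧ I ≤ Subgroup.normalizer (A : Set S) ∧
      (∀ a ∈ A, t * a * t⁻¹ = a⁻¹) ∧
      ∀ s ∈ I, (∀ a ∈ A, s * a * s⁻¹ = a) ∨ (∀ a ∈ A, s * a * s⁻¹ = a⁻¹) := by
  classical
  have hconjB : ∀ s ∈ I, ∀ b ∈ B, s * b * s⁻¹ ∈ B := by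
    intro s hs b hb
    exact (Subgroup.mem_normalizer_iff.1 (hIB hs) b).1 hb
  have hsq : ∀ s ∈ I, s * s = 1 := fun s hs => by rw [← sq]; exact hI2 s hs
  have hinvI : ∀ s ∈ I, s⁻¹ = s := fun s hs => inv_eq_of_mul_eq_one_left (hsq s hs)
  -- the inverted part
  let X : Subgroup S :=
    { carrier := {x | x ∈ B ∧ t * x * t⁻¹ = x⁻¹}
      one_mem' := ⟨B.one_mem, by simp⟩
      mul_mem' := by
        rintro x y ⟨hx, hx'⟩ ⟨hy, hy'⟩
        refine ⟨B.mul_mem hx hy, ?_⟩
        have h1 : t * (x * y) * t⁻¹ = (t * x * t⁻¹) * (t * y * t⁻¹) := by group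
        rw [h1, hx', hy', mul_inv_rev]
        exact hBcomm _ (B.inv_mem hx) _ (B.inv_mem hy)
      inv_mem' := by
        rintro x ⟨hx, hx'⟩
        refine ⟨B.inv_mem hx, ?_⟩
        have h1 : t * x⁻¹ * t⁻¹ = (t * x * t⁻¹)⁻¹ := by group
        rw [h1, hx'] }
  have hX : ∀ x, x ∈ X ↔ x ∈ B ∧ t * x * t⁻¹ = x⁻¹ := fun x => Iff.rfl
  have hXB : X ≤ B := fun x hx => ((hX x).1 hx).1
  have hXne : X ≠ ⊥ := by
    intro hbot
    apply htC
    rw [Subgroup.mem_centralizer_iff]
    intro b hb
    by_contra hne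
    have hy : b * (t * b⁻¹ * t⁻¹) ∈ X := by
      rw [hX]
      refine ⟨B.mul_mem hb (hconjB t ht _ (B.inv_mem hb)), ?_⟩
      have h1 : t * (b * (t * b⁻¹ * t⁻¹)) * t⁻¹ = (t * b * t⁻¹) * ((t * t) * b⁻¹ * (t * t)⁻¹) := by
        group
      rw [h1, hsq t ht]
      group
    rw [hbot, Subgroup.mem_bot] at hy
    apply hne
    have h2 : b * t = b * (t * b⁻¹ * t⁻¹) * (t * b) := by group
    rw [h2, hy, one_mul]
  have hXinv : ∀ s ∈ I, ∀ x ∈ X, s * x * s⁻¹ ∈ X := by
    intro s hs x hx
    rw [hX] at hx ⊢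
    refine ⟨hconjB s hs x hx.1, ?_⟩
    have hst : t * s = s * t := hIcomm t ht s hs
    have h1 : t * (s * x * s⁻¹) * t⁻¹ = s * (t * x * t⁻¹) * s⁻¹ := by
      calc t * (s * x * s⁻¹) * t⁻¹ = (t * s) * x * (t * s)⁻¹ := by group
        _ = (s * t) * x * (s * t)⁻¹ := by rw [hst]
        _ = s * (t * x * t⁻¹) * s⁻¹ := by group
    rw [h1, hx.2]
    group
  have hIX : I ≤ Subgroup.normalizer (X : Set S) := by
    intro s hs
    apply mem_normalizer_of_conj_mem
    · exact hXinv s hs
    · intro d hd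
      have := hXinv s⁻¹ (I.inv_mem hs) d hd
      simpa using this
  let 𝓐 : Set (Subgroup S) := {A | A ≤ X ∧ A ≠ ⊥ ∧ I ≤ Subgroup.normalizer (A : Set S)}
  obtain ⟨A, -, hAmin⟩ := (Set.toFinite 𝓐).exists_le_minimal (show X ∈ 𝓐 from ⟨le_rfl, hXne, hIX⟩)
  obtain ⟨hAX, hAne, hIA⟩ := hAmin.prop
  have hAB : A ≤ B := hAX.trans hXB
  have hAcomm : ∀ x ∈ A, ∀ y ∈ A, x * y = y * x := fun x hx y hy => hBcomm x (hAB hx) y (hAB hy)
  have hconjA : ∀ s ∈ I, ∀ a ∈ A, s * a * s⁻¹ ∈ A := by
    intro s hs a ha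
    exact (Subgroup.mem_normalizer_iff.1 (hIA hs) a).1 ha
  have hmin : ∀ E : Subgroup S, E ≤ A → I ≤ Subgroup.normalizer (E : Set S) → E = ⊥ ∨ E = A := by
    intro E hEA hIE
    by_cases hE : E = ⊥
    · left; exact hE
    · right
      exact le_antisymm hEA (hAmin.le_of_le ⟨hEA.trans hAX, hE, hIE⟩ hEA)
  -- each `s ∈ I` centralizes or inverts `A`
  have hpm : ∀ s ∈ I, (∀ a ∈ A, s * a * s⁻¹ = a) ∨ (∀ a ∈ A, s * a * s⁻¹ = a⁻¹) := by
    intro s hs
    let E : Subgroup S :=
      { carrier := {a | a ∈ A ∧ s * a * s⁻¹ = a}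
        one_mem' := ⟨A.one_mem, by simp⟩
        mul_mem' := by
          rintro x y ⟨hx, hx'⟩ ⟨hy, hy'⟩
          refine ⟨A.mul_mem hx hy, ?_⟩
          have h1 : s * (x * y) * s⁻¹ = (s * x * s⁻¹) * (s * y * s⁻¹) := by group
          rw [h1, hx', hy']
        inv_mem' := by
          rintro x ⟨hx, hx'⟩
          refine ⟨A.inv_mem hx, ?_⟩
          have h1 : s * x⁻¹ * s⁻¹ = (s * x * s⁻¹)⁻¹ := by group
          rw [h1, hx'] }
    have hE : ∀ a, a ∈ E ↔ a ∈ A ∧ s * a * s⁻¹ = a := fun a => Iff.rfl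
    have hEA : E ≤ A := fun a ha => ((hE a).1 ha).1
    have hEinv : ∀ r ∈ I, ∀ a ∈ E, r * a * r⁻¹ ∈ E := by
      intro r hr a ha
      rw [hE] at ha ⊢
      refine ⟨hconjA r hr a ha.1, ?_⟩
      have hsr : s * r = r * s := hIcomm s hs r hr
      have h1 : s * (r * a * r⁻¹) * s⁻¹ = r * (s * a * s⁻¹) * r⁻¹ := by
        calc s * (r * a * r⁻¹) * s⁻¹ = (s * r) * a * (s * r)⁻¹ := by group
          _ = (r * s) * a * (r * s)⁻¹ := by rw [hsr]
          _ = r * (s * a * s⁻¹) * r⁻¹ := by group
      rw [h1, ha.2]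
    have hIE : I ≤ Subgroup.normalizer (E : Set S) := by
      intro r hr
      apply mem_normalizer_of_conj_mem
      · exact hEinv r hr
      · intro d hd
        have := hEinv r⁻¹ (I.inv_mem hr) d hd
        simpa using this
    rcases hmin E hEA hIE with h | h
    · right
      intro a ha
      have he : a * (s * a * s⁻¹) ∈ E := by
        rw [hE]
        refine ⟨A.mul_mem ha (hconjA s hs a ha), ?_⟩
        have h1 : s * (a * (s * a * s⁻¹)) * s⁻¹ = (s * a * s⁻¹) * ((s * s) * a * (s * s)⁻¹) := by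
          group
        rw [h1, hsq s hs]
        have h2 : s * a * s⁻¹ * (1 * a * 1⁻¹) = (s * a * s⁻¹) * a := by group
        rw [h2]
        exact hAcomm _ (hconjA s hs a ha) _ ha
      rw [h, Subgroup.mem_bot] at he
      exact (eq_inv_of_mul_eq_one_right he)
    · left
      intro a ha
      have : a ∈ E := by rw [h]; exact ha
      exact ((hE a).1 this).2
  -- hence every subgroup of `A` is invariant and `A` has prime order
  have hsub : ∀ E : Subgroup S, E ≤ A → E = ⊥ ∨ E = A := by
    intro E hEA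
    apply hmin E hEA
    have key : ∀ r ∈ I, ∀ a ∈ E, r * a * r⁻¹ ∈ E := by
      intro r hr a ha
      rcases hpm r hr with h | h
      · rw [h a (hEA ha)]; exact ha
      · rw [h a (hEA ha)]; exact E.inv_mem ha
    intro r hr
    apply mem_normalizer_of_conj_mem
    · exact key r hr
    · intro d hd
      have := key r⁻¹ (I.inv_mem hr) d hd
      simpa using this
  have hAcard : (Nat.card A).Prime := by
    have h1 : 1 < Nat.card A := by
      rw [Subgroup.one_lt_card_iff_ne_bot]; exact hAne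
    obtain ⟨q, hq, hqd⟩ := Nat.exists_prime_and_dvd (Nat.ne_of_gt h1)
    have : Fact q.Prime := ⟨hq⟩
    obtain ⟨a, ha⟩ := exists_prime_orderOf_dvd_card' (G := A) q hqd
    have h2 : Subgroup.zpowers (a : S) ≤ A := by
      rw [Subgroup.zpowers_le]; exact a.2
    have h3 : Nat.card (Subgroup.zpowers (a : S)) = q := by
      rw [Nat.card_zpowers, Subgroup.orderOf_coe, ha]
    rcases hsub _ h2 with h | h
    · exfalso
      rw [h, Subgroup.card_bot] at h3
      exact hq.one_lt.ne h3
    · rw [← h, h3]; exact hq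
  refine ⟨A, hAB, hAcard, hIA, ?_, hpm⟩
  intro a ha
  exact ((hX a).1 (hAX ha)).2

theorem centralizer_sup_eq (U A : Subgroup S) :
    Subgroup.centralizer ((U ⊔ A : Subgroup S) : Set S) =
      Subgroup.centralizer (U : Set S) ⊓ Subgroup.centralizer (A : Set S) := by
  apply le_antisymm
  · exact le_inf (Subgroup.centralizer_le (by exact_mod_cast (le_sup_left : U ≤ U ⊔ A)))
      (Subgroup.centralizer_le (by exact_mod_cast (le_sup_right : A ≤ U ⊔ A)))
  · intro x hx
    have h1 : U ≤ Subgroup.centralizer ((Subgroup.zpowers x : Subgroup S) : Set S) := by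
      rw [Subgroup.le_centralizer_iff, Subgroup.zpowers_le]; exact hx.1
    have h2 : A ≤ Subgroup.centralizer ((Subgroup.zpowers x : Subgroup S) : Set S) := by
      rw [Subgroup.le_centralizer_iff, Subgroup.zpowers_le]; exact hx.2
    have h3 := sup_le h1 h2
    rw [Subgroup.le_centralizer_iff, Subgroup.zpowers_le] at h3
    exact h3

set_option maxHeartbeats 800000 in
theorem exists_family [Finite S] (B I : Subgroup S)
    (hBcomm : ∀ x ∈ B, ∀ y ∈ B, x * y = y * x) (hBodd : Odd (Nat.card B))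
    (hIB : I ≤ Subgroup.normalizer (B : Set S))
    (hIcomm : ∀ a ∈ I, ∀ b ∈ I, a * b = b * a) (hI2 : ∀ a ∈ I, a ^ 2 = 1)
    (hfaith : ∀ t ∈ I, t ∈ Subgroup.centralizer (B : Set S) → t = 1)
    (n : ℕ) (hIn : Nat.card I = 2 ^ n) :
    ∀ k ≤ n, ∃ f : Fin k → Subgroup S, (∀ i, (Nat.card (f i)).Prime) ∧ (∀ i, f i ≤ B) ∧
      (∀ i, I ≤ Subgroup.normalizer ((f i : Subgroup S) : Set S)) ∧
      Nat.card (⨆ i, f i : Subgroup S) = ∏ i, Nat.card (f i) ∧
      Nat.card (I ⊓ Subgroup.centralizer ((⨆ i, f i : Subgroup S) : Set S) : Subgroup S) =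
        2 ^ (n - k) := by
  classical
  intro k
  induction k with
  | zero =>
    intro _
    refine ⟨fun i => i.elim0, fun i => i.elim0, fun i => i.elim0, fun i => i.elim0, ?_, ?_⟩
    · rw [iSup_of_empty, Subgroup.card_bot, Finset.univ_eq_empty, Finset.prod_empty]
    · rw [iSup_of_empty]
      have h1 : I ⊓ Subgroup.centralizer (((⊥ : Subgroup S)) : Set S) = I := by
        apply le_antisymm inf_le_left
        intro x hx
        refine Subgroup.mem_inf.2 ⟨hx, ?_⟩
        rw [Subgroup.mem_centralizer_iff]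
        intro h hh
        rw [SetLike.mem_coe, Subgroup.mem_bot] at hh
        rw [hh, one_mul, mul_one]
      rw [h1, hIn, Nat.sub_zero]
  | succ k ih =>
    intro hk
    obtain ⟨f, hfp, hfB, hfI, hfcard, hfJ⟩ := ih (by omega)
    obtain ⟨U, hU⟩ : ∃ U : Subgroup S, U = ⨆ i, f i := ⟨_, rfl⟩
    rw [← hU] at hfcard hfJ
    have hUB : U ≤ B := by rw [hU]; exact iSup_le hfB
    obtain ⟨J, hJ⟩ : ∃ J : Subgroup S, J = I ⊓ Subgroup.centralizer (U : Set S) := ⟨_, rfl⟩
    rw [← hJ] at hfJ
    have hJI : J ≤ I := by rw [hJ]; exact inf_le_left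
    have hJne : J ≠ ⊥ := by
      rw [← Subgroup.one_lt_card_iff_ne_bot, hfJ]
      exact Nat.one_lt_two_pow (by omega)
    obtain ⟨⟨t, htJ⟩, ht1⟩ := (Subgroup.ne_bot_iff_exists_ne_one).1 hJne
    have ht1' : t ≠ 1 := fun h => ht1 (Subtype.ext h)
    have htI : t ∈ I := hJI htJ
    have htU : t ∈ Subgroup.centralizer (U : Set S) := by
      rw [hJ] at htJ; exact htJ.2
    have htC : t ∉ Subgroup.centralizer (B : Set S) := fun h => ht1' (hfaith t htI h)
    obtain ⟨A, hAB, hAp, hIA, htA, hpm⟩ :=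
      exists_prime_invariant_inverted B I hBcomm hIB hIcomm hI2 t htI htC
    have hAne : ∃ a ∈ A, a ≠ 1 := by
      have h1 : A ≠ ⊥ := by
        rw [← Subgroup.one_lt_card_iff_ne_bot]; exact hAp.one_lt
      obtain ⟨a, ha⟩ := (Subgroup.ne_bot_iff_exists_ne_one).1 h1
      exact ⟨a, a.2, fun h => ha (Subtype.ext h)⟩
    have hinvne : ∀ a ∈ A, a ≠ 1 → a⁻¹ ≠ a := by
      intro a ha ha1 h
      apply ha1
      have h2 : a ^ 2 = 1 := by
        rw [sq]
        calc a * a = a⁻¹ * a := by rw [h]
          _ = 1 := inv_mul_cancel a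
      exact odd_order_sq_eq_one hBodd (hAB ha) h2
    -- the new family
    let f' : Fin (k + 1) → Subgroup S := fun i => if h : (i : ℕ) < k then f ⟨i, h⟩ else A
    have hf'c : ∀ i : Fin k, f' i.castSucc = f i := by
      intro i
      show (if h : ((i.castSucc : Fin (k + 1)) : ℕ) < k then f ⟨_, h⟩ else A) = f i
      rw [dif_pos (by simp)]
      rfl
    have hf'l : f' (Fin.last k) = A := by
      show (if h : ((Fin.last k : Fin (k + 1)) : ℕ) < k then f ⟨_, h⟩ else A) = A
      rw [dif_neg (by simp)]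
    have hsup : (⨆ i, f' i : Subgroup S) = U ⊔ A := by
      apply le_antisymm
      · apply iSup_le
        intro i
        induction i using Fin.lastCases with
        | last => rw [hf'l]; exact le_sup_right
        | cast i => rw [hf'c, hU]; exact le_sup_of_le_left (le_iSup f i)
      · apply sup_le
        · rw [hU]
          apply iSup_le
          intro i
          rw [← hf'c i]
          exact le_iSup f' i.castSucc
        · rw [← hf'l]; exact le_iSup f' (Fin.last k)
    refine ⟨f', ?_, ?_, ?_, ?_, ?_⟩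
    · intro i
      induction i using Fin.lastCases with
      | last => rw [hf'l]; exact hAp
      | cast i => rw [hf'c]; exact hfp i
    · intro i
      induction i using Fin.lastCases with
      | last => rw [hf'l]; exact hAB
      | cast i => rw [hf'c]; exact hfB i
    · intro i
      induction i using Fin.lastCases with
      | last => rw [hf'l]; exact hIA
      | cast i => rw [hf'c]; exact hfI i
    · rw [hsup, Fin.prod_univ_castSucc, hf'l]
      have h1 : ∀ i : Fin k, Nat.card (f' i.castSucc) = Nat.card (f i) := fun i => by rw [hf'c]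
      rw [Finset.prod_congr rfl (fun i _ => h1 i), ← hfcard]
      have hdisj : A ⊓ U = ⊥ := by
        rw [eq_bot_iff]
        intro x hx
        rw [Subgroup.mem_bot]
        by_contra hx1
        have h2 := htA x hx.1
        have h3 : x * t = t * x := Subgroup.mem_centralizer_iff.1 htU x hx.2
        have h4 : t * x * t⁻¹ = x := by rw [← h3]; group
        rw [h4] at h2
        exact hinvne x hx.1 hx1 h2.symm
      have hAU : A ≤ Subgroup.normalizer (U : Set S) := by
        intro a ha
        apply mem_normalizer_of_conj_mem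
        · intro u hu
          have := hBcomm a (hAB ha) u (hUB hu)
          rw [this]; simpa using hu
        · intro u hu
          have := hBcomm a⁻¹ (B.inv_mem (hAB ha)) u (hUB hu)
          rw [this]; simpa using hu
      rw [card_sup_of_le_normalizer hAU hdisj, mul_comm]
    · rw [hsup, centralizer_sup_eq, ← inf_assoc, ← hJ]
      obtain ⟨J', hJ'⟩ : ∃ J' : Subgroup S, J' = J ⊓ Subgroup.centralizer (A : Set S) := ⟨_, rfl⟩
      rw [← hJ']
      have hJ'J : J' ≤ J := by rw [hJ']; exact inf_le_left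
      have hcentA : ∀ b : S, b ∈ Subgroup.centralizer (A : Set S) ↔ ∀ a ∈ A, b * a * b⁻¹ = a := by
        intro b
        rw [Subgroup.mem_centralizer_iff]
        constructor
        · intro h a ha
          rw [← h a ha]; group
        · intro h a ha
          have := h a ha
          calc a * b = (b * a * b⁻¹) * b := by rw [this]
            _ = b * a := by group
      have htnC : t ∉ Subgroup.centralizer (A : Set S) := by
        intro h
        obtain ⟨a, ha, ha1⟩ := hAne
        have h1 := (hcentA t).1 h a ha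
        rw [htA a ha] at h1
        exact hinvne a ha ha1 h1
      have hrel : J'.relIndex J = 2 := by
        rw [Subgroup.relIndex_eq_two_iff]
        refine ⟨t, htJ, ?_⟩
        intro b hb
        have hbI : b ∈ I := hJI hb
        have hbt : b * t ∈ J := J.mul_mem hb htJ
        by_cases hbC : b ∈ Subgroup.centralizer (A : Set S)
        · right
          refine ⟨by rw [hJ']; exact Subgroup.mem_inf.2 ⟨hb, hbC⟩, ?_⟩
          intro h
          rw [hJ'] at h
          apply htnC
          have : t = b⁻¹ * (b * t) := by group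
          rw [this]
          exact Subgroup.mul_mem _ (Subgroup.inv_mem _ hbC) h.2
        · left
          refine ⟨?_, fun h => hbC (by rw [hJ'] at h; exact h.2)⟩
          rw [hJ']
          refine Subgroup.mem_inf.2 ⟨hbt, ?_⟩
          rw [hcentA]
          intro a ha
          rcases hpm b hbI with h | h
          · exfalso; exact hbC ((hcentA b).2 h)
          · have h1 : b * t * a * (b * t)⁻¹ = b * (t * a * t⁻¹) * b⁻¹ := by group
            rw [h1, htA a ha]
            have h2 : b * a⁻¹ * b⁻¹ = (b * a * b⁻¹)⁻¹ := by group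
            rw [h2, h a ha, inv_inv]
      have h1 := relIndex_mul_card_of_le hJ'J
      rw [hrel, hfJ] at h1
      have h2 : n - k = (n - (k + 1)) + 1 := by omega
      rw [h2, pow_succ, mul_comm] at h1
      exact Nat.eq_of_mul_eq_mul_right (by norm_num) h1

end Cfsg.Agent.Helper4
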