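import Mathlib
import Cfsg.Agent.Helper4.SylowBasic
import Cfsg.Agent.Helper1.Frobenius
import Cfsg.Agent.Helper1.FrobKernelNilp
import Cfsg.Agent.Helper6.FrobThm

/-!
# Isolated `p`-elements centralizing their invariant `p'`-subgroups are central

Let `S` be a Sylow `p`-subgroup of the finite group `G` and `x ∈ S` such that `x` is the only
conjugate of `x` in `S` and `x` centralizes every `p'`-subgroup it normalizes.  Then `x ∈ Z(G)`.
A minimal counterexample modulo its centre is a Frobenius group with complement `C_G(x) / Z(G)`.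
-/

set_option autoImplicit false

namespace Cfsg.Agent.Helper4.IsoCent

open Subgroup
open scoped Pointwise

universe u

/-- The isolation property transfers to every `p`-subgroup containing `x`. -/
theorem isolated_in_pgroup {G : Type u} [Group G] [Finite G] {p : ℕ} [Fact p.Prime]
    (S : Sylow p G) (x : G)
    (hU : ∀ g : G, g⁻¹ * x * g ∈ S → g⁻¹ * x * g = x)
    (P : Subgroup G) (hP : IsPGroup p P) (hxP : x ∈ P) (g : G) (hg : g⁻¹ * x * g ∈ P) :
    g⁻¹ * x * g = x := by
  obtain ⟨P', hPP'⟩ := hP.exists_le_sylow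
  obtain ⟨g₀, hg₀⟩ := Cfsg.Agent.Helper4.sylow_exists_smul_eq S P'
  have h1 : g₀⁻¹ * x * g₀ ∈ S := by
    rw [← Cfsg.Agent.Helper4.mem_sylow_smul_iff, hg₀]; exact hPP' hxP
  have h2 : g₀⁻¹ * (g⁻¹ * x * g) * g₀ ∈ S := by
    rw [← Cfsg.Agent.Helper4.mem_sylow_smul_iff, hg₀]; exact hPP' hg
  have h3 := hU g₀ h1
  have h4 : (g * g₀)⁻¹ * x * (g * g₀) = x := by
    apply hU
    have : (g * g₀)⁻¹ * x * (g * g₀) = g₀⁻¹ * (g⁻¹ * x * g) * g₀ := by group
    rw [this]; exact h2
  have h5 : g⁻¹ * x * g = g₀ * ((g * g₀)⁻¹ * x * (g * g₀)) * g₀⁻¹ := by group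
  rw [h5, h4]
  have h6 : g₀ * x * g₀⁻¹ = g₀ * (g₀⁻¹ * x * g₀) * g₀⁻¹ := by rw [h3]
  rw [h6]; group

theorem center_aux : ∀ (n : ℕ) (G : Type u) [Group G] [Finite G], Nat.card G = n →
    ∀ (p : ℕ) [Fact p.Prime] (S : Sylow p G) (x : G), x ∈ S →
    (∀ g : G, g⁻¹ * x * g ∈ S → g⁻¹ * x * g = x) →
    (∀ H : Subgroup G, (Nat.card H).Coprime p → (∀ h ∈ H, x * h * x⁻¹ ∈ H) →
      ∀ h ∈ H, x * h = h * x) →
    x ∈ Subgroup.center G := by
  intro n
  induction n using Nat.strong_induction_on with
  | _ n ih =>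
  intro G _ _ hcard p _ S x hx hU hb
  by_contra hnot
  have hp : p.Prime := Fact.out
  obtain ⟨M, hM⟩ : ∃ M : Subgroup G, M = centralizer ({x} : Set G) := ⟨_, rfl⟩
  have hmemM : ∀ g : G, g ∈ M ↔ x * g = g * x := fun g => by
    rw [hM, mem_centralizer_iff]
    constructor
    · intro h; exact h x rfl
    · intro h y hy
      rw [Set.mem_singleton_iff] at hy
      rw [hy]; exact h
  have hxM : x ∈ M := (hmemM x).2 rfl
  have hSM : (S : Subgroup G) ≤ M := by
    intro s hs
    rw [hmemM]
    have h1 : s⁻¹ * x * s ∈ (S : Subgroup G) :=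
      mul_mem (mul_mem (inv_mem hs) hx) hs
    have h2 := hU s h1
    have h3 : x * s = s * (s⁻¹ * x * s) := by group
    rw [h3, h2]
  have hMtop : M ≠ ⊤ := by
    intro h
    apply hnot
    rw [mem_center_iff]
    intro g
    have : g ∈ M := h ▸ mem_top g
    exact ((hmemM g).1 this).symm
  have hxp : IsPGroup p (zpowers x) := by
    have : zpowers x ≤ (S : Subgroup G) := by rw [zpowers_le]; exact hx
    exact S.2.to_le this
  -- proper subgroups containing `x` centralize `x`
  have hprop : ∀ H : Subgroup G, x ∈ H → H ≠ ⊤ → H ≤ M := by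
    intro H hxH hH
    have hlt : Nat.card H < n := by
      rw [← hcard]
      exact lt_of_le_of_ne (Subgroup.card_le_card_group H)
        (fun h => hH ((Subgroup.card_eq_iff_eq_top H).1 h))
    have hxHp : IsPGroup p (zpowers (⟨x, hxH⟩ : H)) := by
      have h1 : (zpowers (⟨x, hxH⟩ : H)).map H.subtype = zpowers x := by
        rw [MonoidHom.map_zpowers]; rfl
      have h2 : IsPGroup p ((zpowers (⟨x, hxH⟩ : H)).map H.subtype) := by rw [h1]; exact hxp
      intro y
      obtain ⟨k, hk⟩ := h2 ⟨y.1.1, ⟨y.1, y.2, rfl⟩⟩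
      refine ⟨k, ?_⟩
      apply Subtype.ext
      apply Subtype.ext
      have := congrArg Subtype.val hk
      simpa using this
    obtain ⟨SH, hSH⟩ := hxHp.exists_le_sylow
    have hres := ih (Nat.card H) hlt H rfl p SH ⟨x, hxH⟩ (hSH (mem_zpowers _)) (by
      intro h hh
      apply Subtype.ext
      have hP : IsPGroup p ((SH : Subgroup H).map H.subtype) := SH.2.map H.subtype
      have hxP : x ∈ (SH : Subgroup H).map H.subtype :=
        ⟨⟨x, hxH⟩, hSH (mem_zpowers _), rfl⟩
      have hgP : (h : G)⁻¹ * x * h ∈ (SH : Subgroup H).map H.subtype := ⟨_, hh, rfl⟩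
      exact isolated_in_pgroup S x hU _ hP hxP h hgP) (by
      intro K' hK' hnorm k hk
      apply Subtype.ext
      have hc : Nat.card (K'.map H.subtype) = Nat.card K' :=
        Subgroup.card_map_of_injective H.subtype_injective
      have := hb (K'.map H.subtype) (by rw [hc]; exact hK') (by
        rintro _ ⟨k', hk', rfl⟩
        exact ⟨_, hnorm k' hk', rfl⟩) k.1 ⟨k, hk, rfl⟩
      exact this)
    intro h hh
    rw [hmemM]
    rw [mem_center_iff] at hres
    have h2 := hres ⟨h, hh⟩
    exact (congrArg Subtype.val h2).symm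
  -- for `g ∉ M`, `x` and its conjugate generate `G`
  have hgen : ∀ g : G, g ∉ M → zpowers x ⊔ zpowers (g * x * g⁻¹) = ⊤ := by
    intro g hg
    by_contra hne
    apply hg
    have hxH : x ∈ zpowers x ⊔ zpowers (g * x * g⁻¹) := le_sup_left (a := zpowers x) (mem_zpowers x)
    have hle := hprop _ hxH hne
    have hyM : g * x * g⁻¹ ∈ M := hle (le_sup_right (a := zpowers x) (mem_zpowers _))
    have hyp : IsPGroup p (zpowers (g * x * g⁻¹)) := by
      have h1 : (zpowers x).map (MulAut.conj g).toMonoidHom = zpowers (g * x * g⁻¹) := by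
        rw [MonoidHom.map_zpowers]; rfl
      rw [← h1]; exact hxp.map _
    have hnorm : zpowers x ≤ normalizer (zpowers (g * x * g⁻¹) : Set G) := by
      rw [zpowers_le]
      have hcomm : x * (g * x * g⁻¹) = (g * x * g⁻¹) * x := (hmemM _).1 hyM
      have hcz : ∀ z ∈ zpowers (g * x * g⁻¹), x * z * x⁻¹ = z := by
        intro z hz
        obtain ⟨k, rfl⟩ := mem_zpowers_iff.1 hz
        have : Commute x ((g * x * g⁻¹) ^ k) := (Commute.zpow_right hcomm k)
        rw [this.eq]; group
      rw [mem_normalizer_iff]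
      intro z
      constructor
      · intro hz; rw [hcz z hz]; exact hz
      · intro hz
        have h1 := hcz _ hz
        have h4 : x * z * x⁻¹ = z := by
          have e : x * z * x⁻¹ = x⁻¹ * (x * (x * z * x⁻¹) * x⁻¹) * x := by group
          rw [e, h1]; group
        rw [← h4]; exact hz
    have hPp : IsPGroup p (zpowers x ⊔ zpowers (g * x * g⁻¹) : Subgroup G) :=
      hxp.to_sup_of_normal_right' hyp hnorm
    have hiso := isolated_in_pgroup S x hU _ hPp hxH g⁻¹ (by
      rw [inv_inv]
      exact le_sup_right (a := zpowers x) (mem_zpowers _))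
    rw [inv_inv] at hiso
    rw [hmemM]
    have : x * g = g * x * g⁻¹ * g := by rw [hiso]
    rw [this]; group
  -- intersections of distinct conjugates of `M` are central
  have hint : ∀ g : G, g ∉ M → ∀ m ∈ M, g * m * g⁻¹ ∈ M → g * m * g⁻¹ ∈ center G := by
    intro g hg m hm hd
    set d := g * m * g⁻¹ with hd'
    have hle : (⊤ : Subgroup G) ≤ centralizer ({d} : Set G) := by
      rw [← hgen g hg]
      apply sup_le
      · rw [zpowers_le, mem_centralizer_iff]
        intro y hy
        rw [Set.mem_singleton_iff] at hy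
        rw [hy]
        exact ((hmemM d).1 hd).symm
      · rw [zpowers_le, mem_centralizer_iff]
        intro y hy
        rw [Set.mem_singleton_iff] at hy
        rw [hy, hd']
        have h1 := (hmemM m).1 hm
        have h2 : g * m * g⁻¹ * (g * x * g⁻¹) = g * (m * x) * g⁻¹ := by group
        have h3 : g * x * g⁻¹ * (g * m * g⁻¹) = g * (x * m) * g⁻¹ := by group
        rw [h2, h3, h1]
    rw [mem_center_iff]
    intro y
    have := hle (mem_top y)
    rw [mem_centralizer_iff] at this
    exact (this d rfl).symm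
  -- the quotient modulo the centre
  set Z : Subgroup G := center G with hZ
  have hZM : Z ≤ M := by
    intro z hz
    rw [hmemM]
    rw [hZ, mem_center_iff] at hz
    exact hz x
  set π : G →* G ⧸ Z := QuotientGroup.mk' Z with hπ
  have hπker : π.ker = Z := QuotientGroup.ker_mk' Z
  have hπsurj : Function.Surjective π := QuotientGroup.mk'_surjective Z
  set Mb : Subgroup (G ⧸ Z) := M.map π with hMb
  have hmemMb : ∀ g : G, π g ∈ Mb ↔ g ∈ M := by
    intro g
    constructor
    · rintro ⟨m, hm, hmg⟩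
      have : m⁻¹ * g ∈ Z := by
        rw [← hπker, MonoidHom.mem_ker, map_mul, map_inv, hmg, inv_mul_cancel]
      have h2 : g = m * (m⁻¹ * g) := by group
      rw [h2]
      exact M.mul_mem hm (hZM this)
    · intro hg
      exact ⟨g, hg, rfl⟩
  have hπx : π x ≠ 1 := by
    intro h
    apply hnot
    rw [← hπker, MonoidHom.mem_ker]
    exact h
  have hFrob : Cfsg.IsFrobeniusComplement Mb := by
    refine ⟨?_, ?_, ?_⟩
    · intro h
      have : π x ∈ Mb := (hmemMb x).2 hxM
      rw [h, mem_bot] at this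
      exact hπx this
    · intro h
      apply hMtop
      rw [eq_top_iff]
      intro g _
      rw [← hmemMb, h]
      exact mem_top _
    · intro gb hgb
      obtain ⟨g, rfl⟩ := hπsurj gb
      have hg : g ∉ M := fun h => hgb ((hmemMb g).2 h)
      rw [eq_bot_iff]
      intro y hy
      obtain ⟨hy1, hy2⟩ := mem_inf.1 hy
      rw [mem_smul_pointwise_iff_exists] at hy2
      obtain ⟨s, hs, hsy⟩ := hy2
      obtain ⟨m, hm, rfl⟩ := hs
      rw [MulAut.smul_def, MulAut.conj_apply] at hsy
      have hy' : y = π (g * m * g⁻¹) := by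
        rw [← hsy, map_mul, map_mul, map_inv]
      rw [hy'] at hy1 ⊢
      have hd : g * m * g⁻¹ ∈ M := (hmemMb _).1 hy1
      have := hint g hg m hm hd
      rw [mem_bot, ← MonoidHom.mem_ker, hπker]
      exact this
  -- the Frobenius kernel
  obtain ⟨Nb, hNbset, hNbn, hNbnil⟩ := Cfsg.Agent.Helper1.frobenius_kernel_nilpotent Mb hFrob
  obtain ⟨Nb', hNb'set, -, hcompl⟩ := Cfsg.Agent.Helper6.frobenius_kernel_theorem Mb hFrob
  have hNbeq : Nb' = Nb := SetLike.coe_injective (hNb'set.trans hNbset.symm)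
  rw [hNbeq] at hcompl
  have hNbM : ∀ y ∈ Nb, y ∈ Mb → y = 1 := by
    intro y hy hyM
    have : y ∈ (Nb : Set (G ⧸ Z)) := hy
    rw [hNbset] at this
    rcases this with h | h
    · exact h
    · exfalso
      apply h 1
      rw [map_one, one_smul]
      exact hyM
  have hNbne : Nb ≠ ⊥ := by
    intro h
    apply hFrob.2.1
    have h1 := hcompl.card_mul
    rw [h, Subgroup.card_bot, one_mul] at h1
    exact (Subgroup.card_eq_iff_eq_top Mb).1 h1
  -- `p` divides `|Mb|` but not `|Nb|`
  have hpMb : p ∣ Nat.card Mb := by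
    have hord : orderOf (π x) ∣ orderOf x := orderOf_map_dvd π x
    obtain ⟨k, hk⟩ := IsPGroup.iff_orderOf.mp hxp ⟨x, mem_zpowers x⟩
    have hk' : orderOf x = p ^ k := by
      rw [← hk]; exact (Subgroup.orderOf_mk x (mem_zpowers x)).symm
    rw [hk'] at hord
    obtain ⟨j, -, hj⟩ := (Nat.dvd_prime_pow hp).1 hord
    have hj0 : j ≠ 0 := by
      intro h0
      rw [h0, pow_zero, orderOf_eq_one_iff] at hj
      exact hπx hj
    have h1 : p ∣ orderOf (π x) := by rw [hj]; exact dvd_pow_self p hj0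
    have h2 : orderOf (π x) ∣ Nat.card Mb := by
      have : orderOf (⟨π x, (hmemMb x).2 hxM⟩ : Mb) ∣ Nat.card Mb := orderOf_dvd_natCard _
      rwa [Subgroup.orderOf_mk] at this
    exact h1.trans h2
  have hpNb : ¬ p ∣ Nat.card Nb := by
    obtain ⟨hc1, hc2⟩ := Cfsg.Agent.Helper1.frobenius_count Mb hFrob
    have hcardNb : Nat.card Nb = Mb.index := by
      rw [← hc1]
      exact Nat.card_congr (Equiv.setCongr hNbset)
    rw [hcardNb]
    intro hdvd
    have h3 : Mb.index % p = 1 % p := by
      have := Nat.ModEq.of_dvd hpMb hc2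
      exact this
    have h4 : Mb.index % p = 0 := Nat.mod_eq_zero_of_dvd hdvd
    rw [h4, Nat.mod_eq_of_lt hp.one_lt] at h3
    exact zero_ne_one h3
  -- the preimage of the kernel is nilpotent
  haveI := hNbn
  set K : Subgroup G := Nb.comap π with hK
  haveI hKn : K.Normal := hNbn.comap π
  set f : K →* Nb := π.subgroupComap Nb with hf
  have hfsurj : Function.Surjective f :=
    MonoidHom.subgroupComap_surjective_of_surjective π Nb hπsurj
  have hfval : ∀ k : K, ((f k : Nb) : G ⧸ Z) = π k.1 := fun k => rfl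
  haveI : Group.IsNilpotent Nb := hNbnil
  haveI hKnil : Group.IsNilpotent K := by
    apply _root_.isNilpotent_of_ker_le_center f
    intro k hk
    rw [MonoidHom.mem_ker] at hk
    have hk1 : π k.1 = 1 := by rw [← hfval, hk]; rfl
    have hkZ : k.1 ∈ Z := by rw [← hπker, MonoidHom.mem_ker]; exact hk1
    rw [mem_center_iff]
    intro y
    apply Subtype.ext
    rw [hZ, mem_center_iff] at hkZ
    exact hkZ y.1
  -- a prime `q ≠ p` dividing `|Nb|`
  have hNbcard : Nat.card Nb ≠ 1 := fun h => hNbne (Subgroup.card_eq_one.1 h)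
  obtain ⟨q, hq, hqNb⟩ := Nat.exists_prime_and_dvd hNbcard
  haveI : Fact q.Prime := ⟨hq⟩
  have hqp : q ≠ p := by
    intro h
    rw [h] at hqNb
    exact hpNb hqNb
  obtain ⟨Q⟩ : Nonempty (Sylow q K) := inferInstance
  haveI hQn : (Q : Subgroup K).Normal := inferInstance
  haveI : Unique (Sylow q K) := Sylow.unique_of_normal Q hQn
  -- `x` normalizes `Q`
  have hxQ : ∀ k : K, k ∈ Q → (MulAut.conjNormal x : MulAut K) k ∈ Q := by
    intro k hk
    have h1 : (MulAut.conjNormal x : MulAut K) • Q = Q := Subsingleton.elim _ _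
    have h2 : (MulAut.conjNormal x : MulAut K) • k ∈
        (((MulAut.conjNormal x : MulAut K) • Q : Sylow q K) : Subgroup K) := by
      rw [Sylow.pointwise_smul_def]
      exact Subgroup.smul_mem_pointwise_smul k _ (Q : Subgroup K) hk
    rw [h1] at h2
    exact h2
  set Q' : Subgroup G := (Q : Subgroup K).map K.subtype with hQ'
  have hQ'card : (Nat.card Q').Coprime p := by
    have hc : Nat.card Q' = Nat.card (Q : Subgroup K) :=
      Subgroup.card_map_of_injective K.subtype_injective
    rw [hc]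
    obtain ⟨a, ha⟩ := (IsPGroup.iff_card.1 Q.2)
    rw [ha]
    apply Nat.Coprime.pow_left
    exact (Nat.coprime_primes hq hp).2 hqp
  have hQ'comm := hb Q' hQ'card (by
    rintro _ ⟨k, hk, rfl⟩
    refine ⟨(MulAut.conjNormal x : MulAut K) k, hxQ k hk, ?_⟩
    show ((MulAut.conjNormal x : MulAut K) k : G) = x * k.1 * x⁻¹
    rw [MulAut.conjNormal_apply])
  -- some element of `Q` is not central
  obtain ⟨k, hkQ, hk1⟩ : ∃ k : K, k ∈ Q ∧ f k ≠ 1 := by
    by_contra hall
    push Not at hall
    have hQne : ((Q.mapSurjective hfsurj : Sylow q Nb) : Subgroup Nb) ≠ ⊥ :=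
      Sylow.ne_bot_of_dvd_card _ hqNb
    apply hQne
    rw [Sylow.coe_mapSurjective, eq_bot_iff]
    rintro _ ⟨k, hk, rfl⟩
    rw [mem_bot]
    exact hall k hk
  have hkb : π k.1 ∈ Nb := by rw [← hfval]; exact (f k).2
  have hkb1 : π k.1 ≠ 1 := by
    intro h
    apply hk1
    apply Subtype.ext
    rw [hfval, h]; rfl
  have hkM : π k.1 ∉ Mb := fun h => hkb1 (hNbM _ hkb h)
  have hTI := hFrob.2.2 (π k.1) hkM
  have hmem : π x ∈ Mb ⊓ MulAut.conj (π k.1) • Mb := by
    refine mem_inf.2 ⟨(hmemMb x).2 hxM, ?_⟩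
    rw [mem_smul_pointwise_iff_exists]
    refine ⟨π x, (hmemMb x).2 hxM, ?_⟩
    rw [MulAut.smul_def, MulAut.conj_apply, ← map_mul, ← map_inv, ← map_mul]
    congr 1
    have := hQ'comm k.1 ⟨k, hkQ, rfl⟩
    rw [← this]; group
  rw [hTI, mem_bot] at hmem
  exact hπx hmem

/-- An element of a Sylow `p`-subgroup which is isolated there and centralizes every `p'`-subgroup
it normalizes is central. -/
theorem mem_center_of_isolated {G : Type u} [Group G] [Finite G] {p : ℕ} [Fact p.Prime]
    (S : Sylow p G) (x : G) (hx : x ∈ S)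
    (hU : ∀ g : G, g⁻¹ * x * g ∈ S → g⁻¹ * x * g = x)
    (hb : ∀ H : Subgroup G, (Nat.card H).Coprime p → (∀ h ∈ H, x * h * x⁻¹ ∈ H) →
      ∀ h ∈ H, x * h = h * x) :
    x ∈ Subgroup.center G :=
  center_aux _ G rfl p S x hx hU hb

end Cfsg.Agent.Helper4.IsoCent
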