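import Mathlib
import Cfsg.Agent.Helper5.J1Grp
import Cfsg.Agent.Helper5.J1Cent
import Cfsg.Agent.Helper5.J1Pres

/-!
# Data for the spectrum of `J₁` (kernel-checked word identities)

Letters: `0, 1, 2, 3` stand for `X, X⁻¹, Y, Y⁻¹` (helper5's encoding).
-/

set_option autoImplicit false

namespace Cfsg.Agent.Helper4.J1Spec

open Cfsg Cfsg.Spor Cfsg.Agent.Helper5.J1

/-- generators of Sylow subgroups of orders 7, 11, 19. -/
def xW : ℕ → List ℕ
  | 7 => [1]
  | 11 => [1, 3, 3]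
  | _ => [1, 2]

/-- elements normalising them. -/
def uW : ℕ → List ℕ
  | 7 => [3, 3, 0, 3, 1, 3, 1, 3, 3, 1, 2, 0, 2, 1, 1, 2]
  | 11 => [3, 1, 3, 3, 1, 3, 1, 1]
  | _ => [0, 2, 0, 2, 2, 1, 3, 3, 1, 3, 0, 3, 1]

/-- the exponents: `u x u⁻¹ = x ^ e`. -/
def eN : ℕ → ℕ
  | 7 => 3
  | 11 => 8
  | _ => 8

set_option maxRecDepth 100000 in
theorem norm_ok : [7, 11, 19].all (fun q =>
    eqW (uW q ++ xW q ++ invW (uW q)) (List.replicate (eN q) (xW q)).flatten) = true := by
  decide +kernel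

/-- elements of orders 6, 10, 15. -/
def cW : ℕ → List ℕ
  | 6 => [0, 3, 3]
  | 10 => [0, 2]
  | _ => [0, 2, 2, 1, 2, 2]

set_option maxRecDepth 100000 in
theorem cW_ok : (eqW (List.replicate 6 (cW 6)).flatten [] &&
    neW (List.replicate 3 (cW 6)).flatten [] 1 && neW (List.replicate 2 (cW 6)).flatten [] 1 &&
    eqW (List.replicate 10 (cW 10)).flatten [] &&
    neW (List.replicate 5 (cW 10)).flatten [] 1 && neW (List.replicate 2 (cW 10)).flatten [] 1 &&
    eqW (List.replicate 15 (cW 15)).flatten [] &&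
    neW (List.replicate 5 (cW 15)).flatten [] 1 && neW (List.replicate 3 (cW 15)).flatten [] 1) = true := by
  decide +kernel

end Cfsg.Agent.Helper4.J1Spec
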