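import Mathlib

/-!
# General lemmas for computing spectra: `N/C` for a subgroup of prime order, Sylow conjugacy
-/

set_option autoImplicit false

namespace Cfsg.Agent.Helper4.J1Spec

open Subgroup

section NC

variable {G : Type*} [Group G]

theorem conj_orderOf (c g : G) : orderOf (c⁻¹ * g * c) = orderOf g := by
  have h : c⁻¹ * g * c = MulAut.conj c⁻¹ g := by simp
  rw [h, MulEquiv.orderOf_eq]

/-- `n` normalises `zpowers x` when `n x n⁻¹ = x ^ e` and `x` has finite order. -/
theorem mem_normalizer_zpowers [Finite G] {x n : G} {e : ℕ} (hn : n * x * n⁻¹ = x ^ e) :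
    n ∈ normalizer (zpowers x : Set G) := by
  -- conjugation by n maps zpowers x into itself, hence onto (finite)
  have hsub : ∀ y ∈ zpowers x, n * y * n⁻¹ ∈ zpowers x := by
    intro y hy
    obtain ⟨k, rfl⟩ := Subgroup.mem_zpowers_iff.mp hy
    have : n * x ^ k * n⁻¹ = (n * x * n⁻¹) ^ k := by
      rw [conj_zpow]
    rw [this, hn]
    exact Subgroup.zpow_mem _ (Subgroup.pow_mem _ (Subgroup.mem_zpowers x) e) k
  -- injective self-map of a finite set is surjective
  let f : zpowers x → zpowers x := fun y => ⟨n * y * n⁻¹, hsub y y.2⟩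
  have hf : Function.Injective f := by
    intro a b hab
    have := congrArg Subtype.val hab
    simp only [f] at this
    exact Subtype.ext (by simpa using this)
  have hfs : Function.Surjective f := Finite.surjective_of_injective hf
  rw [Subgroup.mem_normalizer_iff]
  intro h
  constructor
  · exact hsub h
  · intro hh
    obtain ⟨⟨y, hy⟩, hyh⟩ := hfs ⟨_, hh⟩
    have := congrArg Subtype.val hyh
    simp only [f] at this
    have : y = h := by simpa using this
    exact this ▸ hy

/-- The `N/C` lemma for a subgroup of prime order with an explicit normalising element. -/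
theorem card_normalizer_zpowers [Finite G] {q : ℕ} [hq : Fact q.Prime] {x n : G} {e r : ℕ}
    (hx : orderOf x = q) (hn : n * x * n⁻¹ = x ^ e) (hr0 : 0 < r) (her : e ^ r % q = 1)
    (hr : ∀ p : ℕ, p.Prime → p ∣ r → e ^ (r / p) % q ≠ 1) :
    ∃ i : ℕ, r ∣ i ∧ i ∣ q - 1 ∧
      Nat.card (normalizer (zpowers x : Set G)) =
        i * Nat.card (centralizer (zpowers x : Set G)) := by
  classical
  set P : Subgroup G := zpowers x with hP
  have hnN : n ∈ normalizer (P : Set G) := mem_normalizer_zpowers hn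
  set f := P.normalizerMonoidHom with hf
  set a : MulAut P := f ⟨n, hnN⟩ with ha
  have hxP : x ∈ P := Subgroup.mem_zpowers x
  have q1 : 1 < q := hq.out.one_lt
  -- action of a on elements
  have ha_apply : ∀ y : P, ((a y : P) : G) = n * y * n⁻¹ := fun y => rfl
  have key : ∀ k : ℕ, (((a ^ k) ⟨x, hxP⟩ : P) : G) = x ^ (e ^ k) := by
    intro k
    induction k with
    | zero => simp
    | succ k ih =>
      rw [pow_succ', MulAut.mul_apply, ha_apply, ih]
      have : n * x ^ e ^ k * n⁻¹ = (n * x * n⁻¹) ^ (e ^ k) := by rw [conj_pow]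
      rw [this, hn, ← pow_mul, pow_succ']
  have har : a ^ r = 1 := by
    apply MulEquiv.ext
    intro y
    obtain ⟨k, hk⟩ := Subgroup.mem_zpowers_iff.mp y.2
    have hy : y = (⟨x, hxP⟩ : P) ^ k := Subtype.ext (by simpa using hk.symm)
    have h1 : (a ^ r) ⟨x, hxP⟩ = ⟨x, hxP⟩ := by
      apply Subtype.ext
      rw [key r, ← pow_mod_orderOf, hx, her, pow_one]
    rw [hy, map_zpow, h1]
    rfl
  have har' : ∀ p : ℕ, p.Prime → p ∣ r → a ^ (r / p) ≠ 1 := by
    intro p hp hpr h1
    have h2 := congrArg (fun g : MulAut P => ((g ⟨x, hxP⟩ : P) : G)) h1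
    simp only [MulAut.one_apply] at h2
    rw [key] at h2
    have h3 : x ^ e ^ (r / p) = x ^ 1 := by rw [h2, pow_one]
    rw [pow_inj_mod, hx, Nat.mod_eq_of_lt q1] at h3
    exact hr p hp hpr h3
  have hord : orderOf a = r := orderOf_eq_of_pow_and_pow_div_prime hr0 har har'
  have hcP : Nat.card P = q := by rw [hP, Nat.card_zpowers, hx]
  have : IsCyclic P := by rw [hP]; infer_instance
  have hAut : Nat.card (MulAut P) = q - 1 := by
    rw [IsCyclic.card_mulAut, hcP, Nat.totient_prime hq.out]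
  refine ⟨Nat.card f.range, ?_, ?_, ?_⟩
  · have hmem : a ∈ f.range := ⟨_, rfl⟩
    have := orderOf_dvd_natCard (⟨a, hmem⟩ : f.range)
    rwa [Subgroup.orderOf_mk, hord] at this
  · rw [← hAut]
    exact Subgroup.card_subgroup_dvd_card _
  · have h1 : Nat.card f.ker * f.ker.index = Nat.card (normalizer (P : Set G)) :=
      Subgroup.card_mul_index _
    rw [Subgroup.index_ker] at h1
    have h2 : Nat.card f.ker = Nat.card (centralizer (P : Set G)) := by
      rw [hf, Subgroup.normalizerMonoidHom_ker]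
      exact Nat.card_congr
        (Subgroup.subgroupOfEquivOfLe (Subgroup.centralizer_le_normalizer _)).toEquiv
    rw [← h1, h2, mul_comm]

end NC

section Syl

variable {G : Type*} [Group G] [Finite G]

/-- If `E` has order `p ^ k` with `p ^ (k+1) ∤ |G|`, every element generating a `p`-group is
conjugate into `E`. -/
theorem exists_conj_mem {p : ℕ} [hp : Fact p.Prime] (E : Subgroup G) (k : ℕ)
    (hE : Nat.card E = p ^ k) (hk : ¬ p ^ (k + 1) ∣ Nat.card G) (s : G)
    (hs : ∃ j : ℕ, orderOf s = p ^ j) : ∃ c : G, c⁻¹ * s * c ∈ E := by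
  have hEp : IsPGroup p E := IsPGroup.of_card hE
  obtain ⟨Q₁, hQ₁⟩ := hEp.exists_le_sylow
  have hQE : (Q₁ : Subgroup G) = E := by
    symm
    apply Subgroup.eq_of_le_of_card_ge hQ₁
    obtain ⟨j, hj⟩ := IsPGroup.iff_card.mp Q₁.2
    rw [hj, hE]
    apply Nat.pow_le_pow_right hp.out.pos
    by_contra hlt
    rw [not_le] at hlt
    apply hk
    calc p ^ (k + 1) ∣ p ^ j := pow_dvd_pow p hlt
      _ ∣ Nat.card G := hj ▸ Subgroup.card_subgroup_dvd_card _
  obtain ⟨j, hj⟩ := hs
  have hsp : IsPGroup p (zpowers s) := IsPGroup.of_card (n := j) (by rw [Nat.card_zpowers, hj])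
  obtain ⟨Q₂, hQ₂⟩ := hsp.exists_le_sylow
  obtain ⟨c, hc⟩ := MulAction.exists_smul_eq G Q₁ Q₂
  refine ⟨c, ?_⟩
  have hsQ : s ∈ (Q₂ : Subgroup G) := hQ₂ (Subgroup.mem_zpowers s)
  rw [← hc, Sylow.coe_subgroup_smul, Subgroup.mem_pointwise_smul_iff_inv_smul_mem] at hsQ
  rw [← hQE]
  simpa [MulAut.smul_def, MulAut.conj_inv_apply] using hsQ

end Syl

end Cfsg.Agent.Helper4.J1Spec
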