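import Mathlib
import Cfsg.Agent.Helper4.J1SpecA
import Cfsg.Agent.Helper4.J1SpecB

/-!
# The spectrum of `J₁`: elements of even order
-/

set_option autoImplicit false

namespace Cfsg.Agent.Helper4.J1Spec

open Cfsg Cfsg.Spor Cfsg.Agent.Helper5.J1 Subgroup

attribute [local irreducible] el evalW

instance instFiniteJ1 : Finite ↥Spor.J1 :=
  Nat.finite_of_card_ne_zero (by rw [card_J1]; norm_num)

/-- the centraliser of the involution `tJ` is `2 × A₅` (helper5's computation). -/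
theorem CJ_iso : Nonempty (↥CJ ≃* Multiplicative (ZMod 2) × ↥(alternatingGroup (Fin 5))) := by
  refine iso_two_times_alt (H := CJ) card_CJ_le ⟨tJ, mem_CJ.mpr rfl⟩ ?_ ?_ ?_
    ⟨el x3W, x3_mem⟩ ⟨el y5W, y5_mem⟩ ?_ ?_ ?_ ?_
  · exact Subtype.ext (by rw [Subgroup.coe_pow, Subgroup.coe_one, pow_two]; exact tJ_sq)
  · exact fun h => tJ_ne (congrArg Subtype.val h)
  · intro g
    exact Subtype.ext (mem_CJ.mp g.2)
  · exact Subtype.ext (by rw [Subgroup.coe_pow, Subgroup.coe_one]; exact x3_pow)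
  · exact Subtype.ext (by rw [Subgroup.coe_pow, Subgroup.coe_one]; exact y5_pow)
  · exact Subtype.ext (by
      rw [Subgroup.coe_pow, Subgroup.coe_mul, Subgroup.coe_one]; exact xy_pow)
  · exact fun h => x3_ne (congrArg Subtype.val h)

set_option maxRecDepth 100000 in
theorem a5_pow : ∀ σ : Equiv.Perm (Fin 5), Equiv.Perm.sign σ = 1 →
    σ ^ 2 = 1 ∨ σ ^ 3 = 1 ∨ σ ^ 5 = 1 := by
  decide +kernel

theorem orderOf_a5 (σ : alternatingGroup (Fin 5)) :
    orderOf σ = 1 ∨ orderOf σ = 2 ∨ orderOf σ = 3 ∨ orderOf σ = 5 := by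
  have hs : Equiv.Perm.sign (σ : Equiv.Perm (Fin 5)) = 1 := Equiv.Perm.mem_alternatingGroup.1 σ.2
  rw [← Subgroup.orderOf_coe]
  rcases a5_pow σ hs with h | h | h
  · rcases (Nat.dvd_prime Nat.prime_two).1 (orderOf_dvd_of_pow_eq_one h) with h' | h' <;> simp [h']
  · rcases (Nat.dvd_prime Nat.prime_three).1 (orderOf_dvd_of_pow_eq_one h) with h' | h' <;>
      simp [h']
  · rcases (Nat.dvd_prime Nat.prime_five).1 (orderOf_dvd_of_pow_eq_one h) with h' | h' <;>
      simp [h']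

theorem orderOf_two_a5 (z : Multiplicative (ZMod 2) × alternatingGroup (Fin 5)) :
    orderOf z = 1 ∨ orderOf z = 2 ∨ orderOf z = 3 ∨ orderOf z = 5 ∨ orderOf z = 6 ∨
      orderOf z = 10 := by
  rw [Prod.orderOf]
  have h1 : orderOf z.1 ∣ 2 := by
    have := orderOf_dvd_natCard z.1
    rwa [Nat.card_eq_fintype_card, Fintype.card_multiplicative, ZMod.card] at this
  have h1' : orderOf z.1 = 1 ∨ orderOf z.1 = 2 := (Nat.dvd_prime Nat.prime_two).1 h1
  rcases h1' with h1 | h1 <;> rcases orderOf_a5 z.2 with h2 | h2 | h2 | h2 <;>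
    rw [h1, h2] <;> decide

/-- every non-identity element of `E8` is conjugate to `tJ`. -/
theorem E8_conj {g : ↥Spor.J1} (hg : g ∈ E8) (h1 : g ≠ 1) : ∃ d : ↥Spor.J1, g = d * tJ * d⁻¹ := by
  obtain ⟨i, hi, rfl⟩ := hg
  have key : ∀ k : ℕ, el (List.replicate k 0 ++ tW ++ invW (List.replicate k 0)) =
      el (List.replicate k 0) * tJ * (el (List.replicate k 0))⁻¹ := by
    intro k
    rw [el_append, el_append, el_invW]
    rfl
  interval_cases i
  · exact absurd el_nil h1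
  · exact ⟨_, key 0⟩
  · exact ⟨_, key 1⟩
  · exact ⟨_, key 2⟩
  · exact ⟨_, key 3⟩
  · exact ⟨_, key 4⟩
  · exact ⟨_, key 5⟩
  · exact ⟨_, key 6⟩

/-- every involution is conjugate to `tJ`. -/
theorem invol_conj {s : ↥Spor.J1} (hs : orderOf s = 2) : ∃ b : ↥Spor.J1, b⁻¹ * s * b = tJ := by
  have : Fact (Nat.Prime 2) := ⟨Nat.prime_two⟩
  obtain ⟨c, hc⟩ := exists_conj_mem (p := 2) E8 3 (by rw [card_E8]; norm_num)
    (by rw [card_J1]; norm_num) s ⟨1, by rw [hs, pow_one]⟩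
  have hne : c⁻¹ * s * c ≠ 1 := by
    intro h
    have := conj_orderOf c s
    rw [h, orderOf_one, hs] at this
    norm_num at this
  obtain ⟨d, hd⟩ := E8_conj hc hne
  refine ⟨c * d, ?_⟩
  have : tJ = d⁻¹ * (c⁻¹ * s * c) * d := by rw [hd]; group
  rw [this]; group

/-- elements of even order have order 2, 6 or 10. -/
theorem even_order (g : ↥Spor.J1) (h : Even (orderOf g)) :
    orderOf g = 2 ∨ orderOf g = 6 ∨ orderOf g = 10 := by
  obtain ⟨k, hk⟩ := h
  have hpos : 0 < orderOf g := orderOf_pos g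
  have hk0 : k ≠ 0 := by rintro rfl; omega
  have hs : orderOf (g ^ k) = 2 := by
    rw [orderOf_pow_of_dvd hk0 ⟨2, by omega⟩, hk, ← two_mul]
    exact Nat.mul_div_cancel 2 (Nat.pos_of_ne_zero hk0)
  obtain ⟨b, hb⟩ := invol_conj hs
  set g' := b⁻¹ * g * b with hg'
  have hcomm : tJ * g' = g' * tJ := by
    rw [← hb, hg']
    have : g ^ k * g = g * g ^ k := (Commute.pow_self g k).eq
    calc b⁻¹ * g ^ k * b * (b⁻¹ * g * b) = b⁻¹ * (g ^ k * g) * b := by group
      _ = b⁻¹ * (g * g ^ k) * b := by rw [this]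
      _ = b⁻¹ * g * b * (b⁻¹ * g ^ k * b) := by group
  have hmem : g' ∈ CJ := mem_CJ.mpr hcomm
  obtain ⟨φ⟩ := CJ_iso
  have ho : orderOf (φ ⟨g', hmem⟩) = orderOf g := by
    rw [MulEquiv.orderOf_eq, Subgroup.orderOf_mk, hg', conj_orderOf]
  have := orderOf_two_a5 (φ ⟨g', hmem⟩)
  rw [ho] at this
  rcases this with h | h | h | h | h | h <;> omega

end Cfsg.Agent.Helper4.J1Spec
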