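import Mathlib
import Cfsg.Agent.Helper4.J1SpecC

/-!
# The spectrum of `J₁`: centralisers of the Sylow 7-, 11-, 19-subgroups, and the final result
-/

set_option autoImplicit false

namespace Cfsg.Agent.Helper4.J1Spec

open Cfsg Cfsg.Spor Cfsg.Agent.Helper5.J1 Subgroup

attribute [local irreducible] el evalW

/-- the generator of a Sylow `q`-subgroup, `q ∈ {7, 11, 19}`. -/
noncomputable def xq (q : ℕ) : ↥Spor.J1 := el (xW q)

theorem orderOf_xq7 : orderOf (xq 7) = 7 := orderOf_gW (p := 7) (by decide)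
theorem orderOf_xq11 : orderOf (xq 11) = 11 := orderOf_gW (p := 11) (by decide)
theorem orderOf_xq19 : orderOf (xq 19) = 19 := orderOf_gW (p := 19) (by decide)

theorem norm_spec {q : ℕ} (hq : q ∈ [7, 11, 19]) :
    el (uW q) * xq q * (el (uW q))⁻¹ = xq q ^ eN q := by
  have h := List.all_eq_true.mp norm_ok q hq
  unfold xq
  rw [← el_invW, ← el_append, ← el_append, el_eq_of_eqW h, el_pow]

/-- the structure of the normaliser of `⟨x⟩`, `x` of prime order `q`, `q² ∤ |G|`. -/
theorem sylow_arith {G : Type*} [Group G] [Finite G] {q : ℕ} [hq : Fact q.Prime] {x n : G}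
    {e r : ℕ} (hx : orderOf x = q) (hn : n * x * n⁻¹ = x ^ e) (hr0 : 0 < r)
    (her : e ^ r % q = 1) (hr : ∀ p : ℕ, p.Prime → p ∣ r → e ^ (r / p) % q ≠ 1)
    (hq2 : ¬ q ^ 2 ∣ Nat.card G) :
    ∃ i m nq : ℕ, r ∣ i ∧ i ∣ q - 1 ∧ Nat.card (centralizer (zpowers x : Set G)) = q * m ∧
      nq % q = 1 ∧ Nat.card G = nq * (i * (q * m)) := by
  obtain ⟨i, hri, hiq, hN⟩ := card_normalizer_zpowers hx hn hr0 her hr
  set P : Subgroup G := zpowers x with hP
  have hcP : Nat.card P = q := by rw [hP, Nat.card_zpowers, hx]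
  have hPp : IsPGroup q P := IsPGroup.of_card (n := 1) (by rw [hcP, pow_one])
  obtain ⟨Q, hQ⟩ := hPp.exists_le_sylow
  have hQP : (Q : Subgroup G) = P := by
    symm
    apply Subgroup.eq_of_le_of_card_ge hQ
    obtain ⟨j, hj⟩ := IsPGroup.iff_card.mp Q.2
    rw [hj, hcP]
    have hj1 : j ≤ 1 := by
      by_contra hlt
      rw [not_le] at hlt
      apply hq2
      calc q ^ 2 ∣ q ^ j := pow_dvd_pow q hlt
        _ ∣ Nat.card G := hj ▸ Subgroup.card_subgroup_dvd_card _
    calc q ^ j ≤ q ^ 1 := Nat.pow_le_pow_right hq.out.pos hj1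
      _ = q := pow_one q
  have hmod : Nat.card (Sylow q G) ≡ 1 [MOD q] := card_sylow_modEq_one q G
  have hidx : Nat.card (Sylow q G) = (normalizer ((Q : Subgroup G) : Set G)).index :=
    Sylow.card_eq_index_normalizer Q
  rw [hQP] at hidx
  have hPC : P ≤ centralizer (P : Set G) := by
    rw [hP]
    intro y hy
    rw [Subgroup.mem_centralizer_iff]
    intro z hz
    obtain ⟨a, rfl⟩ := Subgroup.mem_zpowers_iff.mp hy
    obtain ⟨b, rfl⟩ := Subgroup.mem_zpowers_iff.mp hz
    exact (Commute.zpow_zpow (Commute.refl x) b a).eq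
  obtain ⟨m, hm⟩ : q ∣ Nat.card (centralizer (P : Set G)) := by
    rw [← hcP]; exact Subgroup.card_dvd_of_le hPC
  refine ⟨i, m, Nat.card (Sylow q G), hri, hiq, hm, ?_, ?_⟩
  · have := hmod
    unfold Nat.ModEq at this
    rw [this, Nat.mod_eq_of_lt hq.out.one_lt]
  · rw [hidx, ← hm, ← hN, mul_comm]
    exact (Subgroup.card_mul_index _).symm

/-- an involution in the centraliser of `x` of odd prime order `q > 5` is impossible. -/
theorem odd_centralizer {x : ↥Spor.J1} {q : ℕ} (hx : orderOf x = q) (hq7 : 7 ≤ q) (hqodd : Odd q) :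
    ¬ 2 ∣ Nat.card (centralizer (zpowers x : Set ↥Spor.J1)) := by
  intro h2
  have : Fact (Nat.Prime 2) := ⟨Nat.prime_two⟩
  obtain ⟨s, hs⟩ := exists_prime_orderOf_dvd_card' 2 h2
  have hs' : orderOf (s : ↥Spor.J1) = 2 := by rw [Subgroup.orderOf_coe]; exact hs
  have hcomm : Commute (s : ↥Spor.J1) x :=
    ((Subgroup.mem_centralizer_iff.mp s.2) x (Subgroup.mem_zpowers x)).symm
  have hcop : (orderOf (s : ↥Spor.J1)).Coprime (orderOf x) := by
    rw [hs', hx]; exact (Nat.coprime_two_left).mpr hqodd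
  have ho := hcomm.orderOf_mul_eq_mul_orderOf_of_coprime hcop
  rw [hs', hx] at ho
  have hev : Even (orderOf ((s : ↥Spor.J1) * x)) := by rw [ho]; exact even_two_mul q
  rcases even_order _ hev with h | h | h <;> omega

theorem div4180 : ∀ m ∈ Nat.divisors 4180, m % 2 = 1 → (4180 / m) % 7 = 1 → m = 1 := by
  decide +kernel

theorem div1596 : ∀ m ∈ Nat.divisors 1596, m % 2 = 1 → (1596 / m) % 11 = 1 → m = 1 ∨ m = 133 := by
  decide +kernel

theorem div1540 : ∀ m ∈ Nat.divisors 1540, m % 2 = 1 → (1540 / m) % 19 = 1 → m = 1 ∨ m = 77 := by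
  decide +kernel

theorem card_cent7 : Nat.card (centralizer (zpowers (xq 7) : Set ↥Spor.J1)) = 7 := by
  have : Fact (Nat.Prime 7) := ⟨by norm_num⟩
  obtain ⟨i, m, nq, hri, hiq, hC, hnq, hG⟩ := sylow_arith (q := 7) (r := 6) orderOf_xq7
    (norm_spec (q := 7) (by decide)) (by norm_num) (by decide)
    (by
      intro p hp hpr
      have hple : p ≤ 6 := Nat.le_of_dvd (by norm_num) hpr
      interval_cases p <;>
        first | decide | exact absurd hp (by decide))
    (by rw [card_J1]; norm_num)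
  have hi : i = 6 := Nat.dvd_antisymm hiq hri
  subst hi
  rw [card_J1] at hG
  have hodd : ¬ 2 ∣ Nat.card (centralizer (zpowers (xq 7) : Set ↥Spor.J1)) :=
    odd_centralizer orderOf_xq7 (by norm_num) (by decide)
  rw [hC] at hodd ⊢
  have hm2 : m % 2 = 1 := by
    by_contra h
    exact hodd (Dvd.dvd.mul_left (Nat.dvd_of_mod_eq_zero (by omega)) 7)
  have hprod : nq * m = 4180 := by
    have e1 : 42 * (nq * m) = 42 * 4180 := by
      have e2 : (175560 : ℕ) = 42 * 4180 := by norm_num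
      rw [← e2, hG]; ring
    exact Nat.eq_of_mul_eq_mul_left (by norm_num) e1
  have hmd : m ∈ Nat.divisors 4180 := Nat.mem_divisors.mpr ⟨⟨nq, by rw [← hprod, mul_comm]⟩, by norm_num⟩
  have hm0 : 0 < m := Nat.pos_of_ne_zero (by rintro rfl; simp at hprod)
  have hnq' : 4180 / m = nq := Nat.div_eq_of_eq_mul_left hm0 hprod.symm
  have := div4180 m hmd hm2 (by rw [hnq']; exact hnq)
  rw [this]

/-- an element of order `q ∈ {11, 19}` does not commute with an element of order 7. -/
theorem no_seven {x : ↥Spor.J1} {q : ℕ} (hx : orderOf x = q) (hq : q = 11 ∨ q = 19) :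
    ¬ 7 ∣ Nat.card (centralizer (zpowers x : Set ↥Spor.J1)) := by
  intro h7
  have : Fact (Nat.Prime 7) := ⟨by norm_num⟩
  obtain ⟨y, hy⟩ := exists_prime_orderOf_dvd_card' 7 h7
  have hy' : orderOf (y : ↥Spor.J1) = 7 := by rw [Subgroup.orderOf_coe]; exact hy
  have hcomm : Commute (y : ↥Spor.J1) x :=
    ((Subgroup.mem_centralizer_iff.mp y.2) x (Subgroup.mem_zpowers x)).symm
  -- conjugate y into ⟨x₇⟩
  obtain ⟨c, hc⟩ := exists_conj_mem (p := 7) (zpowers (xq 7)) 1
    (by rw [Nat.card_zpowers, orderOf_xq7, pow_one]) (by rw [card_J1]; norm_num)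
    (y : ↥Spor.J1) ⟨1, by rw [hy', pow_one]⟩
  set y' := c⁻¹ * (y : ↥Spor.J1) * c with hy'def
  set x' := c⁻¹ * x * c with hx'def
  have hoy' : orderOf y' = 7 := by rw [hy'def, conj_orderOf, hy']
  have hox' : orderOf x' = q := by rw [hx'def, conj_orderOf, hx]
  have hcomm' : Commute y' x' := by
    have h := hcomm.eq
    show y' * x' = x' * y'
    rw [hy'def, hx'def]
    calc c⁻¹ * ↑y * c * (c⁻¹ * x * c) = c⁻¹ * (↑y * x) * c := by group
      _ = c⁻¹ * (x * ↑y) * c := by rw [h]
      _ = c⁻¹ * x * c * (c⁻¹ * ↑y * c) := by group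
  -- zpowers y' = zpowers x₇
  have hz : zpowers y' = zpowers (xq 7) := by
    apply Subgroup.eq_of_le_of_card_ge (Subgroup.zpowers_le.mpr hc)
    rw [Nat.card_zpowers, Nat.card_zpowers, hoy', orderOf_xq7]
  have hmem : x' ∈ centralizer (zpowers (xq 7) : Set ↥Spor.J1) := by
    rw [← hz, Subgroup.mem_centralizer_iff]
    intro z hz'
    obtain ⟨a, rfl⟩ := Subgroup.mem_zpowers_iff.mp hz'
    exact (Commute.zpow_left hcomm' a).eq
  have := orderOf_dvd_natCard (⟨x', hmem⟩ : centralizer (zpowers (xq 7) : Set ↥Spor.J1))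
  rw [Subgroup.orderOf_mk, hox', card_cent7] at this
  rcases hq with rfl | rfl <;> norm_num at this

theorem card_cent11 : Nat.card (centralizer (zpowers (xq 11) : Set ↥Spor.J1)) = 11 := by
  have : Fact (Nat.Prime 11) := ⟨by norm_num⟩
  obtain ⟨i, m, nq, hri, hiq, hC, hnq, hG⟩ := sylow_arith (q := 11) (r := 10) orderOf_xq11
    (norm_spec (q := 11) (by decide)) (by norm_num) (by decide)
    (by
      intro p hp hpr
      have hple : p ≤ 10 := Nat.le_of_dvd (by norm_num) hpr
      interval_cases p <;>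
        first | decide | exact absurd hp (by decide))
    (by rw [card_J1]; norm_num)
  have hi : i = 10 := Nat.dvd_antisymm hiq hri
  subst hi
  rw [card_J1] at hG
  have hodd : ¬ 2 ∣ Nat.card (centralizer (zpowers (xq 11) : Set ↥Spor.J1)) :=
    odd_centralizer orderOf_xq11 (by norm_num) (by decide)
  have h7 := no_seven orderOf_xq11 (Or.inl rfl)
  rw [hC] at hodd h7 ⊢
  have hm2 : m % 2 = 1 := by
    by_contra h
    exact hodd (Dvd.dvd.mul_left (Nat.dvd_of_mod_eq_zero (by omega)) 11)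
  have hprod : nq * m = 1596 := by
    have e1 : 110 * (nq * m) = 110 * 1596 := by
      have e2 : (175560 : ℕ) = 110 * 1596 := by norm_num
      rw [← e2, hG]; ring
    exact Nat.eq_of_mul_eq_mul_left (by norm_num) e1
  have hmd : m ∈ Nat.divisors 1596 := Nat.mem_divisors.mpr ⟨⟨nq, by rw [← hprod, mul_comm]⟩, by norm_num⟩
  have hm0 : 0 < m := Nat.pos_of_ne_zero (by rintro rfl; simp at hprod)
  have hnq' : 1596 / m = nq := Nat.div_eq_of_eq_mul_left hm0 hprod.symm
  rcases div1596 m hmd hm2 (by rw [hnq']; exact hnq) with h | h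
  · rw [h]
  · exfalso; apply h7; rw [h]; norm_num

theorem card_cent19 : Nat.card (centralizer (zpowers (xq 19) : Set ↥Spor.J1)) = 19 := by
  have : Fact (Nat.Prime 19) := ⟨by norm_num⟩
  obtain ⟨i, m, nq, hri, hiq, hC, hnq, hG⟩ := sylow_arith (q := 19) (r := 6) orderOf_xq19
    (norm_spec (q := 19) (by decide)) (by norm_num) (by decide)
    (by
      intro p hp hpr
      have hple : p ≤ 6 := Nat.le_of_dvd (by norm_num) hpr
      interval_cases p <;>
        first | decide | exact absurd hp (by decide))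
    (by rw [card_J1]; norm_num)
  rw [card_J1] at hG
  have hi : i = 6 := by
    have h18 : i ∈ Nat.divisors 18 := Nat.mem_divisors.mpr ⟨hiq, by norm_num⟩
    have hG' : i ∣ 175560 := ⟨nq * (19 * m), by rw [hG]; ring⟩
    have key : ∀ j ∈ Nat.divisors 18, 6 ∣ j → j ∣ 175560 → j = 6 := by decide
    exact key i h18 hri hG'
  subst hi
  have hodd : ¬ 2 ∣ Nat.card (centralizer (zpowers (xq 19) : Set ↥Spor.J1)) :=
    odd_centralizer orderOf_xq19 (by norm_num) (by decide)
  have h7 := no_seven orderOf_xq19 (Or.inr rfl)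
  rw [hC] at hodd h7 ⊢
  have hm2 : m % 2 = 1 := by
    by_contra h
    exact hodd (Dvd.dvd.mul_left (Nat.dvd_of_mod_eq_zero (by omega)) 19)
  have hprod : nq * m = 1540 := by
    have e1 : 114 * (nq * m) = 114 * 1540 := by
      have e2 : (175560 : ℕ) = 114 * 1540 := by norm_num
      rw [← e2, hG]; ring
    exact Nat.eq_of_mul_eq_mul_left (by norm_num) e1
  have hmd : m ∈ Nat.divisors 1540 := Nat.mem_divisors.mpr ⟨⟨nq, by rw [← hprod, mul_comm]⟩, by norm_num⟩
  have hm0 : 0 < m := Nat.pos_of_ne_zero (by rintro rfl; simp at hprod)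
  have hnq' : 1540 / m = nq := Nat.div_eq_of_eq_mul_left hm0 hprod.symm
  rcases div1540 m hmd hm2 (by rw [hnq']; exact hnq) with h | h
  · rw [h]
  · exfalso; apply h7; rw [h]; norm_num

end Cfsg.Agent.Helper4.J1Spec
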