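import Mathlib
import Cfsg.Agent.Helper4.J1SpecD

/-!
# The spectrum of `J₁` is `{1, 2, 3, 5, 6, 7, 10, 11, 15, 19}`
-/

set_option autoImplicit false

namespace Cfsg.Agent.Helper4.J1Spec

open Cfsg Cfsg.Spor Cfsg.Agent.Helper5.J1 Subgroup

attribute [local irreducible] el evalW

/-- if `q ∈ {7, 11, 19}` divides the order of `g`, then `g` has order `q`. -/
theorem order_of_dvd {q : ℕ} [hq : Fact q.Prime] (hxq : orderOf (xq q) = q)
    (hcent : Nat.card (centralizer (zpowers (xq q) : Set ↥Spor.J1)) = q)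
    (hq2 : ¬ q ^ 2 ∣ Nat.card ↥Spor.J1) (g : ↥Spor.J1) (hdvd : q ∣ orderOf g) :
    orderOf g = q := by
  have hpos : 0 < orderOf g := orderOf_pos g
  obtain ⟨k, hk⟩ := hdvd
  have hk0 : k ≠ 0 := by rintro rfl; omega
  have hh : orderOf (g ^ k) = q := by
    rw [orderOf_pow_of_dvd hk0 ⟨q, by rw [hk, mul_comm]⟩, hk]
    exact Nat.mul_div_cancel q (Nat.pos_of_ne_zero hk0)
  obtain ⟨c, hc⟩ := exists_conj_mem (p := q) (zpowers (xq q)) 1
    (by rw [Nat.card_zpowers, hxq, pow_one]) hq2 (g ^ k) ⟨1, by rw [hh, pow_one]⟩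
  set h' := c⁻¹ * g ^ k * c with hh'def
  set g' := c⁻¹ * g * c with hg'def
  have hoh' : orderOf h' = q := by rw [hh'def, conj_orderOf, hh]
  have hog' : orderOf g' = orderOf g := by rw [hg'def, conj_orderOf]
  have hcomm' : Commute h' g' := by
    have h : g ^ k * g = g * g ^ k := (Commute.pow_self g k).eq
    show h' * g' = g' * h'
    rw [hh'def, hg'def]
    calc c⁻¹ * g ^ k * c * (c⁻¹ * g * c) = c⁻¹ * (g ^ k * g) * c := by group
      _ = c⁻¹ * (g * g ^ k) * c := by rw [h]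
      _ = c⁻¹ * g * c * (c⁻¹ * g ^ k * c) := by group
  have hz : zpowers h' = zpowers (xq q) := by
    apply Subgroup.eq_of_le_of_card_ge (Subgroup.zpowers_le.mpr hc)
    rw [Nat.card_zpowers, Nat.card_zpowers, hoh', hxq]
  have hmem : g' ∈ centralizer (zpowers (xq q) : Set ↥Spor.J1) := by
    rw [← hz, Subgroup.mem_centralizer_iff]
    intro z hz'
    obtain ⟨a, rfl⟩ := Subgroup.mem_zpowers_iff.mp hz'
    exact (Commute.zpow_left hcomm' a).eq
  have h1 := orderOf_dvd_natCard (⟨g', hmem⟩ : centralizer (zpowers (xq q) : Set ↥Spor.J1))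
  rw [Subgroup.orderOf_mk, hog', hcent] at h1
  exact Nat.dvd_antisymm h1 ⟨k, hk⟩

theorem odd_divisors : ∀ o ∈ Nat.divisors 21945, ¬ 7 ∣ o → ¬ 11 ∣ o → ¬ 19 ∣ o →
    o = 1 ∨ o = 3 ∨ o = 5 ∨ o = 15 := by
  decide +kernel

/-- the possible element orders. -/
theorem orderOf_mem (g : ↥Spor.J1) :
    orderOf g ∈ ({1, 2, 3, 5, 6, 7, 10, 11, 15, 19} : Set ℕ) := by
  simp only [Set.mem_insert_iff, Set.mem_singleton_iff]
  by_cases hev : Even (orderOf g)
  · rcases even_order g hev with h | h | h <;> omega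
  · have hodd : Odd (orderOf g) := Nat.not_even_iff_odd.mp hev
    have hdvd : orderOf g ∣ 175560 := by rw [← card_J1]; exact orderOf_dvd_natCard g
    have h7 : Fact (Nat.Prime 7) := ⟨by norm_num⟩
    have h11 : Fact (Nat.Prime 11) := ⟨by norm_num⟩
    have h19 : Fact (Nat.Prime 19) := ⟨by norm_num⟩
    by_cases d7 : 7 ∣ orderOf g
    · have := order_of_dvd (q := 7) orderOf_xq7 card_cent7 (by rw [card_J1]; norm_num) g d7
      omega
    by_cases d11 : 11 ∣ orderOf g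
    · have := order_of_dvd (q := 11) orderOf_xq11 card_cent11 (by rw [card_J1]; norm_num) g d11
      omega
    by_cases d19 : 19 ∣ orderOf g
    · have := order_of_dvd (q := 19) orderOf_xq19 card_cent19 (by rw [card_J1]; norm_num) g d19
      omega
    have hd2 : orderOf g ∣ 21945 := by
      have hcop : (orderOf g).Coprime 8 := by
        have : (orderOf g).Coprime 2 := (Nat.coprime_two_right).mpr hodd
        exact Nat.Coprime.pow_right 3 this
      have e : (175560 : ℕ) = 8 * 21945 := by norm_num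
      rw [e] at hdvd
      exact hcop.dvd_of_dvd_mul_left hdvd
    have hmem : orderOf g ∈ Nat.divisors 21945 := Nat.mem_divisors.mpr ⟨hd2, by norm_num⟩
    rcases odd_divisors _ hmem d7 d11 d19 with h | h | h | h <;> omega

theorem prime_dvd_mul_primes {p a b : ℕ} (hp : p.Prime) (ha : a.Prime) (hb : b.Prime)
    (h : p ∣ a * b) : p = a ∨ p = b := by
  rcases (Nat.Prime.dvd_mul hp).1 h with h | h
  · left; exact (Nat.prime_dvd_prime_iff_eq hp ha).1 h
  · right; exact (Nat.prime_dvd_prime_iff_eq hp hb).1 h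

theorem orderOf_cW6 : orderOf (el (cW 6)) = 6 := by
  have h := cW_ok
  simp only [Bool.and_eq_true] at h
  obtain ⟨⟨⟨⟨⟨⟨⟨⟨a1, a2⟩, a3⟩, _⟩, _⟩, _⟩, _⟩, _⟩, _⟩ := h
  apply orderOf_eq_of_pow_and_pow_div_prime (by norm_num)
  · rw [el_pow, el_eq_of_eqW a1, el_nil]
  · intro p hp hpd
    rcases prime_dvd_mul_primes hp Nat.prime_two Nat.prime_three hpd with rfl | rfl
    · show el (cW 6) ^ 3 ≠ 1
      rw [el_pow, ← el_nil]; exact el_ne_of_neW a2
    · show el (cW 6) ^ 2 ≠ 1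
      rw [el_pow, ← el_nil]; exact el_ne_of_neW a3

theorem orderOf_cW10 : orderOf (el (cW 10)) = 10 := by
  have h := cW_ok
  simp only [Bool.and_eq_true] at h
  obtain ⟨⟨⟨⟨⟨⟨⟨⟨_, _⟩, _⟩, a1⟩, a2⟩, a3⟩, _⟩, _⟩, _⟩ := h
  apply orderOf_eq_of_pow_and_pow_div_prime (by norm_num)
  · rw [el_pow, el_eq_of_eqW a1, el_nil]
  · intro p hp hpd
    rcases prime_dvd_mul_primes hp Nat.prime_two Nat.prime_five hpd with rfl | rfl
    · show el (cW 10) ^ 5 ≠ 1
      rw [el_pow, ← el_nil]; exact el_ne_of_neW a2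
    · show el (cW 10) ^ 2 ≠ 1
      rw [el_pow, ← el_nil]; exact el_ne_of_neW a3

theorem orderOf_cW15 : orderOf (el (cW 15)) = 15 := by
  have h := cW_ok
  simp only [Bool.and_eq_true] at h
  obtain ⟨⟨⟨⟨⟨⟨⟨⟨_, _⟩, _⟩, _⟩, _⟩, _⟩, a1⟩, a2⟩, a3⟩ := h
  apply orderOf_eq_of_pow_and_pow_div_prime (by norm_num)
  · rw [el_pow, el_eq_of_eqW a1, el_nil]
  · intro p hp hpd
    rcases prime_dvd_mul_primes hp Nat.prime_three Nat.prime_five hpd with rfl | rfl
    · show el (cW 15) ^ 5 ≠ 1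
      rw [el_pow, ← el_nil]; exact el_ne_of_neW a2
    · show el (cW 15) ^ 3 ≠ 1
      rw [el_pow, ← el_nil]; exact el_ne_of_neW a3

/-- The set of element orders of `J₁`. -/
theorem spectrum_J1 :
    Set.range (orderOf : ↥Spor.J1 → ℕ) = ({1, 2, 3, 5, 6, 7, 10, 11, 15, 19} : Set ℕ) := by
  apply Set.Subset.antisymm
  · rintro _ ⟨g, rfl⟩
    exact orderOf_mem g
  · intro n hn
    simp only [Set.mem_insert_iff, Set.mem_singleton_iff] at hn
    rcases hn with rfl | rfl | rfl | rfl | rfl | rfl | rfl | rfl | rfl | rfl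
    · exact ⟨1, orderOf_one⟩
    · exact ⟨tJ, orderOf_tJ⟩
    · exact ⟨el (gW 3), orderOf_gW (p := 3) (by decide)⟩
    · exact ⟨el (gW 5), orderOf_gW (p := 5) (by decide)⟩
    · exact ⟨_, orderOf_cW6⟩
    · exact ⟨_, orderOf_xq7⟩
    · exact ⟨_, orderOf_cW10⟩
    · exact ⟨_, orderOf_xq11⟩
    · exact ⟨_, orderOf_cW15⟩
    · exact ⟨_, orderOf_xq19⟩

end Cfsg.Agent.Helper4.J1Spec
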