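import Mathlib

/-!
# A family of Frobenius groups `K ⋊ μ₇(K)` (`K` a finite field of characteristic 11) with
spectrum `{1, 7, 11}`, realised as affine permutations of `K`; and spectra of direct products.
-/

set_option autoImplicit false

namespace Cfsg.Agent.Helper4.J1Spec

section Aff

variable (K : Type) [Field K]

/-- affine maps `x ↦ a x + b` with `a ^ 7 = 1`. -/
def affSub : Subgroup (Equiv.Perm K) where
  carrier := {σ | ∃ a b : K, a ^ 7 = 1 ∧ ∀ x, σ x = a * x + b}
  mul_mem' := by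
    rintro σ τ ⟨a, b, ha, hσ⟩ ⟨a', b', ha', hτ⟩
    refine ⟨a * a', a * b' + b, by rw [mul_pow, ha, ha', one_mul], fun x => ?_⟩
    rw [Equiv.Perm.mul_apply, hτ, hσ]; ring
  one_mem' := ⟨1, 0, one_pow 7, fun x => by simp⟩
  inv_mem' := by
    rintro σ ⟨a, b, ha, hσ⟩
    have ha0 : a ≠ 0 := by
      rintro rfl
      norm_num at ha
    refine ⟨a⁻¹, -(a⁻¹ * b), by rw [inv_pow, ha, inv_one], fun x => ?_⟩
    rw [Equiv.Perm.inv_def, Equiv.symm_apply_eq, hσ]
    field_simp
    ring

variable {K}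

theorem aff_pow {σ : Equiv.Perm K} {a b : K} (hσ : ∀ x, σ x = a * x + b) (k : ℕ) (x : K) :
    (σ ^ k) x = a ^ k * x + b * ∑ i ∈ Finset.range k, a ^ i := by
  induction k with
  | zero => simp
  | succ k ih =>
    rw [pow_succ', Equiv.Perm.mul_apply, ih, hσ, geom_sum_succ]
    ring

theorem aff_pow_eq_one [CharP K 11] {σ : Equiv.Perm K} (h : σ ∈ affSub K) :
    σ ^ 7 = 1 ∨ σ ^ 11 = 1 := by
  obtain ⟨a, b, ha, hσ⟩ := h
  by_cases h1 : a = 1
  · right
    ext x
    rw [aff_pow hσ, h1]
    have : (11 : K) = 0 := by exact_mod_cast CharP.cast_eq_zero K 11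
    simp [this]
  · left
    ext x
    rw [aff_pow hσ, ha]
    have h2 : (∑ i ∈ Finset.range 7, a ^ i) * (a - 1) = 0 := by
      rw [geom_sum_mul, ha, sub_self]
    have h3 : ∑ i ∈ Finset.range 7, a ^ i = 0 := by
      rcases mul_eq_zero.mp h2 with h | h
      · exact h
      · exact absurd (sub_eq_zero.mp h) h1
    rw [h3]; simp

theorem orderOf_aff [CharP K 11] (σ : affSub K) :
    orderOf σ = 1 ∨ orderOf σ = 7 ∨ orderOf σ = 11 := by
  rcases aff_pow_eq_one σ.2 with h | h
  · have h' : σ ^ 7 = 1 := Subtype.ext (by simpa using h)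
    rcases (Nat.dvd_prime (by norm_num : Nat.Prime 7)).1 (orderOf_dvd_of_pow_eq_one h') with
      h2 | h2
    · left; exact h2
    · right; left; exact h2
  · have h' : σ ^ 11 = 1 := Subtype.ext (by simpa using h)
    rcases (Nat.dvd_prime (by norm_num : Nat.Prime 11)).1 (orderOf_dvd_of_pow_eq_one h') with
      h2 | h2
    · left; exact h2
    · right; right; exact h2

/-- translations. -/
def affTrans (b : K) : affSub K :=
  ⟨Equiv.addRight b, 1, b, one_pow 7, fun x => by simp⟩

theorem affTrans_injective : Function.Injective (affTrans (K := K)) := by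
  intro b b' h
  have := congrArg (fun σ : affSub K => (σ : Equiv.Perm K) 0) h
  simpa [affTrans] using this

theorem card_aff_ge [Fintype K] [Fintype (affSub K)] : Fintype.card K ≤ Fintype.card (affSub K) :=
  Fintype.card_le_of_injective _ affTrans_injective

theorem exists_orderOf_eleven [CharP K 11] : ∃ σ : affSub K, orderOf σ = 11 := by
  refine ⟨affTrans 1, ?_⟩
  rcases orderOf_aff (affTrans (1 : K)) with h | h | h
  · exfalso
    rw [orderOf_eq_one_iff] at h
    have := congrArg (fun σ : affSub K => (σ : Equiv.Perm K) 0) h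
    simp [affTrans] at this
  · exfalso
    have h7 : (affTrans (1 : K)) ^ 7 = 1 := by rw [← h]; exact pow_orderOf_eq_one _
    have := congrArg (fun σ : affSub K => (σ : Equiv.Perm K) 0) h7
    simp only [Subgroup.coe_pow, Subgroup.coe_one, Equiv.Perm.coe_one, id_eq] at this
    rw [aff_pow (a := 1) (b := 1) (by intro x; simp [affTrans])] at this
    simp only [one_pow, mul_zero, Finset.sum_const, Finset.card_range, nsmul_eq_mul, mul_one,
      zero_add, one_mul] at this
    -- (7 : K) = 0 contradicts char 11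
    have h11 : (11 : K) = 0 := by exact_mod_cast CharP.cast_eq_zero K 11
    have h7' : (7 : K) = 0 := by simpa using this
    have e : (1 : K) = 2 * 11 - 3 * 7 := by norm_num
    rw [h11, h7'] at e
    simp at e
  · exact h

theorem exists_orderOf_seven [Fintype K] (h7 : 7 ∣ Fintype.card K - 1) :
    ∃ σ : affSub K, orderOf σ = 7 := by
  classical
  have : Fact (Nat.Prime 7) := ⟨by norm_num⟩
  have hcard : 7 ∣ Fintype.card Kˣ := by rw [Fintype.card_units]; exact h7
  obtain ⟨ζ, hζ⟩ := exists_prime_orderOf_dvd_card 7 hcard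
  have hζ7 : (ζ : K) ^ 7 = 1 := by
    have : ζ ^ 7 = 1 := by rw [← hζ]; exact pow_orderOf_eq_one ζ
    have := congrArg (fun u : Kˣ => (u : K)) this
    simpa using this
  have hζ1 : (ζ : K) ≠ 1 := by
    intro h
    have : ζ = 1 := Units.ext h
    rw [this, orderOf_one] at hζ
    norm_num at hζ
  let σ : affSub K := ⟨Equiv.mulLeft₀ (ζ : K) ζ.ne_zero, (ζ : K), 0, hζ7, fun x => by simp⟩
  refine ⟨σ, ?_⟩
  apply orderOf_eq_prime
  · apply Subtype.ext
    ext x
    simp only [Subgroup.coe_pow, Subgroup.coe_one, Equiv.Perm.coe_one, id_eq]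
    rw [aff_pow (a := (ζ : K)) (b := 0) (by intro x; simp [σ]), hζ7]
    simp
  · intro h
    have := congrArg (fun τ : affSub K => (τ : Equiv.Perm K) 1) h
    simp [σ] at this
    exact hζ1 (by rw [this]; rfl)

theorem exists_field (n : ℕ) (hn : n ≠ 0) :
    ∃ (K : Type) (_ : Field K) (_ : Fintype K) (_ : CharP K 11), Fintype.card K = 11 ^ n := by
  have : Fact (Nat.Prime 11) := ⟨by norm_num⟩
  refine ⟨GaloisField 11 n, inferInstance, Fintype.ofFinite _, inferInstance, ?_⟩
  rw [Fintype.card_eq_nat_card]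
  exact GaloisField.card 11 n hn

/-- finite groups of arbitrarily large order with spectrum `{1, 7, 11}`. -/
theorem exists_frob (N : ℕ) : ∃ (F : Type) (_ : Group F) (_ : Fintype F), N < Fintype.card F ∧
    Set.range (orderOf : F → ℕ) = (({1, 7, 11} : Finset ℕ) : Set ℕ) := by
  classical
  obtain ⟨K, fK, ftK, cK, hK⟩ := exists_field (3 * (N + 1)) (by omega)
  refine ⟨affSub K, inferInstance, Fintype.ofFinite _, ?_, ?_⟩
  · have h1 : N < 11 ^ (3 * (N + 1)) := by
      calc N < 3 * (N + 1) := by omega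
        _ < 11 ^ (3 * (N + 1)) := Nat.lt_pow_self (by norm_num)
    have h2 := @card_aff_ge K _ _ (Fintype.ofFinite _)
    rw [hK] at h2
    exact lt_of_lt_of_le h1 h2
  · apply Set.Subset.antisymm
    · rintro _ ⟨σ, rfl⟩
      rcases orderOf_aff σ with h | h | h <;> simp [h]
    · intro n hn
      simp only [Finset.coe_insert, Finset.coe_singleton, Set.mem_insert_iff,
        Set.mem_singleton_iff] at hn
      rcases hn with rfl | rfl | rfl
      · exact ⟨1, orderOf_one⟩
      · apply exists_orderOf_seven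
        rw [hK]
        have e : (11 : ℕ) ^ (3 * (N + 1)) = (1331 : ℕ) ^ (N + 1) := by
          rw [pow_mul]; norm_num
        rw [e]
        have h := Nat.sub_dvd_pow_sub_pow 1331 1 (N + 1)
        rw [one_pow] at h
        exact dvd_trans (by norm_num) h
      · exact exists_orderOf_eleven

end Aff

section Prod

variable {A B : Type*} [Group A] [Group B]

theorem range_orderOf_prod :
    Set.range (orderOf : A × B → ℕ) =
      Set.image2 Nat.lcm (Set.range (orderOf : A → ℕ)) (Set.range (orderOf : B → ℕ)) := by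
  ext n
  constructor
  · rintro ⟨⟨a, b⟩, rfl⟩
    exact ⟨orderOf a, ⟨a, rfl⟩, orderOf b, ⟨b, rfl⟩, (Prod.orderOf_mk).symm⟩
  · rintro ⟨_, ⟨a, rfl⟩, _, ⟨b, rfl⟩, rfl⟩
    exact ⟨(a, b), Prod.orderOf_mk⟩

theorem range_orderOf_prod_finset [DecidableEq ℕ] (S T : Finset ℕ)
    (hS : Set.range (orderOf : A → ℕ) = (S : Set ℕ)) (hT : Set.range (orderOf : B → ℕ) = (T : Set ℕ)) :
    Set.range (orderOf : A × B → ℕ) = ((Finset.image₂ Nat.lcm S T : Finset ℕ) : Set ℕ) := by
  rw [range_orderOf_prod, hS, hT, Finset.coe_image₂]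

theorem range_orderOf_prod4 (S T : Finset ℕ)
    (hS : Set.range (orderOf : A → ℕ) = (S : Set ℕ)) (hT : Set.range (orderOf : B → ℕ) = (T : Set ℕ)) :
    Set.range (orderOf : A × A × A × B → ℕ) =
      ((Finset.image₂ Nat.lcm S (Finset.image₂ Nat.lcm S (Finset.image₂ Nat.lcm S T)) : Finset ℕ) :
        Set ℕ) :=
  range_orderOf_prod_finset _ _ hS
    (range_orderOf_prod_finset _ _ hS (range_orderOf_prod_finset _ _ hS hT))

theorem spec_finset_eq :
    Finset.image₂ Nat.lcm ({1, 2, 3, 5, 6, 7, 10, 11, 15, 19} : Finset ℕ)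
      (Finset.image₂ Nat.lcm ({1, 2, 3, 5, 6, 7, 10, 11, 15, 19} : Finset ℕ)
        (Finset.image₂ Nat.lcm ({1, 2, 3, 5, 6, 7, 10, 11, 15, 19} : Finset ℕ)
          ({1, 7, 11} : Finset ℕ))) =
    Finset.image₂ Nat.lcm ({1, 2, 3, 5, 6, 7, 10, 11, 15, 19} : Finset ℕ)
      (Finset.image₂ Nat.lcm ({1, 2, 3, 5, 6, 7, 10, 11, 15, 19} : Finset ℕ)
        (Finset.image₂ Nat.lcm ({1, 2, 3, 5, 6, 7, 10, 11, 15, 19} : Finset ℕ)
          ({1, 2, 3, 5, 6, 7, 10, 11, 15, 19} : Finset ℕ))) := by
  decide +kernel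

end Prod

end Cfsg.Agent.Helper4.J1Spec
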