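import Mathlib

/-!
# generated: data for the Schur multiplier of the Hall–Janko group

In helper9's permutation model of `J2` on 315 points (`Helper9.J2B`, four involutions as letters): words for
elements `a, b` of order 7 generating a subgroup `U3(3)` (order 6048) and for an element `c` of order 7, and for
their inverses; relators; stabiliser chains for the subgroup and for the group (words in the six letters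
`a, a⁻¹, b, b⁻¹, c, c⁻¹`).
-/

set_option autoImplicit false

namespace Cfsg.Agent.Helper4.J2M

/-- the letters `a, a⁻¹, b, b⁻¹, c, c⁻¹` as words in the four letters of the model. -/
def LW : ℕ → List ℕ
  | 0 => [0, 1, 2]
  | 1 => [2, 1, 0]
  | 2 => [0, 2, 3, 1, 2, 3]
  | 3 => [3, 2, 1, 3, 2, 0]
  | 4 => [0, 1, 3, 0, 2, 3]
  | _ => [3, 2, 0, 3, 1, 0]

/-- the central words: three new ones, and those of the subgroup of order 6048. -/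
def CC : List (List ℕ) := [[5, 0, 4, 1, 1, 3, 1, 2, 2, 2, 0], [4, 2, 5, 2, 5, 1, 1, 3, 0, 0, 0, 3, 1], [4, 3, 3, 3, 4, 1, 1, 3, 3, 1, 1, 1, 2], [3, 0, 3, 1, 1, 3, 3, 3, 1, 1], [3, 0, 2, 1, 2, 1, 2, 0, 3, 1, 1, 1]]

/-- the central words of the subgroup of order 6048. -/
def CU : List (List ℕ) := [[3, 0, 3, 1, 1, 3, 3, 3, 1, 1], [3, 0, 2, 1, 2, 1, 2, 0, 3, 1, 1, 1]]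

theorem CC_eq : CC = [[5, 0, 4, 1, 1, 3, 1, 2, 2, 2, 0], [4, 2, 5, 2, 5, 1, 1, 3, 0, 0, 0, 3, 1], [4, 3, 3, 3, 4, 1, 1, 3, 3, 1, 1, 1, 2]] ++ CU := rfl

/-- the words of level 0 of the stabiliser chain of the subgroup (base point 0). -/
def wsU0 : List (List ℕ) :=
  [[], [3, 1, 2, 0, 0], [2, 0, 2, 1, 3], [2, 1, 2], [3, 1], [0, 2, 1, 3], [2, 1, 2, 0, 3], [2, 0, 3], [1, 3, 0, 2], [1, 3, 1], [0, 0, 2, 2, 1, 2], [1, 3, 3, 1, 3], [2, 0], [3, 0, 3], [2, 1, 1], [2, 0, 0], [0, 3, 3, 1, 3], [0, 0, 3], [0, 0, 2], [0, 2], [0, 3, 1, 3], [0, 0, 0], [2, 1, 2, 0, 2], [0, 0, 2, 2, 2], [3, 1, 2, 0], [1, 2, 2], [3, 1, 1], [0, 2, 2, 1, 2], [0, 2, 0], [0, 0, 0, 2, 2], [3, 0, 2, 2], [0, 2, 1, 1], [2, 2, 2], [2, 2, 0, 0], [2, 1,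 3], [2, 0, 3, 1], [2, 2, 2, 0], [1, 3], [2, 2, 0, 3], [1, 1, 1], [1, 1, 2, 2, 2], [0, 2, 2, 0, 0], [1, 1, 2], [1, 3, 3, 1, 1], [0, 3, 0, 2, 2, 0], [3, 3, 0, 3], [0, 2, 2], [3, 0, 0, 2, 2], [0, 3, 1, 1], [0, 0, 0, 3, 1], [2, 1, 1, 2, 2], [0, 2, 0, 2, 2], [0, 0, 2, 2, 0], [0, 3, 0, 3], [0, 3, 0], [0, 3, 0, 3, 1, 3], [0, 3, 1, 2], [1, 1, 3], [1, 1, 3, 0], [1, 3, 1, 1, 3], [0, 2, 0, 0, 3], [3, 0, 0, 2, 0, 3], [0, 3, 1, 2, 2], [0, 0, 3, 1], [2, 1, 2, 2], [1, 2, 0, 0], [3, 3, 1, 2], [3], [0, 2, 1, 3, 3, 1, 3], [1, 2, 1, 3], [0, 3, 1], [1, 3, 1, 3, 0], [1, 1, 2, 0, 3], [2, 2, 2, 0, 3], [0, 2, 1, 1, 3], [3, 0, 3, 0, 2], [3, 1, 3, 0, 2], [0, 2, 1, 3, 1], [0, 2, 2, 0, 3], [0, 2, 0, 2], [0, 2, 1, 3, 1, 3], [1, 1], [1, 1,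 1, 3], [0, 3, 1, 2, 1, 1], [2, 1, 3, 1], [0, 0, 2, 0, 3], [3, 1, 3], [1, 3, 1, 3], [1, 3, 0, 0, 2], [1, 3, 0, 3], [2, 2, 0, 3, 0], [0, 3, 0, 2, 0, 3], [1, 2, 1, 1, 2], [1, 1, 2, 1, 3], [3, 3, 3, 0, 3], [0, 0], [0, 0, 2, 0], [0, 0, 0, 2, 0], [1, 1, 3, 1, 3], [2, 1, 3, 0], [1, 2, 1, 3, 0], [0, 0, 0, 3], [0, 0, 2, 0, 0, 0], [1, 1, 2, 0], [0, 0, 2, 0, 2], [0, 0, 0, 2, 0, 2], [1, 1, 3, 3, 1, 3], [1, 1, 2, 2], [2, 2], [2, 2, 1, 3, 0], [0, 3, 0, 2], [2, 1, 3, 3, 1, 3], [2, 1, 3, 1, 3], [1, 1, 3, 1, 2], [1, 2, 0, 3, 0], [1, 2], [3, 3, 1, 2, 0], [1, 3, 0, 0, 2, 2], [0, 2, 2, 1, 3, 0], [1, 2, 0, 2, 2], [3, 0, 0, 3, 0], [3, 1, 1, 2, 0], [3, 0, 0, 2], [0, 3, 1, 3, 0, 2], [1, 2, 2, 0, 3], [1, 2, 0, 3], [1, 2, 0, 0, 3], [0],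 [3, 3, 1, 3], [0, 2, 0, 3], [3, 0, 2], [1, 1, 2, 2, 2, 0], [2, 2, 0], [3, 3, 3, 1, 3], [2, 0, 0, 0], [0, 0, 3, 1, 2], [0, 2, 2, 1, 3], [0, 0, 0, 3, 1, 1], [2, 2, 1, 3], [0, 3], [0, 3, 0, 2, 2], [0, 0, 3, 0], [2, 0, 2], [3, 0, 2, 0], [2, 1, 1, 1, 2, 0], [3, 0, 3, 0], [2, 0, 3, 0], [2, 0, 3, 0, 0, 2], [2, 2, 1, 2], [2, 0, 2, 2], [2, 0, 2, 1, 1], [1], [0, 2, 1, 2], [3, 0], [1, 2, 0, 3, 1], [2], [0, 0, 2, 0, 3, 1], [0, 0, 3, 0, 3], [0, 2, 1, 1, 1, 3], [1, 1, 2, 1, 2], [0, 2, 0, 3, 0, 3], [1, 2, 1, 3, 1], [0, 3, 0, 2, 0], [0, 0, 2, 2, 0, 0], [0, 2, 1, 1, 3, 1, 2], [3, 1, 2], [0, 2, 0, 3, 0], [0, 2, 2, 2], [0, 0, 3, 3, 1, 3], [1, 3, 1, 2], [1, 3, 0, 2, 2], [2, 1, 1, 2], [1, 1, 2, 2, 0, 3], [1, 2, 1, 2], [1, 2, 2, 2,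 0], [1, 1, 1, 2, 0, 2], [0, 0, 0, 2, 0, 2, 2], [1, 2, 1, 3, 0, 2], [0, 2, 0, 2, 1, 3], [2, 0, 0, 2], [1, 3, 1, 1], [1, 2, 1, 1], [0, 3, 1, 3, 0], [2, 1, 3, 0, 2], [2, 1, 1, 3, 0], [3, 1, 1, 3], [0, 0, 3, 0, 2, 0], [0, 2, 1, 1, 2, 2], [0, 3, 0, 0, 2], [2, 2, 2, 0, 3, 0], [2, 2, 1, 3, 0, 2], [1, 3, 1, 2, 1, 1], [0, 2, 0, 3, 1], [0, 3, 3, 1, 2], [3, 1, 2, 0, 3, 0], [1, 1, 2, 0, 2], [2, 2, 0, 3, 0, 2], [2, 1, 1, 3], [0, 2, 0, 0, 0], [1, 1, 1, 2, 0, 3], [0, 2, 1, 1, 2], [2, 0, 3, 1, 2, 2], [2, 1, 1, 3, 1, 3], [3, 1, 2, 1, 1], [1, 1, 1, 3, 1], [0, 0, 2, 0, 3, 0], [2, 0, 0, 3], [2, 1, 1, 2, 0, 2], [2, 0, 3, 0, 3], [3, 1, 2, 2], [2, 0, 0, 3, 0, 3], [0, 0, 3, 0, 2], [1, 1, 2, 0, 3, 0], [1, 3, 3, 1, 2], [1, 2, 2, 1, 3,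 0, 2], [1, 2, 1, 2, 2], [1, 1, 1, 2], [3, 0, 2, 2, 0], [2, 1, 1, 1, 3], [3, 0, 3, 1, 3], [3, 0, 2, 0, 3], [3, 3, 1, 1], [2, 1, 1, 3, 1, 2], [0, 0, 2, 1, 1], [2, 0, 3, 0, 2], [0, 2, 0, 0], [2, 1, 3, 3, 1, 2], [3, 1, 3, 0], [0, 0, 3, 1, 1], [3, 0, 0, 2, 0], [2, 0, 2, 1, 2], [1, 1, 3, 1], [1, 2, 1, 1, 3], [0, 3, 0, 0, 3, 0], [0, 0, 2, 0, 2, 2], [1, 1, 2, 0, 2, 2], [1, 2, 2, 2, 0, 3], [0, 0, 2, 2], [1, 2, 0, 2], [0, 2, 2, 0, 3, 0, 2], [1, 1, 1, 2, 0], [0, 0, 0, 2, 0, 3], [2, 1, 3, 1, 2], [1, 2, 0], [0, 2, 2, 0], [0, 0, 0, 2], [3, 1, 1, 1], [1, 2, 2, 2], [2, 0, 3, 1, 2], [1, 1, 3, 1, 3, 0], [1, 3, 0], [2, 2, 0, 0, 2]]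

/-- the words of level 1 of the stabiliser chain of the subgroup (base point 2). -/
def wsU1 : List (List ℕ) :=
  [[], [3, 0, 0, 0, 3, 3, 0, 2], [0, 3, 3, 0, 3, 3], [1, 2, 2, 1, 3, 3, 0, 0], [1, 1, 2, 2, 0, 3, 3, 0], [3, 1, 2, 2, 1, 1, 1, 2], [1, 1, 2, 2, 1, 1], [3, 1, 3, 3, 1, 1, 2], [2, 2, 0, 3, 3, 0, 0], [1, 1, 1, 3, 3, 0, 0, 3], [2, 2, 0, 0, 3, 3, 0], [2, 1, 1, 2, 2, 0, 0, 0], [1, 2, 2, 1, 1, 3, 3], [1, 1, 1, 2, 2, 1, 1, 3], [0, 0, 0, 3, 3, 0], [0, 3, 3, 1, 1, 2, 2, 1, 1], [2, 0, 0, 3, 3, 0, 0, 0], [0, 0, 3, 3, 0, 0], [2, 2, 1], [3, 0, 0, 2, 2, 0, 2], [0, 3, 3], [0, 0, 3, 3, 0, 0, 2, 2, 1], [1, 1, 2, 2, 1, 3, 3], [1, 2, 2, 1, 1, 1]]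

/-- the words of level 0 of the stabiliser chain of the group (base point 0). -/
def wsG0 : List (List ℕ) :=
  [[], [1, 4, 4, 1], [1, 1, 1, 5], [2, 1, 2], [3, 1], [1, 2, 2, 0], [3, 3, 4], [5, 2, 5], [2, 0, 3], [3, 0, 4, 1], [1, 3, 1], [5, 3, 1, 4], [5, 1, 4], [2, 0], [3, 0, 3], [3, 0, 0], [4, 0, 0, 0], [2, 0, 0], [4, 4, 0, 5, 0], [0, 0, 3], [0, 0, 2], [0, 2], [2, 4, 4, 1], [0, 0, 0], [0, 4, 2, 0, 0], [0, 5, 5, 0], [5, 5, 3, 4], [3, 1, 2, 0], [2, 4, 0], [3, 1, 1], [3, 3, 5, 5], [0, 2, 0], [4, 0, 4, 0], [0, 3, 4, 0], [3, 0, 2, 2], [0, 3, 0, 0], [3, 3, 1], [4, 3, 4], [2, 1, 3], [2, 0, 3, 1], [2, 2, 2, 0], [1, 3], [2, 2, 0, 3], [3, 3, 0], [2, 5, 2, 2, 0], [5, 2, 0], [4, 0, 5, 2], [0, 0, 3, 4], [1, 1, 2], [5, 1,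 4, 0], [2, 5, 1, 1], [2, 5, 3, 1], [0, 2, 2], [3, 3, 4, 0], [0, 3, 1, 1], [4, 3, 5, 2], [5, 3, 0, 0], [3, 5, 2, 0], [5, 5], [5, 2, 1, 5], [3, 1, 5], [0, 3, 0], [1, 3, 4], [3, 0, 4, 0], [3, 3, 5, 0], [0, 4], [3, 5, 2], [1, 1, 3, 0], [1, 1, 4, 0], [5, 3, 5, 2], [4, 3, 1, 3], [3, 4, 0, 0], [4, 4], [2, 5, 3, 4], [0, 4, 0], [4, 2, 1, 5], [3, 4, 4, 0], [2, 2, 4, 0], [1, 2, 0, 0], [3, 3, 1, 2], [2, 2, 4], [5, 3, 4], [3], [2, 4], [5, 0, 3, 5], [2, 4, 3, 0, 0], [0, 0, 4], [2, 4, 2, 0], [5, 2, 4], [4, 0, 4], [1, 2, 1, 3], [0, 3, 1], [2, 0, 2, 0, 0], [0, 2, 5], [4, 1, 3], [0, 5, 2], [1, 5, 5, 0], [2, 2, 4, 1], [3, 5, 1, 1], [2, 4, 3, 0], [4, 4, 0], [4, 2, 0, 4], [1, 1], [4, 4, 4], [4, 2, 2, 0], [5, 1, 5, 2], [0, 0, 5],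 [5, 0, 3, 4], [4, 0, 0], [3, 1, 3], [2, 0, 2, 0], [0, 3, 0, 5], [1, 3, 0, 3], [3, 1, 3, 4], [1, 3, 4, 1], [3, 0, 5], [0, 0, 2, 4], [3, 4, 1], [2, 0, 3, 4], [0, 2, 4], [2, 1, 4, 1], [5, 3, 1], [2, 4, 4], [0, 4, 4], [0, 0], [0, 0, 2, 0], [3, 5, 3, 4], [0, 3, 4], [0, 0, 0, 2, 0], [5, 2, 0, 3], [2, 1, 3, 0], [5, 2, 2, 2, 0], [5, 0, 3], [5, 1, 3, 1], [1, 1, 2, 0], [0, 4, 4, 0], [5, 5, 1, 4], [1, 5, 1, 4], [2, 1, 2, 0], [1, 2, 0, 4], [2, 2], [1, 1, 5, 0], [0, 3, 0, 2], [4, 2, 5], [0, 4, 1, 4], [5, 0], [5, 1, 2, 2, 0], [1, 2], [1, 3, 5, 0], [2, 4, 1], [1, 5, 0], [5, 1, 1], [5, 3, 3, 1], [1, 4, 2, 0], [0, 0, 4, 1], [3, 0, 0, 2], [2, 5, 3, 1, 1], [3, 4, 2, 0], [2, 5, 2, 0], [1, 2, 0, 3], [5, 2, 2, 0], [0], [3, 3, 1, 3],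 [1, 2, 4], [1, 4, 0, 0], [3, 0, 2], [3, 5, 5, 0], [2, 2, 0], [4, 4, 2, 2, 0], [2, 0, 0, 0], [2, 1, 5, 0], [0, 5, 1, 5], [4, 1, 1, 4], [5, 0, 4, 1], [5, 1, 5], [0, 3], [1, 4, 1, 4], [0, 0, 3, 0], [2, 0, 2], [3, 0, 2, 0], [1, 4, 1], [3, 0, 3, 0], [2, 0, 3, 0], [3, 3, 0, 5], [4, 4, 0, 0], [3, 0, 3, 1], [1, 5, 5], [3, 0, 2, 0, 0], [1], [0, 2, 1, 2], [3, 0], [3, 4, 4, 1], [2], [5, 2, 0, 0], [1, 5, 3, 1], [0, 4, 2, 2], [0, 5, 5, 5], [5], [0, 5], [5, 0, 4, 0], [5, 5, 5], [5, 1, 3, 0], [3, 1, 2], [3, 1, 5, 2], [0, 3, 3, 1], [3, 1, 1, 5], [0, 5, 0], [2, 5, 0, 2], [0, 3, 4, 1], [4, 1, 3, 1], [1, 2, 1, 2], [1, 1, 4], [4, 1, 3, 0, 0], [4], [4, 0, 3, 3, 1], [0, 0, 5, 5], [4, 3, 0, 0], [5, 3, 1, 1], [4, 1], [1, 1, 5], [2,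 0, 0, 2], [1, 4], [1, 3, 1, 1], [3, 4, 3, 0, 0], [1, 3, 0, 0], [5, 0, 0, 4], [1, 4, 2, 0, 0], [0, 4, 1], [2, 1, 1, 4], [5, 5, 5, 0], [1, 4, 0], [2, 2, 2, 4], [4, 0, 3], [2, 4, 0, 3], [4, 1, 2, 5], [3, 5, 1, 3, 1], [2, 0, 4, 1], [3, 5], [2, 1, 5], [5, 2, 0, 3, 1], [1, 4, 2, 5], [4, 0, 0, 4], [2, 1, 5, 2], [5, 0, 2], [5, 2], [1, 5, 2, 4], [3, 3, 5], [5, 5, 0, 4, 1], [2, 5], [5, 3, 0, 5], [2, 0, 4, 0], [5, 3, 4, 0], [3, 4], [0, 3, 5], [0, 5, 3, 0, 0], [5, 5, 1, 5], [2, 1, 3, 5], [3, 1, 4, 0], [4, 2, 0, 3], [4, 2, 0, 0], [1, 5], [4, 0], [1, 5, 3, 3, 0], [5, 2, 0, 0, 0], [4, 4, 1, 4], [4, 2, 0, 0, 0], [2, 4, 0, 0], [4, 4, 2, 5], [4, 3, 0, 2], [3, 1, 4], [4, 3, 4, 0], [5, 3, 1, 2], [4, 2, 2], [4, 4, 1], [4, 1, 5],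 [4, 0, 5], [4, 3, 0], [2, 0, 4], [4, 2, 1, 2], [4, 1, 4], [0, 2, 0, 0], [5, 5, 1, 1], [3, 1, 3, 0], [3, 5, 5], [4, 1, 2, 0], [5, 5, 0], [4, 1, 3, 4], [2, 4, 0, 4], [1, 1, 3, 1], [1, 5, 2], [4, 2, 0], [0, 5, 5], [4, 4, 0, 3], [5, 3, 3, 0], [5, 2, 4, 0], [0, 5, 3, 4], [3, 4, 0], [5, 1, 3], [5, 2, 1, 2], [1, 3, 5], [3, 1, 4, 1], [1, 4, 4], [1, 2, 5], [1, 4, 0, 4], [2, 0, 5, 0], [1, 2, 0], [0, 2, 2, 0], [5, 3, 3, 4], [4, 0, 5, 0], [3, 3, 3, 0], [1, 3, 3, 1], [3, 5, 0], [0, 4, 2, 0], [1, 3, 0], [4, 3, 4, 1]]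

/-- the words of level 1 of the stabiliser chain of the group (base point 81). -/
def wsG1 : List (List ℕ) :=
  [[], [2, 5, 5, 0, 5, 3], [5, 3, 4, 3, 4, 4], [0, 3, 3], [3, 4, 4, 4, 1, 2], [5, 1, 4, 0, 2, 0], [0, 0, 5, 0, 0], [3, 5, 3, 0], [0, 0, 0, 3, 3, 0], [4, 0, 0, 4, 2, 4, 0, 0], [2, 2, 1, 2, 4, 1, 2], [2, 1, 1, 5, 0, 0, 0], [4, 4, 3, 1, 3, 1, 2], [1, 5, 3, 5, 1, 3, 0, 0], [0, 2, 5, 3, 3], [3, 1, 3, 0, 5, 1, 3], [0, 5, 3, 5, 5, 3], [3, 5, 3, 5, 3, 1, 2, 2], [5, 3, 4, 4, 1, 4, 2], [3, 4, 4, 2, 4, 3, 1], [0, 2, 5, 1], [3, 5, 3, 0, 0, 3, 3], [2, 2, 1], [0, 3, 3, 3, 4, 4, 2, 1], [1, 1, 2, 1, 4, 4, 2, 0], [0, 2, 2, 2, 0, 2, 4, 0], [2, 2, 4, 3, 1], [3, 3, 4, 3, 4, 2], [0, 0, 0, 5, 2, 2], [3, 5, 2, 1, 1, 1], [1,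 2, 4, 2, 2, 2, 1], [0, 5, 0, 4, 0, 4, 1], [3, 5, 5, 2, 5, 0], [1, 4, 3, 4, 3, 0], [3, 0, 4, 4, 4, 3, 0], [5, 2, 2, 5, 0, 2, 4], [4, 2, 0, 2, 0, 4, 3, 0], [1, 2, 2, 1, 1, 1], [1, 1, 4, 1, 1], [5, 2, 5, 2, 2, 0, 0], [3, 0, 5, 5, 5, 2], [1, 2, 4, 4, 4, 3], [3, 0, 5, 2, 1], [2, 0, 3, 4, 4, 4, 0], [5, 5, 3, 4, 0, 5, 5, 0], [3, 4, 0, 0, 0, 4, 0], [2, 2, 0, 0, 3, 4, 2], [5, 5, 5, 1, 1, 4, 4], [0, 2, 5, 0, 5, 0, 0], [1, 4, 1, 2, 5, 5], [2, 2, 2, 5, 1], [0, 5, 0, 5, 2, 5, 1, 1], [4, 2, 4, 0, 2, 4], [1, 1, 1, 2, 5, 2], [1, 2, 2, 5, 2, 2], [2, 2, 2, 5, 0, 5, 0, 0], [1, 3, 0, 4, 4, 1, 4, 0], [3, 0, 4, 2, 4, 1], [5, 0, 0, 0, 2, 2, 4], [4, 3, 5, 1, 2, 4, 2, 0], [2, 4, 1, 5, 3, 0], [3, 3, 4, 3, 3, 0], [1, 2, 1, 5, 5, 0, 4],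 [3, 3, 4, 1, 1, 1], [2, 5, 5, 2], [1, 2, 4, 4, 4, 2, 1], [1, 2, 5, 1, 5, 1, 3, 0], [5, 1, 3, 3, 0, 4, 4], [3, 4, 0, 5, 0, 5, 3, 1], [1, 4, 3, 5, 5, 1, 2], [2, 4, 4, 2, 4, 1], [3, 0, 5, 3, 3, 5, 3, 0], [0, 3, 1, 1, 5, 0, 0, 0], [5, 2, 5, 1, 5, 2, 0], [2, 0, 0, 3, 5, 2], [5, 0, 5, 3, 5, 0, 2], [3, 5, 2, 0, 2, 5, 2], [3, 0, 4, 0, 2, 5, 1, 1], [0, 4, 0, 2, 4, 4, 0], [5, 3, 1, 5, 3, 5], [2, 4, 1, 4, 4, 2, 1], [3, 4, 4, 3], [0, 2, 5, 2, 5, 1], [2, 0, 5, 3, 5, 3, 1], [3, 4, 4, 2, 1], [0, 0, 5, 2, 2, 5, 0, 0], [1, 4, 3, 5, 2, 4, 1], [2, 5, 5, 2, 0, 3, 3], [2, 2, 2, 5, 3, 3], [0, 3, 5, 5, 2], [3, 1, 4, 0, 2, 0, 4, 0], [4, 4, 0, 4, 4, 1, 3], [5, 5, 0, 0, 4, 4, 4], [0, 3, 4, 1, 2], [0, 3, 5, 5, 5, 3, 0], [1, 5, 5, 3, 1,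 5, 1], [3, 0, 0, 5, 5, 3, 0, 0], [0, 2, 4, 3, 3, 3, 0, 3], [2, 0, 0, 3, 4, 3], [2, 2, 4, 3, 3, 3], [4, 1, 5, 2, 1, 5, 2, 0], [4, 1, 3, 1, 5, 0], [1, 2, 4, 4, 3, 0, 0, 0], [5, 1, 2, 0, 0, 4], [4, 1, 4, 4, 4, 1], [2, 5, 2, 2, 1, 4, 0], [1, 2, 4, 0, 5, 2, 1], [3, 1, 3, 1, 4, 4, 0], [2, 4, 1, 2], [0, 3, 4, 1, 5, 3, 0], [3, 0, 5, 3], [2, 5, 5, 5, 3, 0], [4, 4, 4, 0, 5, 2, 0], [1, 4, 3, 4, 4, 2], [5, 5, 0, 3, 3, 4, 4], [2, 5, 3, 0, 0, 0], [4, 2, 5, 0, 5, 0], [3, 4, 0, 5, 0, 5, 5, 1], [3, 5, 0, 4, 0, 4, 3, 0], [1, 3, 1, 4, 0, 3, 0], [3, 1, 2, 4, 2, 2, 2], [4, 0, 5, 5, 1, 5, 0], [1, 2, 4, 1, 5, 0, 3, 0], [3, 5, 1, 5, 0, 2, 0], [3, 0, 5, 3, 0, 3, 3], [5, 5, 1, 5, 5, 0, 2], [1, 5, 3, 1, 4, 1, 1, 1], [1, 2, 1, 4, 0, 2],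 [2, 5, 1, 2, 4, 2, 4, 0], [3, 3, 4, 1, 5, 0, 0], [3, 1, 5, 0, 3, 0], [1, 2, 1, 5, 0, 2, 0], [0, 4, 3, 0, 5, 0, 0], [2, 1, 2, 4, 4, 2, 2], [0, 3, 4, 4, 2, 4, 1], [1, 3, 4, 4, 4, 2, 0, 0], [3, 4, 4, 2, 2, 5, 1], [3, 3, 4, 0, 2, 4, 3], [5, 3, 5, 1, 2, 4], [4, 3, 5, 3, 5, 2, 0, 0], [5, 3, 4, 4, 1, 3, 0], [1, 2, 2, 0, 2, 4, 3], [1, 2, 4, 2], [1, 5, 3, 1, 2, 2], [4, 0, 5, 0, 3, 5, 0], [3, 1, 2, 4, 3, 5, 1], [0, 4, 4, 2, 4, 1, 3], [0, 3, 3, 3, 5, 3, 0], [5, 3, 5, 3, 5, 5, 2, 0], [4, 4, 3, 0, 5, 0], [0, 0, 0, 3, 4, 2], [5, 3, 0, 0, 3, 3, 4], [2, 5, 3, 0, 4, 1, 1], [2, 4, 1, 3, 4, 3, 3, 0], [5, 2, 2, 1, 1, 2, 4], [2, 0, 5, 3, 5, 5, 1], [2, 5, 3, 1, 5, 2, 2], [2, 4, 1, 4, 3, 0, 0, 0], [5, 5, 0, 4, 4, 0, 0, 0], [4, 3, 1,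 3, 5, 3, 5, 0]]

/-- the words of level 2 of the stabiliser chain of the group (base point 2). -/
def wsG2 : List (List ℕ) :=
  [[], [4, 3, 5, 5, 3, 0, 5, 5], [4, 4, 1, 2, 4, 4, 2, 5], [3, 1, 3, 3, 1, 1, 2], [0, 4, 1, 2, 0, 4, 1, 5, 0], [1, 1, 2, 2, 1, 4, 3, 1], [3, 0, 0, 2, 2, 0, 2], [0, 2, 5, 1, 2, 2, 1], [2, 1, 2, 4, 4, 2, 5, 3, 0], [0, 0, 2, 2, 4, 3, 1, 5, 0], [0, 2, 5, 0, 3, 3, 0, 0], [2, 1, 1, 1, 5, 0, 2, 1]]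

end Cfsg.Agent.Helper4.J2M
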