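import Mathlib
import Cfsg.Agent.Helper9.J2B.Order
import Cfsg.Agent.Helper4.J2MDat
import Cfsg.Agent.Helper5.StemPB

/-!
# Generators of the Hall–Janko group for the Schur multiplier

In helper9's group of four tables on 315 points: elements `a, b, c` of order 7 (`a, b` generating a
subgroup `U3(3)`), their relators, generation, and lower bounds for the orders of the subgroups
generated by `a, b` and by `a, b, c` from stabiliser chains.
-/

set_option autoImplicit false

noncomputable section

namespace Cfsg.Agent.Helper4.J2M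

open Cfsg Cfsg.Agent.Helper9.J2B Cfsg.Agent.Helper9.PChain Cfsg.Agent.Helper5.StemP

/-- the table group. -/
abbrev GG : Type := ↥G315

theorem card_GG : Nat.card GG = 604800 := card_G315

instance finGG : Finite GG := Nat.finite_of_card_ne_zero (by rw [card_GG]; norm_num)

/-- the element of a word. -/
def gw (w : List ℕ) : GG := ⟨gpermW w, gpermW_mem w⟩

theorem gpermW_nil : gpermW [] = 1 := rfl

theorem gpermW_append (u v : List ℕ) : gpermW (u ++ v) = gpermW u * gpermW v := by
  unfold gpermW
  rw [List.map_append, List.prod_append]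

theorem gpermW_reverse : ∀ w : List ℕ, gpermW w.reverse = (gpermW w)⁻¹
  | [] => by
    rw [List.reverse_nil, gpermW_nil, inv_one]
  | c :: w => by
    have h1 : gpermW (c :: w) = gP c * gpermW w := by
      unfold gpermW
      rw [List.map_cons, List.prod_cons]
    have h2 : gpermW [c] = gP c := by
      unfold gpermW
      rw [List.map_cons, List.map_nil, List.prod_cons, List.prod_nil, mul_one]
    have h3 : (gP c)⁻¹ = gP c := inv_eq_of_mul_eq_one_left (gP_mul_self c)
    rw [List.reverse_cons, gpermW_append, gpermW_reverse w, h1, mul_inv_rev, h2, h3]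

theorem gw_nil : gw [] = 1 := rfl

theorem gw_append (u v : List ℕ) : gw (u ++ v) = gw u * gw v :=
  Subtype.ext (gpermW_append u v)

theorem gw_inv (w : List ℕ) : (gw w)⁻¹ = gw w.reverse :=
  Subtype.ext (gpermW_reverse w).symm

/-- the generators. -/
def g (i : ℕ) : GG := gw (LW (2 * i))

/-- the orders. -/
def mm (_ : ℕ) : ℕ := 7

theorem LW_inv : (LW 0).reverse = LW 1 ∧ (LW 2).reverse = LW 3 ∧ (LW 4).reverse = LW 5 := by
  decide

theorem lval_g : ∀ c, c < 6 → lval g c = gw (LW c) := by
  intro c hc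
  obtain ⟨h1, h3, h5⟩ := LW_inv
  interval_cases c
  · rfl
  · show (gw (LW 0))⁻¹ = _
    rw [gw_inv, h1]
  · rfl
  · show (gw (LW 2))⁻¹ = _
    rw [gw_inv, h3]
  · rfl
  · show (gw (LW 4))⁻¹ = _
    rw [gw_inv, h5]

theorem word_ev : ∀ l : List ℕ, (∀ c ∈ l, c < 6) →
    (l.map (lval g)).prod = gw (l.flatMap LW)
  | [], _ => by
    rw [List.map_nil, List.prod_nil, List.flatMap_nil, gw_nil]
  | c :: l, h => by
    rw [List.map_cons, List.prod_cons, word_ev l (fun c hc => h c (List.mem_cons_of_mem _ hc)),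
      lval_g c (h c List.mem_cons_self), List.flatMap_cons, gw_append]

/-- the image of a point under a word in the six letters. -/
def ev6 (l : List ℕ) (x : ℕ) : ℕ := evalW gtab (l.flatMap LW) x

/-- the check that a word in the six letters acts trivially on the 315 points. -/
def trivB (l : List ℕ) : Bool := (List.range 315).all fun x => Nat.beq (ev6 l x) x

theorem word_eq_one (l : List ℕ) (hl : ∀ c ∈ l, c < 6) (h : trivB l = true) :
    (l.map (lval g)).prod = 1 := by
  rw [word_ev l hl]
  apply Subtype.ext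
  apply Equiv.ext
  intro x
  apply Fin.ext
  show (gpermW (l.flatMap LW) x).val = x.val
  rw [gpermW_apply]
  unfold trivB at h
  rw [List.all_eq_true] at h
  exact Nat.eq_of_beq_eq_true (h x.val (List.mem_range.mpr x.isLt))

theorem CC_lt : ∀ r ∈ CC, ∀ c ∈ r, c < 2 * 3 := by decide

theorem CU_lt : ∀ r ∈ CU, ∀ c ∈ r, c < 2 * 2 := by decide

theorem CU_sub : ∀ r ∈ CU, r ∈ CC := by decide

set_option maxRecDepth 1000000 in
theorem chk_rels : ∀ r ∈ CC, trivB r = true := by decide +kernel

theorem CC_rel : ∀ r ∈ CC, (r.map (lval g)).prod = 1 := fun r hr =>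
  word_eq_one r (CC_lt r hr) (chk_rels r hr)

set_option maxRecDepth 1000000 in
theorem chk_pow : trivB (List.replicate 7 0) = true ∧ trivB (List.replicate 7 2) = true ∧
    trivB (List.replicate 7 4) = true := by decide +kernel

theorem pow_eq_one {i n : ℕ} (hi : i < 3) (h : trivB (List.replicate n (2 * i)) = true) :
    g i ^ n = 1 := by
  have h1 : ((List.replicate n (2 * i)).map (lval g)).prod = 1 := by
    apply word_eq_one _ _ h
    intro c hc
    rw [List.eq_of_mem_replicate hc]
    omega
  rwa [List.map_replicate, List.prod_replicate, lval_even] at h1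

theorem g_pow : ∀ i, i < 3 → g i ^ mm i = 1 := by
  intro i hi
  interval_cases i
  · exact pow_eq_one (by norm_num) chk_pow.1
  · exact pow_eq_one (by norm_num) chk_pow.2.1
  · exact pow_eq_one (by norm_num) chk_pow.2.2

set_option maxRecDepth 1000000 in
theorem chk_move : evalW gtab (LW 0) 0 ≠ 0 := by decide +kernel

theorem g0_ne : g 0 ≠ 1 := by
  intro h
  apply chk_move
  have h1 := gpermW_apply (LW 0) (0 : Fin 315)
  have h2 : gpermW (LW 0) = 1 := congrArg Subtype.val h
  rw [h2] at h1
  exact h1.symm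

theorem order_g0 : orderOf (g 0) = 7 := by
  have : Fact (Nat.Prime 7) := ⟨by norm_num⟩
  have h7 : g 0 ^ 7 = 1 := g_pow 0 (by norm_num)
  exact orderOf_eq_prime h7 g0_ne

/-! ### lower bounds from stabiliser chains -/

/-- the check of one level: the words fix the earlier base points. -/
def fixChk (l : List ℕ) (ws : List (List ℕ)) : Bool :=
  ws.all fun w => l.all fun x => Nat.beq (ev6 w x) x

/-- one level of a chain in a subgroup containing the first `k` letters. -/
theorem level_ge (H : Subgroup (Equiv.Perm (Fin 315))) (k : ℕ)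
    (hH : ∀ c, c < k → gpermW (LW c) ∈ H)
    (l : List (Fin 315)) (b : Fin 315) (ws : List (List ℕ)) (hlt : ∀ w ∈ ws, ∀ c ∈ w, c < k)
    (hfix : fixChk (l.map Fin.val) ws = true)
    (hnd : (ws.map fun w => ev6 w b.val).Nodup) (c : ℕ)
    (hc : c ≤ Nat.card ↥(H ⊓ fixing (l ++ [b]))) :
    ws.length * c ≤ Nat.card ↥(H ⊓ fixing l) := by
  have hmem : ∀ w : List ℕ, (∀ c ∈ w, c < k) → gpermW (w.flatMap LW) ∈ H := by
    intro w
    induction w with
    | nil =>
      intro _
      rw [List.flatMap_nil, gpermW_nil]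
      exact H.one_mem
    | cons c w ih =>
      intro h
      rw [List.flatMap_cons, gpermW_append]
      exact H.mul_mem (hH c (h c List.mem_cons_self))
        (ih fun c' hc' => h c' (List.mem_cons_of_mem _ hc'))
  have hmapval : (ws.map fun w => gpermW (w.flatMap LW) b).map Fin.val =
      ws.map fun w => ev6 w b.val := by
    rw [List.map_map]
    apply List.map_congr_left
    intro w _
    exact gpermW_apply _ _
  have hnd' : (ws.map fun w => gpermW (w.flatMap LW) b).Nodup := by
    apply List.Nodup.of_map Fin.val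
    rw [hmapval]
    exact hnd
  have hcard : (ws.map fun w => gpermW (w.flatMap LW) b).toFinset.card = ws.length := by
    rw [List.toFinset_card_of_nodup hnd', List.length_map]
  rw [← hcard]
  apply card_ge_step H l b _ _ c hc
  intro y hy
  rw [List.mem_toFinset, List.mem_map] at hy
  obtain ⟨w, hw, rfl⟩ := hy
  refine ⟨gpermW (w.flatMap LW), Subgroup.mem_inf.mpr ⟨hmem w (hlt w hw), ?_⟩, rfl⟩
  intro x hx
  apply Fin.ext
  rw [gpermW_apply]
  unfold fixChk at hfix
  rw [List.all_eq_true] at hfix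
  have h1 := hfix w hw
  rw [List.all_eq_true] at h1
  exact Nat.eq_of_beq_eq_true (h1 x.val (List.mem_map.mpr ⟨x, hx, rfl⟩))

/-- the subgroup of permutations of a subgroup of the table group. -/
def toPerm (K : Subgroup GG) : Subgroup (Equiv.Perm (Fin 315)) := K.map G315.subtype

theorem card_toPerm (K : Subgroup GG) : Nat.card (toPerm K) = Nat.card K :=
  Nat.card_congr (K.equivMapOfInjective _ G315.subtype_injective).symm.toEquiv

theorem letter_mem_toPerm (K : Subgroup GG) (k : ℕ) (hk : k ≤ 6) (hK : ∀ c, c < k → lval g c ∈ K) :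
    ∀ c, c < k → gpermW (LW c) ∈ toPerm K := by
  intro c hc
  refine ⟨gw (LW c), ?_, rfl⟩
  rw [← lval_g c (by omega)]
  exact hK c hc

theorem inf_fixing_nil (H : Subgroup (Equiv.Perm (Fin 315))) : H ⊓ fixing ([] : List (Fin 315)) = H := by
  rw [fixing_nil, inf_top_eq]

theorem wsU_lt : (∀ w ∈ wsU0, ∀ c ∈ w, c < 4) ∧ (∀ w ∈ wsU1, ∀ c ∈ w, c < 4) := by
  decide +kernel

theorem wsG_lt : (∀ w ∈ wsG0, ∀ c ∈ w, c < 6) ∧ (∀ w ∈ wsG1, ∀ c ∈ w, c < 6) ∧
    (∀ w ∈ wsG2, ∀ c ∈ w, c < 6) := by decide +kernel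

set_option maxRecDepth 1000000 in
theorem chkU : fixChk [] wsU0 = true ∧ fixChk [0] wsU1 = true := by decide +kernel

set_option maxRecDepth 1000000 in
theorem ndU : (wsU0.map fun w => ev6 w 0).Nodup ∧ (wsU1.map fun w => ev6 w 2).Nodup := by
  decide +kernel

theorem lenU : wsU0.length = 252 ∧ wsU1.length = 24 := by decide +kernel

set_option maxRecDepth 1000000 in
theorem chkG : fixChk [] wsG0 = true ∧ fixChk [0] wsG1 = true ∧ fixChk [0, 81] wsG2 = true := by
  decide +kernel

set_option maxRecDepth 1000000 in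
theorem ndG : (wsG0.map fun w => ev6 w 0).Nodup ∧ (wsG1.map fun w => ev6 w 81).Nodup ∧
    (wsG2.map fun w => ev6 w 2).Nodup := by decide +kernel

theorem lenG : wsG0.length = 315 ∧ wsG1.length = 160 ∧ wsG2.length = 12 := by decide +kernel

/-- a subgroup containing `a, b` has at least 6048 elements. -/
theorem chainU_le (K : Subgroup GG) (hK : ∀ c, c < 4 → lval g c ∈ K) : 6048 ≤ Nat.card K := by
  have hH := letter_mem_toPerm K 4 (by norm_num) hK
  have h2 : 1 ≤ Nat.card ↥(toPerm K ⊓ fixing ([0, 2] : List (Fin 315))) := Nat.card_pos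
  have h1 := level_ge (toPerm K) 4 hH [0] 2 wsU1 wsU_lt.2 chkU.2 ndU.2 1 h2
  have h0 := level_ge (toPerm K) 4 hH [] 0 wsU0 wsU_lt.1 chkU.1 ndU.1 _ h1
  rw [inf_fixing_nil, card_toPerm, lenU.1, lenU.2] at h0
  exact h0

/-- a subgroup containing `a, b, c` has at least 604800 elements. -/
theorem chainG_le (K : Subgroup GG) (hK : ∀ c, c < 6 → lval g c ∈ K) : 604800 ≤ Nat.card K := by
  have hH := letter_mem_toPerm K 6 le_rfl hK
  have h3 : 1 ≤ Nat.card ↥(toPerm K ⊓ fixing ([0, 81, 2] : List (Fin 315))) := Nat.card_pos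
  have h2 := level_ge (toPerm K) 6 hH [0, 81] 2 wsG2 wsG_lt.2.2 chkG.2.2 ndG.2.2 1 h3
  have h1 := level_ge (toPerm K) 6 hH [0] 81 wsG1 wsG_lt.2.1 chkG.2.1 ndG.2.1 _ h2
  have h0 := level_ge (toPerm K) 6 hH [] 0 wsG0 wsG_lt.1 chkG.1 ndG.1 _ h1
  rw [inf_fixing_nil, card_toPerm, lenG.1, lenG.2.1, lenG.2.2] at h0
  exact h0

/-- the three generators generate the group. -/
theorem g_closure : Subgroup.closure {y : GG | ∃ i, i < 3 ∧ y = g i} = ⊤ := by
  have hH : ∀ c, c < 6 → lval g c ∈ Subgroup.closure {y : GG | ∃ i, i < 3 ∧ y = g i} := by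
    intro c hc
    have hi : c / 2 < 3 := by omega
    unfold lval
    split_ifs
    · exact Subgroup.subset_closure ⟨c / 2, hi, rfl⟩
    · exact inv_mem (Subgroup.subset_closure ⟨c / 2, hi, rfl⟩)
  have h1 := chainG_le _ hH
  apply Subgroup.eq_top_of_card_eq
  have h2 := Subgroup.card_le_card_group
    (Subgroup.closure {y : GG | ∃ i, i < 3 ∧ y = g i})
  rw [card_GG] at h2 ⊢
  omega

end Cfsg.Agent.Helper4.J2M

end
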