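import Cfsg.Agent.Helper4.J2MMDat

/-! generated permutation model, checks: J2MM -/

set_option autoImplicit false
set_option Elab.async false
set_option maxRecDepth 1000000

namespace Cfsg.Agent.Helper4.J2MM
open Cfsg.Agent.Helper5.TC Cfsg.Agent.Helper5.TCI Cfsg.Agent.Helper5.LP

theorem fixc_4_0 : fixPtsF W_4 200 0 = true := by decide +kernel

theorem fixc_7_0 : fixPtsF W_7 200 0 = true := by decide +kernel

theorem fixc_8_0 : fixPtsF W_8 200 0 = true := by decide +kernel

theorem fixc_9_0 : fixPtsF W_9 200 0 = true := by decide +kernel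

theorem fixc_0_0 : fixPtsF W_0 200 0 = true := by decide +kernel

theorem fixc_2_0 : fixPtsF W_2 200 0 = true := by decide +kernel

theorem invc_1_0 : invRowFI mT 200 1 0 200 0 = true := by decide +kernel

theorem invc_3_0 : invRowFI mT 200 3 2 200 0 = true := by decide +kernel

theorem invc_5_0 : invRowFI mT 200 5 4 200 0 = true := by decide +kernel

theorem invc_7_0 : invRowFI mT 200 7 6 200 0 = true := by decide +kernel

end Cfsg.Agent.Helper4.J2MM
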