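import Cfsg.Agent.Helper4.J2MMCk0
import Cfsg.Agent.Helper4.J2MMCk1

/-! generated permutation model, summary: J2MM -/

set_option autoImplicit false
set_option maxRecDepth 1000000

namespace Cfsg.Agent.Helper4.J2MM
open Cfsg.Agent.Helper5.TC Cfsg.Agent.Helper5.TCI Cfsg.Agent.Helper5.LP Cfsg.Agent.Helper5.StemP
  Cfsg.Agent.Helper4.ShM

theorem inv_0 : ∀ v, v < 200 → mT 0 v < 200 ∧ mT 1 (mT 0 v) = v :=
  (inv_step (fun v hv => absurd hv (by omega)) 200 invc_0_0)

theorem inv_1 : ∀ v, v < 200 → mT 1 v < 200 ∧ mT 0 (mT 1 v) = v :=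
  (inv_step (fun v hv => absurd hv (by omega)) 200 invc_1_0)

theorem inv_2 : ∀ v, v < 200 → mT 2 v < 200 ∧ mT 3 (mT 2 v) = v :=
  (inv_step (fun v hv => absurd hv (by omega)) 200 invc_2_0)

theorem inv_3 : ∀ v, v < 200 → mT 3 v < 200 ∧ mT 2 (mT 3 v) = v :=
  (inv_step (fun v hv => absurd hv (by omega)) 200 invc_3_0)

theorem inv_4 : ∀ v, v < 200 → mT 4 v < 200 ∧ mT 5 (mT 4 v) = v :=
  (inv_step (fun v hv => absurd hv (by omega)) 200 invc_4_0)

theorem inv_5 : ∀ v, v < 200 → mT 5 v < 200 ∧ mT 4 (mT 5 v) = v :=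
  (inv_step (fun v hv => absurd hv (by omega)) 200 invc_5_0)

theorem inv_6 : ∀ v, v < 200 → mT 6 v < 200 ∧ mT 7 (mT 6 v) = v :=
  (inv_step (fun v hv => absurd hv (by omega)) 200 invc_6_0)

theorem inv_7 : ∀ v, v < 200 → mT 7 v < 200 ∧ mT 6 (mT 7 v) = v :=
  (inv_step (fun v hv => absurd hv (by omega)) 200 invc_7_0)

theorem tableOK : TableOKI (2 * (3 + 1)) 200 linv mT := by
  intro x hx v hv
  have hx' : x < 8 := hx
  interval_cases x
  · exact inv_0 v hv
  · exact inv_1 v hv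
  · exact inv_2 v hv
  · exact inv_3 v hv
  · exact inv_4 v hv
  · exact inv_5 v hv
  · exact inv_6 v hv
  · exact inv_7 v hv

theorem actw_0 : ∀ v, actL mT w_0 v = W_0 v := by
  intro v
  simp (maxSteps := 100000000) only [w_0, actL, W_0, forceL_eq]
  rfl

theorem fixW_0 : ∀ v, v < 200 → W_0 v = v :=
  (fixW_step (fun v hv => absurd hv (by omega)) 200 fixc_0_0)

theorem fix_0 : ∀ v, v < 200 → actL mT w_0 v = v := fun v hv => by
  rw [actw_0]
  exact fixW_0 v hv

theorem actw_1 : ∀ v, actL mT w_1 v = W_1 v := by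
  intro v
  simp (maxSteps := 100000000) only [w_1, actL, W_1, forceL_eq]
  rfl

theorem fixW_1 : ∀ v, v < 200 → W_1 v = v :=
  (fixW_step (fun v hv => absurd hv (by omega)) 200 fixc_1_0)

theorem fix_1 : ∀ v, v < 200 → actL mT w_1 v = v := fun v hv => by
  rw [actw_1]
  exact fixW_1 v hv

theorem actw_2 : ∀ v, actL mT w_2 v = W_2 v := by
  intro v
  simp (maxSteps := 100000000) only [w_2, actL, W_2, forceL_eq]
  rfl

theorem fixW_2 : ∀ v, v < 200 → W_2 v = v :=
  (fixW_step (fun v hv => absurd hv (by omega)) 200 fixc_2_0)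

theorem fix_2 : ∀ v, v < 200 → actL mT w_2 v = v := fun v hv => by
  rw [actw_2]
  exact fixW_2 v hv

theorem actw_3 : ∀ v, actL mT w_3 v = W_3 v := by
  intro v
  simp (maxSteps := 100000000) only [w_3, actL, W_3, forceL_eq]
  rfl

theorem fixW_3 : ∀ v, v < 200 → W_3 v = v :=
  (fixW_step (fun v hv => absurd hv (by omega)) 200 fixc_3_0)

theorem fix_3 : ∀ v, v < 200 → actL mT w_3 v = v := fun v hv => by
  rw [actw_3]
  exact fixW_3 v hv

theorem actw_4 : ∀ v, actL mT w_4 v = W_4 v := by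
  intro v
  simp (maxSteps := 100000000) only [w_4, actL, W_4, forceL_eq]
  rfl

theorem fixW_4 : ∀ v, v < 200 → W_4 v = v :=
  (fixW_step (fun v hv => absurd hv (by omega)) 200 fixc_4_0)

theorem fix_4 : ∀ v, v < 200 → actL mT w_4 v = v := fun v hv => by
  rw [actw_4]
  exact fixW_4 v hv

theorem actw_5 : ∀ v, actL mT w_5 v = W_5 v := by
  intro v
  simp (maxSteps := 100000000) only [w_5, actL, W_5, forceL_eq]
  rfl

theorem fixW_5 : ∀ v, v < 200 → W_5 v = v :=
  (fixW_step (fun v hv => absurd hv (by omega)) 200 fixc_5_0)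

theorem fix_5 : ∀ v, v < 200 → actL mT w_5 v = v := fun v hv => by
  rw [actw_5]
  exact fixW_5 v hv

theorem actw_6 : ∀ v, actL mT w_6 v = W_6 v := by
  intro v
  simp (maxSteps := 100000000) only [w_6, actL, W_6, forceL_eq]
  rfl

theorem fixW_6 : ∀ v, v < 200 → W_6 v = v :=
  (fixW_step (fun v hv => absurd hv (by omega)) 200 fixc_6_0)

theorem fix_6 : ∀ v, v < 200 → actL mT w_6 v = v := fun v hv => by
  rw [actw_6]
  exact fixW_6 v hv

theorem actw_7 : ∀ v, actL mT w_7 v = W_7 v := by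
  intro v
  simp (maxSteps := 100000000) only [w_7, actL, W_7, forceL_eq]
  rfl

theorem fixW_7 : ∀ v, v < 200 → W_7 v = v :=
  (fixW_step (fun v hv => absurd hv (by omega)) 200 fixc_7_0)

theorem fix_7 : ∀ v, v < 200 → actL mT w_7 v = v := fun v hv => by
  rw [actw_7]
  exact fixW_7 v hv

theorem actw_8 : ∀ v, actL mT w_8 v = W_8 v := by
  intro v
  simp (maxSteps := 100000000) only [w_8, actL, W_8, forceL_eq]
  rfl

theorem fixW_8 : ∀ v, v < 200 → W_8 v = v :=
  (fixW_step (fun v hv => absurd hv (by omega)) 200 fixc_8_0)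

theorem fix_8 : ∀ v, v < 200 → actL mT w_8 v = v := fun v hv => by
  rw [actw_8]
  exact fixW_8 v hv

theorem actw_9 : ∀ v, actL mT w_9 v = W_9 v := by
  intro v
  simp (maxSteps := 100000000) only [w_9, actL, W_9, forceL_eq]
  rfl

theorem fixW_9 : ∀ v, v < 200 → W_9 v = v :=
  (fixW_step (fun v hv => absurd hv (by omega)) 200 fixc_9_0)

theorem fix_9 : ∀ v, v < 200 → actL mT w_9 v = v := fun v hv => by
  rw [actw_9]
  exact fixW_9 v hv

theorem actw_10 : ∀ v, actL mT w_10 v = W_10 v := by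
  intro v
  simp (maxSteps := 100000000) only [w_10, actL, W_10, forceL_eq]
  rfl

theorem fixW_10 : ∀ v, v < 200 → W_10 v = v :=
  (fixW_step (fun v hv => absurd hv (by omega)) 200 fixc_10_0)

theorem fix_10 : ∀ v, v < 200 → actL mT w_10 v = v := fun v hv => by
  rw [actw_10]
  exact fixW_10 v hv

theorem actw_11 : ∀ v, actL mT w_11 v = W_11 v := by
  intro v
  simp (maxSteps := 100000000) only [w_11, actL, W_11, forceL_eq]
  rfl

theorem fixW_11 : ∀ v, v < 200 → W_11 v = v :=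
  (fixW_step (fun v hv => absurd hv (by omega)) 200 fixc_11_0)

theorem fix_11 : ∀ v, v < 200 → actL mT w_11 v = v := fun v hv => by
  rw [actw_11]
  exact fixW_11 v hv

theorem hcomm : ∀ i, i < 3 → ∀ v, v < 200 → actL mT [2 * i, 2 * 3, 2 * i + 1, 2 * 3 + 1] v = v := by
  intro i hi
  interval_cases i
  · exact fix_0
  · exact fix_1
  · exact fix_2

theorem hcent : ∀ r ∈ cw, ∃ k, ∀ v, v < 200 → actL mT (r ++ List.replicate k (2 * 3)) v = v := by
  intro r hr
  simp only [cw, List.mem_cons, List.not_mem_nil, or_false] at hr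
  rcases hr with rfl | rfl | rfl | rfl | rfl
  · exact ⟨0, fix_3⟩
  · exact ⟨0, fix_4⟩
  · exact ⟨1, fix_5⟩
  · exact ⟨0, fix_6⟩
  · exact ⟨0, fix_7⟩

theorem hpow : ∀ i, i < 3 → ∀ v, v < 200 → actL mT (List.replicate (mml.getD i 0) (2 * i)) v = v := by
  intro i hi
  interval_cases i
  · exact fix_8
  · exact fix_9
  · exact fix_10

theorem hsh : ∀ v, v < 200 → actL mT (List.replicate 2 (2 * 3)) v = v := fix_11

end Cfsg.Agent.Helper4.J2MM
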