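import Cfsg.Agent.Helper4.J2MMDat

/-! generated permutation model, checks: J2MM -/

set_option autoImplicit false
set_option Elab.async false
set_option maxRecDepth 1000000

namespace Cfsg.Agent.Helper4.J2MM
open Cfsg.Agent.Helper5.TC Cfsg.Agent.Helper5.TCI Cfsg.Agent.Helper5.LP

theorem fixc_5_0 : fixPtsF W_5 200 0 = true := by decide +kernel

theorem fixc_3_0 : fixPtsF W_3 200 0 = true := by decide +kernel

theorem fixc_6_0 : fixPtsF W_6 200 0 = true := by decide +kernel

theorem fixc_10_0 : fixPtsF W_10 200 0 = true := by decide +kernel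

theorem fixc_1_0 : fixPtsF W_1 200 0 = true := by decide +kernel

theorem invc_0_0 : invRowFI mT 200 0 1 200 0 = true := by decide +kernel

theorem invc_2_0 : invRowFI mT 200 2 3 200 0 = true := by decide +kernel

theorem invc_4_0 : invRowFI mT 200 4 5 200 0 = true := by decide +kernel

theorem invc_6_0 : invRowFI mT 200 6 7 200 0 = true := by decide +kernel

theorem fixc_11_0 : fixPtsF W_11 200 0 = true := by decide +kernel

end Cfsg.Agent.Helper4.J2MM
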