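import Cfsg.Agent.Helper5.TC3A
import Cfsg.Agent.Helper5.TCIB
import Cfsg.Agent.Helper5.LPI
import Cfsg.Agent.Helper4.ShiftModel

/-! generated permutation model of a cyclic central extension: J2MM (helper4) -/

set_option autoImplicit false
set_option Elab.async false

namespace Cfsg.Agent.Helper4.J2MM
open Cfsg.Agent.Helper5.TC Cfsg.Agent.Helper5.TCI Cfsg.Agent.Helper5.LP

def mc0_0 : ℕ := 0x320000610000530000410000bd00003300006300004d00005e0000350000c40000a000005a0000b800002d00005b0000a400005f00002000001f0000a300009f0000a60000c100001d0000260000570000b40000bc00002c00001b00008f00004600006200005100005c00002e00002900008700003d00008c0000b30000b20000af00002700001c00001400001500004400003800004500001200001700001100004a0000100000560000470000940000ac00002500003700005500009e00007200002f00000a00005200009d00009800004c0000490000a200004300000800000c00000700008500000600003600001800003100006f00001900007100002a00000900000300002400002200001e00001a00007a00000f000013000005000001000002000004000000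
def msel0 (c : ℕ) : ℕ := mc0_0
def mc0 (v : ℕ) : ℕ := forceL (Nat.mod v 100) fun n => forceL (Nat.rec (motive := fun _ => ℕ) 0 (fun c _ => Nat.mod (Nat.shiftRight (msel0 c) (Nat.mul 24 (Nat.mod n 1024))) 16777216) (Nat.add (Nat.div n 1024) 1)) fun e => Nat.add (Nat.mod e 100) (Nat.mul 100 (Nat.mod (Nat.add (Nat.div v 100) (Nat.div e 100)) 2))

def mc1_0 : ℕ := 0x5d0000420000620000bd00005200005b0000b00000400000540000570000c30000ab00004900002b0000250000ba0000610000200000410000ac00009e00009d00005c00001d00009c00002d00001c00008c00002a00004300003100003300001a0000b10000600000b70000b300007f00003c0000bc0000b200008800008300003200002600001400005a00008200005e00006300001200008d00002200003f0000550000460000a800000e00003e00009f00003700004a00002700000b0000a100000a00007a00005100005000000900004b00003600004500000800001000001300002f00006b00003400003500000500003000002e00002c00000600008700007300001800007500002100000d00001900001700001500000400000100000c000002000003000000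
def msel1 (c : ℕ) : ℕ := mc1_0
def mc1 (v : ℕ) : ℕ := forceL (Nat.mod v 100) fun n => forceL (Nat.rec (motive := fun _ => ℕ) 0 (fun c _ => Nat.mod (Nat.shiftRight (msel1 c) (Nat.mul 24 (Nat.mod n 1024))) 16777216) (Nat.add (Nat.div n 1024) 1)) fun e => Nat.add (Nat.mod e 100) (Nat.mul 100 (Nat.mod (Nat.add (Nat.div v 100) (Nat.div e 100)) 2))

def mc2_0 : ℕ := 0x5e0000450000c60000c30000970000bf0000570000a40000c100002e00003a0000a10000af0000430000be0000600000200000410000b70000ab00003f00001f00002b00009b0000490000550000c700003b00003400001b00002d00002500001a00009c00009a00006100001d0000c000002f00008200001700008000001500004f0000140000190000520000bc0000b50000120000880000b00000870000590000a20000990000a600001800009500000d00003200005600000b00004600005000008c0000130000540000ac00004e00004d00004a00000800004400007400007a00003c00009d00002100008b00002a00009400008d00009000002200000300007000000e00002600000500006e00007500006600000700000100000400000f000009000006000000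
def msel2 (c : ℕ) : ℕ := mc2_0
def mc2 (v : ℕ) : ℕ := forceL (Nat.mod v 100) fun n => forceL (Nat.rec (motive := fun _ => ℕ) 0 (fun c _ => Nat.mod (Nat.shiftRight (msel2 c) (Nat.mul 24 (Nat.mod n 1024))) 16777216) (Nat.add (Nat.div n 1024) 1)) fun e => Nat.add (Nat.mod e 100) (Nat.mul 100 (Nat.mod (Nat.add (Nat.div v 100) (Nat.div e 100)) 2))

def mc3_0 : ℕ := 0xad0000c50000400000540000c40000630000bf0000a20000c20000b900002e00009800005d00002600004a0000200000b500003500009700002300003800001e00001d0000940000bb00001c00004b0000830000b400002400006200001a00005600008f0000520000c000004f0000910000bc00001700004800005900007a0000a60000b00000a50000900000470000c300002700008d00007600003d00005a00004500007400004d00001300007500008600007800000b00004400009500009300000f00001500005300004e0000a000003f00009e00004600004300003600002a00003b00007c00003900003700002100003200006c00007d00000300000c00002800007100002500006d00000200001b00000600000100000a00000400000e00006b000005000000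
def msel3 (c : ℕ) : ℕ := mc3_0
def mc3 (v : ℕ) : ℕ := forceL (Nat.mod v 100) fun n => forceL (Nat.rec (motive := fun _ => ℕ) 0 (fun c _ => Nat.mod (Nat.shiftRight (msel3 c) (Nat.mul 24 (Nat.mod n 1024))) 16777216) (Nat.add (Nat.div n 1024) 1)) fun e => Nat.add (Nat.mod e 100) (Nat.mul 100 (Nat.mod (Nat.add (Nat.div v 100) (Nat.div e 100)) 2))

def mc4_0 : ℕ := 0x370000a00000610000ab0000b90000aa00004d00005a00004300004e00002b0000600000330000c10000bc0000990000b40000530000a800004100006200002400008b00004c00009a0000390000c70000c300001b00002a0000ae00004000003200008c0000190000180000ba0000c00000a20000590000930000260000300000140000b800004900004b00001500001300007e00008300005e00002e00005b0000100000a100000e00004500003800005200000c00005700002d00009000000a0000310000b500002300000900004f00001c00000800004800003b00004200006b00003f00000d00003a00000500003400008900006800000300008500008200002900007b00001d00008600002000000100000f00001600000600001200001100000b000000000002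
def msel4 (c : ℕ) : ℕ := mc4_0
def mc4 (v : ℕ) : ℕ := forceL (Nat.mod v 100) fun n => forceL (Nat.rec (motive := fun _ => ℕ) 0 (fun c _ => Nat.mod (Nat.shiftRight (msel4 c) (Nat.mul 24 (Nat.mod n 1024))) 16777216) (Nat.add (Nat.div n 1024) 1)) fun e => Nat.add (Nat.mod e 100) (Nat.mul 100 (Nat.mod (Nat.add (Nat.div v 100) (Nat.div e 100)) 2))

def mc5_0 : ℕ := 0xad00004f0000610000580000ac0000300000ba0000a200002e00005c00003c0000b90000260000a30000c300009b0000520000280000850000b700001e00005a00005d00004c0000350000a900003600001b0000c40000c200002a0000b500005b0000190000500000440000170000a10000900000c600001a00001500004a0000290000630000af0000b800001300005700004300002200003900009f00002f00002500008800005900004600000d0000a60000b100003a00007600004e00002000006e00007300000900009500007200000b00001d00004700009600004100004000007000000600003400003800003300000400000300002d00000700002b00001600002700000200002300001f00001c00007c000005000014000075000010000000000008000001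
def msel5 (c : ℕ) : ℕ := mc5_0
def mc5 (v : ℕ) : ℕ := forceL (Nat.mod v 100) fun n => forceL (Nat.rec (motive := fun _ => ℕ) 0 (fun c _ => Nat.mod (Nat.shiftRight (msel5 c) (Nat.mul 24 (Nat.mod n 1024))) 16777216) (Nat.add (Nat.div n 1024) 1)) fun e => Nat.add (Nat.mod e 100) (Nat.mul 100 (Nat.mod (Nat.add (Nat.div v 100) (Nat.div e 100)) 2))

/-- the shift. -/
def mc6 (v : ℕ) : ℕ := Nat.add (Nat.mod v 100) (Nat.mul 100 (Nat.mod (Nat.add (Nat.div v 100) 1) 2))

/-- the inverse shift. -/
def mc7 (v : ℕ) : ℕ := Nat.add (Nat.mod v 100) (Nat.mul 100 (Nat.mod (Nat.add (Nat.div v 100) 1) 2))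

/-- the table of the model. -/
def mT (x v : ℕ) : ℕ := (Bool.rec (motive := fun _ => ℕ) (Bool.rec (motive := fun _ => ℕ) (Bool.rec (motive := fun _ => ℕ) (mc0 v) (mc1 v) (Nat.ble 1 x)) (Bool.rec (motive := fun _ => ℕ) (mc2 v) (mc3 v) (Nat.ble 3 x)) (Nat.ble 2 x)) (Bool.rec (motive := fun _ => ℕ) (Bool.rec (motive := fun _ => ℕ) (mc4 v) (mc5 v) (Nat.ble 5 x)) (Bool.rec (motive := fun _ => ℕ) (mc6 v) (mc7 v) (Nat.ble 7 x)) (Nat.ble 6 x)) (Nat.ble 4 x))

def ks : List ℕ := [0, 0, 1, 0, 0]

/-- the central words. -/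
def cw : List (List ℕ) := [[5, 0, 4, 1, 1, 3, 1, 2, 2, 2, 0], [4, 2, 5, 2, 5, 1, 1, 3, 0, 0, 0, 3, 1], [4, 3, 3, 3, 4, 1, 1, 3, 3, 1, 1, 1, 2], [3, 0, 3, 1, 1, 3, 3, 3, 1, 1], [3, 0, 2, 1, 2, 1, 2, 0, 3, 1, 1, 1]]

/-- the orders of the generators. -/
def mml : List ℕ := [7, 7, 7]

def w_0 : List ℕ := [0, 6, 1, 7]

set_option maxRecDepth 1000000 in
def W_0 (v : ℕ) : ℕ := forceL (mc7 v) (fun a1 => forceL (mc1 a1) (fun a2 => forceL (mc6 a2) (fun a3 => forceL (mc0 a3) (fun a4 => a4))))

def w_1 : List ℕ := [2, 6, 3, 7]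

set_option maxRecDepth 1000000 in
def W_1 (v : ℕ) : ℕ := forceL (mc7 v) (fun a1 => forceL (mc3 a1) (fun a2 => forceL (mc6 a2) (fun a3 => forceL (mc2 a3) (fun a4 => a4))))

def w_2 : List ℕ := [4, 6, 5, 7]

set_option maxRecDepth 1000000 in
def W_2 (v : ℕ) : ℕ := forceL (mc7 v) (fun a1 => forceL (mc5 a1) (fun a2 => forceL (mc6 a2) (fun a3 => forceL (mc4 a3) (fun a4 => a4))))

def w_3 : List ℕ := [5, 0, 4, 1, 1, 3, 1, 2, 2, 2, 0]

set_option maxRecDepth 1000000 in
def W_3 (v : ℕ) : ℕ := forceL (mc0 v) (fun a1 => forceL (mc2 a1) (fun a2 => forceL (mc2 a2) (fun a3 => forceL (mc2 a3) (fun a4 => forceL (mc1 a4) (fun a5 => forceL (mc3 a5) (fun a6 => forceL (mc1 a6) (fun a7 => forceL (mc1 a7) (fun a8 => forceL (mc4 a8) (fun a9 => forceL (mc0 a9) (fun a10 => forceL (mc5 a10) (fun a11 => a11)))))))))))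

def w_4 : List ℕ := [4, 2, 5, 2, 5, 1, 1, 3, 0, 0, 0, 3, 1]

set_option maxRecDepth 1000000 in
def W_4 (v : ℕ) : ℕ := forceL (mc1 v) (fun a1 => forceL (mc3 a1) (fun a2 => forceL (mc0 a2) (fun a3 => forceL (mc0 a3) (fun a4 => forceL (mc0 a4) (fun a5 => forceL (mc3 a5) (fun a6 => forceL (mc1 a6) (fun a7 => forceL (mc1 a7) (fun a8 => forceL (mc5 a8) (fun a9 => forceL (mc2 a9) (fun a10 => forceL (mc5 a10) (fun a11 => forceL (mc2 a11) (fun a12 => forceL (mc4 a12) (fun a13 => a13)))))))))))))

def w_5 : List ℕ := [4, 3, 3, 3, 4, 1, 1, 3, 3, 1, 1, 1, 2, 6]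

set_option maxRecDepth 1000000 in
def W_5 (v : ℕ) : ℕ := forceL (mc6 v) (fun a1 => forceL (mc2 a1) (fun a2 => forceL (mc1 a2) (fun a3 => forceL (mc1 a3) (fun a4 => forceL (mc1 a4) (fun a5 => forceL (mc3 a5) (fun a6 => forceL (mc3 a6) (fun a7 => forceL (mc1 a7) (fun a8 => forceL (mc1 a8) (fun a9 => forceL (mc4 a9) (fun a10 => forceL (mc3 a10) (fun a11 => forceL (mc3 a11) (fun a12 => forceL (mc3 a12) (fun a13 => forceL (mc4 a13) (fun a14 => a14))))))))))))))

def w_6 : List ℕ := [3, 0, 3, 1, 1, 3, 3, 3, 1, 1]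

set_option maxRecDepth 1000000 in
def W_6 (v : ℕ) : ℕ := forceL (mc1 v) (fun a1 => forceL (mc1 a1) (fun a2 => forceL (mc3 a2) (fun a3 => forceL (mc3 a3) (fun a4 => forceL (mc3 a4) (fun a5 => forceL (mc1 a5) (fun a6 => forceL (mc1 a6) (fun a7 => forceL (mc3 a7) (fun a8 => forceL (mc0 a8) (fun a9 => forceL (mc3 a9) (fun a10 => a10))))))))))

def w_7 : List ℕ := [3, 0, 2, 1, 2, 1, 2, 0, 3, 1, 1, 1]

set_option maxRecDepth 1000000 in
def W_7 (v : ℕ) : ℕ := forceL (mc1 v) (fun a1 => forceL (mc1 a1) (fun a2 => forceL (mc1 a2) (fun a3 => forceL (mc3 a3) (fun a4 => forceL (mc0 a4) (fun a5 => forceL (mc2 a5) (fun a6 => forceL (mc1 a6) (fun a7 => forceL (mc2 a7) (fun a8 => forceL (mc1 a8) (fun a9 => forceL (mc2 a9) (fun a10 => forceL (mc0 a10) (fun a11 => forceL (mc3 a11) (fun a12 => a12))))))))))))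

def w_8 : List ℕ := [0, 0, 0, 0, 0, 0, 0]

set_option maxRecDepth 1000000 in
def W_8 (v : ℕ) : ℕ := forceL (mc0 v) (fun a1 => forceL (mc0 a1) (fun a2 => forceL (mc0 a2) (fun a3 => forceL (mc0 a3) (fun a4 => forceL (mc0 a4) (fun a5 => forceL (mc0 a5) (fun a6 => forceL (mc0 a6) (fun a7 => a7)))))))

def w_9 : List ℕ := [2, 2, 2, 2, 2, 2, 2]

set_option maxRecDepth 1000000 in
def W_9 (v : ℕ) : ℕ := forceL (mc2 v) (fun a1 => forceL (mc2 a1) (fun a2 => forceL (mc2 a2) (fun a3 => forceL (mc2 a3) (fun a4 => forceL (mc2 a4) (fun a5 => forceL (mc2 a5) (fun a6 => forceL (mc2 a6) (fun a7 => a7)))))))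

def w_10 : List ℕ := [4, 4, 4, 4, 4, 4, 4]

set_option maxRecDepth 1000000 in
def W_10 (v : ℕ) : ℕ := forceL (mc4 v) (fun a1 => forceL (mc4 a1) (fun a2 => forceL (mc4 a2) (fun a3 => forceL (mc4 a3) (fun a4 => forceL (mc4 a4) (fun a5 => forceL (mc4 a5) (fun a6 => forceL (mc4 a6) (fun a7 => a7)))))))

def w_11 : List ℕ := [6, 6]

set_option maxRecDepth 1000000 in
def W_11 (v : ℕ) : ℕ := forceL (mc6 v) (fun a1 => forceL (mc6 a1) (fun a2 => a2))

end Cfsg.Agent.Helper4.J2MM
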