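import Mathlib
import Cfsg.Agent.Helper4.J3FusAbs

set_option autoImplicit false

/-!
The simplicity criterion for the Sylow 2-subgroup of the centralizer of the involution.
-/

namespace Cfsg.Agent.Helper4.J3Fus

open Cfsg Cfsg.Agent.Lead Cfsg.Agent.Lead.SimpCrit Cfsg.Agent.Helper9.J3Z

variable {X : Type*} [Group X] {t : X} {Q H : Subgroup X}

namespace ZD

section
variable (hz : ZData t Q H)
include hz

theorem Q_isPGroup : IsPGroup 2 ↥Q := by
  apply IsPGroup.of_card (n := 5)
  rw [hz.cardQ]; norm_num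

theorem Q_normal_in_C [Finite X] :
    (Q.subgroupOf (Subgroup.centralizer ({t} : Set X))).Normal := by
  constructor
  intro x hx g
  rw [Subgroup.mem_subgroupOf] at hx ⊢
  obtain ⟨q, hq, h, hh, e⟩ := exists_mul hz g.1 g.2
  have e1 : ((g * x * g⁻¹ : ↥(Subgroup.centralizer ({t} : Set X))) : X) =
      q * (h * (x : X) * h⁻¹) * q⁻¹ := by
    rw [Subgroup.coe_mul, Subgroup.coe_mul, Subgroup.coe_inv, e]; group
  rw [e1]
  exact Q.mul_mem (Q.mul_mem hq (hz.norm h hh _ hx)) (Q.inv_mem hq)

/-- the subgroup generated by the involutions of the complement is the complement. -/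
theorem H_le_closure_invol [Finite X] :
    H ≤ Subgroup.closure {g : X | g ∈ H ∧ orderOf g = 2} := by
  obtain ⟨eH⟩ := hz.isoH
  have hs : IsSimpleGroup ↥H := by
    have : IsSimpleGroup ↥(alternatingGroup (Fin 5)) := alternatingGroup.isSimpleGroup (by simp)
    exact eH.isSimpleGroup
  have : Fact (Nat.Prime 2) := ⟨Nat.prime_two⟩
  have h2 : 2 ∣ Nat.card ↥H := by rw [hz.cardH]; norm_num
  obtain ⟨y, hy⟩ := exists_prime_orderOf_dvd_card' 2 h2
  let N : Subgroup ↥H := Subgroup.normalClosure {x : ↥H | orderOf x = 2}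
  have hN : N.Normal := Subgroup.normalClosure_normal
  have hyN : y ∈ N := Subgroup.subset_normalClosure hy
  have hNtop : N = ⊤ := by
    rcases hs.eq_bot_or_eq_top_of_normal N hN with h1 | h1
    · exfalso
      rw [h1, Subgroup.mem_bot] at hyN
      rw [hyN, orderOf_one] at hy
      norm_num at hy
    · exact h1
  intro h hh
  have hmem : (⟨h, hh⟩ : ↥H) ∈ N := by rw [hNtop]; exact Subgroup.mem_top _
  have key : ∀ x : ↥H, x ∈ N → (x : X) ∈ Subgroup.closure {g : X | g ∈ H ∧ orderOf g = 2} := by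
    intro x hx
    induction hx using Subgroup.closure_induction with
    | mem x hx =>
      apply Subgroup.subset_closure
      refine ⟨x.2, ?_⟩
      obtain ⟨a, ha, hax⟩ := Group.mem_conjugatesOfSet_iff.mp hx
      have ha' : orderOf a = 2 := ha
      rw [Subgroup.orderOf_coe, ← ha']
      obtain ⟨c, hc⟩ := isConj_iff.mp hax
      rw [← hc, ← MulAut.conj_apply]
      exact MulEquiv.orderOf_eq (MulAut.conj c) a
    | one => exact Subgroup.one_mem _
    | mul x y _ _ hx hy => exact Subgroup.mul_mem _ hx hy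
    | inv x _ hx => exact Subgroup.inv_mem _ hx
  exact key _ hmem

/-- the centralizer of the involution is generated by elements of order a power of two normalizing
the normal subgroup. -/
theorem C_le_closure [Finite X] : Subgroup.centralizer ({t} : Set X) ≤
    Subgroup.closure {g : X | g ∈ Subgroup.normalizer (Q : Set X) ∧ ∃ k : ℕ, orderOf g = 2 ^ k} := by
  have : Fact (Nat.Prime 2) := ⟨Nat.prime_two⟩
  have hHN : H ≤ Subgroup.normalizer (Q : Set X) := by
    intro h hh
    rw [Subgroup.mem_normalizer_iff]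
    intro q
    constructor
    · exact hz.norm h hh q
    · intro hq
      have := hz.norm _ (H.inv_mem hh) _ hq
      rw [inv_inv] at this
      have e : h⁻¹ * (h * q * h⁻¹) * h = q := by group
      rwa [e] at this
  intro y hy
  obtain ⟨q, hq, h, hh, rfl⟩ := exists_mul hz y hy
  apply Subgroup.mul_mem
  · apply Subgroup.subset_closure
    refine ⟨Subgroup.le_normalizer hq, ?_⟩
    obtain ⟨k, hk⟩ := (IsPGroup.iff_orderOf.mp (Q_isPGroup hz)) ⟨q, hq⟩
    rw [Subgroup.orderOf_mk] at hk
    exact ⟨k, hk⟩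
  · refine (Subgroup.closure_mono ?_) (H_le_closure_invol hz hh)
    rintro g ⟨hgH, hg2⟩
    exact ⟨hHN hgH, 1, by rw [hg2, pow_one]⟩

end

/-- the criterion. -/
theorem exists_crit [Finite X] (hz : ZData t Q H) (he : Extra t Q H)
    (hc : (Nat.card X).factorization 2 = 7) :
    ∃ S₀ : Sylow 2 X, Crit 2 (S₀ : Subgroup X) := by
  have : Fact (Nat.Prime 2) := ⟨Nat.prime_two⟩
  set C : Subgroup X := Subgroup.centralizer ({t} : Set X) with hC
  have hQC : Q ≤ C := Q_le_C hz
  have hHC : H ≤ C := H_le_C hz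
  obtain ⟨P⟩ : Nonempty (Sylow 2 ↥C) := inferInstance
  let P' : Subgroup X := (P : Subgroup ↥C).map C.subtype
  have hfacC : (Nat.card ↥C).factorization 2 = 7 := by
    rw [card_C hz]
    have hp : Nat.Prime 2 := Nat.prime_two
    have h1 : 7 ≤ (1920 : ℕ).factorization 2 :=
      (hp.pow_dvd_iff_le_factorization (by norm_num)).mp (by norm_num)
    have h2 : ¬ 8 ≤ (1920 : ℕ).factorization 2 := fun h =>
      absurd ((hp.pow_dvd_iff_le_factorization (by norm_num)).mpr h) (by norm_num)
    omega
  have hP' : Nat.card P' = 2 ^ (Nat.card X).factorization 2 := by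
    rw [Subgroup.card_map_of_injective C.subtype_injective, hc, ← hfacC]
    exact P.card_eq_multiplicity
  let S₀ : Sylow 2 X := Sylow.ofCard P' hP'
  have hS₀ : (S₀ : Subgroup X) = P' := rfl
  have hP'C : P' ≤ C := by
    rintro _ ⟨y, -, rfl⟩
    exact y.2
  have hQP : Q ≤ P' := by
    have := Q_normal_in_C hz
    have h1 := Cfsg.Agent.Helper4.normal_pgroup_le_sylow (Q.subgroupOf C)
      ((Q_isPGroup hz).comap_subtype) P
    intro q hq
    exact ⟨⟨q, hQC hq⟩, h1 (Subgroup.mem_subgroupOf.mpr hq), rfl⟩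
  have hP'2 : IsPGroup 2 ↥P' := S₀.isPGroup'
  -- the centre of the Sylow subgroup
  have hcenter : ∀ z ∈ P', (∀ s ∈ P', s * z = z * s) → z = 1 ∨ z = t := by
    intro z hz' hzc
    have h1 : z ∈ Q := mem_Q_of_comm hz he z (hP'C hz') (fun q hq => (hzc q (hQP hq)).symm)
    exact hz.center z h1 (fun y hy => (hzc y (hQP hy)).symm)
  -- the elements of the Sylow subgroup
  have hdecomp : ∀ s ∈ P', ∃ q ∈ Q, ∃ h ∈ H, h ∈ P' ∧ h * h = 1 ∧ s = q * h := by
    intro s hs
    obtain ⟨q, hq, h, hh, e⟩ := exists_mul hz s (hP'C hs)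
    have hhP : h ∈ P' := by
      have : h = q⁻¹ * s := by rw [e]; group
      rw [this]
      exact P'.mul_mem (P'.inv_mem (hQP hq)) hs
    obtain ⟨k, hk⟩ := (IsPGroup.iff_orderOf.mp hP'2) ⟨h, hhP⟩
    rw [Subgroup.orderOf_mk] at hk
    obtain ⟨eH⟩ := hz.isoH
    have h1 : (⟨h, hh⟩ : ↥H) * ⟨h, hh⟩ = 1 := by
      apply sq_eq_one_of_iso_a5 eH _ k
      apply Subtype.ext
      rw [Subgroup.coe_pow, Subgroup.coe_one]
      change h ^ 2 ^ k = 1
      rw [← hk]
      exact pow_orderOf_eq_one h
    exact ⟨q, hq, h, hh, hhP, congrArg Subtype.val h1, e⟩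
  refine ⟨S₀, ?_, ?_⟩
  · -- strongly closed subgroups
    rw [hS₀]
    intro T hTS hT
    by_cases hbot : T = ⊥
    · exact Or.inl hbot
    right
    have hT2 : IsPGroup 2 ↥T := hP'2.to_le hTS
    have hTne : Nat.card ↥T ≠ 1 := by
      intro h1
      exact hbot (Subgroup.card_eq_one.mp h1)
    have h2T : 2 ∣ Nat.card ↥T := by
      rcases hT2.card_eq_or_dvd with h1 | h1
      · exact absurd h1 hTne
      · exact h1
    obtain ⟨x₀, hx₀⟩ := exists_prime_orderOf_dvd_card' 2 h2T
    have hx₀' : orderOf (x₀ : X) = 2 := by rw [Subgroup.orderOf_coe]; exact hx₀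
    -- every element of trivial square of the Sylow subgroup lies in `T`
    have hinv : ∀ s ∈ P', s * s = 1 → s ∈ T := by
      intro s hs hss
      by_cases hs1 : s = 1
      · rw [hs1]; exact T.one_mem
      have hso : orderOf s = 2 := by
        apply orderOf_eq_prime
        · rw [pow_two]; exact hss
        · exact hs1
      have h1 := (hz.conj _ hx₀').trans (hz.conj _ hso).symm
      obtain ⟨c, hc⟩ := isConj_iff.mp h1
      rw [← hc]
      apply hT _ x₀.2 c
      rw [hc]; exact hs
    apply le_antisymm hTS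
    intro s hs
    obtain ⟨q, hq, h, hh, hhP, hhh, rfl⟩ := hdecomp s hs
    apply T.mul_mem
    · have h1 : Subgroup.closure {x : X | x ∈ Q ∧ x * x = 1} ≤ T := by
        rw [Subgroup.closure_le]
        rintro x ⟨hxQ, hxx⟩
        exact hinv x (hQP hxQ) hxx
      exact h1 (he.gen hq)
    · exact hinv h hhP hhh
  · -- the normalizer
    rw [hS₀]
    intro m hm
    apply Subgroup.subset_closure
    refine ⟨hm, Q, hQP, ?_, ?_, ?_⟩
    · intro s hs
      rw [Subgroup.mem_normalizer_iff]
      intro q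
      have hn := Q_normal_in_C hz
      constructor
      · intro hq
        have := hn.conj_mem ⟨q, hQC hq⟩ (Subgroup.mem_subgroupOf.mpr hq) ⟨s, hP'C hs⟩
        exact Subgroup.mem_subgroupOf.mp this
      · intro hq
        have := hn.conj_mem ⟨s * q * s⁻¹, hQC hq⟩ (Subgroup.mem_subgroupOf.mpr hq)
          ⟨s⁻¹, C.inv_mem (hP'C hs)⟩
        have h2 := Subgroup.mem_subgroupOf.mp this
        have e : ((⟨s⁻¹, C.inv_mem (hP'C hs)⟩ * ⟨s * q * s⁻¹, hQC hq⟩ *
            (⟨s⁻¹, C.inv_mem (hP'C hs)⟩ : ↥C)⁻¹ : ↥C) : X) = q := by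
          rw [Subgroup.coe_mul, Subgroup.coe_mul, Subgroup.coe_inv]
          change s⁻¹ * (s * q * s⁻¹) * s⁻¹⁻¹ = q
          group
        rwa [e] at h2
    · rintro x ⟨hxS, hxC⟩
      apply mem_Q_of_comm hz he x (hP'C hxS)
      intro q hq
      exact ((Subgroup.mem_centralizer_iff.mp hxC) q hq).symm
    · -- `m` centralizes the involution
      have hmC : m ∈ C := by
        rw [Subgroup.mem_normalizer_iff] at hm
        have htP : t ∈ P' := hQP hz.tQ
        have h1 : m * t * m⁻¹ ∈ P' := (hm t).mp htP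
        have h2 : ∀ s ∈ P', s * (m * t * m⁻¹) = (m * t * m⁻¹) * s := by
          intro s hs
          have h3 : m⁻¹ * s * m ∈ P' := by
            have := (hm (m⁻¹ * s * m)).mpr
            apply this
            have e : m * (m⁻¹ * s * m) * m⁻¹ = s := by group
            rw [e]; exact hs
          have h4 := Subgroup.mem_centralizer_singleton_iff.mp (hP'C h3)
          calc s * (m * t * m⁻¹) = m * ((m⁻¹ * s * m) * t) * m⁻¹ := by group
            _ = m * (t * (m⁻¹ * s * m)) * m⁻¹ := by rw [h4]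
            _ = (m * t * m⁻¹) * s := by group
        rcases hcenter _ h1 h2 with h5 | h5
        · exfalso
          apply hz.t1
          have : t = m⁻¹ * (m * t * m⁻¹) * m := by group
          rw [this, h5]; group
        · rw [hC, Subgroup.mem_centralizer_singleton_iff]
          have : m * t = (m * t * m⁻¹) * m := by group
          rw [this, h5]
      exact C_le_closure hz hmC

end ZD

end Cfsg.Agent.Helper4.J3Fus
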