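import Mathlib
import Cfsg.Agent.Helper4.J3FusCrit
import Cfsg.Agent.Helper9.J3Z.Main

set_option autoImplicit false

/-!
The further properties of the centralizer of an involution of the third group of Janko on 6156
points: the normal subgroup of order 32 is generated by its elements of trivial square and the
complement acts non-trivially on it modulo its centre.
-/

namespace Cfsg.Agent.Helper4.J3Fus

open Cfsg Cfsg.Agent.Helper9.J3Z Cfsg.Agent.Helper9.J3

theorem gen_idx : ∀ i < 32, ∃ j < 32, ∃ k < 32, TQ.m j j = 0 ∧ TQ.m k k = 0 ∧ TQ.m j k = i := by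
  decide +kernel

theorem act_idx : ∃ j < 60, ∃ i < 32, cjF j i ≠ i ∧ cjF j i ≠ TQ.m itQ i := by
  decide +kernel

theorem conj_el {j i : ℕ} (hj : j < 60) (hi : i < 32) :
    cjF j i < 32 ∧ TH.el j * TQ.el i * (TH.el j)⁻¹ = TQ.el (cjF j i) := by
  have hb := andB_true (allB_true (allB_true norm_b hj) hi)
  refine ⟨Nat.lt_of_succ_le (Nat.le_of_ble_eq_true hb.1), ?_⟩
  refine eq_of_eqB (isAut_mul (isAut_mul (WT.el_isAut _ _) (WT.el_isAut _ _)) (isAut_inv (WT.el_isAut _ _)))
    (WT.el_isAut _ _)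
    (f := fun p => ev (TH.cw j) (ev (TQ.cw i) (evi (TH.cw j) p))) (g := ev (TQ.cw (cjF j i))) ?_ ?_
    hb.2
  · intro p
    rw [Equiv.Perm.mul_apply, Equiv.Perm.mul_apply, WT.el_apply, WT.el_apply, el_inv_apply]
  · intro p
    exact WT.el_apply _ _ p

theorem extra0 : Extra t0 Q0 H0 where
  gen := by
    intro x hx
    obtain ⟨i, hi, rfl⟩ := mem_Q0 hx
    obtain ⟨j, hj, k, hk, h1, h2, h3⟩ := gen_idx i hi
    rw [← h3, ← TQ_elmul hj hk]
    apply Subgroup.mul_mem
    · apply Subgroup.subset_closure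
      refine ⟨⟨j, hj, rfl⟩, ?_⟩
      rw [TQ_elmul hj hj, h1]
      exact TQ_el_zero
    · apply Subgroup.subset_closure
      refine ⟨⟨k, hk, rfl⟩, ?_⟩
      rw [TQ_elmul hk hk, h2]
      exact TQ_el_zero
  act := by
    obtain ⟨j, hj, i, hi, h1, h2⟩ := act_idx
    obtain ⟨hlt, e⟩ := conj_el hj hi
    refine ⟨TH.el j, ⟨j, hj, rfl⟩, TQ.el i, ⟨i, hi, rfl⟩, ?_, ?_⟩
    · rw [e]
      intro e1
      exact h1 (TQ_elinj hlt hi e1)
    · rw [e, t0_eq, TQ_elmul itQ_lt hi]
      intro e1
      exact h2 (TQ_elinj hlt (TQ_m_lt itQ_lt hi) e1)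

theorem extraG : Extra tG QG HG where
  gen := by
    intro x hx
    have h1 := extra0.gen (mem_QG.mp hx)
    have key : ∀ y : Equiv.Perm (Fin n), y ∈ Subgroup.closure {x | x ∈ Q0 ∧ x * x = 1} →
        ∀ hy : y ∈ G, (⟨y, hy⟩ : ↥G) ∈ Subgroup.closure {x : ↥G | x ∈ QG ∧ x * x = 1} := by
      intro y hy
      induction hy using Subgroup.closure_induction with
      | mem y hy =>
        intro hyG
        apply Subgroup.subset_closure
        exact ⟨mem_QG.mpr hy.1, Subtype.ext hy.2⟩
      | one =>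
        intro _
        exact Subgroup.one_mem _
      | mul a b ha hb iha ihb =>
        intro _
        have haG : a ∈ G := by
          refine (Subgroup.closure_le G).mpr ?_ ha
          rintro z ⟨hz, -⟩
          exact Q0_le hz
        have hbG : b ∈ G := by
          refine (Subgroup.closure_le G).mpr ?_ hb
          rintro z ⟨hz, -⟩
          exact Q0_le hz
        exact Subgroup.mul_mem _ (iha haG) (ihb hbG)
      | inv a ha iha =>
        intro _
        have haG : a ∈ G := by
          refine (Subgroup.closure_le G).mpr ?_ ha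
          rintro z ⟨hz, -⟩
          exact Q0_le hz
        exact Subgroup.inv_mem _ (iha haG)
    exact key x.1 h1 x.2
  act := by
    obtain ⟨h, hh, q, hq, h1, h2⟩ := extra0.act
    refine ⟨⟨h, H0_le hh⟩, mem_HG.mpr hh, ⟨q, Q0_le hq⟩, mem_QG.mpr hq, ?_, ?_⟩
    · intro e
      exact h1 (congrArg Subtype.val e)
    · intro e
      exact h2 (congrArg Subtype.val e)

theorem fact_G : (Nat.card ↥G).factorization 2 = 7 := by
  rw [card_G]
  have hp : Nat.Prime 2 := Nat.prime_two
  have h1 : 7 ≤ (50232960 : ℕ).factorization 2 :=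
    (hp.pow_dvd_iff_le_factorization (by norm_num)).mp (by norm_num)
  have h2 : ¬ 8 ≤ (50232960 : ℕ).factorization 2 := fun h =>
    absurd ((hp.pow_dvd_iff_le_factorization (by norm_num)).mpr h) (by norm_num)
  omega

end Cfsg.Agent.Helper4.J3Fus
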