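import Mathlib
import Cfsg.Agent.Helper2.ZStarH

set_option autoImplicit false
set_option linter.style.haveILetI false

namespace Cfsg.Agent.Helper4.JR

open Subgroup

universe u v

/-- all `2`-subgroups are commutative -/
def TwoAb (X : Type*) [Group X] : Prop :=
  ∀ Q : Subgroup X, IsPGroup 2 Q → ∀ a ∈ Q, ∀ b ∈ Q, a * b = b * a

theorem mem_smul_sylow {X : Type*} [Group X] {p : ℕ} (W : Sylow p X) (g a : X) :
    a ∈ ((g • W : Sylow p X) : Subgroup X) ↔ g⁻¹ * a * g ∈ W := by
  rw [Sylow.coe_subgroup_smul, Subgroup.mem_pointwise_smul_iff_inv_smul_mem]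
  simp only [MulAut.smul_def, MulAut.inv_apply, MulAut.conj_symm_apply]
  exact Iff.rfl

theorem twoAb_of_sylow {X : Type*} [Group X] [Finite X] (W : Sylow 2 X)
    (hW : ∀ a ∈ W, ∀ b ∈ W, a * b = b * a) : TwoAb X := by
  haveI : Fact (Nat.Prime 2) := ⟨Nat.prime_two⟩
  intro Q hQ a ha b hb
  obtain ⟨P, hQP⟩ := hQ.exists_le_sylow
  obtain ⟨g, rfl⟩ := MulAction.exists_smul_eq X W P
  have ha' := (mem_smul_sylow W g a).mp (hQP ha)
  have hb' := (mem_smul_sylow W g b).mp (hQP hb)
  have := hW _ ha' _ hb'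
  have e : a * b = g * ((g⁻¹ * a * g) * (g⁻¹ * b * g)) * g⁻¹ := by group
  rw [e, this]; group

theorem TwoAb.of_injective {X : Type*} {Y : Type*} [Group X] [Group Y] (f : Y →* X)
    (hf : Function.Injective f) (h : TwoAb X) : TwoAb Y := by
  intro Q hQ a ha b hb
  apply hf
  rw [map_mul, map_mul]
  exact h (Q.map f) (hQ.map f) _ (Subgroup.mem_map_of_mem f ha) _ (Subgroup.mem_map_of_mem f hb)

theorem TwoAb.of_surjective {X : Type*} {Y : Type*} [Group X] [Group Y] [Finite X] (f : X →* Y)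
    (hf : Function.Surjective f) (h : TwoAb X) : TwoAb Y := by
  haveI : Fact (Nat.Prime 2) := ⟨Nat.prime_two⟩
  haveI : Finite Y := Finite.of_surjective f hf
  obtain ⟨W⟩ : Nonempty (Sylow 2 X) := inferInstance
  apply twoAb_of_sylow (W.mapSurjective hf)
  intro a ha b hb
  have ha2 : a ∈ ((W.mapSurjective hf : Sylow 2 Y) : Subgroup Y) := ha
  have hb2 : b ∈ ((W.mapSurjective hf : Sylow 2 Y) : Subgroup Y) := hb
  rw [Sylow.coe_mapSurjective] at ha2 hb2
  obtain ⟨a', ha', rfl⟩ := ha2
  obtain ⟨b', hb', rfl⟩ := hb2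
  rw [← map_mul, ← map_mul, h W W.isPGroup' a' ha' b' hb']

/-- The "norm" of an element of a commutative Sylow `2`-subgroup `W` under `N(W)`: it is
centralized by `N(W)` and its image under a homomorphism with commutative image is an odd power. -/
theorem exists_fixed_of_hom {X : Type*} [Group X] [Finite X] (W : Sylow 2 X)
    (hW : ∀ a ∈ W, ∀ b ∈ W, a * b = b * a) {Q : Type*} [Group Q] (hQ : ∀ a b : Q, a * b = b * a)
    (f : X →* Q) (w : X) (hw : w ∈ W) :
    ∃ v ∈ W, (∀ n ∈ normalizer ((W : Subgroup X) : Set X), n * v * n⁻¹ = v) ∧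
      ∃ c : ℕ, Odd c ∧ f v = f w ^ c := by
  classical
  haveI : Fact (Nat.Prime 2) := ⟨Nat.prime_two⟩
  set N : Subgroup X := normalizer ((W : Subgroup X) : Set X) with hN
  set WN : Subgroup N := (W : Subgroup X).subgroupOf N with hWN
  letI : CommGroup ↥(W : Subgroup X) :=
    { (inferInstance : Group ↥(W : Subgroup X)) with
      mul_comm := fun a b => Subtype.ext (hW a a.2 b b.2) }
  haveI : Fintype (N ⧸ WN) := Fintype.ofFinite _
  have hmemN : ∀ n : N, ∀ x ∈ (W : Subgroup X), (n : X) * x * (n : X)⁻¹ ∈ (W : Subgroup X) := by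
    intro n x hx
    exact (Subgroup.mem_normalizer_iff.mp n.2 x).mp hx
  let term : N ⧸ WN → ↥(W : Subgroup X) := fun q =>
    ⟨(q.out : X) * w * (q.out : X)⁻¹, hmemN q.out w hw⟩
  refine ⟨((∏ q, term q : ↥(W : Subgroup X)) : X), (∏ q, term q).2, ?_, ?_⟩
  · intro n hn
    let c : ↥(W : Subgroup X) →* ↥(W : Subgroup X) :=
      { toFun := fun x => ⟨n * x * n⁻¹, hmemN ⟨n, hn⟩ x x.2⟩
        map_one' := by apply Subtype.ext; simp
        map_mul' := by intro x y; apply Subtype.ext; simp }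
    have hc : ∀ x : ↥(W : Subgroup X), ((c x : ↥(W : Subgroup X)) : X) = n * x * n⁻¹ := fun x => rfl
    rw [← hc, map_prod]
    congr 1
    have hterm : ∀ q : N ⧸ WN, c (term q) = term ((⟨n, hn⟩ : N) • q) := by
      intro q
      apply Subtype.ext
      rw [hc]
      show n * ((q.out : X) * w * (q.out : X)⁻¹) * n⁻¹ =
        ((((⟨n, hn⟩ : N) • q).out : N) : X) * w * ((((⟨n, hn⟩ : N) • q).out : N) : X)⁻¹
      have h1 : ((⟨n, hn⟩ : N) • q) = QuotientGroup.mk ((⟨n, hn⟩ : N) * q.out) := by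
        conv_lhs => rw [← QuotientGroup.out_eq' q]
        rfl
      have h2 : (QuotientGroup.mk (((⟨n, hn⟩ : N) • q).out) : N ⧸ WN) =
          QuotientGroup.mk ((⟨n, hn⟩ : N) * q.out) := by
        rw [QuotientGroup.out_eq', h1]
      have h3' := QuotientGroup.eq.mp h2
      have h3 : ((((⟨n, hn⟩ : N) • q).out⁻¹ * ((⟨n, hn⟩ : N) * q.out) : N) : X) ∈ (W : Subgroup X) :=
        Subgroup.mem_subgroupOf.mp h3'
      set m : N := ((⟨n, hn⟩ : N) • q).out with hm
      have h4 : ((m⁻¹ * ((⟨n, hn⟩ : N) * q.out) : N) : X) = (m : X)⁻¹ * (n * (q.out : X)) := by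
        simp
      rw [h4] at h3
      set u : X := (m : X)⁻¹ * (n * (q.out : X)) with hu
      have h5 : n * (q.out : X) = (m : X) * u := by rw [hu]; group
      have h6 : u * w * u⁻¹ = w := by
        have := hW u h3 w hw
        calc u * w * u⁻¹ = w * u * u⁻¹ := by rw [this]
          _ = w := by group
      calc n * ((q.out : X) * w * (q.out : X)⁻¹) * n⁻¹
          = (n * (q.out : X)) * w * (n * (q.out : X))⁻¹ := by group
        _ = (m : X) * (u * w * u⁻¹) * (m : X)⁻¹ := by rw [h5]; group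
        _ = (m : X) * w * (m : X)⁻¹ := by rw [h6]
    simp_rw [hterm]
    exact Equiv.prod_comp (MulAction.toPerm (⟨n, hn⟩ : N)) term
  · refine ⟨Fintype.card (N ⧸ WN), ?_, ?_⟩
    · rw [← Nat.card_eq_fintype_card]
      have h1 : Nat.card (N ⧸ WN) = WN.index := rfl
      rw [h1, hWN]
      have h2 : (W : Subgroup X).relIndex N * N.index = (W : Subgroup X).index :=
        Subgroup.relIndex_mul_index Subgroup.le_normalizer
      have h3 : ¬ 2 ∣ (W : Subgroup X).index := W.not_dvd_index
      rw [Nat.odd_iff, ← Nat.two_dvd_ne_zero]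
      intro h
      apply h3
      rw [← h2]
      exact Dvd.dvd.mul_right h _
    · letI : CommGroup Q := { (inferInstance : Group Q) with mul_comm := hQ }
      have hf : ∀ q : N ⧸ WN, f ((term q : ↥(W : Subgroup X)) : X) = f w := by
        intro q
        show f ((q.out : X) * w * (q.out : X)⁻¹) = f w
        rw [map_mul, map_mul, map_inv, mul_comm (f _) (f w), mul_assoc, mul_inv_cancel, mul_one]
      have : f (((∏ q, term q : ↥(W : Subgroup X))) : X) =
          ∏ q, f ((term q : ↥(W : Subgroup X)) : X) := by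
        exact map_prod (f.comp (W : Subgroup X).subtype) term Finset.univ
      rw [this]
      simp_rw [hf]
      rw [Finset.prod_const, Finset.card_univ]


theorem pow_odd_ne_one {Q : Type*} [Group Q] {a : Q} (ha : a ≠ 1) {j c : ℕ} (h2 : a ^ 2 ^ j = 1)
    (hc : Odd c) : a ^ c ≠ 1 := by
  intro h
  apply ha
  have h1 : orderOf a ∣ 2 ^ j := orderOf_dvd_of_pow_eq_one h2
  have h3 : orderOf a ∣ c := orderOf_dvd_of_pow_eq_one h
  have h4 : Nat.Coprime (2 ^ j) c := Nat.Coprime.pow_left j (Nat.coprime_two_left.mpr hc)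
  have h5 : orderOf a ∣ 1 := by
    rw [← h4]
    exact Nat.dvd_gcd h1 h3
  exact orderOf_eq_one_iff.mp (Nat.dvd_one.mp h5)

theorem zpowers_normal_of_central {X : Type*} [Group X] (i : X) (hi : ∀ g : X, i * g = g * i) :
    (Subgroup.zpowers i).Normal := by
  constructor
  intro n hn g
  obtain ⟨j, rfl⟩ := Subgroup.mem_zpowers_iff.mp hn
  have : g * i ^ j * g⁻¹ = i ^ j := by
    have hc : Commute i g := hi g
    have := (hc.zpow_left j).eq
    rw [← this]; group
  rw [this]
  exact Subgroup.zpow_mem_zpowers i j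

theorem mem_zpowers_of_sq {X : Type*} [Group X] {i x : X} (hi : i * i = 1)
    (hx : x ∈ Subgroup.zpowers i) : x = 1 ∨ x = i := by
  obtain ⟨j, rfl⟩ := Subgroup.mem_zpowers_iff.mp hx
  have h2 : i ^ (2 : ℤ) = 1 := by
    rw [zpow_ofNat, pow_two]; exact hi
  rcases Int.emod_two_eq_zero_or_one j with h | h
  · left
    have : j = 2 * (j / 2) := by omega
    rw [this, zpow_mul, h2, one_zpow]
  · right
    have : j = 2 * (j / 2) + 1 := by omega
    rw [this, zpow_add, zpow_mul, h2, one_zpow, one_mul, zpow_one]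


/-- **Lemma A**, inductive form. -/
theorem lemmaA_aux (k : ℕ) : ∀ (X : Type u) [Group X] [Finite X] (M : Subgroup X) [M.Normal],
    IsSimpleGroup M → (∃ a ∈ M, ∃ b ∈ M, a * b ≠ b * a) → 2 ∣ Nat.card M → M.index = 2 ^ k →
    TwoAb X → ∀ x : X, ∃ m ∈ M, ∀ y ∈ M, (m⁻¹ * x) * y = y * (m⁻¹ * x) := by
  induction k with
  | zero =>
    intro X _ _ M _ _ _ _ hidx _ x
    have hM : M = ⊤ := Subgroup.index_eq_one.mp (by simpa using hidx)
    refine ⟨x, by rw [hM]; trivial, ?_⟩
    intro y _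
    simp
  | succ k ih =>
    intro X _ _ M hMn hs hn h2 hidx hab x
    haveI : Fact (Nat.Prime 2) := ⟨Nat.prime_two⟩
    obtain ⟨W⟩ : Nonempty (Sylow 2 X) := inferInstance
    have hW := hab W W.isPGroup'
    -- (a) an element of `W` outside `M`
    have hWM : ¬ (W : Subgroup X) ≤ M := by
      intro hle
      have h1 := Subgroup.index_dvd_of_le hle
      apply W.not_dvd_index
      refine dvd_trans ?_ h1
      rw [hidx]
      exact dvd_pow_self 2 (Nat.succ_ne_zero k)
    obtain ⟨w, hwW, hwM⟩ := SetLike.not_le_iff_exists.mp hWM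
    -- (b) `X = M W`
    have hsup : M ⊔ (W : Subgroup X) = ⊤ := by
      rw [← Subgroup.index_eq_one]
      have h1 : (M ⊔ (W : Subgroup X)).index ∣ M.index := Subgroup.index_dvd_of_le le_sup_left
      have h2' : (M ⊔ (W : Subgroup X)).index ∣ (W : Subgroup X).index :=
        Subgroup.index_dvd_of_le le_sup_right
      rw [hidx] at h1
      obtain ⟨j, -, hj⟩ := (Nat.dvd_prime_pow Nat.prime_two).mp h1
      rcases Nat.eq_zero_or_pos j with h0 | h0
      · rw [hj, h0, pow_zero]
      · exfalso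
        apply W.not_dvd_index
        refine dvd_trans ?_ h2'
        rw [hj]
        exact dvd_pow_self 2 (by omega)
    -- the quotient is commutative
    have hQ : ∀ a b : X ⧸ M, a * b = b * a := by
      intro a b
      induction a using QuotientGroup.induction_on with
      | H a =>
      induction b using QuotientGroup.induction_on with
      | H b =>
      have ha : a ∈ M ⊔ (W : Subgroup X) := by rw [hsup]; trivial
      have hb : b ∈ M ⊔ (W : Subgroup X) := by rw [hsup]; trivial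
      obtain ⟨m1, hm1, w1, hw1, rfl⟩ := Subgroup.mem_sup_of_normal_left.mp ha
      obtain ⟨m2, hm2, w2, hw2, rfl⟩ := Subgroup.mem_sup_of_normal_left.mp hb
      have e1 : ((m1 * w1 : X) : X ⧸ M) = (w1 : X ⧸ M) := by
        rw [QuotientGroup.mk_mul, (QuotientGroup.eq_one_iff m1).mpr hm1, one_mul]
      have e2 : ((m2 * w2 : X) : X ⧸ M) = (w2 : X ⧸ M) := by
        rw [QuotientGroup.mk_mul, (QuotientGroup.eq_one_iff m2).mpr hm2, one_mul]
      rw [e1, e2, ← QuotientGroup.mk_mul, ← QuotientGroup.mk_mul, hW w1 hw1 w2 hw2]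
    set f : X →* X ⧸ M := QuotientGroup.mk' M with hf
    have hfw : f w ≠ 1 := by
      intro h
      exact hwM ((QuotientGroup.eq_one_iff w).mp h)
    have hfw2 : f w ^ 2 ^ (k + 1) = 1 := by
      have h1 : Nat.card (X ⧸ M) = 2 ^ (k + 1) := by rw [← hidx]; rfl
      rw [← h1]
      exact pow_card_eq_one'
    obtain ⟨v, hvW, hvN, c, hc, hfv⟩ := exists_fixed_of_hom W hW hQ f w hwW
    have hv1 : v ≠ 1 := by
      intro h
      rw [h, map_one] at hfv
      exact pow_odd_ne_one hfw hfw2 hc hfv.symm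
    -- an involution of `C_W(N(W))`
    set N : Subgroup X := normalizer ((W : Subgroup X) : Set X) with hN
    set W0 : Subgroup X := (W : Subgroup X) ⊓ centralizer (N : Set X) with hW0
    have hvW0 : v ∈ W0 := by
      refine Subgroup.mem_inf.mpr ⟨hvW, ?_⟩
      rw [Subgroup.mem_centralizer_iff]
      intro n hn
      have := hvN n hn
      calc n * v = (n * v * n⁻¹) * n := by group
        _ = v * n := by rw [this]
    have hW0p : IsPGroup 2 W0 := W.isPGroup'.to_le inf_le_left
    have h2W0 : 2 ∣ Nat.card W0 := by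
      rcases hW0p.card_eq_or_dvd with h | h
      · exfalso
        have := Subgroup.card_eq_one.mp h
        rw [this, Subgroup.mem_bot] at hvW0
        exact hv1 hvW0
      · exact h
    obtain ⟨i0, hi0⟩ := exists_prime_orderOf_dvd_card' 2 h2W0
    obtain ⟨i, hi⟩ : ∃ i : X, i = (i0 : X) := ⟨_, rfl⟩
    have hi2 : orderOf i = 2 := by rw [hi, Subgroup.orderOf_coe]; exact hi0
    have hiW0 : i ∈ W0 := by rw [hi]; exact i0.2
    have hiW : i ∈ (W : Subgroup X) := (Subgroup.mem_inf.mp hiW0).1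
    have hiC := Subgroup.mem_centralizer_iff.mp (Subgroup.mem_inf.mp hiW0).2
    have hii : i * i = 1 := by rw [← pow_two, ← hi2]; exact pow_orderOf_eq_one i
    have hi1 : i ≠ 1 := by
      intro h
      rw [h, orderOf_one] at hi2
      omega
    -- weak closure
    haveI : IsMulCommutative ↥(W : Subgroup X) := ⟨⟨fun a b => Subtype.ext (hW a a.2 b b.2)⟩⟩
    have hiso : ∀ g : X, g * i * g⁻¹ ∈ W → g * i * g⁻¹ = i := by
      intro g hg
      obtain ⟨n, hn, h⟩ := Sylow.conj_eq_normalizer_conj_of_mem W i g⁻¹ hiW (by simpa using hg)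
      have h1 : n⁻¹ * i = i * n⁻¹ := hiC n⁻¹ (N.inv_mem hn)
      have h2 : g * i * g⁻¹ = n⁻¹ * i * n := by simpa using h
      rw [h2, h1]; group
    obtain ⟨N0, hN0n, hN0odd, hN0⟩ :=
      Cfsg.Agent.Helper2.ZStar.glauberman_zstar_sylow W i hi2 hiW hiso
    -- `N0 ⊓ M = ⊥`
    have hdisj : N0 ⊓ M = ⊥ := by
      haveI : (N0 ⊓ M).Normal := Subgroup.normal_inf_normal N0 M
      haveI : ((N0 ⊓ M).subgroupOf M).Normal := Subgroup.Normal.subgroupOf inferInstance M
      rcases Subgroup.Normal.eq_bot_or_eq_top (H := (N0 ⊓ M).subgroupOf M) inferInstance with h | h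
      · rw [Subgroup.subgroupOf_eq_bot] at h
        rw [← inf_idem M, ← inf_assoc]
        exact h.eq_bot
      · exfalso
        rw [Subgroup.subgroupOf_eq_top] at h
        have h1 : M ≤ N0 := le_trans h inf_le_left
        have h3 := Subgroup.card_dvd_of_le h1
        have h4 := dvd_trans h2 h3
        rw [Nat.odd_iff] at hN0odd
        omega
    have hN0bot : N0 = ⊥ := by
      have hinj : Function.Injective (f.comp N0.subtype) := by
        rw [injective_iff_map_eq_one]
        intro a ha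
        have h1 : (a : X) ∈ M := (QuotientGroup.eq_one_iff (a : X)).mp ha
        have h3 : (a : X) ∈ N0 ⊓ M := Subgroup.mem_inf.mpr ⟨a.2, h1⟩
        rw [hdisj, Subgroup.mem_bot] at h3
        exact Subtype.ext h3
      have h1 := Subgroup.card_dvd_of_injective _ hinj
      have h3 : Nat.card (X ⧸ M) = 2 ^ (k + 1) := by rw [← hidx]; rfl
      rw [h3] at h1
      obtain ⟨j, -, hj⟩ := (Nat.dvd_prime_pow Nat.prime_two).mp h1
      rcases Nat.eq_zero_or_pos j with h0 | h0
      · rw [h0, pow_zero] at hj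
        exact Subgroup.card_eq_one.mp hj
      · exfalso
        rw [hj, Nat.odd_iff] at hN0odd
        have : 2 ∣ 2 ^ j := dvd_pow_self 2 (by omega)
        omega
    have hicent : ∀ g : X, i * g = g * i := by
      intro g
      have := hN0 g
      rw [hN0bot, Subgroup.mem_bot] at this
      calc i * g = (i * g * i⁻¹ * g⁻¹) * g * i := by group
        _ = g * i := by rw [this, one_mul]
    -- `i ∉ M`
    have hiM : i ∉ M := by
      intro hiM
      haveI : (Subgroup.center M).Normal := inferInstance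
      rcases Subgroup.Normal.eq_bot_or_eq_top (H := Subgroup.center M) inferInstance with h | h
      · have h1 : (⟨i, hiM⟩ : M) ∈ Subgroup.center M := by
          rw [Subgroup.mem_center_iff]
          intro g
          exact Subtype.ext (hicent g).symm
        rw [h, Subgroup.mem_bot] at h1
        exact hi1 (congrArg Subtype.val h1)
      · obtain ⟨a, ha, b, hb, hab'⟩ := hn
        apply hab'
        have h1 : (⟨a, ha⟩ : M) ∈ Subgroup.center M := by rw [h]; trivial
        rw [Subgroup.mem_center_iff] at h1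
        exact (congrArg Subtype.val (h1 ⟨b, hb⟩)).symm
    -- the quotient by `⟨i⟩`
    set Zi : Subgroup X := Subgroup.zpowers i with hZi
    haveI hZin : Zi.Normal := zpowers_normal_of_central i hicent
    have hZiM : ∀ z ∈ Zi, z ∈ M → z = 1 := by
      intro z hz hzM
      rcases mem_zpowers_of_sq hii hz with h | h
      · exact h
      · exfalso; rw [h] at hzM; exact hiM hzM
    set π : X →* X ⧸ Zi := QuotientGroup.mk' Zi with hπ
    have hπsurj : Function.Surjective π := QuotientGroup.mk'_surjective Zi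
    set Mb : Subgroup (X ⧸ Zi) := M.map π with hMb
    haveI hMbn : Mb.Normal := Subgroup.Normal.map hMn π hπsurj
    have hinjM : Function.Injective (π.comp M.subtype) := by
      rw [injective_iff_map_eq_one]
      intro a ha
      have h1 : (a : X) ∈ Zi := (QuotientGroup.eq_one_iff (a : X)).mp ha
      exact Subtype.ext (hZiM _ h1 a.2)
    have hrange : (π.comp M.subtype).range = Mb := by
      rw [MonoidHom.range_comp, Subgroup.range_subtype]
    let e : M ≃* Mb := (MonoidHom.ofInjective hinjM).trans (MulEquiv.subgroupCongr hrange)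
    have hMbs : IsSimpleGroup Mb := e.symm.isSimpleGroup
    have hMbcard : Nat.card Mb = Nat.card M := (Nat.card_congr e.toEquiv).symm
    have hMbidx : Mb.index = 2 ^ k := by
      have h1 : Nat.card X = Nat.card (X ⧸ Zi) * Nat.card Zi :=
        Subgroup.card_eq_card_quotient_mul_card_subgroup Zi
      have h3 : Nat.card Zi = 2 := by rw [hZi, Nat.card_zpowers, hi2]
      have h4 : Mb.index * Nat.card Mb = Nat.card (X ⧸ Zi) := Subgroup.index_mul_card Mb
      have h5 : M.index * Nat.card M = Nat.card X := Subgroup.index_mul_card M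
      rw [hMbcard] at h4
      rw [hidx, h1, ← h4, h3] at h5
      have hpos : 0 < Nat.card M := Nat.card_pos
      have h6 : 2 ^ k * 2 * Nat.card M = Mb.index * 2 * Nat.card M := by
        rw [pow_succ] at h5
        calc 2 ^ k * 2 * Nat.card M = Mb.index * Nat.card M * 2 := h5
          _ = Mb.index * 2 * Nat.card M := by ring
      have h7 := Nat.eq_of_mul_eq_mul_right hpos h6
      exact (Nat.eq_of_mul_eq_mul_right (by norm_num) h7).symm
    have hMbn' : ∃ a ∈ Mb, ∃ b ∈ Mb, a * b ≠ b * a := by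
      obtain ⟨a, ha, b, hb, hab'⟩ := hn
      refine ⟨π a, Subgroup.mem_map_of_mem π ha, π b, Subgroup.mem_map_of_mem π hb, ?_⟩
      intro h
      apply hab'
      have h1 : (π.comp M.subtype) (⟨a, ha⟩ * ⟨b, hb⟩) = (π.comp M.subtype) (⟨b, hb⟩ * ⟨a, ha⟩) := by
        simpa using h
      exact congrArg Subtype.val (hinjM h1)
    have hMb2 : 2 ∣ Nat.card Mb := by rw [hMbcard]; exact h2
    obtain ⟨mb, hmb, hcomm⟩ :=
      ih (X ⧸ Zi) Mb hMbs hMbn' hMb2 hMbidx (hab.of_surjective π hπsurj) (π x)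
    obtain ⟨m, hm, rfl⟩ := hmb
    refine ⟨m, hm, ?_⟩
    intro y hy
    have h1 := hcomm (π y) (Subgroup.mem_map_of_mem π hy)
    have h3 : π ((m⁻¹ * x) * y * (y * (m⁻¹ * x))⁻¹) = 1 := by
      simp only [map_mul, map_inv] at h1 ⊢
      rw [h1]; group
    have h4 : (m⁻¹ * x) * y * (y * (m⁻¹ * x))⁻¹ ∈ Zi := (QuotientGroup.eq_one_iff _).mp h3
    have h5 : (m⁻¹ * x) * y * (y * (m⁻¹ * x))⁻¹ ∈ M := by
      have e1 : (m⁻¹ * x) * y * (y * (m⁻¹ * x))⁻¹ = ((m⁻¹ * x) * y * (m⁻¹ * x)⁻¹) * y⁻¹ := by group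
      rw [e1]
      exact M.mul_mem (hMn.conj_mem y hy _) (M.inv_mem hy)
    have h6 := hZiM _ h4 h5
    calc (m⁻¹ * x) * y = ((m⁻¹ * x) * y * (y * (m⁻¹ * x))⁻¹) * (y * (m⁻¹ * x)) := by group
      _ = y * (m⁻¹ * x) := by rw [h6, one_mul]


/-- **Lemma A**: a `2`-element of a finite group with commutative `2`-subgroups acts on a normal
non-abelian simple subgroup of even order as an inner automorphism. -/
theorem lemmaA {X : Type u} [Group X] [Finite X] (M : Subgroup X) [hMn : M.Normal]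
    (hs : IsSimpleGroup M) (hn : ∃ a ∈ M, ∃ b ∈ M, a * b ≠ b * a) (h2 : 2 ∣ Nat.card M)
    (hab : TwoAb X) (r : X) (j : ℕ) (hr : r ^ 2 ^ j = 1) :
    ∃ m ∈ M, ∀ y ∈ M, (m⁻¹ * r) * y = y * (m⁻¹ * r) := by
  set X' : Subgroup X := M ⊔ Subgroup.zpowers r with hX'
  have hMX' : M ≤ X' := le_sup_left
  have hrX' : r ∈ X' := (le_sup_right : Subgroup.zpowers r ≤ X') (Subgroup.mem_zpowers r)
  set M' : Subgroup X' := M.subgroupOf X' with hM'
  haveI : M'.Normal := Subgroup.Normal.subgroupOf hMn X'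
  let e : M' ≃* M := Subgroup.subgroupOfEquivOfLe hMX'
  have hs' : IsSimpleGroup M' := e.isSimpleGroup
  have hcard : Nat.card M' = Nat.card M := Nat.card_congr e.toEquiv
  have hidx : ∃ k, M'.index = 2 ^ k := by
    have h1 : M'.index = M.relIndex (Subgroup.zpowers r) := by
      show M.relIndex X' = _
      rw [hX', Subgroup.relIndex_sup_left]
    have h3 : M.relIndex (Subgroup.zpowers r) ∣ Nat.card (Subgroup.zpowers r) :=
      Subgroup.relIndex_dvd_card _ _
    rw [Nat.card_zpowers] at h3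
    have h4 : orderOf r ∣ 2 ^ j := orderOf_dvd_of_pow_eq_one hr
    obtain ⟨k, -, hk⟩ := (Nat.dvd_prime_pow Nat.prime_two).mp (dvd_trans h3 h4)
    exact ⟨k, by rw [h1, hk]⟩
  obtain ⟨k, hk⟩ := hidx
  have hn' : ∃ a ∈ M', ∃ b ∈ M', a * b ≠ b * a := by
    obtain ⟨a, ha, b, hb, hab'⟩ := hn
    refine ⟨⟨a, hMX' ha⟩, Subgroup.mem_subgroupOf.mpr ha, ⟨b, hMX' hb⟩,
      Subgroup.mem_subgroupOf.mpr hb, ?_⟩
    intro h
    exact hab' (congrArg Subtype.val h)
  obtain ⟨m, hm, hcomm⟩ := lemmaA_aux k X' M' hs' hn' (by rw [hcard]; exact h2) hk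
    (hab.of_injective X'.subtype X'.subtype_injective) ⟨r, hrX'⟩
  refine ⟨(m : X), Subgroup.mem_subgroupOf.mp hm, ?_⟩
  intro y hy
  have := hcomm ⟨y, hMX' hy⟩ (Subgroup.mem_subgroupOf.mpr hy)
  exact congrArg Subtype.val this

end Cfsg.Agent.Helper4.JR
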