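import Mathlib
import Cfsg.Agent.S0276
import Cfsg.Agent.Helper4.JRA

set_option autoImplicit false
set_option linter.style.haveILetI false

namespace Cfsg.Agent.Helper4.JR

variable {F : Type*} [Field F] [Fintype F]

section
open Matrix

/-- If `2` is a square in a finite field of odd order then `PSL₂(F)` contains a non-commutative
`2`-subgroup (a dihedral group of order `8`). -/
theorem exists_noncomm_two (h2 : IsSquare (2 : F)) (hodd : Fintype.card F % 2 = 1) :
    ∃ x w : Matrix.ProjectiveSpecialLinearGroup (Fin 2) F,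
      x ^ 4 = 1 ∧ w ^ 2 = 1 ∧ w * x * w⁻¹ = x⁻¹ ∧ x * w ≠ w * x := by
  classical
  obtain ⟨s, hs⟩ := h2
  have h20 : (2 : F) ≠ 0 := by
    apply Ring.two_ne_zero
    intro h
    have := FiniteField.even_card_of_char_two h
    omega
  have hs0 : s ≠ 0 := by
    rintro rfl
    rw [mul_zero] at hs
    exact h20 hs
  obtain ⟨a, ha⟩ : ∃ a : F, a = s⁻¹ := ⟨_, rfl⟩
  have haa : 2 * (a * a) = 1 := by
    rw [ha, hs]
    field_simp
  obtain ⟨c, d, hcd⟩ : ∃ c d : F, c * c + d * d = -1 := by
    have hf : (Polynomial.X ^ 2 : Polynomial F).degree = 2 := by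
      rw [Polynomial.degree_X_pow]; rfl
    have hg : (Polynomial.X ^ 2 + Polynomial.C (1 : F)).degree = 2 := by
      rw [Polynomial.degree_X_pow_add_C (by norm_num)]; rfl
    obtain ⟨c, d, h⟩ := FiniteField.exists_root_sum_quadratic hf hg hodd
    refine ⟨c, d, ?_⟩
    simp only [Polynomial.eval_pow, Polynomial.eval_X, Polynomial.eval_add, Polynomial.eval_C] at h
    linear_combination h
  let X : Matrix.SpecialLinearGroup (Fin 2) F :=
    ⟨!![a, a; -a, a], by rw [Matrix.det_fin_two_of]; linear_combination haa⟩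
  let W : Matrix.SpecialLinearGroup (Fin 2) F :=
    ⟨!![c, d; d, -c], by rw [Matrix.det_fin_two_of]; linear_combination (-1 : F) * hcd⟩
  have hXX : ((X * X : Matrix.SpecialLinearGroup (Fin 2) F) : Matrix (Fin 2) (Fin 2) F) =
      !![0, 1; -1, 0] := by
    show (!![a, a; -a, a] : Matrix (Fin 2) (Fin 2) F) * !![a, a; -a, a] = _
    ext i j
    fin_cases i <;> fin_cases j <;> simp [Matrix.mul_apply, Fin.sum_univ_two] <;>
      first | done | ring1 | linear_combination haa | linear_combination (-1 : F) * haa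
  have hX4 : ((X ^ 4 : Matrix.SpecialLinearGroup (Fin 2) F) : Matrix (Fin 2) (Fin 2) F) =
      Matrix.scalar (Fin 2) (-1 : F) := by
    rw [Cfsg.Agent.S0276.coe_pow_four]
    have : (X : Matrix (Fin 2) (Fin 2) F) * (X : Matrix (Fin 2) (Fin 2) F) = !![0, 1; -1, 0] := hXX
    rw [this]
    ext i j
    fin_cases i <;> fin_cases j <;> simp [Matrix.mul_apply, Fin.sum_univ_two]
  have hWW : ((W ^ 2 : Matrix.SpecialLinearGroup (Fin 2) F) : Matrix (Fin 2) (Fin 2) F) =
      Matrix.scalar (Fin 2) (-1 : F) := by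
    rw [Cfsg.Agent.S0276.coe_pow_two]
    show (!![c, d; d, -c] : Matrix (Fin 2) (Fin 2) F) * !![c, d; d, -c] = _
    ext i j
    fin_cases i <;> fin_cases j <;> simp [Matrix.mul_apply, Fin.sum_univ_two] <;>
      first | done | ring1 | linear_combination hcd
  have hWX : W * X = X⁻¹ * W := by
    apply Subtype.ext
    show (!![c, d; d, -c] : Matrix (Fin 2) (Fin 2) F) * !![a, a; -a, a] =
      ((X⁻¹ : Matrix.SpecialLinearGroup (Fin 2) F) : Matrix (Fin 2) (Fin 2) F) * !![c, d; d, -c]
    rw [Matrix.SpecialLinearGroup.coe_inv]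
    show _ = Matrix.adjugate (!![a, a; -a, a] : Matrix (Fin 2) (Fin 2) F) * _
    rw [Matrix.adjugate_fin_two_of]
    ext i j
    fin_cases i <;> fin_cases j <;> simp [Matrix.mul_apply, Fin.sum_univ_two] <;> ring1
  have hneg1 : (-1 : F) ^ Fintype.card (Fin 2) = 1 := by simp
  refine ⟨(X : Matrix.ProjectiveSpecialLinearGroup (Fin 2) F),
    (W : Matrix.ProjectiveSpecialLinearGroup (Fin 2) F), ?_, ?_, ?_, ?_⟩
  · rw [← QuotientGroup.mk_pow, QuotientGroup.eq_one_iff, Matrix.SpecialLinearGroup.mem_center_iff]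
    exact ⟨-1, hneg1, hX4.symm⟩
  · rw [← QuotientGroup.mk_pow, QuotientGroup.eq_one_iff, Matrix.SpecialLinearGroup.mem_center_iff]
    exact ⟨-1, hneg1, hWW.symm⟩
  · rw [← QuotientGroup.mk_mul, ← QuotientGroup.mk_inv, ← QuotientGroup.mk_mul,
      ← QuotientGroup.mk_inv, hWX]
    congr 1
    group
  · intro h
    have h1 : (W : Matrix.ProjectiveSpecialLinearGroup (Fin 2) F) * X * (W : Matrix.ProjectiveSpecialLinearGroup (Fin 2) F)⁻¹ = X := by
      rw [← h]; group
    have h3 : (W : Matrix.ProjectiveSpecialLinearGroup (Fin 2) F) * X * (W : Matrix.ProjectiveSpecialLinearGroup (Fin 2) F)⁻¹ = (X : Matrix.ProjectiveSpecialLinearGroup (Fin 2) F)⁻¹ := by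
      rw [← QuotientGroup.mk_mul, ← QuotientGroup.mk_inv, ← QuotientGroup.mk_mul,
        ← QuotientGroup.mk_inv, hWX]
      congr 1
      group
    rw [h1] at h3
    have h4 : ((X * X : Matrix.SpecialLinearGroup (Fin 2) F) :
        Matrix.ProjectiveSpecialLinearGroup (Fin 2) F) = 1 := by
      rw [QuotientGroup.mk_mul]
      nth_rewrite 1 [h3]
      group
    rw [QuotientGroup.eq_one_iff, Matrix.SpecialLinearGroup.mem_center_iff] at h4
    obtain ⟨r, -, hr⟩ := h4
    rw [hXX] at hr
    have := congrFun (congrFun hr 0) 1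
    simp at this


end

theorem isPGroup_zpowers {C : Type*} [Group C] {p : ℕ} {y : C} {k : ℕ} (hy : y ^ p ^ k = 1) :
    IsPGroup p (Subgroup.zpowers y) := by
  rintro ⟨z, hz⟩
  obtain ⟨n, rfl⟩ := Subgroup.mem_zpowers_iff.mp hz
  refine ⟨k, ?_⟩
  apply Subtype.ext
  show (y ^ n) ^ p ^ k = 1
  rw [← zpow_natCast, ← zpow_mul, mul_comm, zpow_mul, zpow_natCast, hy, one_zpow]

/-- **F1**: if the `2`-subgroups of `PSL₂(F)` (`|F|` odd) are commutative, its Sylow
`2`-subgroups are Klein four-groups. -/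
theorem psl2_sylow_kleinFour (hFo : Odd (Fintype.card F))
    (hab : TwoAb (Matrix.ProjectiveSpecialLinearGroup (Fin 2) F))
    (P : Sylow 2 (Matrix.ProjectiveSpecialLinearGroup (Fin 2) F)) :
    IsKleinFour (P : Subgroup (Matrix.ProjectiveSpecialLinearGroup (Fin 2) F)) := by
  haveI : Fact (Nat.Prime 2) := ⟨Nat.prime_two⟩
  have hodd : Fintype.card F % 2 = 1 := Nat.odd_iff.mp hFo
  by_cases hq : Fintype.card F % 8 = 3 ∨ Fintype.card F % 8 = 5
  · exact Cfsg.Agent.S0276.result rfl hq P
  · exfalso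
    have h2 : IsSquare (2 : F) := by
      rw [FiniteField.isSquare_two_iff]
      constructor
      · intro h; exact hq (Or.inl h)
      · intro h; exact hq (Or.inr h)
    obtain ⟨x, w, hx4, hw2, hconj, hne⟩ := exists_noncomm_two h2 hodd
    have hxp : IsPGroup 2 (Subgroup.zpowers x) := isPGroup_zpowers (k := 2) (by simpa using hx4)
    have hwp : IsPGroup 2 (Subgroup.zpowers w) := isPGroup_zpowers (k := 1) (by simpa using hw2)
    have hnorm : Subgroup.zpowers w ≤ Subgroup.normalizer ((Subgroup.zpowers x : Subgroup _) : Set _) := by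
      rw [Subgroup.zpowers_le]
      apply Subgroup.mem_normalizer_fintype
      intro n hn
      obtain ⟨i, rfl⟩ := Subgroup.mem_zpowers_iff.mp hn
      have : w * x ^ i * w⁻¹ = (x⁻¹) ^ i := by
        rw [← hconj]
        exact (conj_zpow (a := w) (b := x) (i := i)).symm
      rw [SetLike.mem_coe, this]
      rw [inv_zpow, ← zpow_neg]
      exact Subgroup.zpow_mem_zpowers x (-i)
    have hD : IsPGroup 2 ↥(Subgroup.zpowers w ⊔ Subgroup.zpowers x) :=
      IsPGroup.to_sup_of_normal_right' hwp hxp hnorm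
    apply hne
    exact hab _ hD x ((le_sup_right : Subgroup.zpowers x ≤ _) (Subgroup.mem_zpowers x)) w
      ((le_sup_left : Subgroup.zpowers w ≤ _) (Subgroup.mem_zpowers w))

/-- transport of **F1** to a group isomorphic to `PSL₂(F)` -/
theorem psl2_two_subgroups {K : Type*} [Group K]
    (e : K ≃* Matrix.ProjectiveSpecialLinearGroup (Fin 2) F) (hFo : Odd (Fintype.card F))
    (hab : TwoAb K) :
    (∀ Q : Subgroup K, IsPGroup 2 Q → Nat.card Q ∣ 4 ∧ ∀ a ∈ Q, a * a = 1) ∧
      ∃ Q₀ : Subgroup K, IsPGroup 2 Q₀ ∧ Nat.card Q₀ = 4 := by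
  haveI : Fact (Nat.Prime 2) := ⟨Nat.prime_two⟩
  have hab' : TwoAb (Matrix.ProjectiveSpecialLinearGroup (Fin 2) F) :=
    hab.of_injective e.symm.toMonoidHom e.symm.injective
  constructor
  · intro Q hQ
    obtain ⟨P, hP⟩ := (hQ.map e.toMonoidHom).exists_le_sylow
    haveI := psl2_sylow_kleinFour hFo hab' P
    constructor
    · have h1 : Nat.card (Q.map e.toMonoidHom) = Nat.card Q :=
        Subgroup.card_map_of_injective e.injective
      have h4 : Nat.card (P : Subgroup (Matrix.ProjectiveSpecialLinearGroup (Fin 2) F)) = 4 :=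
        IsKleinFour.card_four
      rw [← h1, ← h4]
      exact Subgroup.card_dvd_of_le hP
    · intro a ha
      have h1 : e a ∈ (P : Subgroup _) := hP (Subgroup.mem_map_of_mem e.toMonoidHom ha)
      have h5 : Monoid.exponent (P : Subgroup (Matrix.ProjectiveSpecialLinearGroup (Fin 2) F)) = 2 :=
        IsKleinFour.exponent_two
      have h2 : (⟨e a, h1⟩ : (P : Subgroup (Matrix.ProjectiveSpecialLinearGroup (Fin 2) F))) ^ 2
          = 1 := by
        have := Monoid.pow_exponent_eq_one
          (⟨e a, h1⟩ : (P : Subgroup (Matrix.ProjectiveSpecialLinearGroup (Fin 2) F)))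
        rwa [h5] at this
      have h3 : e a * e a = 1 := by
        have := congrArg Subtype.val h2
        simpa [pow_two] using this
      apply e.injective
      rw [map_mul, h3, map_one]
  · obtain ⟨P⟩ : Nonempty (Sylow 2 (Matrix.ProjectiveSpecialLinearGroup (Fin 2) F)) := inferInstance
    haveI := psl2_sylow_kleinFour hFo hab' P
    refine ⟨(P : Subgroup (Matrix.ProjectiveSpecialLinearGroup (Fin 2) F)).map e.symm.toMonoidHom,
      P.isPGroup'.map _, ?_⟩
    rw [Subgroup.card_map_of_injective e.symm.injective]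
    exact IsKleinFour.card_four

end Cfsg.Agent.Helper4.JR
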