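import Mathlib
import Cfsg.Agent.Helper4.JRA

set_option autoImplicit false
set_option linter.style.haveILetI false

namespace Cfsg.Agent.Helper4.JR

universe u

/-- An element of a commutative Sylow `2`-subgroup of a perfect group that is centralized by the
normalizer of the Sylow subgroup is trivial (transfer). -/
theorem sylow_fixed_trivial {G : Type u} [Group G] [Finite G] (hperf : commutator G = ⊤)
    (S : Sylow 2 G) (hS : ∀ a ∈ S, ∀ b ∈ S, a * b = b * a) (s : G) (hs : s ∈ S)
    (hfix : ∀ n ∈ Subgroup.normalizer ((S : Subgroup G) : Set G), n * s * n⁻¹ = s) : s = 1 := by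
  haveI : Fact (Nat.Prime 2) := ⟨Nat.prime_two⟩
  haveI : IsMulCommutative ↥(S : Subgroup G) := ⟨⟨fun a b => Subtype.ext (hS a a.2 b b.2)⟩⟩
  letI : CommGroup ↥(S : Subgroup G) :=
    { (inferInstance : Group ↥(S : Subgroup G)) with
      mul_comm := fun a b => Subtype.ext (hS a a.2 b b.2) }
  have key : ∀ (k : ℕ) (g₀ : G), g₀⁻¹ * s ^ k * g₀ ∈ (S : Subgroup G) →
      g₀⁻¹ * s ^ k * g₀ = s ^ k := by
    intro k g₀ h
    obtain ⟨n, hn, hh⟩ := Sylow.conj_eq_normalizer_conj_of_mem S (s ^ k) g₀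
      (pow_mem hs k) h
    rw [hh]
    have h1 := hfix n⁻¹ (inv_mem hn)
    rw [inv_inv] at h1
    have h2 : n⁻¹ * s ^ k * n = (n⁻¹ * s * n) ^ k := by
      have := conj_pow (a := n⁻¹) (b := s) (i := k)
      rw [inv_inv] at this
      exact this.symm
    rw [h2, h1]
  have htr := MonoidHom.transfer_eq_pow (MonoidHom.id ↥(S : Subgroup G)) s key
  have h1 : MonoidHom.transfer (MonoidHom.id ↥(S : Subgroup G)) s = 1 := by
    have h2 : s ∈ commutator G := by rw [hperf]; trivial
    exact MonoidHom.mem_ker.mp (Abelianization.commutator_subset_ker _ h2)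
  rw [h1] at htr
  have h3 : s ^ (S : Subgroup G).index = 1 := by
    have := congrArg Subtype.val htr
    simpa using this.symm
  by_contra hne
  obtain ⟨j, hj⟩ := (IsPGroup.iff_orderOf.mp S.isPGroup') ⟨s, hs⟩
  have h4 : s ^ 2 ^ j = 1 := by
    have h5 : orderOf s = 2 ^ j := by
      rw [← hj]; exact (Subgroup.orderOf_mk s hs).symm
    rw [← h5]; exact pow_orderOf_eq_one s
  have hodd : Odd (S : Subgroup G).index := by
    rw [Nat.odd_iff, ← Nat.two_dvd_ne_zero]
    exact S.not_dvd_index
  exact pow_odd_ne_one hne h4 hodd h3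

end Cfsg.Agent.Helper4.JR
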