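import Mathlib
import Cfsg.Agent.Helper4.JRA

/-!
S3206, piece E: an automorphism of `2`-power order of a non-abelian simple group with commutative
`2`-subgroups which fixes a Sylow `2`-subgroup pointwise is inner (Lemma A in `G ⋊ ⟨φ⟩`).
-/

set_option autoImplicit false

namespace Cfsg.Agent.Helper4.JR

universe u

open SemidirectProduct

section

variable {G : Type u} [Group G]

/-- elements of `⟨φ⟩` fix what `φ` fixes -/
theorem h6_fix_of_mem_zpowers {φ ψ : MulAut G} (hψ : ψ ∈ Subgroup.zpowers φ) {s : G}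
    (hs : φ s = s) : ψ s = s := by
  have h1 : φ ∈ MulAction.stabilizer (MulAut G) s := by
    rw [MulAction.mem_stabilizer_iff, MulAut.smul_def, hs]
  have h2 := (Subgroup.zpowers_le.2 h1) hψ
  rwa [MulAction.mem_stabilizer_iff, MulAut.smul_def] at h2

variable (Φ : Subgroup (MulAut G)) (S : Subgroup G)

/-- the subgroup `S × Φ` of `G ⋊ Φ`, when `Φ` fixes `S` pointwise -/
def h6_W (hfix : ∀ ψ ∈ Φ, ∀ s ∈ S, ψ s = s) : Subgroup (G ⋊[Φ.subtype] Φ) where
  carrier := {x | x.left ∈ S}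
  one_mem' := S.one_mem
  mul_mem' := by
    intro a b ha hb
    show (a * b).left ∈ S
    rw [mul_left]
    have : (Φ.subtype a.right) b.left = b.left := hfix _ a.right.2 _ hb
    rw [this]
    exact S.mul_mem ha hb
  inv_mem' := by
    intro a ha
    show (a⁻¹).left ∈ S
    rw [inv_left]
    have : (Φ.subtype a.right⁻¹) a.left⁻¹ = a.left⁻¹ :=
      hfix _ (a.right⁻¹).2 _ (S.inv_mem ha)
    rw [this]
    exact S.inv_mem ha

theorem h6_mem_W {hfix : ∀ ψ ∈ Φ, ∀ s ∈ S, ψ s = s} {x : G ⋊[Φ.subtype] Φ} :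
    x ∈ h6_W Φ S hfix ↔ x.left ∈ S := Iff.rfl

/-- powers in `S × Φ` are computed componentwise -/
theorem h6_pow_W (hfix : ∀ ψ ∈ Φ, ∀ s ∈ S, ψ s = s) (x : G ⋊[Φ.subtype] Φ) (hx : x.left ∈ S)
    (n : ℕ) : (x ^ n).left = x.left ^ n ∧ (x ^ n).right = x.right ^ n := by
  induction n with
  | zero => rw [pow_zero, pow_zero, pow_zero]; exact ⟨rfl, rfl⟩
  | succ n ih =>
    rw [pow_succ', pow_succ', pow_succ', mul_left, mul_right, ih.1, ih.2]
    refine ⟨?_, rfl⟩
    have : (Φ.subtype x.right) (x.left ^ n) = x.left ^ n :=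
      hfix _ x.right.2 _ (S.pow_mem hx n)
    rw [this]

end

theorem aut_inner {G : Type u} [Group G] [Finite G] [IsSimpleGroup G]
    (hG : ∃ a b : G, a * b ≠ b * a) (h2 : 2 ∣ Nat.card G) (hab : TwoAb G)
    (φ : G ≃* G) (k : ℕ) (hφ : φ ^ (2 ^ k) = 1) (S : Sylow 2 G)
    (hS : ∀ s ∈ (S : Subgroup G), φ s = s) :
    ∃ g : G, ∀ x : G, φ x = g * x * g⁻¹ := by
  have : Fact (Nat.Prime 2) := ⟨Nat.prime_two⟩
  obtain ⟨φ', hφ'⟩ : ∃ φ' : MulAut G, φ' = φ := ⟨φ, rfl⟩
  set Φ : Subgroup (MulAut G) := Subgroup.zpowers φ' with hΦ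
  have hfix : ∀ ψ ∈ Φ, ∀ s ∈ (S : Subgroup G), ψ s = s := by
    intro ψ hψ s hs
    exact h6_fix_of_mem_zpowers hψ (by rw [hφ']; exact hS s hs)
  have hΦpow : ∀ ψ : Φ, ψ ^ 2 ^ k = 1 := by
    intro ψ
    obtain ⟨n, hn⟩ := Subgroup.mem_zpowers_iff.1 ψ.2
    apply Subtype.ext
    rw [Subgroup.coe_pow, Subgroup.coe_one, ← hn, ← zpow_natCast, ← zpow_mul, mul_comm, zpow_mul,
      zpow_natCast, hφ', hφ, one_zpow]
  have : Finite (G ⋊[Φ.subtype] Φ) := Finite.of_equiv _ SemidirectProduct.equivProd.symm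
  -- the normal subgroup `M ≅ G`
  set M : Subgroup (G ⋊[Φ.subtype] Φ) := (inl : G →* G ⋊[Φ.subtype] Φ).range with hM
  have hMn : M.Normal := by
    rw [hM, range_inl_eq_ker_rightHom]
    infer_instance
  let e : M ≃* G := (MonoidHom.ofInjective (inl_injective (φ := Φ.subtype))).symm
  have hs : IsSimpleGroup M := e.isSimpleGroup
  have hn : ∃ a ∈ M, ∃ b ∈ M, a * b ≠ b * a := by
    obtain ⟨a, b, hab'⟩ := hG
    refine ⟨inl a, ⟨a, rfl⟩, inl b, ⟨b, rfl⟩, ?_⟩
    rw [← map_mul, ← map_mul]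
    exact fun h => hab' (inl_injective h)
  have h2M : 2 ∣ Nat.card M := by
    rw [Nat.card_congr e.toEquiv]
    exact h2
  -- the Sylow 2-subgroup `S × Φ`
  have hW2 : IsPGroup 2 (h6_W Φ (S : Subgroup G) hfix) := by
    intro ⟨x, hx⟩
    obtain ⟨j, hj⟩ := (IsPGroup.iff_orderOf.1 S.isPGroup') ⟨x.left, hx⟩
    refine ⟨j + k, Subtype.ext ?_⟩
    show x ^ 2 ^ (j + k) = 1
    obtain ⟨h1, h2'⟩ := h6_pow_W Φ (S : Subgroup G) hfix x hx (2 ^ (j + k))
    have hl : x.left ^ 2 ^ (j + k) = 1 := by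
      have : x.left ^ 2 ^ j = 1 := by
        have h3 := pow_orderOf_eq_one (⟨x.left, hx⟩ : (S : Subgroup G))
        rw [hj] at h3
        exact congrArg Subtype.val h3
      rw [pow_add, pow_mul, this, one_pow]
    have hr : x.right ^ 2 ^ (j + k) = 1 := by
      rw [add_comm, pow_add, pow_mul, hΦpow, one_pow]
    ext
    · rw [h1, hl]; rfl
    · rw [h2', hr]; rfl
  obtain ⟨W, hW⟩ := hW2.exists_le_sylow
  have hWS : ∀ x ∈ W, x.left ∈ (S : Subgroup G) := by
    intro x hx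
    -- `inr x.right ∈ W`
    have h1 : (inr x.right : G ⋊[Φ.subtype] Φ) ∈ W := hW (by
      rw [h6_mem_W, left_inr]; exact Subgroup.one_mem _)
    have h3 : (inl x.left : G ⋊[Φ.subtype] Φ) ∈ W := by
      have : (inl x.left : G ⋊[Φ.subtype] Φ) = x * (inr x.right)⁻¹ := by
        rw [eq_mul_inv_iff_mul_eq, inl_left_mul_inr_right]
      rw [this]
      exact W.mul_mem hx (W.inv_mem h1)
    -- the 2-subgroup `inl⁻¹ W ⊇ S`
    have hQ : IsPGroup 2 ((W : Subgroup (G ⋊[Φ.subtype] Φ)).comap (inl : G →* G ⋊[Φ.subtype] Φ)) :=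
      W.isPGroup'.comap_of_injective _ inl_injective
    have hle : (S : Subgroup G) ≤
        (W : Subgroup (G ⋊[Φ.subtype] Φ)).comap (inl : G →* G ⋊[Φ.subtype] Φ) := by
      intro s hs
      rw [Subgroup.mem_comap]
      exact hW (by rw [h6_mem_W, left_inl]; exact hs)
    have := S.is_maximal' hQ hle
    rw [← this, Subgroup.mem_comap]
    exact h3
  have hTwo : TwoAb (G ⋊[Φ.subtype] Φ) := by
    apply twoAb_of_sylow W
    intro a ha b hb
    have ha' := hWS a ha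
    have hb' := hWS b hb
    refine SemidirectProduct.ext ?_ ?_
    · rw [mul_left, mul_left]
      have e1 : (Φ.subtype a.right) b.left = b.left := hfix _ a.right.2 _ hb'
      have e2 : (Φ.subtype b.right) a.left = a.left := hfix _ b.right.2 _ ha'
      rw [e1, e2]
      exact hab (S : Subgroup G) S.isPGroup' _ ha' _ hb'
    · rw [mul_right, mul_right]
      have hc : IsMulCommutative Φ := by rw [hΦ]; infer_instance
      exact hc.is_comm.comm a.right b.right
  -- the element `r`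
  set r : G ⋊[Φ.subtype] Φ := inr ⟨φ', Subgroup.mem_zpowers φ'⟩ with hr
  have hrpow : r ^ 2 ^ k = 1 := by
    rw [hr, ← map_pow, hΦpow, map_one]
  obtain ⟨m, ⟨g, rfl⟩, hcomm⟩ := lemmaA M hs hn h2M hTwo r k hrpow
  refine ⟨g, fun x => ?_⟩
  have h := hcomm (inl x) ⟨x, rfl⟩
  have hl := congrArg SemidirectProduct.left h
  simp only [mul_left, inv_left, left_inl, right_inl, left_inr, right_inr, mul_right, inv_right,
    inv_one, map_one, MulAut.one_apply, mul_one, one_mul, hr, Subgroup.coe_subtype] at hl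
  -- hl : g⁻¹ * φ' x = x * g⁻¹
  rw [← hφ']
  calc φ' x = g * (g⁻¹ * φ' x) := by group
    _ = g * (x * g⁻¹) := by rw [hl]
    _ = g * x * g⁻¹ := by group

end Cfsg.Agent.Helper4.JR
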