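import Mathlib
import Cfsg.Prelude.Def_TwoFusion
import Cfsg.Agent.Helper4.JRA
import Cfsg.Agent.Helper4.JRB
import Cfsg.Agent.Helper4.L2pPSL
import Cfsg.Agent.Helper4.Hig3C

set_option autoImplicit false
set_option linter.style.haveILetI false

namespace Cfsg.Agent.Helper4.JR

universe u

theorem exists_ne_sq {F : Type*} [Field F] [Fintype F] (hF3 : 3 < Fintype.card F) :
    ∃ x : F, x ≠ 0 ∧ x ^ 2 ≠ 1 := by
  classical
  by_contra h
  push Not at h
  have hsub : (Finset.univ : Finset F) ⊆ {0, 1, -1} := by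
    intro x _
    by_cases hx : x = 0
    · simp [hx]
    · have h1 := h x hx
      have h2 : (x - 1) * (x + 1) = 0 := by linear_combination h1
      rcases mul_eq_zero.mp h2 with h3 | h3
      · have : x = 1 := by linear_combination h3
        simp [this]
      · have : x = -1 := by linear_combination h3
        simp [this]
  have := Finset.card_le_card hsub
  have h3 : ({0, 1, -1} : Finset F).card ≤ 3 := Finset.card_le_three
  rw [Finset.card_univ] at this
  omega

/-- A simple group containing a subgroup of order `4` is not commutative. -/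
theorem not_comm_of_simple_of_four {K : Type*} [Group K] [Finite K] (hs : IsSimpleGroup K)
    (Q : Subgroup K) (hQ : Nat.card Q = 4) : ∃ a b : K, a * b ≠ b * a := by
  by_contra h
  push Not at h
  letI : CommGroup K := { (inferInstance : Group K) with mul_comm := h }
  have hp : (Nat.card K).Prime := IsSimpleGroup.prime_card
  have hd : 4 ∣ Nat.card K := by rw [← hQ]; exact Subgroup.card_subgroup_dvd_card Q
  have h2 : 2 ∣ Nat.card K := dvd_trans (by norm_num) hd
  have h3 := (Nat.prime_dvd_prime_iff_eq Nat.prime_two hp).mp h2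
  rw [← h3] at hd
  omega


/-- Sylow `2`-subgroups of `G` are elementary abelian of order `8`. -/
theorem sylow_structure {G : Type u} [Group G] [Finite G]
    (hab : TwoAb G)
    (t : G) (ht : orderOf t = 2)
    (E : Subgroup G)
    (hE : Cfsg.IsInternalDirectProduct (Subgroup.zpowers t) E (Subgroup.centralizer ({t} : Set G)))
    {F : Type*} [Field F] [Fintype F] (hFo : Odd (Fintype.card F)) (hF3 : 3 < Fintype.card F)
    (N : Subgroup ↥E) [hNn : N.Normal]
    (hN : Nonempty (↥N ≃* Matrix.ProjectiveSpecialLinearGroup (Fin 2) F))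
    (hNc : Subgroup.centralizer (N : Set ↥E) = ⊥) :
    ∀ S : Sylow 2 G, Nat.card (S : Subgroup G) = 8 ∧ ∀ s ∈ (S : Subgroup G), s * s = 1 := by
  classical
  haveI : Fact (Nat.Prime 2) := ⟨Nat.prime_two⟩
  obtain ⟨hzC, hEC, hcomm, hinf, hsup⟩ := hE
  obtain ⟨e⟩ := hN
  have htt : t * t = 1 := by rw [← pow_two, ← ht]; exact pow_orderOf_eq_one t
  have ht1 : t ≠ 1 := by
    intro h
    rw [h, orderOf_one] at ht
    omega
  have htE : t ∉ E := by
    intro h
    have : t ∈ Subgroup.zpowers t ⊓ E := Subgroup.mem_inf.mpr ⟨Subgroup.mem_zpowers t, h⟩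
    rw [hinf, Subgroup.mem_bot] at this
    exact ht1 this
  have htcomm : ∀ x ∈ E, t * x = x * t := fun x hx => hcomm t (Subgroup.mem_zpowers t) x hx
  -- the embedding of `N` into `G`
  set ι : ↥N →* G := E.subtype.comp N.subtype with hι
  have hιinj : Function.Injective ι := by
    intro a b h
    exact Subtype.ext (Subtype.ext h)
  have habE : TwoAb ↥E := hab.of_injective E.subtype E.subtype_injective
  have habN : TwoAb ↥N := hab.of_injective ι hιinj
  obtain ⟨hQall, Q₀, hQ₀p, hQ₀c⟩ := psl2_two_subgroups e hFo habN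
  haveI : IsSimpleGroup (Matrix.ProjectiveSpecialLinearGroup (Fin 2) F) :=
    Cfsg.Agent.Helper4.L2p.isSimpleGroup_PSL2 (exists_ne_sq hF3)
  have hNs : IsSimpleGroup ↥N := e.isSimpleGroup
  have hNnc : ∃ a ∈ N, ∃ b ∈ N, a * b ≠ b * a := by
    obtain ⟨a, b, hab'⟩ := not_comm_of_simple_of_four hNs Q₀ hQ₀c
    refine ⟨a, a.2, b, b.2, ?_⟩
    intro h
    exact hab' (Subtype.ext h)
  have hN2 : 2 ∣ Nat.card N := by
    have hd : 4 ∣ Nat.card N := by rw [← hQ₀c]; exact Subgroup.card_subgroup_dvd_card Q₀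
    exact dvd_trans (by norm_num) hd
  -- a Sylow subgroup containing `t` and the image of `Q₀`
  set R₁ : Subgroup G := Q₀.map ι with hR₁
  have hR₁E : R₁ ≤ E := by
    rintro _ ⟨n, -, rfl⟩
    exact (n : ↥E).2
  have hD : IsPGroup 2 ↥(Subgroup.zpowers t ⊔ R₁) := by
    apply IsPGroup.to_sup_of_normal_right' (isPGroup_zpowers (k := 1) (by simpa [pow_two] using htt))
      (hQ₀p.map ι)
    rw [Subgroup.zpowers_le]
    apply Subgroup.mem_normalizer_fintype
    intro n hn
    have h1 : t * n = n * t := htcomm n (hR₁E hn)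
    have h2 : t * n * t⁻¹ = n := by rw [h1]; group
    rw [h2]; exact hn
  obtain ⟨S₁, hDS⟩ := hD.exists_le_sylow
  set T : Subgroup G := (S₁ : Subgroup G) with hT
  have hTcomm := hab T S₁.isPGroup'
  have htT : t ∈ T := hDS ((le_sup_left : Subgroup.zpowers t ≤ _) (Subgroup.mem_zpowers t))
  have hR₁T : R₁ ≤ T := le_trans le_sup_right hDS
  -- decomposition of the centralizer
  have hdec : ∀ x ∈ Subgroup.centralizer ({t} : Set G), x ∈ E ∨ x * t ∈ E := by
    intro x hx
    rw [← hsup] at hx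
    have hle : Subgroup.zpowers t ⊔ E ≤ Cfsg.Agent.Helper4.Hig.ext2 E t htt (by
        intro y hy
        have h1 : t * y = y * t := htcomm y hy
        have h2 : t * y * t⁻¹ = y := by rw [h1]; group
        rw [h2]; exact hy) := by
      apply sup_le
      · rw [Subgroup.zpowers_le]
        exact Or.inr (by rw [htt]; exact E.one_mem)
      · intro y hy; exact Or.inl hy
    exact hle hx
  have hTC : T ≤ Subgroup.centralizer ({t} : Set G) := by
    intro x hx
    rw [Subgroup.mem_centralizer_iff]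
    intro y hy
    rw [Set.mem_singleton_iff] at hy
    subst hy
    exact hTcomm y htT x hx
  set R : Subgroup G := T ⊓ E with hR
  have hRp : IsPGroup 2 ↥R := S₁.isPGroup'.to_le inf_le_left
  have hdecT : ∀ x ∈ T, x ∈ R ∨ x * t ∈ R := by
    intro x hx
    rcases hdec x (hTC hx) with h | h
    · exact Or.inl (Subgroup.mem_inf.mpr ⟨hx, h⟩)
    · exact Or.inr (Subgroup.mem_inf.mpr ⟨T.mul_mem hx htT, h⟩)
  -- `R ≤ N`
  have hRN : ∀ r ∈ R, ∃ n : ↥N, ι n = r := by
    intro r hr
    have hrE : r ∈ E := (Subgroup.mem_inf.mp hr).2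
    obtain ⟨j, hj⟩ := hRp ⟨r, hr⟩
    have hj' : (⟨r, hrE⟩ : ↥E) ^ 2 ^ j = 1 := by
      apply Subtype.ext
      have := congrArg Subtype.val hj
      simpa using this
    obtain ⟨m, hm, hcen⟩ := lemmaA N hNs hNnc hN2 habE ⟨r, hrE⟩ j hj'
    have h1 : m⁻¹ * (⟨r, hrE⟩ : ↥E) ∈ Subgroup.centralizer (N : Set ↥E) := by
      rw [Subgroup.mem_centralizer_iff]
      intro y hy
      exact (hcen y hy).symm
    rw [hNc, Subgroup.mem_bot] at h1
    have h2 : (⟨r, hrE⟩ : ↥E) = m := by
      calc (⟨r, hrE⟩ : ↥E) = m * (m⁻¹ * ⟨r, hrE⟩) := by group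
        _ = m := by rw [h1, mul_one]
    refine ⟨⟨m, hm⟩, ?_⟩
    show ((m : ↥E) : G) = r
    rw [← h2]
  -- the `2`-subgroup of `N` corresponding to `R`
  set Q : Subgroup ↥N := R.comap ι with hQ
  have hQp : IsPGroup 2 ↥Q := hRp.comap_of_injective ι hιinj
  obtain ⟨hQd, hQe⟩ := hQall Q hQp
  have hQ₀Q : Q₀ ≤ Q := by
    intro n hn
    rw [hQ, Subgroup.mem_comap]
    exact Subgroup.mem_inf.mpr ⟨hR₁T (Subgroup.mem_map_of_mem ι hn), (n : ↥E).2⟩
  have hQc : Nat.card Q = 4 := by
    apply Nat.dvd_antisymm hQd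
    rw [← hQ₀c]
    exact Subgroup.card_dvd_of_le hQ₀Q
  have hRc : Nat.card R = 4 := by
    have h1 : Q.map ι = R := by
      apply le_antisymm
      · rintro _ ⟨n, hn, rfl⟩
        exact hn
      · intro r hr
        obtain ⟨n, rfl⟩ := hRN r hr
        exact Subgroup.mem_map_of_mem ι (by rw [hQ, Subgroup.mem_comap]; exact hr)
    rw [← h1, Subgroup.card_map_of_injective hιinj, hQc]
  have hRe : ∀ r ∈ R, r * r = 1 := by
    intro r hr
    obtain ⟨n, rfl⟩ := hRN r hr
    have h1 : n ∈ Q := by rw [hQ, Subgroup.mem_comap]; exact hr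
    rw [← map_mul, hQe n h1, map_one]
  -- `|T| = 8`
  have hTc : Nat.card T = 8 := by
    have hidx : (R.subgroupOf T).index = 2 := by
      rw [Subgroup.index_eq_two_iff]
      refine ⟨⟨t, htT⟩, ?_⟩
      intro b
      have hb := hdecT b b.2
      have hnot : ¬ ((b : G) ∈ R ∧ (b : G) * t ∈ R) := by
        rintro ⟨h1, h2⟩
        apply htE
        have : t = (b : G)⁻¹ * ((b : G) * t) := by group
        rw [this]
        exact E.mul_mem (E.inv_mem (Subgroup.mem_inf.mp h1).2) (Subgroup.mem_inf.mp h2).2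
      rw [Subgroup.mem_subgroupOf, Subgroup.mem_subgroupOf]
      show Xor ((b : G) * t ∈ R) ((b : G) ∈ R)
      rcases hb with h | h
      · exact Or.inr ⟨h, fun h' => hnot ⟨h, h'⟩⟩
      · exact Or.inl ⟨h, fun h' => hnot ⟨h', h⟩⟩
    have h1 := Subgroup.index_mul_card (R.subgroupOf T)
    have h2 : Nat.card (R.subgroupOf T) = Nat.card R :=
      Nat.card_congr (Subgroup.subgroupOfEquivOfLe (inf_le_left : R ≤ T)).toEquiv
    rw [hidx, h2, hRc] at h1
    omega
  have hTe : ∀ s ∈ T, s * s = 1 := by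
    intro s hs
    rcases hdecT s hs with h | h
    · exact hRe s h
    · have h1 := hRe _ h
      have h2 : s * t = t * s := hTcomm s hs t htT
      have h3 : s * s * (t * t) = (s * t) * (s * t) := by
        calc s * s * (t * t) = s * (s * t) * t := by group
          _ = s * (t * s) * t := by rw [h2]
          _ = (s * t) * (s * t) := by group
      calc s * s = s * s * (t * t) := by rw [htt, mul_one]
        _ = 1 := by rw [h3, h1]
  -- all Sylow subgroups
  intro S
  obtain ⟨g, rfl⟩ := MulAction.exists_smul_eq G S₁ S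
  constructor
  · rw [Sylow.card_eq_multiplicity, ← Sylow.card_eq_multiplicity S₁]
    exact hTc
  · intro s hs
    have h1 := (mem_smul_sylow S₁ g s).mp hs
    have h2 := hTe _ h1
    calc s * s = g * ((g⁻¹ * s * g) * (g⁻¹ * s * g)) * g⁻¹ := by group
      _ = 1 := by rw [h2]; group

end Cfsg.Agent.Helper4.JR
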