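import Mathlib
import Cfsg.Agent.Helper4.JRA

set_option autoImplicit false
set_option linter.style.haveILetI false

namespace Cfsg.Agent.Helper4.JR

/-- **Radical lemma**: a symmetric "bi-additive alternating form with values in `ℤ/2`" (given as a
relation `B u v` = "the value at `(u,v)` is zero") on a group of order `8` and exponent `2` is
either identically zero or has a radical of order exactly `2`. -/
theorem radical_lemma {V : Type*} [Group V] [Finite V] (hcard : Nat.card V = 8)
    (hexp : ∀ v : V, v * v = 1) (B : V → V → Prop)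
    (hmul : ∀ u v w, B (u * v) w ↔ (B u w ↔ B v w)) (hsymm : ∀ u v, B u v → B v u)
    (hrefl : ∀ u, B u u) :
    (∀ u v, B u v) ∨
      ∃ r : V, r ≠ 1 ∧ (∀ v, B r v) ∧ ∀ r', (∀ v, B r' v) → r' = 1 ∨ r' = r := by
  classical
  have hone : ∀ w, B 1 w := by
    intro w
    have := hmul 1 1 w
    rw [one_mul] at this
    exact this.mpr Iff.rfl
  have hone' : ∀ w, B w 1 := fun w => hsymm _ _ (hone w)
  have hmul' : ∀ u v w, B w (u * v) ↔ (B w u ↔ B w v) := by
    intro u v w
    constructor
    · intro h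
      have := (hmul u v w).mp (hsymm _ _ h)
      exact ⟨fun h1 => hsymm _ _ (this.mp (hsymm _ _ h1)), fun h1 => hsymm _ _ (this.mpr (hsymm _ _ h1))⟩
    · intro h
      apply hsymm
      apply (hmul u v w).mpr
      exact ⟨fun h1 => hsymm _ _ (h.mp (hsymm _ _ h1)), fun h1 => hsymm _ _ (h.mpr (hsymm _ _ h1))⟩
  have hinv : ∀ v : V, v⁻¹ = v := fun v => inv_eq_of_mul_eq_one_right (hexp v)
  by_cases hall : ∀ u v, B u v
  · exact Or.inl hall
  right
  push Not at hall
  obtain ⟨u, v, huv⟩ := hall
  have hvu : ¬ B v u := fun h => huv (hsymm _ _ h)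
  -- the subgroups `H_w`
  let Hs : V → Subgroup V := fun w =>
    { carrier := {x | B w x}
      one_mem' := hone' w
      mul_mem' := by
        intro a b ha hb
        exact (hmul' a b w).mpr ⟨fun _ => hb, fun _ => ha⟩
      inv_mem' := by
        intro a ha
        show B w a⁻¹
        rw [hinv]; exact ha }
  have hHs : ∀ w x, x ∈ Hs w ↔ B w x := fun w x => Iff.rfl
  set K : Subgroup V := Hs u ⊓ Hs v with hK
  have hKmem : ∀ x, x ∈ K ↔ B u x ∧ B v x := fun x => Subgroup.mem_inf
  -- indices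
  have hidx1 : (Hs u).index = 2 := by
    rw [Subgroup.index_eq_two_iff]
    refine ⟨v, fun b => ?_⟩
    rw [hHs, hHs, hmul']
    by_cases hb : B u b
    · exact Or.inr ⟨hb, fun h => huv (h.mp hb)⟩
    · exact Or.inl ⟨⟨fun h => absurd h hb, fun h => absurd h huv⟩, hb⟩
  have hidx2 : (K.subgroupOf (Hs u)).index = 2 := by
    rw [Subgroup.index_eq_two_iff]
    refine ⟨⟨u, hrefl u⟩, fun b => ?_⟩
    rw [Subgroup.mem_subgroupOf, Subgroup.mem_subgroupOf]
    show Xor ((b : V) * u ∈ K) ((b : V) ∈ K)
    rw [hKmem, hKmem, hmul', hmul']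
    have hb : B u (b : V) := b.2
    by_cases hb2 : B v (b : V)
    · exact Or.inr ⟨⟨hb, hb2⟩, fun h => hvu (h.2.mp hb2)⟩
    · refine Or.inl ⟨⟨⟨fun _ => hrefl u, fun _ => hb⟩, ⟨fun h => absurd h hb2, fun h => absurd h hvu⟩⟩, fun h => hb2 h.2⟩
  have hKcard : Nat.card K = 2 := by
    have h1 := Subgroup.index_mul_card (Hs u)
    have h2 := Subgroup.index_mul_card (K.subgroupOf (Hs u))
    have h3 : Nat.card (K.subgroupOf (Hs u)) = Nat.card K :=
      Nat.card_congr (Subgroup.subgroupOfEquivOfLe (inf_le_left : K ≤ Hs u)).toEquiv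
    rw [hidx1, hcard] at h1
    rw [hidx2, h3] at h2
    omega
  -- a generator of `K`
  have hKne : K ≠ ⊥ := by
    intro h
    rw [h, Subgroup.card_bot] at hKcard
    omega
  obtain ⟨r0, hr01⟩ := (Subgroup.ne_bot_iff_exists_ne_one).mp hKne
  obtain ⟨r, hr⟩ : ∃ r' : V, r' = (r0 : V) := ⟨_, rfl⟩
  have hrK : r ∈ K := by rw [hr]; exact r0.2
  have hr1 : r ≠ 1 := by
    intro h
    apply hr01
    apply Subtype.ext
    rw [← hr, h]; rfl
  have hru : B u r := ((hKmem r).mp hrK).1
  have hrv : B v r := ((hKmem r).mp hrK).2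
  -- `K = {1, r}`
  have hK2 : ∀ x ∈ K, x = 1 ∨ x = r := by
    intro x hx
    have hle : Subgroup.zpowers r ≤ K := by rw [Subgroup.zpowers_le]; exact hrK
    have hord : orderOf r = 2 := orderOf_eq_prime (by rw [pow_two]; exact hexp r) hr1
    have heq : Subgroup.zpowers r = K := by
      apply Subgroup.eq_of_le_of_card_ge hle
      rw [Nat.card_zpowers, hord, hKcard]
    rw [← heq] at hx
    exact mem_zpowers_of_sq (hexp r) hx
  refine ⟨r, hr1, ?_, ?_⟩
  · -- `r` lies in the radical
    intro x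
    -- x = k * u^i * v^j
    have key : ∀ y : V, B u y → B r y := by
      intro y hy
      by_cases hy2 : B v y
      · rcases hK2 y ((hKmem y).mpr ⟨hy, hy2⟩) with h | h
        · rw [h]; exact hone' r
        · rw [h]; exact hrefl r
      · -- then `y * u ∈ K`
        have h1 : B u (y * u) := (hmul' y u u).mpr ⟨fun _ => hrefl u, fun _ => hy⟩
        have h2 : B v (y * u) := (hmul' y u v).mpr ⟨fun h => absurd h hy2, fun h => absurd h hvu⟩
        have h3 : B r (y * u) := by
          rcases hK2 (y * u) ((hKmem _).mpr ⟨h1, h2⟩) with h | h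
          · rw [h]; exact hone' r
          · rw [h]; exact hrefl r
        have h4 : B r u := hsymm _ _ hru
        exact ((hmul' y u r).mp h3).mpr h4
    by_cases hx : B u x
    · exact key x hx
    · have h1 : B u (x * v) := (hmul' x v u).mpr ⟨fun h => absurd h hx, fun h => absurd h huv⟩
      have h2 := key _ h1
      have h3 : B r v := hsymm _ _ hrv
      exact ((hmul' x v r).mp h2).mpr h3
  · intro r' hr'
    apply hK2
    exact (hKmem r').mpr ⟨hsymm _ _ (hr' u), hsymm _ _ (hr' v)⟩

end Cfsg.Agent.Helper4.JR
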