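import Mathlib
import Cfsg.Agent.Helper6.TcI
import Cfsg.Agent.Helper6.ThompFusG
import Cfsg.Agent.Lead.KInfG
import Cfsg.Agent.Helper4.PCore

/-!
# Glauberman's K-infinity theorem for fusion systems (`p ≥ 5`)

If `Aut_F(S)` is a `p`-group and `S ≠ 1` then the focal subgroup of the saturated system `F` is a
proper subgroup of `S`.  Route: the K-infinity functor controls transfer in every finite group
(`Lead.KInf.transfer_at_sylow`), hence in every saturated fusion system (`Helper6.TC.controls_transfer`);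
then induction through the factor system modulo `K∞(S)`.
-/

set_option autoImplicit false
set_option linter.style.haveILetI false
set_option maxHeartbeats 800000

namespace Cfsg.Agent.Helper4.KInfFus

open Cfsg Cfsg.FusionSystem Cfsg.Agent.Lead Cfsg.Agent.Lead.GlTh Cfsg.Agent.Helper1
  Cfsg.Agent.Helper1.ThompsonRed Cfsg.Agent.Helper1.TN Cfsg.Agent.Helper6.ThompFus

universe u

/-- The lower K-infinity functor as a characteristic functor. -/
def kFunctor : CharFunctor.{u} :=
  ⟨Cfsg.kInfLower, fun e => Cfsg.Agent.Lead.KInf.map_kInfLower_equiv e⟩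

/-- The local condition for control of transfer, from Glauberman's theorem for groups. -/
theorem local_cond (p : ℕ) [Fact p.Prime] (hp : 5 ≤ p) (G : Type u) [Group G] [Finite G]
    (P : Sylow p G) :
    Cfsg.pCore p G ⊓ commutator G = Cfsg.pCore p G ⊓
      (commutator ↥(Subgroup.normalizer
        (((Cfsg.kInfLower ↥(P : Subgroup G)).map (P : Subgroup G).subtype : Subgroup G) : Set G))).map
        (Subgroup.normalizer
          (((Cfsg.kInfLower ↥(P : Subgroup G)).map (P : Subgroup G).subtype : Subgroup G) :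
            Set G)).subtype := by
  have h1 := Cfsg.Agent.Lead.KInf.transfer_at_sylow hp Cfsg.kInfLower
    (Cfsg.Agent.Lead.KInf.isCharPFunctor_kInfLower p)
    (Cfsg.Agent.Lead.KInf.subDetermined_kInfLower p) P
  have hle : Cfsg.pCore p G ≤ (P : Subgroup G) := Cfsg.Agent.Helper4.pCore_le_sylow P
  rw [Subgroup.map_subtype_commutator]
  have h2 : Cfsg.pCore p G ⊓ commutator G = Cfsg.pCore p G ⊓ ((P : Subgroup G) ⊓ commutator G) := by
    rw [← inf_assoc, inf_eq_left.mpr hle]
  rw [h2, h1, ← inf_assoc, inf_eq_left.mpr hle]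
  rfl

variable {Ω : Type u} [Group Ω] {S : Subgroup Ω}

theorem focal_le (F : FusionSystem S) : F.focalSubgroup ≤ S := by
  unfold FusionSystem.focalSubgroup
  rw [Subgroup.closure_le]
  rintro y ⟨P, φ, x, hφ, rfl⟩
  have h := F.le_of_mem hφ
  exact S.mul_mem (S.inv_mem (h.1 x.2)) (h.2 x)

theorem isPGroup_autGroup_of_eq {p : ℕ} (F : FusionSystem S) {R R' : Subgroup Ω} (h : R = R')
    (hR : IsPGroup p (F.autGroup R')) : IsPGroup p (F.autGroup R) := by
  subst h
  exact hR

/-- The focal subgroup of an inner system lies in the derived subgroup. -/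
theorem focal_le_commutator_of_inner (F : FusionSystem S)
    (h : ∀ P : Subgroup Ω, F.Hom P = (innerFusionSystem S).Hom P) :
    F.focalSubgroup ≤ ⁅S, S⁆ := by
  unfold FusionSystem.focalSubgroup
  rw [Subgroup.closure_le]
  rintro y ⟨P, φ, x, hφ, rfl⟩
  rw [h P] at hφ
  obtain ⟨hP, g, hg, hgx⟩ := hφ
  rw [hgx x]
  have h1 : (x : Ω)⁻¹ * (g * (x : Ω) * g⁻¹) = (x : Ω)⁻¹ * g * ((x : Ω)⁻¹)⁻¹ * g⁻¹ := by
    group
  rw [SetLike.mem_coe, h1, ← commutatorElement_def]
  exact Subgroup.commutator_mem_commutator (S.inv_mem (hP x.2)) hg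

theorem commutator_ne_self (p : ℕ) [Fact p.Prime] [Finite S] (hS : IsPGroup p S) (hS1 : S ≠ ⊥) :
    ⁅S, S⁆ ≠ S := by
  intro h
  haveI : Nontrivial S := (Subgroup.nontrivial_iff_ne_bot S).mpr hS1
  haveI : Group.IsNilpotent S := hS.isNilpotent
  have h1 : commutator S < ⊤ := Group.IsSolvable.commutator_lt_top_of_nontrivial S
  rw [← Subgroup.map_subtype_commutator] at h
  apply h1.ne
  apply Subgroup.map_injective S.subtype_injective
  rw [h, ← MonoidHom.range_eq_map, Subgroup.range_subtype]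

/-- A morphism of fusion systems carries the focal subgroup into the focal subgroup. -/
theorem map_focal_mem {Ω' : Type u} [Group Ω'] {S' : Subgroup Ω'} (F : FusionSystem S)
    (F' : FusionSystem S') (θ : S →* Ω') (hθ : F.IsMorphism F' θ) {y : Ω}
    (hy : y ∈ F.focalSubgroup) (hyS : y ∈ S) : θ ⟨y, hyS⟩ ∈ F'.focalSubgroup := by
  have hle : F.focalSubgroup ≤ (F'.focalSubgroup.comap θ).map S.subtype := by
    unfold FusionSystem.focalSubgroup
    rw [Subgroup.closure_le]
    rintro y ⟨P, φ, x, hφ, rfl⟩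
    obtain ⟨φ', hφ', hP, hφS, hP', hind⟩ := hθ.2 P φ hφ
    refine ⟨(⟨x, hP x.2⟩ : S)⁻¹ * ⟨φ x, hφS x⟩, ?_, rfl⟩
    rw [SetLike.mem_coe, Subgroup.mem_comap, map_mul, map_inv, ← hind x]
    apply Subgroup.subset_closure
    exact ⟨_, φ', ⟨θ ⟨x, hP x.2⟩, hP' x⟩, hφ', rfl⟩
  obtain ⟨z, hz, hzy⟩ := hle hy
  have : z = ⟨y, hyS⟩ := Subtype.ext hzy
  rw [← this]
  exact hz

theorem focal_ne_aux (p : ℕ) [Fact p.Prime] (hp : 5 ≤ p) :
    ∀ (n : ℕ) (Ω : Type u) [Group Ω] (S : Subgroup Ω) [Finite S], Nat.card S = n → IsPGroup p S →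
      S ≠ ⊥ → ∀ F : FusionSystem S, F.IsSaturated p → IsPGroup p (F.autGroup S) →
        F.focalSubgroup ≠ S := by
  intro n
  induction n using Nat.strong_induction_on with
  | _ n ih =>
  intro Ω _ S _ hn hS hS1 F hF haut
  have IH : ∀ (Ω' : Type u) [Group Ω'] (S' : Subgroup Ω') [Finite S'],
      Nat.card S' < Nat.card S → IsPGroup p S' → S' ≠ ⊥ →
      ∀ F' : FusionSystem S', F'.IsSaturated p → IsPGroup p (F'.autGroup S') →
        F'.focalSubgroup ≠ S' :=
    fun Ω' _ S' _ hlt hS' hS'1 F' hF' ha' =>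
      ih (Nat.card S') (hn ▸ hlt) Ω' S' rfl hS' hS'1 F' hF' ha'
  have hcard1 : 1 < Nat.card S := S.one_lt_card_iff_ne_bot.mpr hS1
  set W : CharFunctor.{u} := kFunctor with hWdef
  have hne : ∀ (R : Type u) [Group R] [Finite R], IsPGroup p R → Nontrivial R → W.W R ≠ ⊥ :=
    (Cfsg.Agent.Lead.KInf.isCharPFunctor_kInfLower p).1
  have hW₀ne : W.of S ≠ ⊥ := of_ne_bot' W p hne S hS hcard1
  have hW₀S : W.of S ≤ S := W.of_le S
  have hSn : S ≤ Subgroup.normalizer (W.of S : Set Ω) := le_normalizer_of W S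
  have hReq : normalizerIn S (W.of S) = S := le_antisymm inf_le_left (le_inf le_rfl hSn)
  have hfn : F.IsFullyNormalized (W.of S) := by
    refine ⟨hW₀S, fun U' _ => ?_⟩
    rw [hReq]
    exact Subgroup.card_le_of_le inf_le_left
  obtain ⟨N, hN⟩ := Cfsg.Agent.S5096.result F (W.of S) hW₀S
  have hNsat := Fusion.normalizerSystem_isSaturated p hS F hF _ hfn N hN
  have hRS : normalizerIn S (W.of S) ≤ S := inf_le_left
  haveI : Finite ↥(normalizerIn S (W.of S)) := Fusion.finite_of_le hRS
  have hRp : IsPGroup p ↥(normalizerIn S (W.of S)) := hS.to_le hRS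
  have hNsub := normalizerSystem_hom_subset F N hN
  have hfoc : N.focalSubgroup = F.focalSubgroup :=
    Cfsg.Agent.Helper6.TC.controls_transfer Cfsg.kInfLower hne
      (fun Q R _ _ _ _ φ => Cfsg.Agent.Lead.KInf.map_kInfLower_equiv φ)
      (fun G _ _ P _ => local_cond p hp G P) hS F hF N hN
  have hWN : N.IsNormal (W.of S) := Fusion.normalizerSystem_isNormal F hW₀S N hN
  obtain ⟨Ω', _, S', _, N', θ, hS'p, hθ, hker, hsat', hcard, hfac⟩ :=
    exists_factor' p hRp N hNsat hWN
  haveI : Finite ↥(W.of S) := Fusion.finite_of_le hW₀S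
  have hWcard : 1 < Nat.card ↥(W.of S) := (W.of S).one_lt_card_iff_ne_bot.mpr hW₀ne
  have hS'pos : 0 < Nat.card S' := Nat.card_pos
  have hRcard : Nat.card ↥(normalizerIn S (W.of S)) = Nat.card S := by rw [hReq]
  have hlt : Nat.card S' < Nat.card S := by
    rw [← hRcard, ← hcard]
    nlinarith
  -- the automizer of the whole group in `N`
  have hNaut : IsPGroup p (N.autGroup (normalizerIn S (W.of S))) := by
    have h1 : IsPGroup p (F.autGroup (normalizerIn S (W.of S))) :=
      isPGroup_autGroup_of_eq F hReq haut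
    exact h1.to_le (autGroup_mono N F hNsub _)
  intro hfocS
  rw [← hfoc] at hfocS
  by_cases hS'1 : S' = ⊥
  · -- `K∞(S) = S`: the normalizer system is inner
    have hin' : Inner p N' := by
      intro P hP α _
      refine ⟨0, ?_⟩
      have hP1 : P = ⊥ := le_bot_iff.mp (hS'1 ▸ hP)
      have hsub : Subsingleton P := by
        rw [hP1]
        infer_instance
      ext x
      exact congrArg Subtype.val (Subsingleton.elim _ _)
    have hS'c : Nat.card S' = 1 := by
      rw [hS'1]
      exact Subgroup.card_bot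
    have hWeq : W.of S = normalizerIn S (W.of S) := by
      have hle : W.of S ≤ normalizerIn S (W.of S) := le_inf hW₀S (Subgroup.le_normalizer)
      apply Subgroup.eq_of_le_of_card_ge hle
      rw [← hcard, hS'c, one_mul]
    have hWaut : IsPGroup p (N.autGroup (W.of S)) := isPGroup_autGroup_of_eq N hWeq hNaut
    have hNin : Inner p N := inner_of_factor_inner p hRp N N' θ hθ hin' hWN hker hWaut
    have hhom := (inner_iff_hom p hRp N hNsat).mp hNin
    have h1 := focal_le_commutator_of_inner N hhom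
    rw [hfocS] at h1
    have h2 : ⁅S, S⁆ = S := by
      apply le_antisymm (Subgroup.commutator_le_self S)
      rw [hReq] at h1
      exact h1
    exact commutator_ne_self p hS hS1 h2
  · -- induction through the factor system
    have hpre : preimageAlong θ S' = normalizerIn S (W.of S) := by
      apply le_antisymm (Fusion.preimageAlong_le θ S')
      intro x hx
      rw [Fusion.mem_preimageAlong]
      exact ⟨hx, hθ.2.1 ▸ ⟨⟨x, hx⟩, rfl⟩⟩
    have hN'aut : IsPGroup p (N'.autGroup S') := by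
      apply isPGroup_autGroup_image p N N' θ hθ le_rfl
      exact isPGroup_autGroup_of_eq N hpre hNaut
    have h1 := IH Ω' S' hlt hS'p hS'1 N' hsat' hN'aut
    apply h1
    apply le_antisymm (focal_le N')
    intro y' hy'
    have hy'' : y' ∈ θ.range := hθ.2.1 ▸ hy'
    obtain ⟨y, rfl⟩ := hy''
    have hyf : (y : Ω) ∈ N.focalSubgroup := by
      rw [hfocS]
      exact hRS y.2
    exact map_focal_mem N N' θ hθ.1 hyf y.2

/-- Glauberman's K-infinity theorem for fusion systems. -/
theorem focal_lt {Ω : Type u} [Group Ω] {S : Subgroup Ω} [Finite S] (p : ℕ) [Fact p.Prime]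
    (hS : IsPGroup p S) (F : FusionSystem S) (hF : F.IsSaturated p) (hp : 5 ≤ p) (hS1 : S ≠ ⊥)
    (haut : IsPGroup p ↥(F.autGroup S)) : F.focalSubgroup < S :=
  lt_of_le_of_ne (focal_le F) (focal_ne_aux p hp (Nat.card S) Ω S rfl hS hS1 F hF haut)

end Cfsg.Agent.Helper4.KInfFus
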