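import Mathlib
import Cfsg.Agent.Helper1.Basic
import Cfsg.Agent.Helper1.Coprime
import Cfsg.Agent.Helper1.Kegel

set_option autoImplicit false

/-!
Kegel–Wielandt, part a: generalities on factorized groups `G = A B`.
-/

namespace Cfsg.Agent.Helper4.KW

open scoped Pointwise
open Cfsg.Agent.Helper1

universe u

variable {G : Type u} [Group G]

/-- `G = A B`. -/
def Fac (A B : Subgroup G) : Prop := ∀ g : G, ∃ a ∈ A, ∃ b ∈ B, g = a * b

theorem Fac.symm {A B : Subgroup G} (h : Fac A B) : Fac B A := by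
  intro g
  obtain ⟨a, ha, b, hb, e⟩ := h g⁻¹
  refine ⟨b⁻¹, B.inv_mem hb, a⁻¹, A.inv_mem ha, ?_⟩
  rw [← mul_inv_rev, ← e, inv_inv]

theorem Fac.conj {A B : Subgroup G} (h : Fac A B) (x y : G) :
    Fac (MulAut.conj x • A) (MulAut.conj y • B) := by
  intro g
  obtain ⟨a₀, ha₀, b₀, hb₀, e₀⟩ := h (x⁻¹ * y)
  obtain ⟨a', ha', b', hb', e'⟩ := h (x⁻¹ * g * y)
  refine ⟨x * (a' * a₀⁻¹) * x⁻¹, conj_mem_conj_smul (A.mul_mem ha' (A.inv_mem ha₀)),
    y * (b₀⁻¹ * b') * y⁻¹, conj_mem_conj_smul (B.mul_mem (B.inv_mem hb₀) hb'), ?_⟩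
  have h1 : g = x * (a' * b') * y⁻¹ := by rw [← e']; group
  have h3 : a₀⁻¹ * (x⁻¹ * y) * b₀⁻¹ = 1 := by rw [e₀]; group
  calc g = x * (a' * b') * y⁻¹ := h1
    _ = x * a' * (a₀⁻¹ * (x⁻¹ * y) * b₀⁻¹) * b' * y⁻¹ := by rw [h3]; group
    _ = x * (a' * a₀⁻¹) * x⁻¹ * (y * (b₀⁻¹ * b') * y⁻¹) := by group

theorem Fac.mem_of_le_left {A B H : Subgroup G} (h : Fac A B) (hA : A ≤ H) {g : G} (hg : g ∈ H) :
    ∃ a ∈ A, ∃ b ∈ B ⊓ H, g = a * b := by
  obtain ⟨a, ha, b, hb, e⟩ := h g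
  refine ⟨a, ha, b, ⟨hb, ?_⟩, e⟩
  have : b = a⁻¹ * g := by rw [e]; group
  rw [this]
  exact H.mul_mem (H.inv_mem (hA ha)) hg

theorem Fac.mem_of_le_right {A B H : Subgroup G} (h : Fac A B) (hB : B ≤ H) {g : G} (hg : g ∈ H) :
    ∃ a ∈ A ⊓ H, ∃ b ∈ B, g = a * b := by
  obtain ⟨a, ha, b, hb, e⟩ := h g
  refine ⟨a, ⟨ha, ?_⟩, b, hb, e⟩
  have : a = g * b⁻¹ := by rw [e]; group
  rw [this]
  exact H.mul_mem hg (H.inv_mem (hB hb))

theorem Fac.isComplement' {A B : Subgroup G} (h : Fac A B) (hd : A ⊓ B = ⊥) :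
    Subgroup.IsComplement' A B := by
  apply Subgroup.isComplement'_of_disjoint_and_mul_eq_univ (disjoint_iff.2 hd)
  ext g
  simp only [Set.mem_univ, iff_true]
  obtain ⟨a, ha, b, hb, e⟩ := h g
  exact ⟨a, ha, b, hb, e.symm⟩

theorem Fac.card_eq {A B : Subgroup G} (h : Fac A B) (hd : A ⊓ B = ⊥) :
    Nat.card A * Nat.card B = Nat.card G :=
  (h.isComplement' hd).card_mul_card

theorem Fac.card_eq_of_coprime {A B : Subgroup G} (h : Fac A B)
    (hc : (Nat.card A).Coprime (Nat.card B)) : Nat.card A * Nat.card B = Nat.card G :=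
  h.card_eq (inf_eq_bot_of_coprime_card hc)

/-- conjugating a product set -/
theorem coe_conj_smul_mul {T A B : Subgroup G} (hT : (T : Set G) = (A : Set G) * (B : Set G))
    (z : G) : ((MulAut.conj z • T : Subgroup G) : Set G) =
      ((MulAut.conj z • A : Subgroup G) : Set G) * ((MulAut.conj z • B : Subgroup G) : Set G) := by
  ext g
  constructor
  · intro hg
    have h3 : z⁻¹ * g * z ∈ (T : Set G) := mem_conj_smul.1 hg
    rw [hT] at h3
    obtain ⟨a, ha, b, hb, hab⟩ := h3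
    replace hab : a * b = z⁻¹ * g * z := hab
    refine ⟨z * a * z⁻¹, conj_mem_conj_smul ha, z * b * z⁻¹, conj_mem_conj_smul hb, ?_⟩
    have h4 : z * a * z⁻¹ * (z * b * z⁻¹) = z * (a * b) * z⁻¹ := by group
    show z * a * z⁻¹ * (z * b * z⁻¹) = g
    rw [h4, hab]; group
  · rintro ⟨a', ha', b', hb', rfl⟩
    apply mem_conj_smul.2
    have h3 : z⁻¹ * (a' * b') * z = (z⁻¹ * a' * z) * (z⁻¹ * b' * z) := by group
    show z⁻¹ * (a' * b') * z ∈ T
    rw [h3]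
    show _ ∈ (T : Set G)
    rw [hT]
    exact Set.mul_mem_mul (mem_conj_smul.1 ha') (mem_conj_smul.1 hb')

/-- Wielandt's lemma: if `A₀ ⊴ A`, `B₀ ⊴ B` and `A₀ B₀` is a subgroup, then so is `A₀ B₀^x` for
every `x`. -/
theorem Fac.exists_mul_conj {A B A₀ B₀ T : Subgroup G} (h : Fac A B)
    (hA : A ≤ Subgroup.normalizer (A₀ : Set G)) (hB : B ≤ Subgroup.normalizer (B₀ : Set G))
    (hT : (T : Set G) = (A₀ : Set G) * (B₀ : Set G)) (x : G) :
    ∃ S : Subgroup G, Nat.card S = Nat.card T ∧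
      (S : Set G) = (A₀ : Set G) * ((MulAut.conj x • B₀ : Subgroup G) : Set G) := by
  obtain ⟨a, ha, b, hb, e⟩ := h x
  refine ⟨MulAut.conj a • T, card_conj_smul a T, ?_⟩
  rw [coe_conj_smul_mul hT a, conj_smul_eq_of_mem_normalizer (hA ha), e, map_mul, mul_smul,
    conj_smul_eq_of_mem_normalizer (hB hb)]

/-- the normalizer of `⟨A₀, B₀⟩` is factorized when `A₀ ⊴ A`, `B₀ ⊴ B`. -/
theorem Fac.normalizer_sup [Finite G] {A B A₀ B₀ : Subgroup G} (h : Fac A B)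
    (hA : A ≤ Subgroup.normalizer (A₀ : Set G)) (hB : B ≤ Subgroup.normalizer (B₀ : Set G))
    {g : G} (hg : g ∈ Subgroup.normalizer ((A₀ ⊔ B₀ : Subgroup G) : Set G)) :
    ∃ a ∈ A ⊓ Subgroup.normalizer ((A₀ ⊔ B₀ : Subgroup G) : Set G),
      ∃ b ∈ B ⊓ Subgroup.normalizer ((A₀ ⊔ B₀ : Subgroup G) : Set G), g = a * b := by
  obtain ⟨a, ha, b, hb, e⟩ := h g
  set H := A₀ ⊔ B₀ with hH
  have h1 : MulAut.conj a • (MulAut.conj b • H) = H := by
    rw [← mul_smul, ← map_mul, ← e]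
    exact conj_smul_eq_of_mem_normalizer hg
  have h2 : MulAut.conj b • H = MulAut.conj a⁻¹ • H := by
    have h5 : MulAut.conj a⁻¹ • (MulAut.conj a • (MulAut.conj b • H)) = MulAut.conj b • H := by
      rw [← mul_smul, ← map_mul, inv_mul_cancel, map_one, one_smul]
    rw [← h5, h1]
  have h3 : H ≤ MulAut.conj b • H := by
    apply sup_le
    · rw [h2]
      have : MulAut.conj a⁻¹ • A₀ = A₀ := conj_smul_eq_of_mem_normalizer (hA (A.inv_mem ha))
      rw [← this]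
      exact Subgroup.pointwise_smul_le_pointwise_smul_iff.2 le_sup_left
    · have : MulAut.conj b • B₀ = B₀ := conj_smul_eq_of_mem_normalizer (hB hb)
      rw [← this]
      exact Subgroup.pointwise_smul_le_pointwise_smul_iff.2 le_sup_right
  have h4 : MulAut.conj b • H = H :=
    (Subgroup.eq_of_le_of_card_ge h3 (card_conj_smul b H).le).symm
  have hbn : b ∈ Subgroup.normalizer (H : Set G) := mem_normalizer_of_conj_smul_eq h4
  have han : a ∈ Subgroup.normalizer (H : Set G) := by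
    have : a = g * b⁻¹ := by rw [e]; group
    rw [this]
    exact Subgroup.mul_mem _ hg (Subgroup.inv_mem _ hbn)
  exact ⟨a, ⟨ha, han⟩, b, ⟨hb, hbn⟩, e⟩

end Cfsg.Agent.Helper4.KW
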