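import Mathlib
import Cfsg.Agent.Helper1.Basic
import Cfsg.Agent.Helper1.Coprime
import Cfsg.Agent.Helper1.WielandtNilpHall

set_option autoImplicit false

/-!
Kegel–Wielandt, part b: the `p`-part and the `p'`-part of a nilpotent subgroup.
-/

namespace Cfsg.Agent.Helper4.KW

open scoped Pointwise
open Cfsg.Agent.Helper1

universe u

variable {G : Type u} [Group G]

/-- the subgroup generated by the `p`-elements of `A`. -/
def pp (A : Subgroup G) (p : ℕ) : Subgroup G :=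
  Subgroup.closure {x | x ∈ A ∧ ∃ k : ℕ, x ^ (p ^ k) = 1}

/-- the subgroup generated by the `p'`-elements of `A`. -/
def pc (A : Subgroup G) (p : ℕ) : Subgroup G :=
  Subgroup.closure {x | x ∈ A ∧ (orderOf x).Coprime p}

theorem pp_le (A : Subgroup G) (p : ℕ) : pp A p ≤ A :=
  (Subgroup.closure_le A).2 (fun _ hx => hx.1)

theorem pc_le (A : Subgroup G) (p : ℕ) : pc A p ≤ A :=
  (Subgroup.closure_le A).2 (fun _ hx => hx.1)

theorem conj_pp (g : G) (A : Subgroup G) (p : ℕ) :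
    MulAut.conj g • pp A p = pp (MulAut.conj g • A) p := by
  unfold pp
  rw [Subgroup.smul_closure]
  congr 1
  ext x
  constructor
  · rintro ⟨y, ⟨hy, k, hk⟩, rfl⟩
    refine ⟨Subgroup.smul_mem_pointwise_smul _ _ _ hy, k, ?_⟩
    show (MulAut.conj g y) ^ (p ^ k) = 1
    rw [← map_pow, hk, map_one]
  · rintro ⟨hx, k, hk⟩
    rw [mem_conj_smul] at hx
    refine ⟨g⁻¹ * x * g, ⟨hx, k, ?_⟩, ?_⟩
    · have : g⁻¹ * x * g = MulAut.conj g⁻¹ x := by simp
      rw [this, ← map_pow, hk, map_one]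
    · show MulAut.conj g (g⁻¹ * x * g) = x
      simp [MulAut.conj_apply, mul_assoc]

theorem conj_pc (g : G) (A : Subgroup G) (p : ℕ) :
    MulAut.conj g • pc A p = pc (MulAut.conj g • A) p := by
  unfold pc
  rw [Subgroup.smul_closure]
  congr 1
  ext x
  constructor
  · rintro ⟨y, ⟨hy, hk⟩, rfl⟩
    refine ⟨Subgroup.smul_mem_pointwise_smul _ _ _ hy, ?_⟩
    show (orderOf (MulAut.conj g y)).Coprime p
    rwa [MulEquiv.orderOf_eq]
  · rintro ⟨hx, hk⟩
    rw [mem_conj_smul] at hx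
    refine ⟨g⁻¹ * x * g, ⟨hx, ?_⟩, ?_⟩
    · have : g⁻¹ * x * g = MulAut.conj g⁻¹ x := by simp
      rw [this, MulEquiv.orderOf_eq]; exact hk
    · show MulAut.conj g (g⁻¹ * x * g) = x
      simp [MulAut.conj_apply, mul_assoc]

theorem normalizer_le_normalizer_pp (A : Subgroup G) (p : ℕ) :
    Subgroup.normalizer (A : Set G) ≤ Subgroup.normalizer (pp A p : Set G) := by
  intro g hg
  apply mem_normalizer_of_conj_smul_eq
  rw [conj_pp, conj_smul_eq_of_mem_normalizer hg]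

theorem normalizer_le_normalizer_pc (A : Subgroup G) (p : ℕ) :
    Subgroup.normalizer (A : Set G) ≤ Subgroup.normalizer (pc A p : Set G) := by
  intro g hg
  apply mem_normalizer_of_conj_smul_eq
  rw [conj_pc, conj_smul_eq_of_mem_normalizer hg]

theorem le_normalizer_pp (A : Subgroup G) (p : ℕ) :
    A ≤ Subgroup.normalizer (pp A p : Set G) :=
  Subgroup.le_normalizer.trans (normalizer_le_normalizer_pp A p)

theorem le_normalizer_pc (A : Subgroup G) (p : ℕ) :
    A ≤ Subgroup.normalizer (pc A p : Set G) :=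
  Subgroup.le_normalizer.trans (normalizer_le_normalizer_pc A p)

theorem pp_mono {A A' : Subgroup G} (h : A ≤ A') (p : ℕ) : pp A p ≤ pp A' p :=
  Subgroup.closure_mono (fun _ hx => ⟨h hx.1, hx.2⟩)

theorem pc_mono {A A' : Subgroup G} (h : A ≤ A') (p : ℕ) : pc A p ≤ pc A' p :=
  Subgroup.closure_mono (fun _ hx => ⟨h hx.1, hx.2⟩)

/-- structure of a nilpotent subgroup at a prime -/
theorem exists_parts [Finite G] (A : Subgroup G) (hA : Group.IsNilpotent A) (p : ℕ)
    [hp : Fact p.Prime] :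
    ∃ P Q : Subgroup G, P ≤ A ∧ Q ≤ A ∧
      (∀ x, x ∈ P ↔ x ∈ A ∧ ∃ k : ℕ, x ^ (p ^ k) = 1) ∧
      (∀ x, x ∈ Q ↔ x ∈ A ∧ (orderOf x).Coprime p) ∧
      Q ≤ Subgroup.centralizer (P : Set G) ∧
      Nat.card P = p ^ (Nat.card A).factorization p ∧
      Nat.card P * Nat.card Q = Nat.card A ∧
      (∀ a ∈ A, ∃ x ∈ P, ∃ y ∈ Q, a = x * y) := by
  obtain ⟨P, Q, hPA, hQA, hPp, hQc, hcard, hQP, hPcard⟩ := nilpotent_decomp A hA p
  have hQN : Q ≤ Subgroup.normalizer (P : Set G) :=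
    hQP.trans (Subgroup.centralizer_le_normalizer _)
  have hcop : (Nat.card P).Coprime (Nat.card Q) := by
    rw [hPcard]; exact Nat.Coprime.pow_left _ hQc.symm
  have hdisj : Q ⊓ P = ⊥ := inf_eq_bot_of_coprime_card hcop.symm
  have hsup : P ⊔ Q = A := by
    apply Subgroup.eq_of_le_of_card_ge (sup_le hPA hQA)
    rw [card_sup_of_le_normalizer hQN hdisj, mul_comm, hcard]
  have hdec : ∀ a ∈ A, ∃ x ∈ P, ∃ y ∈ Q, a = x * y := by
    intro a ha
    rw [← hsup] at ha
    exact mem_sup_of_le_normalizer hQN ha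
  have hPmem : ∀ x, x ∈ P → ∃ k : ℕ, x ^ (p ^ k) = 1 := by
    intro x hx
    obtain ⟨k, hk⟩ := hPp ⟨x, hx⟩
    exact ⟨k, by simpa using congrArg Subtype.val hk⟩
  have hQmem : ∀ y, y ∈ Q → (orderOf y).Coprime p := by
    intro y hy
    have h1 : orderOf y ∣ Nat.card Q := by
      have := orderOf_dvd_natCard (⟨y, hy⟩ : Q)
      rwa [Subgroup.orderOf_mk] at this
    exact Nat.Coprime.coprime_dvd_left h1 hQc
  have hcomm : ∀ x ∈ P, ∀ y ∈ Q, x * y = y * x := by
    intro x hx y hy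
    have hc := hQP hy
    rw [Subgroup.mem_centralizer_iff] at hc
    exact hc x hx
  refine ⟨P, Q, hPA, hQA, ?_, ?_, hQP, hPcard, hcard, hdec⟩
  · intro x
    constructor
    · intro hx; exact ⟨hPA hx, hPmem x hx⟩
    · rintro ⟨hxA, k, hk⟩
      obtain ⟨x₁, hx₁, y₁, hy₁, e⟩ := hdec x hxA
      -- `y₁ ^ (p^k) = 1` and order coprime to `p`, so `y₁ = 1`
      have hpow : x ^ (p ^ k) = x₁ ^ (p ^ k) * y₁ ^ (p ^ k) := by
        rw [e]; exact (Commute.mul_pow (hcomm x₁ hx₁ y₁ hy₁) _)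
      have h1 : y₁ ^ (p ^ k) = (x₁ ^ (p ^ k))⁻¹ := by
        rw [hk] at hpow
        exact eq_inv_of_mul_eq_one_right hpow.symm
      have h2 : y₁ ^ (p ^ k) ∈ Q ⊓ P :=
        ⟨Q.pow_mem hy₁ _, by rw [h1]; exact P.inv_mem (P.pow_mem hx₁ _)⟩
      rw [hdisj, Subgroup.mem_bot] at h2
      have h3 : orderOf y₁ ∣ p ^ k := orderOf_dvd_of_pow_eq_one h2
      have h4 : orderOf y₁ = 1 := by
        have := Nat.Coprime.eq_one_of_dvd ((hQmem y₁ hy₁).pow_right k) h3
        exact this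
      rw [orderOf_eq_one_iff] at h4
      rw [e, h4, mul_one]; exact hx₁
  · intro y
    constructor
    · intro hy; exact ⟨hQA hy, hQmem y hy⟩
    · rintro ⟨hyA, hyc⟩
      obtain ⟨x₁, hx₁, y₁, hy₁, e⟩ := hdec y hyA
      obtain ⟨k, hk⟩ := hPmem x₁ hx₁
      -- `y ^ (p^k) = y₁ ^ (p^k) ∈ Q`, and `y` is a power of it
      have hpow : y ^ (p ^ k) = y₁ ^ (p ^ k) := by
        rw [e, (Commute.mul_pow (hcomm x₁ hx₁ y₁ hy₁) _), hk, one_mul]
      have h1 : y ^ (p ^ k) ∈ Q := by rw [hpow]; exact Q.pow_mem hy₁ _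
      have hc : (orderOf y).Coprime (p ^ k) := hyc.pow_right k
      obtain ⟨m, hm⟩ := exists_pow_eq_self_of_coprime hc.symm
      rw [← hm]
      exact Q.pow_mem h1 m


section nilp

variable [Finite G] {A : Subgroup G} (hA : Group.IsNilpotent A) (p : ℕ) [hp : Fact p.Prime]

include hA

theorem pp_eq_of_parts {P : Subgroup G}
    (hP : ∀ x, x ∈ P ↔ x ∈ A ∧ ∃ k : ℕ, x ^ (p ^ k) = 1) : pp A p = P := by
  apply le_antisymm
  · exact (Subgroup.closure_le P).2 (fun x hx => (hP x).2 hx)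
  · intro x hx
    exact Subgroup.subset_closure ((hP x).1 hx)

theorem pc_eq_of_parts {Q : Subgroup G}
    (hQ : ∀ x, x ∈ Q ↔ x ∈ A ∧ (orderOf x).Coprime p) : pc A p = Q := by
  apply le_antisymm
  · exact (Subgroup.closure_le Q).2 (fun x hx => (hQ x).2 hx)
  · intro x hx
    exact Subgroup.subset_closure ((hQ x).1 hx)

theorem mem_pp {x : G} : x ∈ pp A p ↔ x ∈ A ∧ ∃ k : ℕ, x ^ (p ^ k) = 1 := by
  obtain ⟨P, Q, -, -, hP, -⟩ := exists_parts A hA p
  rw [pp_eq_of_parts hA p hP]; exact hP x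

theorem mem_pc {x : G} : x ∈ pc A p ↔ x ∈ A ∧ (orderOf x).Coprime p := by
  obtain ⟨P, Q, -, -, -, hQ, -⟩ := exists_parts A hA p
  rw [pc_eq_of_parts hA p hQ]; exact hQ x

theorem pc_le_centralizer_pp : pc A p ≤ Subgroup.centralizer (pp A p : Set G) := by
  obtain ⟨P, Q, -, -, hP, hQ, hc, -⟩ := exists_parts A hA p
  rw [pp_eq_of_parts hA p hP, pc_eq_of_parts hA p hQ]; exact hc

theorem commute_pp_pc {x y : G} (hx : x ∈ pp A p) (hy : y ∈ pc A p) : x * y = y * x := by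
  have := pc_le_centralizer_pp hA p hy
  rw [Subgroup.mem_centralizer_iff] at this
  exact this x hx

theorem card_pp : Nat.card (pp A p) = p ^ (Nat.card A).factorization p := by
  obtain ⟨P, Q, -, -, hP, hQ, -, hc, -⟩ := exists_parts A hA p
  rw [pp_eq_of_parts hA p hP]; exact hc

theorem card_pp_mul_card_pc : Nat.card (pp A p) * Nat.card (pc A p) = Nat.card A := by
  obtain ⟨P, Q, -, -, hP, hQ, -, -, hc, -⟩ := exists_parts A hA p
  rw [pp_eq_of_parts hA p hP, pc_eq_of_parts hA p hQ]; exact hc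

theorem exists_pp_mul_pc {a : G} (ha : a ∈ A) : ∃ x ∈ pp A p, ∃ y ∈ pc A p, a = x * y := by
  obtain ⟨P, Q, -, -, hP, hQ, -, -, -, hd⟩ := exists_parts A hA p
  rw [pp_eq_of_parts hA p hP, pc_eq_of_parts hA p hQ]; exact hd a ha

theorem isPGroup_pp : IsPGroup p (pp A p) := by
  intro x
  obtain ⟨k, hk⟩ := ((mem_pp hA p).1 x.2).2
  exact ⟨k, Subtype.ext (by simpa using hk)⟩

theorem card_pc_coprime : (Nat.card (pc A p)).Coprime p := by
  have h1 := card_pp_mul_card_pc hA p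
  rw [card_pp hA p] at h1
  have hApos : Nat.card A ≠ 0 := Nat.card_pos.ne'
  rw [Nat.coprime_comm, Nat.Prime.coprime_iff_not_dvd hp.out]
  intro hdvd
  obtain ⟨c, hc⟩ := hdvd
  rw [hc, ← mul_assoc, ← pow_succ] at h1
  have h2 : p ^ ((Nat.card A).factorization p + 1) ∣ Nat.card A := ⟨c, h1.symm⟩
  exact Nat.pow_succ_factorization_not_dvd hApos hp.out h2

theorem pp_le_pc {q : ℕ} [hq : Fact q.Prime] (hqp : q ≠ p) : pp A q ≤ pc A p := by
  intro x hx
  obtain ⟨hxA, k, hk⟩ := (mem_pp hA q).1 hx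
  rw [mem_pc hA p]
  refine ⟨hxA, ?_⟩
  have h1 : orderOf x ∣ q ^ k := orderOf_dvd_of_pow_eq_one hk
  apply Nat.Coprime.coprime_dvd_left h1
  apply Nat.Coprime.pow_left
  exact (Nat.coprime_primes hq.out hp.out).2 hqp

theorem pp_ne_bot_iff : pp A p ≠ ⊥ ↔ p ∣ Nat.card A := by
  have h1 := card_pp hA p
  constructor
  · intro hne
    by_contra hnd
    rw [Nat.factorization_eq_zero_of_not_dvd hnd, pow_zero] at h1
    exact hne (Subgroup.card_eq_one.1 h1)
  · intro hd hbot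
    rw [hbot, Subgroup.card_bot] at h1
    have h2 : 0 < (Nat.card A).factorization p :=
      hp.out.factorization_pos_of_dvd Nat.card_pos.ne' hd
    have := Nat.one_lt_pow h2.ne' hp.out.one_lt
    omega

/-- an element of the centre of `A_p` is central in `A` -/
theorem center_pp_le {z : G} (hz : z ∈ pp A p)
    (hzc : z ∈ Subgroup.centralizer (pp A p : Set G)) :
    z ∈ Subgroup.centralizer (A : Set G) := by
  rw [Subgroup.mem_centralizer_iff]
  intro a ha
  obtain ⟨x, hx, y, hy, rfl⟩ := exists_pp_mul_pc hA p ha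
  rw [Subgroup.mem_centralizer_iff] at hzc
  have h1 : x * z = z * x := hzc x hx
  have h2 : z * y = y * z := commute_pp_pc hA p hz hy
  calc x * y * z = x * (y * z) := by group
    _ = x * (z * y) := by rw [h2]
    _ = (x * z) * y := by group
    _ = z * x * y := by rw [h1]
    _ = z * (x * y) := by group

/-- a nontrivial `p`-part has a nontrivial element central in `A` -/
theorem exists_central_of_pp_ne_bot (hne : pp A p ≠ ⊥) :
    ∃ z ∈ pp A p, z ≠ 1 ∧ z ∈ Subgroup.centralizer (A : Set G) := by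
  haveI : Nontrivial (pp A p) := (Subgroup.nontrivial_iff_ne_bot _).2 hne
  haveI := (isPGroup_pp hA p).center_nontrivial
  obtain ⟨z, hz⟩ := exists_ne (1 : Subgroup.center (pp A p))
  refine ⟨(z : pp A p), (z : pp A p).2, ?_, ?_⟩
  · intro h
    apply hz
    exact Subtype.ext (Subtype.ext h)
  · apply center_pp_le hA p (z : pp A p).2
    rw [Subgroup.mem_centralizer_iff]
    intro x hx
    have := Subgroup.mem_center_iff.1 z.2 ⟨x, hx⟩
    exact congrArg Subtype.val this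

end nilp

end Cfsg.Agent.Helper4.KW
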