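import Mathlib
import Cfsg.Agent.Helper1.Basic
import Cfsg.Agent.Helper1.Coprime
import Cfsg.Agent.Helper1.HallProduct
import Cfsg.Agent.Helper4.KWa
import Cfsg.Agent.Helper4.KWb

set_option autoImplicit false

/-!
Kegel–Wielandt, part c: transport lemmas (solvable subgroups), coprime normalizer lemma.
-/

namespace Cfsg.Agent.Helper4.KW

open scoped Pointwise
open Cfsg.Agent.Helper1

universe u

variable {G : Type u} [Group G]

theorem mem_normalizer_subgroupOf {L X : Subgroup G} {g : L}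
    (hg : (g : G) ∈ Subgroup.normalizer (X : Set G)) :
    g ∈ Subgroup.normalizer ((X.subgroupOf L : Subgroup L) : Set L) := by
  rw [Subgroup.mem_normalizer_iff] at hg ⊢
  intro h
  rw [Subgroup.mem_subgroupOf, Subgroup.mem_subgroupOf]
  simpa using hg (h : G)

/-- `hall_mul_hall` inside a solvable subgroup `L`. -/
theorem hall_mul_hall_sub [Finite G] (L H K A₀ B₀ : Subgroup G) (hL : Group.IsSolvable L)
    (hH : H ≤ L) (hK : K ≤ L) (hA₀ : A₀ ≤ L) (hB₀ : B₀ ≤ L)
    (hHK : ∀ g ∈ L, ∃ h ∈ H, ∃ k ∈ K, g = h * k)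
    (hAH : H ≤ Subgroup.normalizer (A₀ : Set G)) (hBK : K ≤ Subgroup.normalizer (B₀ : Set G))
    (hAh : (Nat.card A₀).Coprime (A₀.relIndex L)) (hBh : (Nat.card B₀).Coprime (B₀.relIndex L)) :
    ∃ T : Subgroup G, T ≤ L ∧ (T : Set G) = (A₀ : Set G) * (B₀ : Set G) := by
  haveI := hL
  have g1 : ∀ g : L, ∃ h ∈ H.subgroupOf L, ∃ k ∈ K.subgroupOf L, g = h * k := by
    intro g
    obtain ⟨h, hh, k, hk, e⟩ := hHK g g.2
    exact ⟨⟨h, hH hh⟩, hh, ⟨k, hK hk⟩, hk, Subtype.ext e⟩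
  have g2 : H.subgroupOf L ≤ Subgroup.normalizer ((A₀.subgroupOf L : Subgroup L) : Set L) := by
    intro h hh
    exact mem_normalizer_subgroupOf (hAH hh)
  have g3 : K.subgroupOf L ≤ Subgroup.normalizer ((B₀.subgroupOf L : Subgroup L) : Set L) := by
    intro k hk
    exact mem_normalizer_subgroupOf (hBK hk)
  have g4 : (Nat.card (A₀.subgroupOf L)).Coprime (A₀.subgroupOf L).index := by
    rw [card_subgroupOf_of_le hA₀]; exact hAh
  have g5 : (Nat.card (B₀.subgroupOf L)).Coprime (B₀.subgroupOf L).index := by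
    rw [card_subgroupOf_of_le hB₀]; exact hBh
  obtain ⟨T', hT'⟩ := hall_mul_hall (H.subgroupOf L) (K.subgroupOf L) (A₀.subgroupOf L)
    (B₀.subgroupOf L) g1 g2 g3 g4 g5
  refine ⟨T'.map L.subtype, Subgroup.map_subtype_le _, ?_⟩
  ext g
  constructor
  · rintro ⟨t, ht, rfl⟩
    have : t ∈ (T' : Set L) := ht
    rw [hT'] at this
    obtain ⟨a, ha, b, hb, e⟩ := this
    refine ⟨(a : G), ha, (b : G), hb, ?_⟩
    show (a : G) * (b : G) = L.subtype t
    rw [← e]; rfl
  · rintro ⟨a, ha, b, hb, rfl⟩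
    refine ⟨⟨a, hA₀ ha⟩ * ⟨b, hB₀ hb⟩, ?_, rfl⟩
    show _ ∈ (T' : Set L)
    rw [hT']
    exact ⟨⟨a, hA₀ ha⟩, ha, ⟨b, hB₀ hb⟩, hb, rfl⟩

/-- a subgroup of the normalizer of `A` of order prime to the index of `A` lies in `A`. -/
theorem le_of_le_normalizer_of_coprime [Finite G] {X A : Subgroup G}
    (hX : X ≤ Subgroup.normalizer (A : Set G)) (hc : (Nat.card X).Coprime A.index) : X ≤ A := by
  intro x hx
  set N := Subgroup.normalizer (A : Set G) with hN
  have hAN : A ≤ N := Subgroup.le_normalizer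
  haveI hn : (A.subgroupOf N).Normal := Subgroup.normal_in_normalizer
  have h1 : (⟨x, hX hx⟩ : N) ^ (A.subgroupOf N).index ∈ A.subgroupOf N :=
    Subgroup.pow_index_mem _ _
  have h2 : x ^ (A.relIndex N) ∈ A := by
    have := Subgroup.mem_subgroupOf.1 h1
    simpa [Subgroup.relIndex] using this
  have h3 : orderOf x ∣ Nat.card X := by
    have := orderOf_dvd_natCard (⟨x, hx⟩ : X)
    rwa [Subgroup.orderOf_mk] at this
  have h4 : (orderOf x).Coprime (A.relIndex N) :=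
    Nat.Coprime.coprime_dvd_left h3
      (Nat.Coprime.coprime_dvd_right (Subgroup.relIndex_dvd_index_of_le hAN) hc)
  obtain ⟨m, hm⟩ := exists_pow_eq_self_of_coprime h4.symm
  rw [← hm]
  exact A.pow_mem h2 m

end Cfsg.Agent.Helper4.KW
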