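import Mathlib
import Cfsg.Agent.Helper1.Basic
import Cfsg.Agent.Helper1.Coprime
import Cfsg.Agent.Helper1.Kegel
import Cfsg.Agent.Helper1.WielandtNilpHall
import Cfsg.Agent.Helper4.KWa
import Cfsg.Agent.Helper4.KWb
import Cfsg.Agent.Helper4.KWc

set_option autoImplicit false

/-!
Kegel–Wielandt, part d: the minimal counterexample structure and the generation lemma.
-/

namespace Cfsg.Agent.Helper4.KW

open scoped Pointwise
open Cfsg.Agent.Helper1

universe u

variable {G : Type u} [Group G]

/-- A minimal counterexample to Wielandt's theorem, after the first reductions. -/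
structure MinCE (A B : Subgroup G) : Prop where
  fac : Fac A B
  nilA : Group.IsNilpotent A
  nilB : Group.IsNilpotent B
  cop : (Nat.card A).Coprime (Nat.card B)
  simple : IsSimpleGroup G
  nonsolv : ¬ Group.IsSolvable G
  npA : ∀ p : ℕ, p.Prime → ¬ IsPGroup p A
  npB : ∀ p : ℕ, p.Prime → ¬ IsPGroup p B
  ih : ∀ (H A' B' : Subgroup G), H ≠ ⊤ → Group.IsNilpotent A' → Group.IsNilpotent B' →
    A' ≤ H → B' ≤ H → (∀ h ∈ H, ∃ a ∈ A', ∃ b ∈ B', h = a * b) → Group.IsSolvable H

theorem isNilpotent_conj {A : Subgroup G} (hA : Group.IsNilpotent A) (g : G) :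
    Group.IsNilpotent (MulAut.conj g • A : Subgroup G) :=
  Group.nilpotent_of_mulEquiv (Subgroup.equivSMul (MulAut.conj g) A)

theorem isPGroup_conj_iff {A : Subgroup G} (p : ℕ) (g : G) :
    IsPGroup p (MulAut.conj g • A : Subgroup G) ↔ IsPGroup p A := by
  constructor
  · intro h
    exact h.of_equiv (Subgroup.equivSMul (MulAut.conj g) A).symm
  · intro h
    exact h.of_equiv (Subgroup.equivSMul (MulAut.conj g) A)

namespace MinCE

variable {A B : Subgroup G}

theorem symm (h : MinCE A B) : MinCE B A :=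
  ⟨h.fac.symm, h.nilB, h.nilA, h.cop.symm, h.simple, h.nonsolv, h.npB, h.npA, h.ih⟩

theorem conj (h : MinCE A B) (x y : G) : MinCE (MulAut.conj x • A) (MulAut.conj y • B) :=
  ⟨h.fac.conj x y, isNilpotent_conj h.nilA x, isNilpotent_conj h.nilB y,
    by rw [card_conj_smul, card_conj_smul]; exact h.cop, h.simple, h.nonsolv,
    fun p hp hP => h.npA p hp ((isPGroup_conj_iff p x).1 hP),
    fun p hp hP => h.npB p hp ((isPGroup_conj_iff p y).1 hP), h.ih⟩

variable [Finite G]

theorem card_mul (h : MinCE A B) : Nat.card A * Nat.card B = Nat.card G :=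
  h.fac.card_eq_of_coprime h.cop

theorem index_eq (h : MinCE A B) : A.index = Nat.card B := by
  have h1 := A.card_mul_index
  rw [← h.card_mul] at h1
  exact Nat.eq_of_mul_eq_mul_left Nat.card_pos h1

theorem hall (h : MinCE A B) : (Nat.card A).Coprime A.index := by
  rw [h.index_eq]; exact h.cop

theorem eq_bot_or_eq_top (h : MinCE A B) {N : Subgroup G} (hN : N.Normal) : N = ⊥ ∨ N = ⊤ :=
  haveI := h.simple
  hN.eq_bot_or_eq_top

theorem center_eq_bot (h : MinCE A B) : Subgroup.center G = ⊥ := by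
  rcases h.eq_bot_or_eq_top (inferInstance : (Subgroup.center G).Normal) with h1 | h1
  · exact h1
  · exfalso
    apply h.nonsolv
    have hc : ∀ a b : G, a * b = b * a := by
      intro a b
      have : b ∈ Subgroup.center G := h1 ▸ Subgroup.mem_top b
      exact (Subgroup.mem_center_iff.1 this a)
    letI : CommGroup G := { (inferInstance : Group G) with mul_comm := hc }
    exact Group.isSolvable_of_comm (fun a b => hc a b)

theorem eq_bot_of_centralizer_eq_top (h : MinCE A B) {Y : Subgroup G}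
    (hY : Subgroup.centralizer (Y : Set G) = ⊤) : Y = ⊥ := by
  rw [eq_bot_iff, ← h.center_eq_bot]
  intro y hy
  rw [Subgroup.mem_center_iff]
  intro g
  have hg : g ∈ Subgroup.centralizer (Y : Set G) := hY ▸ Subgroup.mem_top g
  rw [Subgroup.mem_centralizer_iff] at hg
  exact (hg y hy).symm

theorem eq_bot_of_normalizer_eq_top (h : MinCE A B) {Y : Subgroup G}
    (hY : Subgroup.normalizer (Y : Set G) = ⊤) (hne : Y ≠ ⊤) : Y = ⊥ := by
  rcases h.eq_bot_or_eq_top (Subgroup.normalizer_eq_top_iff.1 hY) with h1 | h1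
  · exact h1
  · exact absurd h1 hne

theorem A_ne_top (h : MinCE A B) : A ≠ ⊤ := by
  intro htop
  apply h.nonsolv
  have hn : Group.IsNilpotent (⊤ : Subgroup G) := htop ▸ h.nilA
  haveI : Group.IsNilpotent G := Group.nilpotent_of_mulEquiv Subgroup.topEquiv
  infer_instance

theorem B_ne_top (h : MinCE A B) : B ≠ ⊤ := h.symm.A_ne_top

/-- every `π`-subgroup lies in a conjugate of `A` (Wielandt). -/
theorem le_conj_of_coprime (h : MinCE A B) {X : Subgroup G}
    (hX : (Nat.card X).Coprime (Nat.card B)) : ∃ g : G, X ≤ MulAut.conj g • A := by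
  apply wielandt_nilpotent_hall A X h.nilA h.hall
  intro p hp hpX
  have h1 : p ∣ Nat.card A * Nat.card B := by
    rw [h.card_mul]; exact hpX.trans (Subgroup.card_subgroup_dvd_card X)
  rcases (Nat.Prime.dvd_mul hp).1 h1 with h2 | h2
  · exact h2
  · exfalso
    have := Nat.Coprime.eq_one_of_dvd (Nat.Coprime.coprime_dvd_left hpX hX) h2
    exact hp.one_lt.ne' this

/-- a `π`-subgroup of `N_G(A)` lies in `A`. -/
theorem le_of_le_normalizer (h : MinCE A B) {X : Subgroup G}
    (hXN : X ≤ Subgroup.normalizer (A : Set G))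
    (hX : (Nat.card X).Coprime (Nat.card B)) : X ≤ A :=
  le_of_le_normalizer_of_coprime hXN (by rw [h.index_eq]; exact hX)

theorem pp_relIndex (h : MinCE A B) (r : ℕ) [Fact r.Prime] :
    (pp A r).relIndex A = Nat.card (pc A r) := by
  have h1 := relIndex_mul_card_of_le (pp_le A r)
  have h2 := card_pp_mul_card_pc h.nilA r
  rw [← h2, mul_comm] at h1
  exact Nat.eq_of_mul_eq_mul_left Nat.card_pos h1

theorem pp_hall (h : MinCE A B) (r : ℕ) [hr : Fact r.Prime] :
    (Nat.card (pp A r)).Coprime (pp A r).index := by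
  by_cases hd : r ∣ Nat.card A
  · rw [← Subgroup.relIndex_mul_index (pp_le A r), h.pp_relIndex, h.index_eq, card_pp h.nilA r]
    apply Nat.Coprime.pow_left
    apply Nat.Coprime.mul_right
    · exact (card_pc_coprime h.nilA r).symm
    · rw [Nat.Prime.coprime_iff_not_dvd hr.out]
      intro hb
      have := Nat.Coprime.eq_one_of_dvd (Nat.Coprime.coprime_dvd_left hd h.cop) hb
      exact hr.out.one_lt.ne' this
  · have : pp A r = ⊥ := by
      by_contra hne
      exact hd ((pp_ne_bot_iff h.nilA r).1 hne)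
    rw [this, Subgroup.card_bot]
    exact Nat.coprime_one_left _

theorem pp_ne_self (h : MinCE A B) (r : ℕ) [hr : Fact r.Prime] : pp A r ≠ A := by
  intro he
  apply h.npA r hr.out
  rw [← he]
  exact isPGroup_pp h.nilA r

theorem card_pp_lt (h : MinCE A B) (r : ℕ) [hr : Fact r.Prime] :
    Nat.card (pp A r) < Nat.card A :=
  card_lt_card_of_lt (lt_of_le_of_ne (pp_le A r) (h.pp_ne_self r))

/-- for every prime `t` there is another prime `u` with `A_u ≠ 1`. -/
theorem exists_other_prime (h : MinCE A B) (t : ℕ) :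
    ∃ u : ℕ, ∃ _ : Fact u.Prime, u ≠ t ∧ pp A u ≠ ⊥ := by
  by_contra hcon
  push Not at hcon
  by_cases ht : t.Prime
  · apply h.npA t ht
    haveI : Fact t.Prime := ⟨ht⟩
    rw [IsPGroup.iff_card]
    -- all prime divisors of `|A|` equal `t`
    refine ⟨(Nat.card A).primeFactorsList.length, ?_⟩
    apply Nat.eq_prime_pow_of_unique_prime_dvd Nat.card_pos.ne'
    intro u hu hud
    by_contra hne
    haveI : Fact u.Prime := ⟨hu⟩
    have := hcon u ⟨hu⟩ hne
    exact ((pp_ne_bot_iff h.nilA u).2 hud) this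
  · -- `t` not prime: any prime divisor of `|A|` works
    have hA1 : Nat.card A ≠ 1 := by
      intro h1
      have : A = ⊥ := Subgroup.card_eq_one.1 h1
      apply h.npA 2 Nat.prime_two
      rw [this]
      exact IsPGroup.of_bot
    obtain ⟨u, hu, hud⟩ := Nat.exists_prime_and_dvd hA1
    haveI : Fact u.Prime := ⟨hu⟩
    have hne : u ≠ t := by rintro rfl; exact ht hu
    exact ((pp_ne_bot_iff h.nilA u).2 hud) (hcon u ⟨hu⟩ hne)

/-- **Generation**: `A_r` and `B_s` generate `G`. -/
theorem gen (h : MinCE A B) (r s : ℕ) [hr : Fact r.Prime] [hs : Fact s.Prime]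
    (hAr : pp A r ≠ ⊥) (hBs : pp B s ≠ ⊥) : pp A r ⊔ pp B s = ⊤ := by
  by_contra hne
  set H := pp A r ⊔ pp B s with hH
  set N := Subgroup.normalizer (H : Set G) with hN
  have hHN : H ≤ N := Subgroup.le_normalizer
  have hNtop : N ≠ ⊤ := by
    intro htop
    have := h.eq_bot_of_normalizer_eq_top htop hne
    apply hAr
    rw [eq_bot_iff, ← this]
    exact le_sup_left
  have hfacN : ∀ g ∈ N, ∃ a ∈ A ⊓ N, ∃ b ∈ B ⊓ N, g = a * b := fun g hg =>
    h.fac.normalizer_sup (le_normalizer_pp A r) (le_normalizer_pp B s) hg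
  have hNsolv : Group.IsSolvable N :=
    h.ih N (A ⊓ N) (B ⊓ N) hNtop (isNilpotent_of_le inf_le_left h.nilA)
      (isNilpotent_of_le inf_le_left h.nilB) inf_le_right inf_le_right hfacN
  obtain ⟨T, hTN, hT⟩ := hall_mul_hall_sub N (A ⊓ N) (B ⊓ N) (pp A r) (pp B s) hNsolv
    inf_le_right inf_le_right (le_sup_left.trans hHN) (le_sup_right.trans hHN) hfacN
    (inf_le_left.trans (le_normalizer_pp A r)) (inf_le_left.trans (le_normalizer_pp B s))
    (Nat.Coprime.coprime_dvd_right (Subgroup.relIndex_dvd_index_of_le (le_sup_left.trans hHN))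
      (h.pp_hall r))
    (Nat.Coprime.coprime_dvd_right (Subgroup.relIndex_dvd_index_of_le (le_sup_right.trans hHN))
      (h.symm.pp_hall s))
  -- the order of `T`
  have hTcard : Nat.card T < Nat.card G := by
    have h1 : Nat.card T ≤ Nat.card (pp A r) * Nat.card (pp B s) := by
      have h2 : Nat.card T = Nat.card ((pp A r : Set G) * (pp B s : Set G) : Set G) := by
        rw [← hT]; rfl
      rw [h2]
      exact Set.natCard_mul_le
    have h3 : Nat.card (pp B s) ≤ Nat.card B := Subgroup.card_le_of_le (pp_le B s)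
    have h4 := h.card_pp_lt r
    calc Nat.card T ≤ Nat.card (pp A r) * Nat.card (pp B s) := h1
      _ ≤ Nat.card (pp A r) * Nat.card B := Nat.mul_le_mul_left _ h3
      _ < Nat.card A * Nat.card B := Nat.mul_lt_mul_of_pos_right h4 Nat.card_pos
      _ = Nat.card G := h.card_mul
  obtain ⟨M, hMn, hMtop, hM⟩ := kegel (pp A r) (pp B s) (fun x => by
    obtain ⟨S, hSc, hS⟩ := h.fac.exists_mul_conj (le_normalizer_pp A r) (le_normalizer_pp B s) hT x
    refine ⟨S, ?_, hS⟩
    intro htop
    rw [htop, Subgroup.card_top] at hSc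
    omega)
  rcases h.eq_bot_or_eq_top hMn with h1 | h1
  · rcases hM with h2 | h2
    · exact hAr (eq_bot_iff.2 (h1 ▸ h2))
    · exact hBs (eq_bot_iff.2 (h1 ▸ h2))
  · exact hMtop h1

end MinCE

end Cfsg.Agent.Helper4.KW
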