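import Mathlib
import Cfsg.Agent.Helper1.Basic
import Cfsg.Agent.Helper1.Coprime
import Cfsg.Agent.Helper1.WielandtNilpHall
import Cfsg.Agent.Helper4.KWa
import Cfsg.Agent.Helper4.KWb
import Cfsg.Agent.Helper4.KWc
import Cfsg.Agent.Helper4.KWd

set_option autoImplicit false

/-!
Kegel–Wielandt, part e: every proper overgroup of `A` normalizes `A`.
-/

namespace Cfsg.Agent.Helper4.KW

open scoped Pointwise
open Cfsg.Agent.Helper1

universe u

variable {G : Type u} [Group G]

/-- the core of `A` in `H` -/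
def coreIn (H A : Subgroup G) : Subgroup G := ⨅ x : H, MulAut.conj (x : G) • A

theorem mem_coreIn {H A : Subgroup G} {g : G} :
    g ∈ coreIn H A ↔ ∀ x ∈ H, g ∈ MulAut.conj x • A := by
  unfold coreIn
  rw [Subgroup.mem_iInf]
  constructor
  · intro h x hx; exact h ⟨x, hx⟩
  · intro h x; exact h x x.2

theorem coreIn_le (H A : Subgroup G) : coreIn H A ≤ A := by
  intro g hg
  have := mem_coreIn.1 hg 1 H.one_mem
  rwa [map_one, one_smul] at this

theorem le_normalizer_coreIn (H A : Subgroup G) :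
    H ≤ Subgroup.normalizer (coreIn H A : Set G) := by
  intro y hy
  apply mem_normalizer_of_conj_smul_eq
  have key : ∀ z ∈ H, MulAut.conj z • coreIn H A ≤ coreIn H A := by
    intro z hz g hg
    rw [mem_conj_smul] at hg
    rw [mem_coreIn]
    intro x hx
    have h1 := mem_coreIn.1 hg (z⁻¹ * x) (H.mul_mem (H.inv_mem hz) hx)
    rw [mem_conj_smul] at h1 ⊢
    have : (z⁻¹ * x)⁻¹ * (z⁻¹ * g * z) * (z⁻¹ * x) = x⁻¹ * g * x := by group
    rwa [this] at h1
  apply le_antisymm (key y hy)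
  have h2 := key y⁻¹ (H.inv_mem hy)
  have h3 := Subgroup.pointwise_smul_le_pointwise_smul_iff (a := MulAut.conj y) |>.2 h2
  rwa [← mul_smul, ← map_mul, mul_inv_cancel, map_one, one_smul] at h3

theorem le_coreIn {H A X : Subgroup G} (hXA : X ≤ A)
    (hHX : H ≤ Subgroup.normalizer (X : Set G)) : X ≤ coreIn H A := by
  intro g hg
  rw [mem_coreIn]
  intro x hx
  have h1 : MulAut.conj x • X = X := conj_smul_eq_of_mem_normalizer (hHX hx)
  have h2 : g ∈ MulAut.conj x • X := by rw [h1]; exact hg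
  exact Subgroup.pointwise_smul_le_pointwise_smul_iff.2 hXA h2

theorem commutator_lt_of_isSolvable {D : Subgroup G} (hD : Group.IsSolvable D) (hne : D ≠ ⊥) :
    ⁅D, D⁆ < D := by
  haveI := hD
  rw [← Subgroup.nontrivial_iff_ne_bot] at hne
  haveI := hne
  have h1 : _root_.commutator D < ⊤ := Group.IsSolvable.commutator_lt_top_of_nontrivial D
  have h2 : (_root_.commutator D).map D.subtype = ⁅D, D⁆ := by
    rw [_root_.commutator_def, Subgroup.map_commutator, ← MonoidHom.range_eq_map,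
      Subgroup.range_subtype]
  rw [← h2]
  calc (_root_.commutator D).map D.subtype < (⊤ : Subgroup D).map D.subtype :=
        Subgroup.map_subtype_lt_map_subtype.2 h1
    _ = D := by rw [← MonoidHom.range_eq_map, Subgroup.range_subtype]

/-- `(d a)^k ∈ D a^k` when `a` normalizes `D`. -/
theorem mul_pow_mem_of_normalizer {D : Subgroup G} {d a : G} (hd : d ∈ D)
    (ha : a ∈ Subgroup.normalizer (D : Set G)) (k : ℕ) : ∃ d' ∈ D, (d * a) ^ k = d' * a ^ k := by
  induction k with
  | zero => exact ⟨1, D.one_mem, by simp⟩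
  | succ k ih =>
    obtain ⟨d', hd', e⟩ := ih
    have hak : a ^ k ∈ Subgroup.normalizer (D : Set G) := Subgroup.pow_mem _ ha k
    have h1 : a ^ k * d * (a ^ k)⁻¹ ∈ D := (Subgroup.mem_normalizer_iff.1 hak d).1 hd
    refine ⟨d' * (a ^ k * d * (a ^ k)⁻¹), D.mul_mem hd' h1, ?_⟩
    rw [pow_succ, e, pow_succ]
    group

theorem normalizer_le_normalizer_centralizer (F : Subgroup G) :
    Subgroup.normalizer (F : Set G) ≤
      Subgroup.normalizer ((Subgroup.centralizer (F : Set G) : Subgroup G) : Set G) := by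
  have key : ∀ g ∈ Subgroup.normalizer (F : Set G), ∀ c ∈ Subgroup.centralizer (F : Set G),
      g * c * g⁻¹ ∈ Subgroup.centralizer (F : Set G) := by
    intro g hg c hc
    rw [Subgroup.mem_centralizer_iff] at hc ⊢
    intro f hf
    have h1 : g⁻¹ * f * g ∈ F := by
      have := (Subgroup.mem_normalizer_iff.1 (Subgroup.inv_mem _ hg) f).1 hf
      simpa using this
    have h2 := hc _ h1
    calc f * (g * c * g⁻¹) = g * ((g⁻¹ * f * g) * c) * g⁻¹ := by group
      _ = g * (c * (g⁻¹ * f * g)) * g⁻¹ := by rw [h2]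
      _ = g * c * g⁻¹ * f := by group
  intro g hg
  rw [Subgroup.mem_normalizer_iff]
  intro c
  constructor
  · exact key g hg c
  · intro hc
    have := key g⁻¹ (Subgroup.inv_mem _ hg) _ hc
    have e : g⁻¹ * (g * c * g⁻¹) * g⁻¹⁻¹ = c := by group
    rwa [e] at this

theorem le_normalizer_commutator {X D : Subgroup G}
    (hX : X ≤ Subgroup.normalizer (D : Set G)) :
    X ≤ Subgroup.normalizer ((⁅D, D⁆ : Subgroup G) : Set G) := by
  intro x hx
  apply mem_normalizer_of_conj_smul_eq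
  rw [conj_smul_eq_map, Subgroup.map_commutator, ← conj_smul_eq_map,
    conj_smul_eq_of_mem_normalizer (hX hx)]

variable [Finite G] {A B : Subgroup G}

namespace MinCE

/-- no nontrivial `s`-subgroup (`s ∈ π'`) is normalized by a nontrivial `A_u`. -/
theorem eq_bot_of_pp_le_normalizer (h : MinCE A B) {Y : Subgroup G} {s : ℕ} [hs : Fact s.Prime]
    (hsB : s ∣ Nat.card B) (hYs : IsPGroup s Y) {u : ℕ} [hu : Fact u.Prime] (hAu : pp A u ≠ ⊥)
    (hN : pp A u ≤ Subgroup.normalizer (Y : Set G)) : Y = ⊥ := by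
  have hYtop : Y ≠ ⊤ := by
    intro htop
    apply h.npA s hs.out
    have h1 : IsPGroup s (⊤ : Subgroup G) := htop ▸ hYs
    intro a
    obtain ⟨k, hk⟩ := h1 ⟨(a : G), Subgroup.mem_top _⟩
    exact ⟨k, Subtype.ext (by simpa using congrArg Subtype.val hk)⟩
  have hYcop : (Nat.card Y).Coprime (Nat.card A) := by
    obtain ⟨k, hk⟩ := IsPGroup.iff_card.1 hYs
    rw [hk]
    apply Nat.Coprime.pow_left
    rw [Nat.Prime.coprime_iff_not_dvd hs.out]
    intro hsA
    have := Nat.Coprime.eq_one_of_dvd (Nat.Coprime.coprime_dvd_left hsA h.cop) hsB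
    exact hs.out.one_lt.ne' this
  obtain ⟨g, hg⟩ := h.symm.le_conj_of_coprime hYcop
  set B' := MulAut.conj g • B with hB'
  have hB'nil : Group.IsNilpotent B' := isNilpotent_conj h.nilB g
  have h' : MinCE A B' := by
    have := h.conj 1 g
    rwa [map_one, one_smul] at this
  have hYpp : Y ≤ pp B' s := by
    intro y hy
    rw [mem_pp hB'nil s]
    refine ⟨hg hy, ?_⟩
    obtain ⟨k, hk⟩ := hYs ⟨y, hy⟩
    exact ⟨k, by simpa using congrArg Subtype.val hk⟩
  obtain ⟨v, hv, hvs, hB'v⟩ := h'.symm.exists_other_prime s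
  have hcent : pp B' v ≤ Subgroup.normalizer (Y : Set G) := by
    refine le_trans ?_ (Subgroup.centralizer_le_normalizer _)
    exact ((pp_le_pc hB'nil s hvs).trans (pc_le_centralizer_pp hB'nil s)).trans
      (Subgroup.centralizer_le hYpp)
  have htop : Subgroup.normalizer (Y : Set G) = ⊤ := by
    rw [eq_top_iff, ← h'.gen u v hAu hB'v]
    exact sup_le hN hcent
  exact h.eq_bot_of_normalizer_eq_top htop hYtop

/-- a `π`-subgroup normalized by `A` lies in `A`. -/
theorem le_of_normalized (h : MinCE A B) {D : Subgroup G}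
    (hAD : A ≤ Subgroup.normalizer (D : Set G)) (hD : (Nat.card D).Coprime (Nat.card B)) :
    D ≤ A := by
  set E := D ⊔ A with hE
  have hBE : B ⊓ E = ⊥ := by
    rw [eq_bot_iff]
    intro y hy
    rw [Subgroup.mem_bot]
    obtain ⟨d, hd, a, ha, e⟩ := mem_sup_of_le_normalizer hAD hy.2
    obtain ⟨d', hd', e'⟩ := mul_pow_mem_of_normalizer hd (hAD ha) (Nat.card A)
    have ha1 : a ^ Nat.card A = 1 := by
      have h0 : (⟨a, ha⟩ : A) ^ Nat.card A = 1 := pow_card_eq_one'
      have := congrArg Subtype.val h0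
      rwa [Subgroup.coe_pow, Subgroup.coe_one] at this
    rw [← e, ha1, mul_one] at e'
    have h1 : y ^ Nat.card A ∈ D ⊓ B := ⟨e' ▸ hd', B.pow_mem hy.1 _⟩
    rw [inf_eq_bot_of_coprime_card hD, Subgroup.mem_bot] at h1
    have h2 : orderOf y ∣ Nat.card A := orderOf_dvd_of_pow_eq_one h1
    have h3 : orderOf y ∣ Nat.card B := by
      have := orderOf_dvd_natCard (⟨y, hy.1⟩ : B)
      rwa [Subgroup.orderOf_mk] at this
    have h4 := Nat.Coprime.eq_one_of_dvd (Nat.Coprime.coprime_dvd_left h2 h.cop) h3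
    exact orderOf_eq_one_iff.1 h4
  intro d hd
  have hdE : d ∈ E := Subgroup.mem_sup_left hd
  obtain ⟨a, ha, b, hb, e⟩ := h.fac.mem_of_le_left (le_sup_right : A ≤ E) hdE
  rw [hBE, Subgroup.mem_bot] at hb
  rw [e, hb, mul_one]; exact ha

/-- a nilpotent subgroup normalized by `A` is a `π`-group. -/
theorem coprime_of_nilpotent_normalized (h : MinCE A B) {D : Subgroup G}
    (hDnil : Group.IsNilpotent D) (hAD : A ≤ Subgroup.normalizer (D : Set G)) :
    (Nat.card D).Coprime (Nat.card B) := by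
  apply Nat.coprime_of_dvd
  intro s hs hsD hsB
  haveI : Fact s.Prime := ⟨hs⟩
  obtain ⟨u, hu, -, hAu⟩ := h.exists_other_prime 0
  have hne : pp D s ≠ ⊥ := (pp_ne_bot_iff hDnil s).2 hsD
  apply hne
  apply h.eq_bot_of_pp_le_normalizer hsB (isPGroup_pp hDnil s) hAu
  exact ((pp_le A u).trans hAD).trans (normalizer_le_normalizer_pp D s)

section overgroup

variable {H : Subgroup G}

/-- normal `π`-subgroups of `H ≥ A` lie in the core of `A`. -/
theorem le_coreIn_of_coprime (h : MinCE A B) (hAH : A ≤ H) {D : Subgroup G}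
    (hHD : H ≤ Subgroup.normalizer (D : Set G)) (hD : (Nat.card D).Coprime (Nat.card B)) :
    D ≤ coreIn H A :=
  le_coreIn (h.le_of_normalized (hAH.trans hHD) hD) hHD

theorem le_coreIn_of_nilpotent (h : MinCE A B) (hAH : A ≤ H) {D : Subgroup G}
    (hHD : H ≤ Subgroup.normalizer (D : Set G)) (hDnil : Group.IsNilpotent D) :
    D ≤ coreIn H A :=
  h.le_coreIn_of_coprime hAH hHD (h.coprime_of_nilpotent_normalized hDnil (hAH.trans hHD))

theorem isSolvable_of_ge (h : MinCE A B) (hAH : A ≤ H) (hH : H ≠ ⊤) : Group.IsSolvable H :=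
  h.ih H A (B ⊓ H) hH h.nilA (isNilpotent_of_le inf_le_left h.nilB) hAH inf_le_right
    (fun _ hg => h.fac.mem_of_le_left hAH hg)

/-- `C_H(O_π(H)) ≤ O_π(H)`. -/
theorem centralizer_coreIn_le (h : MinCE A B) (hAH : A ≤ H) (hH : H ≠ ⊤) :
    H ⊓ Subgroup.centralizer (coreIn H A : Set G) ≤ coreIn H A := by
  set F := coreIn H A with hF
  set C := H ⊓ Subgroup.centralizer (F : Set G) with hC
  have hHsolv := h.isSolvable_of_ge hAH hH
  have hHC : H ≤ Subgroup.normalizer (C : Set G) :=
    le_normalizer_inf Subgroup.le_normalizer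
      ((le_normalizer_coreIn H A).trans (normalizer_le_normalizer_centralizer F))
  by_contra hCF
  let 𝒟 : Set (Subgroup G) := {D | H ≤ Subgroup.normalizer (D : Set G) ∧ D ≤ C ∧ ¬ D ≤ F}
  have hC𝒟 : C ∈ 𝒟 := ⟨hHC, le_rfl, hCF⟩
  obtain ⟨D, -, hDmin⟩ := (Set.toFinite 𝒟).exists_le_minimal hC𝒟
  obtain ⟨hDn, hDC, hDF⟩ : D ∈ 𝒟 := hDmin.prop
  have hDne : D ≠ ⊥ := by
    rintro rfl
    exact hDF bot_le
  have hDsolv : Group.IsSolvable D := isSolvable_of_le (hDC.trans inf_le_left) hHsolv
  have hlt : ⁅D, D⁆ < D := commutator_lt_of_isSolvable hDsolv hDne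
  have hDDF : ⁅D, D⁆ ≤ F := by
    by_contra hnot
    have hmem : ⁅D, D⁆ ∈ 𝒟 := ⟨le_normalizer_commutator hDn, hlt.le.trans hDC, hnot⟩
    exact absurd (hDmin.2 hmem hlt.le) (not_le_of_gt hlt)
  have hDnil : Group.IsNilpotent D := by
    rw [Subgroup.isNilpotent_iff_lowerCentralSeries]
    refine ⟨2, ?_⟩
    rw [Subgroup.lowerCentralSeries_succ, Subgroup.lowerCentralSeries_succ,
      Subgroup.lowerCentralSeries_zero, Subgroup.commutator_eq_bot_iff_le_centralizer]
    exact hDDF.trans (Subgroup.le_centralizer_iff.1 (hDC.trans inf_le_right))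
  exact hDF (h.le_coreIn_of_nilpotent hAH hDn hDnil)

/-- conjugating by powers of `y`, when `y⁻¹ a y = a c` with `c` commuting with `y`. -/
theorem conj_pow_eq {a c y : G} (hc : c * y = y * c) (e : y⁻¹ * a * y = a * c) (k : ℕ) :
    (y ^ k)⁻¹ * a * y ^ k = a * c ^ k := by
  induction k with
  | zero => simp
  | succ k ih =>
    have hck : c ^ k * y = y * c ^ k := by
      have : Commute c y := hc
      exact (this.pow_left k).eq
    calc (y ^ (k + 1))⁻¹ * a * y ^ (k + 1) = y⁻¹ * ((y ^ k)⁻¹ * a * y ^ k) * y := by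
          rw [pow_succ]; group
      _ = y⁻¹ * (a * c ^ k) * y := by rw [ih]
      _ = (y⁻¹ * a * y) * (y⁻¹ * (c ^ k * y)) := by group
      _ = (a * c) * (y⁻¹ * (y * c ^ k)) := by rw [e, hck]
      _ = a * c ^ (k + 1) := by rw [pow_succ']; group

theorem pp_le_coreIn (h : MinCE A B) (hAH : A ≤ H) (hH : H ≠ ⊤) (t : ℕ) [ht : Fact t.Prime] :
    pp A t ≤ coreIn H A := by
  set F := coreIn H A with hF
  have hFA : F ≤ A := coreIn_le H A
  have hFnil : Group.IsNilpotent F := isNilpotent_of_le hFA h.nilA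
  have hHF : H ≤ Subgroup.normalizer (F : Set G) := le_normalizer_coreIn H A
  set N₁ := H ⊓ Subgroup.centralizer (pc F t : Set G) with hN₁
  set N₂ := H ⊓ Subgroup.centralizer (pp F t : Set G) with hN₂
  have hHN₁ : H ≤ Subgroup.normalizer (N₁ : Set G) :=
    le_normalizer_inf Subgroup.le_normalizer
      ((hHF.trans (normalizer_le_normalizer_pc F t)).trans
        (normalizer_le_normalizer_centralizer _))
  have hHN₂ : H ≤ Subgroup.normalizer (N₂ : Set G) :=
    le_normalizer_inf Subgroup.le_normalizer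
      ((hHF.trans (normalizer_le_normalizer_pp F t)).trans
        (normalizer_le_normalizer_centralizer _))
  have hN₁₂ : N₁ ⊓ N₂ ≤ H ⊓ Subgroup.centralizer (F : Set G) := by
    intro g hg
    refine Subgroup.mem_inf.2 ⟨hg.1.1, ?_⟩
    rw [Subgroup.mem_centralizer_iff]
    intro f hf
    obtain ⟨x, hx, y, hy, rfl⟩ := exists_pp_mul_pc hFnil t hf
    have h1 : x * g = g * x := (Subgroup.mem_centralizer_iff.1 hg.2.2) x hx
    have h2 : y * g = g * y := (Subgroup.mem_centralizer_iff.1 hg.1.2) y hy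
    calc x * y * g = x * (y * g) := by group
      _ = x * (g * y) := by rw [h2]
      _ = (x * g) * y := by group
      _ = g * x * y := by rw [h1]
      _ = g * (x * y) := by group
  have hppN₁ : pp A t ≤ N₁ := by
    intro a ha
    refine Subgroup.mem_inf.2 ⟨hAH (pp_le A t ha), ?_⟩
    rw [Subgroup.mem_centralizer_iff]
    intro f hf
    exact (commute_pp_pc h.nilA t ha (pc_mono hFA t hf)).symm
  have hN₁cop : (Nat.card N₁).Coprime (Nat.card B) := by
    apply Nat.coprime_of_dvd
    intro s hs hsN hsB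
    haveI : Fact s.Prime := ⟨hs⟩
    obtain ⟨y', hy'⟩ := exists_prime_orderOf_dvd_card' s hsN
    have hyN : (y' : G) ∈ N₁ := y'.2
    have hyo : orderOf (y' : G) = s := by rw [Subgroup.orderOf_coe]; exact hy'
    set y : G := (y' : G) with hy
    obtain ⟨u, hu, hut, hAu⟩ := h.exists_other_prime t
    have huA : u ∣ Nat.card A := (pp_ne_bot_iff h.nilA u).1 hAu
    have hsu : s ≠ u := by
      rintro rfl
      have := Nat.Coprime.eq_one_of_dvd (Nat.Coprime.coprime_dvd_left huA h.cop) hsB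
      exact hs.one_lt.ne' this
    -- `y` centralizes `A_u`
    have hcomm : ∀ a ∈ pp A u, a * y = y * a := by
      intro a ha
      have haA : a ∈ A := pp_le A u ha
      have haH : a ∈ H := hAH haA
      have haN₂ : a ∈ N₂ := by
        refine Subgroup.mem_inf.2 ⟨haH, ?_⟩
        rw [Subgroup.mem_centralizer_iff]
        intro f hf
        exact commute_pp_pc h.nilA t (pp_mono hFA t hf) (pp_le_pc h.nilA t hut ha)
      set c := a⁻¹ * (y⁻¹ * a * y) with hc
      have hcN₁ : c ∈ N₁ := by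
        have h1 : a⁻¹ * y⁻¹ * a⁻¹⁻¹ ∈ N₁ :=
          (Subgroup.mem_normalizer_iff.1 (hHN₁ (H.inv_mem haH)) y⁻¹).1 (N₁.inv_mem hyN)
        have h2 : c = a⁻¹ * y⁻¹ * a⁻¹⁻¹ * y := by rw [hc]; group
        rw [h2]; exact N₁.mul_mem h1 hyN
      have hcN₂ : c ∈ N₂ := by
        have h1 : y⁻¹ * a * y⁻¹⁻¹ ∈ N₂ :=
          (Subgroup.mem_normalizer_iff.1 (hHN₂ (H.inv_mem hyN.1)) a).1 haN₂
        have h2 : c = a⁻¹ * (y⁻¹ * a * y⁻¹⁻¹) := by rw [hc]; group
        rw [h2]; exact N₂.mul_mem (N₂.inv_mem haN₂) h1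
      have hcC := hN₁₂ ⟨hcN₁, hcN₂⟩
      have hcF : c ∈ F := h.centralizer_coreIn_le hAH hH hcC
      have e : y⁻¹ * a * y = a * c := by rw [hc]; group
      obtain ⟨k, hk⟩ := ((mem_pp h.nilA u).1 ha).2
      have hac : a * c ∈ pp A u := by
        rw [mem_pp h.nilA u]
        refine ⟨A.mul_mem haA (hFA hcF), k, ?_⟩
        rw [← e]
        have : (y⁻¹ * a * y) ^ (u ^ k) = y⁻¹ * a ^ (u ^ k) * y := by
          have := conj_pow (a := y⁻¹) (b := a) (i := u ^ k)
          simpa using this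
        rw [this, hk]; group
      have hcu : c ∈ pp A u := by
        have : c = a⁻¹ * (a * c) := by group
        rw [this]; exact (pp A u).mul_mem ((pp A u).inv_mem ha) hac
      obtain ⟨j, hj⟩ := ((mem_pp h.nilA u).1 hcu).2
      have hcFu : c ∈ pp F u := (mem_pp hFnil u).2 ⟨hcF, j, hj⟩
      have hcy : c * y = y * c :=
        (Subgroup.mem_centralizer_iff.1 hyN.2) c (pp_le_pc hFnil t hut hcFu)
      have h3 := conj_pow_eq hcy e s
      have hys : y ^ s = 1 := by rw [← hyo]; exact pow_orderOf_eq_one y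
      rw [hys] at h3
      have hcs : c ^ s = 1 := by
        have : a = a * c ^ s := by simpa using h3
        exact (mul_eq_left.1 this.symm)
      have h4 : orderOf c ∣ s := orderOf_dvd_of_pow_eq_one hcs
      have h5 : orderOf c ∣ u ^ j := orderOf_dvd_of_pow_eq_one hj
      have h6 : (s).Coprime (u ^ j) :=
        Nat.Coprime.pow_right _ ((Nat.coprime_primes hs hu.out).2 hsu)
      have h7 : orderOf c = 1 := Nat.eq_one_of_dvd_coprimes h6 h4 h5
      rw [orderOf_eq_one_iff] at h7
      rw [h7, mul_one] at e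
      calc a * y = y * (y⁻¹ * a * y) := by group
        _ = y * a := by rw [e]
    set Y := Subgroup.zpowers y with hY
    have hYs : IsPGroup s Y := by
      rw [IsPGroup.iff_card]
      refine ⟨1, ?_⟩
      rw [pow_one, Nat.card_zpowers, hyo]
    have hYN : pp A u ≤ Subgroup.normalizer (Y : Set G) := by
      refine le_trans ?_ (Subgroup.centralizer_le_normalizer _)
      intro a ha
      rw [Subgroup.mem_centralizer_iff]
      intro z hz
      obtain ⟨m, rfl⟩ := Subgroup.mem_zpowers_iff.1 hz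
      have : Commute a y := hcomm a ha
      exact ((this.zpow_right m).eq).symm
    have hYbot := h.eq_bot_of_pp_le_normalizer hsB hYs hAu hYN
    have hy1 : y = 1 := by
      have : y ∈ Y := Subgroup.mem_zpowers y
      rwa [hYbot, Subgroup.mem_bot] at this
    rw [hy1, orderOf_one] at hyo
    exact hs.one_lt.ne' hyo.symm
  exact hppN₁.trans (h.le_coreIn_of_coprime hAH hHN₁ hN₁cop)

/-- **Every proper overgroup of `A` normalizes `A`.** -/
theorem le_normalizer_of_ge (h : MinCE A B) (hAH : A ≤ H) (hH : H ≠ ⊤) :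
    H ≤ Subgroup.normalizer (A : Set G) := by
  have hFA : coreIn H A ≤ A := coreIn_le H A
  have hdvd : Nat.card A ∣ Nat.card (coreIn H A) := by
    rw [← Nat.factorization_prime_le_iff_dvd Nat.card_pos.ne' Nat.card_pos.ne']
    intro t ht
    haveI : Fact t.Prime := ⟨ht⟩
    have h1 : Nat.card (pp A t) ∣ Nat.card (coreIn H A) :=
      Subgroup.card_dvd_of_le (h.pp_le_coreIn hAH hH t)
    rw [card_pp h.nilA t] at h1
    exact (ht.pow_dvd_iff_le_factorization Nat.card_pos.ne').1 h1
  have heq : coreIn H A = A :=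
    Subgroup.eq_of_le_of_card_ge hFA (Nat.le_of_dvd Nat.card_pos hdvd)
  have := le_normalizer_coreIn H A
  rwa [heq] at this

end overgroup

end MinCE

end Cfsg.Agent.Helper4.KW
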