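import Mathlib
import Cfsg.Agent.Helper1.Basic
import Cfsg.Agent.Helper1.Coprime
import Cfsg.Agent.Helper1.WielandtNilpHall
import Cfsg.Agent.Helper4.KWa
import Cfsg.Agent.Helper4.KWb
import Cfsg.Agent.Helper4.KWc
import Cfsg.Agent.Helper4.KWd
import Cfsg.Agent.Helper4.KWe

set_option autoImplicit false

/-!
Kegel–Wielandt, part f: central elements of `A` lie in a unique conjugate of `A`.
-/

namespace Cfsg.Agent.Helper4.KW

open scoped Pointwise
open Cfsg.Agent.Helper1

universe u

variable {G : Type u} [Group G]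

theorem mem_centralizer_zpowers {g z : G} :
    g ∈ Subgroup.centralizer (Subgroup.zpowers z : Set G) ↔ z * g = g * z := by
  rw [Subgroup.mem_centralizer_iff]
  constructor
  · intro h; exact h z (Subgroup.mem_zpowers z)
  · intro h y hy
    obtain ⟨m, rfl⟩ := Subgroup.mem_zpowers_iff.1 hy
    have : Commute z g := h
    exact (this.zpow_left m).eq

variable [Finite G] {A B : Subgroup G}

namespace MinCE

theorem card_pc_eq (h : MinCE A B) (t : ℕ) [Fact t.Prime] (g : G) :
    Nat.card (pc (MulAut.conj g • A) t) = Nat.card (pc A t) := by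
  have h1 := card_pp_mul_card_pc (isNilpotent_conj h.nilA g) t
  have h2 := card_pp_mul_card_pc h.nilA t
  rw [card_pp (isNilpotent_conj h.nilA g) t, card_conj_smul] at h1
  rw [card_pp h.nilA t] at h2
  have hpos : 0 < t ^ (Nat.card A).factorization t := Nat.pos_of_ne_zero (pow_ne_zero _ (Fact.out : t.Prime).ne_zero)
  exact Nat.eq_of_mul_eq_mul_left hpos (h1.trans h2.symm)

/-- a subgroup of a conjugate of `A` has order prime to `|B|`. -/
theorem coprime_of_le_conj (h : MinCE A B) {X : Subgroup G} {g : G}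
    (hX : X ≤ MulAut.conj g • A) : (Nat.card X).Coprime (Nat.card B) := by
  apply Nat.Coprime.coprime_dvd_left (Subgroup.card_dvd_of_le hX)
  rw [card_conj_smul]; exact h.cop

/-- **T1**: a nontrivial central element of `A` of prime power order lies in no other conjugate
of `A`. -/
theorem conj_eq_of_central_mem (h : MinCE A B) {t : ℕ} [ht : Fact t.Prime] {z : G}
    (hz : z ∈ pp A t) (hz1 : z ≠ 1) (hzc : z ∈ Subgroup.centralizer (A : Set G)) {g : G}
    (hzg : z ∈ MulAut.conj g • A) : MulAut.conj g • A = A := by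
  set C := Subgroup.centralizer (Subgroup.zpowers z : Set G) with hC
  have hAC : A ≤ C := by
    intro a ha
    rw [hC, mem_centralizer_zpowers]
    exact ((Subgroup.mem_centralizer_iff.1 hzc) a ha).symm
  have hCtop : C ≠ ⊤ := by
    intro htop
    have := h.eq_bot_of_centralizer_eq_top htop
    have hz' : z ∈ Subgroup.zpowers z := Subgroup.mem_zpowers z
    rw [this, Subgroup.mem_bot] at hz'
    exact hz1 hz'
  have hCN : C ≤ Subgroup.normalizer (A : Set G) := h.le_normalizer_of_ge hAC hCtop
  set A' := MulAut.conj g • A with hA'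
  have hA'nil : Group.IsNilpotent A' := isNilpotent_conj h.nilA g
  obtain ⟨k, hk⟩ := ((mem_pp h.nilA t).1 hz).2
  have hz' : z ∈ pp A' t := (mem_pp hA'nil t).2 ⟨hzg, k, hk⟩
  have hQC : pc A' t ≤ C := by
    intro y hy
    rw [hC, mem_centralizer_zpowers]
    exact commute_pp_pc hA'nil t hz' hy
  have hQA : pc A' t ≤ A :=
    h.le_of_le_normalizer (hQC.trans hCN) (h.coprime_of_le_conj (pc_le A' t))
  have hQQ : pc A' t ≤ pc A t := by
    intro y hy
    rw [mem_pc h.nilA t]
    exact ⟨hQA hy, ((mem_pc hA'nil t).1 hy).2⟩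
  have hQeq : pc A' t = pc A t :=
    Subgroup.eq_of_le_of_card_ge hQQ (h.card_pc_eq t g).ge
  obtain ⟨u, hu, hut, hAu⟩ := h.exists_other_prime t
  have hQne : pc A t ≠ ⊥ := by
    intro hbot
    apply hAu
    rw [eq_bot_iff, ← hbot]
    exact pp_le_pc h.nilA t hut
  set N := Subgroup.normalizer (pc A t : Set G) with hN
  have hAN : A ≤ N := le_normalizer_pc A t
  have hA'N : A' ≤ N := by
    rw [hN, ← hQeq]; exact le_normalizer_pc A' t
  have hNtop : N ≠ ⊤ := by
    intro htop
    have hQtop : pc A t ≠ ⊤ := by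
      intro h1
      apply h.A_ne_top
      rw [eq_top_iff, ← h1]; exact pc_le A t
    exact hQne (h.eq_bot_of_normalizer_eq_top htop hQtop)
  have hNN : N ≤ Subgroup.normalizer (A : Set G) := h.le_normalizer_of_ge hAN hNtop
  have hA'A : A' ≤ A :=
    h.le_of_le_normalizer (hA'N.trans hNN) (h.coprime_of_le_conj le_rfl)
  exact Subgroup.eq_of_le_of_card_ge hA'A (card_conj_smul g A).ge

/-- **T1'**: a `π`-subgroup containing a nontrivial central element of `A` (of prime power order)
lies in `A`. -/
theorem le_of_central_mem (h : MinCE A B) {t : ℕ} [ht : Fact t.Prime] {z : G}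
    (hz : z ∈ pp A t) (hz1 : z ≠ 1) (hzc : z ∈ Subgroup.centralizer (A : Set G))
    {X : Subgroup G} (hzX : z ∈ X) (hX : (Nat.card X).Coprime (Nat.card B)) : X ≤ A := by
  obtain ⟨g, hg⟩ := h.le_conj_of_coprime hX
  rw [h.conj_eq_of_central_mem hz hz1 hzc (hg hzX)] at hg
  exact hg

end MinCE

end Cfsg.Agent.Helper4.KW
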