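import Mathlib
import Cfsg.Agent.Helper1.Basic
import Cfsg.Agent.Helper1.Coprime
import Cfsg.Agent.Helper1.SZ
import Cfsg.Agent.Helper1.WielandtNilpHall
import Cfsg.Agent.Helper4.KWa
import Cfsg.Agent.Helper4.KWb
import Cfsg.Agent.Helper4.KWc
import Cfsg.Agent.Helper4.KWd
import Cfsg.Agent.Helper4.KWe
import Cfsg.Agent.Helper4.KWf

set_option autoImplicit false

/-!
Kegel–Wielandt, part g: centralizers of elements of `A` commuting with `π'`-elements of `N(A)`.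
-/

namespace Cfsg.Agent.Helper4.KW

open scoped Pointwise
open Cfsg.Agent.Helper1

universe u

variable {G : Type u} [Group G]

/-- counting a factorized subgroup -/
theorem card_mul_of_fac {L X Y : Subgroup G} (hX : X ≤ L) (hY : Y ≤ L) (hd : X ⊓ Y = ⊥)
    (hf : ∀ g ∈ L, ∃ a ∈ X, ∃ b ∈ Y, g = a * b) : Nat.card X * Nat.card Y = Nat.card L := by
  rw [← Nat.card_prod]
  let f : X × Y → L := fun p => ⟨p.1 * p.2, L.mul_mem (hX p.1.2) (hY p.2.2)⟩
  apply Nat.card_congr (Equiv.ofBijective f ⟨?_, ?_⟩)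
  · rintro ⟨⟨a, ha⟩, ⟨b, hb⟩⟩ ⟨⟨a', ha'⟩, ⟨b', hb'⟩⟩ hab
    have e : a * b = a' * b' := congrArg Subtype.val hab
    have h1 : a'⁻¹ * a = b' * b⁻¹ := by
      calc a'⁻¹ * a = a'⁻¹ * (a * b) * b⁻¹ := by group
        _ = a'⁻¹ * (a' * b') * b⁻¹ := by rw [e]
        _ = b' * b⁻¹ := by group
    have h2 : a'⁻¹ * a ∈ X ⊓ Y :=
      ⟨X.mul_mem (X.inv_mem ha') ha, h1 ▸ Y.mul_mem hb' (Y.inv_mem hb)⟩
    rw [hd, Subgroup.mem_bot] at h2
    have h3 : a = a' := by
      have : a = a' * (a'⁻¹ * a) := by group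
      rw [this, h2, mul_one]
    have h4 : b = b' := by
      rw [h3] at e
      exact mul_left_cancel e
    subst h3; subst h4; rfl
  · rintro ⟨g, hg⟩
    obtain ⟨a, ha, b, hb, e⟩ := hf g hg
    exact ⟨⟨⟨a, ha⟩, ⟨b, hb⟩⟩, Subtype.ext e.symm⟩

theorem card_mul_of_coe_eq {T X Y : Subgroup G} (hT : (T : Set G) = (X : Set G) * (Y : Set G))
    (hd : X ⊓ Y = ⊥) : Nat.card X * Nat.card Y = Nat.card T := by
  have hXT : X ≤ T := by
    intro x hx
    show x ∈ (T : Set G)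
    rw [hT]; exact ⟨x, hx, 1, Y.one_mem, mul_one x⟩
  have hYT : Y ≤ T := by
    intro y hy
    show y ∈ (T : Set G)
    rw [hT]; exact ⟨1, X.one_mem, y, hy, one_mul y⟩
  apply card_mul_of_fac hXT hYT hd
  intro g hg
  have : g ∈ (T : Set G) := hg
  rw [hT] at this
  obtain ⟨a, ha, b, hb, e⟩ := this
  exact ⟨a, ha, b, hb, e.symm⟩

variable [Finite G] {A B : Subgroup G}

namespace MinCE

/-- the centralizer of a `π'`-element of `B` normalizing `A` is factorized. -/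
theorem centralizer_fac (h : MinCE A B) {u₀ : G} (hu₀B : u₀ ∈ B)
    (hu₀N : u₀ ∈ Subgroup.normalizer (A : Set G)) {g : G}
    (hg : g ∈ Subgroup.centralizer (Subgroup.zpowers u₀ : Set G)) :
    ∃ a ∈ A ⊓ Subgroup.centralizer (Subgroup.zpowers u₀ : Set G),
      ∃ b ∈ B ⊓ Subgroup.centralizer (Subgroup.zpowers u₀ : Set G), g = a * b := by
  obtain ⟨a, ha, b, hb, e⟩ := h.fac g
  rw [mem_centralizer_zpowers] at hg
  -- `a⁻¹ u₀ a = b u₀ b⁻¹`
  have h1 : a⁻¹ * u₀ * a = b * u₀ * b⁻¹ := by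
    have : u₀ * (a * b) = (a * b) * u₀ := by rw [← e]; exact hg
    calc a⁻¹ * u₀ * a = a⁻¹ * (u₀ * (a * b)) * b⁻¹ := by group
      _ = a⁻¹ * ((a * b) * u₀) * b⁻¹ := by rw [this]
      _ = b * u₀ * b⁻¹ := by group
  -- `u₀⁻¹ a⁻¹ u₀ ∈ A`
  have h2 : u₀⁻¹ * a⁻¹ * u₀ ∈ A := by
    have := (Subgroup.mem_normalizer_iff.1 (Subgroup.inv_mem _ hu₀N) a⁻¹).1 (A.inv_mem ha)
    simpa using this
  have h3 : u₀⁻¹ * (b * u₀ * b⁻¹) ∈ A ⊓ B := by
    refine ⟨?_, B.mul_mem (B.inv_mem hu₀B) (B.mul_mem (B.mul_mem hb hu₀B) (B.inv_mem hb))⟩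
    rw [← h1]
    have : u₀⁻¹ * (a⁻¹ * u₀ * a) = (u₀⁻¹ * a⁻¹ * u₀) * a := by group
    rw [this]
    exact A.mul_mem h2 ha
  rw [inf_eq_bot_of_coprime_card h.cop, Subgroup.mem_bot] at h3
  have hb' : u₀ * b = b * u₀ := by
    have : b * u₀ * b⁻¹ = u₀ := by
      have : b * u₀ * b⁻¹ = u₀ * (u₀⁻¹ * (b * u₀ * b⁻¹)) := by group
      rw [this, h3, mul_one]
    calc u₀ * b = (b * u₀ * b⁻¹) * b := by rw [this]
      _ = b * u₀ := by group
  have ha' : u₀ * a = a * u₀ := by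
    have h4 : a⁻¹ * u₀ * a = u₀ := by
      rw [h1]
      calc b * u₀ * b⁻¹ = (u₀ * b) * b⁻¹ := by rw [hb']
        _ = u₀ := by group
    calc u₀ * a = a * (a⁻¹ * u₀ * a) := by group
      _ = a * u₀ := by rw [h4]
  exact ⟨a, ⟨ha, mem_centralizer_zpowers.2 ha'⟩, b, ⟨hb, mem_centralizer_zpowers.2 hb'⟩, e⟩

theorem ne_top_of_isPGroup (h : MinCE A B) {p : ℕ} (hp : p.Prime) {V : Subgroup G}
    (hV : IsPGroup p V) : V ≠ ⊤ := by
  intro htop
  apply h.npA p hp
  have h1 : IsPGroup p (⊤ : Subgroup G) := htop ▸ hV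
  intro a
  obtain ⟨k, hk⟩ := h1 ⟨(a : G), Subgroup.mem_top _⟩
  exact ⟨k, Subtype.ext (by simpa using congrArg Subtype.val hk)⟩

theorem centralizer_zpowers_ne_top (h : MinCE A B) {z : G} (hz : z ≠ 1) :
    Subgroup.centralizer (Subgroup.zpowers z : Set G) ≠ ⊤ := by
  intro htop
  have := h.eq_bot_of_centralizer_eq_top htop
  have hz' : z ∈ Subgroup.zpowers z := Subgroup.mem_zpowers z
  rw [this, Subgroup.mem_bot] at hz'
  exact hz hz'

/-- a `p`-subgroup (`p ∈ π'`) containing `B_p` equals `B_p`. -/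
theorem le_pp_of_isPGroup (h : MinCE A B) {p : ℕ} [hp : Fact p.Prime] (hpB : p ∣ Nat.card B)
    {E : Subgroup G} (hE : IsPGroup p E) (hle : pp B p ≤ E) : E ≤ pp B p := by
  obtain ⟨k, hk⟩ := IsPGroup.iff_card.1 hE
  have h1 : p ^ k ∣ Nat.card A * Nat.card B := by
    rw [h.card_mul, ← hk]; exact Subgroup.card_subgroup_dvd_card E
  have hpA : (p ^ k).Coprime (Nat.card A) := by
    apply Nat.Coprime.pow_left
    rw [Nat.Prime.coprime_iff_not_dvd hp.out]
    intro hpA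
    have := Nat.Coprime.eq_one_of_dvd (Nat.Coprime.coprime_dvd_left hpA h.cop) hpB
    exact hp.out.one_lt.ne' this
  have h2 : p ^ k ∣ Nat.card B := hpA.dvd_of_dvd_mul_left h1
  have h3 : k ≤ (Nat.card B).factorization p :=
    (hp.out.pow_dvd_iff_le_factorization Nat.card_pos.ne').1 h2
  have h4 : Nat.card E ≤ Nat.card (pp B p) := by
    rw [hk, card_pp h.nilB p]
    exact Nat.pow_le_pow_right hp.out.pos h3
  exact (Subgroup.eq_of_le_of_card_ge hle h4).ge

theorem inf_centralizer_le_normalizer (h : MinCE A B) {s : ℕ} [hs : Fact s.Prime] {u₀ : G}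
    (hu₀ : u₀ ∈ pp B s) (hu₀1 : u₀ ≠ 1) (hu₀N : u₀ ∈ Subgroup.normalizer (A : Set G)) :
    A ⊓ Subgroup.centralizer (Subgroup.zpowers u₀ : Set G) ≤
      Subgroup.normalizer (B : Set G) := by
  set K₀ := Subgroup.centralizer (Subgroup.zpowers u₀ : Set G) with hK₀
  set X := A ⊓ K₀ with hX
  set Y := B ⊓ K₀ with hY
  have hfac : ∀ g ∈ K₀, ∃ a ∈ X, ∃ b ∈ Y, g = a * b := fun g hg =>
    h.centralizer_fac (pp_le B s hu₀) hu₀N hg
  have hK₀top : K₀ ≠ ⊤ := h.centralizer_zpowers_ne_top hu₀1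
  have hK₀solv : Group.IsSolvable K₀ :=
    h.ih K₀ X Y hK₀top (isNilpotent_of_le inf_le_left h.nilA)
      (isNilpotent_of_le inf_le_left h.nilB) inf_le_right inf_le_right hfac
  obtain ⟨v, hv, hvs, hBv⟩ := h.symm.exists_other_prime s
  have hBvK : pp B v ≤ K₀ := by
    intro y hy
    rw [hK₀, mem_centralizer_zpowers]
    exact commute_pp_pc h.nilB s hu₀ (pp_le_pc h.nilB s hvs hy)
  have hAB : A ⊓ B = ⊥ := inf_eq_bot_of_coprime_card h.cop
  have hXY : X ⊓ Y = ⊥ := by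
    rw [eq_bot_iff, ← hAB]
    exact inf_le_inf inf_le_left inf_le_left
  have hcardK := card_mul_of_fac (inf_le_right : X ≤ K₀) (inf_le_right : Y ≤ K₀) hXY hfac
  have hXrel : X.relIndex K₀ = Nat.card Y := by
    have h1 := relIndex_mul_card_of_le (inf_le_right : X ≤ K₀)
    rw [← hcardK, mul_comm] at h1
    exact Nat.eq_of_mul_eq_mul_left Nat.card_pos h1
  have hXhall : (Nat.card X).Coprime (X.relIndex K₀) := by
    rw [hXrel]
    exact Nat.Coprime.coprime_dvd_left (Subgroup.card_dvd_of_le inf_le_left)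
      (Nat.Coprime.coprime_dvd_right (Subgroup.card_dvd_of_le inf_le_left) h.cop)
  obtain ⟨T, hTK, hT⟩ := hall_mul_hall_sub K₀ X Y X (pp B v) hK₀solv inf_le_right inf_le_right
    inf_le_right hBvK hfac Subgroup.le_normalizer (inf_le_left.trans (le_normalizer_pp B v))
    hXhall (Nat.Coprime.coprime_dvd_right (Subgroup.relIndex_dvd_index_of_le hBvK)
      (h.symm.pp_hall v))
  have hXT : X ≤ T := by
    intro x hx
    show x ∈ (T : Set G)
    rw [hT]; exact ⟨x, hx, 1, Subgroup.one_mem _, mul_one x⟩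
  have hBvT : pp B v ≤ T := by
    intro y hy
    show y ∈ (T : Set G)
    rw [hT]; exact ⟨1, Subgroup.one_mem _, y, hy, one_mul y⟩
  have hTsolv : Group.IsSolvable T := isSolvable_of_le hTK hK₀solv
  haveI := hTsolv
  haveI : Nontrivial T := (Subgroup.nontrivial_iff_ne_bot _).2 (ne_bot_of_le_ne_bot hBv hBvT)
  obtain ⟨p, hp, M, hMn, hMne, hMp, -, -⟩ := exists_normal_pgroup_of_solvable T
  set V := M.map T.subtype with hV
  have hVne : V ≠ ⊥ := by
    intro hbot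
    apply hMne
    rw [hV, Subgroup.map_eq_bot_iff_of_injective _ T.subtype_injective] at hbot
    exact hbot
  have hVp : IsPGroup p V := hMp.map _
  have hTV : T ≤ Subgroup.normalizer (V : Set G) := by
    intro g hg
    rw [Subgroup.mem_normalizer_iff]
    intro x
    constructor
    · rintro ⟨m, hm, rfl⟩
      exact ⟨⟨g, hg⟩ * m * ⟨g, hg⟩⁻¹, hMn.conj_mem m hm ⟨g, hg⟩, rfl⟩
    · rintro ⟨m, hm, e⟩
      refine ⟨⟨g, hg⟩⁻¹ * m * ⟨g, hg⟩, ?_, ?_⟩
      · have := hMn.conj_mem m hm ⟨g, hg⟩⁻¹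
        simpa using this
      · have e' : (m : G) = g * x * g⁻¹ := e
        show (g⁻¹ * (m : G) * g) = x
        rw [e']; group
  have hXBv : X ⊓ pp B v = ⊥ := by
    rw [eq_bot_iff, ← hAB]
    exact inf_le_inf inf_le_left (pp_le B v)
  have hcardT := card_mul_of_coe_eq hT hXBv
  have hVT : V ≤ T := Subgroup.map_subtype_le _
  have hpV : p ∣ Nat.card V := by
    obtain ⟨k, hk⟩ := IsPGroup.iff_card.1 hVp
    rcases Nat.eq_zero_or_pos k with h0 | h0
    · exfalso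
      rw [h0, pow_zero] at hk
      exact hVne (Subgroup.card_eq_one.1 hk)
    · rw [hk]; exact dvd_pow_self p h0.ne'
  have hpT : p ∣ Nat.card X * Nat.card (pp B v) := by
    rw [hcardT]; exact hpV.trans (Subgroup.card_dvd_of_le hVT)
  rcases (Nat.Prime.dvd_mul hp.out).1 hpT with hpX | hpB
  · exfalso
    have hpA : p ∣ Nat.card A := hpX.trans (Subgroup.card_dvd_of_le inf_le_left)
    exact hVne (h.symm.eq_bot_of_pp_le_normalizer hpA hVp hBv (hBvT.trans hTV))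
  · have hpv : p = v := by
      rw [card_pp h.nilB v] at hpB
      exact (Nat.prime_dvd_prime_iff_eq hp.out hv.out).1 (hp.out.dvd_of_dvd_pow hpB)
    subst hpv
    have hpB' : p ∣ Nat.card B := (pp_ne_bot_iff h.nilB p).1 hBv
    have hE : IsPGroup p (pp B p ⊔ V : Subgroup G) :=
      IsPGroup.to_sup_of_normal_right' (isPGroup_pp h.nilB p) hVp (hBvT.trans hTV)
    have hVB : V ≤ pp B p := le_sup_right.trans (h.le_pp_of_isPGroup hpB' hE le_sup_left)
    have hBV : B ≤ Subgroup.normalizer (V : Set G) := by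
      intro b hb
      obtain ⟨x, hx, y, hy, rfl⟩ := exists_pp_mul_pc h.nilB p hb
      exact Subgroup.mul_mem _ (hTV (hBvT hx))
        (Subgroup.centralizer_le_normalizer _
          (Subgroup.centralizer_le hVB (pc_le_centralizer_pp h.nilB p hy)))
    have hNVtop : Subgroup.normalizer (V : Set G) ≠ ⊤ := by
      intro htop
      exact hVne (h.eq_bot_of_normalizer_eq_top htop (h.ne_top_of_isPGroup hp.out hVp))
    have := h.symm.le_normalizer_of_ge hBV hNVtop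
    exact (hXT.trans hTV).trans this

/-- **T3, case (i)**: if `x ∈ A_r` commutes with a nontrivial element of `B_s` normalizing `A`,
then `C_G(x) ≤ N_G(A)`. -/
theorem centralizer_le_normalizer_of_commute (h : MinCE A B) {r s : ℕ} [hr : Fact r.Prime]
    [hs : Fact s.Prime] {x u₀ : G} (hx : x ∈ pp A r) (hx1 : x ≠ 1) (hu₀ : u₀ ∈ pp B s)
    (hu₀1 : u₀ ≠ 1) (hu₀N : u₀ ∈ Subgroup.normalizer (A : Set G)) (hc : u₀ * x = x * u₀) :
    Subgroup.centralizer (Subgroup.zpowers x : Set G) ≤ Subgroup.normalizer (A : Set G) := by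
  have hxN : x ∈ Subgroup.normalizer (B : Set G) :=
    h.inf_centralizer_le_normalizer hu₀ hu₀1 hu₀N
      ⟨pp_le A r hx, mem_centralizer_zpowers.2 hc⟩
  intro g hg
  obtain ⟨b, hb, a, ha, e⟩ := h.symm.centralizer_fac (pp_le A r hx) hxN hg
  have hbN : b ∈ Subgroup.normalizer (A : Set G) :=
    h.symm.inf_centralizer_le_normalizer hx hx1 hxN hb
  rw [e]
  exact Subgroup.mul_mem _ hbN (Subgroup.le_normalizer ha.1)

end MinCE

end Cfsg.Agent.Helper4.KW
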