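import Mathlib
import Cfsg.Agent.Helper1.Basic
import Cfsg.Agent.Helper1.Coprime
import Cfsg.Agent.Helper1.Fitting
import Cfsg.Agent.Helper1.NilpHallFusion
import Cfsg.Agent.Helper1.WielandtNilpHall
import Cfsg.Agent.Helper4.KWa
import Cfsg.Agent.Helper4.KWb
import Cfsg.Agent.Helper4.KWc
import Cfsg.Agent.Helper4.KWd
import Cfsg.Agent.Helper4.KWe
import Cfsg.Agent.Helper4.KWf
import Cfsg.Agent.Helper4.KWg

set_option autoImplicit false

/-!
Kegel–Wielandt, part h: centralizers of elements of `A` not commuting with `π'`-elements of `N(A)`.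
-/

namespace Cfsg.Agent.Helper4.KW

open scoped Pointwise
open Cfsg.Agent.Helper1

universe u

variable {G : Type u} [Group G]

theorem isPGroup_zpowers {x : G} {p k : ℕ} (h : x ^ (p ^ k) = 1) :
    IsPGroup p (Subgroup.zpowers x) := by
  rintro ⟨y, hy⟩
  obtain ⟨m, rfl⟩ := Subgroup.mem_zpowers_iff.1 hy
  refine ⟨k, Subtype.ext ?_⟩
  show (x ^ m) ^ (p ^ k) = 1
  rw [← zpow_natCast, ← zpow_mul, mul_comm, zpow_mul, zpow_natCast, h, one_zpow]

theorem coe_mem_normalizer_map {C : Subgroup G} {Y' : Subgroup C} {l : C}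
    (hl : l ∈ Subgroup.normalizer (Y' : Set C)) :
    (l : G) ∈ Subgroup.normalizer ((Y'.map C.subtype : Subgroup G) : Set G) := by
  rw [Subgroup.mem_normalizer_iff]
  intro x
  constructor
  · rintro ⟨y, hy, rfl⟩
    exact ⟨l * y * l⁻¹, (Subgroup.mem_normalizer_iff.1 hl y).1 hy, rfl⟩
  · rintro ⟨y, hy, e⟩
    refine ⟨l⁻¹ * y * l, ?_, ?_⟩
    · have := (Subgroup.mem_normalizer_iff.1 (Subgroup.inv_mem _ hl) y).1 hy
      simpa using this
    · have e' : (y : G) = (l : G) * x * (l : G)⁻¹ := e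
      show ((l : G)⁻¹ * (y : G) * (l : G)) = x
      rw [e']; group

variable [Finite G] {A B : Subgroup G}

namespace MinCE

/-- fusion in `A_{r'}` inside `C_G(x)` is controlled by `A_{r'}` -/
theorem fusion_pc (h : MinCE A B) {r : ℕ} [hr : Fact r.Prime] {x : G} (hx : x ∈ pp A r)
    (hii : Subgroup.centralizer (Subgroup.zpowers x : Set G) ⊓ Subgroup.normalizer (A : Set G) ≤ A)
    {a b g : G} (ha : a ∈ pc A r) (hb : b ∈ pc A r)
    (hg : g ∈ Subgroup.centralizer (Subgroup.zpowers x : Set G)) (e : g * a * g⁻¹ = b) :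
    ∃ y ∈ pc A r, y * a * y⁻¹ = b := by
  obtain ⟨u, hu, hur, hAu⟩ := h.exists_other_prime r
  obtain ⟨z, hz, hz1, hzc⟩ := exists_central_of_pp_ne_bot h.nilA u hAu
  set C := Subgroup.centralizer (Subgroup.zpowers x : Set G) with hC
  set K := C ⊓ Subgroup.centralizer (Subgroup.zpowers b : Set G) with hK
  have hxA : x ∈ A := pp_le A r hx
  have hbA : b ∈ A := pc_le A r hb
  have haA : a ∈ A := pc_le A r ha
  have hzcomm : ∀ y ∈ A, y * z = z * y := fun y hy => (Subgroup.mem_centralizer_iff.1 hzc) y hy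
  have hzK : z ∈ K :=
    ⟨mem_centralizer_zpowers.2 (hzcomm x hxA), mem_centralizer_zpowers.2 (hzcomm b hbA)⟩
  have hgx : x * g = g * x := mem_centralizer_zpowers.1 hg
  set z' := g * z * g⁻¹ with hz'
  have hz'K : z' ∈ K := by
    refine ⟨mem_centralizer_zpowers.2 ?_, mem_centralizer_zpowers.2 ?_⟩
    · have h1 : x * g⁻¹ = g⁻¹ * x := by
        calc x * g⁻¹ = g⁻¹ * (g * x) * g⁻¹ := by group
          _ = g⁻¹ * (x * g) * g⁻¹ := by rw [hgx]
          _ = g⁻¹ * x := by group
      calc x * z' = (x * g) * z * g⁻¹ := by rw [hz']; group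
        _ = g * (x * z) * g⁻¹ := by rw [hgx]; group
        _ = g * (z * x) * g⁻¹ := by rw [hzcomm x hxA]
        _ = g * z * (x * g⁻¹) := by group
        _ = g * z * (g⁻¹ * x) := by rw [h1]
        _ = z' * x := by rw [hz']; group
    · rw [← e]
      calc g * a * g⁻¹ * z' = g * (a * z) * g⁻¹ := by rw [hz']; group
        _ = g * (z * a) * g⁻¹ := by rw [hzcomm a haA]
        _ = z' * (g * a * g⁻¹) := by rw [hz']; group
  obtain ⟨k₀, hk₀⟩ := ((mem_pp h.nilA u).1 hz).2
  have hzp : IsPGroup u (Subgroup.zpowers (⟨z, hzK⟩ : K)) :=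
    isPGroup_zpowers (k := k₀) (Subtype.ext (by simpa using hk₀))
  have hz'p : IsPGroup u (Subgroup.zpowers (⟨z', hz'K⟩ : K)) := by
    apply isPGroup_zpowers (k := k₀)
    apply Subtype.ext
    show z' ^ (u ^ k₀) = 1
    have : z' ^ (u ^ k₀) = g * z ^ (u ^ k₀) * g⁻¹ := by
      rw [hz']; exact conj_pow
    rw [this, hk₀]; group
  obtain ⟨P₁, hP₁⟩ := hzp.exists_le_sylow
  obtain ⟨P₂, hP₂⟩ := hz'p.exists_le_sylow
  obtain ⟨k, hk⟩ := MulAction.exists_smul_eq K P₁ P₂
  have hw : k⁻¹ * ⟨z', hz'K⟩ * k ∈ (P₁ : Subgroup K) := by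
    have h1 : (⟨z', hz'K⟩ : K) ∈ (P₂ : Subgroup K) := hP₂ (Subgroup.mem_zpowers _)
    rw [← hk, Sylow.smul_def, Sylow.pointwise_smul_def] at h1
    exact mem_conj_smul.1 h1
  set P := (P₁ : Subgroup K).map K.subtype with hP
  have hzP : z ∈ P := ⟨⟨z, hzK⟩, hP₁ (Subgroup.mem_zpowers _), rfl⟩
  have hwP : (k : G)⁻¹ * z' * (k : G) ∈ P := ⟨_, hw, rfl⟩
  have hPu : IsPGroup u P := P₁.2.map _
  have huA : u ∣ Nat.card A := (pp_ne_bot_iff h.nilA u).1 hAu
  have hPcop : (Nat.card P).Coprime (Nat.card B) := by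
    obtain ⟨j, hj⟩ := IsPGroup.iff_card.1 hPu
    rw [hj]
    apply Nat.Coprime.pow_left
    exact Nat.Coprime.coprime_dvd_left huA h.cop
  have hPA : P ≤ A := h.le_of_central_mem hz hz1 hzc hzP hPcop
  set m := (k : G)⁻¹ * g with hm
  have hmz : m * z * m⁻¹ ∈ A := by
    have : m * z * m⁻¹ = (k : G)⁻¹ * z' * (k : G) := by rw [hm, hz']; group
    rw [this]; exact hPA hwP
  have hmN : m ∈ Subgroup.normalizer (A : Set G) := by
    have h1 : z ∈ MulAut.conj m⁻¹ • A := by
      rw [mem_conj_smul]; simpa using hmz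
    have h2 := h.conj_eq_of_central_mem hz hz1 hzc h1
    have h3 := mem_normalizer_of_conj_smul_eq h2
    simpa using Subgroup.inv_mem _ h3
  have hkK : (k : G) ∈ K := k.2
  have hmC : m ∈ C := C.mul_mem (C.inv_mem hkK.1) hg
  have hmA : m ∈ A := hii ⟨hmC, hmN⟩
  have hkb : b * (k : G) = (k : G) * b := mem_centralizer_zpowers.1 hkK.2
  have hmab : m * a * m⁻¹ = b := by
    calc m * a * m⁻¹ = (k : G)⁻¹ * (g * a * g⁻¹) * (k : G) := by rw [hm]; group
      _ = (k : G)⁻¹ * (b * (k : G)) := by rw [e]; group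
      _ = (k : G)⁻¹ * ((k : G) * b) := by rw [hkb]
      _ = b := by group
  obtain ⟨x₁, hx₁, y₁, hy₁, hxy⟩ := exists_pp_mul_pc h.nilA r hmA
  refine ⟨y₁, hy₁, ?_⟩
  have hq : y₁ * a * y₁⁻¹ ∈ pc A r :=
    (pc A r).mul_mem ((pc A r).mul_mem hy₁ ha) ((pc A r).inv_mem hy₁)
  have hcomm := commute_pp_pc h.nilA r hx₁ hq
  rw [← hmab, hxy]
  calc y₁ * a * y₁⁻¹ = (y₁ * a * y₁⁻¹) * x₁ * x₁⁻¹ := by group
    _ = x₁ * (y₁ * a * y₁⁻¹) * x₁⁻¹ := by rw [← hcomm]
    _ = x₁ * y₁ * a * (x₁ * y₁)⁻¹ := by group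

theorem pc_relIndex (h : MinCE A B) (r : ℕ) [Fact r.Prime] :
    (pc A r).relIndex A = Nat.card (pp A r) := by
  have h1 := relIndex_mul_card_of_le (pc_le A r)
  have h2 := card_pp_mul_card_pc h.nilA r
  rw [← h2] at h1
  exact Nat.eq_of_mul_eq_mul_right Nat.card_pos h1

theorem pc_hall (h : MinCE A B) (r : ℕ) [hr : Fact r.Prime] :
    (Nat.card (pc A r)).Coprime (pc A r).index := by
  rw [← Subgroup.relIndex_mul_index (pc_le A r), h.pc_relIndex, h.index_eq, card_pp h.nilA r]
  apply Nat.Coprime.mul_right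
  · exact Nat.Coprime.pow_right _ (card_pc_coprime h.nilA r)
  · exact Nat.Coprime.coprime_dvd_left (Subgroup.card_dvd_of_le (pc_le A r)) h.cop

/-- **T3, case (ii)**: if `C_G(x) ∩ N_G(A) ≤ A` then `C_G(x) ≤ A`. -/
theorem centralizer_le_of_inf_le (h : MinCE A B) {r : ℕ} [hr : Fact r.Prime] {x : G}
    (hx : x ∈ pp A r)
    (hii : Subgroup.centralizer (Subgroup.zpowers x : Set G) ⊓ Subgroup.normalizer (A : Set G) ≤ A) :
    Subgroup.centralizer (Subgroup.zpowers x : Set G) ≤ A := by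
  set C := Subgroup.centralizer (Subgroup.zpowers x : Set G) with hC
  set Q := pc A r with hQ
  have hQC : Q ≤ C := by
    intro y hy
    rw [hC, mem_centralizer_zpowers]
    exact commute_pp_pc h.nilA r hx hy
  have hQnil : Group.IsNilpotent Q := isNilpotent_of_le (pc_le A r) h.nilA
  set H' : Subgroup C := Q.subgroupOf C with hH'
  have hH'nil : Group.IsNilpotent H' :=
    Group.nilpotent_of_mulEquiv (Subgroup.subgroupOfEquivOfLe hQC).symm
  have hH'card : Nat.card H' = Nat.card Q := card_subgroupOf_of_le hQC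
  have hH'hall : (Nat.card H').Coprime H'.index := by
    rw [hH'card]
    exact Nat.Coprime.coprime_dvd_right (Subgroup.relIndex_dvd_index_of_le hQC) (h.pc_hall r)
  have hfus : ∀ a ∈ H', ∀ b ∈ H', (∃ g : C, g * a * g⁻¹ = b) → ∃ y ∈ H', y * a * y⁻¹ = b := by
    rintro ⟨a, haC⟩ ha ⟨b, hbC⟩ hb ⟨⟨g, hgC⟩, e⟩
    have e' : g * a * g⁻¹ = b := congrArg Subtype.val e
    obtain ⟨y, hy, hyab⟩ := h.fusion_pc hx hii (Subgroup.mem_subgroupOf.1 ha)
      (Subgroup.mem_subgroupOf.1 hb) hgC e'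
    exact ⟨⟨y, hQC hy⟩, Subgroup.mem_subgroupOf.2 hy, Subtype.ext hyab⟩
  obtain ⟨N', hN'n, hN'c⟩ := (nilpotent_hall_normal_complement_iff H' hH'nil hH'hall).2 hfus
  have hcardC : Nat.card N' * Nat.card H' = Nat.card C := hN'c.card_mul_card
  obtain ⟨u, hu, hur, hAu⟩ := h.exists_other_prime r
  have huA : u ∣ Nat.card A := (pp_ne_bot_iff h.nilA u).1 hAu
  -- `N'` is a `π`-group
  have hN'cop : (Nat.card N').Coprime (Nat.card B) := by
    apply Nat.coprime_of_dvd
    intro s hs hsN hsB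
    haveI : Fact s.Prime := ⟨hs⟩
    haveI := hN'n
    obtain ⟨P⟩ : Nonempty (Sylow s N') := inferInstance
    set Y' : Subgroup C := (P : Subgroup N').map N'.subtype with hY'
    have hfrat : Subgroup.normalizer (Y' : Set C) ⊔ N' = ⊤ := Sylow.normalizer_sup_eq_top P
    set L' := Subgroup.normalizer (Y' : Set C) with hL'
    have h1 : Nat.card C ∣ Nat.card L' * Nat.card N' := by
      have := card_sup_dvd L' N'
      rwa [hfrat, Subgroup.card_top] at this
    have h2 : Nat.card H' ∣ Nat.card L' := by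
      rw [← hcardC, mul_comm (Nat.card L')] at h1
      exact Nat.dvd_of_mul_dvd_mul_left Nat.card_pos h1
    have h3 : Nat.card (pp A u) ∣ Nat.card L' := by
      refine dvd_trans ?_ h2
      rw [hH'card]
      exact Subgroup.card_dvd_of_le (pp_le_pc h.nilA r hur)
    rw [card_pp h.nilA u] at h3
    obtain ⟨U', hU'⟩ := Sylow.exists_subgroup_card_pow_prime u h3
    set U : Subgroup G := (U'.map L'.subtype).map C.subtype with hU
    have hUcard : Nat.card U = u ^ (Nat.card A).factorization u := by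
      rw [hU, Subgroup.card_map_of_injective C.subtype_injective,
        Subgroup.card_map_of_injective L'.subtype_injective, hU']
    have hUcop : (Nat.card U).Coprime (Nat.card B) := by
      rw [hUcard]
      exact Nat.Coprime.pow_left _ (Nat.Coprime.coprime_dvd_left huA h.cop)
    obtain ⟨c, hc⟩ := h.le_conj_of_coprime hUcop
    set A' := MulAut.conj c • A with hA'
    have hA'nil : Group.IsNilpotent A' := isNilpotent_conj h.nilA c
    have hUpp : U ≤ pp A' u := by
      intro y hy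
      rw [mem_pp hA'nil u]
      refine ⟨hc hy, (Nat.card A).factorization u, ?_⟩
      rw [← hUcard]
      have h0 : (⟨y, hy⟩ : U) ^ Nat.card U = 1 := pow_card_eq_one'
      have := congrArg Subtype.val h0
      rwa [Subgroup.coe_pow, Subgroup.coe_one] at this
    have hUeq : U = pp A' u := by
      apply Subgroup.eq_of_le_of_card_ge hUpp
      rw [card_pp hA'nil u, hA', card_conj_smul, hUcard]
    set Y : Subgroup G := Y'.map C.subtype with hY
    have hYs : IsPGroup s Y := (P.2.map _).map _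
    have hYne : Y ≠ ⊥ := by
      intro hbot
      have hcard : Nat.card Y = s ^ (Nat.card N').factorization s := by
        rw [hY, Subgroup.card_map_of_injective C.subtype_injective, hY',
          Subgroup.card_map_of_injective N'.subtype_injective]
        exact P.card_eq_multiplicity
      rw [hbot, Subgroup.card_bot] at hcard
      have h4 : 0 < (Nat.card N').factorization s :=
        hs.factorization_pos_of_dvd Nat.card_pos.ne' hsN
      have := Nat.one_lt_pow h4.ne' hs.one_lt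
      omega
    have hUN : pp A' u ≤ Subgroup.normalizer (Y : Set G) := by
      rw [← hUeq]
      rintro _ ⟨_, ⟨l, hl, rfl⟩, rfl⟩
      exact coe_mem_normalizer_map l.2
    have h' := h.conj c 1
    have hsB' : s ∣ Nat.card (MulAut.conj (1 : G) • B : Subgroup G) := by
      rw [card_conj_smul]; exact hsB
    have hA'u : pp A' u ≠ ⊥ := by
      rw [← hUeq]
      intro hbot
      rw [hbot, Subgroup.card_bot] at hUcard
      have h4 : 0 < (Nat.card A).factorization u :=
        hu.out.factorization_pos_of_dvd Nat.card_pos.ne' huA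
      have := Nat.one_lt_pow h4.ne' hu.out.one_lt
      omega
    exact hYne (h'.eq_bot_of_pp_le_normalizer hsB' hYs hA'u hUN)
  -- conclusion
  have hCcop : (Nat.card C).Coprime (Nat.card B) := by
    rw [← hcardC]
    apply Nat.Coprime.mul_left hN'cop
    rw [hH'card]
    exact Nat.Coprime.coprime_dvd_left (Subgroup.card_dvd_of_le (pc_le A r)) h.cop
  obtain ⟨z, hz, hz1, hzc⟩ := exists_central_of_pp_ne_bot h.nilA u hAu
  have hzC : z ∈ C := by
    rw [hC, mem_centralizer_zpowers]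
    exact (Subgroup.mem_centralizer_iff.1 hzc) x (pp_le A r hx)
  exact h.le_of_central_mem hz hz1 hzc hzC hCcop

end MinCE

end Cfsg.Agent.Helper4.KW
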