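import Mathlib
import Cfsg.Agent.Helper1.Basic
import Cfsg.Agent.Helper1.Coprime
import Cfsg.Agent.Helper4.KWa
import Cfsg.Agent.Helper4.KWb
import Cfsg.Agent.Helper4.KWc
import Cfsg.Agent.Helper4.KWd
import Cfsg.Agent.Helper4.KWe
import Cfsg.Agent.Helper4.KWf
import Cfsg.Agent.Helper4.KWg
import Cfsg.Agent.Helper4.KWh

set_option autoImplicit false

/-!
Kegel–Wielandt, part i: centralizers of prime-order elements of `A` normalize `A`;
`A` is a TI-subgroup; the final counting contradiction.
-/

namespace Cfsg.Agent.Helper4.KW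

open scoped Pointwise
open Cfsg.Agent.Helper1

universe u

variable {G : Type u} [Group G] [Finite G]

/-- a nontrivial element has a power of prime order -/
theorem exists_prime_orderOf_pow {x : G} (hx : x ≠ 1) :
    ∃ r : ℕ, r.Prime ∧ ∃ k : ℕ, orderOf (x ^ k) = r := by
  have hord : orderOf x ≠ 1 := by rwa [Ne, orderOf_eq_one_iff]
  obtain ⟨r, hr, hrd⟩ := Nat.exists_prime_and_dvd hord
  exact ⟨r, hr, orderOf x / r, orderOf_pow_orderOf_div (orderOf_pos x).ne' hrd⟩

namespace MinCE

variable {A B : Subgroup G}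

/-- **T3**: the centralizer of a nontrivial element of `A_r` normalizes `A`. -/
theorem centralizer_le_normalizer (h : MinCE A B) {r : ℕ} [hr : Fact r.Prime] {x : G}
    (hx : x ∈ pp A r) (hx1 : x ≠ 1) :
    Subgroup.centralizer (Subgroup.zpowers x : Set G) ≤ Subgroup.normalizer (A : Set G) := by
  by_cases hii : Subgroup.centralizer (Subgroup.zpowers x : Set G) ⊓
      Subgroup.normalizer (A : Set G) ≤ A
  · exact (h.centralizer_le_of_inf_le hx hii).trans Subgroup.le_normalizer
  · rw [SetLike.not_le_iff_exists] at hii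
    obtain ⟨m, hm, hmA⟩ := hii
    obtain ⟨hmC, hmN⟩ := Subgroup.mem_inf.1 hm
    have hxm : x * m = m * x := mem_centralizer_zpowers.1 hmC
    have hu1 : m ^ (Nat.card A) ≠ 1 := by
      intro e
      have hd : orderOf m ∣ Nat.card A := orderOf_dvd_of_pow_eq_one e
      have hcop : (Nat.card (Subgroup.zpowers m)).Coprime (Nat.card B) := by
        rw [Nat.card_zpowers]; exact Nat.Coprime.coprime_dvd_left hd h.cop
      have hle := h.le_of_le_normalizer (X := Subgroup.zpowers m)
        (by rw [Subgroup.zpowers_le]; exact hmN) hcop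
      exact hmA (hle (Subgroup.mem_zpowers m))
    have hu1b : (m ^ (Nat.card A)) ^ (Nat.card B) = 1 := by
      rw [← pow_mul, h.card_mul]; exact pow_card_eq_one'
    obtain ⟨s, hs, k, hk⟩ := exists_prime_orderOf_pow hu1
    have : Fact s.Prime := ⟨hs⟩
    -- `u₀` is a power of `m`
    have hu₀m : (m ^ (Nat.card A)) ^ k = m ^ (Nat.card A * k) := (pow_mul m _ _).symm
    set u₀ := (m ^ (Nat.card A)) ^ k with hu₀
    have hu₀1 : u₀ ≠ 1 := by
      intro e
      rw [e, orderOf_one] at hk
      exact hs.one_lt.ne hk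
    have hu₀N : u₀ ∈ Subgroup.normalizer (A : Set G) := by
      rw [hu₀m]; exact Subgroup.pow_mem _ hmN _
    have hc : u₀ * x = x * u₀ := by
      rw [hu₀m]
      exact ((Commute.pow_right (show Commute x m from hxm) _).eq).symm
    have hsB : s ∣ Nat.card B := by
      rw [← hk]
      apply orderOf_dvd_of_pow_eq_one
      rw [hu₀, ← pow_mul, mul_comm, pow_mul, hu1b, one_pow]
    have hcop : (Nat.card (Subgroup.zpowers u₀)).Coprime (Nat.card A) := by
      rw [Nat.card_zpowers, hk]
      exact Nat.Coprime.coprime_dvd_left hsB h.cop.symm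
    obtain ⟨g, hg⟩ := h.symm.le_conj_of_coprime hcop
    have h' : MinCE A (MulAut.conj g • B) := by
      have := h.conj 1 g
      simpa using this
    have hu₀B : u₀ ∈ pp (MulAut.conj g • B) s := by
      rw [mem_pp h'.nilB s]
      refine ⟨hg (Subgroup.mem_zpowers u₀), 1, ?_⟩
      rw [pow_one, ← hk]; exact pow_orderOf_eq_one u₀
    exact h'.centralizer_le_normalizer_of_commute hx hx1 hu₀B hu₀1 hu₀N hc

/-- **TI**: distinct conjugates of `A` meet trivially. -/
theorem conj_eq_of_mem (h : MinCE A B) {g x : G} (hxA : x ∈ A)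
    (hxg : x ∈ MulAut.conj g • A) (hx1 : x ≠ 1) : MulAut.conj g • A = A := by
  obtain ⟨r, hr, k, hk⟩ := exists_prime_orderOf_pow hx1
  have : Fact r.Prime := ⟨hr⟩
  have h' : MinCE (MulAut.conj g • A) B := by
    have := h.conj g 1
    simpa using this
  set x' := x ^ k with hx'
  have hx'1 : x' ≠ 1 := by
    intro e
    rw [e, orderOf_one] at hk
    exact hr.one_lt.ne hk
  have hx'r : x' ^ (r ^ 1) = 1 := by
    rw [pow_one, ← hk]; exact pow_orderOf_eq_one x'
  have hx'A : x' ∈ A := Subgroup.pow_mem _ hxA _
  have hx'g : x' ∈ pp (MulAut.conj g • A) r := by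
    rw [mem_pp h'.nilA r]
    exact ⟨Subgroup.pow_mem _ hxg _, 1, hx'r⟩
  have hT3 := h'.centralizer_le_normalizer hx'g hx'1
  obtain ⟨u, hu, -, hAu⟩ := h.exists_other_prime r
  obtain ⟨z, hz, hz1, hzc⟩ := exists_central_of_pp_ne_bot h.nilA u hAu
  have hzA : z ∈ A := pp_le A u hz
  have hzx : x' * z = z * x' := (Subgroup.mem_centralizer_iff.1 hzc x' hx'A)
  have hzC : z ∈ Subgroup.centralizer (Subgroup.zpowers x' : Set G) :=
    mem_centralizer_zpowers.2 hzx
  have hzN := hT3 hzC
  have hcop : (Nat.card (Subgroup.zpowers z)).Coprime (Nat.card B) :=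
    Nat.Coprime.coprime_dvd_left
      (Subgroup.card_dvd_of_le (show Subgroup.zpowers z ≤ A by
        rw [Subgroup.zpowers_le]; exact hzA)) h.cop
  have hle := h'.le_of_le_normalizer (X := Subgroup.zpowers z)
    (by rw [Subgroup.zpowers_le]; exact hzN) hcop
  exact h.conj_eq_of_central_mem hz hz1 hzc (hle (Subgroup.mem_zpowers z))

/-- the regular orbit of `A` on the cosets of `N_G(A)` gives `|A| + 1 ≤ |G : N_G(A)|`. -/
theorem card_succ_le_index (h : MinCE A B) :
    Nat.card A + 1 ≤ (Subgroup.normalizer (A : Set G)).index := by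
  set M := Subgroup.normalizer (A : Set G) with hM
  have hMtop : M ≠ ⊤ := by
    intro e
    rcases h.eq_bot_of_normalizer_eq_top e h.A_ne_top with hbot
    have := h.npA 2 Nat.prime_two
    apply this
    rw [hbot]
    exact IsPGroup.of_bot
  obtain ⟨g, hg⟩ : ∃ g, g ∉ M := by
    by_contra hcon
    push Not at hcon
    exact hMtop (eq_top_iff.2 fun x _ => hcon x)
  classical
  have : Fintype A := Fintype.ofFinite A
  let f : Option A → G ⧸ M := fun o =>
    match o with
    | none => ((1 : G) : G ⧸ M)
    | some x => (((x : G) * g : G) : G ⧸ M)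
  have hf : Function.Injective f := by
    intro o₁ o₂ e
    match o₁, o₂, e with
    | none, none, _ => rfl
    | none, some y, e =>
      exfalso
      have e' : ((1 : G) : G ⧸ M) = (((y : G) * g : G) : G ⧸ M) := e
      rw [QuotientGroup.eq, inv_one, one_mul] at e'
      have hy : (y : G) ∈ M := Subgroup.le_normalizer y.2
      apply hg
      have := M.mul_mem (M.inv_mem hy) e'
      rwa [inv_mul_cancel_left] at this
    | some y, none, e =>
      exfalso
      have e' : ((1 : G) : G ⧸ M) = (((y : G) * g : G) : G ⧸ M) := e.symm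
      rw [QuotientGroup.eq, inv_one, one_mul] at e'
      have hy : (y : G) ∈ M := Subgroup.le_normalizer y.2
      apply hg
      have := M.mul_mem (M.inv_mem hy) e'
      rwa [inv_mul_cancel_left] at this
    | some x, some y, e =>
      have e' : (((x : G) * g : G) : G ⧸ M) = (((y : G) * g : G) : G ⧸ M) := e
      rw [QuotientGroup.eq] at e'
      -- `w = x⁻¹ y`
      set w : G := (x : G)⁻¹ * y with hw
      have hwA : w ∈ A := A.mul_mem (A.inv_mem x.2) y.2
      have e2 : g⁻¹ * w * g ∈ M := by
        have : ((x : G) * g)⁻¹ * ((y : G) * g) = g⁻¹ * w * g := by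
          rw [hw]; group
        rwa [this] at e'
      have hpow : (g⁻¹ * w * g) ^ (Nat.card A) = 1 := by
        have h1 : (g⁻¹ * w * g) = g⁻¹ * w * (g⁻¹)⁻¹ := by rw [inv_inv]
        rw [h1, conj_pow]
        have : w ^ (Nat.card A) = 1 := by
          have := pow_card_eq_one' (G := A) (x := ⟨w, hwA⟩)
          exact congrArg Subtype.val this
        rw [this, mul_one, inv_inv, inv_mul_cancel]
      have hcop : (Nat.card (Subgroup.zpowers (g⁻¹ * w * g))).Coprime (Nat.card B) := by
        rw [Nat.card_zpowers]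
        exact Nat.Coprime.coprime_dvd_left (orderOf_dvd_of_pow_eq_one hpow) h.cop
      have hle := h.le_of_le_normalizer (X := Subgroup.zpowers (g⁻¹ * w * g))
        (by rw [Subgroup.zpowers_le]; exact e2) hcop
      have hwg : w ∈ MulAut.conj g • A := mem_conj_smul.2 (hle (Subgroup.mem_zpowers _))
      by_cases hw1 : w = 1
      · have : (x : G) = y := by
          rw [hw] at hw1
          exact (inv_mul_eq_one.1 hw1)
        rw [Subtype.ext this]
      · exfalso
        exact hg (mem_normalizer_of_conj_smul_eq (h.conj_eq_of_mem hwA hwg hw1))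
  have hcard := Nat.card_le_card_of_injective f hf
  rw [Nat.card_eq_fintype_card (α := Option A), Fintype.card_option,
    ← Nat.card_eq_fintype_card] at hcard
  exact hcard

theorem card_lt_card (h : MinCE A B) : Nat.card A < Nat.card B := by
  have h1 := h.card_succ_le_index
  have h2 : (Subgroup.normalizer (A : Set G)).index ∣ A.index :=
    Subgroup.index_dvd_of_le Subgroup.le_normalizer
  rw [h.index_eq] at h2
  have := Nat.le_of_dvd Nat.card_pos h2
  omega

/-- **Wielandt**: there is no minimal counterexample. -/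
theorem false (h : MinCE A B) : False := by
  have h1 := h.card_lt_card
  have h2 := h.symm.card_lt_card
  omega

end MinCE

end Cfsg.Agent.Helper4.KW
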