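import Mathlib
import Cfsg.Agent.Helper1.Basic
import Cfsg.Agent.Helper1.Coprime
import Cfsg.Agent.Helper1.Kegel
import Cfsg.Agent.Helper1.SylowProd
import Cfsg.Agent.Helper4.KWa
import Cfsg.Agent.Helper4.KWb

set_option autoImplicit false

/-!
Kegel–Wielandt, part j: general lemmas for the reduction to coprime orders.
-/

namespace Cfsg.Agent.Helper4.KW

open scoped Pointwise
open Cfsg.Agent.Helper1

universe u

variable {G : Type u} [Group G] [Finite G]

/-- the Sylow `p`-subgroup of a nilpotent subgroup is its `p`-part -/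
theorem sylow_map_eq_pp {A : Subgroup G} (hA : Group.IsNilpotent A) (p : ℕ) [hp : Fact p.Prime]
    (P : Sylow p A) : (P : Subgroup A).map A.subtype = pp A p := by
  apply Subgroup.eq_of_le_of_card_ge
  · rintro _ ⟨y, hy, rfl⟩
    rw [mem_pp hA p]
    refine ⟨y.2, ?_⟩
    obtain ⟨k, hk⟩ := P.2 ⟨y, hy⟩
    refine ⟨k, ?_⟩
    have h1 : y ^ (p ^ k) = 1 := congrArg Subtype.val hk
    have h2 : ((y ^ (p ^ k) : A) : G) = 1 := by rw [h1]; rfl
    simpa using h2
  · rw [Subgroup.card_map_of_injective A.subtype_injective, card_pp hA p,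
      Sylow.card_eq_multiplicity]

/-- for nilpotent factors, the product of the `p`-parts is a Sylow `p`-subgroup -/
theorem Fac.exists_pp_mul_pp {A B : Subgroup G} (h : Fac A B) (hA : Group.IsNilpotent A)
    (hB : Group.IsNilpotent B) (p : ℕ) [hp : Fact p.Prime] :
    ∃ T : Sylow p G, ((T : Subgroup G) : Set G) = (pp A p : Set G) * (pp B p : Set G) := by
  obtain ⟨P, Q, R, hR⟩ := exists_sylow_prod A B h p
  rw [sylow_map_eq_pp hA p P, sylow_map_eq_pp hB p Q] at hR
  exact ⟨R, hR⟩

theorem pp_relIndex_coprime {A : Subgroup G} (hA : Group.IsNilpotent A) (p : ℕ)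
    [hp : Fact p.Prime] : ((pp A p).relIndex A).Coprime p := by
  have h1 := relIndex_mul_card_of_le (pp_le A p)
  have h2 := card_pp_mul_card_pc hA p
  have h3 : (pp A p).relIndex A = Nat.card (pc A p) := by
    have hpos : 0 < Nat.card (pp A p) := Nat.card_pos
    apply Nat.eq_of_mul_eq_mul_right hpos
    rw [h1, ← h2, mul_comm]
  rw [h3]
  exact card_pc_coprime hA p

/-- if `G = AK` with `K` normal containing `A_p`, then `|G : K|` is prime to `p` -/
theorem index_coprime_of_pp_le {A K : Subgroup G} (hA : Group.IsNilpotent A) (p : ℕ)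
    [hp : Fact p.Prime] (hK : K.Normal) (hAK : A ⊔ K = ⊤) (hle : pp A p ≤ K) :
    K.index.Coprime p := by
  have h1 : K.relIndex (A ⊔ K) = K.relIndex A := Subgroup.relIndex_sup_right A K
  rw [hAK, Subgroup.relIndex_top_right] at h1
  rw [h1]
  exact Nat.Coprime.coprime_dvd_left (Subgroup.relIndex_dvd_of_le_left A hle)
    (pp_relIndex_coprime hA p)

omit [Finite G] in
/-- `p`-elements lie in normal subgroups of index prime to `p` -/
theorem mem_of_index_coprime {K : Subgroup G} (hK : K.Normal) {p : ℕ} (hc : K.index.Coprime p)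
    {b : G} {k : ℕ} (hb : b ^ (p ^ k) = 1) : b ∈ K := by
  have h1 : b ^ K.index ∈ K := Subgroup.pow_index_mem K b
  have h2 : K.index.Coprime (orderOf b) :=
    Nat.Coprime.coprime_dvd_right (orderOf_dvd_of_pow_eq_one hb) (Nat.Coprime.pow_right k hc)
  obtain ⟨m, hm⟩ := exists_pow_eq_self_of_coprime h2
  rw [← hm]
  exact K.pow_mem h1 m

/-- if `G = AK` with `K` normal containing `A_p`, then `K` contains `B_p` -/
theorem pp_le_of_pp_le {A B K : Subgroup G} (hA : Group.IsNilpotent A)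
    (hB : Group.IsNilpotent B) (p : ℕ)
    [hp : Fact p.Prime] (hK : K.Normal) (hAK : A ⊔ K = ⊤) (hle : pp A p ≤ K) :
    pp B p ≤ K := by
  intro b hb
  obtain ⟨-, k, hk⟩ := (mem_pp hB p).1 hb
  exact mem_of_index_coprime hK (index_coprime_of_pp_le hA p hK hAK hle) hk

omit [Finite G] in
/-- **Lemma Y**: if `G = AL`, `A` normalizes `A₀ ≤ L` and `L` is the normal closure of `A₀`,
then `L` is also the normal closure of `A₀` in `L`. -/
theorem eq_top_of_normalClosure {A L A₀ : Subgroup G} (hL : L.Normal) (hAL : A ⊔ L = ⊤)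
    (hN : A ≤ Subgroup.normalizer (A₀ : Set G)) (hA₀L : A₀ ≤ L)
    (hcl : L ≤ Subgroup.normalClosure (A₀ : Set G)) {N' : Subgroup L} (hN' : N'.Normal)
    (hle : A₀.subgroupOf L ≤ N') : N' = ⊤ := by
  have hsub : Subgroup.normalClosure (A₀ : Set G) ≤ N'.map L.subtype := by
    unfold Subgroup.normalClosure
    rw [Subgroup.closure_le]
    intro x hx
    obtain ⟨y, hy, hconj⟩ := Group.mem_conjugatesOfSet_iff.1 hx
    obtain ⟨g, hg⟩ := isConj_iff.1 hconj
    -- `g = l * a`
    have hgtop : g ∈ L ⊔ A := by rw [sup_comm, hAL]; trivial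
    have hmul : (↑(L ⊔ A) : Set G) = (L : Set G) * (A : Set G) := Subgroup.normal_mul L A
    have hg' : g ∈ (L : Set G) * (A : Set G) := by rw [← hmul]; exact hgtop
    obtain ⟨l, hl, a, ha, rfl⟩ := hg'
    have hay : a * y * a⁻¹ ∈ A₀ := (Subgroup.mem_normalizer_iff.1 (hN ha) y).1 hy
    have hayN : (⟨a * y * a⁻¹, hA₀L hay⟩ : L) ∈ N' := hle (Subgroup.mem_subgroupOf.2 hay)
    have hconjN := hN'.conj_mem _ hayN ⟨l, hl⟩
    refine ⟨_, hconjN, ?_⟩
    rw [← hg]
    simp only [Subgroup.coe_subtype, Subgroup.coe_mul, Subgroup.coe_inv]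
    group
  rw [eq_top_iff]
  intro l _
  have hl : (l : G) ∈ N'.map L.subtype := hsub (hcl l.2)
  obtain ⟨l', hl', e⟩ := hl
  have : l' = l := Subtype.ext e
  rwa [← this]

end Cfsg.Agent.Helper4.KW
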