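import Mathlib
import Cfsg.Agent.Helper1.Basic
import Cfsg.Agent.Helper1.Coprime
import Cfsg.Agent.Helper1.Kegel
import Cfsg.Agent.Helper1.WielandtNilpHall
import Cfsg.Agent.Helper6.BurnsideSimple
import Cfsg.Agent.Helper4.KWa
import Cfsg.Agent.Helper4.KWb
import Cfsg.Agent.Helper4.KWd
import Cfsg.Agent.Helper4.KWi
import Cfsg.Agent.Helper4.KWj

set_option autoImplicit false
set_option linter.style.haveILetI false

/-!
Kegel–Wielandt, part k: the reductions of a minimal counterexample (quotients solvable,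
coprime orders, simplicity, prime-power factor) and the theorem itself.
-/

namespace Cfsg.Agent.Helper4.KW

open scoped Pointwise
open Cfsg.Agent.Helper1

universe u

variable {G : Type u} [Group G]

/-- A minimal counterexample to the Kegel–Wielandt theorem. -/
structure MinCE0 (A B : Subgroup G) : Prop where
  fac : Fac A B
  nilA : Group.IsNilpotent A
  nilB : Group.IsNilpotent B
  nonsolv : ¬ Group.IsSolvable G
  ih : ∀ (H A' B' : Subgroup G), H ≠ ⊤ → Group.IsNilpotent A' → Group.IsNilpotent B' →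
    A' ≤ H → B' ≤ H → (∀ h ∈ H, ∃ a ∈ A', ∃ b ∈ B', h = a * b) → Group.IsSolvable H
  ihq : ∀ (N : Subgroup G) [N.Normal], N ≠ ⊥ → Group.IsSolvable (G ⧸ N)

namespace MinCE0

variable {A B : Subgroup G}

theorem symm (h : MinCE0 A B) : MinCE0 B A :=
  ⟨h.fac.symm, h.nilB, h.nilA, h.nonsolv,
    fun H A' B' hH hA' hB' hAH hBH hf => h.ih H B' A' hH hB' hA' hBH hAH (by
      intro g hg
      obtain ⟨a, ha, b, hb, e⟩ := hf g⁻¹ (H.inv_mem hg)
      refine ⟨b⁻¹, B'.inv_mem hb, a⁻¹, A'.inv_mem ha, ?_⟩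
      rw [← mul_inv_rev, ← e, inv_inv]), h.ihq⟩

theorem not_isSolvable_of_normal (h : MinCE0 A B) {K : Subgroup G} (hK : K.Normal)
    (hne : K ≠ ⊥) : ¬ Group.IsSolvable K := by
  intro hs
  apply h.nonsolv
  haveI := hK
  haveI := h.ihq K hne
  haveI := hs
  exact Group.isSolvable_of_ker_le_range K.subtype (QuotientGroup.mk' K)
    (by rw [QuotientGroup.ker_mk', Subgroup.range_subtype])

theorem sup_eq_top (h : MinCE0 A B) {K : Subgroup G} (hK : K.Normal) (hne : K ≠ ⊥) :
    A ⊔ K = ⊤ := by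
  by_contra hne'
  have hs := h.ih (A ⊔ K) A (B ⊓ (A ⊔ K)) hne' h.nilA (isNilpotent_of_le inf_le_left h.nilB)
    le_sup_left inf_le_right (fun g hg => h.fac.mem_of_le_left le_sup_left hg)
  exact h.not_isSolvable_of_normal hK hne (isSolvable_of_le le_sup_right hs)

variable [Finite G]

theorem not_isPGroup_of_normal (h : MinCE0 A B) {K : Subgroup G} (hK : K.Normal)
    (hne : K ≠ ⊥) (p : ℕ) [Fact p.Prime] : ¬ IsPGroup p K := by
  intro hp
  apply h.not_isSolvable_of_normal hK hne
  haveI := hp.isNilpotent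
  infer_instance

theorem top_ne_bot (h : MinCE0 A B) : (⊤ : Subgroup G) ≠ ⊥ := by
  intro e
  apply h.nonsolv
  haveI : Subsingleton G := by
    constructor
    intro a b
    have ha : a ∈ (⊤ : Subgroup G) := Subgroup.mem_top a
    have hb : b ∈ (⊤ : Subgroup G) := Subgroup.mem_top b
    rw [e, Subgroup.mem_bot] at ha hb
    rw [ha, hb]
  exact Group.isSolvable_of_comm (fun a b => Subsingleton.elim _ _)

theorem kegel_step (h : MinCE0 A B) (p : ℕ) [hp : Fact p.Prime] :
    ∃ N : Subgroup G, N.Normal ∧ N ≠ ⊤ ∧ (pp A p ≤ N ∨ pp B p ≤ N) := by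
  obtain ⟨T, hT⟩ := h.fac.exists_pp_mul_pp h.nilA h.nilB p
  apply kegel (pp A p) (pp B p)
  intro x
  obtain ⟨S, hScard, hS⟩ := h.fac.exists_mul_conj (le_normalizer_pp A p) (le_normalizer_pp B p)
    hT x
  refine ⟨S, ?_, hS⟩
  intro e
  have hSp : IsPGroup p S := by
    apply IsPGroup.of_card (n := (Nat.card G).factorization p)
    rw [hScard]
    exact Sylow.card_eq_multiplicity T
  rw [e] at hSp
  exact h.not_isPGroup_of_normal inferInstance h.top_ne_bot p hSp

theorem cop_aux (h : MinCE0 A B) (p : ℕ) [hp : Fact p.Prime] (hAp : pp A p ≠ ⊥)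
    (hBp : pp B p ≠ ⊥)
    {N : Subgroup G} (hN : N.Normal) (hNtop : N ≠ ⊤) (hle : pp A p ≤ N) : False := by
  set L := Subgroup.normalClosure (pp A p : Set G) with hL
  have hLn : L.Normal := Subgroup.normalClosure_normal
  have hApL : pp A p ≤ L := Subgroup.subset_normalClosure
  have hLN : L ≤ N := by
    haveI := hN
    exact Subgroup.normalClosure_le_normal hle
  have hLbot : L ≠ ⊥ := by
    intro e
    apply hAp
    rw [eq_bot_iff, ← e]; exact hApL
  have hAL : A ⊔ L = ⊤ := h.sup_eq_top hLn hLbot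
  have hBL : B ⊔ L = ⊤ := h.symm.sup_eq_top hLn hLbot
  have hBpL : pp B p ≤ L := pp_le_of_pp_le h.nilA h.nilB p hLn hAL hApL
  set L' := Subgroup.normalClosure (pp B p : Set G) with hL'
  have hL'n : L'.Normal := Subgroup.normalClosure_normal
  have hBpL' : pp B p ≤ L' := Subgroup.subset_normalClosure
  have hLL' : L ≤ L' := by
    have hL'bot : L' ≠ ⊥ := by
      intro e
      apply hBp
      rw [eq_bot_iff, ← e]; exact hBpL'
    have hBL' : B ⊔ L' = ⊤ := h.symm.sup_eq_top hL'n hL'bot
    have hApL' : pp A p ≤ L' := pp_le_of_pp_le h.nilB h.nilA p hL'n hBL' hBpL'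
    haveI := hL'n
    exact Subgroup.normalClosure_le_normal hApL'
  -- now work inside `L`
  obtain ⟨T, hT⟩ := h.fac.exists_pp_mul_pp h.nilA h.nilB p
  have hLp : ¬ IsPGroup p L := h.not_isPGroup_of_normal hLn hLbot p
  have hkeg : ∀ x : L, ∃ S' : Subgroup L, S' ≠ ⊤ ∧
      (S' : Set L) = (((pp A p).subgroupOf L : Subgroup L) : Set L) *
        ((MulAut.conj x • (pp B p).subgroupOf L : Subgroup L) : Set L) := by
    intro x
    obtain ⟨S, hScard, hS⟩ := h.fac.exists_mul_conj (le_normalizer_pp A p)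
      (le_normalizer_pp B p) hT (x : G)
    refine ⟨S.subgroupOf L, ?_, ?_⟩
    · intro e
      rw [Subgroup.subgroupOf_eq_top] at e
      apply hLp
      have hSp : IsPGroup p S := by
        apply IsPGroup.of_card (n := (Nat.card G).factorization p)
        rw [hScard]
        exact Sylow.card_eq_multiplicity T
      exact hSp.to_le e
    · ext l
      constructor
      · intro hl
        have hl' : (l : G) ∈ (S : Set G) := Subgroup.mem_subgroupOf.1 hl
        rw [hS] at hl'
        obtain ⟨a, ha, b, hb, e⟩ := hl'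
        have haL : a ∈ L := hApL ha
        have hbL : b ∈ L := by
          have : b = a⁻¹ * (l : G) := by rw [← e]; group
          rw [this]
          exact L.mul_mem (L.inv_mem haL) l.2
        refine ⟨⟨a, haL⟩, Subgroup.mem_subgroupOf.2 ha, ⟨b, hbL⟩, ?_, Subtype.ext e⟩
        show (⟨b, hbL⟩ : L) ∈ MulAut.conj x • (pp B p).subgroupOf L
        rw [mem_conj_smul, Subgroup.mem_subgroupOf]
        have hb' : b ∈ MulAut.conj (x : G) • pp B p := hb
        rw [mem_conj_smul] at hb'
        exact hb'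
      · rintro ⟨a, ha, b, hb, e⟩
        have ha' : (a : G) ∈ pp A p := Subgroup.mem_subgroupOf.1 ha
        have hb' : b ∈ MulAut.conj x • (pp B p).subgroupOf L := hb
        rw [mem_conj_smul, Subgroup.mem_subgroupOf] at hb'
        have hb'' : (b : G) ∈ MulAut.conj (x : G) • pp B p := by
          rw [mem_conj_smul]; exact hb'
        rw [SetLike.mem_coe, Subgroup.mem_subgroupOf]
        show (l : G) ∈ (S : Set G)
        rw [hS]
        refine ⟨(a : G), ha', (b : G), hb'', ?_⟩
        have := congrArg Subtype.val e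
        exact this
  obtain ⟨N', hN'n, hN'top, hN'⟩ := kegel ((pp A p).subgroupOf L) ((pp B p).subgroupOf L) hkeg
  rcases hN' with hN' | hN'
  · exact hN'top (eq_top_of_normalClosure hLn hAL (le_normalizer_pp A p) hApL le_rfl hN'n hN')
  · exact hN'top (eq_top_of_normalClosure hLn hBL (le_normalizer_pp B p) hBpL hLL' hN'n hN')

theorem coprime (h : MinCE0 A B) : (Nat.card A).Coprime (Nat.card B) := by
  by_contra hnc
  obtain ⟨p, hp, hpA, hpB⟩ := Nat.Prime.not_coprime_iff_dvd.1 hnc
  haveI : Fact p.Prime := ⟨hp⟩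
  have hAp : pp A p ≠ ⊥ := (pp_ne_bot_iff h.nilA p).2 hpA
  have hBp : pp B p ≠ ⊥ := (pp_ne_bot_iff h.nilB p).2 hpB
  obtain ⟨N, hN, hNtop, hle | hle⟩ := h.kegel_step p
  · exact h.cop_aux p hAp hBp hN hNtop hle
  · exact h.symm.cop_aux p hBp hAp hN hNtop hle

theorem index_dvd_card (h : MinCE0 A B) {K : Subgroup G} (hK : K.Normal) (hne : K ≠ ⊥) :
    K.index ∣ Nat.card A := by
  haveI := hK
  have h1 : K.relIndex (A ⊔ K) = K.relIndex A := Subgroup.relIndex_sup_right A K
  rw [h.sup_eq_top hK hne, Subgroup.relIndex_top_right] at h1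
  rw [h1]
  exact Subgroup.relIndex_dvd_card K A

theorem isSimpleGroup (h : MinCE0 A B) : IsSimpleGroup G := by
  haveI : Nontrivial G := by
    by_contra hnt
    rw [not_nontrivial_iff_subsingleton] at hnt
    exact h.nonsolv (Group.isSolvable_of_comm (fun a b => Subsingleton.elim _ _))
  refine ⟨fun K hK => ?_⟩
  by_cases hne : K = ⊥
  · exact Or.inl hne
  · right
    have h1 := h.index_dvd_card hK hne
    have h2 := h.symm.index_dvd_card hK hne
    have h3 : K.index ∣ 1 := by
      have := Nat.dvd_gcd h1 h2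
      rwa [h.coprime] at this
    exact Subgroup.index_eq_one.1 (Nat.dvd_one.1 h3)

theorem A_ne_top (h : MinCE0 A B) : A ≠ ⊤ := by
  intro htop
  apply h.nonsolv
  have hn : Group.IsNilpotent (⊤ : Subgroup G) := htop ▸ h.nilA
  haveI : Group.IsNilpotent G := Group.nilpotent_of_mulEquiv Subgroup.topEquiv
  infer_instance

theorem false_of_isPGroup (h : MinCE0 A B) {p : ℕ} (hp : p.Prime) (hpA : IsPGroup p A) :
    False := by
  haveI := h.isSimpleGroup
  have hcop := h.coprime
  have hBbot : B ≠ ⊥ := by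
    intro e
    apply h.A_ne_top
    rw [eq_top_iff]
    intro g _
    obtain ⟨a, ha, b, hb, rfl⟩ := h.fac g
    rw [e, Subgroup.mem_bot] at hb
    rw [hb, mul_one]; exact ha
  have hcardB : Nat.card B ≠ 1 := by
    intro e
    exact hBbot (Subgroup.card_eq_one.1 e)
  obtain ⟨q, hq, hqB⟩ := Nat.exists_prime_and_dvd hcardB
  haveI : Fact q.Prime := ⟨hq⟩
  have hBq : pp B q ≠ ⊥ := (pp_ne_bot_iff h.nilB q).2 hqB
  obtain ⟨z, hz, hz1, hzc⟩ := exists_central_of_pp_ne_bot h.nilB q hBq
  have hBle : B ≤ Subgroup.centralizer ({z} : Set G) := by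
    intro b hb
    rw [Subgroup.mem_centralizer_iff]
    intro y hy
    rw [Set.mem_singleton_iff] at hy
    rw [hy]
    exact (Subgroup.mem_centralizer_iff.1 hzc b hb).symm
  have hidx : (Subgroup.centralizer ({z} : Set G)).index ∣ B.index :=
    Subgroup.index_dvd_of_le hBle
  have hBidx : B.index = Nat.card A := by
    have h1 := B.index_mul_card
    have h2 := h.fac.card_eq_of_coprime hcop
    rw [← h2] at h1
    exact Nat.eq_of_mul_eq_mul_right Nat.card_pos h1
  haveI : Fact p.Prime := ⟨hp⟩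
  obtain ⟨k, hk⟩ := IsPGroup.iff_card.1 hpA
  rw [hBidx, hk] at hidx
  obtain ⟨j, -, hj⟩ := (Nat.dvd_prime_pow hp).1 hidx
  have hprime := Cfsg.Agent.Helper6.prime_card_of_simple_of_class_prime_pow p j hp z hz1 hj
  haveI : Fact (Nat.card G).Prime := ⟨hprime⟩
  haveI : IsCyclic G := isCyclic_of_prime_card rfl
  apply h.nonsolv
  haveI := IsCyclic.isMulCommutative (α := G)
  exact Group.isSolvable_of_comm (fun a b => mul_comm' a b)

theorem false (h : MinCE0 A B) : False := by
  by_cases hpA : ∃ p : ℕ, p.Prime ∧ IsPGroup p A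
  · obtain ⟨p, hp, hpA⟩ := hpA
    exact h.false_of_isPGroup hp hpA
  by_cases hpB : ∃ p : ℕ, p.Prime ∧ IsPGroup p B
  · obtain ⟨p, hp, hpB⟩ := hpB
    exact h.symm.false_of_isPGroup hp hpB
  exact MinCE.false ⟨h.fac, h.nilA, h.nilB, h.coprime, h.isSimpleGroup, h.nonsolv,
    fun p hp hP => hpA ⟨p, hp, hP⟩, fun p hp hP => hpB ⟨p, hp, hP⟩, h.ih⟩

end MinCE0

/-- **Kegel–Wielandt**, by induction on the order. -/
theorem kw_aux : ∀ (n : ℕ) (G : Type u) [Group G] [Finite G], Nat.card G = n →
    ∀ A B : Subgroup G, Group.IsNilpotent A → Group.IsNilpotent B → Fac A B →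
      Group.IsSolvable G := by
  intro n
  induction n using Nat.strong_induction_on with
  | _ n ih =>
    intro G _ _ hn A B hA hB hfac
    by_contra hns
    refine MinCE0.false ⟨hfac, hA, hB, hns, ?_, ?_⟩
    · intro H A' B' hH hA' hB' hAH hBH hf
      have hlt : Nat.card H < n := by
        rw [← hn]
        exact Nat.lt_of_le_of_ne (Subgroup.card_le_card_group H)
          (fun e => hH ((Subgroup.card_eq_iff_eq_top H).1 e))
      refine ih (Nat.card H) hlt H rfl (A'.subgroupOf H) (B'.subgroupOf H) ?_ ?_ ?_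
      · haveI := hA'
        exact Group.nilpotent_of_mulEquiv (Subgroup.subgroupOfEquivOfLe hAH).symm
      · haveI := hB'
        exact Group.nilpotent_of_mulEquiv (Subgroup.subgroupOfEquivOfLe hBH).symm
      · rintro ⟨g, hg⟩
        obtain ⟨a, ha, b, hb, e⟩ := hf g hg
        exact ⟨⟨a, hAH ha⟩, Subgroup.mem_subgroupOf.2 ha, ⟨b, hBH hb⟩,
          Subgroup.mem_subgroupOf.2 hb, Subtype.ext e⟩
    · intro N hN hne
      have hlt : Nat.card (G ⧸ N) < n := by
        rw [← hn, Subgroup.card_eq_card_quotient_mul_card_subgroup N]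
        have h1 : 1 < Nat.card N := (Subgroup.one_lt_card_iff_ne_bot N).2 hne
        have h2 : 0 < Nat.card (G ⧸ N) := Nat.card_pos
        nlinarith
      refine ih _ hlt (G ⧸ N) rfl (A.map (QuotientGroup.mk' N)) (B.map (QuotientGroup.mk' N))
        ?_ ?_ ?_
      · haveI := hA
        exact Group.nilpotent_of_surjective ((QuotientGroup.mk' N).subgroupMap A)
          ((QuotientGroup.mk' N).subgroupMap_surjective A)
      · haveI := hB
        exact Group.nilpotent_of_surjective ((QuotientGroup.mk' N).subgroupMap B)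
          ((QuotientGroup.mk' N).subgroupMap_surjective B)
      · intro q
        obtain ⟨g, rfl⟩ := QuotientGroup.mk_surjective q
        obtain ⟨a, ha, b, hb, e⟩ := hfac g
        refine ⟨QuotientGroup.mk' N a, Subgroup.mem_map_of_mem _ ha, QuotientGroup.mk' N b,
          Subgroup.mem_map_of_mem _ hb, ?_⟩
        rw [e]; rfl

/-- **Kegel–Wielandt**: a finite product of two nilpotent subgroups is solvable. -/
theorem kegel_wielandt {G : Type u} [Group G] [Finite G] (A B : Subgroup G)
    (hA : Group.IsNilpotent A) (hB : Group.IsNilpotent B)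
    (hAB : ∀ g : G, ∃ a ∈ A, ∃ b ∈ B, g = a * b) : Group.IsSolvable G :=
  kw_aux (Nat.card G) G rfl A B hA hB hAB

end Cfsg.Agent.Helper4.KW
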