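import Mathlib

/-!
# Two distinct commuting involutions generate a Klein four-group
-/

set_option autoImplicit false

namespace Cfsg.Agent.Helper4.KleinOfInvol

variable {G : Type*} [Group G]

/-- the subgroup `{1, x, y, xy}` for commuting involutions `x`, `y` -/
def kleinSub (x y : G) (hx : x * x = 1) (hy : y * y = 1) (hc : x * y = y * x) : Subgroup G where
  carrier := {1, x, y, x * y}
  one_mem' := Or.inl rfl
  mul_mem' := by
    have e1 : x * (x * y) = y := by rw [← mul_assoc, hx, one_mul]
    have e2 : x * y * x = y := by rw [hc, mul_assoc, hx, mul_one]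
    have e3 : y * (x * y) = x := by rw [← mul_assoc, ← hc, mul_assoc, hy, mul_one]
    have e4 : x * y * y = x := by rw [mul_assoc, hy, mul_one]
    have e5 : x * y * (x * y) = 1 := by rw [mul_assoc, e3, hx]
    intro a b ha hb
    simp only [Set.mem_insert_iff, Set.mem_singleton_iff] at ha hb ⊢
    rcases ha with rfl | rfl | rfl | rfl <;> rcases hb with rfl | rfl | rfl | rfl
    · left; rw [mul_one]
    · right; left; rw [one_mul]
    · right; right; left; rw [one_mul]
    · right; right; right; rw [one_mul]
    · right; left; rw [mul_one]
    · left; exact hx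
    · right; right; right; rfl
    · right; right; left; exact e1
    · right; right; left; rw [mul_one]
    · right; right; right; exact hc.symm
    · left; exact hy
    · right; left; exact e3
    · right; right; right; rw [mul_one]
    · right; right; left; exact e2
    · right; left; exact e4
    · left; exact e5
  inv_mem' := by
    have i1 : x⁻¹ = x := inv_eq_of_mul_eq_one_right hx
    have i2 : y⁻¹ = y := inv_eq_of_mul_eq_one_right hy
    have i3 : (x * y)⁻¹ = x * y := by rw [mul_inv_rev, i1, i2, hc]
    intro a ha
    simp only [Set.mem_insert_iff, Set.mem_singleton_iff] at ha ⊢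
    rcases ha with rfl | rfl | rfl | rfl
    · left; exact inv_one
    · right; left; exact i1
    · right; right; left; exact i2
    · right; right; right; exact i3

theorem mem_kleinSub (x y : G) (hx : x * x = 1) (hy : y * y = 1) (hc : x * y = y * x) (a : G) :
    a ∈ kleinSub x y hx hy hc ↔ a = 1 ∨ a = x ∨ a = y ∨ a = x * y := by
  show a ∈ ({1, x, y, x * y} : Set G) ↔ _
  simp only [Set.mem_insert_iff, Set.mem_singleton_iff]

/-- two distinct commuting involutions lie in a Klein four-subgroup -/
theorem exists_kleinFour (x y : G) (hx : orderOf x = 2) (hy : orderOf y = 2) (hne : x ≠ y)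
    (hc : Commute x y) : ∃ E : Subgroup G, IsKleinFour E ∧ x ∈ E ∧ y ∈ E := by
  classical
  have hxx : x * x = 1 := by
    have := pow_orderOf_eq_one x
    rwa [hx, pow_two] at this
  have hyy : y * y = 1 := by
    have := pow_orderOf_eq_one y
    rwa [hy, pow_two] at this
  have hx1 : x ≠ 1 := by
    intro h; rw [h, orderOf_one] at hx; omega
  have hy1 : y ≠ 1 := by
    intro h; rw [h, orderOf_one] at hy; omega
  refine ⟨kleinSub x y hxx hyy hc.eq, ?_, ?_, ?_⟩
  · have hsq : ∀ q : kleinSub x y hxx hyy hc.eq, q ^ 2 = 1 := by
      intro q
      apply Subtype.ext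
      rw [Subgroup.coe_pow, Subgroup.coe_one, pow_two]
      rcases (mem_kleinSub x y hxx hyy hc.eq q).mp q.2 with h | h | h | h <;> rw [h]
      · rw [mul_one]
      · exact hxx
      · exact hyy
      · rw [mul_assoc, ← mul_assoc y, ← hc.eq, mul_assoc, hyy, mul_one, hxx]
    have hcard : Nat.card (kleinSub x y hxx hyy hc.eq) = 4 := by
      have h1 : Nat.card (kleinSub x y hxx hyy hc.eq) =
          Nat.card (({1, x, y, x * y} : Finset G) : Set G) := by
        apply Nat.card_congr
        apply Equiv.setCongr
        ext a
        simp only [Finset.coe_insert, Finset.coe_singleton]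
        rfl
      rw [h1, Nat.card_coe_set_eq, Set.ncard_coe_finset]
      have n1 : (1 : G) ∉ ({x, y, x * y} : Finset G) := by
        simp only [Finset.mem_insert, Finset.mem_singleton, not_or]
        refine ⟨fun h => hx1 h.symm, fun h => hy1 h.symm, fun h => ?_⟩
        apply hne
        have : x * y = x * x := by rw [← h, hxx]
        exact (mul_left_cancel this).symm
      have n2 : x ∉ ({y, x * y} : Finset G) := by
        simp only [Finset.mem_insert, Finset.mem_singleton, not_or]
        refine ⟨hne, fun h => hy1 ?_⟩
        have : x * 1 = x * y := by rw [mul_one]; exact h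
        exact (mul_left_cancel this).symm
      have n3 : y ∉ ({x * y} : Finset G) := by
        simp only [Finset.mem_singleton]
        intro h
        apply hx1
        have : 1 * y = x * y := by rw [one_mul]; exact h
        exact (mul_right_cancel this).symm
      rw [Finset.card_insert_of_notMem n1, Finset.card_insert_of_notMem n2,
        Finset.card_insert_of_notMem n3, Finset.card_singleton]
    refine ⟨hcard, ?_⟩
    have hdvd : Monoid.exponent (kleinSub x y hxx hyy hc.eq) ∣ 2 :=
      Monoid.exponent_dvd_of_forall_pow_eq_one hsq
    rcases (Nat.dvd_prime Nat.prime_two).mp hdvd with h | h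
    · exfalso
      rw [Monoid.exp_eq_one_iff] at h
      have : Nat.card (kleinSub x y hxx hyy hc.eq) = 1 :=
        Nat.card_eq_one_iff_unique.mpr ⟨h, ⟨1⟩⟩
      omega
    · exact h
  · exact (mem_kleinSub x y hxx hyy hc.eq x).mpr (Or.inr (Or.inl rfl))
  · exact (mem_kleinSub x y hxx hyy hc.eq y).mpr (Or.inr (Or.inr (Or.inl rfl)))

end Cfsg.Agent.Helper4.KleinOfInvol
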