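import Mathlib

set_option autoImplicit false

namespace Cfsg.Agent.Helper4

universe u v w

theorem finite_monoidHom (T : Type*) (A : Type*) [Group T] [Group A] [Finite T] [Finite A] :
    Finite (T →* A) :=
  Finite.of_injective (fun f => (f : T → A)) DFunLike.coe_injective

/-- homomorphisms with prescribed normal kernel correspond to injective homomorphisms of the quotient -/
theorem card_ker_eq_fiber {T : Type u} {A : Type v} [Group T] [Group A] (N : Subgroup T) [N.Normal] :
    Nat.card {g : T →* A // g.ker = N} = Nat.card {h : T ⧸ N →* A // h.ker = ⊥} := by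
  apply Nat.card_congr
  refine ⟨fun g => ⟨QuotientGroup.lift N g.1 (by rw [g.2]), ?_⟩,
    fun h => ⟨h.1.comp (QuotientGroup.mk' N), ?_⟩, ?_, ?_⟩
  · rw [eq_bot_iff]
    intro q hq
    obtain ⟨t, rfl⟩ := QuotientGroup.mk_surjective q
    rw [MonoidHom.mem_ker, QuotientGroup.lift_mk] at hq
    have : t ∈ g.1.ker := hq
    rw [g.2] at this
    rw [Subgroup.mem_bot]
    exact (QuotientGroup.eq_one_iff t).2 this
  · ext t
    rw [MonoidHom.mem_ker, MonoidHom.comp_apply]
    have h1 : h.1 ((QuotientGroup.mk' N) t) = 1 ↔ (QuotientGroup.mk' N) t ∈ h.1.ker := Iff.rfl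
    rw [h1, h.2, Subgroup.mem_bot]
    exact QuotientGroup.eq_one_iff t
  · intro g
    apply Subtype.ext
    ext t
    rfl
  · intro h
    apply Subtype.ext
    ext q
    rfl

theorem card_hom_eq_sum {T : Type u} {A : Type v} [Group T] [Group A] [Finite T] [Finite A]
    [Fintype (Subgroup T)] :
    Nat.card (T →* A) = ∑ N : Subgroup T, Nat.card {g : T →* A // g.ker = N} := by
  have := finite_monoidHom T A
  rw [← Nat.card_sigma]
  exact Nat.card_congr (Equiv.sigmaFiberEquiv (fun g : T →* A => g.ker)).symm

/-- Lovász: equal hom-counts give equal counts of injective homomorphisms -/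
theorem card_inj_eq_of_card_hom_eq {A : Type v} {B : Type w} [Group A] [Group B] [Finite A] [Finite B]
    (hHom : ∀ (T : Type u) [Group T] [Finite T], Nat.card (T →* A) = Nat.card (T →* B)) :
    ∀ (n : ℕ) (T : Type u) [Group T] [Finite T], Nat.card T = n →
      Nat.card {g : T →* A // g.ker = ⊥} = Nat.card {g : T →* B // g.ker = ⊥} := by
  intro n
  induction n using Nat.strong_induction_on with
  | _ n ih =>
  intro T _ _ hT
  classical
  have hfin : Fintype (Subgroup T) := Fintype.ofFinite _
  have h1 := hHom T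
  rw [card_hom_eq_sum, card_hom_eq_sum] at h1
  rw [← Finset.add_sum_erase Finset.univ _ (Finset.mem_univ (⊥ : Subgroup T)),
    ← Finset.add_sum_erase Finset.univ _ (Finset.mem_univ (⊥ : Subgroup T))] at h1
  have h2 : ∑ N ∈ Finset.univ.erase (⊥ : Subgroup T), Nat.card {g : T →* A // g.ker = N} =
      ∑ N ∈ Finset.univ.erase (⊥ : Subgroup T), Nat.card {g : T →* B // g.ker = N} := by
    apply Finset.sum_congr rfl
    intro N hN
    have hNbot : N ≠ ⊥ := (Finset.mem_erase.1 hN).1
    by_cases hNn : N.Normal
    · rw [card_ker_eq_fiber N, card_ker_eq_fiber N]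
      apply ih (Nat.card (T ⧸ N)) _ (T ⧸ N) rfl
      rw [← hT, Subgroup.card_eq_card_quotient_mul_card_subgroup N]
      have h3 : 1 < Nat.card N := N.one_lt_card_iff_ne_bot.2 hNbot
      have h4 : 0 < Nat.card (T ⧸ N) := Nat.card_pos
      nlinarith
    · have e1 : IsEmpty {g : T →* A // g.ker = N} :=
        ⟨fun g => hNn (by rw [← g.2]; exact MonoidHom.normal_ker g.1)⟩
      have e2 : IsEmpty {g : T →* B // g.ker = N} :=
        ⟨fun g => hNn (by rw [← g.2]; exact MonoidHom.normal_ker g.1)⟩
      rw [Nat.card_of_isEmpty, Nat.card_of_isEmpty]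
  rw [h2] at h1
  exact Nat.add_right_cancel h1

/-- cancellation of finite groups in direct products -/
theorem prod_cancel {A : Type u} {B : Type v} {C : Type w} [Group A] [Group B] [Group C]
    [Finite A] [Finite B] [Finite C] (f : A × C ≃* B × C) : Nonempty (A ≃* B) := by
  have hHom : ∀ (T : Type u) [Group T] [Finite T], Nat.card (T →* A) = Nat.card (T →* B) := by
    intro T _ _
    have hfA := finite_monoidHom T A
    have hfB := finite_monoidHom T B
    have hfC := finite_monoidHom T C
    have eA : (T →* A × C) ≃ (T →* A) × (T →* C) :=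
      ⟨fun g => ((MonoidHom.fst A C).comp g, (MonoidHom.snd A C).comp g), fun p => p.1.prod p.2,
        fun g => by ext t <;> rfl, fun p => by ext t <;> rfl⟩
    have eB : (T →* B × C) ≃ (T →* B) × (T →* C) :=
      ⟨fun g => ((MonoidHom.fst B C).comp g, (MonoidHom.snd B C).comp g), fun p => p.1.prod p.2,
        fun g => by ext t <;> rfl, fun p => by ext t <;> rfl⟩
    have eAB : (T →* A × C) ≃ (T →* B × C) :=
      ⟨fun g => f.toMonoidHom.comp g, fun g => f.symm.toMonoidHom.comp g,
        fun g => by ext t <;> simp, fun g => by ext t <;> simp⟩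
    have h1 : Nat.card ((T →* A) × (T →* C)) = Nat.card ((T →* B) × (T →* C)) :=
      Nat.card_congr (eA.symm.trans (eAB.trans eB))
    rw [Nat.card_prod, Nat.card_prod] at h1
    have hpos : 0 < Nat.card (T →* C) := Nat.card_pos
    exact Nat.eq_of_mul_eq_mul_right hpos h1
  have hinj := card_inj_eq_of_card_hom_eq hHom (Nat.card A) A rfl
  have hfAA := finite_monoidHom A A
  have hfAB := finite_monoidHom A B
  have hne : Nonempty {g : A →* A // g.ker = ⊥} :=
    ⟨⟨MonoidHom.id A, by
      rw [eq_bot_iff]
      intro a ha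
      exact ha⟩⟩
  have hpos : 0 < Nat.card {g : A →* A // g.ker = ⊥} := Nat.card_pos
  rw [hinj] at hpos
  obtain ⟨⟨g, hg⟩⟩ := (Nat.card_pos_iff.1 hpos).1
  have hginj : Function.Injective g := (MonoidHom.ker_eq_bot_iff g).1 hg
  have hcard : Nat.card A = Nat.card B := by
    have h1 := Nat.card_congr f.toEquiv
    rw [Nat.card_prod, Nat.card_prod] at h1
    exact Nat.eq_of_mul_eq_mul_right Nat.card_pos h1
  have hbij : Function.Bijective g := by
    rw [Nat.bijective_iff_injective_and_card]
    exact ⟨hginj, hcard⟩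
  exact ⟨MulEquiv.ofBijective g hbij⟩

end Cfsg.Agent.Helper4
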