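import Mathlib
import Cfsg.Agent.Helper4.KrullSchmidtA

set_option autoImplicit false

namespace Cfsg.Agent.Helper4

universe u v w

section

variable {H : Type u} [Group H]

/-- a normal endomorphism commutes with all inner automorphisms -/
def IsNormalEndo (φ : H →* H) : Prop := ∀ a x : H, φ (a * x * a⁻¹) = a * φ x * a⁻¹

/-- direct indecomposability, in the form used in the statements -/
def IsDirIndec (H : Type u) [Group H] : Prop :=
  ∀ A B : Subgroup H, A.Normal → B.Normal → A ⊓ B = ⊥ → A ⊔ B = ⊤ → A = ⊥ ∨ B = ⊥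

/-- iterates of an endomorphism -/
def endoIter (φ : H →* H) : ℕ → (H →* H)
  | 0 => MonoidHom.id H
  | n + 1 => (endoIter φ n).comp φ

theorem endoIter_zero (φ : H →* H) (x : H) : endoIter φ 0 x = x := rfl

theorem endoIter_succ (φ : H →* H) (n : ℕ) (x : H) : endoIter φ (n + 1) x = endoIter φ n (φ x) := rfl

theorem endoIter_add (φ : H →* H) (a b : ℕ) (x : H) :
    endoIter φ (a + b) x = endoIter φ a (endoIter φ b x) := by
  induction b generalizing x with
  | zero => rfl
  | succ b ih =>
    rw [← add_assoc, endoIter_succ, endoIter_succ, ih]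

theorem exists_idempotent_iter [Finite H] (φ : H →* H) :
    ∃ n : ℕ, 0 < n ∧ ∀ x, endoIter φ n (endoIter φ n x) = endoIter φ n x := by
  have hfin : Finite (H →* H) := finite_monoidHom H H
  obtain ⟨a, b, hab, hpow⟩ := Finite.exists_ne_map_eq_of_infinite (fun k : ℕ => endoIter φ k)
  have hpow' : endoIter φ a = endoIter φ b := hpow
  clear hpow
  wlog hlt : a < b generalizing a b
  · exact this b a hab.symm hpow'.symm (lt_of_le_of_ne (not_lt.1 hlt) hab.symm)
  obtain ⟨d, hd⟩ : ∃ d, b = a + d := ⟨b - a, by omega⟩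
  have hd0 : 0 < d := by omega
  subst hd
  have hstep : ∀ n, a ≤ n → ∀ x, endoIter φ (n + d) x = endoIter φ n x := by
    intro n hn x
    obtain ⟨c, rfl⟩ : ∃ c, n = c + a := ⟨n - a, by omega⟩
    rw [add_assoc, endoIter_add, ← hpow', ← endoIter_add]
  have hmul : ∀ k n, a ≤ n → ∀ x, endoIter φ (n + k * d) x = endoIter φ n x := by
    intro k
    induction k with
    | zero => intro n _ x; rw [zero_mul, add_zero]
    | succ k ih =>
      intro n hn x
      rw [add_mul, one_mul, ← add_assoc, hstep _ (by omega), ih n hn]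
  refine ⟨(a + 1) * d, by positivity, ?_⟩
  intro x
  rw [← endoIter_add]
  exact hmul (a + 1) ((a + 1) * d) (by nlinarith) x

theorem isNormalEndo_iter (φ : H →* H) (hφ : IsNormalEndo φ) (n : ℕ) :
    IsNormalEndo (endoIter φ n) := by
  induction n with
  | zero =>
    intro a x
    rfl
  | succ n ih =>
    intro a x
    rw [endoIter_succ, endoIter_succ, hφ, ih]

/-- Fitting's lemma for a directly indecomposable finite group -/
theorem injective_or_nilpotent [Finite H] (hind : IsDirIndec H) (φ : H →* H)
    (hφ : IsNormalEndo φ) : Function.Injective φ ∨ ∃ n : ℕ, ∀ x : H, endoIter φ n x = 1 := by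
  obtain ⟨n, hn0, hee⟩ := exists_idempotent_iter φ
  obtain ⟨e, he⟩ : ∃ e : H →* H, e = endoIter φ n := ⟨_, rfl⟩
  rw [← he] at hee
  have henorm : IsNormalEndo e := by rw [he]; exact isNormalEndo_iter φ hφ n
  have hImNormal : (MonoidHom.range e).Normal := by
    constructor
    rintro _ ⟨x, rfl⟩ a
    exact ⟨a * x * a⁻¹, henorm a x⟩
  have hKrNormal : (MonoidHom.ker e).Normal := MonoidHom.normal_ker e
  have hinf : MonoidHom.ker e ⊓ MonoidHom.range e = ⊥ := by
    rw [eq_bot_iff]
    rintro y ⟨hy1, ⟨z, rfl⟩⟩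
    have hy2 : e (e z) = 1 := hy1
    rw [hee] at hy2
    rw [Subgroup.mem_bot]
    exact hy2
  have hsup : MonoidHom.ker e ⊔ MonoidHom.range e = ⊤ := by
    rw [eq_top_iff]
    intro x _
    have h1 : x = (x * (e x)⁻¹) * e x := by group
    rw [h1]
    apply Subgroup.mul_mem
    · apply Subgroup.mem_sup_left
      rw [MonoidHom.mem_ker, map_mul, map_inv, hee, mul_inv_cancel]
    · exact Subgroup.mem_sup_right ⟨x, rfl⟩
  rcases hind _ _ hKrNormal hImNormal hinf hsup with h | h
  · left
    have heinj : Function.Injective e := (MonoidHom.ker_eq_bot_iff e).1 h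
    intro x y hxy
    apply heinj
    rw [he]
    obtain ⟨m, rfl⟩ : ∃ m, n = m + 1 := ⟨n - 1, by omega⟩
    rw [endoIter_succ, endoIter_succ, hxy]
  · right
    refine ⟨n, fun x => ?_⟩
    rw [← he]
    have : e x ∈ MonoidHom.range e := ⟨x, rfl⟩
    rw [h, Subgroup.mem_bot] at this
    exact this

/-- if `φ + ψ = id` with `φ` normal, then one of them is injective -/
theorem injective_of_mul_eq [Finite H] (hind : IsDirIndec H) (φ ψ : H →* H)
    (hφ : IsNormalEndo φ) (hsum : ∀ x, φ x * ψ x = x) :
    Function.Injective φ ∨ Function.Injective ψ := by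
  rcases injective_or_nilpotent hind φ hφ with h | ⟨n, hn⟩
  · exact Or.inl h
  · right
    rw [injective_iff_map_eq_one]
    intro x hx
    have h1 : φ x = x := by
      have := hsum x
      rwa [hx, mul_one] at this
    have h2 : ∀ k : ℕ, endoIter φ k x = x := by
      intro k
      induction k with
      | zero => rfl
      | succ k ih => rw [endoIter_succ, h1, ih]
    rw [← h2 n, hn]

end

end Cfsg.Agent.Helper4
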