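import Mathlib
import Cfsg.Agent.Helper4.KrullSchmidtB

set_option autoImplicit false

namespace Cfsg.Agent.Helper4

universe u v w

section

variable {H : Type u} [Group H]

/-- the two-factor step: an indecomposable direct factor `H` of `K × K'` (with `K` indecomposable)
is isomorphic to `K` or is a direct factor of `K'` -/
theorem two_factor_step [Finite H] [Nontrivial H] (hindH : IsDirIndec H)
    {K : Type v} {K' : Type w} [Group K] [Group K'] [Finite K] (hindK : IsDirIndec K)
    (ι : H →* K × K') (π : K × K' →* H) (hπι : ∀ h, π (ι h) = h) (hnorm : (ι.range).Normal) :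
    Nonempty (H ≃* K) ∨ ∃ (ι' : H →* K') (π' : K' →* H), (∀ h, π' (ι' h) = h) ∧ (ι'.range).Normal := by
  obtain ⟨φ, hφ⟩ : ∃ φ : H →* H, φ = π.comp ((MonoidHom.inl K K').comp ((MonoidHom.fst K K').comp ι)) :=
    ⟨_, rfl⟩
  obtain ⟨ψ, hψ⟩ : ∃ ψ : H →* H, ψ = π.comp ((MonoidHom.inr K K').comp ((MonoidHom.snd K K').comp ι)) :=
    ⟨_, rfl⟩
  have hφx : ∀ x, φ x = π ((ι x).1, 1) := fun x => by rw [hφ]; rfl
  have hψx : ∀ x, ψ x = π (1, (ι x).2) := fun x => by rw [hψ]; rfl
  have hsum : ∀ x, φ x * ψ x = x := by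
    intro x
    rw [hφx, hψx, ← map_mul, Prod.mk_mul_mk, mul_one, one_mul]
    exact hπι x
  have hφn : IsNormalEndo φ := by
    intro a x
    rw [hφx, hφx]
    have h1 : ((ι (a * x * a⁻¹)).1, (1 : K')) = ι a * ((ι x).1, 1) * (ι a)⁻¹ := by
      rw [map_mul, map_mul, map_inv]
      apply Prod.ext
      · simp
      · simp
    rw [h1, map_mul, map_mul, map_inv, hπι]
  rcases injective_of_mul_eq hindH φ ψ hφn hsum with hinj | hinj
  · left
    obtain ⟨β, hβ⟩ : ∃ β : H →* K, β = (MonoidHom.fst K K').comp ι := ⟨_, rfl⟩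
    obtain ⟨γ, hγ⟩ : ∃ γ : K →* H, γ = π.comp (MonoidHom.inl K K') := ⟨_, rfl⟩
    have hγβ : ∀ h, γ (β h) = φ h := fun h => by rw [hγ, hβ, hφ]; rfl
    have hβinj : Function.Injective β := by
      intro x y hxy
      apply hinj
      rw [← hγβ, ← hγβ, hxy]
    have hImN : (β.range).Normal := by
      have : β.range = (ι.range).map (MonoidHom.fst K K') := by
        rw [hβ, MonoidHom.range_comp]
      rw [this]
      exact hnorm.map _ Prod.fst_surjective
    have hKrN : (γ.ker).Normal := MonoidHom.normal_ker γ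
    have hinf : β.range ⊓ γ.ker = ⊥ := by
      rw [eq_bot_iff]
      rintro k ⟨⟨h, rfl⟩, hk⟩
      have hk' : γ (β h) = 1 := hk
      rw [hγβ] at hk'
      have : h = 1 := hinj (by rw [hk', map_one])
      rw [Subgroup.mem_bot, this, map_one]
    have hφsurj : Function.Surjective φ := Finite.injective_iff_surjective.1 hinj
    have hsup : β.range ⊔ γ.ker = ⊤ := by
      rw [eq_top_iff]
      intro k _
      obtain ⟨h, hh⟩ := hφsurj (γ k)
      have h1 : k = β h * ((β h)⁻¹ * k) := by group
      rw [h1]
      apply Subgroup.mul_mem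
      · exact Subgroup.mem_sup_left ⟨h, rfl⟩
      · apply Subgroup.mem_sup_right
        rw [MonoidHom.mem_ker, map_mul, map_inv, hγβ, hh, inv_mul_cancel]
    rcases hindK _ _ hImN hKrN hinf hsup with h | h
    · exfalso
      obtain ⟨x, hx⟩ := exists_ne (1 : H)
      apply hx
      apply hβinj
      have : β x ∈ β.range := ⟨x, rfl⟩
      rw [h, Subgroup.mem_bot] at this
      rw [this, map_one]
    · have hγinj : Function.Injective γ := (MonoidHom.ker_eq_bot_iff γ).1 h
      have hcard : Nat.card H = Nat.card K :=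
        le_antisymm (Nat.card_le_card_of_injective β hβinj) (Nat.card_le_card_of_injective γ hγinj)
      have hbij : Function.Bijective β := by
        rw [Nat.bijective_iff_injective_and_card]
        exact ⟨hβinj, hcard⟩
      exact ⟨MulEquiv.ofBijective β hbij⟩
  · right
    have hψbij : Function.Bijective ψ := ⟨hinj, Finite.injective_iff_surjective.1 hinj⟩
    obtain ⟨ψe, hψe⟩ : ∃ ψe : H ≃* H, ∀ x, ψe x = ψ x := ⟨MulEquiv.ofBijective ψ hψbij, fun x => rfl⟩
    refine ⟨(MonoidHom.snd K K').comp ι,
      ψe.symm.toMonoidHom.comp (π.comp (MonoidHom.inr K K')), ?_, ?_⟩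
    · intro h
      show ψe.symm (π (1, (ι h).2)) = h
      rw [← hψx, ← hψe, MulEquiv.symm_apply_apply]
    · have : ((MonoidHom.snd K K').comp ι).range = (ι.range).map (MonoidHom.snd K K') := by
        rw [MonoidHom.range_comp]
      rw [this]
      exact hnorm.map _ Prod.snd_surjective

/-- an indecomposable direct factor of a product of indecomposables is isomorphic to one of the
factors -/
theorem exists_factor_iso [Finite H] [Nontrivial H] (hindH : IsDirIndec H) :
    ∀ (n : ℕ) (K : Fin n → Type v) [∀ j, Group (K j)] [∀ j, Finite (K j)]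
      (_ : ∀ j, IsDirIndec (K j)) (ι : H →* ((j : Fin n) → K j)) (π : ((j : Fin n) → K j) →* H)
      (_ : ∀ h, π (ι h) = h) (_ : (ι.range).Normal), ∃ j, Nonempty (H ≃* K j) := by
  intro n
  induction n with
  | zero =>
    intro K _ _ _ ι π hπι _
    exfalso
    obtain ⟨x, hx⟩ := exists_ne (1 : H)
    apply hx
    have h1 : ι x = ι 1 := Subsingleton.elim _ _
    rw [← hπι x, h1, hπι]
  | succ n ih =>
    intro K _ _ hK ι π hπι hnorm
    obtain ⟨E, hE⟩ : ∃ E : ((j : Fin (n + 1)) → K j) ≃* K 0 × ((j : Fin n) → K j.succ),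
        ∀ f : ((j : Fin (n + 1)) → K j), E f = (f 0, fun j : Fin n => f j.succ) := by
      refine ⟨{ toFun := fun f => (f 0, fun j : Fin n => f j.succ)
                invFun := fun p => Fin.cons p.1 p.2
                left_inv := ?_
                right_inv := ?_
                map_mul' := ?_ }, fun f => rfl⟩
      · intro f
        funext j
        refine Fin.cases ?_ ?_ j
        · rfl
        · intro i; rfl
      · intro p
        rfl
      · intro f g
        rfl
    have hnorm2 : ((E.toMonoidHom.comp ι).range).Normal := by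
      have : (E.toMonoidHom.comp ι).range = (ι.range).map E.toMonoidHom := by
        rw [MonoidHom.range_comp]
      rw [this]
      exact hnorm.map _ E.surjective
    rcases two_factor_step hindH (hK 0) (E.toMonoidHom.comp ι) (π.comp E.symm.toMonoidHom)
        (by
          intro h
          show π (E.symm (E (ι h))) = h
          rw [MulEquiv.symm_apply_apply, hπι]) hnorm2 with h | ⟨ι', π', hπι', hnorm'⟩
    · exact ⟨0, h⟩
    · obtain ⟨j, hj⟩ := ih (fun j => K j.succ) (fun j => hK j.succ) ι' π' hπι' hnorm'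
      exact ⟨j.succ, hj⟩

end

end Cfsg.Agent.Helper4
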