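import Mathlib
import Cfsg.Agent.Helper4.KrullSchmidtC

set_option autoImplicit false

namespace Cfsg.Agent.Helper4

universe u v

/-- splitting off the `j`-th factor of a finite product, as a multiplicative equivalence -/
def piSplitMulEquiv {n : ℕ} (B : Fin (n + 1) → Type v) [∀ j, Group (B j)] (j : Fin (n + 1)) :
    ((l : Fin (n + 1)) → B l) ≃* B j × ((l : Fin n) → B (j.succAbove l)) :=
  { (Fin.insertNthEquiv B j).symm with
    map_mul' := fun _ _ => rfl }

theorem mulSingle_range_normal {m : ℕ} (A : Fin m → Type u) [∀ i, Group (A i)] (i₀ : Fin m) :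
    ((MonoidHom.mulSingle A i₀).range).Normal := by
  constructor
  rintro _ ⟨h, rfl⟩ g
  refine ⟨g i₀ * h * (g i₀)⁻¹, ?_⟩
  funext i
  by_cases hi : i = i₀
  · subst hi
    simp
  · simp [Pi.mulSingle_eq_of_ne hi]

theorem krull_schmidt : ∀ (m n : ℕ) (A : Fin m → Type u) (B : Fin n → Type v)
    [∀ i, Group (A i)] [∀ j, Group (B j)] [∀ i, Finite (A i)] [∀ j, Finite (B j)]
    (_ : ∀ i, Nontrivial (A i) ∧ IsDirIndec (A i)) (_ : ∀ j, Nontrivial (B j) ∧ IsDirIndec (B j))
    (_ : ((i : Fin m) → A i) ≃* ((j : Fin n) → B j)),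
    ∃ σ : Fin m ≃ Fin n, ∀ i, Nonempty (A i ≃* B (σ i)) := by
  intro m
  induction m with
  | zero =>
    intro n A B _ _ _ _ hA hB e
    cases n with
    | zero => exact ⟨Equiv.refl _, fun i => i.elim0⟩
    | succ n' =>
      exfalso
      have hnt := (hB 0).1
      obtain ⟨b, hb⟩ := exists_ne (1 : B 0)
      apply hb
      have h1 : e.symm (Pi.mulSingle 0 b) = e.symm 1 := Subsingleton.elim _ _
      have h2 := e.symm.injective h1
      have h3 := congrFun h2 0
      rwa [Pi.mulSingle_eq_same] at h3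
  | succ m ih =>
    intro n A B _ _ _ _ hA hB e
    have hnt := (hA 0).1
    -- direct factor data
    obtain ⟨ι, hι⟩ : ∃ ι : A 0 →* ((j : Fin n) → B j),
        ι = e.toMonoidHom.comp (MonoidHom.mulSingle A 0) := ⟨_, rfl⟩
    obtain ⟨π, hπ⟩ : ∃ π : ((j : Fin n) → B j) →* A 0,
        π = (Pi.evalMonoidHom A 0).comp e.symm.toMonoidHom := ⟨_, rfl⟩
    have hπι : ∀ h, π (ι h) = h := by
      intro h
      rw [hπ, hι]
      show (e.symm (e (Pi.mulSingle 0 h))) 0 = h
      rw [MulEquiv.symm_apply_apply, Pi.mulSingle_eq_same]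
    have hnorm : (ι.range).Normal := by
      have : ι.range = ((MonoidHom.mulSingle A 0).range).map e.toMonoidHom := by
        rw [hι, MonoidHom.range_comp]
      rw [this]
      exact (mulSingle_range_normal A 0).map _ e.surjective
    obtain ⟨j, ⟨iso0⟩⟩ := exists_factor_iso (hA 0).2 n B (fun j => (hB j).2) ι π hπι hnorm
    cases n with
    | zero => exact j.elim0
    | succ n' =>
      -- cancel the matched factor
      have f1 : A 0 × ((i : Fin m) → A i.succ) ≃* A 0 × ((l : Fin n') → B (j.succAbove l)) :=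
        ((piSplitMulEquiv A 0).symm.trans (e.trans (piSplitMulEquiv B j))).trans
          (MulEquiv.prodCongr iso0.symm (MulEquiv.refl _))
      have f2 : ((i : Fin m) → A i.succ) × A 0 ≃* ((l : Fin n') → B (j.succAbove l)) × A 0 :=
        (MulEquiv.prodComm).trans (f1.trans MulEquiv.prodComm)
      obtain ⟨f3⟩ := prod_cancel f2
      obtain ⟨σ', hσ'⟩ := ih n' (fun i => A i.succ) (fun l => B (j.succAbove l))
        (fun i => hA i.succ) (fun l => hB (j.succAbove l)) f3
      obtain ⟨σ, hσ⟩ : ∃ σ : Fin (m + 1) ≃ Fin (n' + 1),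
          σ = (finSuccEquiv' 0).trans ((Equiv.optionCongr σ').trans (finSuccEquiv' j).symm) :=
        ⟨_, rfl⟩
      have hσ0 : σ 0 = j := by
        rw [hσ]
        simp
      have hσs : ∀ i : Fin m, σ i.succ = j.succAbove (σ' i) := by
        intro i
        have h1 : (finSuccEquiv' (0 : Fin (m + 1))) i.succ = some i := by
          rw [finSuccEquiv'_zero]
          exact finSuccEquiv_succ i
        rw [hσ]
        simp [h1]
      refine ⟨σ, ?_⟩
      intro i
      refine Fin.cases ?_ ?_ i
      · rw [hσ0]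
        exact ⟨iso0⟩
      · intro i'
        rw [hσs]
        exact hσ' i'

end Cfsg.Agent.Helper4
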