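import Mathlib
import Cfsg.Agent.Helper6.KuDefs
import Cfsg.Agent.Lead.Ku_CenterComm

set_option autoImplicit false

/-!
# S4607, towards K6: a unital local symmetric algebra with `dim Z ≤ 2` has dimension `≤ 2`
-/

namespace Cfsg.Agent.Helper6.Ku

open Module

variable {F : Type*} [Field F] {B : Type*} [Ring B] [Algebra F B]

/-- products of `N` elements of `I` vanish ⇒ `I ^ N = ⊥`. -/
theorem h4_pow_eq_bot (I : Submodule F B) (N : ℕ)
    (hnil : ∀ f : Fin N → B, (∀ k, f k ∈ I) → (List.ofFn f).prod = 0) : I ^ N = ⊥ := by
  rw [Submodule.pow_eq_span_pow_set, Submodule.span_eq_bot]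
  intro a ha
  rw [Set.mem_pow] at ha
  obtain ⟨f, rfl⟩ := ha
  exact hnil (fun k => (f k : B)) (fun k => (f k).2)

/-- `I ^ (m+1) ≤ I ^ m` for a subspace closed under multiplication. -/
theorem h4_pow_succ_le (I : Submodule F B) (hII : I * I ≤ I) (m : ℕ) (hm : m ≠ 0) :
    I ^ (m + 1) ≤ I ^ m := by
  obtain ⟨k, rfl⟩ := Nat.exists_eq_succ_of_ne_zero hm
  rw [Submodule.pow_succ, Submodule.pow_succ (n := k), mul_assoc]
  exact mul_le_mul' le_rfl hII

/-- commutators lie in `I * I` when `B = F·1 + I`. -/
theorem h4_commSpan_le (I : Submodule F B) (hloc : ∀ b : B, ∃ t : F, b - t • (1 : B) ∈ I) :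
    commSpan F B ≤ I * I := by
  unfold commSpan
  rw [Submodule.span_le]
  rintro x ⟨a, b, rfl⟩
  obtain ⟨s, hs⟩ := hloc a
  obtain ⟨t, ht⟩ := hloc b
  have h1 : a * b - b * a = (a - s • (1 : B)) * (b - t • (1 : B)) -
      (b - t • (1 : B)) * (a - s • (1 : B)) := by
    simp only [sub_mul, mul_sub, smul_mul_assoc, mul_smul_comm, one_mul, mul_one, smul_sub,
      smul_smul]
    rw [mul_comm t s]
    abel
  rw [h1]
  exact sub_mem (Submodule.mul_mem_mul hs ht) (Submodule.mul_mem_mul ht hs)

/-- an algebra generated by one element is commutative. -/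
theorem h4_comm_of_adjoin (x : B) (h : Algebra.adjoin F {x} = ⊤) (a b : B) : a * b = b * a := by
  have hx : ∀ a : B, a * x = x * a := by
    intro a
    have h1 : Algebra.adjoin F {x} ≤ Subalgebra.centralizer F {x} := by
      apply Algebra.adjoin_le
      intro y hy
      rw [Set.mem_singleton_iff] at hy
      subst hy
      rw [SetLike.mem_coe, Subalgebra.mem_centralizer_iff]
      intro g hg
      rw [Set.mem_singleton_iff] at hg
      subst hg
      rfl
    have ha : a ∈ Subalgebra.centralizer F {x} := h1 (by rw [h]; trivial)
    rw [Subalgebra.mem_centralizer_iff] at ha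
    exact (ha x rfl).symm
  have h2 : Algebra.adjoin F {x} ≤ Subalgebra.centralizer F {a} := by
    apply Algebra.adjoin_le
    intro y hy
    rw [Set.mem_singleton_iff] at hy
    subst hy
    rw [SetLike.mem_coe, Subalgebra.mem_centralizer_iff]
    intro g hg
    rw [Set.mem_singleton_iff] at hg
    subst hg
    exact hx g
  have hb : b ∈ Subalgebra.centralizer F {a} := h2 (by rw [h]; trivial)
  rw [Subalgebra.mem_centralizer_iff] at hb
  exact hb a rfl

/-- the Nakayama-type step: `I = F x + I * I`, `I` nilpotent, `B = F·1 + I` ⇒ `B = F[x]`. -/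
theorem h4_adjoin_eq_top (I : Submodule F B) (hII : I * I ≤ I) (N : ℕ) (hN : I ^ N = ⊥)
    (hloc : ∀ b : B, ∃ t : F, b - t • (1 : B) ∈ I) (x : B) (hx : x ∈ I)
    (hIx : I ≤ Submodule.span F {x} ⊔ I * I) : Algebra.adjoin F {x} = ⊤ := by
  set C : Submodule F B := Subalgebra.toSubmodule (Algebra.adjoin F {x}) with hC
  have hxC : ∀ m : ℕ, Submodule.span F {x ^ m} ≤ C := by
    intro m
    rw [Submodule.span_le, Set.singleton_subset_iff]
    exact pow_mem (Algebra.subset_adjoin (Set.mem_singleton x)) m
  -- `I ^ m ≤ F x ^ m + I ^ (m+1)`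
  have hstep : ∀ m : ℕ, m ≠ 0 → I ^ m ≤ Submodule.span F {x ^ m} ⊔ I ^ (m + 1) := by
    intro m hm
    induction m with
    | zero => exact absurd rfl hm
    | succ m ih =>
      rcases Nat.eq_zero_or_pos m with rfl | hmpos
      · rw [zero_add, Submodule.pow_one, pow_one]
        have : I ^ (1 + 1) = I * I := by
          rw [Submodule.pow_succ, Submodule.pow_one]
        rw [this]
        exact hIx
      · have ih' := ih hmpos.ne'
        have hxm : Submodule.span F {x ^ m} ≤ I ^ m := by
          rw [Submodule.span_le, Set.singleton_subset_iff]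
          exact Submodule.pow_mem_pow I hx m
        calc I ^ (m + 1) = I ^ m * I := Submodule.pow_succ I
          _ ≤ (Submodule.span F {x ^ m} ⊔ I ^ (m + 1)) * (Submodule.span F {x} ⊔ I * I) :=
              mul_le_mul' ih' hIx
          _ = Submodule.span F {x ^ m} * Submodule.span F {x} ⊔ Submodule.span F {x ^ m} * (I * I) ⊔
              (I ^ (m + 1) * Submodule.span F {x} ⊔ I ^ (m + 1) * (I * I)) := by
              rw [Submodule.sup_mul, Submodule.mul_sup, Submodule.mul_sup]
          _ ≤ Submodule.span F {x ^ (m + 1)} ⊔ I ^ (m + 1 + 1) := by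
              have e1 : Submodule.span F {x ^ m} * Submodule.span F {x} =
                  Submodule.span F {x ^ (m + 1)} := by
                rw [Submodule.span_mul_span, Set.singleton_mul_singleton, pow_succ]
              have e2 : Submodule.span F {x ^ m} * (I * I) ≤ I ^ (m + 1 + 1) := by
                calc Submodule.span F {x ^ m} * (I * I) ≤ I ^ m * (I * I) :=
                      mul_le_mul' hxm le_rfl
                  _ = I ^ (m + 1 + 1) := by
                      rw [Submodule.pow_succ, Submodule.pow_succ, mul_assoc]
              have e3 : I ^ (m + 1) * Submodule.span F {x} ≤ I ^ (m + 1 + 1) := by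
                rw [Submodule.pow_succ (n := m + 1)]
                apply mul_le_mul' le_rfl
                rw [Submodule.span_le, Set.singleton_subset_iff]
                exact hx
              have e4 : I ^ (m + 1) * (I * I) ≤ I ^ (m + 1 + 1) := by
                rw [Submodule.pow_succ (n := m + 1)]
                exact mul_le_mul' le_rfl hII
              rw [e1]
              apply sup_le (sup_le le_sup_left (e2.trans le_sup_right))
              exact sup_le (e3.trans le_sup_right) (e4.trans le_sup_right)
  have hIC : ∀ m : ℕ, m ≠ 0 → I ≤ C ⊔ I ^ m := by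
    intro m hm
    induction m with
    | zero => exact absurd rfl hm
    | succ m ih =>
      rcases Nat.eq_zero_or_pos m with rfl | hmpos
      · rw [zero_add, Submodule.pow_one]; exact le_sup_right
      · refine (ih hmpos.ne').trans ?_
        apply sup_le le_sup_left
        refine (hstep m hmpos.ne').trans ?_
        exact sup_le ((hxC m).trans le_sup_left) le_sup_right
  have hIleC : I ≤ C := by
    rcases Nat.eq_zero_or_pos N with rfl | hNpos
    · -- `I ^ 0 = 1 = ⊥`, so `1 = 0`
      rw [Submodule.pow_zero] at hN
      have h1 : (1 : B) ∈ (1 : Submodule F B) := Submodule.one_le.mp le_rfl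
      rw [hN, Submodule.mem_bot] at h1
      intro y _
      have : y = 0 := by rw [← mul_one y, h1, mul_zero]
      rw [this]; exact zero_mem _
    · have := hIC N hNpos.ne'
      rwa [hN, sup_bot_eq] at this
  rw [eq_top_iff]
  intro b _
  obtain ⟨t, ht⟩ := hloc b
  have h1 : b = (b - t • (1 : B)) + t • (1 : B) := by abel
  rw [h1]
  apply add_mem
  · exact hIleC ht
  · exact Subalgebra.smul_mem _ (one_mem _) t

/-- (U) a unital finite-dimensional algebra with a symmetrizing form, `B = F·1 + I` with `I` a
nilpotent two-sided subspace, and `dim Z(B) ≤ 2`, has dimension at most `2`. -/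
theorem h4_unital_le_two [FiniteDimensional F B] (lam : B →ₗ[F] F) (hlam : IsSymForm F lam)
    (I : Submodule F B) (hII : I * I ≤ I)
    (hnil : ∃ N : ℕ, ∀ f : Fin N → B, (∀ k, f k ∈ I) → (List.ofFn f).prod = 0)
    (hloc : ∀ b : B, ∃ t : F, b - t • (1 : B) ∈ I)
    (hZ : finrank F (Subalgebra.center F B) ≤ 2) : finrank F B ≤ 2 := by
  obtain ⟨N, hN0⟩ := hnil
  have hN := h4_pow_eq_bot I N hN0
  have hK1 := finrank_center_add_commSpan lam hlam
  have hcomm := h4_commSpan_le I hloc
  -- `⊤ = F·1 + I`
  have htop : (⊤ : Submodule F B) ≤ Submodule.span F {(1 : B)} ⊔ I := by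
    intro b _
    obtain ⟨t, ht⟩ := hloc b
    have h1 : b = t • (1 : B) + (b - t • (1 : B)) := by abel
    rw [h1]
    exact add_mem (Submodule.mem_sup_left (Submodule.smul_mem _ _ (Submodule.mem_span_singleton_self _)))
      (Submodule.mem_sup_right ht)
  by_cases hcase : I * I = I
  · -- `I = ⊥`
    have hI : I = ⊥ := by
      rcases Nat.eq_zero_or_pos N with rfl | hNpos
      · rw [Submodule.pow_zero] at hN
        have h1 : (1 : B) ∈ (1 : Submodule F B) := Submodule.one_le.mp le_rfl
        rw [hN, Submodule.mem_bot] at h1
        rw [eq_bot_iff]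
        intro y _
        have : y = 0 := by rw [← mul_one y, h1, mul_zero]
        rw [this]; exact zero_mem _
      · have hpow : ∀ m : ℕ, m ≠ 0 → I ^ m = I := by
          intro m hm
          induction m with
          | zero => exact absurd rfl hm
          | succ m ih =>
            rcases Nat.eq_zero_or_pos m with rfl | hmpos
            · rw [zero_add, Submodule.pow_one]
            · rw [Submodule.pow_succ, ih hmpos.ne', hcase]
        rw [← hpow N hNpos.ne', hN]
    rw [hI, sup_bot_eq] at htop
    have h1 : finrank F B ≤ finrank F (Submodule.span F {(1 : B)}) := by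
      rw [← finrank_top F B]
      exact Submodule.finrank_mono htop
    have h2 : finrank F (Submodule.span F {(1 : B)}) ≤ 1 := (finrank_span_le_card ({(1 : B)} : Set B)).trans (by simp)
    omega
  · -- `I * I < I`
    have hlt : I * I < I := lt_of_le_of_ne hII hcase
    obtain ⟨x, hxI, hxII⟩ := SetLike.exists_of_lt hlt
    -- dimension count
    have h1 : finrank F B ≤ finrank F (Submodule.span F {(1 : B)}) + finrank F I := by
      rw [← finrank_top F B]
      exact (Submodule.finrank_mono htop).trans (Submodule.finrank_add_le_finrank_add_finrank _ _)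
    have h2 : finrank F (Submodule.span F {(1 : B)}) ≤ 1 := (finrank_span_le_card ({(1 : B)} : Set B)).trans (by simp)
    have h3 : finrank F (commSpan F B) ≤ finrank F (I * I : Submodule F B) :=
      Submodule.finrank_mono hcomm
    have h4 : finrank F (I * I : Submodule F B) < finrank F I := Submodule.finrank_lt_finrank_of_lt hlt
    -- now either `finrank B ≤ 2` directly, or `finrank I = finrank (I*I) + 1`
    by_contra hcon
    have hIlt : finrank F I < finrank F B := by
      rw [← finrank_top F B]
      apply Submodule.finrank_lt_finrank_of_lt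
      rw [lt_top_iff_ne_top]
      intro hItop
      have h1 : (1 : B) ∈ I ^ N := by
        have := Submodule.pow_mem_pow I (show (1 : B) ∈ I by rw [hItop]; trivial) N
        rwa [one_pow] at this
      rw [hN, Submodule.mem_bot] at h1
      have hsub : Subsingleton B := subsingleton_of_zero_eq_one h1.symm
      have : finrank F B = 0 := finrank_zero_of_subsingleton
      omega
    have hge : finrank F I ≤ finrank F (I * I : Submodule F B) + 1 := by omega
    have hIx : I ≤ Submodule.span F {x} ⊔ I * I := by
      have hle : Submodule.span F {x} ⊔ I * I ≤ I := by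
        apply sup_le _ hII
        rw [Submodule.span_le, Set.singleton_subset_iff]
        exact hxI
      have hlt2 : I * I < Submodule.span F {x} ⊔ I * I := by
        apply lt_of_le_of_ne le_sup_right
        intro heq
        apply hxII
        rw [heq]
        exact Submodule.mem_sup_left (Submodule.mem_span_singleton_self x)
      have h5 := Submodule.finrank_lt_finrank_of_lt hlt2
      have h6 : finrank F I ≤ finrank F (Submodule.span F {x} ⊔ I * I : Submodule F B) := by omega
      exact (Submodule.eq_of_le_of_finrank_le hle h6).ge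
    have hadj := h4_adjoin_eq_top I hII N hN hloc x hxI hIx
    have hcommB := h4_comm_of_adjoin x hadj
    have hbot : commSpan F B = ⊥ := by
      unfold commSpan
      rw [Submodule.span_eq_bot]
      rintro y ⟨a, b, rfl⟩
      rw [hcommB a b, sub_self]
    rw [hbot, finrank_bot] at hK1
    omega

end Cfsg.Agent.Helper6.Ku
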