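import Mathlib
import Cfsg.Agent.Helper6.KuDefs
import Cfsg.Agent.Helper4.Ku_Unital

set_option autoImplicit false

/-!
# S4607, piece K6 (independent version): the corner of a symmetric algebra at a local idempotent
with `dim Z(iAi) ≤ 2` has dimension `≤ 2`.  We make Mathlib's corner ring `hi.Corner` an
`F`-algebra and apply the unital lemma `h4_unital_le_two`.
-/

namespace Cfsg.Agent.Helper6.Ku

open Module

variable {F : Type*} [Field F] {A : Type*} [Ring A] [Algebra F A]

section cornerAlgebra

variable {i : A} (hi : IsIdempotentElem i)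

theorem h4_corner_mem (a : hi.Corner) : i * a.1 = a.1 ∧ a.1 * i = a.1 :=
  (Subsemigroup.mem_corner_iff hi).mp a.2

instance h4_cornerSMul : SMul F hi.Corner :=
  ⟨fun t a => ⟨t • a.1, (Subsemigroup.mem_corner_iff hi).mpr
    ⟨by rw [mul_smul_comm, (h4_corner_mem hi a).1],
      by rw [smul_mul_assoc, (h4_corner_mem hi a).2]⟩⟩⟩

theorem h4_corner_smul_val (t : F) (a : hi.Corner) : (t • a).1 = t • a.1 := rfl

theorem h4_corner_mul_val (a b : hi.Corner) : (a * b).1 = a.1 * b.1 := rfl

theorem h4_corner_add_val (a b : hi.Corner) : (a + b).1 = a.1 + b.1 := rfl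

theorem h4_corner_sub_val (a b : hi.Corner) : (a - b).1 = a.1 - b.1 := rfl

theorem h4_corner_zero_val : (0 : hi.Corner).1 = 0 := rfl

theorem h4_corner_one_val : (1 : hi.Corner).1 = i := rfl

/-- the inclusion of the corner as an additive hom -/
def h4_cornerValAdd : hi.Corner →+ A where
  toFun a := a.1
  map_zero' := rfl
  map_add' _ _ := rfl

theorem h4_cornerVal_injective : Function.Injective (h4_cornerValAdd hi) :=
  fun _ _ h => Subtype.ext h

instance h4_cornerModule : Module F hi.Corner :=
  Function.Injective.module F (h4_cornerValAdd hi) (h4_cornerVal_injective hi) (fun _ _ => rfl)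

instance h4_cornerAlgebra : Algebra F hi.Corner :=
  Algebra.ofModule
    (fun r x y => Subtype.ext (smul_mul_assoc r x.1 y.1))
    (fun r x y => Subtype.ext (mul_smul_comm r x.1 y.1))

instance h4_cornerTower : IsScalarTower F hi.Corner hi.Corner :=
  ⟨fun t a b => Subtype.ext (smul_mul_assoc t a.1 b.1)⟩

instance h4_cornerComm : SMulCommClass F hi.Corner hi.Corner :=
  ⟨fun t a b => Subtype.ext (mul_smul_comm t a.1 b.1).symm⟩

/-- the inclusion of the corner as a linear map -/
def h4_cornerValL : hi.Corner →ₗ[F] A where
  toFun a := a.1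
  map_add' _ _ := rfl
  map_smul' _ _ := rfl

theorem h4_cornerValL_apply (a : hi.Corner) : h4_cornerValL (F := F) hi a = a.1 := rfl

theorem h4_cornerValL_injective : Function.Injective (h4_cornerValL (F := F) hi) :=
  fun _ _ h => Subtype.ext h

instance h4_cornerFinite [FiniteDimensional F A] : FiniteDimensional F hi.Corner :=
  FiniteDimensional.of_injective (h4_cornerValL (F := F) hi) (h4_cornerValL_injective hi)

/-- products in the corner ring versus products in `A` -/
theorem h4_corner_list_prod (l : List hi.Corner) :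
    (l.prod).1 = (l.map (fun a => a.1)).prod * i := by
  induction l with
  | nil => simp [h4_corner_one_val]
  | cons a l ih =>
    rw [List.prod_cons, h4_corner_mul_val, ih, List.map_cons, List.prod_cons, mul_assoc]

end cornerAlgebra

/-- K6, independent version. -/
theorem h4_finrank_corner_le_two [FiniteDimensional F A] (lam : A →ₗ[F] F) (hlam : IsSymForm F lam)
    (J : Ideal A) [J.IsTwoSided]
    (hJ : ∃ N : ℕ, ∀ f : Fin N → A, (∀ k, f k ∈ J) → (List.ofFn f).prod = 0)
    (i : A) (hi : IsIdempotentElem i) (hloc : ∀ x : A, ∃ t : F, i * x * i - t • i ∈ J)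
    (hZ : Module.finrank F (cornerCenter F i) ≤ 2) :
    Module.finrank F (corner F i) ≤ 2 := by
  -- the symmetrizing form on the corner
  have hlam' : IsSymForm F (lam ∘ₗ h4_cornerValL (F := F) hi) := by
    constructor
    · intro a b
      show lam (a.1 * b.1) = lam (b.1 * a.1)
      exact hlam.symm _ _
    · intro a ha
      apply Subtype.ext
      show a.1 = 0
      apply hlam.nondeg
      intro x
      have h1 := ha ⟨i * x * i, (Subsemigroup.mem_corner_iff hi).mpr
        ⟨by rw [← mul_assoc, ← mul_assoc, hi.eq], by rw [mul_assoc, hi.eq]⟩⟩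
      have h2 : lam (a.1 * (i * x * i)) = 0 := h1
      have ha1 := (h4_corner_mem hi a).1
      have ha2 := (h4_corner_mem hi a).2
      have h3 : a.1 * (i * x * i) = (a.1 * x) * i := by
        rw [← mul_assoc, ← mul_assoc, ha2]
      rw [h3, hlam.symm, ← mul_assoc, ha1] at h2
      exact h2
  -- the radical part
  let I : Submodule F hi.Corner := (J.restrictScalars F).comap (h4_cornerValL (F := F) hi)
  have hImem : ∀ b : hi.Corner, b ∈ I ↔ b.1 ∈ J := fun b => Iff.rfl
  have hII : I * I ≤ I := by
    rw [Submodule.mul_le]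
    intro m hm n _
    rw [hImem] at hm ⊢
    rw [h4_corner_mul_val]
    exact J.mul_mem_right _ hm
  have hnil : ∃ N : ℕ, ∀ f : Fin N → hi.Corner, (∀ k, f k ∈ I) → (List.ofFn f).prod = 0 := by
    obtain ⟨N, hN⟩ := hJ
    refine ⟨N, fun f hf => ?_⟩
    apply Subtype.ext
    rw [h4_corner_list_prod, List.map_ofFn]
    have := hN (fun k => (f k).1) (fun k => (hImem _).mp (hf k))
    show (List.ofFn ((fun a : hi.Corner => a.1) ∘ f)).prod * i = 0
    have h2 : ((fun a : hi.Corner => a.1) ∘ f) = fun k => (f k).1 := rfl
    rw [h2, this, zero_mul]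
  have hlocB : ∀ b : hi.Corner, ∃ t : F, b - t • (1 : hi.Corner) ∈ I := by
    intro b
    obtain ⟨t, ht⟩ := hloc b.1
    refine ⟨t, ?_⟩
    rw [hImem]
    show b.1 - t • i ∈ J
    have hb := h4_corner_mem hi b
    rw [hb.1, hb.2] at ht
    exact ht
  -- the centre
  have hZB : finrank F (Subalgebra.center F hi.Corner) ≤ 2 := by
    refine le_trans ?_ hZ
    let g : Subalgebra.toSubmodule (Subalgebra.center F hi.Corner) →ₗ[F] cornerCenter F i :=
      LinearMap.codRestrict (cornerCenter F i)
        ((h4_cornerValL (F := F) hi).domRestrict (Subalgebra.toSubmodule (Subalgebra.center F hi.Corner)))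
        (by
          rintro ⟨z, hz⟩
          show z.1 ∈ cornerCenter F i
          rw [mem_cornerCenter]
          refine ⟨h4_corner_mem hi z, ?_⟩
          intro x hx1 hx2
          have hzc : z ∈ Subalgebra.center F hi.Corner := hz
          rw [Subalgebra.mem_center_iff] at hzc
          have := hzc ⟨x, (Subsemigroup.mem_corner_iff hi).mpr ⟨hx1, hx2⟩⟩
          have h2 := congrArg Subtype.val this
          exact h2.symm)
    have hg : Function.Injective g := by
      intro a b hab
      apply Subtype.ext
      apply Subtype.ext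
      have := congrArg (fun w : cornerCenter F i => (w : A)) hab
      exact this
    exact LinearMap.finrank_le_finrank_of_injective hg
  have hB := h4_unital_le_two (lam ∘ₗ h4_cornerValL (F := F) hi) hlam' I hII hnil hlocB hZB
  refine le_trans ?_ hB
  let g : corner F i →ₗ[F] hi.Corner :=
    { toFun := fun a => ⟨a.1, (Subsemigroup.mem_corner_iff hi).mpr ((mem_corner F).mp a.2)⟩
      map_add' := fun _ _ => rfl
      map_smul' := fun _ _ => rfl }
  have hg : Function.Injective g := by
    intro a b hab
    apply Subtype.ext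
    exact congrArg (fun w : hi.Corner => w.1) hab
  exact LinearMap.finrank_le_finrank_of_injective hg

end Cfsg.Agent.Helper6.Ku
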