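import Mathlib

/-!
# Groups of order 1092 with the subgroup structure of `PSL(2, 13)`

Abstract hypotheses (satisfied by `PSL(2, 13)`) under which every nontrivial proper subgroup has
a maximal normalizer.
-/

set_option autoImplicit false

namespace Cfsg.Agent.Helper4.Ord1092

open Subgroup

variable {G : Type*} [Group G]

section basic

/-- two subgroups of prime order `p` inside a subgroup of order less than `p²` coincide. -/
theorem eq_of_card_prime_of_sq_gt [Finite G] {p : ℕ} (hp : p.Prime) {H P Q : Subgroup G}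
    (hP : Nat.card P = p) (hQ : Nat.card Q = p) (hPH : P ≤ H) (hQH : Q ≤ H)
    (hlt : Nat.card H < p * p) : P = Q := by
  by_contra hne
  have hdvd : Nat.card ↥(P ⊓ Q) ∣ p := hP ▸ Subgroup.card_dvd_of_le inf_le_left
  have hbot : P ⊓ Q = ⊥ := by
    rcases (Nat.dvd_prime hp).1 hdvd with h1 | h1
    · exact Subgroup.eq_bot_of_card_eq _ h1
    · exfalso
      have h2 : P ⊓ Q = P := Subgroup.eq_of_le_of_card_ge inf_le_left (by rw [h1, hP])
      have h3 : P ≤ Q := by rw [← h2]; exact inf_le_right
      exact hne (Subgroup.eq_of_le_of_card_ge h3 (by rw [hP, hQ]))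
  have hinj : Function.Injective (fun ab : P × Q => (⟨(ab.1 : G) * ab.2,
      H.mul_mem (hPH ab.1.2) (hQH ab.2.2)⟩ : H)) := by
    rintro ⟨a, b⟩ ⟨a', b'⟩ hab
    have h1 : (a : G) * b = a' * b' := congrArg Subtype.val hab
    have h2 : (a' : G)⁻¹ * a = b' * (b : G)⁻¹ := by
      rw [inv_mul_eq_iff_eq_mul, ← mul_assoc, ← h1, mul_inv_cancel_right]
    have h3 : (a' : G)⁻¹ * a ∈ P ⊓ Q := by
      refine ⟨P.mul_mem (P.inv_mem a'.2) a.2, ?_⟩
      rw [h2]
      exact Q.mul_mem b'.2 (Q.inv_mem b.2)
    rw [hbot, Subgroup.mem_bot, inv_mul_eq_one] at h3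
    have h4 : (b : G) = b' := by
      rw [h3] at h1
      exact mul_left_cancel h1
    exact Prod.ext (Subtype.ext h3.symm) (Subtype.ext h4)
  have h5 := Nat.card_le_card_of_injective _ hinj
  rw [Nat.card_prod, hP, hQ] at h5
  omega

/-- the conjugate of a subgroup. -/
theorem card_map_conj [Finite G] (g : G) (P : Subgroup G) :
    Nat.card (P.map (MulAut.conj g).toMonoidHom) = Nat.card P :=
  Subgroup.card_map_of_injective (MulAut.conj g).injective

theorem mem_normalizer_of_map_conj_eq {P : Subgroup G} {g : G}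
    (h : P.map (MulAut.conj g).toMonoidHom = P) : g ∈ normalizer (P : Set G) := by
  rw [Subgroup.mem_normalizer_iff]
  intro x
  constructor
  · intro hx
    rw [← h]
    exact ⟨x, hx, rfl⟩
  · intro hx
    rw [← h] at hx
    obtain ⟨y, hy, hyx⟩ := hx
    have : y = x := by
      have h1 : g * y * g⁻¹ = g * x * g⁻¹ := hyx
      exact mul_left_cancel (mul_right_cancel h1)
    rw [← this]; exact hy

/-- the normalizer of `H` normalizes the unique subgroup of order `p` of `H`. -/
theorem mem_normalizer_of_unique [Finite G] {p : ℕ} (hp : p.Prime) {H P : Subgroup G}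
    (hP : Nat.card P = p) (hPH : P ≤ H) (hlt : Nat.card H < p * p) {g : G}
    (hg : g ∈ normalizer (H : Set G)) : g ∈ normalizer (P : Set G) := by
  apply mem_normalizer_of_map_conj_eq
  refine (eq_of_card_prime_of_sq_gt hp hP (by rw [card_map_conj, hP]) hPH ?_ hlt).symm
  rintro _ ⟨x, hx, rfl⟩
  exact (Subgroup.mem_normalizer_iff.1 hg x).1 (hPH hx)

/-- elements commuting with a generator normalize a cyclic subgroup. -/
theorem mem_normalizer_zpowers_of_commute {x g : G} (h : g * x = x * g) :
    g ∈ normalizer ((zpowers x : Subgroup G) : Set G) := by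
  have hc : Commute g x := h
  rw [Subgroup.mem_normalizer_iff]
  intro y
  constructor
  · intro hy
    obtain ⟨k, rfl⟩ := Subgroup.mem_zpowers_iff.1 hy
    have : g * x ^ k * g⁻¹ = x ^ k := by
      rw [(hc.zpow_right k).eq, mul_inv_cancel_right]
    rw [this]; exact hy
  · intro hy
    obtain ⟨k, hk⟩ := Subgroup.mem_zpowers_iff.1 hy
    have : y = x ^ k := by
      have h1 : g * y * g⁻¹ = g * x ^ k * g⁻¹ := by
        rw [(hc.zpow_right k).eq, mul_inv_cancel_right, hk]
      exact mul_left_cancel (mul_right_cancel h1)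
    rw [this]; exact Subgroup.zpow_mem_zpowers x k

/-- a subgroup of prime order is generated by any of its non-identity elements. -/
theorem eq_zpowers_of_card_prime [Finite G] {p : ℕ} (hp : p.Prime) {H : Subgroup G}
    (hH : Nat.card H = p) {x : G} (hx : x ∈ H) (hx1 : x ≠ 1) : H = zpowers x := by
  symm
  apply Subgroup.eq_of_le_of_card_ge ((Subgroup.zpowers_le).2 hx)
  rw [hH, Nat.card_zpowers]
  have hdvd : orderOf x ∣ p := by
    rw [← hH]
    have := Subgroup.orderOf_dvd_natCard H hx
    exact this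
  rcases (Nat.dvd_prime hp).1 hdvd with h1 | h1
  · exact absurd (orderOf_eq_one_iff.1 h1) hx1
  · exact h1.ge

end basic

end Cfsg.Agent.Helper4.Ord1092
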