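import Mathlib
import Cfsg.Agent.Helper4.Ord1092A

/-!
# Groups of order 1092 with the subgroup structure of `PSL(2, 13)`: maximal normalizers
-/

set_option autoImplicit false
set_option linter.unusedSectionVars false
set_option linter.style.haveILetI false

namespace Cfsg.Agent.Helper4.Ord1092

open Subgroup

variable {G : Type*} [Group G]

/-- the hypotheses. -/
structure Hyp (G : Type*) [Group G] : Prop where
  card : Nat.card G = 1092
  simple : IsSimpleGroup G
  prop : ∀ X : Subgroup G, X ≠ ⊤ → Nat.card X ∣ 78 ∨ Nat.card X ∣ 14 ∨ Nat.card X ∣ 12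
  cover : ∀ x : G, x ≠ 1 → ∃ A : Subgroup G, x ∈ A ∧ (∀ a ∈ A, ∀ b ∈ A, a * b = b * a) ∧
    (Nat.card A = 13 ∨ Nat.card A = 7 ∨ Nat.card A = 6)
  comm13 : ∀ P : Subgroup G, Nat.card P = 13 → ∀ x ∈ normalizer (P : Set G),
    ∀ y ∈ normalizer (P : Set G), x * y * x⁻¹ * y⁻¹ ∈ P

section arith

theorem arith13 {c n : ℕ} (h : c ∣ 78 ∨ c ∣ 14 ∨ c ∣ 12) (h13 : 13 ∣ c) (hn : c * n = 1092)
    (hmod : n % 13 = 1) : c = 78 := by
  have hc : c ≤ 78 := by
    rcases h with h | h | h <;> have := Nat.le_of_dvd (by norm_num) h <;> omega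
  interval_cases c <;> omega

theorem arith7 {c n : ℕ} (h : c ∣ 78 ∨ c ∣ 14 ∨ c ∣ 12) (h7 : 7 ∣ c) (hn : c * n = 1092)
    (hmod : n % 7 = 1) : c = 14 := by
  have hc : c ≤ 78 := by
    rcases h with h | h | h <;> have := Nat.le_of_dvd (by norm_num) h <;> omega
  interval_cases c <;> omega

theorem arith3 {c n : ℕ} (h : c ∣ 78 ∨ c ∣ 14 ∨ c ∣ 12) (h6 : 6 ∣ c) (hn : c * n = 1092)
    (hmod : n % 3 = 1) : c = 12 := by
  have hc : c ≤ 78 := by
    rcases h with h | h | h <;> have := Nat.le_of_dvd (by norm_num) h <;> omega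
  interval_cases c <;> omega

theorem arith12 {c : ℕ} (h : c ∣ 78 ∨ c ∣ 14 ∨ c ∣ 12) (h12 : 12 ∣ c) : c = 12 := by
  have hc : c ≤ 78 := by
    rcases h with h | h | h <;> have := Nat.le_of_dvd (by norm_num) h <;> omega
  interval_cases c <;> omega

theorem arith4 {c : ℕ} (h : c ∣ 78 ∨ c ∣ 14 ∨ c ∣ 12) (h4 : 4 ∣ c) : c = 4 ∨ c = 12 := by
  have hc : c ≤ 78 := by
    rcases h with h | h | h <;> have := Nat.le_of_dvd (by norm_num) h <;> omega
  interval_cases c <;> omega

theorem arith_max {c d : ℕ} (hc : c = 12 ∨ c = 14 ∨ c = 78) (h : d ∣ 78 ∨ d ∣ 14 ∨ d ∣ 12)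
    (hcd : c ∣ d) : d = c := by
  have hd : d ≤ 78 := by
    rcases h with h | h | h <;> have := Nat.le_of_dvd (by norm_num) h <;> omega
  rcases hc with rfl | rfl | rfl <;> interval_cases d <;> omega

theorem arith_cases {c : ℕ} (h : c ∣ 78 ∨ c ∣ 14 ∨ c ∣ 12) (h1 : c ≠ 1) :
    c = 2 ∨ c = 3 ∨ c = 4 ∨ c = 6 ∨ c = 7 ∨ c = 12 ∨ c = 13 ∨ c = 14 ∨ c = 26 ∨ c = 39 ∨
      c = 78 := by
  have hc : c ≤ 78 := by
    rcases h with h | h | h <;> have := Nat.le_of_dvd (by norm_num) h <;> omega
  interval_cases c <;> omega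

end arith

namespace Hyp

variable [Finite G] (h : Hyp G)
include h

theorem normalizer_ne_top {H : Subgroup G} (hb : H ≠ ⊥) (ht : H ≠ ⊤) :
    normalizer (H : Set G) ≠ ⊤ := by
  intro hN
  have hn : H.Normal := Subgroup.normalizer_eq_top_iff.1 hN
  haveI := h.simple
  rcases hn.eq_bot_or_eq_top with h1 | h1
  · exact hb h1
  · exact ht h1

theorem ne_top_of_card_le {X : Subgroup G} (hX : Nat.card X ≤ 78) : X ≠ ⊤ := by
  intro hXt
  rw [hXt, Subgroup.card_top, h.card] at hX
  omega

theorem ne_bot_of_card {X : Subgroup G} (hX : 2 ≤ Nat.card X) : X ≠ ⊥ := by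
  intro hXb
  rw [hXb, Subgroup.card_bot] at hX
  omega

/-- subgroups of order 12, 14, 78 are maximal. -/
theorem isCoatom_of_card {X : Subgroup G}
    (hX : Nat.card X = 12 ∨ Nat.card X = 14 ∨ Nat.card X = 78) : IsCoatom X := by
  refine ⟨h.ne_top_of_card_le (by omega), fun Y hXY => ?_⟩
  by_contra hY
  have h1 := h.prop Y hY
  have h2 : Nat.card X ∣ Nat.card Y := Subgroup.card_dvd_of_le hXY.le
  have h3 := arith_max hX h1 h2
  exact hXY.ne (Subgroup.eq_of_le_of_card_ge hXY.le h3.le)

theorem card_mul_index_eq (X : Subgroup G) : Nat.card X * X.index = 1092 := by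
  rw [Subgroup.card_mul_index, h.card]

/-- the normalizer of a subgroup of order 13. -/
theorem card_normalizer_13 {P : Subgroup G} (hP : Nat.card P = 13) :
    Nat.card (normalizer (P : Set G)) = 78 := by
  haveI : Fact (Nat.Prime 13) := ⟨by norm_num⟩
  have hfac : (Nat.card G).factorization 13 = 1 := by
    rw [h.card]
    have : (1092 : ℕ) = 13 ^ 1 * 84 := by norm_num
    rw [this, Nat.factorization_mul (by norm_num) (by norm_num), Nat.factorization_pow]
    simp [Nat.Prime.factorization_self (by norm_num : Nat.Prime 13),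
      Nat.factorization_eq_zero_of_not_dvd (by norm_num : ¬ 13 ∣ 84)]
  let S : Sylow 13 G := Sylow.ofCard P (by rw [hP, hfac, pow_one])
  have hS : (S : Subgroup G) = P := rfl
  have h1 : Nat.card (Sylow 13 G) % 13 = 1 := by
    have := card_sylow_modEq_one 13 G
    exact this
  have h2 : Nat.card (Sylow 13 G) = (normalizer ((S : Subgroup G) : Set G)).index :=
    S.card_eq_index_normalizer
  rw [hS] at h2
  have hne : normalizer (P : Set G) ≠ ⊤ :=
    h.normalizer_ne_top (h.ne_bot_of_card (by omega)) (h.ne_top_of_card_le (by omega))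
  have h3 : 13 ∣ Nat.card (normalizer (P : Set G)) := by
    rw [← hP]; exact Subgroup.card_dvd_of_le Subgroup.le_normalizer
  exact arith13 (h.prop _ hne) h3 (h.card_mul_index_eq _) (h2 ▸ h1)

/-- the normalizer of a subgroup of order 7. -/
theorem card_normalizer_7 {P : Subgroup G} (hP : Nat.card P = 7) :
    Nat.card (normalizer (P : Set G)) = 14 := by
  haveI : Fact (Nat.Prime 7) := ⟨by norm_num⟩
  have hfac : (Nat.card G).factorization 7 = 1 := by
    rw [h.card]
    have : (1092 : ℕ) = 7 ^ 1 * 156 := by norm_num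
    rw [this, Nat.factorization_mul (by norm_num) (by norm_num), Nat.factorization_pow]
    simp [Nat.Prime.factorization_self (by norm_num : Nat.Prime 7),
      Nat.factorization_eq_zero_of_not_dvd (by norm_num : ¬ 7 ∣ 156)]
  let S : Sylow 7 G := Sylow.ofCard P (by rw [hP, hfac, pow_one])
  have hS : (S : Subgroup G) = P := rfl
  have h1 : Nat.card (Sylow 7 G) % 7 = 1 := by
    have := card_sylow_modEq_one 7 G
    exact this
  have h2 : Nat.card (Sylow 7 G) = (normalizer ((S : Subgroup G) : Set G)).index :=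
    S.card_eq_index_normalizer
  rw [hS] at h2
  have hne : normalizer (P : Set G) ≠ ⊤ :=
    h.normalizer_ne_top (h.ne_bot_of_card (by omega)) (h.ne_top_of_card_le (by omega))
  have h3 : 7 ∣ Nat.card (normalizer (P : Set G)) := by
    rw [← hP]; exact Subgroup.card_dvd_of_le Subgroup.le_normalizer
  exact arith7 (h.prop _ hne) h3 (h.card_mul_index_eq _) (h2 ▸ h1)

/-- a non-identity element of order dividing 6 lies in an abelian subgroup of order 6. -/
theorem exists_abelian_six {x : G} (hx1 : x ≠ 1) (hx : x ^ 6 = 1) :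
    ∃ A : Subgroup G, x ∈ A ∧ (∀ a ∈ A, ∀ b ∈ A, a * b = b * a) ∧ Nat.card A = 6 := by
  obtain ⟨A, hxA, hcomm, hcard⟩ := h.cover x hx1
  refine ⟨A, hxA, hcomm, ?_⟩
  have hdvd : orderOf x ∣ Nat.card A := Subgroup.orderOf_dvd_natCard A hxA
  have h6 : orderOf x ∣ 6 := orderOf_dvd_of_pow_eq_one hx
  have hne : orderOf x ≠ 1 := fun h1 => hx1 (orderOf_eq_one_iff.1 h1)
  have hle : orderOf x ≤ 6 := Nat.le_of_dvd (by norm_num) h6
  rcases hcard with hc | hc | hc
  · rw [hc] at hdvd
    exfalso
    interval_cases (orderOf x) <;> omega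
  · rw [hc] at hdvd
    exfalso
    interval_cases (orderOf x) <;> omega
  · exact hc

/-- the normalizer of a subgroup of order 3. -/
theorem card_normalizer_3 {P : Subgroup G} (hP : Nat.card P = 3) :
    Nat.card (normalizer (P : Set G)) = 12 := by
  haveI : Fact (Nat.Prime 3) := ⟨by norm_num⟩
  have hfac : (Nat.card G).factorization 3 = 1 := by
    rw [h.card]
    have : (1092 : ℕ) = 3 ^ 1 * 364 := by norm_num
    rw [this, Nat.factorization_mul (by norm_num) (by norm_num), Nat.factorization_pow]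
    simp [Nat.Prime.factorization_self (by norm_num : Nat.Prime 3),
      Nat.factorization_eq_zero_of_not_dvd (by norm_num : ¬ 3 ∣ 364)]
  let S : Sylow 3 G := Sylow.ofCard P (by rw [hP, hfac, pow_one])
  have hS : (S : Subgroup G) = P := rfl
  have h1 : Nat.card (Sylow 3 G) % 3 = 1 := by
    have := card_sylow_modEq_one 3 G
    exact this
  have h2 : Nat.card (Sylow 3 G) = (normalizer ((S : Subgroup G) : Set G)).index :=
    S.card_eq_index_normalizer
  rw [hS] at h2
  have hne : normalizer (P : Set G) ≠ ⊤ :=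
    h.normalizer_ne_top (h.ne_bot_of_card (by omega)) (h.ne_top_of_card_le (by omega))
  -- an element of order 3 and its abelian subgroup of order 6
  obtain ⟨x, hxP, hx1⟩ : ∃ x ∈ P, x ≠ 1 := by
    by_contra hcon
    push Not at hcon
    have : P = ⊥ := (Subgroup.eq_bot_iff_forall P).2 hcon
    rw [this, Subgroup.card_bot] at hP
    omega
  have hx3 : x ^ 3 = 1 := by
    have := pow_card_eq_one' (G := P) (x := ⟨x, hxP⟩)
    rw [hP] at this
    exact congrArg Subtype.val this
  obtain ⟨A, hxA, hcomm, hA⟩ := h.exists_abelian_six hx1 (by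
    rw [show 6 = 3 * 2 by norm_num, pow_mul, hx3, one_pow])
  have hPz : P = zpowers x := eq_zpowers_of_card_prime (by norm_num) hP hxP hx1
  have hAN : A ≤ normalizer (P : Set G) := by
    intro a ha
    rw [hPz]
    exact mem_normalizer_zpowers_of_commute (hcomm a ha x hxA)
  have h3 : 6 ∣ Nat.card (normalizer (P : Set G)) := by
    rw [← hA]; exact Subgroup.card_dvd_of_le hAN
  exact arith3 (h.prop _ hne) h3 (h.card_mul_index_eq _) (h2 ▸ h1)

/-- Sylow 2-subgroups have order 4. -/
theorem card_sylow_two (S : Sylow 2 G) : Nat.card S = 4 := by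
  haveI : Fact (Nat.Prime 2) := ⟨by norm_num⟩
  rw [S.card_eq_multiplicity, h.card]
  have : (1092 : ℕ) = 2 ^ 2 * 273 := by norm_num
  rw [this, Nat.factorization_mul (by norm_num) (by norm_num), Nat.factorization_pow]
  simp [Nat.Prime.factorization_self (by norm_num : Nat.Prime 2),
    Nat.factorization_eq_zero_of_not_dvd (by norm_num : ¬ 2 ∣ 273)]

/-- the normalizer of a subgroup of order 2. -/
theorem card_normalizer_2 {P : Subgroup G} (hP : Nat.card P = 2) :
    Nat.card (normalizer (P : Set G)) = 12 := by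
  haveI : Fact (Nat.Prime 2) := ⟨by norm_num⟩
  have hne : normalizer (P : Set G) ≠ ⊤ :=
    h.normalizer_ne_top (h.ne_bot_of_card (by omega)) (h.ne_top_of_card_le (by omega))
  obtain ⟨x, hxP, hx1⟩ : ∃ x ∈ P, x ≠ 1 := by
    by_contra hcon
    push Not at hcon
    have : P = ⊥ := (Subgroup.eq_bot_iff_forall P).2 hcon
    rw [this, Subgroup.card_bot] at hP
    omega
  have hx2 : x ^ 2 = 1 := by
    have := pow_card_eq_one' (G := P) (x := ⟨x, hxP⟩)
    rw [hP] at this
    exact congrArg Subtype.val this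
  obtain ⟨A, hxA, hcomm, hA⟩ := h.exists_abelian_six hx1 (by
    rw [show 6 = 2 * 3 by norm_num, pow_mul, hx2, one_pow])
  have hPz : P = zpowers x := eq_zpowers_of_card_prime (by norm_num) hP hxP hx1
  have hAN : A ≤ normalizer (P : Set G) := by
    intro a ha
    rw [hPz]
    exact mem_normalizer_zpowers_of_commute (hcomm a ha x hxA)
  -- a Sylow 2-subgroup containing `x`
  have hPp : IsPGroup 2 P := IsPGroup.of_card (n := 1) (by rw [hP, pow_one])
  obtain ⟨S, hPS⟩ := hPp.exists_le_sylow
  have hS4 : Nat.card S = 4 := h.card_sylow_two S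
  have hScomm : ∀ a ∈ (S : Subgroup G), ∀ b ∈ (S : Subgroup G), a * b = b * a := by
    intro a ha b hb
    have hI : IsMulCommutative (S : Subgroup G) :=
      IsPGroup.isMulCommutative_of_card_eq_prime_sq (p := 2) (by rw [hS4]; norm_num)
    exact congrArg Subtype.val (hI.is_comm.comm ⟨a, ha⟩ ⟨b, hb⟩)
  have hSN : (S : Subgroup G) ≤ normalizer (P : Set G) := by
    intro a ha
    rw [hPz]
    exact mem_normalizer_zpowers_of_commute (hScomm a ha x (hPS hxP))
  have h6 : 6 ∣ Nat.card (normalizer (P : Set G)) := by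
    rw [← hA]; exact Subgroup.card_dvd_of_le hAN
  have h4 : 4 ∣ Nat.card (normalizer (P : Set G)) := by
    rw [← hS4]; exact Subgroup.card_dvd_of_le hSN
  have h12 : 12 ∣ Nat.card (normalizer (P : Set G)) := by omega
  exact arith12 (h.prop _ hne) h12

/-- the normalizer of a subgroup of order 4 (Burnside's transfer theorem). -/
theorem card_normalizer_4 {P : Subgroup G} (hP : Nat.card P = 4) :
    Nat.card (normalizer (P : Set G)) = 12 := by
  haveI : Fact (Nat.Prime 2) := ⟨by norm_num⟩
  have hne : normalizer (P : Set G) ≠ ⊤ :=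
    h.normalizer_ne_top (h.ne_bot_of_card (by omega)) (h.ne_top_of_card_le (by omega))
  have h4 : 4 ∣ Nat.card (normalizer (P : Set G)) := by
    rw [← hP]; exact Subgroup.card_dvd_of_le Subgroup.le_normalizer
  rcases arith4 (h.prop _ hne) h4 with hc | hc
  · exfalso
    have hfac : (Nat.card G).factorization 2 = 2 := by
      rw [h.card]
      have : (1092 : ℕ) = 2 ^ 2 * 273 := by norm_num
      rw [this, Nat.factorization_mul (by norm_num) (by norm_num), Nat.factorization_pow]
      simp [Nat.Prime.factorization_self (by norm_num : Nat.Prime 2),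
        Nat.factorization_eq_zero_of_not_dvd (by norm_num : ¬ 2 ∣ 273)]
    let S : Sylow 2 G := Sylow.ofCard P (by rw [hP, hfac]; norm_num)
    have hS : (S : Subgroup G) = P := rfl
    have hNP : normalizer (P : Set G) = P :=
      (Subgroup.eq_of_le_of_card_ge Subgroup.le_normalizer (by rw [hc, hP])).symm
    have hI : IsMulCommutative P :=
      IsPGroup.isMulCommutative_of_card_eq_prime_sq (p := 2) (by rw [hP]; norm_num)
    have hcomm : ∀ u v : P, u * v = v * u := fun u v => hI.is_comm.comm u v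
    have hle : normalizer ((S : Subgroup G) : Set G) ≤ centralizer ((S : Subgroup G) : Set G) := by
      rw [hS, hNP]
      intro a ha
      rw [Subgroup.mem_centralizer_iff]
      intro b hb
      exact congrArg Subtype.val (hcomm ⟨b, hb⟩ ⟨a, ha⟩)
    have hcompl := MonoidHom.ker_transferSylow_isComplement' S hle
    have hcard := hcompl.card_mul_card
    have hS4 : Nat.card (S : Subgroup G) = 4 := hP
    rw [h.card, hS4] at hcard
    haveI := h.simple
    rcases (MonoidHom.normal_ker (MonoidHom.transferSylow S hle)).eq_bot_or_eq_top with hk | hk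
    · rw [hk, Subgroup.card_bot] at hcard
      omega
    · rw [hk, Subgroup.card_top, h.card] at hcard
      omega
  · exact hc

end Hyp

end Cfsg.Agent.Helper4.Ord1092
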