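import Mathlib
import Cfsg.Agent.Helper4.Ord1092B

/-!
# Groups of order 1092 with the subgroup structure of `PSL(2, 13)`: the main theorem
-/

set_option autoImplicit false
set_option linter.unusedSectionVars false
set_option linter.style.haveILetI false

namespace Cfsg.Agent.Helper4.Ord1092

open Subgroup

variable {G : Type*} [Group G]

namespace Hyp

variable [Finite G] (h : Hyp G)
include h

/-- a subgroup of prime order inside a subgroup of order divisible by the prime. -/
theorem exists_le_card_prime {H : Subgroup G} {p : ℕ} (hp : p.Prime) (hdvd : p ∣ Nat.card H) :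
    ∃ P : Subgroup G, P ≤ H ∧ Nat.card P = p := by
  haveI : Fact p.Prime := ⟨hp⟩
  obtain ⟨x, hx⟩ := exists_prime_orderOf_dvd_card' (G := H) p hdvd
  refine ⟨zpowers (x : G), (Subgroup.zpowers_le).2 x.2, ?_⟩
  rw [Nat.card_zpowers, Subgroup.orderOf_coe, hx]

theorem normalizer_eq_self_of_card {H : Subgroup G}
    (hH : Nat.card H = 12 ∨ Nat.card H = 14 ∨ Nat.card H = 78) (hb : H ≠ ⊥) (ht : H ≠ ⊤) :
    normalizer (H : Set G) = H := by
  have hco := h.isCoatom_of_card hH
  by_contra hne
  have hlt : H < normalizer (H : Set G) := lt_of_le_of_ne Subgroup.le_normalizer (Ne.symm hne)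
  exact h.normalizer_ne_top hb ht (hco.2 _ hlt)

theorem card_normalizer_6 {H : Subgroup G} (hH : Nat.card H = 6) :
    Nat.card (normalizer (H : Set G)) = 12 := by
  obtain ⟨T, hTH, hT⟩ := h.exists_le_card_prime (H := H) (p := 3) (by norm_num)
    (by rw [hH]; norm_num)
  have hNT := h.card_normalizer_3 hT
  have h1 : normalizer (H : Set G) ≤ normalizer (T : Set G) := fun g hg =>
    mem_normalizer_of_unique (p := 3) (by norm_num) hT hTH (by rw [hH]; norm_num) hg
  have hHN : H ≤ normalizer (T : Set G) := Subgroup.le_normalizer.trans h1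
  have hidx : (H.subgroupOf (normalizer (T : Set G))).index = 2 := by
    have h2 := Subgroup.relIndex_mul_relIndex (⊥ : Subgroup G) H (normalizer (T : Set G)) bot_le hHN
    rw [Subgroup.relIndex_bot_left, Subgroup.relIndex_bot_left, hH, hNT] at h2
    have : H.relIndex (normalizer (T : Set G)) = 2 := by omega
    exact this
  haveI := Subgroup.normal_of_index_eq_two hidx
  have h2 : normalizer (T : Set G) ≤ normalizer (H : Set G) :=
    Subgroup.le_normalizer_of_normal_subgroupOf hHN
  rw [le_antisymm h1 h2]
  exact hNT

theorem card_normalizer_13k {H : Subgroup G} (hH : Nat.card H = 26 ∨ Nat.card H = 39) :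
    Nat.card (normalizer (H : Set G)) = 78 := by
  obtain ⟨P, hPH, hP⟩ := h.exists_le_card_prime (H := H) (p := 13) (by norm_num)
    (by rcases hH with hH | hH <;> rw [hH] <;> norm_num)
  have hNP := h.card_normalizer_13 hP
  have h1 : normalizer (H : Set G) ≤ normalizer (P : Set G) := fun g hg =>
    mem_normalizer_of_unique (p := 13) (by norm_num) hP hPH
      (by rcases hH with hH | hH <;> rw [hH] <;> norm_num) hg
  have hHN : H ≤ normalizer (P : Set G) := Subgroup.le_normalizer.trans h1
  have h2 : normalizer (P : Set G) ≤ normalizer (H : Set G) := by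
    intro g hg
    rw [Subgroup.mem_normalizer_iff]
    intro x
    constructor
    · intro hx
      have hc := h.comm13 P hP g hg x (hHN hx)
      have e : g * x * g⁻¹ = (g * x * g⁻¹ * x⁻¹) * x := by group
      rw [e]
      exact H.mul_mem (hPH hc) hx
    · intro hx
      have hg' : g⁻¹ ∈ normalizer (P : Set G) := Subgroup.inv_mem _ hg
      have hc := h.comm13 P hP g⁻¹ hg' _ (hHN hx)
      have e : x = (g⁻¹ * (g * x * g⁻¹) * g⁻¹⁻¹ * (g * x * g⁻¹)⁻¹) * (g * x * g⁻¹) := by group
      rw [e]
      exact H.mul_mem (hPH hc) hx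
  rw [le_antisymm h1 h2]
  exact hNP

/-- **Main theorem**: every nontrivial proper subgroup has a maximal normalizer. -/
theorem isCoatom_normalizer {H : Subgroup G} (hb : H ≠ ⊥) (ht : H ≠ ⊤) :
    IsCoatom (normalizer (H : Set G)) := by
  apply h.isCoatom_of_card
  have hcH : Nat.card H ≠ 1 := fun h1 => hb (Subgroup.eq_bot_of_card_eq H h1)
  rcases arith_cases (h.prop H ht) hcH with
    hc | hc | hc | hc | hc | hc | hc | hc | hc | hc | hc
  · left; exact h.card_normalizer_2 hc
  · left; exact h.card_normalizer_3 hc
  · left; exact h.card_normalizer_4 hc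
  · left; exact h.card_normalizer_6 hc
  · right; left; exact h.card_normalizer_7 hc
  · left
    rw [h.normalizer_eq_self_of_card (Or.inl hc) hb ht]
    exact hc
  · right; right; exact h.card_normalizer_13 hc
  · right; left
    rw [h.normalizer_eq_self_of_card (Or.inr (Or.inl hc)) hb ht]
    exact hc
  · right; right; exact h.card_normalizer_13k (Or.inl hc)
  · right; right; exact h.card_normalizer_13k (Or.inr hc)
  · right; right
    rw [h.normalizer_eq_self_of_card (Or.inr (Or.inr hc)) hb ht]
    exact hc

end Hyp

end Cfsg.Agent.Helper4.Ord1092
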