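import Mathlib
import Cfsg.Agent.Helper4.Ord1092C
import Cfsg.Agent.Helper8.DkMin
import Cfsg.Agent.Helper8.DkMaxI

/-!
# `PSL(2, 13)`: every nontrivial proper subgroup has a maximal normalizer
-/

set_option autoImplicit false

namespace Cfsg.Agent.Helper4.L213

open Matrix Subgroup Cfsg.Agent.Helper8.Dk Cfsg.Agent.Helper4.Ord1092

instance fact13 : Fact (Nat.Prime 13) := ⟨by norm_num⟩

/-- the group `PSL(2, 13)`. -/
abbrev G13 : Type := Matrix.ProjectiveSpecialLinearGroup (Fin 2) (ZMod 13)

theorem card_F13 : Fintype.card (ZMod 13) = 13 := ZMod.card 13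

theorem card_center13 :
    Nat.card (center (SpecialLinearGroup (Fin 2) (ZMod 13))) = 2 := by
  rw [card_center_SL2, card_F13]
  norm_num

theorem card_G13 : Nat.card G13 = 1092 := by
  have h := card_center_mul_card_PSL2 (F := ZMod 13)
  rw [card_center13, card_F13] at h
  have e : 13 * (13 ^ 2 - 1) = 2184 := by norm_num
  rw [e] at h
  have h' : 2 * Nat.card G13 = 2184 := h
  omega

theorem simple_G13 : IsSimpleGroup G13 :=
  isSimpleGroup_PSL2_of_card (by rw [card_F13]; norm_num)

/-- the orders of the members of the partition and of their normalizers. -/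
theorem card_mem_GM {M : Subgroup G13} (hM : M ∈ GM (ZMod 13)) :
    (Nat.card M = 13 ∧ Nat.card (normalizer (M : Set G13)) = 78 ∧ M ∈ GU (ZMod 13)) ∨
    (Nat.card M = 7 ∧ Nat.card (normalizer (M : Set G13)) = 14) ∨
    (Nat.card M = 6 ∧ Nat.card (normalizer (M : Set G13)) = 12) := by
  rcases mem_GM_iff.1 hM with hU | hT
  · left
    have h1 := card_GU hU
    have h2 := card_normalizer_GU hU
    rw [card_center13, card_F13] at h2
    rw [card_F13] at h1
    have h2' : 2 * Nat.card (normalizer (M : Set G13)) = 13 * (13 - 1) := h2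
    exact ⟨h1, by omega, hU⟩
  · right
    have h1 := card_mul_mem_GT hT
    have h2 := card_normalizer_GT hT
    rw [card_center13, card_F13] at h1
    rcases h1 with h1 | h1
    · left
      have h1' : 2 * Nat.card M = 13 + 1 := h1
      have : Nat.card M = 7 := by omega
      exact ⟨this, by rw [h2, this]⟩
    · right
      have h1' : 2 * Nat.card M = 13 - 1 := h1
      have : Nat.card M = 6 := by omega
      exact ⟨this, by rw [h2, this]⟩

theorem hyp_G13 : Hyp G13 where
  card := card_G13
  simple := simple_G13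
  prop := by
    intro X hX
    rcases proper_cases 13 X hX with h | ⟨M, hM, -, hXM⟩ | ⟨⟨e⟩⟩ | ⟨⟨e⟩⟩ | ⟨⟨e⟩⟩ |
      ⟨K, iK, iK', m, hm2, hm, -⟩
    · rw [h]; left; norm_num
    · have hd := Subgroup.card_dvd_of_le hXM
      rcases card_mem_GM hM with ⟨-, h2, -⟩ | ⟨-, h2⟩ | ⟨-, h2⟩
      · left; rwa [h2] at hd
      · right; left; rwa [h2] at hd
      · right; right; rwa [h2] at hd
    · right; right
      rw [Nat.card_congr e.toEquiv, card_A4]
    · exfalso
      have hd : Nat.card X ∣ Nat.card G13 := Subgroup.card_subgroup_dvd_card X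
      rw [Nat.card_congr e.toEquiv, card_S4, card_G13] at hd
      omega
    · exfalso
      have hd : Nat.card X ∣ Nat.card G13 := Subgroup.card_subgroup_dvd_card X
      rw [Nat.card_congr e.toEquiv, card_A5, card_G13] at hd
      omega
    · exfalso
      rw [card_F13] at hm
      have h13 : Nat.Prime 13 := by norm_num
      have h1 : Fintype.card K ∣ 13 := by
        rw [← hm]; exact dvd_pow_self _ (by omega)
      rcases (Nat.dvd_prime h13).1 h1 with h1 | h1
      · rw [h1, one_pow] at hm; omega
      · rw [h1] at hm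
        have : 13 ^ 2 ≤ 13 ^ m := Nat.pow_le_pow_right (by norm_num) hm2
        omega
  cover := by
    intro x hx
    obtain ⟨M, hM, hxM⟩ := GM_cover x hx
    refine ⟨M, hxM, fun a ha b hb => GM_comm M hM a ha b hb, ?_⟩
    rcases card_mem_GM hM with ⟨h1, -, -⟩ | ⟨h1, -⟩ | ⟨h1, -⟩
    · left; exact h1
    · right; left; exact h1
    · right; right; exact h1
  comm13 := by
    intro P hP x hx y hy
    -- `P` is a member of the partition
    obtain ⟨z, hzP, hz1⟩ : ∃ z ∈ P, z ≠ 1 := by
      by_contra hcon
      push Not at hcon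
      have : P = ⊥ := (Subgroup.eq_bot_iff_forall P).2 hcon
      rw [this, Subgroup.card_bot] at hP
      omega
    obtain ⟨M, hM, hzM⟩ := GM_cover z hz1
    have hPz : P = zpowers z := eq_zpowers_of_card_prime (by norm_num) hP hzP hz1
    have hPM : P ≤ M := by rw [hPz]; exact (Subgroup.zpowers_le).2 hzM
    have hdvd : 13 ∣ Nat.card M := by
      have := Subgroup.card_dvd_of_le hPM
      rwa [hP] at this
    rcases card_mem_GM hM with ⟨h1, -, hU⟩ | ⟨h1, -⟩ | ⟨h1, -⟩
    · have hPeq : P = M := Subgroup.eq_of_le_of_card_ge hPM (by rw [h1, hP])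
      rw [hPeq] at hx hy ⊢
      exact GU_commutator_mem hU hx hy
    · rw [h1] at hdvd; omega
    · rw [h1] at hdvd; omega

/-- **`PSL(2, 13)`**: every nontrivial proper subgroup has a maximal normalizer. -/
theorem isCoatom_normalizer_G13 {H : Subgroup G13} (hb : H ≠ ⊥) (ht : H ≠ ⊤) :
    IsCoatom (normalizer (H : Set G13)) :=
  hyp_G13.isCoatom_normalizer hb ht

end Cfsg.Agent.Helper4.L213
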