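import Mathlib

/-!
# Normalizers in a direct product with an abelian group of coprime order
-/

set_option autoImplicit false
set_option linter.unusedSectionVars false

namespace Cfsg.Agent.Helper4.ProdNorm

open Subgroup

variable {K S : Type*} [Group K] [CommGroup S] [Finite K] [Finite S]

/-- the components of an element of a subgroup of a coprime product lie in the subgroup. -/
theorem components_mem (hKS : (Nat.card K).Coprime (Nat.card S)) (H : Subgroup (K × S))
    {k : K} {s : S} (h : (k, s) ∈ H) : (k, (1 : S)) ∈ H ∧ ((1 : K), s) ∈ H := by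
  obtain ⟨a, ha⟩ : ∃ a : ℕ, a = Nat.card K := ⟨_, rfl⟩
  obtain ⟨b, hb⟩ : ∃ b : ℕ, b = Nat.card S := ⟨_, rfl⟩
  have hbez : (1 : ℤ) = a * Nat.gcdA a b + b * Nat.gcdB a b := by
    have := Nat.gcd_eq_gcd_ab a b
    rw [ha, hb, Nat.Coprime.gcd_eq_one hKS] at this
    rw [ha, hb]
    exact_mod_cast this
  have hka : k ^ (a : ℤ) = 1 := by rw [zpow_natCast, ha, pow_card_eq_one']
  have hsb : s ^ (b : ℤ) = 1 := by rw [zpow_natCast, hb, pow_card_eq_one']
  constructor
  · have h1 : (k, s) ^ ((b : ℤ) * Nat.gcdB a b) ∈ H := H.zpow_mem h _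
    have h2 : (k, s) ^ ((b : ℤ) * Nat.gcdB a b) = (k, 1) := by
      rw [Prod.pow_mk]
      have e : (b : ℤ) * Nat.gcdB a b = 1 - a * Nat.gcdA a b := by linarith
      have e1 : k ^ ((b : ℤ) * Nat.gcdB a b) = k := by
        rw [e, zpow_sub, zpow_one, zpow_mul, hka, one_zpow, inv_one, mul_one]
      have e2 : s ^ ((b : ℤ) * Nat.gcdB a b) = 1 := by
        rw [zpow_mul, hsb, one_zpow]
      rw [e1, e2]
    rwa [h2] at h1
  · have h1 : (k, s) ^ ((a : ℤ) * Nat.gcdA a b) ∈ H := H.zpow_mem h _
    have h2 : (k, s) ^ ((a : ℤ) * Nat.gcdA a b) = (1, s) := by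
      rw [Prod.pow_mk]
      have e : (a : ℤ) * Nat.gcdA a b = 1 - b * Nat.gcdB a b := by linarith
      have e1 : k ^ ((a : ℤ) * Nat.gcdA a b) = 1 := by
        rw [zpow_mul, hka, one_zpow]
      have e2 : s ^ ((a : ℤ) * Nat.gcdA a b) = s := by
        rw [e, zpow_sub, zpow_one, zpow_mul, hsb, one_zpow, inv_one, mul_one]
      rw [e1, e2]
    rwa [h2] at h1

theorem mem_iff_components (hKS : (Nat.card K).Coprime (Nat.card S)) (H : Subgroup (K × S))
    (k : K) (s : S) : (k, s) ∈ H ↔ (k, (1 : S)) ∈ H ∧ ((1 : K), s) ∈ H := by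
  constructor
  · exact components_mem hKS H
  · rintro ⟨h1, h2⟩
    have := H.mul_mem h1 h2
    rwa [Prod.mk_mul_mk, mul_one, one_mul] at this

/-- the normalizer of a subgroup of a coprime product with an abelian group. -/
theorem normalizer_eq_prod (hKS : (Nat.card K).Coprime (Nat.card S)) (H : Subgroup (K × S)) :
    normalizer (H : Set (K × S)) =
      (normalizer ((H.comap (MonoidHom.inl K S) : Subgroup K) : Set K)).prod ⊤ := by
  ext ⟨g, t⟩
  rw [Subgroup.mem_prod, Subgroup.mem_normalizer_iff, Subgroup.mem_normalizer_iff]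
  simp only [Subgroup.mem_top, and_true, Subgroup.mem_comap, MonoidHom.inl_apply]
  constructor
  · intro h k
    have h1 := h (k, 1)
    rw [Prod.inv_mk, Prod.mk_mul_mk, Prod.mk_mul_mk, mul_one, mul_inv_cancel] at h1
    exact h1
  · rintro h ⟨k, s⟩
    rw [Prod.inv_mk, Prod.mk_mul_mk, Prod.mk_mul_mk, mul_comm t s, mul_inv_cancel_right,
      mem_iff_components hKS H k s, mem_iff_components hKS H (g * k * g⁻¹) s, h k]

/-- the product of a maximal subgroup with the whole second factor is maximal. -/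
theorem isCoatom_prod_top {M : Subgroup K} (hM : IsCoatom M) :
    IsCoatom (M.prod (⊤ : Subgroup S)) := by
  refine ⟨?_, fun L hL => ?_⟩
  · intro h
    apply hM.1
    rw [eq_top_iff]
    intro k _
    have : (k, (1 : S)) ∈ M.prod (⊤ : Subgroup S) := by rw [h]; exact Subgroup.mem_top _
    exact (Subgroup.mem_prod.1 this).1
  · have hS : ∀ s : S, ((1 : K), s) ∈ L := fun s =>
      hL.le (Subgroup.mem_prod.2 ⟨M.one_mem, Subgroup.mem_top s⟩)
    have h1 : M ≤ L.comap (MonoidHom.inl K S) := by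
      intro k hk
      exact hL.le (Subgroup.mem_prod.2 ⟨hk, Subgroup.mem_top _⟩)
    have h2 : L.comap (MonoidHom.inl K S) ≠ M := by
      intro h
      apply hL.not_ge
      rintro ⟨k, s⟩ hks
      refine Subgroup.mem_prod.2 ⟨?_, Subgroup.mem_top s⟩
      rw [← h, Subgroup.mem_comap, MonoidHom.inl_apply]
      have := L.mul_mem hks (L.inv_mem (hS s))
      rwa [Prod.inv_mk, Prod.mk_mul_mk, inv_one, mul_one, mul_inv_cancel] at this
    have h3 : L.comap (MonoidHom.inl K S) = ⊤ := hM.2 _ (lt_of_le_of_ne h1 (Ne.symm h2))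
    rw [eq_top_iff]
    rintro ⟨k, s⟩ _
    have h4 : (k, (1 : S)) ∈ L := by
      have : k ∈ L.comap (MonoidHom.inl K S) := by rw [h3]; exact Subgroup.mem_top k
      exact this
    have := L.mul_mem h4 (hS s)
    rwa [Prod.mk_mul_mk, mul_one, one_mul] at this

/-- **The product reduction.** -/
theorem isCoatom_normalizer_prod (hKS : (Nat.card K).Coprime (Nat.card S))
    (hK : ∀ H : Subgroup K, ¬ H.Normal → IsCoatom (normalizer (H : Set K)))
    (H : Subgroup (K × S)) (hH : ¬ H.Normal) : IsCoatom (normalizer (H : Set (K × S))) := by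
  rw [normalizer_eq_prod hKS H]
  apply isCoatom_prod_top
  apply hK
  intro hn
  apply hH
  apply Subgroup.normalizer_eq_top_iff.1
  rw [normalizer_eq_prod hKS H, Subgroup.normalizer_eq_top_iff.2 hn, Subgroup.top_prod_top]

end Cfsg.Agent.Helper4.ProdNorm
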