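import Mathlib
import Cfsg.Agent.Helper2.SL2Invol
import Cfsg.Agent.Helper4.L213A
import Cfsg.Agent.Helper4.CentExtNorm
import Cfsg.Agent.Helper4.ProdNorm

/-!
# `SL(2, 13)` and `PSL(2, 13)`: non-normal subgroups have maximal normalizers
-/

set_option autoImplicit false

namespace Cfsg.Agent.Helper4.L213

open Matrix Subgroup Cfsg.Agent.Helper2.SL2Invol

/-- the group `SL(2, 13)`. -/
abbrev S13 : Type := Matrix.SpecialLinearGroup (Fin 2) (ZMod 13)

theorem two_ne_zero13 : (2 : ZMod 13) ≠ 0 := by decide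

theorem mem_center_S13 (x : S13) : x ∈ center S13 ↔ x = 1 ∨ x = negOne := by
  constructor
  · intro hx
    obtain ⟨r, hr, hrx⟩ := Matrix.SpecialLinearGroup.mem_center_iff.1 hx
    rw [Fintype.card_fin] at hr
    have hr' : r = 1 ∨ r = -1 := sq_eq_one_iff.1 hr
    have e00 : x.1 0 0 = r := by rw [← hrx]; simp [Matrix.scalar]
    have e01 : x.1 0 1 = 0 := by rw [← hrx]; simp [Matrix.scalar]
    have e10 : x.1 1 0 = 0 := by rw [← hrx]; simp [Matrix.scalar]
    have e11 : x.1 1 1 = r := by rw [← hrx]; simp [Matrix.scalar]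
    rcases hr' with rfl | rfl
    · left
      rw [ext_iff']
      simp [e00, e01, e10, e11]
    · right
      rw [ext_iff']
      simp [e00, e01, e10, e11, negOne]
  · rintro (rfl | rfl)
    · exact Subgroup.one_mem _
    · rw [Subgroup.mem_center_iff]
      intro g
      rw [ext_iff']
      obtain ⟨a1, a2, a3, a4⟩ := mul_entries g negOne
      obtain ⟨b1, b2, b3, b4⟩ := mul_entries negOne g
      rw [a1, a2, a3, a4, b1, b2, b3, b4]
      simp [negOne]

/-- **`SL(2, 13)`**: every non-normal subgroup has a maximal normalizer. -/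
theorem isCoatom_normalizer_S13 (H : Subgroup S13) (hH : ¬ H.Normal) :
    IsCoatom (normalizer (H : Set S13)) :=
  Cfsg.Agent.Helper4.CentExtNorm.isCoatom_normalizer_of_central_ext
    (negOne : S13) (negOne_ne_one two_ne_zero13) mem_center_S13
    (fun x hx => eq_one_or_negOne_of_sq two_ne_zero13 x hx)
    (fun _ hb ht => isCoatom_normalizer_G13 hb ht) H hH

/-- **`PSL(2, 13)`**: every non-normal subgroup has a maximal normalizer. -/
theorem isCoatom_normalizer_G13' (H : Subgroup G13) (hH : ¬ H.Normal) :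
    IsCoatom (normalizer (H : Set G13)) := by
  apply isCoatom_normalizer_G13
  · rintro rfl
    exact hH inferInstance
  · rintro rfl
    exact hH inferInstance

/-- **The statement.** -/
theorem main {K S : Type*} [Group K] [CommGroup S] [Finite K] [Finite S]
    (hK : Nonempty (K ≃* Matrix.ProjectiveSpecialLinearGroup (Fin 2) (ZMod 13)) ∨
      Nonempty (K ≃* Matrix.SpecialLinearGroup (Fin 2) (ZMod 13)))
    (hKS : (Nat.card K).Coprime (Nat.card S)) (H : Subgroup (K × S)) (hH : ¬ H.Normal) :
    IsCoatom (Subgroup.normalizer (H : Set (K × S))) := by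
  apply Cfsg.Agent.Helper4.ProdNorm.isCoatom_normalizer_prod hKS _ H hH
  rcases hK with ⟨⟨e⟩⟩ | ⟨⟨e⟩⟩
  · exact Cfsg.Agent.Helper4.CentExtNorm.transport e isCoatom_normalizer_G13'
  · exact Cfsg.Agent.Helper4.CentExtNorm.transport e isCoatom_normalizer_S13

end Cfsg.Agent.Helper4.L213
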