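import Mathlib
import Cfsg.Agent.Helper4.L2pPerm

set_option autoImplicit false

/-!
The classification of the element exchanging `0` and infinity by the Bruhat condition, with no parity
assumption.
-/

namespace Cfsg.Agent.Helper4.L2p

variable {p : ℕ} [hp : Fact p.Prime]

/-- The affine map as a plain function. -/
def affF (s c : ZMod p) : Pt p → Pt p
  | none => none
  | some x => some (s * x + c)

theorem aff_eq_affF {s : ZMod p} (hs : s ≠ 0) (c : ZMod p) (x : Pt p) : aff s c x = affF s c x := by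
  cases x with
  | none => exact aff_none c
  | some x => exact aff_some hs c x

/-- The candidate maps: `x ↦ c xʲ` on the `m`-th roots of unity and `x ↦ d (x / g₀)ʲ` elsewhere. -/
def Tj (p m : ℕ) (g₀inv : ZMod p) (j : ℕ) (c d : ZMod p) : Pt p → Pt p
  | none => some 0
  | some x => if x = 0 then none else if x ^ m = 1 then some (c * x ^ j)
      else some (d * (x * g₀inv) ^ j)

/-- The composite `T ∘ (x ↦ x - T i) ∘ T ∘ (x ↦ x + i) ∘ T`. -/
def bruF (T : Pt p → Pt p) (i : ZMod p) : Pt p → Pt p :=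
  fun x => T (affF 1 (-((T (some i)).getD 0)) (T (affF 1 i (T x))))

/-- The Bruhat condition on a map exchanging `0` and infinity. -/
def Bruhat (p m : ℕ) [Fact p.Prime] (T : Pt p → Pt p) : Prop :=
  ∀ i : ZMod p, i ≠ 0 →
    ((bruF T i (some 1)).getD 0 - (bruF T i (some 0)).getD 0) ^ m = 1 ∧
    ∀ x, bruF T i x = affF ((bruF T i (some 1)).getD 0 - (bruF T i (some 0)).getD 0)
      ((bruF T i (some 0)).getD 0) x

theorem bruhat_of_exists {m : ℕ} (T : Pt p → Pt p)
    (h : ∀ i : ZMod p, i ≠ 0 → ∃ s c : ZMod p, s ^ m = 1 ∧ ∀ x, bruF T i x = affF s c x) :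
    Bruhat p m T := by
  intro i hi
  obtain ⟨s, c, hs, hsc⟩ := h i hi
  have h0 : (bruF T i (some 0)).getD 0 = c := by
    rw [hsc]
    show (some (s * 0 + c)).getD 0 = c
    rw [mul_zero, zero_add]
    rfl
  have h1 : (bruF T i (some 1)).getD 0 = s + c := by
    rw [hsc]
    show (some (s * 1 + c)).getD 0 = s + c
    rw [mul_one]
    rfl
  rw [h0, h1, add_sub_cancel_right]
  exact ⟨hs, hsc⟩

/-- The classification hypothesis, checked by computation for each prime. -/
def ClassHypC (p m : ℕ) [Fact p.Prime] (k g₀inv c₀ : ZMod p) : Prop :=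
  ∀ j : ℕ, j < m → ∀ c d : ZMod p, c ≠ 0 → d ≠ 0 →
    (∃ e₂ : ℕ, e₂ < m ∧ ∀ x, Tj p m g₀inv j c d (Tj p m g₀inv j c d x) = affF (k ^ e₂) 0 x) →
    Bruhat p m (Tj p m g₀inv j c d) →
    ∃ n : ℕ, n < m ∧ ∀ x, Tj p m g₀inv j c d x = affF (k ^ n) 0 (fT c₀ x)

/-- A permutation exchanging `0` and infinity and normalizing `x ↦ k x` is one of the candidate maps. -/
theorem eq_Tj {m : ℕ} {k g₀ g₀inv : ZMod p} (hm : p = 2 * m + 1) (hk0 : k ≠ 0)
    (hroots : ∀ s : ZMod p, s ^ m = 1 → ∃ e : ℕ, e < m ∧ s = k ^ e)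
    (hg₀ : g₀ ^ m = -1) (hgg : g₀ * g₀inv = 1) (j : ℕ)
    (T : Equiv.Perm (Pt p)) (h0 : T none = some 0) (hT0 : T (some 0) = none)
    (hB : ∀ x, T (aff k 0 x) = aff (k ^ j) 0 (T x)) :
    ∃ c d : ZMod p, c ≠ 0 ∧ d ≠ 0 ∧ ⇑T = Tj p m g₀inv j c d := by
  have hkj : k ^ j ≠ 0 := pow_ne_zero j hk0
  have key : ∀ x : ZMod p, x ≠ 0 → ∃ y : ZMod p, y ≠ 0 ∧ T (some x) = some y := by
    intro x hx
    cases hTx : T (some x) with
    | none =>
      exfalso
      have h1 := T.injective (hTx.trans hT0.symm)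
      exact hx (Option.some.inj h1)
    | some y =>
      refine ⟨y, ?_, rfl⟩
      rintro rfl
      have h1 := T.injective (hTx.trans h0.symm)
      exact absurd h1 (by simp)
  have step : ∀ (e : ℕ) (x y : ZMod p), T (some x) = some y →
      T (some (k ^ e * x)) = some ((k ^ j) ^ e * y) := by
    intro e
    induction e with
    | zero => intro x y hxy; rw [pow_zero, one_mul, pow_zero, one_mul]; exact hxy
    | succ e ih =>
      intro x y hxy
      have h1 := ih x y hxy
      have h2 := hB (some (k ^ e * x))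
      rw [aff_some hk0, add_zero, h1, aff_some hkj, add_zero] at h2
      rw [pow_succ, mul_comm (k ^ e) k, mul_assoc, h2, pow_succ, mul_comm ((k ^ j) ^ e) (k ^ j),
        mul_assoc]
  have hg₀0 : g₀ ≠ 0 := by
    rintro rfl
    rw [zero_mul] at hgg
    exact zero_ne_one hgg
  have hginvm : g₀inv ^ m = -1 := by
    have h1 : (g₀ * g₀inv) ^ m = 1 := by rw [hgg, one_pow]
    rw [mul_pow, hg₀, neg_mul, one_mul, neg_eq_iff_eq_neg] at h1
    exact h1
  obtain ⟨c, hc0, hc⟩ := key 1 one_ne_zero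
  obtain ⟨d, hd0, hd⟩ := key g₀ hg₀0
  refine ⟨c, d, hc0, hd0, ?_⟩
  funext x
  cases x with
  | none => exact h0
  | some x =>
    show T (some x) = (if x = 0 then none else if x ^ m = 1 then some (c * x ^ j)
      else some (d * (x * g₀inv) ^ j))
    by_cases hx : x = 0
    · rw [if_pos hx, hx]; exact hT0
    · rw [if_neg hx]
      by_cases hxm : x ^ m = 1
      · rw [if_pos hxm]
        obtain ⟨e, -, rfl⟩ := hroots x hxm
        have h1 := step e 1 c hc
        rw [mul_one] at h1
        rw [h1, mul_comm, ← pow_mul, ← pow_mul, mul_comm j e]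
      · rw [if_neg hxm]
        have hsq : x ^ m * x ^ m = 1 := by
          rw [← pow_add, ← two_mul]
          have : 2 * m = p - 1 := by omega
          rw [this]
          exact ZMod.pow_card_sub_one_eq_one hx
        have hneg : x ^ m = -1 := by
          rcases mul_self_eq_one_iff.1 hsq with h | h
          · exact absurd h hxm
          · exact h
        have hnx : (x * g₀inv) ^ m = 1 := by rw [mul_pow, hneg, hginvm, neg_mul_neg, one_mul]
        obtain ⟨e, -, he⟩ := hroots (x * g₀inv) hnx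
        have hx' : x = k ^ e * g₀ := by
          rw [← he, mul_assoc, mul_comm g₀inv g₀, hgg, mul_one]
        have h1 := step e g₀ d hd
        rw [← hx'] at h1
        rw [h1, he, mul_comm, ← pow_mul, ← pow_mul, mul_comm j e]

theorem closure_mul_left_eq {X : Type*} [Group X] (A B T W : X)
    (hW : W ∈ Subgroup.closure ({A, B} : Set X)) :
    Subgroup.closure ({A, B, W * T} : Set X) = Subgroup.closure {A, B, T} := by
  have hAB : ∀ T' : X, Subgroup.closure ({A, B} : Set X) ≤ Subgroup.closure {A, B, T'} := by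
    intro T'
    apply Subgroup.closure_mono
    intro x hx
    rcases hx with rfl | rfl
    · simp
    · simp
  apply le_antisymm
  · rw [Subgroup.closure_le]
    intro x hx
    rcases hx with rfl | rfl | rfl
    · exact Subgroup.subset_closure (by simp)
    · exact Subgroup.subset_closure (by simp)
    · have hW' := hAB T hW
      have hT' : T ∈ Subgroup.closure ({A, B, T} : Set X) := Subgroup.subset_closure (by simp)
      exact Subgroup.mul_mem _ hW' hT'
  · rw [Subgroup.closure_le]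
    intro x hx
    rcases hx with rfl | rfl | rfl
    · exact Subgroup.subset_closure (by simp)
    · exact Subgroup.subset_closure (by simp)
    · have hW' := hAB (W * x) hW
      have hT' : W * x ∈ Subgroup.closure ({A, B, W * x} : Set X) :=
        Subgroup.subset_closure (by simp)
      have h1 := Subgroup.mul_mem _ (Subgroup.inv_mem _ hW') hT'
      rw [inv_mul_cancel_left] at h1
      exact h1

theorem closure_of_conditions_C {m : ℕ} {k g₀ g₀inv c₀ : ZMod p} (hm : p = 2 * m + 1)
    (hk0 : k ≠ 0) (hc₀ : c₀ ≠ 0)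
    (hroots : ∀ s : ZMod p, s ^ m = 1 → ∃ e : ℕ, e < m ∧ s = k ^ e)
    (hg₀ : g₀ ^ m = -1) (hgg : g₀ * g₀inv = 1)
    (hclass : ClassHypC p m k g₀inv c₀) (j : ℕ) (hj : j < m)
    (T : Equiv.Perm (Pt p)) (h0 : T none = some 0) (hT0 : T (some 0) = none)
    (hB : ∀ x, T (aff k 0 x) = aff (k ^ j) 0 (T x))
    (hsq : ∃ e₂ : ℕ, e₂ < m ∧ ∀ x, T (T x) = affF (k ^ e₂) 0 x)
    (hbru : Bruhat p m ⇑T) :
    Subgroup.closure {aff 1 1, aff k 0, T} = H0 p k c₀ := by
  obtain ⟨c, d, hc, hd, hT⟩ := eq_Tj hm hk0 hroots hg₀ hgg j T h0 hT0 hB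
  have h1 : ∃ e₂ : ℕ, e₂ < m ∧ ∀ x, Tj p m g₀inv j c d (Tj p m g₀inv j c d x) = affF (k ^ e₂) 0 x := by
    rw [← hT]
    exact hsq
  have h2 : Bruhat p m (Tj p m g₀inv j c d) := by
    rw [← hT]
    exact hbru
  obtain ⟨n, -, hn⟩ := hclass j hj c d hc hd h1 h2
  have hkn : k ^ n ≠ 0 := pow_ne_zero n hk0
  have hTeq : T = aff (k ^ n) 0 * permT c₀ := by
    apply Equiv.ext
    intro x
    rw [Equiv.Perm.mul_apply, permT_apply hc₀, aff_eq_affF hkn, hT, hn]
  rw [hTeq]
  unfold H0
  apply closure_mul_left_eq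
  rw [← aff_pow_zero hk0]
  exact Subgroup.pow_mem _ (Subgroup.subset_closure (by simp)) n

end Cfsg.Agent.Helper4.L2p
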