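import Mathlib
import Cfsg.Agent.Helper4.L2pGroup
import Cfsg.Agent.Helper4.L2pPermC

set_option autoImplicit false

/-!
The second half of the recognition of `PSL(2, p)` through the Bruhat condition, with no parity assumption.
-/

namespace Cfsg.Agent.Helper4.L2p

open Subgroup

/-- Numerical data for the recognition argument (Bruhat version). -/
structure ParamsC (p m : ℕ) [Fact p.Prime] (k g₀ g₀inv c₀ : ZMod p) : Prop where
  hm : p = 2 * m + 1
  hmpos : 0 < m
  hk0 : k ≠ 0
  hkord : orderOf k = m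
  hroots : ∀ s : ZMod p, s ^ m = 1 → ∃ e : ℕ, e < m ∧ s = k ^ e
  hcardroots : Fintype.card {s : ZMod p // s ^ m = 1} = m
  hg₀ : g₀ ^ m = -1
  hgg : g₀ * g₀inv = 1
  hc₀ : c₀ ≠ 0
  hclass : ClassHypC p m k g₀inv c₀

variable {G : Type*} [Group G] {p m : ℕ} [hp : Fact p.Prime] {k g₀ g₀inv c₀ : ZMod p}

theorem range_eq_H0_C (hpar : ParamsC p m k g₀ g₀inv c₀) (L : Labelled p m k G) :
    L.φ.range = H0 p k c₀ := by
  classical
  obtain ⟨φ, a, b, hinj, φa, φb, haff, htrans, hps⟩ := L
  show φ.range = H0 p k c₀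
  have hmpos : 0 < m := hpar.hmpos
  have hm := hpar.hm
  have hk0 := hpar.hk0
  have hkm : k ^ m = 1 := by rw [← hpar.hkord]; exact pow_orderOf_eq_one k
  have φapow : ∀ c : ZMod p, φ (a ^ c.val) = aff 1 c := by
    intro c
    rw [map_pow, φa, aff_one_pow, ZMod.natCast_zmod_val]
  have φbpow : ∀ n : ℕ, φ (b ^ n) = aff (k ^ n) 0 := by
    intro n
    rw [map_pow, φb, aff_pow_zero hk0]
  -- two-point stabilizer
  have TPS : ∀ g : G, φ g none = none → φ g (some 0) = some 0 → ∃ e : ℕ, g = b ^ e := by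
    intro g h1 h2
    obtain ⟨s, c, hs, hsm, hsc⟩ := haff g h1
    rw [hsc, aff_some hs, mul_zero, zero_add] at h2
    have hc : c = 0 := Option.some.inj h2
    obtain ⟨e, -, rfl⟩ := hpar.hroots s hsm
    refine ⟨e, hinj ?_⟩
    rw [hsc, hc, φbpow]
  -- an element exchanging the two base points
  obtain ⟨g₁, hg₁⟩ := htrans (some 0)
  obtain ⟨x', hx'⟩ : ∃ x' : ZMod p, φ g₁ (some x') = none := by
    obtain ⟨w, hw⟩ := (φ g₁).surjective none
    cases w with
    | none =>
      rw [hg₁] at hw
      exact absurd hw (by simp)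
    | some x' => exact ⟨x', hw⟩
  set g : G := g₁ * a ^ x'.val with hg
  have hg_none : φ g none = some 0 := by
    rw [hg, map_mul, Equiv.Perm.mul_apply, φapow, aff_none, hg₁]
  have hg_zero : φ g (some 0) = none := by
    rw [hg, map_mul, Equiv.Perm.mul_apply, φapow, aff_some one_ne_zero, mul_zero, zero_add, hx']
  have hginv_none : φ g⁻¹ none = some 0 := by
    rw [map_inv, Equiv.Perm.inv_eq_iff_eq]
    exact hg_zero.symm
  have hginv_zero : φ g⁻¹ (some 0) = none := by
    rw [map_inv, Equiv.Perm.inv_eq_iff_eq]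
    exact hg_none.symm
  obtain ⟨e₂, he₂⟩ : ∃ e₂ : ℕ, g * g = b ^ e₂ := by
    apply TPS
    · rw [map_mul, Equiv.Perm.mul_apply, hg_none, hg_zero]
    · rw [map_mul, Equiv.Perm.mul_apply, hg_zero, hg_none]
  obtain ⟨j, hj⟩ : ∃ j : ℕ, g * b * g⁻¹ = b ^ j := by
    apply TPS
    · rw [map_mul, map_mul, Equiv.Perm.mul_apply, Equiv.Perm.mul_apply, hginv_none, φb,
        aff_some hk0, mul_zero, add_zero, hg_zero]
    · rw [map_mul, map_mul, Equiv.Perm.mul_apply, Equiv.Perm.mul_apply, hginv_zero, φb,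
        aff_none, hg_none]
  have hJ : j % m < m := Nat.mod_lt _ hmpos
  have hB : ∀ x, φ g (aff k 0 x) = aff (k ^ (j % m)) 0 (φ g x) := by
    intro x
    have h1 : g * b = b ^ j * g := by rw [← hj, inv_mul_cancel_right]
    have h2 : φ g * φ b = φ (b ^ j) * φ g := by rw [← map_mul, ← map_mul, h1]
    rw [φbpow, pow_eq_pow_mod j hkm, φb] at h2
    exact congrArg (fun q : Equiv.Perm (Pt p) => q x) h2
  have hsq : ∃ e : ℕ, e < m ∧ ∀ x, φ g (φ g x) = affF (k ^ e) 0 x := by
    refine ⟨e₂ % m, Nat.mod_lt _ hmpos, ?_⟩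
    intro x
    have h1 : φ g * φ g = aff (k ^ (e₂ % m)) 0 := by
      rw [← map_mul, he₂, φbpow, pow_eq_pow_mod e₂ hkm]
    rw [← aff_eq_affF (pow_ne_zero _ hk0), ← h1]
    rfl
  have hbru : Bruhat p m ⇑(φ g) := by
    apply bruhat_of_exists
    intro i hi
    obtain ⟨y, hy⟩ : ∃ y : ZMod p, φ g (some i) = some y := by
      cases hx : φ g (some i) with
      | none =>
        exfalso
        have h1 := (φ g).injective (hx.trans hg_zero.symm)
        exact hi (Option.some.inj h1)
      | some y => exact ⟨y, rfl⟩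
    set n : G := g * a ^ (-y).val * g * a ^ i.val * g with hn
    have hφn : φ n = φ g * aff 1 (-y) * φ g * aff 1 i * φ g := by
      rw [hn, map_mul, map_mul, map_mul, map_mul, φapow, φapow]
    have hn_none : φ n none = none := by
      rw [hφn, Equiv.Perm.mul_apply, Equiv.Perm.mul_apply, Equiv.Perm.mul_apply,
        Equiv.Perm.mul_apply, hg_none, aff_some one_ne_zero, mul_zero, zero_add, hy,
        aff_some one_ne_zero, one_mul, add_neg_cancel, hg_zero]
    obtain ⟨s, c, hs, hsm, hsc⟩ := haff n hn_none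
    refine ⟨s, c, hsm, ?_⟩
    intro x
    rw [← aff_eq_affF hs, ← hsc, hφn]
    show φ g (affF 1 (-((φ g (some i)).getD 0)) (φ g (affF 1 i (φ g x)))) = _
    rw [hy, ← aff_eq_affF one_ne_zero, ← aff_eq_affF one_ne_zero]
    rfl
  have hcl := closure_of_conditions_C hm hk0 hpar.hc₀ hpar.hroots hpar.hg₀ hpar.hgg hpar.hclass
    (j % m) hJ (φ g) hg_none hg_zero hB hsq hbru
  -- generation
  have hgen : closure ({a, b, g} : Set G) = ⊤ := by
    rw [eq_top_iff]
    intro u _
    have ha' : a ∈ closure ({a, b, g} : Set G) := subset_closure (by simp)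
    have hb' : b ∈ closure ({a, b, g} : Set G) := subset_closure (by simp)
    have hg' : g ∈ closure ({a, b, g} : Set G) := subset_closure (by simp)
    have NK : ∀ v : G, φ v none = none → v ∈ closure ({a, b, g} : Set G) := by
      intro v hv
      obtain ⟨s, c, hs, hsm, hsc⟩ := haff v hv
      obtain ⟨e, -, rfl⟩ := hpar.hroots s hsm
      have h1 : v = a ^ c.val * b ^ e := by
        apply hinj
        rw [hsc, map_mul, φapow, φbpow, aff_mul one_ne_zero (pow_ne_zero _ hk0), one_mul, one_mul,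
          zero_add]
      rw [h1]
      exact mul_mem (pow_mem ha' _) (pow_mem hb' _)
    cases hx : φ u none with
    | none => exact NK u hx
    | some i =>
      have h1 : φ (a ^ i.val * g) none = some i := by
        rw [map_mul, Equiv.Perm.mul_apply, hg_none, φapow, aff_some one_ne_zero, mul_zero, zero_add]
      have h2 : φ ((a ^ i.val * g)⁻¹ * u) none = none := by
        rw [map_mul, Equiv.Perm.mul_apply, hx, map_inv, Equiv.Perm.inv_eq_iff_eq]
        exact h1.symm
      have h3 := NK _ h2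
      have h4 : u = (a ^ i.val * g) * ((a ^ i.val * g)⁻¹ * u) := by group
      rw [h4]
      exact mul_mem (mul_mem (pow_mem ha' _) hg') h3
  rw [MonoidHom.range_eq_map, ← hgen, MonoidHom.map_closure, Set.image_insert_eq,
    Set.image_insert_eq, Set.image_singleton, φa, φb]
  exact hcl

variable [Finite G] [IsSimpleGroup G]

/-- The recognition theorem (Bruhat version). -/
theorem exists_equiv_H0_C (hpar : ParamsC p m k g₀ g₀inv c₀) (hcard : Nat.card G = p * m * (p + 1))
    (hsyl : Nat.card (Sylow p G) = p + 1) : Nonempty (G ≃* H0 p k c₀) := by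
  obtain ⟨L⟩ := exists_labelled' (k := k) hpar.hm hpar.hmpos hpar.hkord hpar.hcardroots hcard hsyl
  have hrange := range_eq_H0_C hpar L
  exact ⟨(MonoidHom.ofInjective L.inj).trans (MulEquiv.subgroupCongr hrange)⟩

end Cfsg.Agent.Helper4.L2p
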