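import Mathlib
import Cfsg.Agent.Helper4.L2pGroupC
import Cfsg.Agent.Helper4.L2pInst

set_option autoImplicit false

/-!
The general recognition theorem for `PSL(2, p)` (Bruhat version) and its instances `p = 13, 17`.
-/

namespace Cfsg.Agent.Helper4.L2p

instance decBruhat (p m : ℕ) [Fact p.Prime] (T : Pt p → Pt p) : Decidable (Bruhat p m T) := by
  unfold Bruhat; infer_instance

/-- The general recognition theorem for `PSL(2, p)`, Bruhat version. -/
theorem equiv_PSL2_C {G : Type*} [Group G] [Finite G] [IsSimpleGroup G] {p m : ℕ} [hp : Fact p.Prime]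
    {k g₀ g₀inv c₀ : ZMod p} (hpar : ParamsC p m k g₀ g₀inv c₀)
    (hnum : ∀ n : ℕ, n ∣ m * (p + 1) → n % p = 1 → n = 1 ∨ n = p + 1)
    (hcard : Nat.card G = p * m * (p + 1)) {F : Type*} [Field F] [Fintype F]
    (hF : Fintype.card F = p) (h4 : ∃ x : F, x ≠ 0 ∧ x ^ 2 ≠ 1) :
    Nonempty (G ≃* Matrix.ProjectiveSpecialLinearGroup (Fin 2) F) := by
  have hmpos : 0 < m := hpar.hmpos
  have hcard2 := card_PSL2 hpar.hm hmpos hF
  haveI : IsSimpleGroup (Matrix.ProjectiveSpecialLinearGroup (Fin 2) F) := isSimpleGroup_PSL2 h4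
  haveI : Finite (Matrix.ProjectiveSpecialLinearGroup (Fin 2) F) :=
    Nat.finite_of_card_ne_zero (by
      rw [hcard2]
      have := hp.out.pos
      positivity)
  obtain ⟨e1⟩ := exists_equiv_H0_C hpar hcard (card_sylow_eq hpar.hm hmpos hcard hnum)
  obtain ⟨e2⟩ := exists_equiv_H0_C hpar hcard2 (card_sylow_eq hpar.hm hmpos hcard2 hnum)
  exact ⟨e1.trans e2.symm⟩

end Cfsg.Agent.Helper4.L2p
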