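import Mathlib
import Cfsg.Agent.Helper4.L2pInst

set_option autoImplicit false

namespace Cfsg.Agent.Helper4.L2p

theorem fact11 : Fact (Nat.Prime 11) := ⟨by norm_num⟩

attribute [local instance] fact11

set_option maxRecDepth 100000 in
theorem classHyp11 : ClassHyp 11 5 3 (-1) := by
  unfold ClassHyp
  decide +kernel

theorem params11 : Params 11 5 3 (-1) 5 1 where
  hm := by norm_num
  hmodd := by decide
  hk0 := by decide
  hk1 := by decide
  hkord := by
    rw [orderOf_eq_iff (by norm_num)]
    decide
  hroots := by decide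
  hcardroots := by decide
  hjj := by decide
  hc₀ := by decide
  hr := by norm_num
  hmr := by norm_num
  hrp := by norm_num
  hclass := classHyp11

theorem num11 : ∀ n : ℕ, n ∣ 5 * (11 + 1) → n % 11 = 1 → n = 1 ∨ n = 11 + 1 := by
  intro n h1 h2
  have := Nat.le_of_dvd (by norm_num) h1
  interval_cases n <;> omega

/-- A simple group of order 660 is `PSL(2, 11)`. -/
theorem equiv_PSL2_11 {G : Type*} [Group G] [Finite G] [IsSimpleGroup G] (h : Nat.card G = 660)
    {F : Type*} [Field F] [Fintype F] (hF : Fintype.card F = 11) :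
    Nonempty (G ≃* Matrix.ProjectiveSpecialLinearGroup (Fin 2) F) := by
  have hcard : Nat.card G = 11 * 5 * (11 + 1) := by rw [h]
  exact equiv_PSL2 params11 num11 hcard hF (exists_sq_ne_one (by rw [hF]; norm_num))

end Cfsg.Agent.Helper4.L2p
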