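import Mathlib
import Cfsg.Agent.Helper4.L2pInstC

set_option autoImplicit false

namespace Cfsg.Agent.Helper4.L2p

theorem fact17 : Fact (Nat.Prime 17) := ⟨by norm_num⟩

attribute [local instance] fact17

set_option maxRecDepth 100000 in
set_option synthInstance.maxSize 1000 in
set_option synthInstance.maxHeartbeats 200000 in
theorem classHypC17 : ClassHypC 17 8 9 6 1 := by
  unfold ClassHypC
  decide +kernel

theorem paramsC17 : ParamsC 17 8 9 3 6 1 where
  hm := by norm_num
  hmpos := by norm_num
  hk0 := by decide
  hkord := by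
    rw [orderOf_eq_iff (by norm_num)]
    decide
  hroots := by decide
  hcardroots := by decide
  hg₀ := by decide
  hgg := by decide
  hc₀ := by decide
  hclass := classHypC17

theorem num17 : ∀ n : ℕ, n ∣ 8 * (17 + 1) → n % 17 = 1 → n = 1 ∨ n = 17 + 1 := by
  intro n h1 h2
  have := Nat.le_of_dvd (by norm_num) h1
  interval_cases n <;> omega

/-- A simple group of order 2448 is `PSL(2, 17)`. -/
theorem equiv_PSL2_17 {G : Type*} [Group G] [Finite G] [IsSimpleGroup G] (h : Nat.card G = 2448)
    {F : Type*} [Field F] [Fintype F] (hF : Fintype.card F = 17) :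
    Nonempty (G ≃* Matrix.ProjectiveSpecialLinearGroup (Fin 2) F) := by
  have hcard : Nat.card G = 17 * 8 * (17 + 1) := by rw [h]
  exact equiv_PSL2_C paramsC17 num17 hcard hF (exists_sq_ne_one (by rw [hF]; norm_num))

end Cfsg.Agent.Helper4.L2p
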