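import Mathlib
import Cfsg.Agent.Helper4.L2pInst

set_option autoImplicit false

namespace Cfsg.Agent.Helper4.L2p

theorem fact19 : Fact (Nat.Prime 19) := ⟨by norm_num⟩

attribute [local instance] fact19

set_option maxRecDepth 100000 in
theorem classHyp19 : ClassHyp 19 9 4 (-1) := by
  unfold ClassHyp
  decide +kernel

theorem params19 : Params 19 9 4 (-1) 3 2 where
  hm := by norm_num
  hmodd := by decide
  hk0 := by decide
  hk1 := by decide
  hkord := by
    rw [orderOf_eq_iff (by norm_num)]
    decide
  hroots := by decide
  hcardroots := by decide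
  hjj := by decide
  hc₀ := by decide
  hr := by norm_num
  hmr := by norm_num
  hrp := by norm_num
  hclass := classHyp19

theorem num19 : ∀ n : ℕ, n ∣ 9 * (19 + 1) → n % 19 = 1 → n = 1 ∨ n = 19 + 1 := by
  intro n h1 h2
  have := Nat.le_of_dvd (by norm_num) h1
  interval_cases n <;> omega

end Cfsg.Agent.Helper4.L2p
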