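import Cfsg.Agent.Helper5.LTCG

/-!
# Two-level packed lookups for labelled Todd–Coxeter certificates

Small chunks keep the intermediate numbers of the kernel evaluation small.
-/

set_option autoImplicit false

namespace Cfsg.Agent.Helper4.LTCX

open Cfsg.Agent.Helper5.LTC

/-- entry `i` of a two-level chunked array packed with `w` bits per entry: groups of 32 chunks of
256 entries. -/
def lk2 (w : ℕ) (T : List (List ℕ)) (i : ℕ) : ℕ :=
  lkw w ((T.getD (Nat.div i 8192) []).getD (Nat.mod (Nat.div i 256) 32) 0) (Nat.mod i 256)

end Cfsg.Agent.Helper4.LTCX
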