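import Mathlib
import Cfsg.Agent.Helper4.LTVF

/-!
# Labelled Todd–Coxeter certificates: lookups in packed data
-/

/-! (helper4: a copy of the file of the same letter of `Cfsg.Agent.Helper5.LTC*`, with wider packed
fields: letters below 63 and central words below 64.) -/

set_option autoImplicit false

namespace Cfsg.Agent.Helper4.LTV

/-- entry `i` of the array `T` packed with `w` bits per entry. -/
def lkw (w T i : ℕ) : ℕ := Nat.mod (Nat.shiftRight T (Nat.mul w i)) (Nat.pow 2 w)

/-- a chain step for consecutive ranges of checked facts. -/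
theorem upto_step (C : Cert) {lo : ℕ} (h : ∀ j, j < lo → ∃ r, checkFact C j r = true)
    (l : List ℕ) (n : ℕ) (hl : l.length = n) (hc : checkList C lo l = true) :
    ∀ j, j < lo + n → ∃ r, checkFact C j r = true := by
  intro j hj
  by_cases h1 : j < lo
  · exact h j h1
  · exact checkList_spec C l lo hc j (by omega) (by omega)

/-- a chain step for consecutive ranges of table rows. -/
theorem rows_step (C : Cert) (T : Tab) {lo : ℕ}
    (h : ∀ n, n < lo → ∀ x, x < C.k → tabEntryOK C T n x = true) (cnt : ℕ)
    (hc : tabRowsOK C T cnt lo = true) :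
    ∀ n, n < lo + cnt → ∀ x, x < C.k → tabEntryOK C T n x = true := by
  intro n hn x hx
  by_cases h1 : n < lo
  · exact h n h1 x hx
  · exact tabRowOK_spec C T n C.k (tabRowsOK_spec C T cnt lo hc n (by omega) hn) x hx

/-- entry `i` of a two-level chunked array packed with `w` bits per entry: groups of 32 chunks of
256 entries. -/
def lk2 (w : ℕ) (T : List (List ℕ)) (i : ℕ) : ℕ :=
  lkw w ((T.getD (Nat.div i 8192) []).getD (Nat.mod (Nat.div i 256) 32) 0) (Nat.mod i 256)

end Cfsg.Agent.Helper4.LTV
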