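import Mathlib

/-!
# M11 cluster, piece DEG-ARITH: the arithmetic of the defect-zero degrees

A finite family of positive degrees divisible by 11, with values `v ∈ {0, ±1}` at a 5-element
(`5 ∣ d - v`), `∑ d² = 5082`, `∑ v² = 2`, `∑ d v = -33`, is `{11 (v = 1), 44 (v = -1), 55 (v = 0)}`.
-/

set_option autoImplicit false

namespace Cfsg.Agent.Helper2.M11

open Finset

/-- A single degree with `v ≠ 0`. -/
theorem h4_deg_single (d : ℕ) (v : ℤ) (h11 : 11 ∣ d) (hpos : 0 < d) (hle : d ^ 2 ≤ 5082)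
    (h5 : (5 : ℤ) ∣ (d : ℤ) - v) (hv : v = 1 ∨ v = -1) :
    (v = 1 ∧ (d = 11 ∨ d = 66)) ∨ (v = -1 ∧ d = 44) := by
  have hd : d ≤ 71 := by nlinarith
  obtain ⟨m, rfl⟩ := h11
  have hm : m ≤ 6 := by omega
  have hm0 : 0 < m := by omega
  rcases hv with rfl | rfl
  · left
    refine ⟨rfl, ?_⟩
    interval_cases m <;> omega
  · right
    refine ⟨rfl, ?_⟩
    interval_cases m <;> omega

theorem deg_arith {ι : Type*} [DecidableEq ι] (R : Finset ι) (d : ι → ℕ) (v : ι → ℤ)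
    (h11 : ∀ χ ∈ R, 11 ∣ d χ) (hpos : ∀ χ ∈ R, 0 < d χ)
    (hv : ∀ χ ∈ R, v χ = 0 ∨ v χ = 1 ∨ v χ = -1) (h5 : ∀ χ ∈ R, (5 : ℤ) ∣ (d χ : ℤ) - v χ)
    (hsq : ∑ χ ∈ R, d χ ^ 2 = 5082) (hv2 : ∑ χ ∈ R, v χ ^ 2 = 2)
    (hdv : ∑ χ ∈ R, (d χ : ℤ) * v χ = -33) :
    ∃ x y w, x ≠ y ∧ x ≠ w ∧ y ≠ w ∧ R = {x, y, w} ∧ d x = 11 ∧ v x = 1 ∧ d y = 44 ∧ v y = -1 ∧
      d w = 55 ∧ v w = 0 := by
  classical
  -- the support of v
  set P := R.filter (fun χ => v χ ≠ 0) with hP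
  set Z := R.filter (fun χ => ¬ v χ ≠ 0) with hZ
  have hPv : ∀ χ ∈ P, v χ = 1 ∨ v χ = -1 := by
    intro χ hχ
    rw [hP, Finset.mem_filter] at hχ
    rcases hv χ hχ.1 with h | h | h
    · exact absurd h hχ.2
    · exact Or.inl h
    · exact Or.inr h
  have hZv : ∀ χ ∈ Z, v χ = 0 := by
    intro χ hχ
    rw [hZ, Finset.mem_filter] at hχ
    exact not_not.mp hχ.2
  have hsplit : ∀ f : ι → ℤ, ∑ χ ∈ R, f χ = ∑ χ ∈ P, f χ + ∑ χ ∈ Z, f χ := by
    intro f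
    rw [hP, hZ, Finset.sum_filter_add_sum_filter_not]
  have hsplitN : ∀ f : ι → ℕ, ∑ χ ∈ R, f χ = ∑ χ ∈ P, f χ + ∑ χ ∈ Z, f χ := by
    intro f
    rw [hP, hZ, Finset.sum_filter_add_sum_filter_not]
  have hcardP : P.card = 2 := by
    have h1 := hsplit (fun χ => v χ ^ 2)
    rw [hv2] at h1
    have h2 : ∑ χ ∈ P, v χ ^ 2 = (P.card : ℤ) := by
      rw [Finset.sum_congr rfl (fun χ hχ => by
        rcases hPv χ hχ with h | h <;> rw [h] <;> norm_num : ∀ χ ∈ P, v χ ^ 2 = (1 : ℤ))]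
      simp
    have h3 : ∑ χ ∈ Z, v χ ^ 2 = 0 := by
      apply Finset.sum_eq_zero
      intro χ hχ
      rw [hZv χ hχ]; norm_num
    rw [h2, h3, add_zero] at h1
    exact_mod_cast h1.symm
  obtain ⟨x, y, hxy, hPxy⟩ := Finset.card_eq_two.mp hcardP
  have hxP : x ∈ P := by rw [hPxy]; simp
  have hyP : y ∈ P := by rw [hPxy]; simp
  have hxR : x ∈ R := (Finset.mem_filter.mp (hP ▸ hxP)).1
  have hyR : y ∈ R := (Finset.mem_filter.mp (hP ▸ hyP)).1
  -- the square-sum bound for single elements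
  have hle : ∀ χ ∈ R, d χ ^ 2 ≤ 5082 := by
    intro χ hχ
    rw [← hsq]
    exact Finset.single_le_sum (f := fun χ => d χ ^ 2) (fun _ _ => Nat.zero_le _) hχ
  have hx := h4_deg_single (d x) (v x) (h11 x hxR) (hpos x hxR) (hle x hxR) (h5 x hxR)
    (hPv x hxP)
  have hy := h4_deg_single (d y) (v y) (h11 y hyR) (hpos y hyR) (hle y hyR) (h5 y hyR)
    (hPv y hyP)
  -- the linear relation
  have hlin : (d x : ℤ) * v x + (d y : ℤ) * v y = -33 := by
    have h1 := hsplit (fun χ => (d χ : ℤ) * v χ)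
    rw [hdv] at h1
    have h3 : ∑ χ ∈ Z, (d χ : ℤ) * v χ = 0 := by
      apply Finset.sum_eq_zero
      intro χ hχ
      rw [hZv χ hχ]; ring
    rw [h3, add_zero, hPxy, Finset.sum_pair hxy] at h1
    exact h1.symm
  -- squares on Z
  have hsqZ : d x ^ 2 + d y ^ 2 + ∑ χ ∈ Z, d χ ^ 2 = 5082 := by
    have h1 := hsplitN (fun χ => d χ ^ 2)
    rw [hsq, hPxy, Finset.sum_pair hxy] at h1
    exact h1.symm
  -- WLOG: x has (11, 1), y has (44, -1)
  have main : ∀ x y : ι, x ≠ y → P = {x, y} → x ∈ R → y ∈ R → v x = 1 → d x = 11 → v y = -1 →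
      d y = 44 → d x ^ 2 + d y ^ 2 + ∑ χ ∈ Z, d χ ^ 2 = 5082 →
      ∃ x y w, x ≠ y ∧ x ≠ w ∧ y ≠ w ∧ R = {x, y, w} ∧ d x = 11 ∧ v x = 1 ∧ d y = 44 ∧
        v y = -1 ∧ d w = 55 ∧ v w = 0 := by
    intro x y hxy hPxy hxR hyR hvx hdx hvy hdy hsqZ
    rw [hdx, hdy] at hsqZ
    have hZsum : ∑ χ ∈ Z, d χ ^ 2 = 3025 := by omega
    have hZ55 : ∀ χ ∈ Z, 55 ∣ d χ := by
      intro χ hχ
      have hχR : χ ∈ R := (Finset.mem_filter.mp (hZ ▸ hχ)).1
      have h5' := h5 χ hχR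
      rw [hZv χ hχ, sub_zero] at h5'
      have h5'' : 5 ∣ d χ := by exact_mod_cast h5'
      exact Nat.Coprime.mul_dvd_of_dvd_of_dvd (by norm_num : Nat.Coprime 5 11) h5'' (h11 χ hχR)
    have hZge : ∀ χ ∈ Z, 3025 ≤ d χ ^ 2 := by
      intro χ hχ
      have hχR : χ ∈ R := (Finset.mem_filter.mp (hZ ▸ hχ)).1
      obtain ⟨m, hm⟩ := hZ55 χ hχ
      have := hpos χ hχR
      have hm0 : 1 ≤ m := by
        rcases Nat.eq_zero_or_pos m with h | h
        · rw [h] at hm; omega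
        · exact h
      rw [hm]
      nlinarith
    have hcardZ : Z.card = 1 := by
      have h1 : Z.card * 3025 ≤ ∑ χ ∈ Z, d χ ^ 2 := by
        rw [← smul_eq_mul, ← Finset.sum_const]
        exact Finset.sum_le_sum hZge
      rw [hZsum] at h1
      have h2 : Z.card ≠ 0 := by
        intro h0
        rw [Finset.card_eq_zero] at h0
        rw [h0, Finset.sum_empty] at hZsum
        omega
      omega
    obtain ⟨w, hw⟩ := Finset.card_eq_one.mp hcardZ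
    have hwZ : w ∈ Z := by rw [hw]; simp
    have hvw : v w = 0 := hZv w hwZ
    have hdw : d w = 55 := by
      rw [hw, Finset.sum_singleton] at hZsum
      have : d w ^ 2 = 55 ^ 2 := by rw [hZsum]; norm_num
      exact Nat.pow_left_injective (by norm_num : 2 ≠ 0) this
    have hxw : x ≠ w := by
      intro h; rw [h, hvw] at hvx; norm_num at hvx
    have hyw : y ≠ w := by
      intro h; rw [h, hvw] at hvy; norm_num at hvy
    refine ⟨x, y, w, hxy, hxw, hyw, ?_, hdx, hvx, hdy, hvy, hdw, hvw⟩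
    have hRPZ : R = P ∪ Z := by
      rw [hP, hZ, Finset.filter_union_filter_not_eq]
    rw [hRPZ, hPxy, hw]
    ext χ
    simp only [Finset.mem_union, Finset.mem_insert, Finset.mem_singleton]
    tauto
  rcases hx with ⟨hvx, hdx⟩ | ⟨hvx, hdx⟩ <;> rcases hy with ⟨hvy, hdy⟩ | ⟨hvy, hdy⟩
  · exfalso
    rw [hvx, hvy] at hlin
    rcases hdx with h | h <;> rcases hdy with h' | h' <;> rw [h, h'] at hlin <;> norm_num at hlin
  · rcases hdx with h | h
    · exact main x y hxy hPxy hxR hyR hvx h hvy hdy hsqZ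
    · exfalso
      rw [hvx, hvy, h, hdy] at hlin
      norm_num at hlin
  · rcases hdy with h | h
    · have hPyx : P = {y, x} := by rw [hPxy, Finset.pair_comm]
      have hsqZ' : d y ^ 2 + d x ^ 2 + ∑ χ ∈ Z, d χ ^ 2 = 5082 := by omega
      exact main y x hxy.symm hPyx hyR hxR hvy h hvx hdx hsqZ'
    · exfalso
      rw [hvx, hvy, h, hdx] at hlin
      norm_num at hlin
  · exfalso
    rw [hvx, hvy, hdx, hdy] at hlin
    norm_num at hlin

end Cfsg.Agent.Helper2.M11
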