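import Mathlib
import Cfsg.Prelude
import Cfsg.Agent.Helper9.Golay.TblGroup
import Cfsg.Agent.Lead.SimpleCritE

set_option autoImplicit false

/-!
Tools for the fusion systems of the groups of permutations of the 24 points given by tables:
subgroups given by a list of tables closed under products, a chain of products and conjugations
inside a strongly closed subgroup, and a variant of the criterion of simplicity for a
self-normalizing Sylow subgroup.
-/

namespace Cfsg.Agent.Helper4.MFus

open Cfsg Cfsg.Agent.Helper9.Golay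

section Tbl

variable (H : Subgroup (Equiv.Perm GolayPt))

/-- the elements of `H` whose table lies in a list. -/
def tblSet (L : List (List ℕ)) : Set ↥H :=
  {g | ∃ t ∈ L, IsTbl (g : Equiv.Perm GolayPt) t}

theorem pow_mem_tblSet (L : List (List ℕ)) (hid : idT ∈ L)
    (hmul : ∀ a ∈ L, ∀ b ∈ L, mulT a b ∈ L) (g : ↥H) (hg : g ∈ tblSet H L) (n : ℕ) :
    g ^ n ∈ tblSet H L := by
  induction n with
  | zero =>
    rw [pow_zero]
    exact ⟨idT, hid, isTbl_one⟩
  | succ n ih =>
    rw [pow_succ]
    obtain ⟨a, ha, hga⟩ := ih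
    obtain ⟨b, hb, hgb⟩ := hg
    exact ⟨mulT a b, hmul a ha b hb, hga.mul hgb⟩

/-- the subgroup of the elements of `H` with a table in a list closed under products. -/
def tblSub (L : List (List ℕ)) (hid : idT ∈ L) (hmul : ∀ a ∈ L, ∀ b ∈ L, mulT a b ∈ L) :
    Subgroup ↥H where
  carrier := tblSet H L
  one_mem' := ⟨idT, hid, isTbl_one⟩
  mul_mem' := by
    rintro g k ⟨a, ha, hga⟩ ⟨b, hb, hkb⟩
    exact ⟨mulT a b, hmul a ha b hb, hga.mul hkb⟩
  inv_mem' := by
    intro g hg
    have hpos := orderOf_pos g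
    have h1 : g * g ^ (orderOf g - 1) = 1 := by
      rw [← pow_succ', Nat.sub_add_cancel hpos, pow_orderOf_eq_one]
    have h2 : g⁻¹ = g ^ (orderOf g - 1) := (eq_inv_of_mul_eq_one_right h1).symm ▸ rfl
    rw [h2]
    exact pow_mem_tblSet H L hid hmul g hg _

theorem mem_tblSub (L : List (List ℕ)) (hid : idT ∈ L) (hmul : ∀ a ∈ L, ∀ b ∈ L, mulT a b ∈ L)
    (g : ↥H) : g ∈ tblSub H L hid hmul ↔ ∃ t ∈ L, IsTbl (g : Equiv.Perm GolayPt) t := Iff.rfl

theorem card_tblSub (L : List (List ℕ)) (hid : idT ∈ L) (hmul : ∀ a ∈ L, ∀ b ∈ L, mulT a b ∈ L)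
    (hnd : L.Nodup) (hreal : GoodT H L) : Nat.card (tblSub H L hid hmul) = L.length := by
  have hm : ∀ g : ↥(tblSub H L hid hmul), tblOf ((g : ↥H) : Equiv.Perm GolayPt) ∈ L := by
    rintro ⟨g, t, ht, hgt⟩
    rw [← tbl_eq_tblOf hgt]
    exact ht
  have e : ↥(tblSub H L hid hmul) ≃ {t // t ∈ L} :=
    { toFun := fun g => ⟨tblOf ((g : ↥H) : Equiv.Perm GolayPt), hm g⟩
      invFun := fun t => ⟨⟨Classical.choose (hreal t.1 t.2),
        (Classical.choose_spec (hreal t.1 t.2)).1⟩,
        ⟨t.1, t.2, (Classical.choose_spec (hreal t.1 t.2)).2⟩⟩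
      left_inv := by
        intro g
        apply Subtype.ext
        apply Subtype.ext
        have h := (Classical.choose_spec (hreal _ (hm g))).2
        exact h.eq_of_eq (isTbl_tblOf _)
      right_inv := by
        intro t
        apply Subtype.ext
        have h := (Classical.choose_spec (hreal t.1 t.2)).2
        exact (tbl_eq_tblOf h).symm }
  rw [Nat.card_congr e, Nat.card_congr (List.Nodup.getEquiv L hnd).symm, Nat.card_eq_fintype_card,
    Fintype.card_fin]

/-- a step of a chain: a product of two earlier tables, or the conjugate of an earlier table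
by a table of the ambient group, with the expected result. -/
inductive Step
  | mul (i j : ℕ)
  | conj (c x : ℕ) (y : List ℕ)

/-- run a chain of products and conjugations; a conjugation which does not check is replaced
by the identity. -/
def runSC (L CT : List (List ℕ)) : List Step → List (List ℕ) → List (List ℕ)
  | [], st => st
  | Step.mul i j :: rest, st =>
    runSC L CT rest (st ++ [mulT (st.getD i idT) (st.getD j idT)])
  | Step.conj c x y :: rest, st =>
    runSC L CT rest (st ++ [if (L.contains y &&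
      mulT y (CT.getD c idT) == mulT (CT.getD c idT) (st.getD x idT)) = true then y else idT])

/-- the tables of a chain starting in a subgroup closed under the conjugations which land in the
list stay in this subgroup. -/
theorem goodT_runSC (T : Subgroup (Equiv.Perm GolayPt)) (L CT : List (List ℕ))
    (hCT : GoodT H CT) (hL : GoodT H L)
    (hT : ∀ x ∈ T, ∀ c ∈ H, ∀ τ ∈ H, (∃ t ∈ L, IsTbl τ t) → τ * c = c * x → τ ∈ T) :
    ∀ (steps : List Step) (st : List (List ℕ)), GoodT T st → GoodT T (runSC L CT steps st) := by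
  intro steps
  induction steps with
  | nil => intro st h; exact h
  | cons e rest ih =>
    intro st h
    cases e with
    | mul i j =>
      apply ih
      intro t ht
      rw [List.mem_append, List.mem_singleton] at ht
      rcases ht with ht | ht
      · exact h t ht
      · obtain ⟨σ, hσ, hσt⟩ := h.getD i
        obtain ⟨τ, hτ, hτt⟩ := h.getD j
        rw [ht]
        exact ⟨σ * τ, T.mul_mem hσ hτ, hσt.mul hτt⟩
    | conj c x y =>
      apply ih
      intro t ht
      rw [List.mem_append, List.mem_singleton] at ht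
      rcases ht with ht | ht
      · exact h t ht
      · by_cases hcond : (L.contains y &&
          mulT y (CT.getD c idT) == mulT (CT.getD c idT) (st.getD x idT)) = true
        · rw [if_pos hcond] at ht
          rw [Bool.and_eq_true, beq_iff_eq] at hcond
          obtain ⟨hyL, heq⟩ := hcond
          have hyL' : y ∈ L := List.mem_of_elem_eq_true hyL
          obtain ⟨τ, hτ, hτt⟩ := hL y hyL'
          obtain ⟨σ, hσ, hσt⟩ := hCT.getD c
          obtain ⟨ξ, hξ, hξt⟩ := h.getD x
          have h1 : IsTbl (τ * σ) (mulT y (CT.getD c idT)) := hτt.mul hσt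
          have h2 : IsTbl (σ * ξ) (mulT y (CT.getD c idT)) := by
            rw [heq]
            exact hσt.mul hξt
          rw [ht]
          exact ⟨τ, hT ξ hξ σ hσ τ hτ ⟨y, hyL', hτt⟩ (h1.eq_of_eq h2), hτt⟩
        · rw [if_neg hcond] at ht
          rw [ht]
          exact ⟨1, T.one_mem, isTbl_one⟩

end Tbl

section Crit

open Cfsg.FusionSystem Cfsg.Agent.Lead Cfsg.Agent.Lead.SimpCrit

variable {G : Type*} [Group G]

/-- A strongly closed subgroup of a `p`-group `S` is trivial or everything, provided a strongly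
closed subgroup which contains a non-identity central element of `S` is everything. -/
theorem stronglyClosed_trivial_of_center [Finite G] (p : ℕ) [Fact p.Prime] (S : Subgroup G)
    (hS : IsPGroup p S)
    (hgen : ∀ T : Subgroup G, T ≤ S →
      (∀ x ∈ T, ∀ g : G, g * x * g⁻¹ ∈ S → g * x * g⁻¹ ∈ T) →
      ∀ x ∈ T, x ≠ 1 → (∀ s ∈ S, s * x = x * s) → S ≤ T)
    (T : Subgroup G) (hTS : T ≤ S)
    (hT : ∀ x ∈ T, ∀ g : G, g * x * g⁻¹ ∈ S → g * x * g⁻¹ ∈ T) : T = ⊥ ∨ T = S := by
  by_cases hbot : T = ⊥
  · exact Or.inl hbot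
  right
  have hQn : (T.subgroupOf S).Normal := by
    constructor
    intro x hx u
    rw [Subgroup.mem_subgroupOf] at hx ⊢
    have h1 : ((u * x * u⁻¹ : S) : G) = (u : G) * (x : G) * (u : G)⁻¹ := rfl
    rw [h1]
    apply hT _ hx
    exact S.mul_mem (S.mul_mem u.2 x.2) (S.inv_mem u.2)
  have hQ1 : T.subgroupOf S ≠ ⊥ := by
    intro h
    apply hbot
    rw [Subgroup.subgroupOf_eq_bot] at h
    rw [eq_bot_iff]
    intro x hx
    have : x ∈ T ⊓ S := ⟨hx, hTS hx⟩
    rw [disjoint_iff.mp h] at this
    exact this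
  obtain ⟨z, hzQ, hz1, hzc⟩ :=
    Cfsg.Agent.Helper5.exists_ne_one_mem_center_of_normal hS (T.subgroupOf S) hQ1
  have hzT : (z : G) ∈ T := Subgroup.mem_subgroupOf.mp hzQ
  have hz1' : (z : G) ≠ 1 := by
    intro h
    apply hz1
    exact Subtype.ext h
  have hzc' : ∀ s ∈ S, s * (z : G) = (z : G) * s := by
    intro s hs
    exact congrArg Subtype.val (hzc ⟨s, hs⟩)
  exact le_antisymm hTS (hgen T hTS hT z hzT hz1' hzc')

/-- The criterion for a self-normalizing `p`-subgroup, in the form with strongly closed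
subgroups. -/
theorem crit_of_self_normalizing_closed [Finite G] (p : ℕ) [Fact p.Prime] (S : Subgroup G)
    (hS : IsPGroup p S) (hN : Subgroup.normalizer (S : Set G) ≤ S)
    (hgen : ∀ T : Subgroup G, T ≤ S →
      (∀ x ∈ T, ∀ g : G, g * x * g⁻¹ ∈ S → g * x * g⁻¹ ∈ T) →
      ∀ x ∈ T, x ≠ 1 → (∀ s ∈ S, s * x = x * s) → S ≤ T) : Crit p S := by
  refine ⟨fun T hTS hT => stronglyClosed_trivial_of_center p S hS hgen T hTS hT, ?_⟩
  intro m hm
  have hmS : m ∈ S := hN hm
  apply Subgroup.subset_closure
  refine ⟨hm, S, le_rfl, Subgroup.le_normalizer, inf_le_left, ?_⟩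
  apply Subgroup.subset_closure
  refine ⟨hm, ?_⟩
  obtain ⟨k, hk⟩ := (IsPGroup.iff_orderOf.mp hS) ⟨m, hmS⟩
  rw [Subgroup.orderOf_mk] at hk
  exact ⟨k, hk⟩

/-- The `p`-fusion system of a finite group with a self-normalizing Sylow `p`-subgroup `S₀ ≠ 1`
is simple as soon as every strongly closed subgroup of `S₀` which contains a non-identity central
element of `S₀` is `S₀`. -/
theorem isSimple_of_self_normalizing_closed [Finite G] (p : ℕ) [Fact p.Prime] (S₀ : Sylow p G)
    (hS1 : (S₀ : Subgroup G) ≠ ⊥)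
    (hN : Subgroup.normalizer ((S₀ : Subgroup G) : Set G) ≤ (S₀ : Subgroup G))
    (hgen : ∀ T : Subgroup G, T ≤ (S₀ : Subgroup G) →
      (∀ x ∈ T, ∀ g : G, g * x * g⁻¹ ∈ (S₀ : Subgroup G) → g * x * g⁻¹ ∈ T) →
      ∀ x ∈ T, x ≠ 1 → (∀ s ∈ (S₀ : Subgroup G), s * x = x * s) → (S₀ : Subgroup G) ≤ T)
    (S : Sylow p G) : (groupFusionSystem (S : Subgroup G)).IsSimple p :=
  crit_all p S₀ hS1
    (crit_of_self_normalizing_closed p (S₀ : Subgroup G) S₀.isPGroup' hN hgen) S

end Crit

end Cfsg.Agent.Helper4.MFus
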