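import Mathlib
import Cfsg.Prelude.Def_Sporadic_a
import Cfsg.Agent.Helper9.Out.M12Data
import Cfsg.Agent.Helper4.MFusA

set_option autoImplicit false

/-!
Data for the 2-fusion system of the Mathieu group on 12 points: a Sylow 2-subgroup given by the
list of the tables of its 64 elements, its central involution, and a chain of conjugations which
shows that a strongly closed subgroup containing the central involution is everything.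
-/

namespace Cfsg.Agent.Helper4.M12Fus

open Cfsg Cfsg.Agent.Helper9.Golay Cfsg.Agent.Helper9.OutM12 Cfsg.Agent.Helper4.MFus

/-- the program computing the elements used, from the two generators. -/
def mfProg : List (ℕ × ℕ) := [(1, 0), (0, 2), (0, 3), (0, 4), (0, 5), (0, 6), (0, 7), (0, 8), (1, 9), (0, 10), (1, 11), (0, 12), (1, 13), (0, 14), (1, 15), (0, 16), (1, 17), (0, 18), (0, 19), (0, 0), (0, 21), (0, 22), (0, 23), (1, 24), (0, 25), (1, 26), (0, 27), (1, 28), (0, 29), (1, 30), (0, 31), (0, 32), (0, 33), (1, 34), (0, 35), (0, 36), (0, 37), (0, 38), (1, 23), (0, 40), (1, 41), (0, 42), (1, 7), (0, 44), (0, 45), (1, 21), (0, 47), (1, 48), (0, 49), (0, 50), (0, 51), (1, 52), (0, 53), (1, 1), (20, 1), (39, 1), (1, 20), (39, 20), (1, 39), (20, 39), (39, 39), (1, 56), (39, 56), (1, 57), (20, 57), (39, 57), (20, 58),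 (39, 58), (1, 59), (20, 59), (39, 59), (1, 61), (39, 61), (1, 62), (20, 62), (39, 62), (20, 63), (39, 63), (1, 64), (20, 64), (39, 64), (1, 66), (39, 66), (1, 67), (20, 67), (39, 67), (39, 68), (1, 69), (20, 69), (39, 69), (1, 71), (39, 71), (39, 73), (20, 74), (20, 77), (39, 77), (39, 78), (1, 79), (20, 79), (39, 79), (1, 81), (39, 81), (39, 83), (20, 84), (20, 87), (39, 87), (1, 88), (20, 88), (39, 92), (1, 94), (1, 98), (20, 98), (39, 102), (1, 104)]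

/-- the tables computed by the program. -/
def mfTabs : List (List ℕ) := runSLP mfProg [o12AT, o12BT]

/-- the tables of the elements of a Sylow 2-subgroup. -/
def mfL : List (List ℕ) := [
  [0, 1, 2, 3, 4, 5, 6, 7, 8, 9, 10, 11, 12, 13, 14, 15, 16, 17, 18, 19, 20, 21, 22, 23],
  [0, 1, 2, 3, 6, 14, 12, 22, 13, 4, 11, 7, 9, 16, 5, 21, 18, 23, 8, 20, 15, 19, 10, 17],
  [0, 1, 2, 3, 8, 17, 18, 15, 12, 13, 19, 21, 16, 6, 23, 10, 4, 5, 9, 7, 11, 22, 20, 14],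
  [0, 1, 2, 3, 9, 14, 4, 11, 18, 12, 22, 10, 6, 8, 5, 20, 13, 23, 16, 21, 19, 15, 7, 17],
  [0, 1, 2, 3, 12, 5, 9, 10, 16, 6, 7, 22, 4, 18, 14, 19, 8, 17, 13, 15, 21, 20, 11, 23],
  [0, 1, 2, 3, 13, 23, 8, 21, 9, 16, 20, 19, 18, 12, 17, 11, 6, 14, 4, 22, 7, 10, 15, 5],
  [0, 1, 2, 3, 16, 17, 13, 19, 4, 18, 15, 20, 8, 9, 23, 7, 12, 5, 6, 10, 22, 11, 21, 14],
  [0, 1, 2, 3, 18, 23, 16, 20, 6, 8, 21, 15, 13, 4, 17, 22, 9, 14, 12, 11, 10, 7, 19, 5],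
  [0, 1, 3, 2, 4, 5, 9, 10, 13, 6, 7, 11, 12, 8, 14, 20, 18, 23, 16, 21, 15, 19, 22, 17],
  [0, 1, 3, 2, 6, 14, 4, 11, 16, 12, 22, 7, 9, 13, 5, 15, 8, 17, 18, 19, 21, 20, 10, 23],
  [0, 1, 3, 2, 8, 17, 13, 19, 6, 18, 15, 21, 16, 12, 23, 11, 9, 14, 4, 22, 10, 7, 20, 5],
  [0, 1, 3, 2, 9, 14, 12, 22, 8, 4, 11, 10, 6, 18, 5, 19, 16, 17, 13, 15, 20, 21, 7, 23],
  [0, 1, 3, 2, 12, 5, 6, 7, 18, 9, 10, 22, 4, 16, 14, 21, 13, 23, 8, 20, 19, 15, 11, 17],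
  [0, 1, 3, 2, 13, 23, 16, 20, 12, 8, 21, 19, 18, 9, 17, 7, 4, 5, 6, 10, 11, 22, 15, 14],
  [0, 1, 3, 2, 16, 17, 18, 15, 9, 13, 19, 20, 8, 4, 23, 22, 6, 14, 12, 11, 7, 10, 21, 5],
  [0, 1, 3, 2, 18, 23, 8, 21, 4, 16, 20, 15, 13, 6, 17, 10, 12, 5, 9, 7, 22, 11, 19, 14],
  [1, 0, 2, 3, 4, 14, 9, 10, 18, 6, 7, 11, 12, 16, 5, 21, 13, 17, 8, 20, 19, 15, 22, 23],
  [1, 0, 2, 3, 6, 5, 4, 11, 8, 12, 22, 7, 9, 18, 14, 19, 16, 23, 13, 15, 20, 21, 10, 17],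
  [1, 0, 2, 3, 8, 23, 13, 19, 9, 18, 15, 21, 16, 4, 17, 22, 6, 5, 12, 11, 7, 10, 20, 14],
  [1, 0, 2, 3, 9, 5, 12, 22, 16, 4, 11, 10, 6, 13, 14, 15, 8, 23, 18, 19, 21, 20, 7, 17],
  [1, 0, 2, 3, 12, 14, 6, 7, 13, 9, 10, 22, 4, 8, 5, 20, 18, 17, 16, 21, 15, 19, 11, 23],
  [1, 0, 2, 3, 13, 17, 16, 20, 4, 8, 21, 19, 18, 6, 23, 10, 12, 14, 9, 7, 22, 11, 15, 5],
  [1, 0, 2, 3, 16, 23, 18, 15, 6, 13, 19, 20, 8, 12, 17, 11, 9, 5, 4, 22, 10, 7, 21, 14],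
  [1, 0, 2, 3, 18, 17, 8, 21, 12, 16, 20, 15, 13, 9, 23, 7, 4, 14, 6, 10, 11, 22, 19, 5],
  [1, 0, 3, 2, 4, 14, 6, 7, 16, 9, 10, 11, 12, 18, 5, 19, 8, 23, 13, 15, 21, 20, 22, 17],
  [1, 0, 3, 2, 6, 5, 12, 22, 18, 4, 11, 7, 9, 8, 14, 20, 13, 17, 16, 21, 19, 15, 10, 23],
  [1, 0, 3, 2, 8, 23, 18, 15, 4, 13, 19, 21, 16, 9, 17, 7, 12, 14, 6, 10, 22, 11, 20, 5],
  [1, 0, 3, 2, 9, 5, 4, 11, 13, 12, 22, 10, 6, 16, 14, 21, 18, 17, 8, 20, 15, 19, 7, 23],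
  [1, 0, 3, 2, 12, 14, 9, 10, 8, 6, 7, 22, 4, 13, 5, 15, 16, 23, 18, 19, 20, 21, 11, 17],
  [1, 0, 3, 2, 13, 17, 8, 21, 6, 16, 20, 19, 18, 4, 23, 22, 9, 5, 12, 11, 10, 7, 15, 14],
  [1, 0, 3, 2, 16, 23, 13, 19, 12, 18, 15, 20, 8, 6, 17, 10, 4, 14, 9, 7, 11, 22, 21, 5],
  [1, 0, 3, 2, 18, 17, 16, 20, 9, 8, 21, 15, 13, 12, 23, 11, 6, 5, 4, 22, 7, 10, 19, 14],
  [2, 3, 0, 1, 4, 17, 9, 7, 8, 6, 10, 22, 12, 18, 23, 15, 16, 5, 13, 19, 21, 20, 11, 14],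
  [2, 3, 0, 1, 6, 23, 4, 22, 13, 12, 11, 10, 9, 8, 17, 21, 18, 14, 16, 20, 19, 15, 7, 5],
  [2, 3, 0, 1, 8, 5, 13, 15, 12, 18, 19, 20, 16, 9, 14, 10, 4, 17, 6, 7, 22, 11, 21, 23],
  [2, 3, 0, 1, 9, 23, 12, 11, 18, 4, 22, 7, 6, 16, 17, 20, 13, 14, 8, 21, 15, 19, 10, 5],
  [2, 3, 0, 1, 12, 17, 6, 10, 16, 9, 7, 11, 4, 13, 23, 19, 8, 5, 18, 15, 20, 21, 22, 14],
  [2, 3, 0, 1, 13, 14, 16, 21, 9, 8, 20, 15, 18, 4, 5, 11, 6, 23, 12, 22, 10, 7, 19, 17],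
  [2, 3, 0, 1, 16, 5, 18, 19, 4, 13, 15, 21, 8, 6, 14, 7, 12, 17, 9, 10, 11, 22, 20, 23],
  [2, 3, 0, 1, 18, 14, 8, 20, 6, 16, 21, 19, 13, 12, 5, 22, 9, 23, 4, 11, 7, 10, 15, 17],
  [2, 3, 1, 0, 4, 17, 6, 10, 18, 9, 7, 22, 12, 8, 23, 21, 13, 14, 16, 20, 15, 19, 11, 5],
  [2, 3, 1, 0, 6, 23, 12, 11, 8, 4, 22, 10, 9, 13, 17, 19, 16, 5, 18, 15, 21, 20, 7, 14],
  [2, 3, 1, 0, 8, 5, 18, 19, 9, 13, 15, 20, 16, 12, 14, 22, 6, 23, 4, 11, 10, 7, 21, 17],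
  [2, 3, 1, 0, 9, 23, 4, 22, 16, 12, 11, 7, 6, 18, 17, 15, 8, 5, 13, 19, 20, 21, 10, 14],
  [2, 3, 1, 0, 12, 17, 9, 7, 13, 6, 10, 11, 4, 16, 23, 20, 18, 14, 8, 21, 19, 15, 22, 5],
  [2, 3, 1, 0, 13, 14, 8, 20, 4, 16, 21, 15, 18, 9, 5, 10, 12, 17, 6, 7, 11, 22, 19, 23],
  [2, 3, 1, 0, 16, 5, 13, 15, 6, 18, 19, 21, 8, 4, 14, 11, 9, 23, 12, 22, 7, 10, 20, 17],
  [2, 3, 1, 0, 18, 14, 16, 21, 12, 8, 20, 19, 13, 6, 5, 7, 4, 17, 9, 10, 22, 11, 15, 23],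
  [3, 2, 0, 1, 4, 23, 6, 10, 13, 9, 7, 22, 12, 16, 17, 20, 18, 5, 8, 21, 19, 15, 11, 14],
  [3, 2, 0, 1, 6, 17, 12, 11, 16, 4, 22, 10, 9, 18, 23, 15, 8, 14, 13, 19, 20, 21, 7, 5],
  [3, 2, 0, 1, 8, 14, 18, 19, 6, 13, 15, 20, 16, 4, 5, 11, 9, 17, 12, 22, 7, 10, 21, 23],
  [3, 2, 0, 1, 9, 17, 4, 22, 8, 12, 11, 7, 6, 13, 23, 19, 16, 14, 18, 15, 21, 20, 10, 5],
  [3, 2, 0, 1, 12, 23, 9, 7, 18, 6, 10, 11, 4, 8, 17, 21, 13, 5, 16, 20, 15, 19, 22, 14],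
  [3, 2, 0, 1, 13, 5, 8, 20, 12, 16, 21, 15, 18, 6, 14, 7, 4, 23, 9, 10, 22, 11, 19, 17],
  [3, 2, 0, 1, 16, 14, 13, 15, 9, 18, 19, 21, 8, 12, 5, 22, 6, 17, 4, 11, 10, 7, 20, 23],
  [3, 2, 0, 1, 18, 5, 16, 21, 4, 8, 20, 19, 13, 9, 14, 10, 12, 23, 6, 7, 11, 22, 15, 17],
  [3, 2, 1, 0, 4, 23, 9, 7, 16, 6, 10, 22, 12, 13, 17, 19, 8, 14, 18, 15, 20, 21, 11, 5],
  [3, 2, 1, 0, 6, 17, 4, 22, 18, 12, 11, 10, 9, 16, 23, 20, 13, 5, 8, 21, 15, 19, 7, 14],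
  [3, 2, 1, 0, 8, 14, 13, 15, 4, 18, 19, 20, 16, 6, 5, 7, 12, 23, 9, 10, 11, 22, 21, 17],
  [3, 2, 1, 0, 9, 17, 12, 11, 13, 4, 22, 7, 6, 8, 23, 21, 18, 5, 16, 20, 19, 15, 10, 14],
  [3, 2, 1, 0, 12, 23, 6, 10, 8, 9, 7, 11, 4, 18, 17, 15, 16, 14, 13, 19, 21, 20, 22, 5],
  [3, 2, 1, 0, 13, 5, 16, 21, 6, 8, 20, 15, 18, 12, 14, 22, 9, 17, 4, 11, 7, 10, 19, 23],
  [3, 2, 1, 0, 16, 14, 18, 19, 12, 13, 15, 21, 8, 9, 5, 10, 4, 23, 6, 7, 22, 11, 20, 17],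
  [3, 2, 1, 0, 18, 5, 8, 20, 9, 16, 21, 19, 13, 4, 14, 11, 6, 17, 12, 22, 10, 7, 15, 23]]

/-- the central involution. -/
def mfZ : List ℕ := [0, 1, 2, 3, 12, 5, 9, 10, 16, 6, 7, 22, 4, 18, 14, 19, 8, 17, 13, 15, 21, 20, 11, 23]

/-- an element exchanging the first two points and fixing the next two. -/
def mfU : List ℕ := [1, 0, 2, 3, 4, 14, 9, 10, 18, 6, 7, 11, 12, 16, 5, 21, 13, 17, 8, 20, 19, 15, 22, 23]

/-- the chain of products and conjugations. -/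
def mfSteps : List Step := [
  Step.conj 22 0 [0, 1, 3, 2, 9, 14, 12, 22, 8, 4, 11, 10, 6, 18, 5, 19, 16, 17, 13, 15, 20, 21, 7, 23],
  Step.conj 43 0 [0, 1, 3, 2, 4, 5, 9, 10, 13, 6, 7, 11, 12, 8, 14, 20, 18, 23, 16, 21, 15, 19, 22, 17],
  Step.conj 46 0 [1, 0, 2, 3, 12, 14, 6, 7, 13, 9, 10, 22, 4, 8, 5, 20, 18, 17, 16, 21, 15, 19, 11, 23],
  Step.conj 54 0 [2, 3, 0, 1, 12, 17, 6, 10, 16, 9, 7, 11, 4, 13, 23, 19, 8, 5, 18, 15, 20, 21, 22, 14],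
  Step.mul 4 1,
  Step.mul 2 5,
  Step.conj 23 6 [2, 3, 0, 1, 18, 14, 8, 20, 6, 16, 21, 19, 13, 12, 5, 22, 9, 23, 4, 11, 7, 10, 15, 17],
  Step.mul 0 0,
  Step.mul 1 0,
  Step.mul 2 0,
  Step.mul 3 0,
  Step.mul 4 0,
  Step.mul 7 0,
  Step.mul 2 1,
  Step.mul 3 1,
  Step.mul 4 1,
  Step.mul 7 1,
  Step.mul 1 2,
  Step.mul 3 2,
  Step.mul 4 2,
  Step.mul 7 2,
  Step.mul 1 3,
  Step.mul 4 3,
  Step.mul 7 3,
  Step.mul 1 4,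
  Step.mul 2 4,
  Step.mul 3 4,
  Step.mul 7 4,
  Step.mul 2 7,
  Step.mul 4 7,
  Step.mul 4 9,
  Step.mul 7 9,
  Step.mul 3 10,
  Step.mul 7 10,
  Step.mul 7 11,
  Step.mul 1 12,
  Step.mul 2 13,
  Step.mul 3 14,
  Step.mul 4 14,
  Step.mul 7 14,
  Step.mul 4 15,
  Step.mul 7 15,
  Step.mul 1 16,
  Step.mul 2 16,
  Step.mul 3 16,
  Step.mul 7 16,
  Step.mul 2 17,
  Step.mul 4 17,
  Step.mul 3 18,
  Step.mul 7 18,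
  Step.mul 7 19,
  Step.mul 2 20,
  Step.mul 7 20,
  Step.mul 4 21,
  Step.mul 7 22,
  Step.mul 7 23,
  Step.mul 4 24,
  Step.mul 7 25,
  Step.mul 3 30,
  Step.mul 7 39,
  Step.mul 4 40,
  Step.mul 7 41,
  Step.mul 4 42,
  Step.mul 7 43,
  Step.mul 3 48]

theorem mf_real : mfL.all (fun t => mfTabs.contains t) = true := by decide +kernel

theorem mf_id : idT ∈ mfL := by decide +kernel

theorem mf_mul : mfL.all (fun s => mfL.all (fun t => mfL.contains (mulT s t))) = true := by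
  decide +kernel

theorem mf_nodup : mfL.Nodup := by decide +kernel

theorem mf_length : mfL.length = 64 := by decide +kernel

theorem mf_center : mfL.all (fun t => t == idT || t == mfZ ||
    mfL.any (fun s => mulT s t != mulT t s)) = true := by decide +kernel

theorem mf_z : mfZ ∈ mfL ∧ mfZ ≠ idT ∧ mfL.all (fun s => mulT s mfZ == mulT mfZ s) = true := by
  decide +kernel

theorem mf_zfix : ∀ j ∈ o12Dl, mfZ.getD j 0 = j → j < 4 := by decide +kernel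

theorem mf_zfix' : ∀ j < 4, mfZ.getD j 0 = j := by decide +kernel

theorem mf_u : mfU ∈ mfL ∧ mfU.getD 0 0 = 1 ∧ mfU.getD 1 0 = 0 ∧ mfU.getD 2 0 = 2 ∧
    mfU.getD 3 0 = 3 := by decide +kernel

/-- the check used for the normalizer: an arrangement of the first four points compatible with a
transposition in the group, and an image of the fifth point, come from an element of the
group. -/
def mfNormOK : Bool :=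
  (List.range 4).all fun j0 => (List.range 4).all fun j1 => (List.range 4).all fun j2 =>
  (List.range 4).all fun j3 => o12Dl.all fun j4 =>
    !(decide (4 ≤ j4) && j0 != j1 && j0 != j2 && j0 != j3 && j1 != j2 && j1 != j3 && j2 != j3 &&
      mfL.any (fun w => w.getD j0 0 == j1 && w.getD j1 0 == j0 && w.getD j2 0 == j2 &&
        w.getD j3 0 == j3)) ||
    mfL.any (fun t => t.getD 0 0 == j0 && t.getD 1 0 == j1 && t.getD 2 0 == j2 &&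
      t.getD 3 0 == j3 && t.getD 4 0 == j4)

theorem mf_normB : mfNormOK = true := by decide +kernel

theorem mf_norm : ∀ j0 < 4, ∀ j1 < 4, ∀ j2 < 4, ∀ j3 < 4, ∀ j4 ∈ o12Dl, 4 ≤ j4 →
    j0 ≠ j1 → j0 ≠ j2 → j0 ≠ j3 → j1 ≠ j2 → j1 ≠ j3 → j2 ≠ j3 →
    (∃ w ∈ mfL, w.getD j0 0 = j1 ∧ w.getD j1 0 = j0 ∧ w.getD j2 0 = j2 ∧ w.getD j3 0 = j3) →
    ∃ t ∈ mfL, t.getD 0 0 = j0 ∧ t.getD 1 0 = j1 ∧ t.getD 2 0 = j2 ∧ t.getD 3 0 = j3 ∧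
      t.getD 4 0 = j4 := by
  intro j0 hj0 j1 hj1 j2 hj2 j3 hj3 j4 hj4 h4 h01 h02 h03 h12 h13 h23 hw
  have h := mf_normB
  unfold mfNormOK at h
  have h' := List.all_eq_true.mp (List.all_eq_true.mp (List.all_eq_true.mp (List.all_eq_true.mp
    (List.all_eq_true.mp h j0 (List.mem_range.mpr hj0)) j1 (List.mem_range.mpr hj1))
    j2 (List.mem_range.mpr hj2)) j3 (List.mem_range.mpr hj3)) j4 hj4
  rw [Bool.or_eq_true] at h'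
  rcases h' with h' | h'
  · exfalso
    rw [Bool.not_eq_true', Bool.eq_false_iff] at h'
    apply h'
    obtain ⟨w, hwL, hw0, hw1, hw2, hw3⟩ := hw
    simp only [Bool.and_eq_true, decide_eq_true_eq, bne_iff_ne, ne_eq, List.any_eq_true,
      beq_iff_eq]
    exact ⟨⟨⟨⟨⟨⟨⟨h4, h01⟩, h02⟩, h03⟩, h12⟩, h13⟩, h23⟩, w, hwL, ⟨⟨hw0, hw1⟩, hw2⟩, hw3⟩
  · rw [List.any_eq_true] at h'
    obtain ⟨t, htL, ht⟩ := h'
    simp only [Bool.and_eq_true, beq_iff_eq] at ht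
    obtain ⟨⟨⟨⟨ht0, ht1⟩, ht2⟩, ht3⟩, ht4⟩ := ht
    exact ⟨t, htL, ht0, ht1, ht2, ht3, ht4⟩

theorem mf_chain : mfL.all (fun t => (runSC mfL mfTabs mfSteps [mfZ]).contains t) = true := by
  decide +kernel

theorem mf_dl : ∀ i < 5, i ∈ o12Dl := by decide

end Cfsg.Agent.Helper4.M12Fus
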