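import Mathlib
import Cfsg.Prelude
import Cfsg.Agent.Helper9.Out.M12Out
import Cfsg.Agent.Helper4.M12FusData

set_option autoImplicit false

/-!
The 2-fusion system of the Mathieu group on 12 points is simple: the group has a self-normalizing
Sylow 2-subgroup of order 64, with centre of order 2, and a strongly closed subgroup containing
the central involution is the whole Sylow subgroup.
-/

namespace Cfsg.Agent.Helper4.M12Fus

open Cfsg Cfsg.Agent.Helper9.Golay Cfsg.Agent.Helper9.OutM12 Cfsg.Agent.Helper4.MFus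
  Cfsg.Agent.Helper9.OutM24 Cfsg.Agent.Helper9.OutM11
open scoped Pointwise

theorem goodT_mfTabs : GoodT Spor.M12 mfTabs := by
  apply goodT_runSLP
  intro t ht
  simp only [List.mem_cons, List.not_mem_nil, or_false] at ht
  rcases ht with rfl | rfl
  · exact ⟨a12P, a12P_mem, a12P_tbl⟩
  · exact ⟨b12P, b12P_mem, b12P_tbl⟩

theorem goodT_mfL : GoodT Spor.M12 mfL := by
  intro t ht
  have h := List.all_eq_true.mp mf_real t ht
  exact goodT_mfTabs t (List.mem_of_elem_eq_true h)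

theorem mf_mul' : ∀ a ∈ mfL, ∀ b ∈ mfL, mulT a b ∈ mfL := by
  intro a ha b hb
  have h := List.all_eq_true.mp (List.all_eq_true.mp mf_mul a ha) b hb
  exact List.mem_of_elem_eq_true h

/-- a Sylow 2-subgroup of the Mathieu group on 12 points. -/
def P12 : Subgroup ↥Spor.M12 := tblSub Spor.M12 mfL mf_id mf_mul'

theorem mem_P12 (g : ↥Spor.M12) :
    g ∈ P12 ↔ ∃ t ∈ mfL, IsTbl (g : Equiv.Perm GolayPt) t := Iff.rfl

theorem card_P12 : Nat.card P12 = 64 := by
  unfold P12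
  rw [card_tblSub Spor.M12 mfL mf_id mf_mul' mf_nodup goodT_mfL, mf_length]

theorem fact_M12 : (Nat.card ↥Spor.M12).factorization 2 = 6 := by
  rw [card_M12]
  have hp : Nat.Prime 2 := Nat.prime_two
  have h1 : 6 ≤ (95040 : ℕ).factorization 2 :=
    (hp.pow_dvd_iff_le_factorization (by norm_num)).mp (by norm_num)
  have h2 : ¬ 7 ≤ (95040 : ℕ).factorization 2 := fun h =>
    absurd ((hp.pow_dvd_iff_le_factorization (by norm_num)).mpr h) (by norm_num)
  omega

/-- the Sylow 2-subgroup as a Sylow subgroup. -/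
noncomputable def S12 : Sylow 2 ↥Spor.M12 :=
  Sylow.ofCard P12 (by rw [card_P12, fact_M12]; norm_num)

theorem coe_S12 : (S12 : Subgroup ↥Spor.M12) = P12 := rfl

theorem exists_of_mem_L {t : List ℕ} (ht : t ∈ mfL) :
    ∃ p : ↥Spor.M12, p ∈ P12 ∧ IsTbl (p : Equiv.Perm GolayPt) t := by
  obtain ⟨σ, hσ, hσt⟩ := goodT_mfL t ht
  exact ⟨⟨σ, hσ⟩, ⟨t, ht, hσt⟩, hσt⟩

/-- the centre of the Sylow subgroup has order 2. -/
theorem center_P12 (x : ↥Spor.M12) (hx : x ∈ P12) (hx1 : x ≠ 1)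
    (hc : ∀ s ∈ P12, s * x = x * s) : IsTbl (x : Equiv.Perm GolayPt) mfZ := by
  obtain ⟨t, ht, hxt⟩ := hx
  have h := List.all_eq_true.mp mf_center t ht
  rw [Bool.or_eq_true, Bool.or_eq_true, beq_iff_eq, beq_iff_eq, List.any_eq_true] at h
  rcases h with (h | h) | ⟨s, hs, hne⟩
  · exfalso
    apply hx1
    apply Subtype.ext
    rw [h] at hxt
    exact hxt.eq_of_eq isTbl_one
  · rw [← h]
    exact hxt
  · exfalso
    obtain ⟨p, hp, hpt⟩ := exists_of_mem_L hs
    have h1 := hc p hp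
    have h2 : (p : Equiv.Perm GolayPt) * (x : Equiv.Perm GolayPt) =
        (x : Equiv.Perm GolayPt) * (p : Equiv.Perm GolayPt) := congrArg Subtype.val h1
    have e1 := tbl_eq_tblOf (hpt.mul hxt)
    have e2 := tbl_eq_tblOf (hxt.mul hpt)
    rw [h2] at e1
    rw [bne_iff_ne] at hne
    exact hne (e1.trans e2.symm)

theorem exists_z : ∃ z : ↥Spor.M12, z ∈ P12 ∧ IsTbl (z : Equiv.Perm GolayPt) mfZ :=
  exists_of_mem_L mf_z.1

theorem P12_ne_bot : P12 ≠ ⊥ := by
  obtain ⟨z, hzP, hzt⟩ := exists_z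
  intro h
  rw [h, Subgroup.mem_bot] at hzP
  rw [hzP] at hzt
  exact mf_z.2.1 (tbl_eq_idT hzt)

/-- a strongly closed subgroup containing a non-identity central element is everything. -/
theorem closed_P12 (T : Subgroup ↥Spor.M12) (hTS : T ≤ P12)
    (hT : ∀ x ∈ T, ∀ g : ↥Spor.M12, g * x * g⁻¹ ∈ P12 → g * x * g⁻¹ ∈ T)
    (x : ↥Spor.M12) (hxT : x ∈ T) (hx1 : x ≠ 1) (hc : ∀ s ∈ P12, s * x = x * s) : P12 ≤ T := by
  have hxz := center_P12 x (hTS hxT) hx1 hc
  have hclosed : ∀ x ∈ T.map Spor.M12.subtype, ∀ c ∈ Spor.M12, ∀ τ ∈ Spor.M12,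
      (∃ t ∈ mfL, IsTbl τ t) → τ * c = c * x → τ ∈ T.map Spor.M12.subtype := by
    rintro _ ⟨x0, hx0, rfl⟩ c hc τ hτ ⟨t, ht, hτt⟩ heq
    have h1 : (⟨τ, hτ⟩ : ↥Spor.M12) = ⟨c, hc⟩ * x0 * (⟨c, hc⟩ : ↥Spor.M12)⁻¹ := by
      rw [eq_mul_inv_iff_mul_eq]
      apply Subtype.ext
      exact heq
    refine ⟨⟨τ, hτ⟩, ?_, rfl⟩
    rw [h1]
    apply hT x0 hx0
    rw [← h1]
    exact ⟨t, ht, hτt⟩
  have hstart : GoodT (T.map Spor.M12.subtype) [mfZ] := by
    intro t ht
    rw [List.mem_singleton] at ht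
    rw [ht]
    exact ⟨x.1, ⟨x, hxT, rfl⟩, hxz⟩
  have hgood := goodT_runSC Spor.M12 (T.map Spor.M12.subtype) mfL mfTabs goodT_mfTabs goodT_mfL
    hclosed mfSteps [mfZ] hstart
  intro p hp
  obtain ⟨t, ht, hpt⟩ := hp
  have hmem : t ∈ runSC mfL mfTabs mfSteps [mfZ] :=
    List.mem_of_elem_eq_true (List.all_eq_true.mp mf_chain t ht)
  obtain ⟨σ, ⟨q, hq, rfl⟩, hσt⟩ := hgood t hmem
  have hqp : q = p := Subtype.ext (hσt.eq_of_eq hpt)
  rw [← hqp]
  exact hq

theorem perm_inv_apply (σ : Equiv.Perm GolayPt) (q : GolayPt) : σ⁻¹ (σ q) = q :=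
  σ.symm_apply_apply q

theorem tbl_getD {σ : Equiv.Perm GolayPt} {t : List ℕ} (h : IsTbl σ t) {i : ℕ} (hi : i < 24) :
    t.getD i 0 = ptIdx (σ (idxPtN i)) := by
  have := h.2 (idxPtN i)
  rwa [ptIdx_idxPtN hi] at this

theorem tbl_getD_of_apply {σ : Equiv.Perm GolayPt} {t : List ℕ} (h : IsTbl σ t) {i j : ℕ}
    (hi : i < 24) (hj : j < 24) (hij : σ (idxPtN i) = idxPtN j) : t.getD i 0 = j := by
  rw [tbl_getD h hi, hij, ptIdx_idxPtN hj]

theorem ne_of_apply {σ : Equiv.Perm GolayPt} {a b ja jb : ℕ} (ha : a < 24) (hb : b < 24)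
    (hab : a ≠ b) (h1 : σ (idxPtN a) = idxPtN ja) (h2 : σ (idxPtN b) = idxPtN jb) : ja ≠ jb := by
  intro h
  apply hab
  apply idxPtN_injOn ha hb
  apply σ.injective
  rw [h1, h2, h]

/-- the Sylow subgroup is its own normalizer. -/
theorem normalizer_P12 : Subgroup.normalizer (P12 : Set ↥Spor.M12) ≤ P12 := by
  intro g hg
  rw [Subgroup.mem_normalizer_iff] at hg
  obtain ⟨z, hzP, hzt⟩ := exists_z
  have hz1 : z ≠ 1 := by
    intro h
    rw [h] at hzt
    exact mf_z.2.1 (tbl_eq_idT hzt)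
  have hzc : ∀ s ∈ P12, s * z = z * s := by
    rintro s ⟨t, ht, hst⟩
    apply Subtype.ext
    rw [Subgroup.coe_mul, Subgroup.coe_mul]
    apply (hst.mul hzt).eq_of_eq
    have h := List.all_eq_true.mp mf_z.2.2 t ht
    rw [beq_iff_eq] at h
    rw [h]
    exact hzt.mul hst
  have hz'P : g * z * g⁻¹ ∈ P12 := (hg z).mp hzP
  have hz'c : ∀ s ∈ P12, s * (g * z * g⁻¹) = (g * z * g⁻¹) * s := by
    intro s hs
    have h1 : g⁻¹ * s * g ∈ P12 := by
      rw [hg (g⁻¹ * s * g)]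
      have : g * (g⁻¹ * s * g) * g⁻¹ = s := by group
      rw [this]
      exact hs
    have h2 := hzc _ h1
    calc s * (g * z * g⁻¹) = g * ((g⁻¹ * s * g) * z) * g⁻¹ := by group
      _ = g * (z * (g⁻¹ * s * g)) * g⁻¹ := by rw [h2]
      _ = (g * z * g⁻¹) * s := by group
  have hz'1 : g * z * g⁻¹ ≠ 1 := by
    intro h
    apply hz1
    have : z = g⁻¹ * (g * z * g⁻¹) * g := by group
    rw [this, h]
    group
  have hz't := center_P12 _ hz'P hz'1 hz'c
  have hcomm : g * z = z * g := by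
    have h : g * z * g⁻¹ = z := Subtype.ext (hz't.eq_of_eq hzt)
    calc g * z = (g * z * g⁻¹) * g := by group
      _ = z * g := by rw [h]
  have hcomm' : ∀ q : GolayPt, (g : Equiv.Perm GolayPt) ((z : Equiv.Perm GolayPt) q) =
      (z : Equiv.Perm GolayPt) ((g : Equiv.Perm GolayPt) q) := by
    intro q
    have := congrArg (fun f : ↥Spor.M12 => (f : Equiv.Perm GolayPt) q) hcomm
    simpa only [Subgroup.coe_mul, Equiv.Perm.mul_apply] using this
  have hgt := isTbl_tblOf (g : Equiv.Perm GolayPt)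
  -- the images of the first four points
  have hfix : ∀ i < 4, (z : Equiv.Perm GolayPt) (idxPtN i) = idxPtN i := by
    intro i hi
    have := hzt.apply_idx (i := i) (by omega)
    rw [mf_zfix' i hi] at this
    exact this
  have himg : ∀ i < 4, ∃ j < 4, (g : Equiv.Perm GolayPt) (idxPtN i) = idxPtN j := by
    intro i hi
    obtain ⟨j, hj, hgj⟩ := M12_maps g.2 i (mf_dl i (by omega))
    have hj24 := (dl_bit j hj).1
    refine ⟨j, ?_, hgj⟩
    apply mf_zfix j hj
    apply tbl_getD_of_apply hzt hj24 hj24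
    rw [← hgj, ← hcomm', hfix i hi]
  obtain ⟨j0, hj0, hg0⟩ := himg 0 (by norm_num)
  obtain ⟨j1, hj1, hg1⟩ := himg 1 (by norm_num)
  obtain ⟨j2, hj2, hg2⟩ := himg 2 (by norm_num)
  obtain ⟨j3, hj3, hg3⟩ := himg 3 (by norm_num)
  obtain ⟨j4, hj4, hg4⟩ := M12_maps g.2 4 (mf_dl 4 (by norm_num))
  have hj4' : 4 ≤ j4 := by
    by_contra hlt
    push Not at hlt
    have h1 := hfix j4 hlt
    rw [← hg4, ← hcomm'] at h1
    have h2 := (g : Equiv.Perm GolayPt).injective h1
    have h3 := tbl_getD_of_apply hzt (i := 4) (j := 4) (by norm_num) (by norm_num) h2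
    revert h3
    decide
  -- the conjugate of the element exchanging the first two points
  obtain ⟨u, huP, hut⟩ := exists_of_mem_L mf_u.1
  obtain ⟨tw, htw, hwt⟩ := (hg u).mp huP
  have hwg : ∀ q : GolayPt, ((g * u * g⁻¹ : ↥Spor.M12) : Equiv.Perm GolayPt)
      ((g : Equiv.Perm GolayPt) q) = (g : Equiv.Perm GolayPt) ((u : Equiv.Perm GolayPt) q) := by
    intro q
    simp only [Subgroup.coe_mul, Subgroup.coe_inv, Equiv.Perm.mul_apply, perm_inv_apply]
  have hu0 : (u : Equiv.Perm GolayPt) (idxPtN 0) = idxPtN 1 := by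
    have := hut.apply_idx (i := 0) (by norm_num)
    rwa [mf_u.2.1] at this
  have hu1 : (u : Equiv.Perm GolayPt) (idxPtN 1) = idxPtN 0 := by
    have := hut.apply_idx (i := 1) (by norm_num)
    rwa [mf_u.2.2.1] at this
  have hu2 : (u : Equiv.Perm GolayPt) (idxPtN 2) = idxPtN 2 := by
    have := hut.apply_idx (i := 2) (by norm_num)
    rwa [mf_u.2.2.2.1] at this
  have hu3 : (u : Equiv.Perm GolayPt) (idxPtN 3) = idxPtN 3 := by
    have := hut.apply_idx (i := 3) (by norm_num)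
    rwa [mf_u.2.2.2.2] at this
  have hw0 : tw.getD j0 0 = j1 := by
    apply tbl_getD_of_apply hwt (by omega) (by omega)
    rw [← hg0, hwg, hu0, hg1]
  have hw1 : tw.getD j1 0 = j0 := by
    apply tbl_getD_of_apply hwt (by omega) (by omega)
    rw [← hg1, hwg, hu1, hg0]
  have hw2 : tw.getD j2 0 = j2 := by
    apply tbl_getD_of_apply hwt (by omega) (by omega)
    rw [← hg2, hwg, hu2, hg2]
  have hw3 : tw.getD j3 0 = j3 := by
    apply tbl_getD_of_apply hwt (by omega) (by omega)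
    rw [← hg3, hwg, hu3, hg3]
  obtain ⟨t, ht, ht0, ht1, ht2, ht3, ht4⟩ := mf_norm j0 hj0 j1 hj1 j2 hj2 j3 hj3 j4 hj4 hj4'
    (ne_of_apply (by norm_num) (by norm_num) (by norm_num) hg0 hg1)
    (ne_of_apply (by norm_num) (by norm_num) (by norm_num) hg0 hg2)
    (ne_of_apply (by norm_num) (by norm_num) (by norm_num) hg0 hg3)
    (ne_of_apply (by norm_num) (by norm_num) (by norm_num) hg1 hg2)
    (ne_of_apply (by norm_num) (by norm_num) (by norm_num) hg1 hg3)
    (ne_of_apply (by norm_num) (by norm_num) (by norm_num) hg2 hg3)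
    ⟨tw, htw, hw0, hw1, hw2, hw3⟩
  obtain ⟨p, hpP, hpt⟩ := exists_of_mem_L ht
  -- `p⁻¹ g` fixes five points of the dodecad
  have hp0 : (p : Equiv.Perm GolayPt) (idxPtN 0) = (g : Equiv.Perm GolayPt) (idxPtN 0) := by
    rw [hpt.apply_idx (i := 0) (by norm_num), ht0, hg0]
  have hp1 : (p : Equiv.Perm GolayPt) (idxPtN 1) = (g : Equiv.Perm GolayPt) (idxPtN 1) := by
    rw [hpt.apply_idx (i := 1) (by norm_num), ht1, hg1]
  have hp2 : (p : Equiv.Perm GolayPt) (idxPtN 2) = (g : Equiv.Perm GolayPt) (idxPtN 2) := by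
    rw [hpt.apply_idx (i := 2) (by norm_num), ht2, hg2]
  have hp3 : (p : Equiv.Perm GolayPt) (idxPtN 3) = (g : Equiv.Perm GolayPt) (idxPtN 3) := by
    rw [hpt.apply_idx (i := 3) (by norm_num), ht3, hg3]
  have hp4 : (p : Equiv.Perm GolayPt) (idxPtN 4) = (g : Equiv.Perm GolayPt) (idxPtN 4) := by
    rw [hpt.apply_idx (i := 4) (by norm_num), ht4, hg4]
  have hk : ((p⁻¹ * g : ↥Spor.M12) : Equiv.Perm GolayPt) = 1 := by
    obtain ⟨hkM, hkd⟩ := mem_M12_iff.mp (p⁻¹ * g : ↥Spor.M12).2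
    apply eq_one_of_fix_five' hkM hkd
      (emb5 (idxPtN 0) (idxPtN 1) (idxPtN 2) (idxPtN 3) (idxPtN 4) (by decide))
    · intro i
      fin_cases i <;> (rw [sqDod_eq', mem_suppM]; decide)
    · intro i
      have key : ∀ q : GolayPt, (p : Equiv.Perm GolayPt) q = (g : Equiv.Perm GolayPt) q →
          ((p⁻¹ * g : ↥Spor.M12) : Equiv.Perm GolayPt) q = q := by
        intro q hq
        simp only [Subgroup.coe_mul, Subgroup.coe_inv, Equiv.Perm.mul_apply]
        rw [← hq, perm_inv_apply]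
      fin_cases i
      · exact key _ hp0
      · exact key _ hp1
      · exact key _ hp2
      · exact key _ hp3
      · exact key _ hp4
  have hgp : g = p := by
    have h1 : p⁻¹ * g = 1 := Subtype.ext hk
    calc g = p * (p⁻¹ * g) := by group
      _ = p := by rw [h1, mul_one]
  rw [hgp]
  exact hpP

/-- the 2-fusion system of the Mathieu group on 12 points is simple. -/
theorem isSimple_M12 (S : Sylow 2 ↥Spor.M12) :
    (groupFusionSystem (S : Subgroup ↥Spor.M12)).IsSimple 2 :=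
  isSimple_of_self_normalizing_closed 2 S12 P12_ne_bot normalizer_P12 closed_P12 S

end Cfsg.Agent.Helper4.M12Fus
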