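import Mathlib
import Cfsg.Agent.Helper4.MCPearl
import Cfsg.Agent.Helper9.MCW
import Cfsg.Agent.Helper5.MCThree
import Cfsg.Agent.Helper6.MCB3
import Cfsg.Agent.Helper6.MCDepthFinal

/-!
# 3-groups of maximal class with a uniform element (group-theoretic core of S5239)
-/

set_option autoImplicit false

namespace Cfsg.Agent.Helper4.MC

open scoped commutatorElement
open Cfsg.Agent.Helper8.HP (agemo)

variable {G : Type*} [Group G] [Finite G] [hp3 : Fact (Nat.Prime 3)]

/-- A group of maximal class of order 81: either every subgroup is 2-generated, or the group is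
a Sylow 3-subgroup of `Perm (Fin 9)`. -/
theorem two_gen_or_sylow_of_card_81 (hG : IsMC 3 4 G) :
    (∀ H : Subgroup G, ∃ T : Finset G, T.card ≤ 2 ∧ Subgroup.closure (T : Set G) = H) ∨
    ∃ W : Sylow 3 (Equiv.Perm (Fin 9)),
      Nonempty (G ≃* ↥(W : Subgroup (Equiv.Perm (Fin 9)))) := by
  have hGp : IsPGroup 3 G := hG.isPGroup
  by_cases hall : ∀ H : Subgroup G, ∃ T : Finset G, T.card ≤ 2 ∧
      Subgroup.closure (T : Set G) = H
  · exact Or.inl hall
  right
  push Not at hall
  obtain ⟨H, hH⟩ := hall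
  have hHtop : H ≠ ⊤ := by
    intro h
    obtain ⟨T, hT, hT'⟩ := Cfsg.Agent.Helper9.MC.IsMC.exists_two_gens hG
    exact hH T hT (hT'.trans h.symm)
  obtain ⟨k, hk⟩ := IsPGroup.iff_card.1 (hGp.to_subgroup H)
  have hk4 : k ≤ 4 := by
    have h3 : Nat.card H ∣ Nat.card G := Subgroup.card_subgroup_dvd_card H
    rw [hk, hG.card] at h3
    exact (Nat.pow_dvd_pow_iff_le_right (by norm_num)).1 h3
  have hk3 : k ≤ 3 := by
    by_contra hcon
    obtain rfl : k = 4 := by omega
    apply hHtop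
    apply Subgroup.eq_top_of_card_eq
    rw [hk, hG.card]
  have hk2 : k = 3 := by
    by_contra hcon
    have h2 : Nat.card H ≤ 3 ^ 2 := by
      rw [hk]
      exact Nat.pow_le_pow_right (by norm_num) (by omega)
    obtain ⟨T, hT, hT'⟩ := exists_gens_of_card_le hGp H h2
    exact hH T hT hT'
  subst hk2
  set N : Subgroup G := ⁅H, H⁆ ⊔ agemo 3 H with hN
  have hNH : N ≤ H := sup_le (Subgroup.commutator_le_self H)
    (Cfsg.Agent.Helper8.HP.agemo_le 3 H)
  have hNbot : N = ⊥ := by
    by_contra hcon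
    obtain ⟨m, hm⟩ := IsPGroup.iff_card.1 (hGp.to_subgroup N)
    have hm1 : 1 ≤ m := by
      by_contra h0
      obtain rfl : m = 0 := by omega
      rw [pow_zero] at hm
      exact hcon (Subgroup.card_eq_one.1 hm)
    have h1 := Cfsg.Agent.Helper6.MC.card_mul_relIndex_of_le' hNH
    rw [hm, hk] at h1
    have hm3 : m ≤ 3 := by
      have h3 : Nat.card N ∣ Nat.card H := Subgroup.card_dvd_of_le hNH
      rw [hk, hm] at h3
      exact (Nat.pow_dvd_pow_iff_le_right (by norm_num)).1 h3
    have h2 : N.relIndex H = 3 ^ (3 - m) := by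
      have h4 : 3 ^ m * 3 ^ (3 - m) = 3 ^ 3 := by
        rw [← pow_add]; congr 1; omega
      rw [← h4] at h1
      exact Nat.eq_of_mul_eq_mul_left (by positivity) h1
    have h3 : N.relIndex H ≤ 3 ^ 2 := by
      rw [h2]
      exact Nat.pow_le_pow_right (by norm_num) (by omega)
    obtain ⟨T, hT, hT'⟩ := Cfsg.Agent.Helper9.MC.exists_gens_of_relIndex_le hGp H N le_rfl h3
    exact hH T hT hT'
  have hexp : ∀ a ∈ H, a ^ 3 = 1 := by
    intro a ha
    have h1 : a ^ 3 ∈ N := Subgroup.mem_sup_right (Cfsg.Agent.Helper8.HP.pow_mem_agemo 3 ha)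
    rw [hNbot, Subgroup.mem_bot] at h1
    exact h1
  have hab : ∀ a ∈ H, ∀ b ∈ H, a * b = b * a := by
    intro a ha b hb
    have h1 : ⁅a, b⁆ ∈ N := Subgroup.mem_sup_left (Subgroup.commutator_mem_commutator ha hb)
    rw [hNbot, Subgroup.mem_bot, commutatorElement_eq_one_iff_commute] at h1
    exact h1.eq
  exact Cfsg.Agent.Helper9.MC.sylow_perm_nine_of_card_81 (by rw [hG.card]; norm_num)
    hG.card_center H (by rw [hk]; norm_num) hexp hab

/-- PIECE T3: a 3-group of maximal class of order at least `3^5` with a uniform element has all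
its subgroups 2-generated (plug of helper5's `two_gens_three`). -/
theorem three_group_two_gen' {n : ℕ} (hG : IsMC 3 n G) (hn : 5 ≤ n) (hs : ∃ s : G, IsUniform 3 s)
    (H : Subgroup G) :
    ∃ T : Finset G, T.card ≤ 2 ∧ Subgroup.closure (T : Set G) = H := by
  obtain ⟨s, hs⟩ := hs
  have hP := powerStr_of_uniform hG (by omega) hs
  have hA := Cfsg.Agent.Helper3.MC.agemo_gam_le_of_mul_pow hG
    (fun x hx => Cfsg.Agent.Helper1.MC.IsUniform.mul_pow hG hs hx)
  exact Cfsg.Agent.Helper5.MC.two_gens_three hG hn hP hA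
    (fun s h => Cfsg.Agent.Helper6.MC.isUniform_of_not_mem_twoStep hG (by omega) h)
    (fun s hs M hM h =>
      Cfsg.Agent.Helper6.MC.exists_eq_gam_of_uniform_normalizes hG (by omega) hs M hM h)
    (fun H hH => Cfsg.Agent.Helper6.MC.relIndex_agemo_le_of_le_lev_one hG (by omega) hP H hH) H

/-- **Core of S5239** for order at least 81. -/
theorem pearl_core3 {n : ℕ} (hG : IsMC 3 n G) (hn : 4 ≤ n) (hs : ∃ s : G, IsUniform 3 s) :
    (∀ H : Subgroup G, ∃ T : Finset G, T.card ≤ 2 ∧ Subgroup.closure (T : Set G) = H) ∨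
    ∃ W : Sylow 3 (Equiv.Perm (Fin 9)),
      Nonempty (G ≃* ↥(W : Subgroup (Equiv.Perm (Fin 9)))) := by
  rcases Nat.lt_or_ge n 5 with h | h
  · obtain rfl : n = 4 := by omega
    exact two_gen_or_sylow_of_card_81 hG
  · exact Or.inl fun H => three_group_two_gen' hG h hs H

end Cfsg.Agent.Helper4.MC
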