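import Mathlib

set_option autoImplicit false

namespace Cfsg.Agent.Helper4.Mazurov

/-- If `g` normalizes the finite subgroup `T` and acts on it without nontrivial fixed points, then
every element of `T g` is a `T`-conjugate of `g`. -/
theorem exists_conj_of_fpf {X : Type*} [Group X] (T : Subgroup X) [Finite T] (g : X)
    (hnorm : ∀ τ ∈ T, g * τ * g⁻¹ ∈ T)
    (hfpf : ∀ τ ∈ T, g * τ = τ * g → τ = 1) (τ : X) (hτ : τ ∈ T) :
    ∃ x ∈ T, τ * g = x * g * x⁻¹ := by
  let f : T → T := fun x => ⟨(x : X) * (g * (x : X)⁻¹ * g⁻¹),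
    T.mul_mem x.2 (hnorm _ (T.inv_mem x.2))⟩
  have hinj : Function.Injective f := by
    intro x y hxy
    have h1 : (x : X) * (g * (x : X)⁻¹ * g⁻¹) = (y : X) * (g * (y : X)⁻¹ * g⁻¹) :=
      congrArg Subtype.val hxy
    have h2 : g * ((y : X)⁻¹ * x) = ((y : X)⁻¹ * x) * g := by
      have h3 : (x : X) * g * (x : X)⁻¹ = (y : X) * g * (y : X)⁻¹ := by
        have := congrArg (fun z => z * g) h1
        simpa [mul_assoc] using this
      calc g * ((y : X)⁻¹ * x) = (y : X)⁻¹ * ((y : X) * g * (y : X)⁻¹) * x := by group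
        _ = (y : X)⁻¹ * ((x : X) * g * (x : X)⁻¹) * x := by rw [h3]
        _ = ((y : X)⁻¹ * x) * g := by group
    have h4 := hfpf _ (T.mul_mem (T.inv_mem y.2) x.2) h2
    apply Subtype.ext
    rw [inv_mul_eq_one] at h4
    exact h4.symm
  have hsurj : Function.Surjective f := Finite.surjective_of_injective hinj
  obtain ⟨x, hx⟩ := hsurj ⟨τ, hτ⟩
  refine ⟨x, x.2, ?_⟩
  have h1 : (x : X) * (g * (x : X)⁻¹ * g⁻¹) = τ := congrArg Subtype.val hx
  rw [← h1]; group

/-- The averaging argument: a "Frobenius-like" pair `T, c` acting on an abelian normal subgroup `S`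
of coprime order such that every element of every coset `S (x c x⁻¹)` has `h`-th power `1`
centralizes `S`. -/
theorem centralizes_of_trace_trivial {X : Type*} [Group X] [Finite X] (S T : Subgroup X)
    [hSn : S.Normal] (hSc : ∀ a ∈ S, ∀ b ∈ S, a * b = b * a) (c : X) (h : ℕ) (hh : 0 < h)
    (hcop : (Nat.card T).Coprime (Nat.card S))
    (hconj : ∀ τ ∈ T, ∀ j, 0 < j → j < h → ∃ x ∈ T, τ * c ^ j = x * c ^ j * x⁻¹)
    (hvan : ∀ v ∈ S, ∀ x ∈ T, (v * (x * c * x⁻¹)) ^ h = 1) :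
    ∀ τ ∈ T, ∀ v ∈ S, τ * v = v * τ := by
  classical
  let instC : CommGroup S :=
    { (inferInstance : Group S) with mul_comm := fun a b => Subtype.ext (hSc a a.2 b b.2) }
  have hfT : Fintype T := Fintype.ofFinite T
  obtain ⟨φ, hφ⟩ : ∃ φ : X →* MulAut S, ∀ g (v : S), ((φ g v : S) : X) = g * v * g⁻¹ :=
    ⟨MulAut.conjNormal, fun g v => MulAut.conjNormal_apply g v⟩
  have hpow : ∀ (g : X) (v : S) (k : ℕ),
      ((v : X) * g) ^ k = ((∏ i ∈ Finset.range k, φ (g ^ i) v : S) : X) * g ^ k := by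
    intro g v k
    induction k with
    | zero => simp
    | succ k ih =>
      rw [pow_succ, ih, Finset.prod_range_succ, Subgroup.coe_mul, hφ, pow_succ]
      group
  have hch : ∀ x ∈ T, (x * c * x⁻¹) ^ h = 1 := by
    intro x hx
    have := hvan 1 S.one_mem x hx
    simpa using this
  have hN : ∀ (v : S) (x : T),
      ∏ i ∈ Finset.range h, φ (((x : X) * c * (x : X)⁻¹) ^ i) v = 1 := by
    intro v x
    have h1 := hpow ((x : X) * c * (x : X)⁻¹) v h
    rw [hvan v v.2 x x.2, hch x x.2, mul_one] at h1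
    apply Subtype.ext
    rw [Subgroup.coe_one]
    exact h1.symm
  obtain ⟨h', rfl⟩ : ∃ h', h = h' + 1 := Nat.exists_eq_succ_of_ne_zero hh.ne'
  have hN' : ∀ (v : S) (x : T),
      ∏ i ∈ Finset.range h', φ (((x : X) * c * (x : X)⁻¹) ^ (i + 1)) v = v⁻¹ := by
    intro v x
    have := hN v x
    rw [Finset.prod_range_succ'] at this
    simp only [pow_zero, map_one, MulAut.one_apply] at this
    exact eq_inv_of_mul_eq_one_left this
  have hbij : ∀ j, j < h' → ∀ v : S, ∏ τ : T, φ ((τ : X) * c ^ (j + 1)) v =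
      ∏ x : T, φ (((x : X) * c * (x : X)⁻¹) ^ (j + 1)) v := by
    intro j hj v
    have hex : ∀ τ : T, ∃ x : T, (τ : X) * c ^ (j + 1) = (x : X) * c ^ (j + 1) * (x : X)⁻¹ := by
      intro τ
      obtain ⟨x, hx, hxe⟩ := hconj τ τ.2 (j + 1) (Nat.succ_pos j) (Nat.succ_lt_succ hj)
      exact ⟨⟨x, hx⟩, hxe⟩
    choose f hf using hex
    have hinj : Function.Injective f := by
      intro τ₁ τ₂ h12
      have h1 := hf τ₁
      have h2 := hf τ₂
      rw [h12] at h1
      have : (τ₁ : X) * c ^ (j + 1) = (τ₂ : X) * c ^ (j + 1) := h1.trans h2.symm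
      exact Subtype.ext (mul_right_cancel this)
    have hbijf : Function.Bijective f := Finite.injective_iff_bijective.1 hinj
    rw [← Function.Bijective.prod_comp hbijf
      (fun x : T => φ (((x : X) * c * (x : X)⁻¹) ^ (j + 1)) v)]
    refine Finset.prod_congr rfl (fun τ _ => ?_)
    rw [conj_pow, ← hf τ]
  intro σ hσ v hv
  obtain ⟨v', hv'⟩ : ∃ v' : S, (v' : X) = v := ⟨⟨v, hv⟩, rfl⟩
  have hNc : ∏ i ∈ Finset.range (h' + 1), φ (c ^ i) v' = 1 := by
    have := hN v' ⟨1, T.one_mem⟩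
    simpa using this
  have htot : ∏ τ : T, ∏ j ∈ Finset.range (h' + 1), φ ((τ : X) * c ^ j) v' = 1 := by
    have hh1 : ∀ τ : T, ∏ j ∈ Finset.range (h' + 1), φ ((τ : X) * c ^ j) v' =
        φ (τ : X) (∏ j ∈ Finset.range (h' + 1), φ (c ^ j) v') := by
      intro τ
      rw [map_prod]
      refine Finset.prod_congr rfl (fun j _ => ?_)
      rw [map_mul, MulAut.mul_apply]
    simp_rw [hh1, hNc, map_one]
    exact Finset.prod_const_one
  rw [Finset.prod_comm, Finset.prod_range_succ'] at htot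
  have h2 : ∏ j ∈ Finset.range h', ∏ τ : T, φ ((τ : X) * c ^ (j + 1)) v' =
      (v'⁻¹) ^ Nat.card T := by
    rw [Finset.prod_congr rfl (fun j hj => hbij j (Finset.mem_range.1 hj) v'), Finset.prod_comm]
    simp_rw [hN']
    rw [Finset.prod_const, Finset.card_univ, Nat.card_eq_fintype_card]
  obtain ⟨P, hP⟩ : ∃ P : S, P = ∏ τ : T, φ ((τ : X)) v' := ⟨_, rfl⟩
  have h3 : P = v' ^ Nat.card T := by
    have h31 : (v'⁻¹) ^ Nat.card T * P = 1 := by
      rw [← h2, hP]
      simpa using htot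
    rw [inv_pow] at h31
    exact (inv_mul_eq_one.1 h31).symm
  have hfix : φ σ P = P := by
    rw [hP, map_prod]
    have hh1 : ∀ τ : T, φ σ (φ (τ : X) v') = φ (((⟨σ, hσ⟩ * τ : T)) : X) v' := by
      intro τ; rw [Subgroup.coe_mul, map_mul, MulAut.mul_apply]
    simp_rw [hh1]
    exact Fintype.prod_equiv (Equiv.mulLeft (⟨σ, hσ⟩ : T)) _ _ (fun g => rfl)
  rw [h3, map_pow] at hfix
  have h4 : (φ σ v' * v'⁻¹) ^ Nat.card T = 1 := by
    rw [mul_pow, hfix, inv_pow, mul_inv_cancel]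
  have h5 : (φ σ v' * v'⁻¹) ^ Nat.card S = 1 := pow_card_eq_one'
  have h6 : φ σ v' * v'⁻¹ = 1 := by
    have := pow_gcd_eq_one.2 ⟨h4, h5⟩
    rwa [Nat.Coprime.gcd_eq_one hcop, pow_one] at this
  have h7 : φ σ v' = v' := mul_inv_eq_one.1 h6
  have h8 := congrArg Subtype.val h7
  rw [hφ, hv'] at h8
  calc σ * v = (σ * v * σ⁻¹) * σ := by group
    _ = v * σ := by rw [h8]

end Cfsg.Agent.Helper4.Mazurov
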