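import Mathlib
import Cfsg.Agent.Helper4.MazurovA
import Cfsg.Agent.Helper4.Camina

set_option autoImplicit false

namespace Cfsg.Agent.Helper4.Mazurov

universe u

open scoped commutatorElement

/-- The averaging argument for a solvable normal subgroup `S`, by induction along the derived
series. -/
theorem centralizes_of_vanishing : ∀ (n : ℕ) (X : Type u) [Group X] [Finite X] (S T : Subgroup X)
    [S.Normal] (c : X) (h : ℕ), Nat.card S = n → Group.IsSolvable S → 0 < h →
    (Nat.card T).Coprime (Nat.card S) →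
    (∀ τ ∈ T, ∀ j, 0 < j → j < h → ∃ x ∈ T, τ * c ^ j = x * c ^ j * x⁻¹) →
    (∀ v ∈ S, ∀ x ∈ T, (v * (x * c * x⁻¹)) ^ h = 1) →
    ∀ τ ∈ T, ∀ v ∈ S, τ * v = v * τ := by
  intro n
  induction n using Nat.strong_induction_on with
  | _ n ih =>
  intro X _ _ S T hSn c h hcard hsol hh hcop hconj hvan
  by_cases hab : ∀ a ∈ S, ∀ b ∈ S, a * b = b * a
  · exact centralizes_of_trace_trivial S T hab c h hh hcop hconj hvan
  obtain ⟨D, hD⟩ : ∃ D : Subgroup X, D = ⁅S, S⁆ := ⟨_, rfl⟩
  have hDn : D.Normal := by rw [hD]; exact Subgroup.commutator_normal S S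
  have hDS : D ≤ S := by rw [hD]; exact Subgroup.commutator_le_left S S
  have hDbot : D ≠ ⊥ := by
    intro hbot
    apply hab
    intro a ha b hb
    have h1 : ⁅a, b⁆ ∈ D := by rw [hD]; exact Subgroup.commutator_mem_commutator ha hb
    rw [hbot, Subgroup.mem_bot, commutatorElement_eq_one_iff_mul_comm] at h1
    exact h1
  have hSnt : Nontrivial S := by
    rw [Subgroup.nontrivial_iff_ne_bot]
    intro hS
    apply hDbot
    rw [eq_bot_iff, ← hS]; exact hDS
  have hDne : D ≠ S := by
    intro hDS'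
    have h1 := Group.IsSolvable.commutator_lt_top_of_nontrivial S
    have h2 : (_root_.commutator S).map S.subtype = (⊤ : Subgroup S).map S.subtype := by
      rw [Subgroup.map_subtype_commutator, ← hD, hDS', ← MonoidHom.range_eq_map,
        Subgroup.range_subtype]
    exact h1.ne (Subgroup.map_injective S.subtype_injective h2)
  have hcardD : Nat.card D < n := by
    rw [← hcard]
    refine lt_of_le_of_ne (Nat.le_of_dvd Nat.card_pos (Subgroup.card_dvd_of_le hDS)) ?_
    intro heq
    exact hDne (Subgroup.eq_of_le_of_card_ge hDS heq.ge)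
  have hsolD : Group.IsSolvable D :=
    Group.isSolvable_of_isSolvable_injective (Subgroup.inclusion_injective hDS)
  -- `T` centralizes `D`
  have hTD : ∀ τ ∈ T, ∀ v ∈ D, τ * v = v * τ :=
    ih (Nat.card D) hcardD X D T c h rfl hsolD hh
      (Nat.Coprime.coprime_dvd_right (Subgroup.card_dvd_of_le hDS) hcop) hconj
      (fun v hv => hvan v (hDS hv))
  -- the quotient
  obtain ⟨π, hπ⟩ : ∃ π : X →* X ⧸ D, π = QuotientGroup.mk' D := ⟨_, rfl⟩
  have hπs : Function.Surjective π := by rw [hπ]; exact QuotientGroup.mk'_surjective D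
  have hπker : ∀ x : X, π x = 1 ↔ x ∈ D := by
    intro x; rw [hπ]; exact QuotientGroup.eq_one_iff x
  have hS'n : (S.map π).Normal := Subgroup.Normal.map hSn π hπs
  have hcardS' : Nat.card S = Nat.card D * Nat.card (S.map π) := by
    have h1 := card_comap_mk' D (S.map (QuotientGroup.mk' D))
    rw [QuotientGroup.comap_map_mk', sup_eq_right.2 hDS] at h1
    rw [hπ]; exact h1
  have hD1 : 1 < Nat.card D := by
    rcases Nat.lt_or_ge 1 (Nat.card D) with h1 | h1
    · exact h1
    · exfalso
      apply hDbot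
      have h2 : Nat.card D = 1 := le_antisymm h1 Nat.card_pos
      exact Subgroup.card_eq_one.1 h2
  have hcardlt : Nat.card (S.map π) < n := by
    rw [← hcard, hcardS']
    have hpos : 0 < Nat.card (S.map π) := Nat.card_pos
    nlinarith
  have hsolS' : Group.IsSolvable (S.map π) :=
    Group.isSolvable_of_surjective (MonoidHom.subgroupMap_surjective π S)
  have hquot : ∀ τ' ∈ T.map π, ∀ v' ∈ S.map π, τ' * v' = v' * τ' := by
    refine ih (Nat.card (S.map π)) hcardlt (X ⧸ D) (S.map π) (T.map π) (π c) h rfl hsolS' hh ?_ ?_ ?_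
    · exact Nat.Coprime.coprime_dvd_left (Subgroup.card_map_dvd T π)
        (Nat.Coprime.coprime_dvd_right (Subgroup.card_map_dvd S π) hcop)
    · intro τ' hτ' j hj1 hj2
      obtain ⟨τ, hτ, rfl⟩ := hτ'
      obtain ⟨x, hx, hxe⟩ := hconj τ hτ j hj1 hj2
      refine ⟨π x, Subgroup.mem_map_of_mem _ hx, ?_⟩
      have := congrArg π hxe
      simpa only [map_mul, map_pow, map_inv] using this
    · intro v' hv' x' hx'
      obtain ⟨v, hv, rfl⟩ := hv'
      obtain ⟨x, hx, rfl⟩ := hx'
      have := congrArg π (hvan v hv x hx)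
      simpa only [map_mul, map_pow, map_inv, map_one] using this
  -- stability
  intro τ hτ v hv
  obtain ⟨m, hm⟩ : ∃ m : X, m = v⁻¹ * (τ * v * τ⁻¹) := ⟨_, rfl⟩
  have hmD : m ∈ D := by
    rw [← hπker, hm]
    have h1 := hquot (π τ) (Subgroup.mem_map_of_mem _ hτ) (π v) (Subgroup.mem_map_of_mem _ hv)
    simp only [map_mul, map_inv]
    rw [h1]; group
  have hτm : τ * m = m * τ := hTD τ hτ m hmD
  have hconjv : τ * v * τ⁻¹ = v * m := by rw [hm]; group
  have hstab : ∀ k : ℕ, τ ^ k * v * (τ ^ k)⁻¹ = v * m ^ k := by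
    intro k
    induction k with
    | zero => simp
    | succ k ihk =>
      have hτmk : τ * m ^ k * τ⁻¹ = m ^ k := by
        have : τ * m ^ k = m ^ k * τ := (Commute.pow_right (show Commute τ m from hτm) k).eq
        rw [this]; group
      calc τ ^ (k + 1) * v * (τ ^ (k + 1))⁻¹
          = τ * (τ ^ k * v * (τ ^ k)⁻¹) * τ⁻¹ := by rw [pow_succ']; group
        _ = τ * (v * m ^ k) * τ⁻¹ := by rw [ihk]
        _ = (τ * v * τ⁻¹) * (τ * m ^ k * τ⁻¹) := by group
        _ = v * m ^ (k + 1) := by rw [hconjv, hτmk, pow_succ']; group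
  have hτT : τ ^ Nat.card T = 1 := by
    have h1 : (⟨τ, hτ⟩ : T) ^ Nat.card T = 1 := pow_card_eq_one'
    have := congrArg Subtype.val h1
    rw [Subgroup.coe_pow, Subgroup.coe_one] at this
    exact this
  have hm1 : m ^ Nat.card T = 1 := by
    have h1 := hstab (Nat.card T)
    rw [hτT] at h1
    simpa using h1.symm
  have hm2 : m ^ Nat.card S = 1 := by
    have h1 : (⟨m, hDS hmD⟩ : S) ^ Nat.card S = 1 := pow_card_eq_one'
    have := congrArg Subtype.val h1
    rw [Subgroup.coe_pow, Subgroup.coe_one] at this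
    exact this
  have hm3 : m = 1 := by
    have := pow_gcd_eq_one.2 ⟨hm1, hm2⟩
    rwa [Nat.Coprime.gcd_eq_one hcop, pow_one] at this
  rw [hm3, mul_one] at hconjv
  calc τ * v = (τ * v * τ⁻¹) * τ := by group
    _ = v * τ := by rw [hconjv]

end Cfsg.Agent.Helper4.Mazurov
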