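import Mathlib
import Cfsg.Prelude.Def_Solvable
import Cfsg.Agent.Helper4.MazurovB
import Cfsg.Agent.Helper4.Frobenius
import Cfsg.Agent.Helper4.FrobTriple
import Cfsg.Agent.Helper1.SylowInt
import Cfsg.Agent.Helper5.PMinimal2

set_option autoImplicit false

namespace Cfsg.Agent.Helper4.Mazurov

open scoped Pointwise

/-- If the image of `g` in `G ⧸ N` has order `h` but `g ^ h ≠ 1`, then `G` has an element of order
`p * h` for some prime divisor `p` of `|N|`. -/
theorem exists_orderOf_eq_prime_mul {G : Type*} [Group G] [Finite G] (N : Subgroup G) [N.Normal]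
    (g : G) (h : ℕ) (hh : 0 < h) (hord : orderOf (QuotientGroup.mk' N g) = h) (hne : g ^ h ≠ 1) :
    ∃ p : ℕ, p.Prime ∧ p ∣ Nat.card N ∧ ∃ g' : G, orderOf g' = p * h := by
  have hdvd : h ∣ orderOf g := hord ▸ orderOf_map_dvd (QuotientGroup.mk' N) g
  obtain ⟨m, hm⟩ := hdvd
  have hgN : g ^ h ∈ N := by
    have h1 : (QuotientGroup.mk' N) (g ^ h) = 1 := by
      rw [map_pow, ← hord]; exact pow_orderOf_eq_one _
    exact (QuotientGroup.eq_one_iff _).1 h1
  have hom : orderOf (g ^ h) = m := by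
    rw [orderOf_pow_of_dvd hh.ne' ⟨m, hm⟩, hm, Nat.mul_div_cancel_left m hh]
  have hm1 : m ≠ 1 := by
    intro h1; rw [h1, orderOf_eq_one_iff] at hom; exact hne hom
  obtain ⟨p, hp, hpm⟩ := Nat.exists_prime_and_dvd hm1
  have hmN : m ∣ Nat.card N := hom ▸ Subgroup.orderOf_dvd_natCard N hgN
  obtain ⟨m', hm'⟩ := hpm
  have hog_pos : 0 < orderOf g := orderOf_pos g
  have hm'0 : m' ≠ 0 := by
    rintro rfl
    rw [hm', mul_zero, mul_zero] at hm; omega
  refine ⟨p, hp, dvd_trans ⟨m', hm'⟩ hmN, g ^ m', ?_⟩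
  rw [orderOf_pow_of_dvd hm'0 ⟨h * p, by rw [hm, hm']; ring⟩, hm, hm']
  rw [show h * (p * m') = (p * h) * m' by ring, Nat.mul_div_cancel _ (Nat.pos_of_ne_zero hm'0)]

theorem mazurov {G : Type*} [Group G] [Finite G] (N : Subgroup G) [N.Normal]
    (Fb Hb : Subgroup (G ⧸ N)) [Fb.Normal] (hHb : Cfsg.IsFrobeniusComplement Hb)
    (hker : Cfsg.frobeniusKernel Hb = (Fb : Set (G ⧸ N)))
    (hcyc : IsCyclic Hb) (hcop : (Nat.card Fb).Coprime (Nat.card N))
    (hnot : ¬ Fb ≤ (Subgroup.centralizer (N : Set G)).map (QuotientGroup.mk' N)) :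
    ∃ p : ℕ, p.Prime ∧ p ∣ Nat.card N ∧ ∃ g : G, orderOf g = p * Nat.card Hb := by
  classical
  obtain ⟨π, hπ⟩ : ∃ π : G →* G ⧸ N, π = QuotientGroup.mk' N := ⟨_, rfl⟩
  have hπs : Function.Surjective π := by rw [hπ]; exact QuotientGroup.mk'_surjective N
  have hπker : ∀ x : G, π x = 1 ↔ x ∈ N := by
    intro x; rw [hπ]; exact QuotientGroup.eq_one_iff x
  rw [← hπ] at hnot
  obtain ⟨h, hh⟩ : ∃ h : ℕ, h = Nat.card Hb := ⟨_, rfl⟩
  rw [← hh]
  obtain ⟨⟨y₀, hy₀H⟩, hgen⟩ := hcyc.exists_generator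
  have hy₀ord : orderOf y₀ = h := by
    rw [hh, ← orderOf_eq_card_of_forall_mem_zpowers hgen]
    exact Subgroup.orderOf_coe (⟨y₀, hy₀H⟩ : Hb)
  have hh2 : 2 ≤ h := by
    have h1 : Nat.card Hb ≠ 1 := fun h1 => hHb.1 (Subgroup.card_eq_one.1 h1)
    have h2 : 0 < Nat.card Hb := Nat.card_pos
    omega
  have hy₀1 : y₀ ≠ 1 := by
    intro h1
    rw [h1, orderOf_one] at hy₀ord; omega
  -- fixed-point-freeness of conjugates of nontrivial elements of `Hb` on `Fb`
  have hfpf0 : ∀ (xb z : G ⧸ N), z ∈ Hb → z ≠ 1 → ∀ φ ∈ Fb,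
      φ * (xb * z * xb⁻¹) = (xb * z * xb⁻¹) * φ → φ = 1 := by
    intro xb z hzH hz1 φ hφ hcomm
    obtain ⟨ψ, hψ⟩ : ∃ ψ, ψ = xb⁻¹ * φ * xb := ⟨_, rfl⟩
    have hψF : ψ ∈ Fb := by
      have := (inferInstance : Fb.Normal).conj_mem φ hφ xb⁻¹
      rw [inv_inv] at this; rw [hψ]; exact this
    have hψz : ψ * z = z * ψ := by
      calc ψ * z = xb⁻¹ * (φ * (xb * z * xb⁻¹)) * xb := by rw [hψ]; group
        _ = xb⁻¹ * ((xb * z * xb⁻¹) * φ) * xb := by rw [hcomm]
        _ = z * ψ := by rw [hψ]; group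
    have hψ1 : ψ = 1 := by
      by_contra hne
      have hψker : ψ = 1 ∨ ∀ g : G ⧸ N, ψ ∉ MulAut.conj g • Hb := by
        have h1 : ψ ∈ Cfsg.frobeniusKernel Hb := by rw [hker]; exact hψF
        exact h1
      rcases hψker with h1 | h1
      · exact hne h1
      have hψH : ψ ∉ Hb := by
        intro hin
        apply h1 1
        rw [mem_conj_smul_iff]; simpa using hin
      apply hz1
      apply frob_inter_trivial Hb hHb ψ hψH z hzH
      rw [mul_assoc, ← hψz, inv_mul_cancel_left]; exact hzH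
    rw [hψ] at hψ1
    calc φ = xb * (xb⁻¹ * φ * xb) * xb⁻¹ := by group
      _ = 1 := by rw [hψ1]; group
  -- Step 1: a Sylow subgroup of the preimage of `Fb` not centralizing `N`
  obtain ⟨F, hF⟩ : ∃ F : Subgroup G, F = Fb.comap π := ⟨_, rfl⟩
  have hFn : F.Normal := by rw [hF]; exact Subgroup.Normal.comap inferInstance π
  have hmemF : ∀ x : G, x ∈ F ↔ π x ∈ Fb := by intro x; rw [hF]; exact Subgroup.mem_comap
  obtain ⟨C, hC⟩ : ∃ C : Subgroup G, C = Subgroup.centralizer (N : Set G) := ⟨_, rfl⟩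
  rw [← hC] at hnot
  have hstep1 : ∃ (t : ℕ) (_ : Fact t.Prime), ¬ t ∣ Nat.card N ∧ ∃ T : Sylow t F,
      ¬ ((T : Subgroup F).map F.subtype ≤ C) := by
    by_contra hno
    push Not at hno
    apply hnot
    have hFle : F ≤ C ⊔ N := by
      have htop : (C ⊔ N).subgroupOf F = ⊤ := by
        apply Helper5.eq_top_of_forall_sylow_le
        intro q hq
        have : Fact q.Prime := ⟨hq⟩
        obtain ⟨Q⟩ : Nonempty (Sylow q F) := inferInstance
        refine ⟨(Q : Subgroup F), ?_, Q.not_dvd_index⟩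
        by_cases hqN : q ∣ Nat.card N
        · intro x hx
          rw [Subgroup.mem_subgroupOf]
          apply Subgroup.mem_sup_right
          rw [← hπker]
          have h1 : orderOf (π (x : G)) ∣ Nat.card Fb :=
            Subgroup.orderOf_dvd_natCard Fb ((hmemF _).1 x.2)
          obtain ⟨k, hk⟩ := Q.2 ⟨x, hx⟩
          have hk' : (x : G) ^ q ^ k = 1 := by
            have := congrArg (fun z : Q => ((z : F) : G)) hk
            simpa using this
          have h2 : orderOf (π (x : G)) ∣ q ^ k := by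
            apply orderOf_dvd_of_pow_eq_one
            rw [← map_pow, hk', map_one]
          have hqF : ¬ q ∣ Nat.card Fb := by
            intro hqF
            exact hq.one_lt.ne' (Nat.eq_one_of_dvd_coprimes hcop hqF hqN)
          have h3 : (q ^ k).Coprime (Nat.card Fb) :=
            Nat.Coprime.pow_left k ((Nat.Prime.coprime_iff_not_dvd hq).2 hqF)
          exact orderOf_eq_one_iff.1 (Nat.eq_one_of_dvd_coprimes h3 h2 h1)
        · have h1 := hno q ⟨hq⟩ hqN Q
          intro x hx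
          rw [Subgroup.mem_subgroupOf]
          exact Subgroup.mem_sup_left (h1 (Subgroup.mem_map_of_mem _ hx))
      intro x hx
      have h1 : (⟨x, hx⟩ : F) ∈ (C ⊔ N).subgroupOf F := by rw [htop]; trivial
      exact Subgroup.mem_subgroupOf.1 h1
    calc Fb = (Fb.comap π).map π := (Subgroup.map_comap_eq_self_of_surjective hπs Fb).symm
      _ ≤ (C ⊔ N).map π := Subgroup.map_mono (hF ▸ hFle)
      _ = C.map π := by rw [Subgroup.map_sup, hπ, QuotientGroup.map_mk'_self, sup_bot_eq]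
  obtain ⟨t, htF, htN, T, hTC⟩ := hstep1
  have := htF
  obtain ⟨T', hT'⟩ : ∃ T' : Subgroup G, T' = (T : Subgroup F).map F.subtype := ⟨_, rfl⟩
  rw [← hT'] at hTC
  have hT'F : T' ≤ F := by rw [hT']; exact Subgroup.map_subtype_le _
  have hT'p : IsPGroup t T' := by rw [hT']; exact T.2.map _
  -- Step 2: Frattini
  have hfrat : Subgroup.normalizer (T' : Set G) ⊔ F = ⊤ := by
    rw [hT']; exact Sylow.normalizer_sup_eq_top T
  obtain ⟨c₁, hc₁⟩ := hπs y₀
  have hc₁mem : c₁ ∈ ((Subgroup.normalizer (T' : Set G) ⊔ F : Subgroup G) : Set G) := by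
    rw [hfrat]; trivial
  rw [Subgroup.mul_normal] at hc₁mem
  obtain ⟨c₀, hc₀, f₁, hf₁, hcf⟩ := hc₁mem
  have hc₀' : c₀ ∈ Subgroup.normalizer (T' : Set G) := hc₀
  have hf₁F : π f₁ ∈ Fb := (hmemF f₁).1 hf₁
  have hπc₀ : π c₀ = y₀ * (π f₁)⁻¹ := by
    rw [← hc₁, ← hcf, map_mul]; group
  have hy₀fpf : ∀ m ∈ Fb, y₀ * m = m * y₀ → m = 1 := by
    intro m hm hcomm
    exact hfpf0 1 y₀ hy₀H hy₀1 m hm (by simpa using hcomm.symm)
  obtain ⟨xb, -, hxb⟩ := exists_conj_eq_mul_of_fixedPointFree Fb y₀ hy₀fpf (π f₁)⁻¹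
    (Fb.inv_mem hf₁F)
  have hπc₀' : π c₀ = xb * y₀ * xb⁻¹ := hπc₀.trans hxb.symm
  -- Step 3: an invariant Sylow subgroup of `N` not centralized by `T'`
  have hT'N : T' ≤ Subgroup.normalizer (N : Set G) := by
    rw [Subgroup.normalizer_eq_top_iff.2 inferInstance]; exact le_top
  have hcopTN : (Nat.card T').Coprime (Nat.card N) := by
    obtain ⟨k, hk⟩ := IsPGroup.iff_card.1 hT'p
    rw [hk]; exact Nat.Coprime.pow_left k ((Nat.Prime.coprime_iff_not_dvd htF.out).2 htN)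
  have hsolv : Group.IsSolvable T' ∨ Group.IsSolvable N := by
    left
    have := hT'p.isNilpotent
    infer_instance
  have hstep3 : ∃ (s : ℕ) (_ : Fact s.Prime) (P : Sylow s N),
      T' ≤ Subgroup.normalizer (((P : Subgroup N).map N.subtype : Subgroup G) : Set G) ∧
      ¬ (T' ≤ Subgroup.centralizer (((P : Subgroup N).map N.subtype : Subgroup G) : Set G)) := by
    by_contra hno
    push Not at hno
    apply hTC
    have htop : (Subgroup.centralizer (T' : Set G)).subgroupOf N = ⊤ := by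
      apply Helper5.eq_top_of_forall_sylow_le
      intro q hq
      have : Fact q.Prime := ⟨hq⟩
      obtain ⟨P, hP⟩ := Helper1.exists_invariant_sylow (p := q) T' N hT'N hcopTN hsolv
      refine ⟨(P : Subgroup N), ?_, P.not_dvd_index⟩
      have h1 := hno q ⟨hq⟩ P hP
      intro x hx
      rw [Subgroup.mem_subgroupOf, Subgroup.mem_centralizer_iff]
      intro τ hτ
      have h2 := h1 hτ
      rw [Subgroup.mem_centralizer_iff] at h2
      exact (h2 _ (Subgroup.mem_map_of_mem _ hx)).symm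
    intro τ hτ
    rw [hC, Subgroup.mem_centralizer_iff]
    intro n hn
    have h1 : (⟨n, hn⟩ : N) ∈ (Subgroup.centralizer (T' : Set G)).subgroupOf N := by
      rw [htop]; trivial
    rw [Subgroup.mem_subgroupOf, Subgroup.mem_centralizer_iff] at h1
    exact (h1 τ hτ).symm
  obtain ⟨s, hsF, P, hPnorm, hPcent⟩ := hstep3
  have := hsF
  obtain ⟨S, hS⟩ : ∃ S : Subgroup G, S = (P : Subgroup N).map N.subtype := ⟨_, rfl⟩
  rw [← hS] at hPcent
  have hPnorm' : T' ≤ Subgroup.normalizer (S : Set G) := by rw [hS]; exact hPnorm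
  have hSN : S ≤ N := by rw [hS]; exact Subgroup.map_subtype_le _
  -- Step 4: adjust `c₀` to normalize `S`
  have hc₀N : c₀ ∈ Subgroup.normalizer (N : Set G) := by
    rw [Subgroup.normalizer_eq_top_iff.2 inferInstance]; trivial
  obtain ⟨P', hP'⟩ := Helper1.exists_sylow_map_eq_conj N P c₀ hc₀N
  rw [← hS] at hP'
  have hP'norm : T' ≤ Subgroup.normalizer
      (((P' : Subgroup N).map N.subtype : Subgroup G) : Set G) := by
    rw [hP']
    intro τ hτ
    apply Helper1.mem_normalizer_of_conj_smul_eq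
    have h1 : c₀⁻¹ * τ * c₀ ∈ T' := by
      have := (Subgroup.mem_normalizer_iff.1 (Subgroup.inv_mem _ hc₀') τ).1 hτ
      simpa using this
    have h2 := Helper1.conj_smul_eq_of_mem_normalizer (hPnorm' h1)
    calc MulAut.conj τ • MulAut.conj c₀ • S
        = MulAut.conj c₀ • MulAut.conj (c₀⁻¹ * τ * c₀) • S := by
          rw [smul_smul, smul_smul, ← map_mul, ← map_mul]; congr 2; group
      _ = MulAut.conj c₀ • S := by rw [h2]
  obtain ⟨n, hnT, hnP⟩ := Helper1.invariant_sylow_conj T' N hT'N hcopTN hsolv P' P hP'norm hPnorm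
  have hnS : MulAut.conj (n : G) • MulAut.conj c₀ • S = S := by
    have h3 : ((MulAut.conj n • P' : Sylow s N) : Subgroup N).map N.subtype =
        MulAut.conj (n : G) • (P' : Subgroup N).map N.subtype := Helper1.sylow_smul_map N P' n
    rw [hnP, hP', ← hS] at h3
    exact h3.symm
  obtain ⟨c, hc⟩ : ∃ c : G, c = (n : G) * c₀ := ⟨_, rfl⟩
  have hcS : c ∈ Subgroup.normalizer (S : Set G) := by
    apply Helper1.mem_normalizer_of_conj_smul_eq
    rw [hc, map_mul, mul_smul]; exact hnS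
  have hcT : c ∈ Subgroup.normalizer (T' : Set G) := by
    rw [hc]
    exact Subgroup.mul_mem _ (Subgroup.centralizer_le_normalizer _ hnT) hc₀'
  have hπc : π c = xb * y₀ * xb⁻¹ := by
    rw [hc, map_mul, (hπker (n : G)).2 n.2, one_mul, hπc₀']
  have hπcj : ∀ j : ℕ, (π c) ^ j = xb * y₀ ^ j * xb⁻¹ := fun j => by rw [hπc, conj_pow]
  have hordconj : ∀ w : G ⧸ N, orderOf (w * y₀ * w⁻¹) = h := by
    intro w
    rw [← hy₀ord]
    exact orderOf_injective (MulAut.conj w).toMonoidHom (MulAut.conj w).injective y₀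
  have hordc : orderOf (QuotientGroup.mk' N c) = h := by
    rw [← hπ, hπc]; exact hordconj xb
  have hh0 : 0 < h := by omega
  -- Step 5
  by_cases hch : c ^ h = 1
  swap
  · exact exists_orderOf_eq_prime_mul N c h hh0 hordc hch
  -- Step 6
  have hconjG : ∀ τ ∈ T', ∀ j, 0 < j → j < h → ∃ x ∈ T', τ * c ^ j = x * c ^ j * x⁻¹ := by
    intro τ hτ j hj1 hj2
    refine exists_conj_of_fpf T' (c ^ j) ?_ ?_ τ hτ
    · intro τ' hτ'
      exact (Subgroup.mem_normalizer_iff.1 (Subgroup.pow_mem _ hcT j) τ').1 hτ'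
    · intro τ' hτ' hcomm
      have h1 : π τ' ∈ Fb := (hmemF τ').1 (hT'F hτ')
      have hz1 : y₀ ^ j ≠ 1 := pow_ne_one_of_lt_orderOf hj1.ne' (hy₀ord ▸ hj2)
      have h2 : π τ' = 1 := by
        apply hfpf0 xb (y₀ ^ j) (Hb.pow_mem hy₀H j) hz1 (π τ') h1
        rw [← hπcj, ← map_pow, ← map_mul, ← map_mul, hcomm]
      have h3 : τ' ∈ T' ⊓ N := ⟨hτ', (hπker τ').1 h2⟩
      rw [Helper1.inf_eq_bot_of_coprime_card hcopTN] at h3
      exact h3
  obtain ⟨Nm, hNm⟩ : ∃ Nm : Subgroup G, Nm = Subgroup.normalizer (S : Set G) := ⟨_, rfl⟩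
  have hSNm : S ≤ Nm := by rw [hNm]; exact Subgroup.le_normalizer
  have hT'Nm : T' ≤ Nm := by rw [hNm]; exact hPnorm'
  have hcNm : c ∈ Nm := by rw [hNm]; exact hcS
  have hSXn : (S.subgroupOf Nm).Normal := by rw [hNm]; exact Subgroup.normal_in_normalizer
  by_contra hcon
  push Not at hcon
  apply hPcent
  have hvanG : ∀ v ∈ S, ∀ x ∈ T', (v * (x * c * x⁻¹)) ^ h = 1 := by
    intro v hv x hx
    by_contra hne
    have hord' : orderOf (QuotientGroup.mk' N (v * (x * c * x⁻¹))) = h := by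
      rw [← hπ, map_mul, (hπker v).2 (hSN hv), one_mul, map_mul, map_mul, map_inv, hπc]
      have h1 : π x * (xb * y₀ * xb⁻¹) * (π x)⁻¹ = (π x * xb) * y₀ * (π x * xb)⁻¹ := by group
      rw [h1]; exact hordconj _
    obtain ⟨p, hp, hpN, g', hg'⟩ :=
      exists_orderOf_eq_prime_mul N (v * (x * c * x⁻¹)) h hh0 hord' hne
    exact hcon p hp hpN g' hg'
  have hcore := centralizes_of_vanishing (Nat.card (S.subgroupOf Nm)) Nm (S.subgroupOf Nm)
    (T'.subgroupOf Nm) ⟨c, hcNm⟩ h rfl ?_ hh0 ?_ ?_ ?_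
  · intro τ hτ
    rw [Subgroup.mem_centralizer_iff]
    intro v hv
    have h1 := hcore ⟨τ, hT'Nm hτ⟩ (Subgroup.mem_subgroupOf.2 hτ) ⟨v, hSNm hv⟩
      (Subgroup.mem_subgroupOf.2 hv)
    have h2 := congrArg Subtype.val h1
    exact h2.symm
  · have hSp : IsPGroup s (S.subgroupOf Nm) := by
      have h1 : IsPGroup s S := by rw [hS]; exact P.2.map _
      exact h1.comap_of_injective Nm.subtype Nm.subtype_injective
    have := hSp.isNilpotent
    infer_instance
  · rw [Helper1.card_subgroupOf_of_le hT'Nm, Helper1.card_subgroupOf_of_le hSNm]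
    exact Nat.Coprime.coprime_dvd_right (Subgroup.card_dvd_of_le hSN) hcopTN
  · intro τ hτ j hj1 hj2
    obtain ⟨x, hx, hxe⟩ := hconjG τ (Subgroup.mem_subgroupOf.1 hτ) j hj1 hj2
    refine ⟨⟨x, hT'Nm hx⟩, Subgroup.mem_subgroupOf.2 hx, ?_⟩
    apply Subtype.ext
    simpa using hxe
  · intro v hv x hx
    apply Subtype.ext
    have h1 := hvanG v (Subgroup.mem_subgroupOf.1 hv) x (Subgroup.mem_subgroupOf.1 hx)
    simpa using h1

end Cfsg.Agent.Helper4.Mazurov
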