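import Mathlib
import Cfsg.Agent.Helper1.R2ChiefA

set_option autoImplicit false

/-!
Generic lemmas on finite `p`-groups: exponent bound from the absence of cyclic subgroups of index
`p`, and a small library on the upper central series of a `p`-group (orders of the terms of a group
of maximal class, normal subgroups of order `p ^ i` lie in the `i`-th term).
-/

namespace Cfsg.Agent.Helper4.Mcy

open Cfsg Cfsg.Agent.Helper1
open scoped commutatorElement

universe u

section Exp

variable {L : Type u} [Group L] [Finite L] {p : ℕ} [hp : Fact p.Prime]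

/-- the index of a cyclic subgroup of a group of order `p ^ m` -/
theorem index_zpowers {m : ℕ} (hm : Nat.card L = p ^ m) (g : L) {j : ℕ} (hj : orderOf g = p ^ j) :
    j ≤ m ∧ (Subgroup.zpowers g).index = p ^ (m - j) := by
  have h1 := (Subgroup.zpowers g).card_mul_index
  rw [Nat.card_zpowers, hj, hm] at h1
  have hle : j ≤ m := by
    have : p ^ j ∣ p ^ m := Dvd.intro _ h1
    exact (Nat.pow_dvd_pow_iff_le_right hp.out.one_lt).1 this
  refine ⟨hle, ?_⟩
  have h2 : p ^ m = p ^ j * p ^ (m - j) := by
    rw [← pow_add]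
    congr 1
    omega
  rw [h2] at h1
  exact Nat.eq_of_mul_eq_mul_left (pow_pos hp.out.pos j) h1

/-- a group of order `p ^ m`, `m ≥ 1`, without cyclic subgroups of index `p` has `m ≥ 2` and
exponent dividing `p ^ (m - 2)` -/
theorem exp_of_hnc {m : ℕ} (hm : Nat.card L = p ^ m) (hm1 : 1 ≤ m)
    (hnc : ∀ C : Subgroup L, IsCyclic C → C.index ≠ p) :
    2 ≤ m ∧ ∀ g : L, g ^ p ^ (m - 2) = 1 := by
  have hL : IsPGroup p L := IsPGroup.of_card hm
  have key : ∀ g : L, ∀ j : ℕ, orderOf g = p ^ j → j + 2 ≤ m := by
    intro g j hj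
    obtain ⟨hle, hidx⟩ := index_zpowers hm g hj
    by_contra hcon
    have hcases : m - j = 1 ∨ m = j := by omega
    rcases hcases with h1 | h1
    · apply hnc (Subgroup.zpowers g) inferInstance
      rw [hidx, h1, pow_one]
    · have hj1 : 1 ≤ j := by omega
      have hpd : p ∣ orderOf g := by rw [hj]; exact dvd_pow_self p (by omega)
      have ho : orderOf (g ^ p) = p ^ (j - 1) := by
        rw [orderOf_pow_of_dvd hp.out.ne_zero hpd, hj]
        obtain ⟨j', rfl⟩ : ∃ j', j = j' + 1 := ⟨j - 1, by omega⟩
        rw [pow_succ, Nat.mul_div_cancel _ hp.out.pos, Nat.add_sub_cancel]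
      obtain ⟨-, hidx'⟩ := index_zpowers hm (g ^ p) ho
      apply hnc (Subgroup.zpowers (g ^ p)) inferInstance
      rw [hidx']
      have : m - (j - 1) = 1 := by omega
      rw [this, pow_one]
  have h2 : 2 ≤ m := by
    have := key 1 0 (by rw [orderOf_one, pow_zero])
    omega
  refine ⟨h2, ?_⟩
  intro g
  obtain ⟨j, hj⟩ := (IsPGroup.iff_orderOf.1 hL) g
  have hj2 := key g j hj
  rw [← orderOf_dvd_iff_pow_eq_one, hj]
  exact pow_dvd_pow p (by omega)

end Exp

section Ucs

variable {G : Type u} [Group G] [Finite G] {p : ℕ} [hp : Fact p.Prime]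

/-- consecutive terms of the upper central series below the class differ by at least `p` -/
theorem card_ucs_step (hG : IsPGroup p G) {i : ℕ} (hi : i < Group.nilpotencyClass G) :
    p * Nat.card (Subgroup.upperCentralSeries G i) ≤ Nat.card (Subgroup.upperCentralSeries G (i + 1)) := by
  have hlt : Subgroup.upperCentralSeries G i < Subgroup.upperCentralSeries G (i + 1) :=
    Subgroup.upperCentralSeries.StrictMonoOn G (Set.mem_Iic.2 hi.le) (Set.mem_Iic.2 hi)
      (Nat.lt_succ_self i)
  obtain ⟨a, ha⟩ := (hG.to_subgroup (Subgroup.upperCentralSeries G i)).exists_card_eq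
  obtain ⟨b, hb⟩ := (hG.to_subgroup (Subgroup.upperCentralSeries G (i + 1))).exists_card_eq
  have hdvd : p ^ a ∣ p ^ b := by
    rw [← ha, ← hb]
    exact Subgroup.card_dvd_of_le hlt.le
  have hab : a ≤ b := (Nat.pow_dvd_pow_iff_le_right hp.out.one_lt).1 hdvd
  have hne : a ≠ b := by
    rintro rfl
    apply hlt.ne
    apply Subgroup.eq_of_le_of_card_ge hlt.le
    rw [ha, hb]
  rw [ha, hb, ← pow_succ']
  exact Nat.pow_le_pow_right hp.out.pos (by omega)

/-- the top step of the upper central series has index at least `p ^ 2` -/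
theorem top_step (hG : IsPGroup p G) {c : ℕ} (hc : Group.nilpotencyClass G = c + 1)
    (hcard : p ^ 2 ≤ Nat.card G) :
    p ^ 2 * Nat.card (Subgroup.upperCentralSeries G c) ≤ Nat.card G := by
  have hnil : Group.IsNilpotent G := hG.isNilpotent
  have hne : Subgroup.upperCentralSeries G c ≠ ⊤ := by
    intro h0
    have := (Subgroup.upperCentralSeries_eq_top_iff_nilpotencyClass_le (G := G) (n := c)).1 h0
    omega
  obtain ⟨e, he⟩ : ∃ e, (Subgroup.upperCentralSeries G c).index = p ^ e := by
    have hQ : IsPGroup p (G ⧸ Subgroup.upperCentralSeries G c) := hG.to_quotient _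
    obtain ⟨e, he⟩ := hQ.exists_card_eq
    exact ⟨e, by rw [Subgroup.index_eq_card, he]⟩
  have hmul := (Subgroup.upperCentralSeries G c).card_mul_index
  have he0 : e ≠ 0 := by
    rintro rfl
    rw [pow_zero] at he
    exact hne (Subgroup.index_eq_one.1 he)
  have he1 : e ≠ 1 := by
    rintro rfl
    rw [pow_one] at he
    rcases Nat.eq_zero_or_pos c with hc0 | hc0
    · -- `Z = ⊥`
      subst hc0
      rw [he, Subgroup.upperCentralSeries_zero, Subgroup.card_bot, one_mul] at hmul
      rw [← hmul] at hcard
      have := hp.out.one_lt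
      nlinarith
    · obtain ⟨c', rfl⟩ : ∃ c', c = c' + 1 := ⟨c - 1, by omega⟩
      obtain ⟨t, ht⟩ : ∃ t, t ∉ Subgroup.upperCentralSeries G (c' + 1) := by
        by_contra hcon
        push Not at hcon
        exact hne (top_le_iff.1 fun x _ => hcon x)
      apply ht
      rw [Subgroup.mem_upperCentralSeries_succ_iff]
      intro y
      -- `y = t ^ i * z`
      have hprime : (Nat.card (G ⧸ Subgroup.upperCentralSeries G (c' + 1))).Prime := by
        rw [← Subgroup.index_eq_card, he]; exact hp.out
      haveI : Fact (Nat.card (G ⧸ Subgroup.upperCentralSeries G (c' + 1))).Prime := ⟨hprime⟩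
      have ht1 : (QuotientGroup.mk t : G ⧸ Subgroup.upperCentralSeries G (c' + 1)) ≠ 1 := by
        rw [Ne, QuotientGroup.eq_one_iff]
        exact ht
      have hmem : (QuotientGroup.mk y : G ⧸ Subgroup.upperCentralSeries G (c' + 1)) ∈
          Subgroup.zpowers (QuotientGroup.mk t : G ⧸ Subgroup.upperCentralSeries G (c' + 1)) :=
        mem_zpowers_of_prime_card rfl ht1
      obtain ⟨i, hi⟩ := Subgroup.mem_zpowers_iff.1 hmem
      have hz : (t ^ i)⁻¹ * y ∈ Subgroup.upperCentralSeries G (c' + 1) := by
        rw [← QuotientGroup.eq, QuotientGroup.mk_zpow]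
        exact hi
      set z : G := (t ^ i)⁻¹ * y with hzdef
      have hy : y = t ^ i * z := by rw [hzdef]; group
      have hzt : ⁅z, t⁆ ∈ Subgroup.upperCentralSeries G c' :=
        (Subgroup.mem_upperCentralSeries_succ_iff.1 hz) t
      have h1 : ⁅t, y⁆ = t ^ i * ⁅z, t⁆⁻¹ * (t ^ i)⁻¹ := by
        rw [hy, commutatorElement_def, commutatorElement_def]
        have hc : Commute t (t ^ i) := (Commute.refl t).zpow_right i
        have e1 : t * (t ^ i * z) = t ^ i * (t * z) := by
          rw [← mul_assoc, hc.eq, mul_assoc]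
        rw [e1]
        group
      rw [h1]
      exact (inferInstance : (Subgroup.upperCentralSeries G c').Normal).conj_mem _
        ((Subgroup.upperCentralSeries G c').inv_mem hzt) _
  have he2 : 2 ≤ e := by omega
  rw [← hmul, he, mul_comm]
  exact Nat.mul_le_mul_left _ (Nat.pow_le_pow_right hp.out.pos he2)

/-- the main chain inequality -/
theorem chain_ineq (hG : IsPGroup p G) {c : ℕ} (hc : Group.nilpotencyClass G = c + 1)
    (hcard : p ^ 2 ≤ Nat.card G) :
    ∀ j : ℕ, j ≤ c → p ^ (2 + j) * Nat.card (Subgroup.upperCentralSeries G (c - j)) ≤ Nat.card G := by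
  intro j
  induction j with
  | zero =>
    intro _
    simpa using top_step hG hc hcard
  | succ j ih =>
    intro hj
    have h1 := ih (by omega)
    have h2 := card_ucs_step hG (i := c - (j + 1)) (by omega)
    have e : c - (j + 1) + 1 = c - j := by omega
    rw [e] at h2
    calc p ^ (2 + (j + 1)) * Nat.card (Subgroup.upperCentralSeries G (c - (j + 1)))
        = p ^ (2 + j) * (p * Nat.card (Subgroup.upperCentralSeries G (c - (j + 1)))) := by
          rw [← add_assoc, pow_succ]; ring
      _ ≤ p ^ (2 + j) * Nat.card (Subgroup.upperCentralSeries G (c - j)) :=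
          Nat.mul_le_mul_left _ h2
      _ ≤ Nat.card G := h1

/-- the class of a group of order `p ^ n`, `n ≥ 2`, is at most `n - 1` -/
theorem class_le {n : ℕ} (hn : 2 ≤ n) (hcard : Nat.card G = p ^ n) :
    Group.nilpotencyClass G ≤ n - 1 := by
  have hG : IsPGroup p G := IsPGroup.of_card hcard
  rcases Nat.eq_zero_or_pos (Group.nilpotencyClass G) with h0 | h0
  · omega
  obtain ⟨c, hc⟩ : ∃ c, Group.nilpotencyClass G = c + 1 :=
    ⟨Group.nilpotencyClass G - 1, by omega⟩
  have h2 : p ^ 2 ≤ Nat.card G := by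
    rw [hcard]; exact Nat.pow_le_pow_right hp.out.pos hn
  have h1 := chain_ineq hG hc h2 c le_rfl
  rw [Nat.sub_self, Subgroup.upperCentralSeries_zero, Subgroup.card_bot, mul_one, hcard] at h1
  have := (Nat.pow_le_pow_iff_right hp.out.one_lt).1 h1
  omega

/-- in a group of maximal class the `i`-th term of the upper central series has order at most
`p ^ i` for `i ≤ n - 2` -/
theorem card_ucs_le {n : ℕ} (hn : 2 ≤ n) (hcard : Nat.card G = p ^ n)
    (hcl : Group.nilpotencyClass G = n - 1) {i : ℕ} (hi : i + 2 ≤ n) :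
    Nat.card (Subgroup.upperCentralSeries G i) ≤ p ^ i := by
  have hG : IsPGroup p G := IsPGroup.of_card hcard
  rcases Nat.eq_zero_or_pos i with rfl | hi0
  · rw [Subgroup.upperCentralSeries_zero, Subgroup.card_bot, pow_zero]
  have hc : Group.nilpotencyClass G = (n - 2) + 1 := by omega
  have h2 : p ^ 2 ≤ Nat.card G := by
    rw [hcard]; exact Nat.pow_le_pow_right hp.out.pos hn
  have h1 := chain_ineq hG hc h2 (n - 2 - i) (by omega)
  have e : n - 2 - (n - 2 - i) = i := by omega
  rw [e, hcard] at h1
  have e2 : p ^ n = p ^ (2 + (n - 2 - i)) * p ^ i := by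
    rw [← pow_add]; congr 1; omega
  rw [e2] at h1
  exact Nat.le_of_mul_le_mul_left h1 (pow_pos hp.out.pos _)

/-- a normal subgroup of order `p ^ i` lies in the `i`-th term of the upper central series -/
theorem le_ucs_of_card (hG : IsPGroup p G) :
    ∀ (i : ℕ) (X : Subgroup G), X.Normal → Nat.card X = p ^ i →
      X ≤ Subgroup.upperCentralSeries G i := by
  intro i
  induction i with
  | zero =>
    intro X _ hX
    rw [pow_zero, Subgroup.card_eq_one] at hX
    rw [hX]
    exact bot_le
  | succ i ih =>
    intro X hXn hX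
    have hXne : X ≠ ⊥ := by
      rintro rfl
      rw [Subgroup.card_bot] at hX
      have := Nat.one_lt_pow (n := i + 1) (by omega) hp.out.one_lt
      omega
    obtain ⟨Y, hYn, hYX, hcard⟩ := exists_normal_index_p_in_normal hG X hXne
    haveI := hYn
    have hYc : Nat.card Y = p ^ i := by
      rw [hX, pow_succ'] at hcard
      exact (Nat.eq_of_mul_eq_mul_left hp.out.pos hcard).symm
    have hYle := ih Y hYn hYc
    intro x hx
    rw [Subgroup.mem_upperCentralSeries_succ_iff]
    intro y
    have h1 := R2Chief.conj_mul_inv_mem_of_card_eq hG Y X hYX hcard y x hx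
    have h2 : ⁅x, y⁆ = (y * x * y⁻¹ * x⁻¹)⁻¹ := by
      rw [commutatorElement_def]; group
    rw [h2]
    exact (Subgroup.upperCentralSeries G i).inv_mem (hYle h1)

end Ucs

end Cfsg.Agent.Helper4.Mcy
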