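import Mathlib
import Cfsg.Agent.Helper4.McyA

set_option autoImplicit false

/-!
The semidirect product `L ⋊ ⟨σ⟩` of a group with the cyclic group generated by an automorphism:
images of characteristic subgroups, the centralizer of the generator, and the fixed points of `σ`
on a characteristic subgroup of order `p ^ 2`.
-/

namespace Cfsg.Agent.Helper4.Mcy

open Cfsg Cfsg.Agent.Helper1
open scoped commutatorElement

universe u

variable {L : Type u} [Group L]

/-- the semidirect product `L ⋊ ⟨σ⟩` -/
abbrev SD (σ : MulAut L) : Type u :=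
  SemidirectProduct L ↥(Subgroup.zpowers σ) (Subgroup.zpowers σ).subtype

/-- the generator as an element of `⟨σ⟩` -/
def gen0 (σ : MulAut L) : ↥(Subgroup.zpowers σ) := ⟨σ, Subgroup.mem_zpowers σ⟩

theorem finite_sd [Finite L] (σ : MulAut L) : Finite (SD σ) :=
  Finite.of_equiv _ (SemidirectProduct.equivProd (N := L) (G := ↥(Subgroup.zpowers σ))
    (φ := (Subgroup.zpowers σ).subtype)).symm

theorem card_sd [Finite L] (σ : MulAut L) {p m : ℕ} (hm : Nat.card L = p ^ m)
    (hσ : orderOf σ = p) : Nat.card (SD σ) = p ^ (m + 1) := by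
  rw [SemidirectProduct.card, hm, Nat.card_zpowers, hσ, pow_succ]

/-- conjugation in the semidirect product -/
theorem conj_inl (σ : MulAut L) (g : SD σ) (x : L) :
    g * SemidirectProduct.inl x * g⁻¹ =
      SemidirectProduct.inl (g.left * (g.right : MulAut L) x * g.left⁻¹) := by
  have h1 := SemidirectProduct.inl_left_mul_inr_right g
  have h2 := SemidirectProduct.inl_aut (φ := (Subgroup.zpowers σ).subtype) g.right x
  calc g * SemidirectProduct.inl x * g⁻¹
      = (SemidirectProduct.inl g.left * SemidirectProduct.inr g.right) *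
          SemidirectProduct.inl x *
          (SemidirectProduct.inl g.left * SemidirectProduct.inr g.right)⁻¹ := by rw [h1]
    _ = SemidirectProduct.inl g.left *
          (SemidirectProduct.inr g.right * SemidirectProduct.inl x *
            SemidirectProduct.inr g.right⁻¹) * (SemidirectProduct.inl g.left)⁻¹ := by
        rw [map_inv]; group
    _ = SemidirectProduct.inl (g.left * (g.right : MulAut L) x * g.left⁻¹) := by
        rw [← h2, map_mul, map_mul, map_inv]
        rfl

/-- the image of a characteristic subgroup is normal -/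
theorem map_inl_normal (σ : MulAut L) (X : Subgroup L)
    (hX : ∀ τ : MulAut L, ∀ x ∈ X, τ x ∈ X) :
    (X.map (SemidirectProduct.inl : L →* SD σ)).Normal := by
  constructor
  rintro _ ⟨x, hx, rfl⟩ g
  rw [conj_inl]
  refine Subgroup.mem_map_of_mem _ ?_
  have h1 := hX (g.right : MulAut L) x hx
  have h2 := hX (MulAut.conj g.left) _ h1
  simpa [MulAut.conj_apply] using h2

theorem card_map_inl (σ : MulAut L) (X : Subgroup L) :
    Nat.card (X.map (SemidirectProduct.inl : L →* SD σ)) = Nat.card X :=
  Subgroup.card_map_of_injective SemidirectProduct.inl_injective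

/-- elements of `⟨σ⟩` fix the fixed points of `σ` -/
theorem fix_of_mem_zpowers (σ : MulAut L) {x : L} (hx : σ x = x) (k : ↥(Subgroup.zpowers σ)) :
    (k : MulAut L) x = x := by
  have hle : Subgroup.zpowers σ ≤ MulAction.stabilizer (MulAut L) x := by
    rw [Subgroup.zpowers_le, MulAction.mem_stabilizer_iff, MulAut.smul_def]
    exact hx
  have := hle k.2
  rwa [MulAction.mem_stabilizer_iff, MulAut.smul_def] at this

/-- membership in the centralizer of the generator -/
theorem mem_centralizer_gen_iff (σ : MulAut L) (g : SD σ) :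
    g ∈ Subgroup.centralizer ({SemidirectProduct.inr (gen0 σ)} : Set (SD σ)) ↔
      σ g.left = g.left := by
  rw [Subgroup.mem_centralizer_iff]
  constructor
  · intro h
    have h1 := h _ rfl
    have h2 := congrArg SemidirectProduct.left h1
    simp only [SemidirectProduct.mul_left, SemidirectProduct.left_inr,
      SemidirectProduct.right_inr, one_mul, map_one, mul_one] at h2
    exact h2
  · intro h y hy
    rw [Set.mem_singleton_iff.1 hy]
    apply SemidirectProduct.ext
    · simp only [SemidirectProduct.mul_left, SemidirectProduct.left_inr,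
        SemidirectProduct.right_inr, one_mul, map_one, mul_one]
      exact h
    · simp only [SemidirectProduct.mul_right, SemidirectProduct.right_inr]
      obtain ⟨k, hk⟩ := g.right
      obtain ⟨i, rfl⟩ := Subgroup.mem_zpowers_iff.1 hk
      apply Subtype.ext
      simp only [gen0, Subgroup.coe_mul]
      exact ((Commute.refl σ).zpow_right i).eq

/-- bound on the centralizer of the generator -/
theorem card_centralizer_gen_le [Finite L] (σ : MulAut L) (F : Subgroup L)
    (hF : ∀ l : L, σ l = l → l ∈ F) :
    Nat.card (Subgroup.centralizer ({SemidirectProduct.inr (gen0 σ)} : Set (SD σ))) ≤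
      Nat.card F * orderOf σ := by
  haveI := finite_sd σ
  rw [← Nat.card_zpowers σ, ← Nat.card_prod]
  apply Nat.card_le_card_of_injective
    (fun g : Subgroup.centralizer ({SemidirectProduct.inr (gen0 σ)} : Set (SD σ)) =>
      ((⟨g.1.left, hF _ ((mem_centralizer_gen_iff σ g.1).1 g.2)⟩ : F), g.1.right))
  intro g g' h
  have h1 : g.1.left = g'.1.left := congrArg (fun x : F × ↥(Subgroup.zpowers σ) => (x.1 : L)) h
  have h2 : g.1.right = g'.1.right := congrArg Prod.snd h
  exact Subtype.ext (SemidirectProduct.ext h1 h2)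

/-- a central, pointwise fixed subgroup maps into the centre -/
theorem map_inl_le_center (σ : MulAut L) (X : Subgroup L)
    (hXc : ∀ x ∈ X, ∀ l : L, l * x = x * l) (hXσ : ∀ x ∈ X, σ x = x) :
    X.map (SemidirectProduct.inl : L →* SD σ) ≤ Subgroup.center (SD σ) := by
  rintro _ ⟨x, hx, rfl⟩
  rw [Subgroup.mem_center_iff]
  intro g
  have h1 := conj_inl σ g x
  rw [fix_of_mem_zpowers σ (hXσ x hx), hXc x hx, mul_inv_cancel_right] at h1
  calc g * SemidirectProduct.inl x = (g * SemidirectProduct.inl x * g⁻¹) * g := by group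
    _ = SemidirectProduct.inl x * g := by rw [h1]

section Fix

variable [Finite L] {p : ℕ} [hp : Fact p.Prime]

/-- the fixed points of `σ` on a characteristic subgroup of order `p ^ 2` -/
theorem exists_fix_sub (hL : IsPGroup p L) (σ : MulAut L) (hσ : orderOf σ = p) (N : Subgroup L)
    (hN : ∀ τ : MulAut L, ∀ x ∈ N, τ x ∈ N) (hcardN : Nat.card N = p ^ 2) :
    ∃ M : Subgroup L, M ≤ N ∧ Nat.card M = p ∧ (∀ f ∈ M, σ f = f) ∧
      (∀ f ∈ M, ∀ l : L, l * f = f * l) ∧ ∀ n ∈ N, σ n * n⁻¹ ∈ M := by
  haveI := finite_sd σ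
  obtain ⟨m, hm⟩ := hL.exists_card_eq
  have hG : IsPGroup p (SD σ) := IsPGroup.of_card (card_sd σ hm hσ)
  set Nt : Subgroup (SD σ) := N.map (SemidirectProduct.inl : L →* SD σ) with hNt
  haveI hNtn : Nt.Normal := map_inl_normal σ N hN
  have hNtc : Nat.card Nt = p ^ 2 := by rw [hNt, card_map_inl, hcardN]
  have hNtne : Nt ≠ ⊥ := by
    intro h0
    rw [h0, Subgroup.card_bot] at hNtc
    have := Nat.one_lt_pow (n := 2) (by norm_num) hp.out.one_lt
    omega
  obtain ⟨Mt, hMtn, hMtN, hcard⟩ := exists_normal_index_p_in_normal hG Nt hNtne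
  haveI := hMtn
  have hMtc : Nat.card Mt = p := by
    rw [hNtc, pow_two] at hcard
    exact (Nat.eq_of_mul_eq_mul_left hp.out.pos hcard).symm
  have hcen := R2Chief.centralizer_eq_top_of_card_prime hG Mt hMtc
  have hMtcen : ∀ f ∈ Mt, ∀ g : SD σ, g * f = f * g := by
    intro f hf g
    have hg : g ∈ Subgroup.centralizer (Mt : Set (SD σ)) := hcen ▸ Subgroup.mem_top g
    rw [Subgroup.mem_centralizer_iff] at hg
    exact (hg f hf).symm
  refine ⟨Mt.comap (SemidirectProduct.inl : L →* SD σ), ?_, ?_, ?_, ?_, ?_⟩
  · intro f hf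
    obtain ⟨n, hn, hnf⟩ := hMtN (Subgroup.mem_comap.1 hf)
    rwa [← SemidirectProduct.inl_injective hnf]
  · have hle : Mt ≤ (SemidirectProduct.inl : L →* SD σ).range :=
      hMtN.trans (Subgroup.map_le_range _ _)
    have h1 := Subgroup.map_comap_eq_self hle
    rw [← hMtc, ← h1, Subgroup.card_map_of_injective SemidirectProduct.inl_injective, h1]
  · intro f hf
    have h1 := hMtcen _ (Subgroup.mem_comap.1 hf) (SemidirectProduct.inr (gen0 σ))
    have h2 := congrArg SemidirectProduct.left h1
    simp only [SemidirectProduct.mul_left, SemidirectProduct.left_inr, SemidirectProduct.left_inl,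
      SemidirectProduct.right_inr, SemidirectProduct.right_inl, one_mul, map_one, mul_one] at h2
    exact h2
  · intro f hf l
    have h1 := hMtcen _ (Subgroup.mem_comap.1 hf) (SemidirectProduct.inl l)
    rw [← map_mul, ← map_mul] at h1
    exact SemidirectProduct.inl_injective h1
  · intro n hn
    rw [Subgroup.mem_comap]
    have h1 := R2Chief.conj_mul_inv_mem_of_card_eq hG Mt Nt hMtN hcard
      (SemidirectProduct.inr (gen0 σ)) (SemidirectProduct.inl n)
      (Subgroup.mem_map_of_mem _ hn)
    have h2 := conj_inl σ (SemidirectProduct.inr (gen0 σ)) n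
    simp only [SemidirectProduct.left_inr, SemidirectProduct.right_inr, one_mul, inv_one,
      mul_one] at h2
    rw [h2, ← map_inv, ← map_mul] at h1
    exact h1

end Fix

end Cfsg.Agent.Helper4.Mcy
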