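import Mathlib
import Cfsg.Agent.Helper4.McyB
import Cfsg.Agent.Helper4.BlkE

set_option autoImplicit false

/-!
Blackburn's Case II chain for an automorphism `σ` of order `p` of a `p`-group `L` in which the
configuration `Cfg p N C` holds: if `σ` acts nontrivially on `N` and every element of `N` is a
`p`-th power in `C`, then `p = 3` and the fixed points of `σ` in `C` form a subgroup of order `p`.
-/

namespace Cfsg.Agent.Helper4.Mcy

open Cfsg Cfsg.Agent.Helper1 Cfsg.Agent.Helper4.Blk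

universe u

variable {L : Type u} [Group L] [Finite L] {p : ℕ} [hp : Fact p.Prime]

/-- a subgroup of prime order is generated by any nontrivial element -/
theorem exists_pow_of_card_prime {M : Subgroup L} (hM : Nat.card M = p) {z w : L} (hz : z ∈ M)
    (hz1 : z ≠ 1) (hw : w ∈ M) : ∃ i : ℕ, w = z ^ i := by
  have hzp : z ^ p = 1 := by
    have h1 : (⟨z, hz⟩ : M) ^ p = 1 := by rw [← hM]; exact pow_card_eq_one'
    simpa using congrArg Subtype.val h1
  have hord : orderOf z = p := by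
    have h1 : orderOf z ∣ p := orderOf_dvd_of_pow_eq_one hzp
    rcases (Nat.dvd_prime hp.out).1 h1 with h2 | h2
    · exact absurd (orderOf_eq_one_iff.1 h2) hz1
    · exact h2
  have hle : Subgroup.zpowers z ≤ M := Subgroup.zpowers_le.2 hz
  have heq : Subgroup.zpowers z = M := by
    apply Subgroup.eq_of_le_of_card_ge hle
    rw [Nat.card_zpowers, hord, hM]
  rw [← heq, ← mem_powers_iff_mem_zpowers, Submonoid.mem_powers_iff] at hw
  obtain ⟨i, hi⟩ := hw
  exact ⟨i, hi.symm⟩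

/-- the centralizer of a characteristic subgroup is characteristic -/
theorem centralizer_char {N C : Subgroup L} (hC : C = Subgroup.centralizer (N : Set L))
    (hN : ∀ τ : MulAut L, ∀ x ∈ N, τ x ∈ N) : ∀ τ : MulAut L, ∀ c ∈ C, τ c ∈ C := by
  intro τ c hc
  rw [hC, Subgroup.mem_centralizer_iff] at hc ⊢
  intro n hn
  have h1 := hc (τ⁻¹ n) (hN τ⁻¹ n hn)
  have h2 := congrArg τ h1
  simpa using h2

theorem autII (hp2 : p ≠ 2) {N C : Subgroup L} (h : Cfg p N C) (σ : MulAut L)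
    (hσ : orderOf σ = p) (hN : ∀ τ : MulAut L, ∀ x ∈ N, τ x ∈ N)
    (hsurj : ∀ y ∈ N, ∃ x ∈ C, x ^ p = y) (hmove : ∃ y ∈ N, σ y ≠ y) :
    p = 3 ∧ ∃ F : Subgroup L, F ≤ N ∧ Nat.card F = p ∧ (∀ f ∈ F, σ f = f) ∧
      (∀ f ∈ F, ∀ l : L, l * f = f * l) ∧ ∀ d ∈ C, σ d = d → d ∈ F := by
  have hCchar := centralizer_char h.hC hN
  obtain ⟨M, hMN, hMc, hMfix, hMcen, hMτ⟩ := exists_fix_sub h.pG σ hσ N hN h.cardN
  -- `T n ∈ M`
  have hT : ∀ n ∈ N, n⁻¹ * σ n ∈ M := by
    intro n hn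
    have h1 := hMτ n hn
    have h2 : n⁻¹ * σ n = σ n * n⁻¹ := h.cN _ (N.inv_mem hn) _ (hN σ n hn)
    rwa [h2]
  -- fixed points in `N` lie in `M`
  have hfixN : ∀ n ∈ N, σ n = n → n ∈ M := by
    intro n hn hfix
    by_contra hnM
    have hcard : Nat.card N = p * Nat.card M := by rw [h.cardN, hMc, pow_two]
    have hsup := R2Chief.sup_zpowers_eq_of_card_eq M N hMN hcard n hn hnM
    obtain ⟨y, hy, hyσ⟩ := hmove
    apply hyσ
    have hle : M ⊔ Subgroup.zpowers n ≤ MonoidHom.eqLocus σ.toMonoidHom (MonoidHom.id L) := by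
      apply sup_le
      · intro f hf
        exact hMfix f hf
      · rw [Subgroup.zpowers_le]
        exact hfix
    rw [hsup] at hle
    exact hle hy
  obtain ⟨y, hyN, hyσ⟩ := hmove
  obtain ⟨x, hxC, hxy⟩ := hsurj y hyN
  have hxp : x ^ p ∈ N := hxy ▸ hyN
  -- the `p`-th power of `T x = x⁻¹ σ x`
  have T_pow : ∀ u ∈ C, u ^ p ∈ N → (u⁻¹ * σ u) ^ p = (u ^ p)⁻¹ * σ (u ^ p) := by
    intro u hu hup
    have h1 : (u⁻¹) ^ p ∈ N := by rw [inv_pow]; exact N.inv_mem hup
    rw [h.mul_pow_of_mem hp2 (C.inv_mem hu) h1 (hCchar σ u hu), inv_pow, map_pow]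
  set x1 : L := x⁻¹ * σ x with hx1
  have hx1C : x1 ∈ C := C.mul_mem (C.inv_mem hxC) (hCchar σ x hxC)
  have hx1p : x1 ^ p = y⁻¹ * σ y := by rw [hx1, T_pow x hxC hxp, hxy]
  have hzM : x1 ^ p ∈ M := by rw [hx1p]; exact hT y hyN
  have hz1 : x1 ^ p ≠ 1 := by
    intro h0
    rw [hx1p] at h0
    apply hyσ
    calc σ y = y * (y⁻¹ * σ y) := by group
      _ = y := by rw [h0, mul_one]
  set z : L := x1 ^ p with hz
  have hzN : z ∈ N := hMN hzM
  set x2 : L := x1⁻¹ * σ x1 with hx2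
  have hx2C : x2 ∈ C := C.mul_mem (C.inv_mem hx1C) (hCchar σ x1 hx1C)
  have hx2p : x2 ^ p = 1 := by
    rw [hx2, T_pow x1 hx1C hzN, ← hz, hMfix z hzM, inv_mul_cancel]
  have hx2N : x2 ∈ N := h.om x2 hx2C hx2p
  set x3 : L := x2⁻¹ * σ x2 with hx3
  have hx3M : x3 ∈ M := hT x2 hx2N
  have hx3N : x3 ∈ N := hMN hx3M
  have e1 : σ x = x * x1 := by rw [hx1]; group
  have e2 : σ x1 = x1 * x2 := by rw [hx2]; group
  have e3 : σ x2 = x2 * x3 := by rw [hx3]; group
  have e4 : σ x3 = x3 := hMfix x3 hx3M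
  have c12 : Commute x1 x2 := (h.comm_of_mem hx2N hx1C).symm
  have c23 : Commute x2 x3 := h.cN x2 hx2N x3 hx3N
  have hit := iter_formula σ x x1 x2 x3 e1 e2 e3 e4 c12 c23 p
  have hσp : (σ ^ p) x = x := by
    rw [← hσ, pow_orderOf_eq_one]
    rfl
  have hdvd2 : p ∣ p.choose 2 := by
    apply hp.out.dvd_choose_self (by norm_num)
    have := hp.out.two_le
    omega
  have hx2c : x2 ^ p.choose 2 = 1 := by
    obtain ⟨k, hk⟩ := hdvd2
    rw [hk, pow_mul, hx2p, one_pow]
  rw [hσp, hx2c, mul_one, ← hz] at hit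
  have hrel : z * x3 ^ p.choose 3 = 1 := by
    have : x * (z * x3 ^ p.choose 3) = x * 1 := by
      rw [mul_one, ← mul_assoc]
      exact hit.symm
    exact mul_left_cancel this
  have hp3 : p = 3 := by
    by_contra hp3
    have h5 : 3 < p := by
      have := hp.out.two_le
      omega
    have hdvd3 : p ∣ p.choose 3 := hp.out.dvd_choose_self (by norm_num) h5
    obtain ⟨k, hk⟩ := hdvd3
    rw [hk, pow_mul, h.eN x3 hx3N, one_pow, mul_one] at hrel
    exact hz1 hrel
  refine ⟨hp3, M, hMN, hMc, hMfix, hMcen, ?_⟩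
  have hx3z : z * x3 = 1 := by
    have : p.choose 3 = 1 := by rw [hp3]; rfl
    rwa [this, pow_one] at hrel
  have hx3ne : x3 ≠ 1 := by
    intro h0
    rw [h0, mul_one] at hx3z
    exact hz1 hx3z
  -- the fixed points of `σ` in `C`
  have hkey : ∀ k : ℕ, ∀ d : L, orderOf d = k → d ∈ C → σ d = d → d ∈ M := by
    intro k
    induction k using Nat.strong_induction_on with
    | _ k ih =>
    intro d hdk hdC hdσ
    by_cases hd1 : d = 1
    · rw [hd1]; exact M.one_mem
    obtain ⟨j, hj⟩ := (IsPGroup.iff_orderOf.1 h.pG) d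
    have hj0 : j ≠ 0 := by
      rintro rfl
      rw [pow_zero, orderOf_eq_one_iff] at hj
      exact hd1 hj
    have hpd : p ∣ orderOf d := by rw [hj]; exact dvd_pow_self p hj0
    have hlt : orderOf (d ^ p) < k := by
      rw [orderOf_pow_of_dvd hp.out.ne_zero hpd, ← hdk]
      exact Nat.div_lt_self (orderOf_pos d) hp.out.one_lt
    have hdpM : d ^ p ∈ M := by
      apply ih _ hlt (d ^ p) rfl (C.pow_mem hdC p)
      rw [map_pow, hdσ]
    by_contra hdM
    have hdN : d ∉ N := fun hdN => hdM (hfixN d hdN hdσ)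
    obtain ⟨i, hi⟩ := exists_pow_of_card_prime hMc hzM hz1 hdpM
    have hpi : ¬ p ∣ i := by
      rintro ⟨m, rfl⟩
      rw [pow_mul, h.eN z hzN, one_pow] at hi
      exact hdN (h.om d hdC hi)
    have hpow : (x1 ^ i) ^ p = d ^ p := by rw [hi, hz, ← pow_mul, ← pow_mul, mul_comm]
    have hn := h.mem_N_of_pow_eq hp2 (C.pow_mem hx1C i) hdC hpow
    set n : L := (x1 ^ i)⁻¹ * d with hnn
    have hdn : d = x1 ^ i * n := by rw [hnn]; group
    have ht := hT n hn
    set t : L := n⁻¹ * σ n with htt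
    have hσn : σ n = n * t := by rw [htt]; group
    have h6 : x1 ^ i * x2 ^ i * (n * t) = x1 ^ i * n := by
      have h7 : σ d = x1 ^ i * x2 ^ i * (n * t) := by
        rw [hdn, map_mul, map_pow, e2, c12.mul_pow, hσn]
      rw [← h7, hdσ, hdn]
    have h8 : x2 ^ i * (n * t) = n := by
      have : x1 ^ i * (x2 ^ i * (n * t)) = x1 ^ i * n := by rw [← mul_assoc]; exact h6
      exact mul_left_cancel this
    have h9 : x2 ^ i = t⁻¹ := by
      have htn : n * t = t * n := h.cN n hn t (hMN ht)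
      rw [htn, ← mul_assoc] at h8
      have : x2 ^ i * t = 1 := by
        have : x2 ^ i * t * n = 1 * n := by rw [one_mul]; exact h8
        exact mul_right_cancel this
      exact eq_inv_of_mul_eq_one_left this
    have h10 : x2 ^ i ∈ M := by rw [h9]; exact M.inv_mem ht
    have hcop : i.Coprime (orderOf x2) := by
      have h11 : orderOf x2 ∣ p := orderOf_dvd_of_pow_eq_one hx2p
      have h12 : i.Coprime p := ((Nat.Prime.coprime_iff_not_dvd hp.out).2 hpi).symm
      exact Nat.Coprime.coprime_dvd_right h11 h12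
    obtain ⟨m, hm⟩ := exists_pow_eq_self_of_coprime hcop
    have hx2M : x2 ∈ M := by rw [← hm]; exact M.pow_mem h10 m
    apply hx3ne
    rw [hx3, hMfix x2 hx2M, inv_mul_cancel]
  intro d hdC hdσ
  exact hkey _ d rfl hdC hdσ

end Cfsg.Agent.Helper4.Mcy
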