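import Mathlib
import Cfsg.Agent.Helper4.McyC
import Cfsg.Agent.Helper4.BlkM
import Cfsg.Agent.Helper3.MetaOdd

set_option autoImplicit false

/-!
Metacyclic `p`-groups (`p` odd) without cyclic subgroups of index `p`: with `N = Ω₁(L)` and
`C = C_L(N)`, every element of `N` is a `p`-th power of an element of `C`; centralizers of elements
have order larger than `p ^ 2`.
-/

namespace Cfsg.Agent.Helper4.Mcy

open Cfsg Cfsg.Agent.Helper1 Cfsg.Agent.Helper4.Blk
open scoped commutatorElement

universe u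

variable {L : Type u} [Group L] [Finite L] {p : ℕ} [hp : Fact p.Prime]

/-- `N` is the set of solutions of `x ^ p = 1`, a commutative subgroup of order `p ^ 2` -/
structure Om (p : ℕ) (N : Subgroup L) : Prop where
  mem : ∀ x : L, x ∈ N ↔ x ^ p = 1
  card : Nat.card N = p ^ 2
  comm : ∀ a ∈ N, ∀ b ∈ N, a * b = b * a

namespace Om

variable {N : Subgroup L} (hO : Om p N)

include hO

omit [Finite L] hp in
theorem char : ∀ τ : MulAut L, ∀ x ∈ N, τ x ∈ N := by
  intro τ x hx
  rw [hO.mem] at hx ⊢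
  rw [← map_pow, hx, map_one]

omit [Finite L] hp in
theorem normal : N.Normal := by
  constructor
  intro n hn g
  have := hO.char (MulAut.conj g) n hn
  simpa [MulAut.conj_apply] using this

omit [Finite L] hp in
theorem cfg (hL : IsPGroup p L) : Cfg p N (Subgroup.centralizer (N : Set L)) := by
  refine ⟨hL, hO.normal, hO.comm, fun a ha => (hO.mem a).1 ha, hO.card, rfl, ?_⟩
  intro x _ hxp
  exact (hO.mem x).2 hxp

end Om

/-- if the `p`-th power map `C → N` is not onto then `C = ⟨c₀⟩ N` -/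
theorem exists_gen_of_not_surj (hp2 : p ≠ 2) {N C : Subgroup L}
    (h : Cfg p N C) (hns : ¬ ∀ y ∈ N, ∃ x ∈ C, x ^ p = y) :
    ∃ c0 ∈ C, ∀ c ∈ C, ∃ i : ℕ, ∃ n ∈ N, c = c0 ^ i * n := by
  -- the image of the `p`-th power map
  let S : Subgroup L :=
    { carrier := {y | y ∈ N ∧ ∃ x ∈ C, x ^ p = y}
      one_mem' := ⟨N.one_mem, 1, C.one_mem, one_pow p⟩
      mul_mem' := by
        rintro a b ⟨ha, x, hx, rfl⟩ ⟨hb, y, hy, rfl⟩
        exact ⟨N.mul_mem ha hb, x * y, C.mul_mem hx hy, h.mul_pow_of_mem hp2 hx ha hy⟩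
      inv_mem' := by
        rintro a ⟨ha, x, hx, rfl⟩
        exact ⟨N.inv_mem ha, x⁻¹, C.inv_mem hx, inv_pow x p⟩ }
  have hSN : S ≤ N := fun y hy => hy.1
  have hScard : Nat.card S ≤ p := by
    have hdvd : Nat.card S ∣ p ^ 2 := by
      rw [← h.cardN]
      exact Subgroup.card_dvd_of_le hSN
    obtain ⟨j, hj, hjc⟩ := (Nat.dvd_prime_pow hp.out).1 hdvd
    interval_cases j
    · rw [hjc, pow_zero]; exact hp.out.one_lt.le
    · rw [hjc, pow_one]
    · exfalso
      apply hns
      have : S = N := by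
        apply Subgroup.eq_of_le_of_card_ge hSN
        rw [hjc, h.cardN]
      intro y hy
      rw [← this] at hy
      exact hy.2
  haveI : (N.subgroupOf C).Normal := by
    haveI := h.nN
    infer_instance
  have hQ : IsPGroup p (C ⧸ N.subgroupOf C) :=
    (h.pG.to_subgroup C).to_quotient _
  have hcyc : IsCyclic (C ⧸ N.subgroupOf C) := by
    apply HuppertMeta.isCyclic_of_small_exp hp2 hQ
    intro B hB
    refine le_trans ?_ hScard
    have hmem : ∀ b : B, ((Quotient.out (b : C ⧸ N.subgroupOf C) : C) : L) ^ p ∈ S := by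
      intro b
      have h1 : (b : C ⧸ N.subgroupOf C) ^ p = 1 := hB b b.2
      have h2 : ((Quotient.out (b : C ⧸ N.subgroupOf C) : C) ^ p : C) ∈ N.subgroupOf C := by
        rw [← QuotientGroup.eq_one_iff, QuotientGroup.mk_pow, QuotientGroup.out_eq']
        exact h1
      rw [Subgroup.mem_subgroupOf, Subgroup.coe_pow] at h2
      exact ⟨h2, _, (Quotient.out (b : C ⧸ N.subgroupOf C) : C).2, rfl⟩
    apply Nat.card_le_card_of_injective (fun b : B => (⟨_, hmem b⟩ : S))
    intro b b' hbb
    have h1 : ((Quotient.out (b : C ⧸ N.subgroupOf C) : C) : L) ^ p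
        = ((Quotient.out (b' : C ⧸ N.subgroupOf C) : C) : L) ^ p := congrArg Subtype.val hbb
    have h2 := h.mem_N_of_pow_eq hp2 (Quotient.out (b : C ⧸ N.subgroupOf C) : C).2
      (Quotient.out (b' : C ⧸ N.subgroupOf C) : C).2 h1
    have h3 : (QuotientGroup.mk (Quotient.out (b : C ⧸ N.subgroupOf C)) : C ⧸ N.subgroupOf C)
        = QuotientGroup.mk (Quotient.out (b' : C ⧸ N.subgroupOf C)) := by
      rw [QuotientGroup.eq, Subgroup.mem_subgroupOf]
      simpa using h2
    rw [QuotientGroup.out_eq', QuotientGroup.out_eq'] at h3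
    exact Subtype.ext h3
  obtain ⟨q, hq⟩ := hcyc.exists_generator
  refine ⟨((Quotient.out q : C) : L), (Quotient.out q : C).2, ?_⟩
  intro c hc
  have h1 : (QuotientGroup.mk (⟨c, hc⟩ : C) : C ⧸ N.subgroupOf C) ∈ Subgroup.zpowers q := hq _
  rw [← mem_powers_iff_mem_zpowers, Submonoid.mem_powers_iff] at h1
  obtain ⟨i, hi⟩ := h1
  have h2 : (QuotientGroup.mk ((Quotient.out q : C) ^ i) : C ⧸ N.subgroupOf C)
      = QuotientGroup.mk (⟨c, hc⟩ : C) := by
    rw [QuotientGroup.mk_pow, QuotientGroup.out_eq', hi]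
  rw [QuotientGroup.eq, Subgroup.mem_subgroupOf] at h2
  refine ⟨i, _, h2, ?_⟩
  simp

/-- in a metacyclic `p`-group of order at least `p ^ 4` (`p` odd) every centralizer of an element
has order larger than `p ^ 2` -/
theorem card_centralizer_gt (hp2 : p ≠ 2) (hL : IsPGroup p L) (hmc : Cfsg.IsMetacyclic L)
    {m : ℕ} (hm : Nat.card L = p ^ m) (h4 : 4 ≤ m) (g : L) :
    p ^ 2 < Nat.card (Subgroup.centralizer ({g} : Set L)) := by
  obtain ⟨D⟩ := Cfsg.Agent.Helper3.MetaOdd.exists_data hL hmc
  by_contra hcon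
  push Not at hcon
  have h1p := hp.out.one_lt
  set Cg : Subgroup L := Subgroup.centralizer ({g} : Set L) with hCg
  have hidx : Cg.index ≤ p ^ D.n := by
    rw [← D.card_commutator]
    have := R2Chief.relIndex_centralizer_singleton_le (⊤ : Subgroup L) (commutator L) g (by
      intro x _
      have : x * g * x⁻¹ * g⁻¹ = ⁅x, g⁆ := (commutatorElement_def x g).symm
      rw [this, commutator_def]
      exact Subgroup.commutator_mem_commutator (Subgroup.mem_top x) (Subgroup.mem_top g))
    rwa [Subgroup.relIndex_top_right] at this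
  have hmul := Cg.card_mul_index
  have hcen := D.index_center hL hp2
  have hcmul := (Subgroup.center L).card_mul_index
  obtain ⟨z, hz⟩ := (hL.to_subgroup (Subgroup.center L)).exists_card_eq
  have hz1 : 1 ≤ z := by
    by_contra hz0
    have hz0' : z = 0 := by omega
    rw [hz0', pow_zero, Subgroup.card_eq_one] at hz
    haveI : Nontrivial L := by
      rw [← Finite.one_lt_card_iff_nontrivial, hm]
      exact Nat.one_lt_pow (by omega) h1p
    exact (hL.bot_lt_center).ne' hz
  have hzle : p ^ z ≤ p ^ 2 := by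
    rw [← hz]
    refine le_trans (Subgroup.card_le_of_le ?_) hcon
    exact Subgroup.center_le_centralizer _
  have hz2 : z ≤ 2 := (Nat.pow_le_pow_iff_right h1p).1 hzle
  have hm1 : m = z + (D.n + D.n) := by
    rw [hcen, hz, hm, ← pow_add, ← pow_add] at hcmul
    exact (Nat.pow_right_injective hp.out.two_le hcmul).symm
  have hm2 : p ^ m ≤ p ^ (2 + D.n) := by
    rw [← hm, ← hmul, pow_add]
    exact Nat.mul_le_mul hcon hidx
  have := (Nat.pow_le_pow_iff_right h1p).1 hm2
  omega

end Cfsg.Agent.Helper4.Mcy
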