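import Mathlib
import Cfsg.Agent.Helper4.McyD

set_option autoImplicit false

/-!
Metacyclic `p`-groups (`p` odd) of exponent at most `p ^ (m - 2)` (order `p ^ m`): with
`N = Ω₁(L)` and `C = C_L(N)`, every element of `N` is a `p`-th power of an element of `C`.
-/

namespace Cfsg.Agent.Helper4.Mcy

open Cfsg Cfsg.Agent.Helper1 Cfsg.Agent.Helper4.Blk

universe u

variable {L : Type u} [Group L] [Finite L] {p : ℕ} [hp : Fact p.Prime]

theorem hs_top (hp2 : p ≠ 2) (hL : IsPGroup p L) {N : Subgroup L} (hO : Om p N)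
    {m : ℕ} (hm : Nat.card L = p ^ m) (hm2 : 2 ≤ m) (hexp : ∀ g : L, g ^ p ^ (m - 2) = 1)
    (hCtop : Subgroup.centralizer (N : Set L) = ⊤) :
    ∀ y ∈ N, ∃ x ∈ Subgroup.centralizer (N : Set L), x ^ p = y := by
  by_contra hns
  have h := hO.cfg hL
  obtain ⟨c0, hc0C, hgen⟩ := exists_gen_of_not_surj hp2 h hns
  haveI := hO.normal
  have h1p := hp.out.one_lt
  have hQcard : Nat.card (L ⧸ N) = p ^ (m - 2) := by
    have h1 := Subgroup.card_eq_card_quotient_mul_card_subgroup N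
    rw [hm, hO.card] at h1
    have h2 : p ^ m = p ^ (m - 2) * p ^ 2 := by
      rw [← pow_add]; congr 1; omega
    rw [h2] at h1
    exact (Nat.eq_of_mul_eq_mul_right (pow_pos hp.out.pos 2) h1).symm
  have hall : ∀ q : L ⧸ N, q ∈ Subgroup.zpowers (QuotientGroup.mk c0 : L ⧸ N) := by
    intro q
    obtain ⟨l, rfl⟩ := QuotientGroup.mk_surjective q
    obtain ⟨i, n, hn, hl⟩ := hgen l (hCtop ▸ Subgroup.mem_top l)
    rw [Subgroup.mem_zpowers_iff]
    refine ⟨i, ?_⟩
    rw [hl, zpow_natCast, ← QuotientGroup.mk_pow, QuotientGroup.eq]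
    simpa using hn
  have hord : orderOf (QuotientGroup.mk c0 : L ⧸ N) = p ^ (m - 2) := by
    rw [orderOf_eq_card_of_forall_mem_zpowers hall, hQcard]
  rcases Nat.lt_or_ge m 3 with hm3 | hm3
  · have hm2' : m - 2 = 0 := by omega
    have hall1 : ∀ g : L, g = 1 := by
      intro g
      have := hexp g
      rwa [hm2', pow_zero, pow_one] at this
    have hN1 : Nat.card N = 1 := by
      rw [Subgroup.card_eq_one, Subgroup.eq_bot_iff_forall]
      intro x _
      exact hall1 x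
    rw [hO.card] at hN1
    have := Nat.one_lt_pow (n := 2) (by norm_num) h1p
    omega
  · have h1 : (c0 ^ p ^ (m - 3)) ^ p = 1 := by
      rw [← pow_mul, ← pow_succ, show m - 3 + 1 = m - 2 by omega]
      exact hexp c0
    have h2 : c0 ^ p ^ (m - 3) ∈ N := (hO.mem _).2 h1
    have h3 : (QuotientGroup.mk c0 : L ⧸ N) ^ p ^ (m - 3) = 1 := by
      rw [← QuotientGroup.mk_pow, QuotientGroup.eq_one_iff]
      exact h2
    have h4 := orderOf_dvd_of_pow_eq_one h3
    rw [hord] at h4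
    have := (Nat.pow_dvd_pow_iff_le_right h1p).1 h4
    omega

theorem hs_ne_top (hp2 : p ≠ 2) (hL : IsPGroup p L) (hmc : Cfsg.IsMetacyclic L)
    {N : Subgroup L} (hO : Om p N)
    {m : ℕ} (hm : Nat.card L = p ^ m) (hexp : ∀ g : L, g ^ p ^ (m - 2) = 1)
    (hCtop : Subgroup.centralizer (N : Set L) ≠ ⊤) :
    ∀ y ∈ N, ∃ x ∈ Subgroup.centralizer (N : Set L), x ^ p = y := by
  by_contra hns
  have h := hO.cfg hL
  obtain ⟨c0, hc0C, hgen⟩ := exists_gen_of_not_surj hp2 h hns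
  haveI := hO.normal
  have h1p := hp.out.one_lt
  set C : Subgroup L := Subgroup.centralizer (N : Set L) with hC
  -- the index of `C`
  have hidx : C.index = p := by
    have hile : C.index ≤ p := R2Chief.index_centralizer_le_of_card_sq hL N hO.card
    have hidvd : C.index ∣ p ^ m := by rw [← hm]; exact Subgroup.index_dvd_card C
    obtain ⟨j, -, hj⟩ := (Nat.dvd_prime_pow hp.out).1 hidvd
    have hj1 : j ≤ 1 := by
      rw [hj] at hile
      by_contra hcon
      have : p ^ 2 ≤ p ^ j := Nat.pow_le_pow_right hp.out.pos (by omega)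
      nlinarith
    interval_cases j
    · rw [pow_zero, Subgroup.index_eq_one] at hj
      exact absurd hj hCtop
    · rw [hj, pow_one]
  have hci : CI p N C c0 := ⟨h, hidx, hc0C, hgen⟩
  -- `c₀ ∉ N`
  have hc0N : c0 ∉ N := by
    intro hc0N
    have hCN : C = N := by
      apply le_antisymm
      · intro c hc
        obtain ⟨i, n, hn, rfl⟩ := hgen c hc
        exact N.mul_mem (N.pow_mem hc0N i) hn
      · exact h.N_le_C
    have hm3 : m = 3 := by
      have h1 := C.card_mul_index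
      rw [hidx, hCN, hO.card, hm, ← pow_succ] at h1
      exact (Nat.pow_right_injective hp.out.two_le h1).symm
    have hall : ∀ g : L, g ∈ N := by
      intro g
      rw [hO.mem]
      have := hexp g
      rwa [hm3, show 3 - 2 = 1 from rfl, pow_one] at this
    apply hCtop
    rw [hCN]
    exact top_le_iff.1 fun g _ => hall g
  have h4 : 4 ≤ m := hci.four_le hp2 hm hc0N
  have hord : orderOf c0 = p ^ (m - 2) := hci.orderOf_c0 hp2 hm hc0N
  obtain ⟨g, hg⟩ : ∃ g, g ∉ C := by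
    by_contra hcon
    push Not at hcon
    exact hCtop (top_le_iff.1 fun x _ => hcon x)
  have hgpC : g ^ p ∈ C := hci.pow_p_mem_C g
  obtain ⟨i, n, hn, hgp⟩ := hgen (g ^ p) hgpC
  have hnp : n ^ p = 1 := (hO.mem n).1 hn
  -- `p ∣ i`
  have hpi : p ∣ i := by
    have h1 : (g ^ p) ^ p ^ (m - 3) = 1 := by
      rw [← pow_mul, ← pow_succ', show m - 3 + 1 = m - 2 by omega]
      exact hexp g
    have hcm : Commute (c0 ^ i) n := (h.comm_of_mem hn (C.pow_mem hc0C i)).symm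
    have hn1 : n ^ p ^ (m - 3) = 1 := by
      obtain ⟨k, hk⟩ : ∃ k, m - 3 = k + 1 := ⟨m - 4, by omega⟩
      rw [hk, pow_succ', pow_mul, hnp, one_pow]
    rw [hgp, hcm.mul_pow, hn1, mul_one, ← pow_mul] at h1
    have h2 := orderOf_dvd_of_pow_eq_one h1
    rw [hord, show m - 2 = m - 3 + 1 by omega, pow_succ, mul_comm i] at h2
    exact Nat.dvd_of_mul_dvd_mul_left (pow_pos hp.out.pos _) h2
  obtain ⟨i', rfl⟩ := hpi
  -- modify `g`
  set c : L := (c0 ^ i')⁻¹ with hc
  have hcC : c ∈ C := C.inv_mem (C.pow_mem hc0C i')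
  have hg' : g * c ∉ C := hci.mul_not_mem hg hcC
  have hT1 : Tm g c ∈ N := hci.Tm_mem_N hp2 g hcC
  have hT2 : Tm g (Tm g c) ∈ Z0 N := hci.Tm_mem_Z0 g hT1
  set z2 : L := Tm g (Tm g c) ^ p.choose 3 with hz2
  have hz2Z : z2 ∈ Z0 N := (Z0 N).pow_mem hT2 _
  have hpow : (g * c) ^ p = n * z2 := by
    rw [hci.mul_pow_p hp2 g hcC, ← hz2, hgp, hc, inv_pow, ← pow_mul, mul_comm i' p]
    have hcm : Commute (c0 ^ (p * i')) n :=
      (h.comm_of_mem hn (C.pow_mem hc0C (p * i'))).symm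
    calc c0 ^ (p * i') * n * ((c0 ^ (p * i'))⁻¹ * z2)
        = n * c0 ^ (p * i') * ((c0 ^ (p * i'))⁻¹ * z2) := by rw [hcm.eq]
      _ = n * z2 := by group
  have hne : C ≠ ⊤ := hCtop
  have hnz : n * z2 ∈ Z0 N := by
    apply h.mem_Z0_of_comm hne hg' (N.mul_mem hn (Z0_le N hz2Z))
    rw [← hpow]
    exact ((Commute.refl (g * c)).pow_right p).eq
  have hnZ : n ∈ Z0 N := by
    have := (Z0 N).mul_mem hnz ((Z0 N).inv_mem hz2Z)
    simpa using this
  -- the element `v`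
  obtain ⟨hvp, hv1, hvN, -⟩ := hci.v_facts hp2 hm hc0N
  set v : L := c0 ^ p ^ (m - 3) with hv
  have hvZ : v ∈ Z0 N := by
    apply h.mem_Z0_of_comm hne hg hvN
    apply comm_of_Tm_eq_one
    rw [hv, hci.Tm_pow g hc0C]
    have hTN : Tm g c0 ∈ N := hci.Tm_c0_mem_N hp2 g
    obtain ⟨k, hk⟩ : ∃ k, m - 3 = k + 1 := ⟨m - 4, by omega⟩
    rw [hk, pow_succ', pow_mul, (hO.mem _).1 hTN, one_pow]
  obtain ⟨e, he⟩ := h.exists_pow_of_mem_Z0 hne hvZ hv1 hnZ
  have hvU : v ∈ Usub C p := by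
    have : v = (c0 ^ p ^ (m - 4)) ^ p := by
      rw [hv, ← pow_mul, ← pow_succ, show m - 4 + 1 = m - 3 by omega]
    rw [this]
    exact pow_mem_Usub (C.pow_mem hc0C _)
  have hgU : g ^ p ∈ Usub C p := by
    rw [hgp, he]
    apply (Usub C p).mul_mem
    · rw [pow_mul']
      exact pow_mem_Usub (C.pow_mem hc0C _)
    · exact (Usub C p).pow_mem hvU e
  rcases hci.exists_order_p hp2 hg hgU with ⟨x, hxC, hxp⟩ | ⟨-, hcard⟩
  · exact hxC (h.N_le_C ((hO.mem x).2 hxp))
  · have := card_centralizer_gt hp2 hL hmc hm h4 g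
    omega

/-- every element of `N = Ω₁(L)` is a `p`-th power of an element of `C_L(N)` -/
theorem hs (hp2 : p ≠ 2) (hL : IsPGroup p L) (hmc : Cfsg.IsMetacyclic L)
    {N : Subgroup L} (hO : Om p N)
    {m : ℕ} (hm : Nat.card L = p ^ m) (hm2 : 2 ≤ m) (hexp : ∀ g : L, g ^ p ^ (m - 2) = 1) :
    ∀ y ∈ N, ∃ x ∈ Subgroup.centralizer (N : Set L), x ^ p = y := by
  by_cases hCtop : Subgroup.centralizer (N : Set L) = ⊤
  · exact hs_top hp2 hL hO hm hm2 hexp hCtop
  · exact hs_ne_top hp2 hL hmc hO hm hexp hCtop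

end Cfsg.Agent.Helper4.Mcy
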