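import Mathlib
import Cfsg.Agent.Helper4.McyE
import Cfsg.Agent.Helper1.MetacyclicOmega

set_option autoImplicit false

/-!
S4079, forward direction: an automorphism of order `p` of a metacyclic `p`-group `L` (`p` odd,
no cyclic subgroup of index `p`) that moves an element of order `p` forces `p = 3` and
`L ⋊ ⟨a⟩` of maximal class.
-/

namespace Cfsg.Agent.Helper4.Mcy

open Cfsg Cfsg.Agent.Helper1 Cfsg.Agent.Helper4.Blk

universe u

variable {L : Type u} [Group L] [Finite L] {p : ℕ} [hp : Fact p.Prime]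

/-- the common setup -/
theorem setup (hp2 : p ≠ 2) (hL : IsPGroup p L) (hmc : Cfsg.IsMetacyclic L)
    (hnc : ∀ C : Subgroup L, IsCyclic C → C.index ≠ p) {m : ℕ} (hm : Nat.card L = p ^ m)
    (hm1 : 1 ≤ m) :
    4 ≤ m ∧ (∀ g : L, g ^ p ^ (m - 2) = 1) ∧ ∃ N : Subgroup L, Om p N := by
  have h1p := hp.out.one_lt
  obtain ⟨hm2, hexp⟩ := exp_of_hnc hm hm1 hnc
  have hncyc : ¬ IsCyclic L := by
    intro hcyc
    obtain ⟨g, hg⟩ := hcyc.exists_generator
    have hord : orderOf g = p ^ m := by
      rw [orderOf_eq_card_of_forall_mem_zpowers hg, hm]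
    have h1 := orderOf_dvd_of_pow_eq_one (hexp g)
    rw [hord] at h1
    have := (Nat.pow_dvd_pow_iff_le_right h1p).1 h1
    omega
  obtain ⟨K, hKn, hKc, hQc⟩ := hmc
  obtain ⟨N, hNset, hNcard, hNcomm⟩ := metacyclic_omega_aux hp2 hL hncyc _ K hKc hQc rfl
  have hO : Om p N := by
    refine ⟨?_, hNcard, hNcomm⟩
    intro x
    have := Set.ext_iff.1 hNset x
    simpa using this
  refine ⟨?_, hexp, N, hO⟩
  by_contra hcon
  have hall : ∀ g : L, g ^ p = 1 := by
    intro g
    have h1 := hexp g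
    have hcases : m = 2 ∨ m = 3 := by omega
    rcases hcases with h2 | h2
    · rw [h2, show 2 - 2 = 0 from rfl, pow_zero, pow_one] at h1
      rw [h1, one_pow]
    · rwa [h2, show 3 - 2 = 1 from rfl, pow_one] at h1
  have hN : N = ⊤ := top_le_iff.1 fun g _ => (hO.mem g).2 (hall g)
  have hc := hO.card
  rw [hN, Subgroup.card_top, hm] at hc
  have hm2' : m = 2 := Nat.pow_right_injective hp.out.two_le hc
  have hall1 : ∀ g : L, g = 1 := by
    intro g
    have h1 := hexp g
    rwa [hm2', show 2 - 2 = 0 from rfl, pow_zero, pow_one] at h1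
  have : Nat.card L = 1 := by
    rw [Nat.card_eq_one_iff_unique]
    exact ⟨⟨fun a b => by rw [hall1 a, hall1 b]⟩, ⟨1⟩⟩
  rw [hm] at this
  have := Nat.one_lt_pow (n := m) (by omega) h1p
  omega

/-- the index of the centralizer of `N` -/
theorem index_centralizer_eq (hL : IsPGroup p L) {N : Subgroup L} (hO : Om p N)
    (hCtop : Subgroup.centralizer (N : Set L) ≠ ⊤) :
    (Subgroup.centralizer (N : Set L)).index = p := by
  haveI := hO.normal
  obtain ⟨m, hm⟩ := hL.exists_card_eq
  have hile : (Subgroup.centralizer (N : Set L)).index ≤ p :=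
    R2Chief.index_centralizer_le_of_card_sq hL N hO.card
  have hidvd : (Subgroup.centralizer (N : Set L)).index ∣ p ^ m := by
    rw [← hm]; exact Subgroup.index_dvd_card _
  obtain ⟨j, -, hj⟩ := (Nat.dvd_prime_pow hp.out).1 hidvd
  have hj1 : j ≤ 1 := by
    rw [hj] at hile
    by_contra hcon
    have : p ^ 2 ≤ p ^ j := Nat.pow_le_pow_right hp.out.pos (by omega)
    have := hp.out.one_lt
    nlinarith
  interval_cases j
  · rw [pow_zero, Subgroup.index_eq_one] at hj
    exact absurd hj hCtop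
  · rw [hj, pow_one]

theorem forward (hp2 : p ≠ 2) (hL : IsPGroup p L) (hmc : Cfsg.IsMetacyclic L)
    (hnc : ∀ C : Subgroup L, IsCyclic C → C.index ≠ p) (a : MulAut L) (ha : orderOf a = p)
    (m : ℕ) (hm : Nat.card L = p ^ m) (hx : ∃ x : L, orderOf x = p ∧ a x ≠ x) :
    p = 3 ∧ Group.nilpotencyClass (SD a) = m := by
  have h1p := hp.out.one_lt
  obtain ⟨x0, hx0, hax0⟩ := hx
  have hm1 : 1 ≤ m := by
    by_contra hcon
    have hm0 : m = 0 := by omega
    rw [hm0, pow_zero, Nat.card_eq_one_iff_unique] at hm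
    obtain ⟨hs, -⟩ := hm
    exact hax0 (Subsingleton.elim _ _)
  obtain ⟨h4, hexp, N, hO⟩ := setup hp2 hL hmc hnc hm hm1
  have hm2 : 2 ≤ m := by omega
  have h := hO.cfg hL
  have hsurj := hs hp2 hL hmc hO hm hm2 hexp
  have hmove : ∃ y ∈ N, a y ≠ y := by
    refine ⟨x0, (hO.mem x0).2 ?_, hax0⟩
    rw [← hx0, pow_orderOf_eq_one]
  obtain ⟨hp3, F, hFN, hFc, hFfix, -, hkey⟩ := autII hp2 h a ha hO.char hsurj hmove
  refine ⟨hp3, ?_⟩
  set C : Subgroup L := Subgroup.centralizer (N : Set L) with hC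
  -- all fixed points lie in `F`
  have hall : ∀ d : L, a d = d → d ∈ F := by
    intro d hd
    by_cases hdC : d ∈ C
    · exact hkey d hdC hd
    · exfalso
      have hCtop : C ≠ ⊤ := fun h0 => hdC (h0 ▸ Subgroup.mem_top d)
      have hidx : C.index = p := index_centralizer_eq hL hO hCtop
      haveI := h.C_normal
      have hdp : d ^ p ∈ C := by
        have := C.pow_index_mem d
        rwa [hidx] at this
      have hdpF : d ^ p ∈ F := hkey _ hdp (by rw [map_pow, hd])
      obtain ⟨x, hxC, hxp⟩ := hsurj _ (hFN hdpF)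
      have hdU : d ^ p ∈ Usub C p := by
        rw [← hxp]
        exact pow_mem_Usub hxC
      obtain ⟨-, hcard⟩ := h.caseII hp2 hidx hsurj hdC hdU
      have := card_centralizer_gt hp2 hL hmc hm h4 d
      omega
  have hcent := card_centralizer_gen_le a F hall
  rw [hFc, ha, ← pow_two] at hcent
  haveI := finite_sd a
  have hGcard : Nat.card (SD a) = p ^ (m + 1) := card_sd a hm ha
  have hG : IsPGroup p (SD a) := IsPGroup.of_card hGcard
  haveI : Group.IsNilpotent (SD a) := hG.isNilpotent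
  have hlcs := lcs_ne_bot_of_card_centralizer (m + 1) (by omega) hGcard _ hcent
  have hle : Group.nilpotencyClass (SD a) ≤ m := by
    have := class_le (G := SD a) (n := m + 1) (by omega) hGcard
    simpa using this
  have hge : ¬ Group.nilpotencyClass (SD a) ≤ m + 1 - 2 := by
    rw [← Subgroup.lowerCentralSeries_eq_bot_iff_nilpotencyClass_le]
    exact hlcs
  omega

end Cfsg.Agent.Helper4.Mcy
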