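import Mathlib
import Cfsg.Agent.Helper4.McyF

set_option autoImplicit false

/-!
S4079, backward direction: if `L ⋊ ⟨a⟩` has maximal class then `a` moves an element of order `p`.
-/

namespace Cfsg.Agent.Helper4.Mcy

open Cfsg Cfsg.Agent.Helper1 Cfsg.Agent.Helper4.Blk
open scoped commutatorElement

universe u

variable {L : Type u} [Group L] [Finite L] {p : ℕ} [hp : Fact p.Prime]

/-- the derived subgroup of `L` has exponent `p`, provided every characteristic cyclic subgroup of
order `p ^ 2` is excluded -/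
theorem commutator_exp (hp2 : p ≠ 2) (hL : IsPGroup p L) (hmc : Cfsg.IsMetacyclic L)
    (hno : ∀ w : L, orderOf w = p ^ 2 →
      (∀ τ : MulAut L, ∀ x ∈ Subgroup.zpowers w, τ x ∈ Subgroup.zpowers w) → False) :
    ∀ c ∈ commutator L, c ^ p = 1 := by
  obtain ⟨D⟩ := Cfsg.Agent.Helper3.MetaOdd.exists_data hL hmc
  have hceq := D.commutator_eq
  have hccard := D.card_commutator
  have h1p := hp.out.one_lt
  by_cases hn1 : D.n ≤ 1
  · intro c hc
    have h1 : (⟨c, hc⟩ : commutator L) ^ Nat.card (commutator L) = 1 := pow_card_eq_one'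
    have h2 : c ^ p ^ D.n = 1 := by
      rw [hccard] at h1
      simpa using congrArg Subtype.val h1
    have h3 : orderOf c ∣ p ^ 1 := (orderOf_dvd_of_pow_eq_one h2).trans (pow_dvd_pow p hn1)
    rw [pow_one] at h3
    exact orderOf_dvd_iff_pow_eq_one.1 h3
  · exfalso
    push Not at hn1
    set c : L := D.a ^ (D.t - 1) with hc
    have hordc : orderOf c = p ^ D.n := by
      rw [← Nat.card_zpowers, ← hceq, hccard]
    set w : L := c ^ p ^ (D.n - 2) with hw
    have hordw : orderOf w = p ^ 2 := by
      have hdvd : p ^ (D.n - 2) ∣ orderOf c := by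
        rw [hordc]; exact pow_dvd_pow p (by omega)
      rw [hw, orderOf_pow_of_dvd (pow_pos hp.out.pos _).ne' hdvd, hordc]
      have : p ^ D.n = p ^ 2 * p ^ (D.n - 2) := by
        rw [← pow_add]; congr 1; omega
      rw [this, Nat.mul_div_cancel _ (pow_pos hp.out.pos _)]
    apply hno w hordw
    intro τ x hx
    obtain ⟨k, rfl⟩ := Subgroup.mem_zpowers_iff.1 hx
    have hτc : τ c ∈ Subgroup.zpowers c := by
      rw [← hceq]
      have hchar : (commutator L).Characteristic := inferInstance
      have hcm : c ∈ commutator L := by rw [hceq]; exact Subgroup.mem_zpowers c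
      have := hchar.fixed τ
      rw [← this] at hcm
      exact Subgroup.mem_comap.1 hcm
    obtain ⟨j, hj⟩ := Subgroup.mem_zpowers_iff.1 hτc
    have hτw : τ w = w ^ j := by
      rw [hw, map_pow, ← hj, ← zpow_natCast, ← zpow_natCast, ← zpow_mul, ← zpow_mul, mul_comm]
    rw [map_zpow, hτw, ← zpow_mul]
    exact Subgroup.zpow_mem _ (Subgroup.mem_zpowers w) _

theorem backward (hp2 : p ≠ 2) (hL : IsPGroup p L) (hmc : Cfsg.IsMetacyclic L)
    (hnc : ∀ C : Subgroup L, IsCyclic C → C.index ≠ p) (a : MulAut L) (ha : orderOf a = p)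
    (m : ℕ) (hm : Nat.card L = p ^ m) (hcl : Group.nilpotencyClass (SD a) = m) :
    ∃ x : L, orderOf x = p ∧ a x ≠ x := by
  by_contra hcon
  push Not at hcon
  have h1p := hp.out.one_lt
  have hm1 : 1 ≤ m := by
    by_contra h0
    have hm0 : m = 0 := by omega
    rw [hm0, pow_zero, Nat.card_eq_one_iff_unique] at hm
    obtain ⟨hs, -⟩ := hm
    have ha1 : a = 1 := by
      apply MulEquiv.ext
      intro x
      exact Subsingleton.elim _ _
    rw [ha1, orderOf_one] at ha
    omega
  obtain ⟨h4, hexp, N, hO⟩ := setup hp2 hL hmc hnc hm hm1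
  have hm2 : 2 ≤ m := by omega
  have afix : ∀ n ∈ N, a n = n := by
    intro n hn
    by_cases hn1 : n = 1
    · rw [hn1, map_one]
    · apply hcon
      have hnp := (hO.mem n).1 hn
      have h1 : orderOf n ∣ p := orderOf_dvd_of_pow_eq_one hnp
      rcases (Nat.dvd_prime hp.out).1 h1 with h2 | h2
      · exact absurd (orderOf_eq_one_iff.1 h2) hn1
      · exact h2
  haveI := finite_sd a
  have hGcard : Nat.card (SD a) = p ^ (m + 1) := card_sd a hm ha
  have hG : IsPGroup p (SD a) := IsPGroup.of_card hGcard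
  have hcl' : Group.nilpotencyClass (SD a) = m + 1 - 1 := by simpa using hcl
  have hZ : ∀ i, i + 2 ≤ m + 1 → Nat.card (Subgroup.upperCentralSeries (SD a) i) ≤ p ^ i :=
    fun i hi => card_ucs_le (n := m + 1) (by omega) hGcard hcl' hi
  have h := hO.cfg hL
  set C : Subgroup L := Subgroup.centralizer (N : Set L) with hC
  -- step 1: `N` is not central
  have hCtop : C ≠ ⊤ := by
    intro h0
    have hcen : ∀ x ∈ N, ∀ l : L, l * x = x * l := by
      intro x hx l
      have hl : l ∈ C := h0 ▸ Subgroup.mem_top l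
      exact (h.comm_of_mem hx hl).symm
    have hle := map_inl_le_center a N hcen afix
    have h1 := Subgroup.card_le_of_le hle
    rw [card_map_inl, hO.card, ← Subgroup.upperCentralSeries_one] at h1
    have h2 := hZ 1 (by omega)
    rw [pow_one] at h2
    nlinarith
  have hidx : C.index = p := index_centralizer_eq hL hO hCtop
  have hsurj := hs hp2 hL hmc hO hm hm2 hexp
  -- step 2: the image of `N` is the second centre
  have hNt2 : N.map (SemidirectProduct.inl : L →* SD a) ≤ Subgroup.upperCentralSeries (SD a) 2 :=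
    le_ucs_of_card hG 2 _ (map_inl_normal a N hO.char) (by rw [card_map_inl, hO.card])
  -- step 3: the derived subgroup has exponent `p`
  have hcomm : ∀ c ∈ commutator L, c ^ p = 1 := by
    apply commutator_exp hp2 hL hmc
    intro w hordw hXchar
    have hXc : Nat.card (Subgroup.zpowers w) = p ^ 2 := by rw [Nat.card_zpowers, hordw]
    have hXt2 : (Subgroup.zpowers w).map (SemidirectProduct.inl : L →* SD a) ≤
        Subgroup.upperCentralSeries (SD a) 2 :=
      le_ucs_of_card hG 2 _ (map_inl_normal a _ hXchar) (by rw [card_map_inl, hXc])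
    have hZ2 := hZ 2 (by omega)
    have e1 : (Subgroup.zpowers w).map (SemidirectProduct.inl : L →* SD a) =
        Subgroup.upperCentralSeries (SD a) 2 := by
      apply Subgroup.eq_of_le_of_card_ge hXt2
      rw [card_map_inl, hXc]
      exact hZ2
    have e2 : N.map (SemidirectProduct.inl : L →* SD a) =
        Subgroup.upperCentralSeries (SD a) 2 := by
      apply Subgroup.eq_of_le_of_card_ge hNt2
      rw [card_map_inl, hO.card]
      exact hZ2
    have hwN : w ∈ N := by
      have h1 : (SemidirectProduct.inl w : SD a) ∈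
          (Subgroup.zpowers w).map (SemidirectProduct.inl : L →* SD a) :=
        Subgroup.mem_map_of_mem _ (Subgroup.mem_zpowers w)
      rw [e1, ← e2] at h1
      obtain ⟨n, hn, hnw⟩ := h1
      rwa [← SemidirectProduct.inl_injective hnw]
    have hwp := (hO.mem w).1 hwN
    have h2 := orderOf_dvd_of_pow_eq_one hwp
    rw [hordw] at h2
    have h3 : p ^ 2 ∣ p ^ 1 := by rwa [pow_one]
    have := (Nat.pow_dvd_pow_iff_le_right h1p).1 h3
    omega
  -- step 4: the subgroup `M`
  set M : Subgroup L := h.Msub hp2 with hM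
  have hCchar := centralizer_char h.hC hO.char
  have hMchar : ∀ τ : MulAut L, ∀ x ∈ M, τ x ∈ M := by
    intro τ x hx
    obtain ⟨hxC, hxp⟩ := (h.mem_Msub hp2).1 hx
    refine (h.mem_Msub hp2).2 ⟨hCchar τ x hxC, ?_⟩
    rw [← map_pow]
    exact hO.char τ _ hxp
  have hMcard : p ^ 4 ≤ Nat.card M := by
    choose xs hxsC hxsp using fun y : N => hsurj y.1 y.2
    have hmem : ∀ q : N × N, (q.1 : L) * xs q.2 ∈ M := by
      intro q
      refine (h.mem_Msub hp2).2 ⟨C.mul_mem (h.N_le_C q.1.2) (hxsC q.2), ?_⟩
      have hn1 : (q.1 : L) ^ p = 1 := (hO.mem _).1 q.1.2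
      rw [h.mul_pow_of_mem hp2 (h.N_le_C q.1.2) (by rw [hn1]; exact N.one_mem) (hxsC q.2),
        hn1, one_mul, hxsp]
      exact q.2.2
    have hinj : Function.Injective (fun q : N × N => (⟨(q.1 : L) * xs q.2, hmem q⟩ : M)) := by
      intro q q' hqq
      have h0 : (q.1 : L) * xs q.2 = (q'.1 : L) * xs q'.2 := congrArg Subtype.val hqq
      have hpow : ∀ r : N × N, ((r.1 : L) * xs r.2) ^ p = (r.2 : L) := by
        intro r
        have hn1 : (r.1 : L) ^ p = 1 := (hO.mem _).1 r.1.2
        rw [h.mul_pow_of_mem hp2 (h.N_le_C r.1.2) (by rw [hn1]; exact N.one_mem) (hxsC r.2),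
          hn1, one_mul, hxsp]
      have h2 : q.2 = q'.2 := by
        apply Subtype.ext
        rw [← hpow q, ← hpow q', h0]
      have h1 : q.1 = q'.1 := by
        apply Subtype.ext
        rw [h2] at h0
        exact mul_right_cancel h0
      exact Prod.ext h1 h2
    have := Nat.card_le_card_of_injective _ hinj
    rw [Nat.card_prod, hO.card] at this
    calc p ^ 4 = p ^ 2 * p ^ 2 := by ring
      _ ≤ Nat.card M := this
  have hMt3 : M.map (SemidirectProduct.inl : L →* SD a) ≤
      Subgroup.upperCentralSeries (SD a) 3 := by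
    rintro _ ⟨x, hx, rfl⟩
    rw [Subgroup.mem_upperCentralSeries_succ_iff]
    intro g
    apply hNt2
    obtain ⟨hxC, hxp⟩ := (h.mem_Msub hp2).1 hx
    set l : L := g.left with hl
    set k : MulAut L := (g.right : MulAut L) with hk
    have hkx : (k x) ^ p = x ^ p := by
      rw [← map_pow, hk]
      exact fix_of_mem_zpowers a (afix _ hxp) g.right
    have hu : x⁻¹ * k x ∈ N := h.mem_N_of_pow_eq hp2 hxC (hCchar k x hxC) hkx.symm
    set u : L := x⁻¹ * k x with hudef
    have hkxu : k x = x * u := by rw [hudef]; group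
    have h1 : ⁅(SemidirectProduct.inl x : SD a), g⁆ =
        SemidirectProduct.inl (x * (l * (k x)⁻¹ * l⁻¹)) := by
      rw [commutatorElement_def]
      have h2 := conj_inl a g x⁻¹
      rw [map_inv] at h2
      calc (SemidirectProduct.inl x : SD a) * g * (SemidirectProduct.inl x)⁻¹ * g⁻¹
          = SemidirectProduct.inl x * (g * (SemidirectProduct.inl x)⁻¹ * g⁻¹) := by group
        _ = SemidirectProduct.inl (x * (l * (k x)⁻¹ * l⁻¹)) := by
            rw [h2, ← map_mul, map_inv]
    rw [h1]
    refine Subgroup.mem_map_of_mem _ ?_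
    have e : x * (l * (k x)⁻¹ * l⁻¹) = ⁅x, l⁆ * ((l * x) * u⁻¹ * (l * x)⁻¹) := by
      rw [hkxu, commutatorElement_def]; group
    rw [e]
    apply N.mul_mem
    · rw [hO.mem]
      apply hcomm
      rw [commutator_def]
      exact Subgroup.commutator_mem_commutator (Subgroup.mem_top x) (Subgroup.mem_top l)
    · exact hO.normal.conj_mem _ (N.inv_mem hu) _
  have h5 := Subgroup.card_le_of_le hMt3
  rw [card_map_inl] at h5
  have h6 := hZ 3 (by omega)
  have h7 : p ^ 4 ≤ p ^ 3 := hMcard.trans (h5.trans h6)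
  have := (Nat.pow_le_pow_iff_right h1p).1 h7
  omega

end Cfsg.Agent.Helper4.Mcy
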