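import Mathlib
import Cfsg.Agent.Helper1.FrattiniAct
import Cfsg.Agent.Helper4.MetacyclicA

set_option autoImplicit false

/-!
An `r`-element acting nontrivially on a `p`-group whose Frattini quotient has order dividing `p ^ 2`
forces `r ∣ p ^ 2 - 1`.
-/

namespace Cfsg.Agent.Helper4

open Cfsg.Agent.Helper1

theorem sq_sub_one_eq (p : ℕ) (hp : 1 ≤ p) : p ^ 2 - 1 = (p - 1) * (p + 1) := by
  obtain ⟨q, rfl⟩ : ∃ q, p = q + 1 := ⟨p - 1, by omega⟩
  have h1 : (q + 1) ^ 2 = q * (q + 1 + 1) + 1 := by ring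
  rw [h1]
  simp

theorem prime_dvd_sq_sub_one_of_aut {V : Type*} [Group V] [Finite V] {p r m : ℕ}
    [hp : Fact p.Prime] [hr : Fact r.Prime] (hrp : r ≠ p)
    (hV : Nat.card V ∣ p ^ 2) (σ : MulAut V) (hσ : σ ^ (r ^ m) = 1) (hσ1 : σ ≠ 1) :
    r ∣ p ^ 2 - 1 := by
  let F : Subgroup V :=
    { carrier := {v | σ v = v}
      one_mem' := map_one σ
      mul_mem' := by
        intro a b ha hb
        show σ (a * b) = a * b
        rw [map_mul, ha, hb]
      inv_mem' := by
        intro a ha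
        show σ a⁻¹ = a⁻¹
        rw [map_inv, ha] }
  have hFmem : ∀ v, v ∈ F ↔ σ v = v := fun v => Iff.rfl
  have hA : IsPGroup r (Subgroup.zpowers σ) := by
    have h1 : orderOf σ ∣ r ^ m := orderOf_dvd_of_pow_eq_one hσ
    obtain ⟨j, -, hj⟩ := (Nat.dvd_prime_pow hr.out).1 h1
    exact IsPGroup.of_card (n := j) (by rw [Nat.card_zpowers, hj])
  have hfix := hA.card_modEq_card_fixedPoints V
  have hfixeq : (MulAction.fixedPoints (Subgroup.zpowers σ) V) = (F : Set V) := by
    ext v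
    rw [MulAction.mem_fixedPoints]
    constructor
    · intro h
      exact h ⟨σ, Subgroup.mem_zpowers σ⟩
    · intro hv s
      have h1 : Subgroup.zpowers σ ≤ MulAction.stabilizer (MulAut V) v := by
        rw [Subgroup.zpowers_le, MulAction.mem_stabilizer_iff]; exact hv
      exact MulAction.mem_stabilizer_iff.1 (h1 s.2)
  rw [hfixeq] at hfix
  have hfix' : Nat.card V ≡ Nat.card F [MOD r] := hfix
  obtain ⟨k, hk2, hk⟩ := (Nat.dvd_prime_pow hp.out).1 hV
  have hFd : Nat.card F ∣ Nat.card V := Subgroup.card_subgroup_dvd_card F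
  rw [hk] at hFd
  obtain ⟨j, hjk, hj⟩ := (Nat.dvd_prime_pow hp.out).1 hFd
  have hFtop : F ≠ ⊤ := by
    intro h
    apply hσ1
    ext v
    have : v ∈ F := by rw [h]; exact Subgroup.mem_top v
    exact this
  have hjk' : j < k := by
    rcases Nat.lt_or_ge j k with h | h
    · exact h
    · exfalso
      apply hFtop
      rw [← Subgroup.card_eq_iff_eq_top, hj, hk, le_antisymm hjk h]
  rw [hk, hj] at hfix'
  have hle : p ^ j ≤ p ^ k := Nat.pow_le_pow_right hp.out.pos hjk
  have hdvd : r ∣ p ^ k - p ^ j := (Nat.modEq_iff_dvd' hle).1 hfix'.symm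
  have hcop : Nat.Coprime r p := (Nat.coprime_primes hr.out hp.out).2 hrp
  have hp1 : 1 ≤ p := hp.out.pos
  have hsq := sq_sub_one_eq p hp1
  have hkj : (k = 1 ∧ j = 0) ∨ (k = 2 ∧ j = 0) ∨ (k = 2 ∧ j = 1) := by omega
  rcases hkj with ⟨rfl, rfl⟩ | ⟨rfl, rfl⟩ | ⟨rfl, rfl⟩
  · rw [pow_one, pow_zero] at hdvd
    rw [hsq]
    exact Dvd.dvd.mul_right hdvd _
  · rw [pow_zero] at hdvd
    exact hdvd
  · have h1 : p ^ 2 - p ^ 1 = p * (p - 1) := by
      rw [pow_one, sq, Nat.mul_sub_one]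
    rw [h1] at hdvd
    have h2 : r ∣ p - 1 := hcop.dvd_of_dvd_mul_left hdvd
    rw [hsq]
    exact Dvd.dvd.mul_right h2 _

universe u

theorem prime_dvd_sq_sub_one_of_not_centralizer {G : Type u} [Group G] [Finite G] {p r m : ℕ}
    [hp : Fact p.Prime] [hr : Fact r.Prime] (hrp : r ≠ p) (Q : Subgroup G) (hQ : IsPGroup p Q)
    (hQm : (frattini Q).index ∣ p ^ 2) (g : G) (hg : g ∈ Subgroup.normalizer (Q : Set G))
    (hgo : orderOf g = r ^ m) (hgC : g ∉ Subgroup.centralizer (Q : Set G)) :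
    r ∣ p ^ 2 - 1 := by
  have hchar : ∀ ψ : Q ≃* Q, (frattini Q).map ψ.toMonoidHom = frattini Q :=
    Subgroup.characteristic_iff_map_eq.1 inferInstance
  have hΦn : (frattini Q).Normal := inferInstance
  -- the induced automorphisms
  let τ : ∀ a : G, a ∈ Subgroup.normalizer (Q : Set G) → MulAut (Q ⧸ frattini Q) := fun a ha =>
    QuotientGroup.congr (frattini Q) (frattini Q) (conjNormalizer Q a ha)
      (hchar (conjNormalizer Q a ha))
  have hτ : ∀ a ha (x : Q), τ a ha (x : Q ⧸ frattini Q) =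
      ((conjNormalizer Q a ha x : Q) : Q ⧸ frattini Q) := fun a ha x => rfl
  have hpow : ∀ n : ℕ, g ^ n ∈ Subgroup.normalizer (Q : Set G) := fun n => pow_mem hg n
  have hτpow : ∀ n : ℕ, (τ g hg) ^ n = τ (g ^ n) (hpow n) := by
    intro n
    induction n with
    | zero =>
      ext x
      obtain ⟨x, rfl⟩ := QuotientGroup.mk_surjective x
      rw [pow_zero, MulAut.one_apply, hτ]
      congr 1
      apply Subtype.ext
      rw [conjNormalizer_coe]
      simp
    | succ n ih =>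
      rw [pow_succ, ih]
      ext x
      obtain ⟨x, rfl⟩ := QuotientGroup.mk_surjective x
      rw [MulAut.mul_apply, hτ, hτ, hτ]
      congr 1
      apply Subtype.ext
      rw [conjNormalizer_coe, conjNormalizer_coe, conjNormalizer_coe, pow_succ]
      group
  have hσ : (τ g hg) ^ (r ^ m) = 1 := by
    rw [hτpow]
    ext x
    obtain ⟨x, rfl⟩ := QuotientGroup.mk_surjective x
    rw [MulAut.one_apply, hτ]
    congr 1
    apply Subtype.ext
    rw [conjNormalizer_coe, ← hgo, pow_orderOf_eq_one]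
    simp
  have hσ1 : τ g hg ≠ 1 := by
    intro h1
    apply hgC
    have hAK : Subgroup.zpowers g ≤ Subgroup.normalizer (Q : Set G) := by
      rw [Subgroup.zpowers_le]; exact hg
    obtain ⟨n, hn⟩ := IsPGroup.iff_card.1 (hQ.to_subgroup (frattini Q))
    have hcop : (Nat.card (Subgroup.zpowers g)).Coprime (Nat.card (frattini Q)) := by
      rw [Nat.card_zpowers, hgo, hn]
      exact Nat.Coprime.pow _ _ ((Nat.coprime_primes hr.out hp.out).2 hrp)
    have htriv : ∀ a ∈ Subgroup.zpowers g, ∀ k ∈ Q,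
        a * k * a⁻¹ * k⁻¹ ∈ (frattini Q).map Q.subtype := by
      intro a ha k hk
      rw [← mem_powers_iff_mem_zpowers, Submonoid.mem_powers_iff] at ha
      obtain ⟨n, rfl⟩ := ha
      have h2 : τ (g ^ n) (hpow n) = 1 := by rw [← hτpow, h1, one_pow]
      have h3 : τ (g ^ n) (hpow n) ((⟨k, hk⟩ : Q) : Q ⧸ frattini Q) =
          ((⟨k, hk⟩ : Q) : Q ⧸ frattini Q) := by rw [h2, MulAut.one_apply]
      rw [hτ] at h3
      have h4 : (((conjNormalizer Q (g ^ n) (hpow n) ⟨k, hk⟩ * (⟨k, hk⟩ : Q)⁻¹ : Q)) :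
          Q ⧸ frattini Q) = 1 := by
        rw [QuotientGroup.mk_mul, h3, QuotientGroup.mk_inv, mul_inv_cancel]
      rw [QuotientGroup.eq_one_iff] at h4
      exact ⟨_, h4, rfl⟩
    exact frattini_coprime_trivial (Subgroup.zpowers g) Q hAK hcop htriv (Subgroup.mem_zpowers g)
  have hV : Nat.card (Q ⧸ frattini Q) ∣ p ^ 2 := by
    rw [← Subgroup.index_eq_card]; exact hQm
  exact prime_dvd_sq_sub_one_of_aut hrp hV (τ g hg) hσ hσ1

end Cfsg.Agent.Helper4
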