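import Mathlib

set_option autoImplicit false

/-!
# Pointwise-on-a-set lemmas for permutations

Auxiliary lemmas for Miller's theorem (degree `kp + r`).
-/

namespace Cfsg.Agent.Helper4.Miller

open Equiv

variable {α : Type*}

/-- `f` preserves the set `O` (in both directions). -/
def Inv (f : Perm α) (O : Set α) : Prop := ∀ y, f y ∈ O ↔ y ∈ O

theorem Inv.one (O : Set α) : Inv (1 : Perm α) O := fun _ => Iff.rfl

theorem Inv.mul {f g : Perm α} {O : Set α} (hf : Inv f O) (hg : Inv g O) : Inv (f * g) O :=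
  fun y => by rw [Perm.mul_apply, hf, hg]

theorem Inv.inv {f : Perm α} {O : Set α} (hf : Inv f O) : Inv f⁻¹ O :=
  fun y => by rw [← hf (f⁻¹ y)]; simp

theorem Inv.pow {f : Perm α} {O : Set α} (hf : Inv f O) (n : ℕ) : Inv (f ^ n) O := by
  induction n with
  | zero => rw [pow_zero]; exact Inv.one O
  | succ n ih => rw [pow_succ]; exact ih.mul hf

theorem Inv.univ (f : Perm α) : Inv f Set.univ := fun _ => by simp

/-- pointwise equality on `O` -/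
def EqOn (f g : Perm α) (O : Set α) : Prop := ∀ y ∈ O, f y = g y

theorem EqOn.refl (f : Perm α) (O : Set α) : EqOn f f O := fun _ _ => rfl

theorem EqOn.symm {f g : Perm α} {O : Set α} (h : EqOn f g O) : EqOn g f O :=
  fun y hy => (h y hy).symm

theorem EqOn.trans {f g k : Perm α} {O : Set α} (h : EqOn f g O) (h' : EqOn g k O) :
    EqOn f k O := fun y hy => (h y hy).trans (h' y hy)

theorem EqOn.mul {f g f' g' : Perm α} {O : Set α} (h : EqOn f g O) (h' : EqOn f' g' O)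
    (hg' : Inv g' O) : EqOn (f * f') (g * g') O := by
  intro y hy
  rw [Perm.mul_apply, Perm.mul_apply, h' y hy]
  exact h _ ((hg' y).2 hy)

theorem EqOn.pow {f g : Perm α} {O : Set α} (h : EqOn f g O) (hg : Inv g O) (n : ℕ) :
    EqOn (f ^ n) (g ^ n) O := by
  induction n with
  | zero => rw [pow_zero, pow_zero]; exact EqOn.refl _ _
  | succ n ih => rw [pow_succ, pow_succ]; exact ih.mul h hg

/-- conjugating both sides by a permutation preserving `O` -/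
theorem EqOn.conj {f g : Perm α} {O : Set α} (h : EqOn f g O) (t : Perm α) (ht : Inv t O) :
    EqOn (t * f * t⁻¹) (t * g * t⁻¹) O := by
  intro y hy
  simp only [Perm.mul_apply]
  rw [h _ ((ht.inv y).2 hy)]

/-- **LB**: if `t₁`, `t₂` conjugate `q` to powers of `q` on `O`, then the commutator
`t₁⁻¹ t₂⁻¹ t₁ t₂` centralizes `q` on `O`. -/
theorem commutator_eqOn {q t₁ t₂ : Perm α} {O : Set α} (hq : Inv q O) (h₁ : Inv t₁ O)
    (h₂ : Inv t₂ O) {i j : ℕ} (e₁ : EqOn (t₁ * q * t₁⁻¹) (q ^ i) O)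
    (e₂ : EqOn (t₂ * q * t₂⁻¹) (q ^ j) O) :
    EqOn ((t₁⁻¹ * t₂⁻¹ * t₁ * t₂) * q * (t₁⁻¹ * t₂⁻¹ * t₁ * t₂)⁻¹) q O := by
  -- (t₁ t₂) q (t₁ t₂)⁻¹ ≡ q ^ (i * j)
  have a₁ : EqOn ((t₁ * t₂) * q * (t₁ * t₂)⁻¹) (q ^ (j * i)) O := by
    have s1 : EqOn (t₁ * (t₂ * q * t₂⁻¹) * t₁⁻¹) (t₁ * q ^ j * t₁⁻¹) O := e₂.conj t₁ h₁
    have s2 : EqOn (t₁ * q ^ j * t₁⁻¹) ((q ^ i) ^ j) O := by
      have : t₁ * q ^ j * t₁⁻¹ = (t₁ * q * t₁⁻¹) ^ j := by
        rw [conj_pow]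
      rw [this]
      exact e₁.pow (hq.pow i) j
    have s3 : (t₁ * t₂) * q * (t₁ * t₂)⁻¹ = t₁ * (t₂ * q * t₂⁻¹) * t₁⁻¹ := by group
    rw [s3, pow_mul']
    exact s1.trans s2
  have a₂ : EqOn ((t₂ * t₁) * q * (t₂ * t₁)⁻¹) (q ^ (j * i)) O := by
    have s1 : EqOn (t₂ * (t₁ * q * t₁⁻¹) * t₂⁻¹) (t₂ * q ^ i * t₂⁻¹) O := e₁.conj t₂ h₂
    have s2 : EqOn (t₂ * q ^ i * t₂⁻¹) ((q ^ j) ^ i) O := by
      have : t₂ * q ^ i * t₂⁻¹ = (t₂ * q * t₂⁻¹) ^ i := by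
        rw [conj_pow]
      rw [this]
      exact e₂.pow (hq.pow j) i
    have s3 : (t₂ * t₁) * q * (t₂ * t₁)⁻¹ = t₂ * (t₁ * q * t₁⁻¹) * t₂⁻¹ := by group
    rw [s3, pow_mul]
    exact s1.trans s2
  have a₃ : EqOn ((t₁ * t₂) * q * (t₁ * t₂)⁻¹) ((t₂ * t₁) * q * (t₂ * t₁)⁻¹) O :=
    a₁.trans a₂.symm
  have a₄ := a₃.conj (t₂ * t₁)⁻¹ ((h₂.mul h₁).inv)
  have e1 : (t₂ * t₁)⁻¹ * ((t₁ * t₂) * q * (t₁ * t₂)⁻¹) * ((t₂ * t₁)⁻¹)⁻¹ =
      (t₁⁻¹ * t₂⁻¹ * t₁ * t₂) * q * (t₁⁻¹ * t₂⁻¹ * t₁ * t₂)⁻¹ := by group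
  have e2 : (t₂ * t₁)⁻¹ * ((t₂ * t₁) * q * (t₂ * t₁)⁻¹) * ((t₂ * t₁)⁻¹)⁻¹ = q := by group
  rw [e1, e2] at a₄
  exact a₄

/-- **LC**: a permutation preserving `O` and centralizing on `O` a permutation `q` whose powers
act transitively on `O`, with `q ^ p` trivial on `O`, has trivial `p`-th power on `O`. -/
theorem pow_eqOn_one {q w : Perm α} {O : Set α} (hq : Inv q O) (hw : Inv w O)
    (hc : EqOn (w * q * w⁻¹) q O) {γ : α} (hγ : γ ∈ O)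
    (htr : ∀ y ∈ O, ∃ l : ℕ, y = (q ^ l) γ) {p : ℕ} (hp : EqOn (q ^ p) 1 O) :
    EqOn (w ^ p) 1 O := by
  -- w q = q w on O
  have hc' : ∀ y ∈ O, w (q y) = q (w y) := by
    intro y hy
    have := hc (w y) ((hw y).2 hy)
    simpa using this
  have hcpow : ∀ a : ℕ, ∀ y ∈ O, w ((q ^ a) y) = (q ^ a) (w y) := by
    intro a
    induction a with
    | zero => intro y _; simp
    | succ a ih =>
      intro y hy
      rw [pow_succ', Perm.mul_apply, Perm.mul_apply, hc' _ (((hq.pow a) y).2 hy), ih y hy]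
  obtain ⟨l, hl⟩ := htr (w γ) ((hw γ).2 hγ)
  have hwl : EqOn w (q ^ l) O := by
    intro y hy
    obtain ⟨a, ha⟩ := htr y hy
    rw [ha, hcpow a γ hγ, hl, ← Perm.mul_apply, ← Perm.mul_apply, ← pow_add, ← pow_add,
      add_comm]
  have h1 : EqOn (w ^ p) ((q ^ l) ^ p) O := hwl.pow (hq.pow l) p
  have h2 : EqOn ((q ^ l) ^ p) 1 O := by
    rw [← pow_mul, mul_comm, pow_mul]
    have := hp.pow (Inv.one O) l
    rwa [one_pow] at this
  exact h1.trans h2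

end Cfsg.Agent.Helper4.Miller
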