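import Mathlib
import Cfsg.Agent.Helper4.MillerA

set_option autoImplicit false

/-!
# Orbits of prime length of a `p`-group of permutations
-/

namespace Cfsg.Agent.Helper4.Miller

open Equiv MulAction

variable {α : Type*}

theorem inv_orbit (P : Subgroup (Perm α)) (γ : α) {q : Perm α} (hq : q ∈ P) :
    Inv q (orbit P γ) := by
  intro y
  constructor
  · rintro ⟨a, ha⟩
    refine ⟨(⟨q, hq⟩ : P)⁻¹ * a, ?_⟩
    have ha' : a • γ = q y := ha
    change ((⟨q, hq⟩ : P)⁻¹ * a) • γ = y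
    rw [mul_smul, ha']
    change q⁻¹ (q y) = y
    simp
  · rintro ⟨a, rfl⟩
    refine ⟨(⟨q, hq⟩ : P) * a, ?_⟩
    change ((⟨q, hq⟩ : P) * a) • γ = q (a • γ)
    rw [mul_smul]
    rfl

/-- Structure of a `p`-group acting on one of its orbits of length `p`. -/
theorem orbit_prime_structure [Finite α] {p : ℕ} [hp : Fact p.Prime] (P : Subgroup (Perm α))
    (hP : IsPGroup p P) (γ : α) (hcard : (orbit P γ).ncard = p)
    {q₀ : Perm α} (hq₀ : q₀ ∈ P) (hmove : q₀ γ ≠ γ) :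
    (∀ q ∈ P, ∃ i : ℕ, EqOn q (q₀ ^ i) (orbit P γ)) ∧ EqOn (q₀ ^ p) 1 (orbit P γ) ∧
      ∀ y ∈ orbit P γ, ∃ l : ℕ, y = (q₀ ^ l) γ := by
  classical
  have hfinP : Finite P := inferInstance
  set S : Subgroup P := stabilizer P γ with hS
  have hidx : S.index = p := by rw [hS, index_stabilizer, hcard]
  obtain ⟨n, hn⟩ := IsPGroup.iff_card.1 hP
  have hn0 : n ≠ 0 := by
    rintro rfl
    have h1 : S.index ∣ Nat.card P := Subgroup.index_dvd_card S
    rw [hidx, hn, pow_zero] at h1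
    exact hp.out.one_lt.ne' (Nat.dvd_one.1 h1)
  have hnormal : S.Normal := by
    apply Subgroup.normal_of_index_eq_minFac_card
    rw [hidx, hn, hp.out.pow_minFac hn0]
  -- S fixes the orbit pointwise
  have hSfix : ∀ s ∈ S, ∀ y ∈ orbit P γ, (s : Perm α) y = y := by
    rintro s hs _ ⟨a, rfl⟩
    have h1 : a⁻¹ * s * a ∈ S := by
      have := hnormal.conj_mem s hs a⁻¹
      simpa using this
    have h2 : (a⁻¹ * s * a) • γ = γ := h1
    change s • (a • γ) = a • γ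
    have h3 : s • (a • γ) = a • ((a⁻¹ * s * a) • γ) := by
      simp only [← mul_smul]
      congr 1
      group
    rw [h3, h2]
  have hcardQ : Nat.card (P ⧸ S) = p := by rw [← Subgroup.index_eq_card, hidx]
  have hq₀S : ((⟨q₀, hq₀⟩ : P) : P ⧸ S) ≠ 1 := by
    intro h
    rw [QuotientGroup.eq_one_iff] at h
    exact hmove h
  have key : ∀ q ∈ P, ∃ i : ℕ, EqOn q (q₀ ^ i) (orbit P γ) := by
    intro q hq
    have hmem : ((⟨q, hq⟩ : P) : P ⧸ S) ∈ Subgroup.zpowers ((⟨q₀, hq₀⟩ : P) : P ⧸ S) :=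
      mem_zpowers_of_prime_card hcardQ hq₀S
    have : Finite (P ⧸ S) := Nat.finite_of_card_ne_zero (by rw [hcardQ]; exact hp.out.ne_zero)
    rw [← mem_powers_iff_mem_zpowers] at hmem
    obtain ⟨i, hi⟩ := hmem
    refine ⟨i, ?_⟩
    have hi' : (((⟨q₀, hq₀⟩ : P) ^ i : P) : P ⧸ S) = ((⟨q, hq⟩ : P) : P ⧸ S) := by
      rw [QuotientGroup.mk_pow]; exact hi
    rw [QuotientGroup.eq] at hi'
    intro y hy
    have h4 := hSfix _ hi' y hy
    have h5 : ((((⟨q₀, hq₀⟩ : P) ^ i)⁻¹ * (⟨q, hq⟩ : P) : P) : Perm α) = (q₀ ^ i)⁻¹ * q := by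
      simp
    rw [h5, Perm.mul_apply] at h4
    exact Perm.inv_eq_iff_eq.1 h4
  refine ⟨key, ?_, ?_⟩
  · intro y hy
    have h1 : (⟨q₀, hq₀⟩ : P) ^ S.index ∈ S := Subgroup.pow_index_mem S _
    rw [hidx] at h1
    have := hSfix _ h1 y hy
    simpa using this
  · rintro _ ⟨a, rfl⟩
    obtain ⟨l, hl⟩ := key a.1 a.2
    refine ⟨l, ?_⟩
    have := hl γ (mem_orbit_self γ)
    rw [← this]
    rfl

theorem exists_move (P : Subgroup (Perm α)) (γ : α) (h : 1 < (orbit P γ).ncard) :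
    ∃ q₀ ∈ P, q₀ γ ≠ γ := by
  by_contra hcon
  push Not at hcon
  have : orbit P γ = {γ} := by
    ext y
    constructor
    · rintro ⟨a, rfl⟩
      exact hcon a.1 a.2
    · rintro rfl
      exact mem_orbit_self _
  rw [this, Set.ncard_singleton] at h
  exact lt_irrefl _ h

/-- in an orbit of length `p` of a `p`-group, the stabilizer of a point fixes the whole orbit -/
theorem stabilizer_fixes_orbit [Finite α] {p : ℕ} [hp : Fact p.Prime] (P : Subgroup (Perm α))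
    (hP : IsPGroup p P) (γ : α) (hcard : (orbit P γ).ncard = p) {q : Perm α} (hq : q ∈ P)
    (hqγ : q γ = γ) {y : α} (hy : y ∈ orbit P γ) : q y = y := by
  obtain ⟨q₀, hq₀, hmove⟩ := exists_move P γ (by rw [hcard]; exact hp.out.one_lt)
  obtain ⟨h1, _, h3⟩ := orbit_prime_structure P hP γ hcard hq₀ hmove
  obtain ⟨i, hi⟩ := h1 q hq
  obtain ⟨l, rfl⟩ := h3 y hy
  have e1 : (q₀ ^ i) γ = γ := by rw [← hi γ (mem_orbit_self γ), hqγ]
  rw [hi _ hy, ← Perm.mul_apply, ← pow_add, add_comm, pow_add, Perm.mul_apply, e1]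

end Cfsg.Agent.Helper4.Miller
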