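import Mathlib
import Cfsg.Agent.Helper4.MillerB

set_option autoImplicit false

/-!
# Orbits of a Sylow subgroup of a transitive group of degree `k * p`, `k < p`
-/

namespace Cfsg.Agent.Helper4.Miller

open Equiv MulAction

variable {α : Type*}

theorem orbit_subset_of_le {P H : Subgroup (Perm α)} (hle : P ≤ H) (γ : α) :
    orbit P γ ⊆ orbit H γ := by
  rintro _ ⟨a, rfl⟩
  exact ⟨⟨a.1, hle a.2⟩, rfl⟩

theorem card_eq_orbit_mul_stabilizer (H : Subgroup (Perm α)) (γ : α) :
    Nat.card H = (orbit H γ).ncard * Nat.card (stabilizer H γ) := by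
  rw [← index_stabilizer, Subgroup.index_mul_card]

/-- If `P ≤ H` has order the full `p`-part of `|H|` and the `H`-orbit of `γ` has `k * p` points
with `1 ≤ k < p`, then the `P`-orbit of `γ` has exactly `p` points. -/
theorem sylow_orbit_card [Finite α] {p : ℕ} [hp : Fact p.Prime] {P H : Subgroup (Perm α)} (hle : P ≤ H)
    (hcard : Nat.card P = p ^ (Nat.card H).factorization p) (γ : α) {k : ℕ} (hk : 1 ≤ k)
    (hkp : k < p) (horb : (orbit H γ).ncard = k * p) : (orbit P γ).ncard = p := by
  classical
  have hpp := hp.out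
  have hfin : Finite (Perm α) := inferInstance
  set a := (Nat.card H).factorization p with ha
  have e1 := card_eq_orbit_mul_stabilizer H γ
  have e2 := card_eq_orbit_mul_stabilizer P γ
  set sH := Nat.card (stabilizer H γ) with hsH
  set sP := Nat.card (stabilizer P γ) with hsP
  set o := (orbit P γ).ncard with ho
  have hsH0 : sH ≠ 0 := Nat.card_pos.ne'
  have hk0 : k ≠ 0 := by omega
  have hpk : ¬ p ∣ k := fun h => by
    have := Nat.le_of_dvd (by omega) h
    omega
  -- valuation of |H|
  have hva : a = 1 + sH.factorization p := by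
    rw [ha, e1, horb, Nat.factorization_mul (Nat.mul_ne_zero hk0 hpp.ne_zero) hsH0,
      Nat.factorization_mul hk0 hpp.ne_zero]
    simp only [Finsupp.coe_add, Pi.add_apply]
    rw [Nat.factorization_eq_zero_of_not_dvd hpk, hpp.factorization_self]
  -- sP divides sH
  have hdvd : sP ∣ sH := by
    let f : stabilizer P γ →* stabilizer H γ :=
      { toFun := fun s => ⟨⟨s.1.1, hle s.1.2⟩, by
          have := s.2
          rw [mem_stabilizer_iff] at this ⊢
          exact this⟩
        map_one' := rfl
        map_mul' := fun _ _ => rfl }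
    apply Subgroup.card_dvd_of_injective f
    intro s t hst
    have : (s.1.1 : Perm α) = t.1.1 := by
      have := congrArg (fun u : stabilizer H γ => (u.1.1 : Perm α)) hst
      exact this
    exact Subtype.ext (Subtype.ext this)
  -- o * sP = p ^ a
  have e3 : o * sP = p ^ a := by rw [← e2, hcard]
  obtain ⟨c, hca, hc⟩ := (Nat.dvd_prime_pow hpp).1 (Dvd.intro _ e3)
  obtain ⟨b, hba, hb⟩ := (Nat.dvd_prime_pow hpp).1 (Dvd.intro_left _ e3)
  have hcb : c + b = a := by
    have : p ^ (c + b) = p ^ a := by rw [pow_add, ← hc, ← hb, e3]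
    exact Nat.pow_right_injective hpp.two_le this
  have hb' : b ≤ sH.factorization p := by
    rw [← hpp.pow_dvd_iff_le_factorization hsH0, ← hb]
    exact hdvd
  have hc1 : 1 ≤ c := by omega
  -- o ≤ k * p < p * p
  have hole : o ≤ k * p := by
    rw [← horb]
    exact Set.ncard_le_ncard (orbit_subset_of_le hle γ) (Set.toFinite _)
  have hlt : p ^ c < p ^ 2 := by
    rw [← hc, pow_two]
    calc o ≤ k * p := hole
      _ < p * p := Nat.mul_lt_mul_of_pos_right hkp hpp.pos
  have hc2 : c < 2 := (Nat.pow_lt_pow_iff_right hpp.one_lt).1 hlt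
  have : c = 1 := by omega
  rw [hc, this, pow_one]

end Cfsg.Agent.Helper4.Miller
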