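import Mathlib
import Cfsg.Agent.Helper4.MillerC

set_option autoImplicit false

/-!
# The basic setting for Miller's theorem
-/

namespace Cfsg.Agent.Helper4.Miller

open Equiv MulAction

variable {α : Type*} [Fintype α]

/-- The data used throughout: `P` is a `p`-subgroup of `G` fixing the points `x i`, all of whose
other orbits have length `p`. -/
structure Setup (G : Subgroup (Perm α)) (p k r : ℕ) (x : Fin r ↪ α) (P : Subgroup (Perm α)) :
    Prop where
  prime : p.Prime
  le : P ≤ G
  pgroup : IsPGroup p P
  fix : ∀ q ∈ P, ∀ i, q (x i) = x i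
  orb : ∀ γ, γ ∉ Set.range x → (orbit P γ).ncard = p
  card : Fintype.card α = k * p + r

end Cfsg.Agent.Helper4.Miller
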