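import Mathlib
import Cfsg.Agent.Helper4.MillerD

set_option autoImplicit false

/-!
# The normalizer of `P`: action on the orbits of `P`, and the engine lemmas
-/

namespace Cfsg.Agent.Helper4.Miller

open Equiv MulAction Pointwise

variable {α : Type*} [Fintype α]

/-- `g` normalizes `P` -/
def Nrm (P : Subgroup (Perm α)) (g : Perm α) : Prop := ∀ q, q ∈ P ↔ g * q * g⁻¹ ∈ P

omit [Fintype α] in
theorem Nrm.one (P : Subgroup (Perm α)) : Nrm P 1 := fun q => by simp

omit [Fintype α] in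
theorem Nrm.inv {P : Subgroup (Perm α)} {g : Perm α} (h : Nrm P g) : Nrm P g⁻¹ := by
  intro q
  rw [h (g⁻¹ * q * g⁻¹⁻¹)]
  have : g * (g⁻¹ * q * g⁻¹⁻¹) * g⁻¹ = q := by group
  rw [this]

omit [Fintype α] in
theorem Nrm.mul {P : Subgroup (Perm α)} {g h : Perm α} (hg : Nrm P g) (hh : Nrm P h) :
    Nrm P (g * h) := by
  intro q
  rw [hh q, hg (h * q * h⁻¹)]
  have : g * (h * q * h⁻¹) * g⁻¹ = g * h * q * (g * h)⁻¹ := by group
  rw [this]

omit [Fintype α] in
theorem Nrm.pow {P : Subgroup (Perm α)} {g : Perm α} (hg : Nrm P g) (n : ℕ) : Nrm P (g ^ n) := by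
  induction n with
  | zero => rw [pow_zero]; exact Nrm.one P
  | succ n ih => rw [pow_succ]; exact ih.mul hg

theorem Nrm.of_forall {P : Subgroup (Perm α)} {g : Perm α} (h : ∀ q ∈ P, g * q * g⁻¹ ∈ P) :
    Nrm P g := by
  classical
  have : g ∈ Subgroup.normalizer (P : Set (Perm α)) :=
    Subgroup.mem_normalizer_fintype h
  exact Subgroup.mem_normalizer_iff.1 this

omit [Fintype α] in
theorem Nrm.of_mem {P : Subgroup (Perm α)} {g : Perm α} (h : g ∈ P) : Nrm P g := by
  intro q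
  constructor
  · intro hq
    exact P.mul_mem (P.mul_mem h hq) (P.inv_mem h)
  · intro hq
    have : q = g⁻¹ * (g * q * g⁻¹) * g := by group
    rw [this]
    exact P.mul_mem (P.mul_mem (P.inv_mem h) hq) h

omit [Fintype α] in
/-- a normalizing element maps orbits to orbits -/
theorem Nrm.map_orbit {P : Subgroup (Perm α)} {g : Perm α} (hg : Nrm P g) (γ y : α)
    (hy : y ∈ orbit P γ) : g y ∈ orbit P (g γ) := by
  obtain ⟨q, rfl⟩ := hy
  refine ⟨⟨g * q.1 * g⁻¹, (hg q.1).1 q.2⟩, ?_⟩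
  change (g * q.1 * g⁻¹) (g γ) = g (q.1 γ)
  simp

omit [Fintype α] in
theorem Nrm.smul_orbit {P : Subgroup (Perm α)} {g : Perm α} (hg : Nrm P g) (γ : α) :
    g • orbit P γ = orbit P (g γ) := by
  ext y
  rw [Set.mem_smul_set_iff_inv_smul_mem]
  constructor
  · intro h
    have := hg.map_orbit γ _ h
    simpa using this
  · intro h
    have := hg.inv.map_orbit (g γ) y h
    simpa using this

namespace Setup

variable {G : Subgroup (Perm α)} {p k r : ℕ} {x : Fin r ↪ α} {P : Subgroup (Perm α)}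

theorem one_lt_p (S : Setup G p k r x P) : 1 < p := S.prime.one_lt

theorem fixed_of_mem_range (S : Setup G p k r x P) {γ : α} (hγ : γ ∈ Set.range x) {q : Perm α}
    (hq : q ∈ P) : q γ = γ := by
  obtain ⟨i, rfl⟩ := hγ
  exact S.fix q hq i

theorem exists_move (S : Setup G p k r x P) {γ : α} (hγ : γ ∉ Set.range x) :
    ∃ q₀ ∈ P, q₀ γ ≠ γ :=
  Miller.exists_move P γ (by rw [S.orb γ hγ]; exact S.one_lt_p)

/-- points of a long orbit are not fixed points -/
theorem not_mem_range_of_mem_orbit (S : Setup G p k r x P) {γ y : α} (hγ : γ ∉ Set.range x)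
    (hy : y ∈ orbit P γ) : y ∉ Set.range x := by
  intro hyr
  obtain ⟨q, rfl⟩ := hy
  apply hγ
  have h1 : q.1 (q • γ) = q • γ := S.fixed_of_mem_range hyr q.2
  have h2 : q.1 γ = γ := q.1.injective h1
  change q.1 γ ∈ Set.range x at hyr
  rwa [h2] at hyr

/-- a normalizing element preserves the set of fixed points -/
theorem nrm_not_mem_range (S : Setup G p k r x P) {g : Perm α} (hg : Nrm P g) {γ : α}
    (hγ : γ ∉ Set.range x) : g γ ∉ Set.range x := by
  intro h
  obtain ⟨q₀, hq₀, hmove⟩ := S.exists_move hγ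
  apply hmove
  have h1 : g * q₀ * g⁻¹ ∈ P := (hg q₀).1 hq₀
  have h2 := S.fixed_of_mem_range h h1
  simp only [Perm.mul_apply] at h2
  have h3 : g⁻¹ (g γ) = γ := by simp
  rw [h3] at h2
  exact g.injective h2

theorem nrm_mem_range (S : Setup G p k r x P) {g : Perm α} (hg : Nrm P g) {γ : α}
    (hγ : γ ∈ Set.range x) : g γ ∈ Set.range x := by
  by_contra h
  have := S.nrm_not_mem_range hg.inv h
  have h3 : g⁻¹ (g γ) = γ := by simp
  rw [h3] at this
  exact this hγ

/-- `g` fixes every long orbit of `P` -/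
def FixOrb (_S : Setup G p k r x P) (g : Perm α) : Prop :=
  ∀ γ, γ ∉ Set.range x → g γ ∈ orbit P γ

theorem inv_of_fixOrb (S : Setup G p k r x P) {g : Perm α} (hg : Nrm P g) (hf : S.FixOrb g)
    {γ : α} (hγ : γ ∉ Set.range x) : Inv g (orbit P γ) := by
  intro y
  constructor
  · intro hy
    by_cases hyr : y ∈ Set.range x
    · exact absurd (S.nrm_mem_range hg hyr) (S.not_mem_range_of_mem_orbit hγ hy)
    · have h1 : g y ∈ orbit P y := hf y hyr
      have h2 : orbit P (g y) = orbit P y := orbit_eq_iff.2 h1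
      have h3 : orbit P (g y) = orbit P γ := orbit_eq_iff.2 hy
      rw [← orbit_eq_iff, ← h3, h2]
  · intro hy
    have h1 := hg.map_orbit γ y hy
    have h2 : orbit P (g γ) = orbit P γ := orbit_eq_iff.2 (hf γ hγ)
    rwa [h2] at h1

/-- **Engine**: if `c` normalizes `P`, fixes every long orbit, and on each long orbit commutes
with an element of `P` moving the base point, then `c ^ p` fixes every non-fixed point of `P`. -/
theorem pow_fix_of_commute (S : Setup G p k r x P) {c : Perm α} (hc : Nrm P c) (hf : S.FixOrb c)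
    {γ : α} (hγ : γ ∉ Set.range x) {q₀ : Perm α} (hq₀ : q₀ ∈ P) (hmove : q₀ γ ≠ γ)
    (hcomm : EqOn (c * q₀ * c⁻¹) q₀ (orbit P γ)) : (c ^ p) γ = γ := by
  have : Fact p.Prime := ⟨S.prime⟩
  obtain ⟨_, h2, h3⟩ := orbit_prime_structure P S.pgroup γ (S.orb γ hγ) hq₀ hmove
  have := pow_eqOn_one (inv_orbit P γ hq₀) (S.inv_of_fixOrb hc hf hγ) hcomm (mem_orbit_self γ) h3 h2
  exact this γ (mem_orbit_self γ)

/-- **Engine, commutator form**: for `u`, `v` normalizing `P` and fixing every long orbit, the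
`p`-th power of `u⁻¹ v⁻¹ u v` fixes every non-fixed point of `P`. -/
theorem commutator_pow_fix (S : Setup G p k r x P) {u v : Perm α} (hu : Nrm P u) (hv : Nrm P v)
    (hfu : S.FixOrb u) (hfv : S.FixOrb v) {γ : α} (hγ : γ ∉ Set.range x) :
    ((u⁻¹ * v⁻¹ * u * v) ^ p) γ = γ := by
  have : Fact p.Prime := ⟨S.prime⟩
  obtain ⟨q₀, hq₀, hmove⟩ := S.exists_move hγ
  obtain ⟨h1, _, _⟩ := orbit_prime_structure P S.pgroup γ (S.orb γ hγ) hq₀ hmove
  obtain ⟨i, hi⟩ := h1 _ ((hu q₀).1 hq₀)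
  obtain ⟨j, hj⟩ := h1 _ ((hv q₀).1 hq₀)
  have hIu := S.inv_of_fixOrb hu hfu hγ
  have hIv := S.inv_of_fixOrb hv hfv hγ
  have hcomm := commutator_eqOn (inv_orbit P γ hq₀) hIu hIv hi hj
  have hw : Nrm P (u⁻¹ * v⁻¹ * u * v) := ((hu.inv.mul hv.inv).mul hu).mul hv
  have hfw : S.FixOrb (u⁻¹ * v⁻¹ * u * v) := by
    intro δ hδ
    have hIu' := S.inv_of_fixOrb hu hfu hδ
    have hIv' := S.inv_of_fixOrb hv hfv hδ
    exact ((((hIu'.inv.mul hIv'.inv).mul hIu').mul hIv') δ).2 (mem_orbit_self δ)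
  exact S.pow_fix_of_commute hw hfw hγ hq₀ hmove hcomm

/-- `g` induces `σ` on the fixed points -/
def Lifts (_S : Setup G p k r x P) (g : Perm α) (σ : Perm (Fin r)) : Prop :=
  ∀ i, g (x i) = x (σ i)

theorem Lifts.one (S : Setup G p k r x P) : S.Lifts 1 1 := fun _ => rfl

theorem Lifts.mul {S : Setup G p k r x P} {g h : Perm α} {σ τ : Perm (Fin r)} (hg : S.Lifts g σ)
    (hh : S.Lifts h τ) : S.Lifts (g * h) (σ * τ) := by
  intro i
  rw [Perm.mul_apply, hh i, hg (τ i), Perm.mul_apply]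

theorem Lifts.inv {S : Setup G p k r x P} {g : Perm α} {σ : Perm (Fin r)} (hg : S.Lifts g σ) :
    S.Lifts g⁻¹ σ⁻¹ := by
  intro i
  rw [Perm.inv_eq_iff_eq, hg (σ⁻¹ i)]
  simp

theorem Lifts.pow {S : Setup G p k r x P} {g : Perm α} {σ : Perm (Fin r)} (hg : S.Lifts g σ)
    (n : ℕ) : S.Lifts (g ^ n) (σ ^ n) := by
  induction n with
  | zero => rw [pow_zero, pow_zero]; exact Lifts.one S
  | succ n ih => rw [pow_succ, pow_succ]; exact ih.mul hg

/-- **E3**: an element trivial off the fixed points and inducing `σ` on them is `σ` transported. -/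
theorem eq_viaEmbedding (S : Setup G p k r x P) {g : Perm α} {σ : Perm (Fin r)}
    (hg : S.Lifts g σ) (hfix : ∀ γ, γ ∉ Set.range x → g γ = γ) : g = σ.viaEmbedding x := by
  ext y
  by_cases hy : y ∈ Set.range x
  · obtain ⟨i, rfl⟩ := hy
    rw [Perm.viaEmbedding_apply, hg i]
  · rw [Perm.viaEmbedding_apply_of_notMem _ _ _ hy, hfix y hy]

/-- every permutation of the fixed points is induced by the normalizer of `P` in `G` -/
def Witt (S : Setup G p k r x P) : Prop :=
  ∀ σ : Perm (Fin r), ∃ g ∈ G, Nrm P g ∧ S.Lifts g σ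

/-- every even permutation of the fixed points is induced by the normalizer of `P` in `G` -/
def WittAlt (S : Setup G p k r x P) : Prop :=
  ∀ σ : Perm (Fin r), σ ∈ alternatingGroup (Fin r) → ∃ g ∈ G, Nrm P g ∧ S.Lifts g σ

theorem Witt.alt {S : Setup G p k r x P} (h : S.Witt) : S.WittAlt :=
  fun σ _ => h σ

end Setup

end Cfsg.Agent.Helper4.Miller
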