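import Mathlib
import Cfsg.Agent.Helper4.MillerE

set_option autoImplicit false

/-!
# The action of the normalizer on the long orbits
-/

namespace Cfsg.Agent.Helper4.Miller

open Equiv MulAction Pointwise

variable {α : Type*} [Fintype α]

namespace Setup

variable {G : Subgroup (Perm α)} {p k r : ℕ} {x : Fin r ↪ α} {P : Subgroup (Perm α)}

open Classical in
/-- the long orbits of `P` -/
noncomputable def orbFin (_S : Setup G p k r x P) : Finset (Set α) :=
  (Finset.univ.filter (fun γ => γ ∉ Set.range x)).image (fun γ => orbit P γ)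

theorem mem_orbFin (S : Setup G p k r x P) {O : Set α} :
    O ∈ S.orbFin ↔ ∃ γ, γ ∉ Set.range x ∧ orbit P γ = O := by
  classical
  simp [orbFin]

theorem card_orbFin (S : Setup G p k r x P) : S.orbFin.card = k := by
  classical
  set s : Finset α := Finset.univ.filter (fun γ => γ ∉ Set.range x) with hs
  have hscard : s.card = k * p := by
    have h1 := Finset.card_filter_add_card_filter_not (s := (Finset.univ : Finset α))
      (fun γ => γ ∈ Set.range x)
    have h2 : (Finset.univ.filter (fun γ => γ ∈ Set.range x)).card = r := by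
      have : Finset.univ.filter (fun γ => γ ∈ Set.range x) = Finset.univ.image x := by
        ext y
        simp
      rw [this, Finset.card_image_of_injective _ x.injective, Finset.card_univ, Fintype.card_fin]
    rw [h2, Finset.card_univ, S.card] at h1
    rw [hs]
    omega
  have hmaps : Set.MapsTo (fun γ => orbit P γ) (s : Set α) (S.orbFin : Set (Set α)) := by
    intro γ hγ
    rw [Finset.mem_coe, S.mem_orbFin]
    rw [Finset.mem_coe, hs, Finset.mem_filter] at hγ
    exact ⟨γ, hγ.2, rfl⟩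
  have h3 := Finset.card_eq_sum_card_fiberwise hmaps
  have h4 : ∀ b ∈ S.orbFin, (s.filter (fun a => orbit P a = b)).card = p := by
    intro b hb
    obtain ⟨γ₀, hγ₀, rfl⟩ := S.mem_orbFin.1 hb
    rw [← Set.ncard_coe_finset, ← S.orb γ₀ hγ₀]
    congr 1
    ext a
    simp only [Finset.coe_filter, Set.mem_ofPred_eq, hs, Finset.mem_filter, Finset.mem_univ,
      true_and]
    constructor
    · rintro ⟨_, h⟩
      rw [← h]
      exact mem_orbit_self a
    · intro h
      exact ⟨S.not_mem_range_of_mem_orbit hγ₀ h, orbit_eq_iff.2 h⟩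
  rw [Finset.sum_congr rfl h4, Finset.sum_const, smul_eq_mul, hscard] at h3
  exact (Nat.eq_of_mul_eq_mul_right S.prime.pos h3).symm

/-- the normalizer of `P` in `G` -/
def Nsub (_S : Setup G p k r x P) : Subgroup (Perm α) where
  carrier := {g | g ∈ G ∧ Nrm P g}
  one_mem' := ⟨G.one_mem, Nrm.one P⟩
  mul_mem' := fun ha hb => ⟨G.mul_mem ha.1 hb.1, ha.2.mul hb.2⟩
  inv_mem' := fun ha => ⟨G.inv_mem ha.1, ha.2.inv⟩

theorem mem_Nsub (S : Setup G p k r x P) {g : Perm α} : g ∈ S.Nsub ↔ g ∈ G ∧ Nrm P g := Iff.rfl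

/-- the action on long orbits -/
def orbSub (S : Setup G p k r x P) : SubMulAction S.Nsub (Set α) where
  carrier := {O | O ∈ S.orbFin}
  smul_mem' := by
    rintro g O hO
    obtain ⟨γ, hγ, rfl⟩ := S.mem_orbFin.1 hO
    change (g : Perm α) • orbit P γ ∈ S.orbFin
    rw [g.2.2.smul_orbit γ, S.mem_orbFin]
    exact ⟨_, S.nrm_not_mem_range g.2.2 hγ, rfl⟩

theorem mem_orbSub (S : Setup G p k r x P) {O : Set α} : O ∈ S.orbSub ↔ O ∈ S.orbFin := Iff.rfl

instance (S : Setup G p k r x P) : Finite S.orbSub :=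
  Finite.of_injective (fun O : S.orbSub => (⟨O.1, O.2⟩ : S.orbFin))
    (fun a b h => Subtype.ext (congrArg (fun z : S.orbFin => (z : Set α)) h))

theorem card_orbSub (S : Setup G p k r x P) : Nat.card S.orbSub = k := by
  classical
  have e : S.orbSub ≃ S.orbFin :=
    { toFun := fun O => ⟨O.1, O.2⟩
      invFun := fun O => ⟨O.1, O.2⟩
      left_inv := fun _ => rfl
      right_inv := fun _ => rfl }
  rw [Nat.card_congr e, Nat.card_eq_fintype_card, Fintype.card_coe, S.card_orbFin]

/-- the permutation representation on the long orbits -/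
noncomputable def phi (S : Setup G p k r x P) : S.Nsub →* Perm S.orbSub :=
  MulAction.toPermHom S.Nsub S.orbSub

theorem fixOrb_of_phi_eq_one (S : Setup G p k r x P) {g : S.Nsub} (hg : S.phi g = 1) :
    S.FixOrb (g : Perm α) := by
  intro γ hγ
  have hO : orbit P γ ∈ S.orbSub := S.mem_orbFin.2 ⟨γ, hγ, rfl⟩
  have h1 : S.phi g ⟨orbit P γ, hO⟩ = ⟨orbit P γ, hO⟩ := by rw [hg]; rfl
  have h2 : (g : Perm α) • orbit P γ = orbit P γ := congrArg Subtype.val h1
  rw [g.2.2.smul_orbit γ, orbit_eq_iff] at h2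
  exact h2

theorem two_mul_factorial_lt {k r : ℕ} (h3 : 3 ≤ r) (hkr : k < r) :
    2 * k.factorial < r.factorial := by
  obtain ⟨m, rfl⟩ : ∃ m, r = m + 1 := ⟨r - 1, by omega⟩
  rw [Nat.factorial_succ]
  have h1 : k.factorial ≤ m.factorial := Nat.factorial_le (by omega)
  have h2 : 0 < k.factorial := Nat.factorial_pos k
  nlinarith

/-- **Stage 1**: if `r ≥ 5` and `k < r`, every even permutation of the fixed points is induced by
an element of the normalizer fixing all long orbits. -/
theorem exists_lift_fixOrb (S : Setup G p k r x P) (hW : S.WittAlt) (h5 : 5 ≤ r) (hkr : k < r)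
    (ρ : Perm (Fin r)) (hρ : ρ ∈ alternatingGroup (Fin r)) :
    ∃ g ∈ G, Nrm P g ∧ S.FixOrb g ∧ S.Lifts g ρ := by
  classical
  have hsimple : IsSimpleGroup (alternatingGroup (Fin r)) :=
    alternatingGroup.isSimpleGroup (by rw [Nat.card_eq_fintype_card, Fintype.card_fin]; exact h5)
  -- the subgroup of liftable even permutations
  let M : Subgroup (alternatingGroup (Fin r)) :=
    { carrier := {ρ | ∃ g : S.Nsub, S.phi g = 1 ∧ S.Lifts (g : Perm α) (ρ : Perm (Fin r))}
      one_mem' := ⟨1, map_one _, Lifts.one S⟩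
      mul_mem' := by
        rintro a b ⟨g, hg1, hg2⟩ ⟨h, hh1, hh2⟩
        exact ⟨g * h, by rw [map_mul, hg1, hh1, one_mul], hg2.mul hh2⟩
      inv_mem' := by
        rintro a ⟨g, hg1, hg2⟩
        exact ⟨g⁻¹, by rw [map_inv, hg1, inv_one], hg2.inv⟩ }
  have hMn : M.Normal := by
    constructor
    rintro a ⟨g, hg1, hg2⟩ τ
    obtain ⟨h, hhG, hhN, hhL⟩ := hW (τ : Perm (Fin r)) τ.2
    refine ⟨⟨h, hhG, hhN⟩ * g * ⟨h, hhG, hhN⟩⁻¹, ?_, ?_⟩
    · rw [map_mul, map_mul, hg1, mul_one, map_inv, mul_inv_cancel]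
    · exact (hhL.mul hg2).mul hhL.inv
  have hMne : M ≠ ⊥ := by
    -- pigeonhole
    have hlift : ∀ σ : alternatingGroup (Fin r), ∃ g : S.Nsub,
        S.Lifts (g : Perm α) (σ : Perm (Fin r)) := by
      intro σ
      obtain ⟨h, hhG, hhN, hhL⟩ := hW (σ : Perm (Fin r)) σ.2
      exact ⟨⟨h, hhG, hhN⟩, hhL⟩
    choose lift hlift' using hlift
    haveI : Fintype (Perm S.orbSub) := Fintype.ofFinite _
    have hcard : Fintype.card (Perm S.orbSub) < Fintype.card (alternatingGroup (Fin r)) := by
      have h1 : Fintype.card (Perm S.orbSub) = k.factorial := by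
        rw [← Nat.card_eq_fintype_card, Nat.card_perm, S.card_orbSub]
      haveI : Nontrivial (Fin r) := Fin.nontrivial_iff_two_le.2 (by omega)
      have h2 := two_mul_card_alternatingGroup (α := Fin r)
      rw [Fintype.card_perm, Fintype.card_fin] at h2
      have h3 := two_mul_factorial_lt (k := k) (r := r) (by omega) hkr
      rw [h1]
      omega
    obtain ⟨σ, τ, hne, heq⟩ := Fintype.exists_ne_map_eq_of_card_lt (fun σ => S.phi (lift σ)) hcard
    intro hbot
    have hmem : σ⁻¹ * τ ∈ M := by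
      refine ⟨(lift σ)⁻¹ * lift τ, ?_, ?_⟩
      · rw [map_mul, map_inv]
        have : S.phi (lift σ) = S.phi (lift τ) := heq
        rw [this, inv_mul_cancel]
      · exact (hlift' σ).inv.mul (hlift' τ)
    rw [hbot, Subgroup.mem_bot, inv_mul_eq_one] at hmem
    exact hne hmem
  have hMtop : M = ⊤ := (hMn.eq_bot_or_eq_top).resolve_left hMne
  have : (⟨ρ, hρ⟩ : alternatingGroup (Fin r)) ∈ M := by rw [hMtop]; trivial
  obtain ⟨g, hg1, hg2⟩ := this
  exact ⟨g.1, g.2.1, g.2.2, S.fixOrb_of_phi_eq_one hg1, hg2⟩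

end Setup

end Cfsg.Agent.Helper4.Miller
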