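import Mathlib
import Cfsg.Agent.Helper4.MillerF

set_option autoImplicit false

/-!
# Elements of small support in multiply transitive groups
-/

namespace Cfsg.Agent.Helper4.Miller

open Equiv MulAction

variable {α : Type*} [Fintype α] [DecidableEq α]

theorem le_of_isThreeCycle (G : Subgroup (Perm α)) (h2 : IsMultiplyPretransitive G α 2)
    {g : Perm α} (h3 : g.IsThreeCycle) (hg : g ∈ G) : alternatingGroup α ≤ G :=
  Perm.alternatingGroup_le_of_isPreprimitive_of_isThreeCycle_mem
    (isPreprimitive_of_is_two_pretransitive h2) h3 hg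

theorem le_of_isSwap (G : Subgroup (Perm α)) (h2 : IsMultiplyPretransitive G α 2)
    {g : Perm α} (h3 : g.IsSwap) (hg : g ∈ G) : alternatingGroup α ≤ G := by
  rw [Perm.subgroup_eq_top_of_isPreprimitive_of_isSwap_mem
    (isPreprimitive_of_is_two_pretransitive h2) g h3 hg]
  exact le_top

/-- four distinct points as an embedding -/
def emb4 (a b c d : α) (hab : a ≠ b) (hac : a ≠ c) (had : a ≠ d) (hbc : b ≠ c) (hbd : b ≠ d)
    (hcd : c ≠ d) : Fin 4 ↪ α :=
  ⟨![a, b, c, d], by
    intro i j h
    fin_cases i <;> fin_cases j <;> simp_all⟩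

omit [Fintype α] in
theorem viaEmbedding_swap {β : Type*} [DecidableEq β] (e : β ↪ α) (a b : β) :
    (swap a b).viaEmbedding e = swap (e a) (e b) := by
  ext y
  by_cases hy : y ∈ Set.range e
  · obtain ⟨z, rfl⟩ := hy
    rw [Perm.viaEmbedding_apply]
    by_cases hza : z = a
    · subst hza; simp
    · by_cases hzb : z = b
      · subst hzb; simp
      · rw [swap_apply_of_ne_of_ne hza hzb, swap_apply_of_ne_of_ne (fun h => hza (e.injective h))
          (fun h => hzb (e.injective h))]
  · rw [Perm.viaEmbedding_apply_of_notMem _ _ _ hy, swap_apply_of_ne_of_ne]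
    · rintro rfl; exact hy ⟨a, rfl⟩
    · rintro rfl; exact hy ⟨b, rfl⟩

/-- a `4`-transitive group of degree at least `5` containing a double transposition contains the
alternating group. -/
theorem le_of_double_swap (G : Subgroup (Perm α)) (h4 : IsMultiplyPretransitive G α 4)
    (h5 : 5 ≤ Fintype.card α) {a b c d : α} (hab : a ≠ b) (hac : a ≠ c) (had : a ≠ d)
    (hbc : b ≠ c) (hbd : b ≠ d) (hcd : c ≠ d) (hg : swap a b * swap c d ∈ G) :
    alternatingGroup α ≤ G := by
  have h2 : IsMultiplyPretransitive G α 2 :=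
    isMultiplyPretransitive_of_le (n := 4) (by norm_num)
      (by rw [Nat.card_eq_fintype_card]; omega)
  -- a fifth point
  obtain ⟨e, he⟩ : ∃ e, e ∉ ({a, b, c, d} : Finset α) := by
    by_contra hcon
    push Not at hcon
    have : Fintype.card α ≤ ({a, b, c, d} : Finset α).card := by
      rw [← Finset.card_univ]
      exact Finset.card_le_card (fun y _ => hcon y)
    have h' : ({a, b, c, d} : Finset α).card ≤ 4 := Finset.card_le_four
    omega
  simp only [Finset.mem_insert, Finset.mem_singleton, not_or] at he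
  obtain ⟨hea, heb, hec, hed⟩ := he
  obtain ⟨g, hgg⟩ := exists_smul_eq G (emb4 a b c d hab hac had hbc hbd hcd)
    (emb4 a b c e hab hac (Ne.symm hea) hbc (Ne.symm heb) (Ne.symm hec))
  have hga : (g : Perm α) a = a := congrArg (fun f : Fin 4 ↪ α => f 0) hgg
  have hgb : (g : Perm α) b = b := congrArg (fun f : Fin 4 ↪ α => f 1) hgg
  have hgc : (g : Perm α) c = c := congrArg (fun f : Fin 4 ↪ α => f 2) hgg
  have hgd : (g : Perm α) d = e := congrArg (fun f : Fin 4 ↪ α => f 3) hgg
  have h1 : (g : Perm α) * (swap a b * swap c d) * (g : Perm α)⁻¹ = swap a b * swap c e := by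
    have : (g : Perm α) * (swap a b * swap c d) * (g : Perm α)⁻¹ =
        ((g : Perm α) * swap a b * (g : Perm α)⁻¹) * ((g : Perm α) * swap c d * (g : Perm α)⁻¹) := by
      group
    rw [this, ← swap_apply_apply, ← swap_apply_apply, hga, hgb, hgc, hgd]
  have h2' : swap a b * swap c e ∈ G := by
    rw [← h1]
    exact G.mul_mem (G.mul_mem g.2 hg) (G.inv_mem g.2)
  have h3 : (swap a b * swap c d) * (swap a b * swap c e) = swap c d * swap c e := by
    have hcomm : swap c d * swap a b = swap a b * swap c d := by
      have : Perm.Disjoint (swap c d) (swap a b) := by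
        rw [Perm.disjoint_iff_disjoint_support, Perm.support_swap hcd, Perm.support_swap hab]
        simp only [Finset.disjoint_insert_left, Finset.mem_insert, Finset.mem_singleton,
          Finset.disjoint_singleton_left, not_or]
        exact ⟨⟨Ne.symm hac, Ne.symm hbc⟩, ⟨Ne.symm had, Ne.symm hbd⟩⟩
      exact this.commute.eq
    calc (swap a b * swap c d) * (swap a b * swap c e)
        = swap a b * (swap c d * swap a b) * swap c e := by group
      _ = swap a b * (swap a b * swap c d) * swap c e := by rw [hcomm]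
      _ = (swap a b * swap a b) * swap c d * swap c e := by group
      _ = swap c d * swap c e := by rw [swap_mul_self, one_mul]
  have h4' : (swap c d * swap c e).IsThreeCycle :=
    Perm.isThreeCycle_swap_mul_swap_same hcd (Ne.symm hec) (Ne.symm hed)
  refine le_of_isThreeCycle G h2 h4' ?_
  rw [← h3]
  exact G.mul_mem hg h2'

omit [Fintype α] in
/-- the commutator identity, transported to four distinct points -/
theorem commutator_three_cycles {β : Type*} [DecidableEq β] (e : Fin 4 ↪ β) :
    (swap (e 0) (e 1) * swap (e 1) (e 2))⁻¹ * (swap (e 0) (e 1) * swap (e 1) (e 3))⁻¹ *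
      (swap (e 0) (e 1) * swap (e 1) (e 2)) * (swap (e 0) (e 1) * swap (e 1) (e 3)) =
      swap (e 0) (e 1) * swap (e 2) (e 3) := by
  have h : ((swap (0 : Fin 4) 1 * swap 1 2)⁻¹ * (swap (0 : Fin 4) 1 * swap 1 3)⁻¹ *
      (swap (0 : Fin 4) 1 * swap 1 2) * (swap (0 : Fin 4) 1 * swap 1 3)) =
      swap (0 : Fin 4) 1 * swap 2 3 := by decide
  have := congrArg (Perm.viaEmbeddingHom e) h
  simp only [map_mul, map_inv, Perm.viaEmbeddingHom_apply, viaEmbedding_swap] at this
  exact this

end Cfsg.Agent.Helper4.Miller
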