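import Mathlib
import Cfsg.Agent.Helper4.MillerG

set_option autoImplicit false

/-!
# Miller's theorem: the generic cases
-/

namespace Cfsg.Agent.Helper4.Miller

open Equiv MulAction

variable {α : Type*} [Fintype α] [DecidableEq α]

namespace Setup

variable {G : Subgroup (Perm α)} {p k r : ℕ} {x : Fin r ↪ α} {P : Subgroup (Perm α)}

theorem le_of_lift_swap (S : Setup G p k r x P) (h2 : IsMultiplyPretransitive G α 2)
    {w : Perm α} (hwG : w ∈ G) {a b : Fin r} (hab : a ≠ b) (hL : S.Lifts w (swap a b))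
    (hfix : ∀ γ, γ ∉ Set.range x → w γ = γ) : alternatingGroup α ≤ G := by
  have h1 := S.eq_viaEmbedding hL hfix
  rw [viaEmbedding_swap] at h1
  refine le_of_isSwap G h2 ?_ hwG
  rw [h1]
  exact ⟨x a, x b, fun h => hab (x.injective h), rfl⟩

theorem le_of_lift_three (S : Setup G p k r x P) (h2 : IsMultiplyPretransitive G α 2)
    {w : Perm α} (hwG : w ∈ G) {a b c : Fin r} (hab : a ≠ b) (hac : a ≠ c) (hbc : b ≠ c)
    (hL : S.Lifts w (swap a b * swap a c))
    (hfix : ∀ γ, γ ∉ Set.range x → w γ = γ) : alternatingGroup α ≤ G := by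
  have h1 := S.eq_viaEmbedding hL hfix
  rw [← Perm.viaEmbeddingHom_apply, map_mul, Perm.viaEmbeddingHom_apply,
    Perm.viaEmbeddingHom_apply, viaEmbedding_swap, viaEmbedding_swap] at h1
  refine le_of_isThreeCycle G h2 ?_ hwG
  rw [h1]
  exact Perm.isThreeCycle_swap_mul_swap_same (fun h => hab (x.injective h))
    (fun h => hac (x.injective h)) (fun h => hbc (x.injective h))

theorem le_of_lift_double (S : Setup G p k r x P) (h4 : IsMultiplyPretransitive G α 4)
    (h5 : 5 ≤ Fintype.card α) {w : Perm α} (hwG : w ∈ G) {a b c e : Fin r} (hab : a ≠ b)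
    (hac : a ≠ c) (hae : a ≠ e) (hbc : b ≠ c) (hbe : b ≠ e) (hce : c ≠ e)
    (hL : S.Lifts w (swap a b * swap c e))
    (hfix : ∀ γ, γ ∉ Set.range x → w γ = γ) : alternatingGroup α ≤ G := by
  have h1 := S.eq_viaEmbedding hL hfix
  rw [← Perm.viaEmbeddingHom_apply, map_mul, Perm.viaEmbeddingHom_apply,
    Perm.viaEmbeddingHom_apply, viaEmbedding_swap, viaEmbedding_swap] at h1
  rw [h1] at hwG
  exact le_of_double_swap G h4 h5 (fun h => hab (x.injective h)) (fun h => hac (x.injective h))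
    (fun h => hae (x.injective h)) (fun h => hbc (x.injective h)) (fun h => hbe (x.injective h))
    (fun h => hce (x.injective h)) hwG

omit [Fintype α] [DecidableEq α] in
theorem double_swap_sq {β : Type*} [DecidableEq β] (e : Fin 4 ↪ β) :
    (swap (e 0) (e 1) * swap (e 2) (e 3)) * (swap (e 0) (e 1) * swap (e 2) (e 3)) = 1 := by
  have h : (swap (0 : Fin 4) 1 * swap 2 3) * (swap (0 : Fin 4) 1 * swap 2 3) = 1 := by decide
  have := congrArg (Perm.viaEmbeddingHom e) h
  simp only [map_mul, map_one, Perm.viaEmbeddingHom_apply, viaEmbedding_swap] at this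
  exact this

omit [Fintype α] [DecidableEq α] in
theorem pow_odd_of_sq {M : Type*} [Monoid M] {d : M} (hd : d * d = 1) {p : ℕ} (hp : Odd p) :
    d ^ p = d := by
  obtain ⟨m, rfl⟩ := hp
  rw [pow_succ, pow_mul, pow_two, hd, one_pow, one_mul]

/-- the commutator argument: two elements of the normalizer fixing all long orbits and inducing
suitable `3`-cycles on the fixed points produce a double transposition. -/
theorem main_of_pair (S : Setup G p k r x P) (h4 : IsMultiplyPretransitive G α 4)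
    (h5 : 5 ≤ Fintype.card α) (hp2 : p ≠ 2) (e : Fin 4 ↪ Fin r)
    (hu : ∃ u ∈ G, Nrm P u ∧ S.FixOrb u ∧ S.Lifts u (swap (e 0) (e 1) * swap (e 1) (e 2)))
    (hv : ∃ v ∈ G, Nrm P v ∧ S.FixOrb v ∧ S.Lifts v (swap (e 0) (e 1) * swap (e 1) (e 3))) :
    alternatingGroup α ≤ G := by
  obtain ⟨u, huG, huN, huF, huL⟩ := hu
  obtain ⟨v, hvG, hvN, hvF, hvL⟩ := hv
  have hodd : Odd p := S.prime.odd_of_ne_two hp2
  have hwG : (u⁻¹ * v⁻¹ * u * v) ^ p ∈ G :=
    G.pow_mem (G.mul_mem (G.mul_mem (G.mul_mem (G.inv_mem huG) (G.inv_mem hvG)) huG) hvG) p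
  have hL : S.Lifts (u⁻¹ * v⁻¹ * u * v) (swap (e 0) (e 1) * swap (e 2) (e 3)) := by
    rw [← commutator_three_cycles e]
    exact ((huL.inv.mul hvL.inv).mul huL).mul hvL
  have hLp : S.Lifts ((u⁻¹ * v⁻¹ * u * v) ^ p) (swap (e 0) (e 1) * swap (e 2) (e 3)) := by
    have := hL.pow p
    rwa [pow_odd_of_sq (double_swap_sq e) hodd] at this
  have hne : ∀ i j : Fin 4, i ≠ j → e i ≠ e j := fun i j h h' => h (e.injective h')
  exact S.le_of_lift_double h4 h5 hwG (hne 0 1 (by decide)) (hne 0 2 (by decide))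
    (hne 0 3 (by decide)) (hne 1 2 (by decide)) (hne 1 3 (by decide)) (hne 2 3 (by decide)) hLp
    (fun γ hγ => S.commutator_pow_fix huN hvN huF hvF hγ)

theorem sign_swap_mul_swap {β : Type*} [Fintype β] [DecidableEq β] {a b c d : β} (hab : a ≠ b)
    (hcd : c ≠ d) : swap a b * swap c d ∈ alternatingGroup β := by
  rw [Perm.mem_alternatingGroup, map_mul, Perm.sign_swap hab, Perm.sign_swap hcd]
  rfl

/-- **Case `r ≥ 5`.** -/
theorem main_of_five_le (S : Setup G p k r x P) (hW : S.WittAlt)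
    (h4 : IsMultiplyPretransitive G α 4)
    (h5 : 5 ≤ r) (hkr : k < r) (hp2 : p ≠ 2) : alternatingGroup α ≤ G := by
  have hcard : 5 ≤ Fintype.card α := by rw [S.card]; omega
  let e : Fin 4 ↪ Fin r := Fin.castLEEmb (by omega)
  have hne : ∀ i j : Fin 4, i ≠ j → e i ≠ e j := fun i j h h' => h (e.injective h')
  refine S.main_of_pair h4 hcard hp2 e ?_ ?_
  · exact S.exists_lift_fixOrb hW h5 hkr _
      (sign_swap_mul_swap (hne 0 1 (by decide)) (hne 1 2 (by decide)))
  · exact S.exists_lift_fixOrb hW h5 hkr _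
      (sign_swap_mul_swap (hne 0 1 (by decide)) (hne 1 3 (by decide)))

end Setup

end Cfsg.Agent.Helper4.Miller
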