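import Mathlib
import Cfsg.Agent.Helper4.MillerH

set_option autoImplicit false

/-!
# Miller's theorem: the cases `k = 1` and `k = 2`, `r ≥ 4`
-/

namespace Cfsg.Agent.Helper4.Miller

open Equiv MulAction

variable {α : Type*} [Fintype α] [DecidableEq α]

namespace Setup

variable {G : Subgroup (Perm α)} {p k r : ℕ} {x : Fin r ↪ α} {P : Subgroup (Perm α)}

omit [DecidableEq α] in
theorem ncard_compl_range (S : Setup G p k r x P) : ((Set.range x)ᶜ).ncard = k * p := by
  rw [Set.ncard_compl, Set.ncard_range_of_injective x.injective, Nat.card_eq_fintype_card,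
    Nat.card_eq_fintype_card, Fintype.card_fin, S.card]
  omega

omit [DecidableEq α] in
/-- for `k = 1` the only long orbit is the set of all non-fixed points -/
theorem orbit_eq_of_k_one (S : Setup G p 1 r x P) {γ : α} (hγ : γ ∉ Set.range x) :
    orbit P γ = (Set.range x)ᶜ := by
  refine Set.eq_of_subset_of_ncard_le ?_ ?_ (Set.toFinite _)
  · intro y hy
    exact S.not_mem_range_of_mem_orbit hγ hy
  · rw [S.ncard_compl_range, S.orb γ hγ, one_mul]

omit [DecidableEq α] in
theorem fixOrb_of_k_one (S : Setup G p 1 r x P) {g : Perm α} (hg : Nrm P g) : S.FixOrb g := by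
  intro γ hγ
  rw [S.orbit_eq_of_k_one hγ]
  exact S.nrm_not_mem_range hg hγ

theorem support_subset (S : Setup G p k r x P) {q : Perm α} (hq : q ∈ P) :
    (q.support : Set α) ⊆ (Set.range x)ᶜ := by
  intro y hy hyr
  rw [Finset.mem_coe, Perm.mem_support] at hy
  exact hy (S.fixed_of_mem_range hyr hq)

theorem card_support_le (S : Setup G p k r x P) {q : Perm α} (hq : q ∈ P) :
    q.support.card ≤ k * p := by
  rw [← S.ncard_compl_range, ← Set.ncard_coe_finset]
  exact Set.ncard_le_ncard (S.support_subset hq) (Set.toFinite _)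

omit [DecidableEq α] in
theorem orderOf_mem (S : Setup G p k r x P) {q : Perm α} (hq : q ∈ P) :
    ∃ n, orderOf q = p ^ n := by
  have : Fact p.Prime := ⟨S.prime⟩
  obtain ⟨n, hn⟩ := (IsPGroup.iff_orderOf.1 S.pgroup) ⟨q, hq⟩
  refine ⟨n, ?_⟩
  rw [← hn]
  exact (Subgroup.orderOf_mk q hq).symm

/-- `k = 1`, `p = 2`: `P` contains a transposition -/
theorem main_k_one_p_two (S : Setup G 2 1 r x P) (h2 : IsMultiplyPretransitive G α 2) :
    alternatingGroup α ≤ G := by
  obtain ⟨γ, hγ⟩ : ∃ γ, γ ∉ Set.range x := by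
    by_contra hcon
    push Not at hcon
    have h1 : (Set.range x)ᶜ = ∅ := by
      ext y; simp [hcon y]
    have h2 := S.ncard_compl_range
    rw [h1, Set.ncard_empty] at h2
    omega
  obtain ⟨q₀, hq₀, hmove⟩ := S.exists_move hγ
  have hne : q₀ ≠ 1 := by
    rintro rfl
    exact hmove rfl
  have h1 := Perm.two_le_card_support_of_ne_one hne
  have h2' := S.card_support_le hq₀
  have h3 : q₀.support.card = 2 := by omega
  exact le_of_isSwap G h2 (Perm.card_support_eq_two.1 h3) (S.le hq₀)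

/-- `k = 1`, `p = 3`: `P` contains a `3`-cycle -/
theorem main_k_one_p_three (S : Setup G 3 1 r x P) (h2 : IsMultiplyPretransitive G α 2) :
    alternatingGroup α ≤ G := by
  obtain ⟨γ, hγ⟩ : ∃ γ, γ ∉ Set.range x := by
    by_contra hcon
    push Not at hcon
    have h1 : (Set.range x)ᶜ = ∅ := by
      ext y; simp [hcon y]
    have h2 := S.ncard_compl_range
    rw [h1, Set.ncard_empty] at h2
    omega
  obtain ⟨q₀, hq₀, hmove⟩ := S.exists_move hγ
  have hne : q₀ ≠ 1 := by
    rintro rfl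
    exact hmove rfl
  have h1 := Perm.two_le_card_support_of_ne_one hne
  have h2' := S.card_support_le hq₀
  have h3 : q₀.support.card ≠ 2 := by
    intro h
    have h4 := (Perm.card_support_eq_two.1 h).orderOf
    obtain ⟨n, hn⟩ := S.orderOf_mem hq₀
    rw [h4] at hn
    have : (3 : ℕ) ∣ 2 ∨ n = 0 := by
      rcases n with _ | n
      · right; rfl
      · left; rw [hn, pow_succ]; exact Dvd.intro_left _ rfl
    rcases this with h | h
    · omega
    · rw [h] at hn; omega
  have h4 : q₀.support.card = 3 := by omega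
  exact le_of_isThreeCycle G h2 (card_support_eq_three_iff.1 h4) (S.le hq₀)

omit [Fintype α] [DecidableEq α] in
theorem commutator_three_two {β : Type*} [DecidableEq β] (e : Fin 3 ↪ β) :
    (swap (e 0) (e 1) * swap (e 1) (e 2))⁻¹ * (swap (e 0) (e 1))⁻¹ *
      (swap (e 0) (e 1) * swap (e 1) (e 2)) * (swap (e 0) (e 1)) =
      swap (e 0) (e 2) * swap (e 0) (e 1) := by
  have h : ((swap (0 : Fin 3) 1 * swap 1 2)⁻¹ * (swap (0 : Fin 3) 1)⁻¹ *
      (swap (0 : Fin 3) 1 * swap 1 2) * (swap (0 : Fin 3) 1)) = swap (0 : Fin 3) 2 * swap 0 1 := by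
    decide
  have := congrArg (Perm.viaEmbeddingHom e) h
  simp only [map_mul, map_inv, Perm.viaEmbeddingHom_apply, viaEmbedding_swap] at this
  exact this

omit [Fintype α] [DecidableEq α] in
theorem three_cycle_cube {β : Type*} [DecidableEq β] (e : Fin 3 ↪ β) :
    (swap (e 0) (e 2) * swap (e 0) (e 1)) ^ 3 = 1 := by
  have h : (swap (0 : Fin 3) 2 * swap 0 1) ^ 3 = 1 := by decide
  have := congrArg (Perm.viaEmbeddingHom e) h
  simp only [map_mul, map_pow, map_one, Perm.viaEmbeddingHom_apply, viaEmbedding_swap] at this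
  exact this

omit [Fintype α] [DecidableEq α] in
theorem three_cycle_sq {β : Type*} [DecidableEq β] (e : Fin 3 ↪ β) :
    (swap (e 0) (e 2) * swap (e 0) (e 1)) ^ 2 = swap (e 0) (e 1) * swap (e 0) (e 2) := by
  have h : (swap (0 : Fin 3) 2 * swap 0 1) ^ 2 = swap (0 : Fin 3) 1 * swap 0 2 := by decide
  have := congrArg (Perm.viaEmbeddingHom e) h
  simp only [map_mul, map_pow, Perm.viaEmbeddingHom_apply, viaEmbedding_swap] at this
  exact this

/-- an element trivial off the fixed points inducing a power (prime to `3`) of a `3`-cycle -/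
theorem le_of_lift_three_pow (S : Setup G p k r x P) (h2 : IsMultiplyPretransitive G α 2)
    {w : Perm α} (hwG : w ∈ G) (e : Fin 3 ↪ Fin r) {m : ℕ} (hm : ¬ 3 ∣ m)
    (hL : S.Lifts w ((swap (e 0) (e 2) * swap (e 0) (e 1)) ^ m))
    (hfix : ∀ γ, γ ∉ Set.range x → w γ = γ) : alternatingGroup α ≤ G := by
  have hne : ∀ i j : Fin 3, i ≠ j → e i ≠ e j := fun i j h h' => h (e.injective h')
  have h3 := three_cycle_cube e
  have hmod : (swap (e 0) (e 2) * swap (e 0) (e 1)) ^ m =
      (swap (e 0) (e 2) * swap (e 0) (e 1)) ^ (m % 3) := by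
    conv_lhs => rw [← Nat.div_add_mod m 3, pow_add, pow_mul, h3, one_pow, one_mul]
  rw [hmod] at hL
  have hcases : m % 3 = 1 ∨ m % 3 = 2 := by omega
  rcases hcases with h | h
  · rw [h, pow_one] at hL
    exact S.le_of_lift_three h2 hwG (hne 0 2 (by decide)) (hne 0 1 (by decide))
      (hne 2 1 (by decide)) hL hfix
  · rw [h, three_cycle_sq e] at hL
    exact S.le_of_lift_three h2 hwG (hne 0 1 (by decide)) (hne 0 2 (by decide))
      (hne 1 2 (by decide)) hL hfix

/-- the commutator argument producing a `3`-cycle -/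
theorem main_of_pair3 (S : Setup G p k r x P) (h2 : IsMultiplyPretransitive G α 2)
    (hp3 : p ≠ 3) (e : Fin 3 ↪ Fin r)
    (hu : ∃ u ∈ G, Nrm P u ∧ S.FixOrb u ∧ S.Lifts u (swap (e 0) (e 1) * swap (e 1) (e 2)))
    (hv : ∃ v ∈ G, Nrm P v ∧ S.FixOrb v ∧ S.Lifts v (swap (e 0) (e 1))) :
    alternatingGroup α ≤ G := by
  obtain ⟨u, huG, huN, huF, huL⟩ := hu
  obtain ⟨v, hvG, hvN, hvF, hvL⟩ := hv
  have hwG : (u⁻¹ * v⁻¹ * u * v) ^ p ∈ G :=
    G.pow_mem (G.mul_mem (G.mul_mem (G.mul_mem (G.inv_mem huG) (G.inv_mem hvG)) huG) hvG) p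
  have hL : S.Lifts (u⁻¹ * v⁻¹ * u * v) (swap (e 0) (e 2) * swap (e 0) (e 1)) := by
    rw [← commutator_three_two e]
    exact ((huL.inv.mul hvL.inv).mul huL).mul hvL
  have hp3' : ¬ 3 ∣ p := by
    intro h
    exact hp3 ((Nat.prime_dvd_prime_iff_eq Nat.prime_three S.prime).1 h).symm
  exact S.le_of_lift_three_pow h2 hwG e hp3' (hL.pow p)
    (fun γ hγ => S.commutator_pow_fix huN hvN huF hvF hγ)

/-- **Case `k = 1`** (any `r ≥ 3`). -/
theorem main_k_one (S : Setup G p 1 r x P) (hW : S.Witt) (h4 : IsMultiplyPretransitive G α 4)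
    (hr : 3 ≤ r) : alternatingGroup α ≤ G := by
  have hcard : 5 ≤ Fintype.card α := by
    rw [S.card]
    have := S.prime.two_le
    omega
  have h2 : IsMultiplyPretransitive G α 2 :=
    isMultiplyPretransitive_of_le (n := 4) (by norm_num)
      (by rw [Nat.card_eq_fintype_card]; omega)
  by_cases hp2 : p = 2
  · subst hp2
    exact S.main_k_one_p_two h2
  by_cases hp3 : p = 3
  · subst hp3
    exact S.main_k_one_p_three h2
  have hlift : ∀ σ : Perm (Fin r), ∃ u ∈ G, Nrm P u ∧ S.FixOrb u ∧ S.Lifts u σ := by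
    intro σ
    obtain ⟨g, hgG, hgN, hgL⟩ := hW σ
    exact ⟨g, hgG, hgN, S.fixOrb_of_k_one hgN, hgL⟩
  exact S.main_of_pair3 h2 hp3 (Fin.castLEEmb hr) (hlift _) (hlift _)

end Setup

end Cfsg.Agent.Helper4.Miller
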