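import Mathlib
import Cfsg.Agent.Helper4.MillerE
import Cfsg.Agent.S4219

set_option autoImplicit false

/-!
# Existence of the basic setting, with Witt's lemma at two levels
-/

namespace Cfsg.Agent.Helper4.Miller

open Equiv MulAction

variable {α : Type*}

/-- the stabilizer of `γ₀` in `P`, as a subgroup of `Perm α` -/
def stabQ (P : Subgroup (Perm α)) (γ₀ : α) : Subgroup (Perm α) where
  carrier := {q | q ∈ P ∧ q γ₀ = γ₀}
  one_mem' := ⟨P.one_mem, rfl⟩
  mul_mem' := by
    rintro a b ⟨ha, ha'⟩ ⟨hb, hb'⟩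
    exact ⟨P.mul_mem ha hb, by rw [Perm.mul_apply, hb', ha']⟩
  inv_mem' := by
    rintro a ⟨ha, ha'⟩
    exact ⟨P.inv_mem ha, by rw [Perm.inv_eq_iff_eq, ha']⟩

theorem mem_stabQ {P : Subgroup (Perm α)} {γ₀ : α} {q : Perm α} :
    q ∈ stabQ P γ₀ ↔ q ∈ P ∧ q γ₀ = γ₀ := Iff.rfl

theorem stabQ_le (P : Subgroup (Perm α)) (γ₀ : α) : stabQ P γ₀ ≤ P := fun _ h => h.1

theorem card_eq_orbit_mul_stabQ [Finite α] (P : Subgroup (Perm α)) (γ : α) :
    Nat.card P = (orbit P γ).ncard * Nat.card (stabQ P γ) := by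
  rw [card_eq_orbit_mul_stabilizer P γ]
  congr 1
  apply Nat.card_congr
  exact
    { toFun := fun s => ⟨s.1.1, s.1.2, s.2⟩
      invFun := fun s => ⟨⟨s.1, s.2.1⟩, s.2.2⟩
      left_inv := fun _ => rfl
      right_inv := fun _ => rfl }

/-- the stabilizer of `γ` in a Sylow subgroup `P` of `H` has the full `p`-part of the order of the
stabilizer of `γ` in `H`, when the `H`-orbit of `γ` has `k * p` points with `1 ≤ k < p`. -/
theorem sylow_stabQ_card [Finite α] {p : ℕ} [hp : Fact p.Prime] {P H : Subgroup (Perm α)}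
    (hle : P ≤ H) (hcard : Nat.card P = p ^ (Nat.card H).factorization p) (γ : α) {k : ℕ}
    (hk : 1 ≤ k) (hkp : k < p) (horb : (orbit H γ).ncard = k * p) :
    Nat.card (stabQ P γ) = p ^ (Nat.card (stabQ H γ)).factorization p := by
  have hpp := hp.out
  have h1 := sylow_orbit_card hle hcard γ hk hkp horb
  have e1 := card_eq_orbit_mul_stabQ H γ
  have e2 := card_eq_orbit_mul_stabQ P γ
  rw [h1] at e2
  rw [horb] at e1
  have hfin : Finite (Perm α) := inferInstance
  have hsH0 : Nat.card (stabQ H γ) ≠ 0 := Nat.card_pos.ne'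
  have hk0 : k ≠ 0 := by omega
  have hpk : ¬ p ∣ k := fun h => by
    have := Nat.le_of_dvd (by omega) h
    omega
  have hva : (Nat.card H).factorization p = 1 + (Nat.card (stabQ H γ)).factorization p := by
    rw [e1, Nat.factorization_mul (Nat.mul_ne_zero hk0 hpp.ne_zero) hsH0,
      Nat.factorization_mul hk0 hpp.ne_zero]
    simp only [Finsupp.coe_add, Pi.add_apply]
    rw [Nat.factorization_eq_zero_of_not_dvd hpk, hpp.factorization_self]
  rw [hcard, hva, pow_add, pow_one] at e2
  exact (Nat.eq_of_mul_eq_mul_left hpp.pos e2).symm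

variable [Fintype α]

namespace Setup

variable {G : Subgroup (Perm α)} {p k r : ℕ} {x : Fin r ↪ α} {P : Subgroup (Perm α)}

/-- Witt's lemma for the stabilizer in `P` of one more point -/
def Witt2 (_S : Setup G p k r x P) : Prop :=
  ∀ γ₀, γ₀ ∉ Set.range x → ∀ a b : Fin (r + 1) ↪ α,
    (∀ i, ∀ q ∈ stabQ P γ₀, q (a i) = a i) → (∀ i, ∀ q ∈ stabQ P γ₀, q (b i) = b i) →
      ∃ g ∈ G, Nrm (stabQ P γ₀) g ∧ ∀ i, g (a i) = b i

end Setup

theorem exists_setup (G : Subgroup (Perm α)) {k p r : ℕ} (hp : p.Prime)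
    (hn : Fintype.card α = k * p + r) (hk : 1 ≤ k) (hpk : k < p)
    (hG : IsMultiplyPretransitive G α (r + 1)) :
    ∃ (x : Fin r ↪ α) (P : Subgroup (Perm α)) (S : Setup G p k r x P), S.Witt ∧ S.Witt2 := by
  classical
  have : Fact p.Prime := ⟨hp⟩
  have hkp : 1 ≤ k * p := Nat.mul_pos hk hp.pos
  obtain ⟨x⟩ : Nonempty (Fin r ↪ α) :=
    Function.Embedding.nonempty_of_card_le (by rw [Fintype.card_fin, hn]; omega)
  have hGr : IsMultiplyPretransitive G α r :=
    isMultiplyPretransitive_of_le (n := r + 1) (by omega)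
      (by rw [Nat.card_eq_fintype_card, hn]; omega)
  set Hx : Subgroup G := stabilizer G x with hHx
  obtain ⟨P₀⟩ : Nonempty (Sylow p Hx) := inferInstance
  set Q : Subgroup G := (P₀ : Subgroup Hx).map Hx.subtype with hQ
  set P : Subgroup (Perm α) := Q.map G.subtype with hP
  set H' : Subgroup (Perm α) := Hx.map G.subtype with hH'
  have hQH : Q ≤ Hx := by
    rintro _ ⟨y, _, rfl⟩
    exact y.2
  have hPH : P ≤ H' := Subgroup.map_mono hQH
  have hH'G : H' ≤ G := by
    rintro _ ⟨y, _, rfl⟩
    exact y.2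
  have hmemH' : ∀ g : Perm α, g ∈ H' ↔ g ∈ G ∧ ∀ i, g (x i) = x i := by
    intro g
    constructor
    · rintro ⟨y, hy, rfl⟩
      refine ⟨y.2, fun i => ?_⟩
      have h1 : y • x = x := hy
      have h2 := congrArg (fun f : Fin r ↪ α => f i) h1
      exact h2
    · rintro ⟨hg, hfix⟩
      refine ⟨⟨g, hg⟩, ?_, rfl⟩
      rw [SetLike.mem_coe, hHx, mem_stabilizer_iff]
      ext i
      exact hfix i
  have hcardP : Nat.card P = p ^ (Nat.card H').factorization p := by
    rw [hP, hH', Subgroup.card_map_of_injective G.subtype_injective,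
      Subgroup.card_map_of_injective G.subtype_injective, hQ,
      Subgroup.card_map_of_injective Hx.subtype_injective]
    exact P₀.card_eq_multiplicity
  -- orbits of H'
  have horbH : ∀ γ, γ ∉ Set.range x → (orbit H' γ).ncard = k * p := by
    intro γ hγ
    have : orbit H' γ = (Set.range x)ᶜ := by
      ext y
      constructor
      · rintro ⟨a, rfl⟩ ⟨i, hi⟩
        apply hγ
        have h1 := ((hmemH' a.1).1 a.2).2 i
        refine ⟨i, ?_⟩
        have h2 : (a.1 : Perm α) γ = x i := hi.symm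
        have h3 : (a.1 : Perm α) γ = (a.1 : Perm α) (x i) := by rw [h2, h1]
        exact ((a.1 : Perm α).injective h3).symm
      · intro hy
        have hy' : y ∉ Set.range x := hy
        obtain ⟨g, hg⟩ := exists_smul_eq G (Fin.Embedding.snoc x hγ) (Fin.Embedding.snoc x hy')
        have hgfix : ∀ i, (g : Perm α) (x i) = x i := by
          intro i
          have := congrArg (fun f : Fin (r + 1) ↪ α => f i.castSucc) hg
          simp only [Function.Embedding.smul_apply, Fin.Embedding.snoc_castSucc] at this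
          exact this
        have hgγ : (g : Perm α) γ = y := by
          have := congrArg (fun f : Fin (r + 1) ↪ α => f (Fin.last r)) hg
          simp only [Function.Embedding.smul_apply, Fin.Embedding.snoc_last] at this
          exact this
        exact ⟨⟨g.1, (hmemH' g.1).2 ⟨g.2, hgfix⟩⟩, hgγ⟩
    rw [this, Set.ncard_compl, Set.ncard_range_of_injective x.injective, Nat.card_eq_fintype_card,
      Nat.card_eq_fintype_card, Fintype.card_fin, hn]
    omega
  have hfixP : ∀ q ∈ P, ∀ i, q (x i) = x i := fun q hq i => ((hmemH' q).1 (hPH hq)).2 i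
  have S : Setup G p k r x P :=
    ⟨hp, hPH.trans hH'G, by rw [IsPGroup.iff_card]; exact ⟨_, hcardP⟩, hfixP,
      fun γ hγ => sylow_orbit_card hPH hcardP γ hk hpk (horbH γ hγ), hn⟩
  refine ⟨x, P, S, ?_, ?_⟩
  · -- Witt
    intro σ
    have hfixQ : ∀ i, x i ∈ fixedPoints Q α := by
      intro i q
      have : ((q : G) : Perm α) ∈ H' := ⟨q.1, hQH q.2, rfl⟩
      exact ((hmemH' _).1 this).2 i
    obtain ⟨g, hgN, hg⟩ := Cfsg.Agent.S4219.result hGr x P₀ x (σ.toEmbedding.trans x) hfixQ
      (fun i => hfixQ (σ i))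
    refine ⟨g.1, g.2, Nrm.of_forall ?_, ?_⟩
    · rintro _ ⟨q, hq, rfl⟩
      have := (Subgroup.mem_normalizer_iff.1 hgN q).1 hq
      exact ⟨g * q * g⁻¹, this, rfl⟩
    · intro i
      have := congrArg (fun f : Fin r ↪ α => f i) hg
      exact this
  · -- Witt, one level up
    intro γ₀ hγ₀ a b ha hb
    set x₁ : Fin (r + 1) ↪ α := Fin.Embedding.snoc x hγ₀ with hx₁
    set H₁ : Subgroup G := stabilizer G x₁ with hH₁
    set f : H₁ →* Perm α := G.subtype.comp H₁.subtype with hf
    have hfinj : Function.Injective f :=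
      G.subtype_injective.comp H₁.subtype_injective
    have hrange : f.range = stabQ H' γ₀ := by
      ext g
      constructor
      · rintro ⟨y, rfl⟩
        have h1 : (y : G) • x₁ = x₁ := y.2
        refine ⟨(hmemH' _).2 ⟨y.1.2, fun i => ?_⟩, ?_⟩
        · have := congrArg (fun f : Fin (r + 1) ↪ α => f i.castSucc) h1
          simp only [Function.Embedding.smul_apply, hx₁, Fin.Embedding.snoc_castSucc] at this
          exact this
        · have := congrArg (fun f : Fin (r + 1) ↪ α => f (Fin.last r)) h1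
          simp only [Function.Embedding.smul_apply, hx₁, Fin.Embedding.snoc_last] at this
          exact this
      · rintro ⟨hg1, hg2⟩
        obtain ⟨hgG, hgfix⟩ := (hmemH' g).1 hg1
        refine ⟨⟨⟨g, hgG⟩, ?_⟩, rfl⟩
        rw [hH₁, mem_stabilizer_iff]
        ext i
        refine Fin.lastCases ?_ (fun j => ?_) i
        · change g (x₁ (Fin.last r)) = x₁ (Fin.last r)
          rw [hx₁, Fin.Embedding.snoc_last]
          exact hg2
        · change g (x₁ j.castSucc) = x₁ j.castSucc
          rw [hx₁, Fin.Embedding.snoc_castSucc]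
          exact hgfix j
    have hQle : stabQ P γ₀ ≤ f.range := by
      rw [hrange]
      intro q hq
      exact ⟨hPH hq.1, hq.2⟩
    set Q₁ : Subgroup H₁ := (stabQ P γ₀).comap f with hQ₁
    have hmapQ₁ : Q₁.map f = stabQ P γ₀ := by
      rw [hQ₁, Subgroup.map_comap_eq, inf_eq_right.2 hQle]
    have hcardQ₁ : Nat.card Q₁ = p ^ (Nat.card H₁).factorization p := by
      have h1 : Nat.card Q₁ = Nat.card (stabQ P γ₀) := by
        rw [← hmapQ₁, Subgroup.card_map_of_injective hfinj]
      have h2 : Nat.card H₁ = Nat.card (stabQ H' γ₀) := by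
        rw [← hrange, MonoidHom.range_eq_map, Subgroup.card_map_of_injective hfinj,
          Subgroup.card_top]
      rw [h1, h2]
      exact sylow_stabQ_card hPH hcardP γ₀ hk hpk (horbH γ₀ hγ₀)
    set P₁ : Sylow p H₁ := Sylow.ofCard Q₁ hcardQ₁ with hP₁
    have hP₁coe : (P₁ : Subgroup H₁) = Q₁ := Sylow.coe_ofCard Q₁ hcardQ₁
    have hmem : ∀ q : G, q ∈ (P₁ : Subgroup H₁).map H₁.subtype ↔ (q : Perm α) ∈ stabQ P γ₀ := by
      intro q
      rw [hP₁coe]
      constructor
      · rintro ⟨y, hy, rfl⟩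
        exact hy
      · intro hq
        obtain ⟨y, hy⟩ := hQle hq
        have hy' : (y : G) = q := Subtype.ext hy
        refine ⟨y, ?_, hy'⟩
        change f y ∈ stabQ P γ₀
        rw [hy]
        exact hq
    have hG1 : IsMultiplyPretransitive G α (r + 1) := hG
    obtain ⟨g, hgN, hg⟩ := Cfsg.Agent.S4219.result hG1 x₁ P₁ a b
      (fun i q => ha i _ ((hmem q.1).1 q.2)) (fun i q => hb i _ ((hmem q.1).1 q.2))
    refine ⟨g.1, g.2, Nrm.of_forall ?_, ?_⟩
    · intro q hq
      obtain ⟨y, hy⟩ := hQle hq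
      have h1 : (y : G) ∈ (P₁ : Subgroup H₁).map H₁.subtype := by
        rw [hmem]
        change f y ∈ stabQ P γ₀
        rw [hy]
        exact hq
      have h2 := (Subgroup.mem_normalizer_iff.1 hgN _).1 h1
      have h3 := (hmem _).1 h2
      have h4 : ((g * (y : G) * g⁻¹ : G) : Perm α) = (g : Perm α) * q * (g : Perm α)⁻¹ := by
        rw [← hy]
        rfl
      rw [← h4]
      exact h3
    · intro i
      have := congrArg (fun f : Fin (r + 1) ↪ α => f i) hg
      exact this

end Cfsg.Agent.Helper4.Miller
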