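import Mathlib
import Cfsg.Agent.Helper4.MillerK
import Cfsg.Agent.Helper4.MillerH

set_option autoImplicit false

/-!
# Passing to the fixed points of a point stabilizer in `P`
-/

namespace Cfsg.Agent.Helper4.Miller

open Equiv MulAction

universe u

variable {α : Type u}

/-- the set of common fixed points of `Q` -/
def fixSet (Q : Subgroup (Perm α)) : Set α := {y | ∀ q ∈ Q, q y = y}

theorem mem_fixSet {Q : Subgroup (Perm α)} {y : α} : y ∈ fixSet Q ↔ ∀ q ∈ Q, q y = y := Iff.rfl

theorem Nrm.mem_fixSet_iff {Q : Subgroup (Perm α)} {g : Perm α} (hg : Nrm Q g) (y : α) :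
    g y ∈ fixSet Q ↔ y ∈ fixSet Q := by
  constructor
  · intro h q hq
    have h1 := h _ ((hg q).1 hq)
    simp only [Perm.mul_apply] at h1
    have h2 : g⁻¹ (g y) = y := by simp
    rw [h2] at h1
    exact g.injective h1
  · intro h q hq
    have h1 := h _ ((hg.inv q).1 hq)
    simp only [Perm.mul_apply, inv_inv] at h1
    have h2 : g (g⁻¹ (q (g y))) = g y := by rw [h1]
    simpa using h2

/-- the normalizer of `Q` in `G` -/
def nrmSub (G Q : Subgroup (Perm α)) : Subgroup (Perm α) where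
  carrier := {g | g ∈ G ∧ Nrm Q g}
  one_mem' := ⟨G.one_mem, Nrm.one Q⟩
  mul_mem' := fun ha hb => ⟨G.mul_mem ha.1 hb.1, ha.2.mul hb.2⟩
  inv_mem' := fun ha => ⟨G.inv_mem ha.1, ha.2.inv⟩

/-- restriction of the normalizer of `Q` to the fixed points of `Q` -/
def resHom (G Q : Subgroup (Perm α)) : nrmSub G Q →* Perm (fixSet Q) where
  toFun := fun g => Perm.subtypePerm (g : Perm α) (fun y => g.2.2.mem_fixSet_iff y)
  map_one' := by
    ext y
    rfl
  map_mul' := by
    intro a b
    ext y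
    rfl

theorem resHom_apply (G Q : Subgroup (Perm α)) (g : nrmSub G Q) (y : fixSet Q) :
    ((resHom G Q g y : fixSet Q) : α) = (g : Perm α) y := rfl

/-- the group induced on the fixed points of `Q` by its normalizer in `G` -/
def resGroup (G Q : Subgroup (Perm α)) : Subgroup (Perm (fixSet Q)) := (resHom G Q).range

/-- a counting lemma: a finite set which is a union of `Q`-orbits all of length `p` -/
theorem card_eq_orbits_mul [Fintype α] [DecidableEq α] (Q : Subgroup (Perm α)) (s : Finset α) {p : ℕ}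
    (hs : ∀ γ ∈ s, ∀ y ∈ orbit Q γ, y ∈ s) (hp : ∀ γ ∈ s, (orbit Q γ).ncard = p) :
    ∃ k', s.card = k' * p := by
  classical
  refine ⟨(s.image (fun γ => orbit Q γ)).card, ?_⟩
  have hmaps : Set.MapsTo (fun γ => orbit Q γ) (s : Set α)
      ((s.image (fun γ => orbit Q γ) : Finset (Set α)) : Set (Set α)) := by
    intro γ hγ
    rw [Finset.mem_coe] at hγ
    rw [Finset.mem_coe, Finset.mem_image]
    exact ⟨γ, hγ, rfl⟩
  have h3 := Finset.card_eq_sum_card_fiberwise hmaps
  have h4 : ∀ b ∈ s.image (fun γ => orbit Q γ),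
      (s.filter (fun a => orbit Q a = b)).card = p := by
    intro b hb
    obtain ⟨γ₀, hγ₀, rfl⟩ := Finset.mem_image.1 hb
    rw [← Set.ncard_coe_finset, ← hp γ₀ hγ₀]
    congr 1
    ext a
    simp only [Finset.coe_filter, Set.mem_ofPred_eq]
    constructor
    · rintro ⟨_, h⟩
      rw [← h]
      exact mem_orbit_self a
    · intro h
      exact ⟨hs γ₀ hγ₀ a h, orbit_eq_iff.2 h⟩
  rw [Finset.sum_congr rfl h4, Finset.sum_const, smul_eq_mul] at h3
  exact h3



section QApproach

variable [Fintype α] [DecidableEq α]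
variable {G : Subgroup (Perm α)} {p k r : ℕ} {x : Fin r ↪ α} {P : Subgroup (Perm α)}

namespace Setup

omit [DecidableEq α] in
theorem range_subset_fixSet (S : Setup G p k r x P) {Q : Subgroup (Perm α)} (hQ : Q ≤ P) :
    Set.range x ⊆ fixSet Q := by
  rintro _ ⟨i, rfl⟩ q hq
  exact S.fix q (hQ hq) i

omit [DecidableEq α] in
theorem orbit_subset_fixSet (S : Setup G p k r x P) {γ₀ : α} (hγ₀ : γ₀ ∉ Set.range x) :
    orbit P γ₀ ⊆ fixSet (stabQ P γ₀) := by
  intro y hy q hq
  have : Fact p.Prime := ⟨S.prime⟩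
  exact stabilizer_fixes_orbit P S.pgroup γ₀ (S.orb γ₀ hγ₀) hq.1 hq.2 hy

omit [DecidableEq α] in
/-- the orbits of a subgroup `Q` of `P` off its fixed points have length `p` -/
theorem orbit_sub_ncard (S : Setup G p k r x P) {Q : Subgroup (Perm α)} (hQ : Q ≤ P) {γ : α}
    (hγ : γ ∉ fixSet Q) : (orbit Q γ).ncard = p := by
  have : Fact p.Prime := ⟨S.prime⟩
  have hγx : γ ∉ Set.range x := fun h => hγ (S.range_subset_fixSet hQ h)
  have hle : (orbit Q γ).ncard ≤ p := by
    rw [← S.orb γ hγx]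
    exact Set.ncard_le_ncard (orbit_subset_of_le hQ γ) (Set.toFinite _)
  have hQp : IsPGroup p Q := S.pgroup.to_le hQ
  obtain ⟨n, hn⟩ := hQp.card_orbit γ
  rw [Nat.card_coe_set_eq] at hn
  rcases n with _ | n
  · exfalso
    rw [pow_zero, Set.ncard_eq_one] at hn
    obtain ⟨a, ha⟩ := hn
    apply hγ
    intro q hq
    have h1 : q γ ∈ orbit Q γ := ⟨⟨q, hq⟩, rfl⟩
    have h2 : γ ∈ orbit Q γ := mem_orbit_self γ
    rw [ha, Set.mem_singleton_iff] at h1 h2
    rw [h1, h2]
  · rw [hn] at hle ⊢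
    have h1 : p ^ 1 ≤ p ^ (n + 1) := Nat.pow_le_pow_right S.prime.pos (by omega)
    rw [pow_one] at h1
    omega

/-- **The non-semiregular case**: if some point stabilizer in `P` is non-trivial, the theorem
follows from the theorem for smaller `k`, applied to the fixed points of that stabilizer. -/
theorem main_of_stab_ne_bot (S : Setup G p k r x P) (hW2 : S.Witt2)
    (h4 : IsMultiplyPretransitive G α 4) (hp2 : p ≠ 2) (hr3 : 3 ≤ r) (hkr : k < r)
    {γ₀ : α} (hγ₀ : γ₀ ∉ Set.range x) {q₁ : Perm α} (hq₁ : q₁ ∈ stabQ P γ₀) (hq₁ne : q₁ ≠ 1)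
    (hrec : ∀ j, 1 ≤ j → j < k → ∀ (β : Type u) [Fintype β] [DecidableEq β]
      (H : Subgroup (Perm β)), Fintype.card β = j * p + r →
      IsMultiplyPretransitive H β (r + 1) → alternatingGroup β ≤ H) :
    alternatingGroup α ≤ G := by
  classical
  have hpp : Fact p.Prime := ⟨S.prime⟩
  set Q := stabQ P γ₀ with hQ
  have hQP : Q ≤ P := stabQ_le P γ₀
  have hxF : Set.range x ⊆ fixSet Q := S.range_subset_fixSet hQP
  have hOF : orbit P γ₀ ⊆ fixSet Q := S.orbit_subset_fixSet hγ₀
  set s : Finset α := Finset.univ.filter (fun y => y ∉ fixSet Q) with hs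
  have hmems : ∀ y, y ∈ s ↔ y ∉ fixSet Q := by
    intro y
    rw [hs, Finset.mem_filter]
    simp
  have hs_closed : ∀ γ ∈ s, ∀ y ∈ orbit Q γ, y ∈ s := by
    rintro γ hγ _ ⟨q, rfl⟩
    rw [hmems] at hγ ⊢
    intro h
    apply hγ
    intro q' hq'
    have h1 := h (q.1 * q' * q.1⁻¹) (Q.mul_mem (Q.mul_mem q.2 hq') (Q.inv_mem q.2))
    change (q.1 * q' * q.1⁻¹) (q.1 γ) = q.1 γ at h1
    simp only [Perm.mul_apply] at h1
    have h2 : q.1⁻¹ (q.1 γ) = γ := by simp
    rw [h2] at h1
    exact q.1.injective h1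
  have hs_orb : ∀ γ ∈ s, (orbit Q γ).ncard = p := fun γ hγ =>
    S.orbit_sub_ncard hQP ((hmems γ).1 hγ)
  obtain ⟨k', hk'⟩ := card_eq_orbits_mul Q s hs_closed hs_orb
  -- cardinalities
  have hcardF : Fintype.card (fixSet Q) + s.card = Fintype.card α := by
    rw [Fintype.card_subtype, hs]
    exact Finset.card_filter_add_card_filter_not (s := (Finset.univ : Finset α))
      (fun y => y ∈ fixSet Q)
  have hFge : r + p ≤ Fintype.card (fixSet Q) := by
    have h1 : (Set.range x ∪ orbit P γ₀).ncard = r + p := by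
      rw [Set.ncard_union_eq ?_ (Set.toFinite _) (Set.toFinite _),
        Set.ncard_range_of_injective x.injective, Nat.card_eq_fintype_card, Fintype.card_fin,
        S.orb γ₀ hγ₀]
      rw [Set.disjoint_left]
      intro y hy hy'
      exact S.not_mem_range_of_mem_orbit hγ₀ hy' hy
    have h2 : (Set.range x ∪ orbit P γ₀).ncard ≤ (fixSet Q).ncard :=
      Set.ncard_le_ncard (Set.union_subset hxF hOF) (Set.toFinite _)
    rw [h1, ← Nat.card_coe_set_eq, Nat.card_eq_fintype_card] at h2
    exact h2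
  have hk'pos : 1 ≤ k' := by
    obtain ⟨y, hy⟩ : ∃ y, q₁ y ≠ y := by
      by_contra hcon
      push Not at hcon
      exact hq₁ne (Perm.ext hcon)
    have hys : y ∈ s := by
      rw [hmems]
      intro h
      exact hy (h q₁ hq₁)
    have h1 : 0 < s.card := Finset.card_pos.2 ⟨y, hys⟩
    rcases k' with _ | k'
    · rw [zero_mul] at hk'
      omega
    · omega
  have hSc := S.card
  have h1 : (k' + 1) * p ≤ k * p := by
    rw [add_mul, one_mul]
    omega
  have h2 : k' + 1 ≤ k := Nat.le_of_mul_le_mul_right h1 S.prime.pos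
  obtain ⟨j, rfl⟩ : ∃ j, k = k' + j := ⟨k - k', by omega⟩
  have hj1 : 1 ≤ j := by omega
  rw [add_mul] at hSc
  have hcardFj : Fintype.card (fixSet Q) = j * p + r := by omega
  -- transitivity of the induced group
  have htrans : IsMultiplyPretransitive (resGroup G Q) (fixSet Q) (r + 1) := by
    refine ⟨fun a b => ?_⟩
    obtain ⟨g, hgG, hgN, hg⟩ := hW2 γ₀ hγ₀ (a.trans (Function.Embedding.subtype _))
      (b.trans (Function.Embedding.subtype _)) (fun i q hq => (a i).2 q hq)
      (fun i q hq => (b i).2 q hq)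
    refine ⟨⟨resHom G Q ⟨g, hgG, hgN⟩, ⟨_, rfl⟩⟩, ?_⟩
    ext i
    exact hg i
  have hAlt := hrec j hj1 (by omega) (fixSet Q) (resGroup G Q) hcardFj htrans
  -- the new setting
  obtain ⟨r', hr'⟩ : ∃ r', r' = Fintype.card (fixSet Q) := ⟨_, rfl⟩
  have eF : fixSet Q ≃ Fin r' := by
    rw [hr']
    exact Fintype.equivFin _
  set x' : Fin r' ↪ α := eF.symm.toEmbedding.trans (Function.Embedding.subtype _) with hx'
  have hx'range : Set.range x' = fixSet Q := by
    ext y
    constructor
    · rintro ⟨i, rfl⟩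
      exact (eF.symm i).2
    · intro hy
      refine ⟨eF ⟨y, hy⟩, ?_⟩
      simp [hx']
  have S' : Setup G p k' r' x' Q :=
    { prime := S.prime
      le := hQP.trans S.le
      pgroup := S.pgroup.to_le hQP
      fix := fun q hq i => (eF.symm i).2 q hq
      orb := fun γ hγ => S.orbit_sub_ncard hQP (by rwa [hx'range] at hγ)
      card := by omega }
  have hWA : S'.WittAlt := by
    intro σ hσ
    have hσ' : eF.symm.permCongr σ ∈ alternatingGroup (fixSet Q) := by
      rw [Perm.mem_alternatingGroup, Perm.sign_permCongr]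
      exact hσ
    obtain ⟨g, hg⟩ := hAlt hσ'
    refine ⟨g.1, g.2.1, g.2.2, fun i => ?_⟩
    have h3 := congrArg (fun f : Perm (fixSet Q) => ((f (eF.symm i) : fixSet Q) : α)) hg
    simp only [resHom_apply, Equiv.permCongr_apply, Equiv.symm_symm, Equiv.apply_symm_apply] at h3
    exact h3
  exact S'.main_of_five_le hWA h4 (by have := S.prime.two_le; omega) (by omega) hp2

end Setup

end QApproach

end Cfsg.Agent.Helper4.Miller
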