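import Mathlib
import Cfsg.Agent.Helper4.MillerG
import Cfsg.Agent.Lead.PermJordan2
import Cfsg.Agent.Helper3.SharpFourB

set_option autoImplicit false

/-!
# Elements of small support in highly transitive groups
-/

namespace Cfsg.Agent.Helper4.Miller

open Equiv MulAction

variable {α : Type*} [Fintype α] [DecidableEq α]

omit [Fintype α] in
/-- an involution moving exactly four points is a product of two disjoint transpositions -/
theorem exists_double_swap [Fintype α] {g : Perm α} (hg : g * g = 1) (hs : g.support.card = 4) :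
    ∃ a b c d, a ≠ b ∧ a ≠ c ∧ a ≠ d ∧ b ≠ c ∧ b ≠ d ∧ c ≠ d ∧ g = swap a b * swap c d := by
  have hgg : ∀ y, g (g y) = y := fun y => by
    have := congrArg (fun f : Perm α => f y) hg
    simpa using this
  obtain ⟨a, ha⟩ : g.support.Nonempty := by
    rw [← Finset.card_pos, hs]; norm_num
  rw [Perm.mem_support] at ha
  set b := g a with hb
  have hgb : g b = a := hgg a
  have hab : a ≠ b := fun h => ha h.symm
  set g' := swap a b * g with hg'
  have hg'a : g' a = a := by rw [hg', Perm.mul_apply, ← hb, swap_apply_right]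
  have hg'b : g' b = b := by rw [hg', Perm.mul_apply, hgb, swap_apply_left]
  have hg'y : ∀ y, y ≠ a → y ≠ b → g' y = g y := by
    intro y hya hyb
    rw [hg', Perm.mul_apply, swap_apply_of_ne_of_ne]
    · intro h
      apply hyb
      rw [← hgg y, h]
    · intro h
      apply hya
      exact g.injective h
  have hsupp : g'.support = g.support \ {a, b} := by
    ext y
    simp only [Perm.mem_support, Finset.mem_sdiff, Finset.mem_insert, Finset.mem_singleton,
      not_or]
    constructor
    · intro h
      have hya : y ≠ a := by rintro rfl; exact h hg'a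
      have hyb : y ≠ b := by rintro rfl; exact h hg'b
      rw [hg'y y hya hyb] at h
      exact ⟨h, hya, hyb⟩
    · rintro ⟨h, hya, hyb⟩
      rwa [hg'y y hya hyb]
  have hcard : g'.support.card = 2 := by
    rw [hsupp, Finset.card_sdiff_of_subset, hs, Finset.card_pair hab]
    intro y hy
    simp only [Finset.mem_insert, Finset.mem_singleton] at hy
    rw [Perm.mem_support]
    rcases hy with rfl | rfl
    · exact ha
    · rw [hgb]; exact hab
  obtain ⟨c, d, hcd, hsw⟩ := Perm.card_support_eq_two.1 hcard
  have hc : c ∈ g'.support := by rw [hsw, Perm.support_swap hcd]; simp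
  have hd : d ∈ g'.support := by rw [hsw, Perm.support_swap hcd]; simp
  rw [hsupp] at hc hd
  simp only [Finset.mem_sdiff, Finset.mem_insert, Finset.mem_singleton, not_or] at hc hd
  refine ⟨a, b, c, d, hab, fun h => hc.2.1 h.symm, fun h => hd.2.1 h.symm,
    fun h => hc.2.2 h.symm, fun h => hd.2.2 h.symm, hcd, ?_⟩
  rw [← hsw, hg', ← mul_assoc, swap_mul_self, one_mul]

/-- **Small support**: a `4`-transitive group of degree at least `8` containing a non-identity
element moving at most `5` points contains the alternating group. -/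
theorem le_of_small_support (G : Subgroup (Perm α)) (h4 : IsMultiplyPretransitive G α 4)
    (hcard : 8 ≤ Fintype.card α) {g : Perm α} (hgG : g ∈ G) (hg1 : g ≠ 1)
    (hs : g.support.card ≤ 5) : alternatingGroup α ≤ G := by
  have h2 : IsMultiplyPretransitive G α 2 :=
    isMultiplyPretransitive_of_le (n := 4) (by norm_num)
      (by rw [Nat.card_eq_fintype_card]; omega)
  have ho : orderOf g ≠ 1 := by rwa [Ne, orderOf_eq_one_iff]
  obtain ⟨ℓ, hℓ, hdvd⟩ := Nat.exists_prime_and_dvd ho
  obtain ⟨g', hg'def⟩ : ∃ g', g' = g ^ (orderOf g / ℓ) := ⟨_, rfl⟩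
  have ho' : orderOf g' = ℓ := by
    rw [hg'def]
    exact orderOf_pow_orderOf_div (orderOf_pos g).ne' hdvd
  have hg'G : g' ∈ G := by rw [hg'def]; exact G.pow_mem hgG _
  have hs' : g'.support.card ≤ 5 := by
    rw [hg'def]
    exact (Finset.card_le_card (Perm.support_pow_le g _)).trans hs
  obtain ⟨n, hn⟩ := Perm.cycleType_prime_order (σ := g') (by rw [ho']; exact hℓ)
  rw [ho'] at hn
  have hsum : g'.support.card = (n + 1) * ℓ := by
    rw [← Perm.sum_cycleType, hn, Multiset.sum_replicate, smul_eq_mul]
  have hℓ2 := hℓ.two_le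
  rw [hsum] at hs'
  have hn1 : n ≤ 1 := by nlinarith
  have hℓ5 : ℓ ≤ 5 := by nlinarith
  have hcases : (n = 0 ∧ ℓ = 2) ∨ (n = 0 ∧ ℓ = 3) ∨ (n = 1 ∧ ℓ = 2) ∨ (n = 0 ∧ ℓ = 5) := by
    interval_cases n <;> interval_cases ℓ <;> simp_all <;> norm_num at hℓ
  rcases hcases with ⟨rfl, rfl⟩ | ⟨rfl, rfl⟩ | ⟨rfl, rfl⟩ | ⟨rfl, rfl⟩
  · exact le_of_isSwap G h2 (Perm.card_support_eq_two.1 (by rw [hsum])) hg'G
  · exact le_of_isThreeCycle G h2 (card_support_eq_three_iff.1 (by rw [hsum])) hg'G
  · have hgg : g' * g' = 1 := by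
      rw [← pow_two, ← ho']
      exact pow_orderOf_eq_one g'
    obtain ⟨a, b, c, d, hab, hac, had, hbc, hbd, hcd, heq⟩ :=
      exists_double_swap hgg (by rw [hsum])
    rw [heq] at hg'G
    exact le_of_double_swap G h4 (by omega) hab hac had hbc hbd hcd hg'G
  · have hcyc : g'.IsCycle := Perm.card_cycleType_eq_one.1 (by rw [hn]; simp)
    exact Cfsg.Agent.Lead.PJ.jordan_prime_cycle G (isPreprimitive_of_is_two_pretransitive h2)
      Nat.prime_five (by omega) hcyc (by rw [hsum]) hg'G


/-- a `4`-transitive group of degree `9` contains the alternating group -/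
theorem le_of_card_nine (G : Subgroup (Perm α)) (h4 : IsMultiplyPretransitive G α 4)
    (hcard : Fintype.card α = 9) : alternatingGroup α ≤ G := by
  by_cases hsharp : ∀ x : Fin 4 ↪ α, stabilizer G x = ⊥
  · exfalso
    obtain ⟨x0⟩ : Nonempty (Fin 4 ↪ α) :=
      Function.Embedding.nonempty_of_card_le (by rw [Fintype.card_fin, hcard]; norm_num)
    obtain ⟨_, h⟩ := Cfsg.Agent.Helper3.SharpFour.card_mem ⟨h4, hsharp⟩ x0
    rw [Nat.card_eq_fintype_card, hcard] at h
    omega
  · push Not at hsharp
    obtain ⟨x, hx⟩ := hsharp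
    obtain ⟨g, hg1⟩ := (Subgroup.ne_bot_iff_exists_ne_one).1 hx
    have hfix : ∀ i, (g.1 : Perm α) (x i) = x i := by
      intro i
      have h1 : g.1 • x = x := g.2
      exact congrArg (fun f : Fin 4 ↪ α => f i) h1
    have hne : (g.1 : Perm α) ≠ 1 := by
      intro h
      apply hg1
      apply Subtype.ext
      apply Subtype.ext
      exact h
    have hsub : (g.1 : Perm α).support ⊆ (Finset.univ.image x)ᶜ := by
      intro y hy
      rw [Finset.mem_compl, Finset.mem_image]
      rintro ⟨i, _, rfl⟩
      rw [Perm.mem_support] at hy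
      exact hy (hfix i)
    have hc : (g.1 : Perm α).support.card ≤ 5 := by
      refine (Finset.card_le_card hsub).trans ?_
      rw [Finset.card_compl, Finset.card_image_of_injective _ x.injective, Finset.card_univ,
        Fintype.card_fin, hcard]
    exact le_of_small_support G h4 (by omega) g.1.2 hne hc

end Cfsg.Agent.Helper4.Miller
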