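import Mathlib
import Cfsg.Agent.Helper4.MillerF
import Cfsg.Agent.Helper4.MillerI
import Cfsg.Agent.Helper4.MillerL
import Cfsg.Agent.Helper4.MillerM

set_option autoImplicit false

/-!
# Miller's theorem: the remaining small cases, and the final assembly
-/

namespace Cfsg.Agent.Helper4.Miller

open Equiv MulAction

universe u

variable {α : Type u} [Fintype α] [DecidableEq α]

namespace Setup

variable {G : Subgroup (Perm α)} {p k r : ℕ} {x : Fin r ↪ α} {P : Subgroup (Perm α)}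

omit [DecidableEq α] in
/-- the action on the long orbits is killed by `k!` -/
theorem phi_pow_factorial (S : Setup G p k r x P) (g : S.Nsub) : S.phi g ^ k.factorial = 1 := by
  have h1 : Nat.card (Perm S.orbSub) = k.factorial := by
    rw [Nat.card_perm, S.card_orbSub]
  rw [← h1]
  exact pow_card_eq_one'

omit [DecidableEq α] in
/-- for `k = 3`, commutators act on the long orbits with order dividing `3` -/
theorem phi_commutator_cube (S : Setup G p 3 r x P) (u v : S.Nsub) :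
    S.phi (u⁻¹ * v⁻¹ * u * v) ^ 3 = 1 := by
  classical
  have : Fintype S.orbSub := Fintype.ofFinite _
  have hc : Fintype.card S.orbSub = 3 := by
    rw [← Nat.card_eq_fintype_card, S.card_orbSub]
  have : Nontrivial S.orbSub := Fintype.one_lt_card_iff_nontrivial.1 (by rw [hc]; norm_num)
  have hsign : Perm.sign (S.phi (u⁻¹ * v⁻¹ * u * v)) = 1 := by
    simp only [map_mul, map_inv]
    have : ∀ a b : ℤˣ, a⁻¹ * b⁻¹ * a * b = 1 := by
      intro a b
      rw [mul_assoc a⁻¹, mul_comm b⁻¹ a, ← mul_assoc, inv_mul_cancel, one_mul, inv_mul_cancel]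
    exact this _ _
  have hcardA : Nat.card (alternatingGroup S.orbSub) = 3 := by
    have := two_mul_nat_card_alternatingGroup (α := S.orbSub)
    rw [Nat.card_perm, S.card_orbSub] at this
    have h6 : Nat.factorial 3 = 6 := rfl
    omega
  have h1 := pow_card_eq_one' (x := (⟨S.phi (u⁻¹ * v⁻¹ * u * v),
    Perm.mem_alternatingGroup.2 hsign⟩ : alternatingGroup S.orbSub))
  rw [hcardA] at h1
  exact congrArg Subtype.val h1

omit [DecidableEq α] in
/-- for `k = 2`, every liftable permutation of order dividing `3` lifts to an element fixing all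
long orbits. -/
theorem exists_lift_fixOrb_k_two (S : Setup G p 2 r x P) (hW : S.Witt) (ρ : Perm (Fin r))
    (hρ : ρ ^ 3 = 1) : ∃ g ∈ G, Nrm P g ∧ S.FixOrb g ∧ S.Lifts g ρ := by
  obtain ⟨u₀, hG, hN, hL⟩ := hW ρ
  refine ⟨u₀ ^ 4, G.pow_mem hG 4, hN.pow 4, ?_, ?_⟩
  · have h1 : S.phi ((⟨u₀, hG, hN⟩ : S.Nsub) ^ 4) = 1 := by
      have h2 := S.phi_pow_factorial ⟨u₀, hG, hN⟩
      have h3 : Nat.factorial 2 = 2 := rfl
      rw [h3] at h2
      rw [map_pow, show 4 = 2 * 2 from rfl, pow_mul, h2, one_pow]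
    exact S.fixOrb_of_phi_eq_one h1
  · have := hL.pow 4
    rwa [show ρ ^ 4 = ρ from by rw [pow_succ, hρ, one_mul]] at this

omit [Fintype α] [DecidableEq α] in
theorem swap_mul_swap_cube {β : Type*} [Fintype β] [DecidableEq β] {a b c : β} (hab : a ≠ b)
    (hac : a ≠ c) (hbc : b ≠ c) : (swap a b * swap b c) ^ 3 = 1 := by
  have h := Perm.isThreeCycle_swap_mul_swap_same hab.symm hbc hac
  rw [swap_comm b a] at h
  rw [← h.orderOf]
  exact pow_orderOf_eq_one _

/-- **Case `k = 2`, `r ≥ 4`.** -/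
theorem main_k_two (S : Setup G p 2 r x P) (hW : S.Witt) (h4 : IsMultiplyPretransitive G α 4)
    (hr : 4 ≤ r) (hp2 : p ≠ 2) : alternatingGroup α ≤ G := by
  have hcard : 5 ≤ Fintype.card α := by
    rw [S.card]
    have := S.prime.two_le
    omega
  let e : Fin 4 ↪ Fin r := Fin.castLEEmb hr
  have hne : ∀ i j : Fin 4, i ≠ j → e i ≠ e j := fun i j h h' => h (e.injective h')
  refine S.main_of_pair h4 hcard hp2 e ?_ ?_
  · exact S.exists_lift_fixOrb_k_two hW _
      (swap_mul_swap_cube (hne 0 1 (by decide)) (hne 0 2 (by decide)) (hne 1 2 (by decide)))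
  · exact S.exists_lift_fixOrb_k_two hW _
      (swap_mul_swap_cube (hne 0 1 (by decide)) (hne 0 3 (by decide)) (hne 1 3 (by decide)))

/-- `P` acts semiregularly off its fixed points -/
def Semireg (_S : Setup G p k r x P) : Prop :=
  ∀ q ∈ P, ∀ γ, γ ∉ Set.range x → q γ = γ → q = 1

omit [DecidableEq α] in
theorem Semireg.eq_pow {S : Setup G p k r x P} (hsr : S.Semireg) {γ : α}
    (hγ : γ ∉ Set.range x) {q₀ : Perm α} (hq₀ : q₀ ∈ P) (hmove : q₀ γ ≠ γ) {q : Perm α}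
    (hq : q ∈ P) : ∃ i : ℕ, q = q₀ ^ i := by
  have : Fact p.Prime := ⟨S.prime⟩
  obtain ⟨h1, _, _⟩ := orbit_prime_structure P S.pgroup γ (S.orb γ hγ) hq₀ hmove
  obtain ⟨i, hi⟩ := h1 q hq
  refine ⟨i, ?_⟩
  have h2 : ((q₀ ^ i)⁻¹ * q) γ = γ := by
    rw [Perm.mul_apply, hi γ (mem_orbit_self γ)]
    simp
  have h3 := hsr _ (P.mul_mem (P.inv_mem (P.pow_mem hq₀ i)) hq) γ hγ h2
  rw [inv_mul_eq_one] at h3
  exact h3.symm

omit [DecidableEq α] in
/-- in the semiregular case, commutators of normalizing elements centralize `P` -/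
theorem Semireg.commutator_commute {S : Setup G p k r x P} (hsr : S.Semireg) {γ : α}
    (hγ : γ ∉ Set.range x) {q₀ : Perm α} (hq₀ : q₀ ∈ P) (hmove : q₀ γ ≠ γ) {u v : Perm α}
    (hu : Nrm P u) (hv : Nrm P v) : Commute (u⁻¹ * v⁻¹ * u * v) q₀ := by
  obtain ⟨i, hi⟩ := hsr.eq_pow hγ hq₀ hmove ((hu q₀).1 hq₀)
  obtain ⟨j, hj⟩ := hsr.eq_pow hγ hq₀ hmove ((hv q₀).1 hq₀)
  have h1 := commutator_eqOn (O := Set.univ) (Inv.univ q₀) (Inv.univ u) (Inv.univ v) (i := i)
    (j := j) (fun y _ => by rw [hi]) (fun y _ => by rw [hj])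
  have h2 : (u⁻¹ * v⁻¹ * u * v) * q₀ * (u⁻¹ * v⁻¹ * u * v)⁻¹ = q₀ :=
    Perm.ext (fun y => h1 y (Set.mem_univ y))
  exact mul_inv_eq_iff_eq_mul.1 h2

omit [DecidableEq α] in
/-- **Engine, semiregular form.** -/
theorem Semireg.pow_fix {S : Setup G p k r x P} (hsr : S.Semireg) {u v : Perm α}
    (hu : Nrm P u) (hv : Nrm P v) {m : ℕ} (hf : S.FixOrb ((u⁻¹ * v⁻¹ * u * v) ^ m)) (γ : α)
    (hγ : γ ∉ Set.range x) : (((u⁻¹ * v⁻¹ * u * v) ^ m) ^ p) γ = γ := by
  obtain ⟨q₀, hq₀, hmove⟩ := S.exists_move hγ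
  have hc := hsr.commutator_commute hγ hq₀ hmove hu hv
  have hc' : Commute ((u⁻¹ * v⁻¹ * u * v) ^ m) q₀ := hc.pow_left m
  have hw : Nrm P (u⁻¹ * v⁻¹ * u * v) := ((hu.inv.mul hv.inv).mul hu).mul hv
  refine S.pow_fix_of_commute (hw.pow m) hf hγ hq₀ hmove ?_
  intro y _
  rw [mul_inv_eq_iff_eq_mul.2 hc'.eq]

/-- **Case `k = 2`, `r = 3`, semiregular.** -/
theorem main_two_three {x : Fin 3 ↪ α} (S : Setup G p 2 3 x P) (hW : S.Witt) (hsr : S.Semireg)
    (h4 : IsMultiplyPretransitive G α 4) : alternatingGroup α ≤ G := by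
  have hcard := S.card
  have hp2 := S.prime.two_le
  have h2 : IsMultiplyPretransitive G α 2 :=
    isMultiplyPretransitive_of_le (n := 4) (by norm_num)
      (by rw [Nat.card_eq_fintype_card]; omega)
  by_cases hp3 : p = 3
  · exact le_of_card_nine G h4 (by rw [hcard, hp3])
  let e : Fin 3 ↪ Fin 3 := Function.Embedding.refl _
  obtain ⟨u, huG, huN, huL⟩ := hW (swap (e 0) (e 1) * swap (e 1) (e 2))
  obtain ⟨v, hvG, hvN, hvL⟩ := hW (swap (e 0) (e 1))
  have hwG : u⁻¹ * v⁻¹ * u * v ∈ G :=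
    G.mul_mem (G.mul_mem (G.mul_mem (G.inv_mem huG) (G.inv_mem hvG)) huG) hvG
  have hwN : Nrm P (u⁻¹ * v⁻¹ * u * v) := ((huN.inv.mul hvN.inv).mul huN).mul hvN
  have hL : S.Lifts (u⁻¹ * v⁻¹ * u * v) (swap (e 0) (e 2) * swap (e 0) (e 1)) := by
    rw [← commutator_three_two e]
    exact ((huL.inv.mul hvL.inv).mul huL).mul hvL
  have hf : S.FixOrb ((u⁻¹ * v⁻¹ * u * v) ^ 2) := by
    have h1 : S.phi ((⟨u⁻¹ * v⁻¹ * u * v, hwG, hwN⟩ : S.Nsub) ^ 2) = 1 := by
      have h2 := S.phi_pow_factorial ⟨u⁻¹ * v⁻¹ * u * v, hwG, hwN⟩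
      have h3 : Nat.factorial 2 = 2 := rfl
      rw [h3] at h2
      rw [map_pow, h2]
    exact S.fixOrb_of_phi_eq_one h1
  have hfix := hsr.pow_fix huN hvN hf
  have hm : ¬ 3 ∣ 2 * p := by
    intro h
    rcases (Nat.Prime.dvd_mul Nat.prime_three).1 h with h | h
    · omega
    · exact hp3 ((Nat.prime_dvd_prime_iff_eq Nat.prime_three S.prime).1 h).symm
  refine S.le_of_lift_three_pow h2 (G.pow_mem (G.pow_mem hwG 2) p) e hm ?_ hfix
  have := (hL.pow 2).pow p
  rwa [← pow_mul (swap (e 0) (e 2) * swap (e 0) (e 1))] at this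

/-- **Case `k = 3`, `r ≥ 4`, semiregular.** -/
theorem main_three_four (S : Setup G p 3 r x P) (hW : S.Witt) (hsr : S.Semireg)
    (h4 : IsMultiplyPretransitive G α 4) (hr : 4 ≤ r) (hp2 : p ≠ 2) :
    alternatingGroup α ≤ G := by
  have hcard : 5 ≤ Fintype.card α := by
    rw [S.card]
    have := S.prime.two_le
    omega
  have hodd : Odd p := S.prime.odd_of_ne_two hp2
  let e : Fin 4 ↪ Fin r := Fin.castLEEmb hr
  have hne : ∀ i j : Fin 4, i ≠ j → e i ≠ e j := fun i j h h' => h (e.injective h')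
  obtain ⟨u, huG, huN, huL⟩ := hW (swap (e 0) (e 1) * swap (e 1) (e 2))
  obtain ⟨v, hvG, hvN, hvL⟩ := hW (swap (e 0) (e 1) * swap (e 1) (e 3))
  have hwG : u⁻¹ * v⁻¹ * u * v ∈ G :=
    G.mul_mem (G.mul_mem (G.mul_mem (G.inv_mem huG) (G.inv_mem hvG)) huG) hvG
  have hL : S.Lifts (u⁻¹ * v⁻¹ * u * v) (swap (e 0) (e 1) * swap (e 2) (e 3)) := by
    rw [← commutator_three_cycles e]
    exact ((huL.inv.mul hvL.inv).mul huL).mul hvL
  have hf : S.FixOrb ((u⁻¹ * v⁻¹ * u * v) ^ 3) := by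
    have h1 := S.phi_commutator_cube ⟨u, huG, huN⟩ ⟨v, hvG, hvN⟩
    rw [← map_pow] at h1
    exact S.fixOrb_of_phi_eq_one h1
  have hfix := hsr.pow_fix huN hvN hf
  have hLp : S.Lifts (((u⁻¹ * v⁻¹ * u * v) ^ 3) ^ p) (swap (e 0) (e 1) * swap (e 2) (e 3)) := by
    have := (hL.pow 3).pow p
    rwa [pow_odd_of_sq (double_swap_sq e) (by decide : Odd 3),
      pow_odd_of_sq (double_swap_sq e) hodd] at this
  exact S.le_of_lift_double h4 hcard (G.pow_mem (G.pow_mem hwG 3) p) (hne 0 1 (by decide))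
    (hne 0 2 (by decide)) (hne 0 3 (by decide)) (hne 1 2 (by decide)) (hne 1 3 (by decide))
    (hne 2 3 (by decide)) hLp hfix

end Setup

/-- **Miller's theorem**, by induction on `k`. -/
theorem miller_aux : ∀ (k : ℕ) {α : Type u} [Fintype α] [DecidableEq α]
    (G : Subgroup (Perm α)) {p r : ℕ}, p.Prime → Fintype.card α = k * p + r → 1 ≤ k → k < p →
    k < r → ¬ (k = 1 ∧ r = 2) → IsMultiplyPretransitive G α (r + 1) →
    alternatingGroup α ≤ G := by
  intro k
  induction k using Nat.strong_induction_on with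
  | _ k ih =>
    intro α _ _ G p r hp hn hk hpk hrk hex hG
    have hr3 : 3 ≤ r := by omega
    have hkp : 1 ≤ k * p := Nat.mul_pos hk hp.pos
    obtain ⟨x, P, S, hW, hW2⟩ := exists_setup G hp hn hk hpk hG
    have h4 : IsMultiplyPretransitive G α 4 :=
      isMultiplyPretransitive_of_le (n := r + 1) (by omega)
        (by rw [Nat.card_eq_fintype_card, hn]; omega)
    by_cases hk1 : k = 1
    · subst hk1
      exact S.main_k_one hW h4 hr3
    have hp2 : p ≠ 2 := by omega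
    by_cases hsr : S.Semireg
    · by_cases h5 : 5 ≤ r
      · exact S.main_of_five_le hW.alt h4 h5 hrk hp2
      have hc : (k = 2 ∧ r = 3) ∨ (k = 2 ∧ r = 4) ∨ (k = 3 ∧ r = 4) := by omega
      rcases hc with ⟨rfl, rfl⟩ | ⟨rfl, rfl⟩ | ⟨rfl, rfl⟩
      · exact S.main_two_three hW hsr h4
      · exact S.main_k_two hW h4 le_rfl hp2
      · exact S.main_three_four hW hsr h4 le_rfl hp2
    · unfold Setup.Semireg at hsr
      push Not at hsr
      obtain ⟨q, hq, γ, hγ, hqγ, hq1⟩ := hsr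
      exact S.main_of_stab_ne_bot hW2 h4 hp2 hr3 hrk hγ ⟨hq, hqγ⟩ hq1
        (fun j hj1 hjk β _ _ H hc hH =>
          ih j hjk H hp hc hj1 (by omega) (by omega) (by omega) hH)

end Cfsg.Agent.Helper4.Miller
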