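import Mathlib
import Cfsg.Agent.Helper4.SylowCount

set_option autoImplicit false

namespace Cfsg.Agent.Helper4

/-- If a normal subgroup `N'` of `K` has no proper supplement, every prime dividing `|K|` divides
`|K : N'|`. -/
theorem prime_dvd_index_of_no_proper_supplement {K : Type*} [Group K] [Finite K]
    (N' : Subgroup K) [N'.Normal] (hmin : ∀ L : Subgroup K, L ⊔ N' = ⊤ → L = ⊤)
    (p : ℕ) (hp : p.Prime) (hpK : p ∣ Nat.card K) : p ∣ N'.index := by
  by_contra hnd
  haveI : Fact p.Prime := ⟨hp⟩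
  obtain ⟨P⟩ : Nonempty (Sylow p K) := inferInstance
  have hPN : (P : Subgroup K) ≤ N' := sylow_le_normal_of_not_dvd_index p N' hnd P
  have hfr := Sylow.normalizer_sup_eq_top' P hPN
  have hnorm : Subgroup.normalizer ((P : Subgroup K) : Set K) = ⊤ := hmin _ hfr
  haveI : (P : Subgroup K).Normal := Subgroup.normalizer_eq_top_iff.mp hnorm
  have hcop : Nat.Coprime (Nat.card (P : Subgroup K)) (P : Subgroup K).index := P.card_coprime_index
  obtain ⟨L, hL⟩ := Subgroup.exists_right_complement'_of_coprime hcop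
  have hLtop : L = ⊤ := by
    apply hmin
    have h1 : (P : Subgroup K) ⊔ L = ⊤ := hL.sup_eq_top
    apply top_le_iff.mp
    rw [← h1]
    exact sup_le (le_sup_of_le_right hPN) le_sup_left
  have h2 := hL.card_mul_card
  rw [hLtop, Subgroup.card_top] at h2
  have h3 : Nat.card (P : Subgroup K) = 1 := by
    have hpos : 0 < Nat.card K := Nat.card_pos
    have : Nat.card (P : Subgroup K) * Nat.card K = 1 * Nat.card K := by rw [h2, one_mul]
    exact Nat.eq_of_mul_eq_mul_right hpos this
  exact P.ne_bot_of_dvd_card hpK (Subgroup.card_eq_one.mp h3)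

/-- A minimal supplement `K` of a normal subgroup `N`: `K N = G` and `K ∩ N` has no proper
supplement in `K`. -/
theorem exists_min_supplement {G : Type*} [Group G] [Finite G] (N : Subgroup G) [N.Normal] :
    ∃ K : Subgroup G, K ⊔ N = ⊤ ∧ ∀ L : Subgroup K, L ⊔ N.subgroupOf K = ⊤ → L = ⊤ := by
  classical
  have hfin : Set.Finite {K : Subgroup G | K ⊔ N = ⊤} := Set.toFinite _
  have hne : {K : Subgroup G | K ⊔ N = ⊤}.Nonempty := ⟨⊤, top_sup_eq N⟩
  obtain ⟨K, hK, hKmin⟩ := hfin.exists_minimal hne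
  refine ⟨K, hK, ?_⟩
  intro L hL
  have h1 : (L.map K.subtype) ⊔ N = ⊤ := by
    have h2 : (L ⊔ N.subgroupOf K).map K.subtype = K := by
      rw [hL, ← MonoidHom.range_eq_map, Subgroup.range_subtype]
    rw [Subgroup.map_sup, Subgroup.subgroupOf_map_subtype] at h2
    apply top_le_iff.mp
    rw [← hK]
    apply sup_le _ le_sup_right
    have h5 : Subgroup.map K.subtype L ⊔ N ⊓ K ≤ Subgroup.map K.subtype L ⊔ N :=
      sup_le le_sup_left (le_sup_of_le_right inf_le_left)
    exact h2.symm.le.trans h5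
  have h3 : L.map K.subtype ≤ K := Subgroup.map_subtype_le L
  have h4 : K ≤ L.map K.subtype := hKmin h1 h3
  rw [eq_top_iff]
  intro x _
  obtain ⟨y, hy, hyx⟩ := h4 x.2
  have : y = x := Subtype.ext hyx
  rw [← this]; exact hy

end Cfsg.Agent.Helper4
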