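import Mathlib
import Cfsg.Prelude.Def_Perm

set_option autoImplicit false

namespace Cfsg.Agent.Helper4

open Cfsg

section
variable {F : Type*} [NearField F]

theorem nf_zero_mul (c : F) : (0 : F) * c = 0 := by
  have h := NearField.right_distrib (0 : F) 0 c
  rw [add_zero] at h
  exact (add_eq_left.1 h.symm)

theorem nf_neg_mul (a c : F) : (-a) * c = -(a * c) := by
  have h := NearField.right_distrib (-a) a c
  rw [neg_add_cancel, nf_zero_mul] at h
  exact eq_neg_of_add_eq_zero_left h.symm

theorem nf_sub_mul (a b c : F) : (a - b) * c = a * c - b * c := by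
  rw [sub_eq_add_neg, NearField.right_distrib, nf_neg_mul, ← sub_eq_add_neg]

theorem nf_nsmul_mul (n : ℕ) (a c : F) : (n • a) * c = n • (a * c) := by
  induction n with
  | zero => rw [zero_nsmul, zero_nsmul, nf_zero_mul]
  | succ n ih => rw [succ_nsmul, succ_nsmul, NearField.right_distrib, ih]

theorem nf_mul_ne_zero {a c : F} (ha : a ≠ 0) (hc : c ≠ 0) : a * c ≠ 0 := by
  intro h
  obtain ⟨d, hd, _⟩ := NearField.exists_inv c hc
  apply ha
  calc a = a * (c * d) := by rw [hd, mul_one]
    _ = (a * c) * d := by rw [mul_assoc]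
    _ = 0 := by rw [h, nf_zero_mul]

/-- every nonzero element is `x₀ * c` for given nonzero `x₀` -/
theorem nf_exists_mul_eq {x₀ x : F} (h0 : x₀ ≠ 0) : ∃ c : F, x₀ * c = x := by
  obtain ⟨d, hd, _⟩ := NearField.exists_inv x₀ h0
  exact ⟨d * x, by rw [← mul_assoc, hd, one_mul]⟩

end

end Cfsg.Agent.Helper4
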