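import Mathlib
import Cfsg.Agent.Helper4.NearFieldBasic

set_option autoImplicit false

namespace Cfsg.Agent.Helper4

open Cfsg

section
variable {F : Type*} [NearField F]

/-- a chosen inverse in a near-field -/
noncomputable def nfInv (a : F) : F :=
  haveI := Classical.propDecidable (a ≠ 0)
  if h : a ≠ 0 then Classical.choose (NearField.exists_inv a h) else 0

theorem nf_mul_nfInv {a : F} (h : a ≠ 0) : a * nfInv a = 1 := by
  unfold nfInv
  rw [dif_pos h]
  exact (Classical.choose_spec (NearField.exists_inv a h)).1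

theorem nf_nfInv_mul {a : F} (h : a ≠ 0) : nfInv a * a = 1 := by
  unfold nfInv
  rw [dif_pos h]
  exact (Classical.choose_spec (NearField.exists_inv a h)).2

/-- the affine map `x ↦ x * a + b` as a permutation -/
noncomputable def nfAffine (a b : F) (ha : a ≠ 0) : Equiv.Perm F where
  toFun x := x * a + b
  invFun y := (y - b) * nfInv a
  left_inv x := by
    show (x * a + b - b) * nfInv a = x
    rw [add_sub_cancel_right, mul_assoc, nf_mul_nfInv ha, mul_one]
  right_inv y := by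
    show (y - b) * nfInv a * a + b = y
    rw [mul_assoc, nf_nfInv_mul ha, mul_one, sub_add_cancel]

theorem nfAffine_apply (a b : F) (ha : a ≠ 0) (x : F) : nfAffine a b ha x = x * a + b := rfl

/-- the group of affine maps of a near-field -/
def nfAffineGroup (F : Type*) [NearField F] : Subgroup (Equiv.Perm F) where
  carrier := {σ | ∃ a b : F, a ≠ 0 ∧ ∀ x : F, σ x = x * a + b}
  one_mem' := ⟨1, 0, fun h => NearField.zero_ne_one h.symm, fun x => by
    rw [Equiv.Perm.one_apply, mul_one, add_zero]⟩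
  mul_mem' := by
    rintro σ τ ⟨a, b, ha, hσ⟩ ⟨c, d, hc, hτ⟩
    refine ⟨c * a, d * a + b, nf_mul_ne_zero hc ha, fun x => ?_⟩
    rw [Equiv.Perm.mul_apply, hτ, hσ, NearField.right_distrib, mul_assoc, add_assoc]
  inv_mem' := by
    rintro σ ⟨a, b, ha, hσ⟩
    have hd0 : nfInv a ≠ 0 := by
      intro h
      have := nf_nfInv_mul ha
      rw [h, nf_zero_mul] at this
      exact NearField.zero_ne_one this
    refine ⟨nfInv a, (-b) * nfInv a, hd0, fun y => ?_⟩
    apply σ.injective
    rw [Equiv.Perm.inv_def, Equiv.apply_symm_apply, hσ, ← NearField.right_distrib, mul_assoc, nf_nfInv_mul ha,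
      mul_one, ← sub_eq_add_neg, sub_add_cancel]

theorem mem_nfAffineGroup (σ : Equiv.Perm F) :
    σ ∈ nfAffineGroup F ↔ ∃ a b : F, a ≠ 0 ∧ ∀ x : F, σ x = x * a + b := Iff.rfl

theorem nfAffineGroup_two_pretransitive :
    MulAction.IsMultiplyPretransitive (nfAffineGroup F) F 2 := by
  rw [MulAction.is_two_pretransitive_iff]
  intro x₁ x₂ y₁ y₂ hx hy
  have hx' : x₂ - x₁ ≠ 0 := fun h => hx (sub_eq_zero.1 h).symm
  have hy' : y₂ - y₁ ≠ 0 := fun h => hy (sub_eq_zero.1 h).symm
  have hd0 : nfInv (x₂ - x₁) ≠ 0 := by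
    intro h
    have := nf_nfInv_mul hx'
    rw [h, nf_zero_mul] at this
    exact NearField.zero_ne_one this
  have ha : nfInv (x₂ - x₁) * (y₂ - y₁) ≠ 0 := nf_mul_ne_zero hd0 hy'
  obtain ⟨a, haeq⟩ : ∃ a, a = nfInv (x₂ - x₁) * (y₂ - y₁) := ⟨_, rfl⟩
  rw [← haeq] at ha
  let σ : Equiv.Perm F := nfAffine a (-(x₁ * a) + y₁) ha
  have hσ : σ ∈ nfAffineGroup F := ⟨a, -(x₁ * a) + y₁, ha, fun x => rfl⟩
  refine ⟨⟨σ, hσ⟩, ?_, ?_⟩
  · show σ x₁ = y₁
    show x₁ * a + (-(x₁ * a) + y₁) = y₁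
    rw [add_neg_cancel_left]
  · show σ x₂ = y₂
    show x₂ * a + (-(x₁ * a) + y₁) = y₂
    rw [← add_assoc, ← sub_eq_add_neg, ← nf_sub_mul, haeq, ← mul_assoc, nf_mul_nfInv hx', one_mul,
      sub_add_cancel]

theorem nfAffineGroup_sharp (x : Fin 2 ↪ F) :
    MulAction.stabilizer (nfAffineGroup F) x = ⊥ := by
  rw [eq_bot_iff]
  intro g hg
  rw [MulAction.mem_stabilizer_iff] at hg
  rw [Subgroup.mem_bot]
  obtain ⟨a, b, ha, hσ⟩ := g.2
  have h0 : (g : Equiv.Perm F) (x 0) = x 0 := by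
    have := congrArg (fun f : Fin 2 ↪ F => f 0) hg
    exact this
  have h1 : (g : Equiv.Perm F) (x 1) = x 1 := by
    have := congrArg (fun f : Fin 2 ↪ F => f 1) hg
    exact this
  rw [hσ] at h0 h1
  have hne : x 1 - x 0 ≠ 0 := by
    intro h
    have := x.injective (sub_eq_zero.1 h)
    exact absurd this (by decide)
  have hsub : (x 1 - x 0) * a = x 1 - x 0 := by
    rw [nf_sub_mul]
    calc x 1 * a - x 0 * a = (x 1 * a + b) - (x 0 * a + b) := by
          rw [add_sub_add_right_eq_sub]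
      _ = x 1 - x 0 := by rw [h0, h1]
  have ha1 : a = 1 := by
    have := congrArg (fun z => nfInv (x 1 - x 0) * z) hsub
    simp only [← mul_assoc, nf_nfInv_mul hne, one_mul] at this
    exact this
  have hb : b = 0 := by
    rw [ha1, mul_one] at h0
    exact add_eq_left.1 h0
  apply Subtype.ext
  apply Equiv.ext
  intro y
  rw [hσ, ha1, hb, mul_one, add_zero]
  rfl

end

end Cfsg.Agent.Helper4
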