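import Mathlib
import Cfsg.Agent.Lead.NilpMax
import Cfsg.Agent.Lead.GrunFirst
import Cfsg.Agent.Helper4.PClassAbelSylow

set_option autoImplicit false

/-! Deskins–Janko: a finite group with a maximal subgroup that is nilpotent of class at most 2
is solvable.  (Grün's first theorem + Burnside transfer inside `G'` + Thompson's odd case.) -/

namespace Cfsg.Agent.Helper4.NilpMaxTwo

open Cfsg Cfsg.Agent.Lead Cfsg.Agent.Helper1 Cfsg.Agent.Helper1.ThompsonRed
open scoped commutatorElement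

universe u

variable {G : Type u} [Group G] [Finite G]

theorem mem_normalizer_of_forall_conj_mem {H : Subgroup G} {g : G}
    (h1 : ∀ x ∈ H, g * x * g⁻¹ ∈ H) : g ∈ Subgroup.normalizer (H : Set G) := by
  have hinj : Function.Injective (fun x : H => (⟨g * x * g⁻¹, h1 x x.2⟩ : H)) := by
    intro x y hxy
    have h2 : g * (x : G) * g⁻¹ = g * (y : G) * g⁻¹ := congrArg Subtype.val hxy
    have h3 : (x : G) = y := by simpa using h2
    exact Subtype.ext h3
  have hsurj := Finite.surjective_of_injective hinj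
  rw [Subgroup.mem_normalizer_iff]
  intro x
  refine ⟨h1 x, fun hx => ?_⟩
  obtain ⟨y, hy⟩ := hsurj ⟨g * x * g⁻¹, hx⟩
  have h2 : g * (y : G) * g⁻¹ = g * x * g⁻¹ := congrArg Subtype.val hy
  have h3 : (y : G) = x := by simpa using h2
  rw [← h3]; exact y.2

theorem mem_normalizer_of_map_le {H : Subgroup G} {g : G}
    (h : H.map (MulAut.conj g).toMonoidHom ≤ H) : g ∈ Subgroup.normalizer (H : Set G) :=
  mem_normalizer_of_forall_conj_mem (fun x hx => h ⟨x, hx, rfl⟩)

/-- A normal subgroup of order coprime to a solvable maximal subgroup is solvable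
(it is a `q`-group). -/
theorem isSolvable_normal_of_coprime {M : Subgroup G} (hM : IsCoatom M)
    (hMsolv : Group.IsSolvable M) (L : Subgroup G) [hLn : L.Normal]
    (hcop : Nat.Coprime (Nat.card M) (Nat.card L)) : Group.IsSolvable L := by
  by_cases hLbot : L = ⊥
  · subst hLbot; infer_instance
  have hML : M ⊓ L = ⊥ := (Subgroup.disjoint_of_coprime_natCard hcop).eq_bot
  obtain ⟨q, hq, hqd⟩ := Nat.exists_prime_and_dvd
    (fun h => hLbot (Subgroup.card_eq_one.1 h) : Nat.card L ≠ 1)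
  have : Fact q.Prime := ⟨hq⟩
  have hMNL : M ≤ Subgroup.normalizer (L : Set G) := by
    rw [Subgroup.normalizer_eq_top_iff.2 hLn]; exact le_top
  obtain ⟨R, hR⟩ := exists_invariant_sylow (p := q) M L hMNL hcop (Or.inl hMsolv)
  obtain ⟨R', hR'def⟩ : ∃ R' : Subgroup G, R' = (R : Subgroup L).map L.subtype := ⟨_, rfl⟩
  rw [← hR'def] at hR
  have hR'L : R' ≤ L := by
    rw [hR'def]; rintro _ ⟨y, -, rfl⟩; exact y.2
  have hR'ne : R' ≠ ⊥ := by
    intro h
    have h1 : Nat.card R' = q ^ (Nat.card L).factorization q := by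
      rw [hR'def, Subgroup.card_map_of_injective L.subtype_injective]
      exact R.card_eq_multiplicity
    rw [h, Subgroup.card_bot] at h1
    have h2 : 0 < (Nat.card L).factorization q :=
      hq.factorization_pos_of_dvd Nat.card_pos.ne' hqd
    have h3 : 1 < q ^ (Nat.card L).factorization q := Nat.one_lt_pow h2.ne' hq.one_lt
    omega
  have hsup : M ⊔ R' = ⊤ := by
    apply hM.2
    rw [lt_iff_le_and_ne]
    refine ⟨le_sup_left, fun h => hR'ne ?_⟩
    have h1 : R' ≤ M := by rw [h]; exact le_sup_right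
    rw [eq_bot_iff, ← hML]
    exact le_inf h1 hR'L
  have hLR : L ≤ R' := by
    intro y hy
    have hy' : y ∈ ((M ⊔ R' : Subgroup G) : Set G) := by rw [hsup]; exact Set.mem_univ y
    rw [Subgroup.coe_mul_of_left_le_normalizer_right M R' hR] at hy'
    obtain ⟨m, hm, z, hz, rfl⟩ := Set.mem_mul.1 hy'
    have hmL : m ∈ L := by
      have : m = (m * z) * z⁻¹ := by group
      rw [this]
      exact Subgroup.mul_mem _ hy (Subgroup.inv_mem _ (hR'L hz))
    have hm1 : m = 1 := by
      have : m ∈ M ⊓ L := ⟨hm, hmL⟩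
      rw [hML, Subgroup.mem_bot] at this
      exact this
    rw [hm1, one_mul]; exact hz
  have hLp : IsPGroup q L := by
    intro y
    have hyR : (y : G) ∈ R' := hLR y.2
    rw [hR'def] at hyR
    obtain ⟨y', hy', hyy⟩ := hyR
    have : y' = y := Subtype.ext hyy
    rw [this] at hy'
    obtain ⟨k, hk⟩ := R.2 ⟨y, hy'⟩
    refine ⟨k, ?_⟩
    have := congrArg Subtype.val hk
    simpa using this
  have := hLp.isNilpotent
  infer_instance

theorem normalizer_eq_of_corefree {M : Subgroup G} (hM : IsCoatom M)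
    (hcf : ∀ N : Subgroup G, N.Normal → N ≤ M → N = ⊥) (X : Subgroup G) (hX : X ≠ ⊥)
    (hXM : X ≤ M) (hMX : M ≤ Subgroup.normalizer (X : Set G)) :
    Subgroup.normalizer (X : Set G) = M := by
  rcases hM.le_iff.1 hMX with h | h
  · exfalso
    apply hX
    apply hcf X _ hXM
    exact Subgroup.normalizer_eq_top_iff.1 h
  · exact h

/-- for a core-free nilpotent maximal subgroup `M` and a prime `p` dividing `|M|`, the Sylow
`p`-subgroup of `M` is a Sylow subgroup of `G` with normalizer `M`. -/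
theorem exists_sylow_of_corefree {M : Subgroup G} (hM : IsCoatom M) (hnil : Group.IsNilpotent M)
    (hcf : ∀ N : Subgroup G, N.Normal → N ≤ M → N = ⊥) {p : ℕ} [hp : Fact p.Prime]
    (hpM : p ∣ Nat.card M) :
    ∃ Q : Sylow p G, (Q : Subgroup G) ≤ M ∧
      Subgroup.normalizer ((Q : Subgroup G) : Set G) = M ∧ (Q : Subgroup G) ≠ ⊥ := by
  obtain ⟨P₀⟩ : Nonempty (Sylow p M) := inferInstance
  have hall := ((Group.isNilpotent_of_finite_tfae (G := M)).out 0 3).1 hnil
  have hP₀n : (P₀ : Subgroup M).Normal := hall p hp P₀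
  obtain ⟨P, hPdef⟩ : ∃ P : Subgroup G, P = (P₀ : Subgroup M).map M.subtype := ⟨_, rfl⟩
  have hPM : P ≤ M := by
    rw [hPdef]; rintro _ ⟨x, -, rfl⟩; exact x.2
  have hPp : IsPGroup p P := by
    rw [hPdef]; exact P₀.2.map _
  have hPcard : Nat.card P = p ^ (Nat.card M).factorization p := by
    rw [hPdef, Subgroup.card_map_of_injective M.subtype_injective]
    exact P₀.card_eq_multiplicity
  have hPne : P ≠ ⊥ := by
    intro h
    rw [h, Subgroup.card_bot] at hPcard
    have h1 : 0 < (Nat.card M).factorization p :=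
      (hp.out.factorization_pos_of_dvd Nat.card_pos.ne' hpM)
    have h2 : 1 < p ^ (Nat.card M).factorization p :=
      Nat.one_lt_pow h1.ne' hp.out.one_lt
    omega
  have hnormM : M ≤ Subgroup.normalizer (P : Set G) := by
    intro g hg
    apply mem_normalizer_of_forall_conj_mem
    rw [hPdef]
    rintro _ ⟨y₀, hy₀, rfl⟩
    exact ⟨⟨g, hg⟩ * y₀ * ⟨g, hg⟩⁻¹, hP₀n.conj_mem y₀ hy₀ _, rfl⟩
  have hNP : Subgroup.normalizer (P : Set G) = M :=
    normalizer_eq_of_corefree hM hcf P hPne hPM hnormM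
  obtain ⟨Q, hPQ⟩ := hPp.exists_le_sylow
  have hQeq : (Q : Subgroup G) = P := by
    by_contra hne
    have h1 := Alp.card_lt_inf_normalizer Q.2 hPQ (Ne.symm hne)
    have h2 : ((Q : Subgroup G) ⊓ Subgroup.normalizer (P : Set G) : Subgroup G) ≤ M := by
      rw [hNP]; exact inf_le_right
    have h3 : IsPGroup p ((Q : Subgroup G) ⊓ Subgroup.normalizer (P : Set G) : Subgroup G) :=
      Q.2.to_le inf_le_left
    have h4 := card_le_ppart_of_isPGroup h3 h2
    rw [← hPcard] at h4
    omega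
  refine ⟨Q, ?_, ?_, ?_⟩
  · rw [hQeq]; exact hPM
  · rw [hQeq]; exact hNP
  · rw [hQeq]; exact hPne

/-- the centre of `M` as a subgroup of `G` -/
def zm (M : Subgroup G) : Subgroup G := M ⊓ Subgroup.centralizer (M : Set G)

theorem mem_zm {M : Subgroup G} {x : G} : x ∈ zm M ↔ x ∈ M ∧ ∀ c ∈ M, c * x = x * c := by
  simp only [zm, Subgroup.mem_inf, Subgroup.mem_centralizer_iff, SetLike.mem_coe]

theorem zm_le (M : Subgroup G) : zm M ≤ M := fun _ hx => (mem_zm.1 hx).1

theorem zm_ne_bot {M : Subgroup G} (hnil : Group.IsNilpotent M) (hMbot : M ≠ ⊥) : zm M ≠ ⊥ := by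
  have : Nontrivial M := (Subgroup.nontrivial_iff_ne_bot M).2 hMbot
  have := hnil
  have h1 : Subgroup.center M ≠ ⊥ := Group.IsNilpotent.center_ne_bot M
  intro h
  apply h1
  rw [Subgroup.eq_bot_iff_forall]
  intro z hz
  have h2 : (z : G) ∈ zm M := by
    rw [mem_zm]
    refine ⟨z.2, fun c hc => ?_⟩
    have := Subgroup.mem_center_iff.1 hz ⟨c, hc⟩
    exact congrArg Subtype.val this
  rw [h, Subgroup.mem_bot] at h2
  exact Subtype.ext h2

section CoreFree

variable {M : Subgroup G} (hM : IsCoatom M)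
  (hcf : ∀ N : Subgroup G, N.Normal → N ≤ M → N = ⊥)
  (hcl : ∀ a ∈ M, ∀ b ∈ M, ∀ c ∈ M, (a * b * a⁻¹ * b⁻¹) * c = c * (a * b * a⁻¹ * b⁻¹))

include hcl in
theorem comm_mem_zm {a b : G} (ha : a ∈ M) (hb : b ∈ M) : a * b * a⁻¹ * b⁻¹ ∈ zm M := by
  rw [mem_zm]
  refine ⟨mul_mem (mul_mem (mul_mem ha hb) (inv_mem ha)) (inv_mem hb), ?_⟩
  intro c hc
  exact (hcl a ha b hb c hc).symm

include hM hcf in
theorem centralizer_eq {y : G} (hy : y ∈ zm M) (hy1 : y ≠ 1) :
    Subgroup.centralizer ({y} : Set G) = M := by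
  rw [mem_zm] at hy
  have hle : M ≤ Subgroup.centralizer ({y} : Set G) := by
    intro m hm
    rw [Subgroup.mem_centralizer_singleton_iff]
    exact hy.2 m hm
  rcases hM.le_iff.1 hle with h | h
  · exfalso
    apply hy1
    have hyc : y ∈ Subgroup.center G := by
      rw [Subgroup.mem_center_iff]
      intro g
      have : g ∈ Subgroup.centralizer ({y} : Set G) := by rw [h]; exact Subgroup.mem_top g
      exact Subgroup.mem_centralizer_singleton_iff.1 this
    have hn : (Subgroup.zpowers y).Normal := by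
      constructor
      intro n hn g
      have hnc : n ∈ Subgroup.center G := (Subgroup.zpowers_le.2 hyc) hn
      have : g * n = n * g := Subgroup.mem_center_iff.1 hnc g
      rw [this, mul_inv_cancel_right]; exact hn
    have := hcf _ hn (Subgroup.zpowers_le.2 hy.1)
    rw [Subgroup.zpowers_eq_bot] at this
    exact this
  · exact h

include hM hcf hcl in
theorem claimZ (hZ : zm M ≠ ⊥) {h : G} (hh : ∀ w ∈ zm M, h * w * h⁻¹ ∈ M) : h ∈ M := by
  obtain ⟨y, hyZ, hy1⟩ : ∃ y ∈ zm M, y ≠ 1 := by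
    by_contra hcon
    push Not at hcon
    exact hZ ((Subgroup.eq_bot_iff_forall _).2 hcon)
  have hCy := centralizer_eq hM hcf hyZ hy1
  have hi : ∀ w ∈ zm M, h⁻¹ * w * h ∈ M := by
    intro w hw
    rw [← hCy, Subgroup.mem_centralizer_singleton_iff]
    have h1 : h * y * h⁻¹ ∈ M := hh y hyZ
    have h2 : (h * y * h⁻¹) * w = w * (h * y * h⁻¹) := (mem_zm.1 hw).2 _ h1
    calc h⁻¹ * w * h * y = h⁻¹ * (w * (h * y * h⁻¹)) * h := by group
      _ = h⁻¹ * ((h * y * h⁻¹) * w) * h := by rw [h2]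
      _ = y * (h⁻¹ * w * h) := by group
  obtain ⟨W, hW⟩ : ∃ W : Subgroup G, W = zm M ⊔ (zm M).map (MulAut.conj h).toMonoidHom :=
    ⟨_, rfl⟩
  have hZM : zm M ≤ M := zm_le M
  have hWM : W ≤ M := by
    rw [hW]
    refine sup_le hZM ?_
    rintro _ ⟨w, hw, rfl⟩
    exact hh w hw
  have hWne : W ≠ ⊥ := by
    rw [hW]; exact ne_bot_of_le_ne_bot hZ le_sup_left
  have hconjM : ∀ m ∈ M, ∀ w ∈ zm M, m * w * m⁻¹ = w := by
    intro m hm w hw
    rw [(mem_zm.1 hw).2 m hm, mul_inv_cancel_right]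
  have hN1 : M ≤ Subgroup.normalizer (W : Set G) := by
    intro m hm
    apply mem_normalizer_of_map_le
    rw [hW, Subgroup.map_sup]
    apply sup_le
    · rintro _ ⟨w, hw, rfl⟩
      change m * w * m⁻¹ ∈ _
      rw [hconjM m hm w hw]
      exact Subgroup.mem_sup_left hw
    · rintro _ ⟨_, ⟨w, hw, rfl⟩, rfl⟩
      change m * (h * w * h⁻¹) * m⁻¹ ∈ _
      have hu : h * w * h⁻¹ ∈ M := hh w hw
      have e : m * (h * w * h⁻¹) * m⁻¹ =
          (m * (h * w * h⁻¹) * m⁻¹ * (h * w * h⁻¹)⁻¹) * (h * w * h⁻¹) := by group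
      rw [e]
      exact Subgroup.mul_mem_sup (comm_mem_zm hcl hm hu) ⟨w, hw, rfl⟩
  have hN2 : ∀ m ∈ M, h * m * h⁻¹ ∈ Subgroup.normalizer (W : Set G) := by
    intro m hm
    apply mem_normalizer_of_map_le
    rw [hW, Subgroup.map_sup]
    apply sup_le
    · rintro _ ⟨w, hw, rfl⟩
      change (h * m * h⁻¹) * w * (h * m * h⁻¹)⁻¹ ∈ _
      have hv : h⁻¹ * w * h ∈ M := hi w hw
      have e : (h * m * h⁻¹) * w * (h * m * h⁻¹)⁻¹ =
          (h * (m * (h⁻¹ * w * h) * m⁻¹ * (h⁻¹ * w * h)⁻¹) * h⁻¹) * w := by group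
      rw [e]
      exact Subgroup.mul_mem _ (Subgroup.mem_sup_right ⟨_, comm_mem_zm hcl hm hv, rfl⟩)
        (Subgroup.mem_sup_left hw)
    · rintro _ ⟨_, ⟨w, hw, rfl⟩, rfl⟩
      change (h * m * h⁻¹) * (h * w * h⁻¹) * (h * m * h⁻¹)⁻¹ ∈ _
      have e : (h * m * h⁻¹) * (h * w * h⁻¹) * (h * m * h⁻¹)⁻¹ =
          h * (m * w * m⁻¹) * h⁻¹ := by group
      rw [e, hconjM m hm w hw]
      exact Subgroup.mem_sup_right ⟨w, hw, rfl⟩
  rcases hM.le_iff.1 hN1 with hT | hT
  · exfalso
    apply hWne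
    exact hcf W (Subgroup.normalizer_eq_top_iff.1 hT) hWM
  · have hN3 : ∀ m ∈ M, h * m * h⁻¹ ∈ M := fun m hm => by
      rw [← hT]; exact hN2 m hm
    have hhN : h ∈ Subgroup.normalizer (M : Set G) := mem_normalizer_of_forall_conj_mem hN3
    rcases hM.le_iff.1 (Subgroup.le_normalizer : M ≤ Subgroup.normalizer (M : Set G)) with
      hT' | hT'
    · exfalso
      apply hZ
      have hMb : M = ⊥ := hcf M (Subgroup.normalizer_eq_top_iff.1 hT') le_rfl
      rw [eq_bot_iff]; exact hZM.trans hMb.le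
    · rw [hT'] at hhN; exact hhN

include hM hcf hcl in
theorem focal_le_zm (hZ : zm M ≠ ⊥) {p : ℕ} [Fact p.Prime] (Q : Sylow p G)
    (hQM : (Q : Subgroup G) ≤ M)
    (hNQ : Subgroup.normalizer ((Q : Subgroup G) : Set G) = M) :
    (Q : Subgroup G) ⊓ commutator G ≤ zm M := by
  have hcomm_le : ∀ H : Subgroup G, H ≤ M → ⁅H, H⁆ ≤ zm M := by
    intro H hH
    rw [Subgroup.commutator_le]
    intro a ha b hb
    rw [commutatorElement_def]
    exact comm_mem_zm hcl (hH ha) (hH hb)
  rw [Cfsg.Agent.Lead.GrunFirst.main Q]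
  apply sup_le
  · rw [hNQ]
    exact le_trans inf_le_right (hcomm_le M le_rfl)
  · apply iSup_le
    intro z
    rintro x ⟨hxQ, hx⟩
    obtain ⟨y, hy, rfl⟩ := Subgroup.mem_map.1 hx
    have hyZ : y ∈ zm M := hcomm_le _ hQM hy
    change z * y * z⁻¹ ∈ zm M
    have hxQ' : z * y * z⁻¹ ∈ (Q : Subgroup G) := hxQ
    by_cases hz : z ∈ M
    · have : z * y = y * z := (mem_zm.1 hyZ).2 z hz
      rw [this, mul_inv_cancel_right]; exact hyZ
    · by_cases hy1 : y = 1
      · subst hy1
        have : z * 1 * z⁻¹ = 1 := by group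
        rw [this]; exact Subgroup.one_mem _
      · exfalso
        apply hz
        have hCy := centralizer_eq hM hcf hyZ hy1
        have hxM : z * y * z⁻¹ ∈ M := hQM hxQ'
        have hzi : z⁻¹ ∈ M := by
          apply claimZ hM hcf hcl hZ
          intro w hw
          rw [inv_inv, ← hCy, Subgroup.mem_centralizer_singleton_iff]
          have h2 : (z * y * z⁻¹) * w = w * (z * y * z⁻¹) := (mem_zm.1 hw).2 _ hxM
          calc z⁻¹ * w * z * y = z⁻¹ * (w * (z * y * z⁻¹)) * z := by group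
            _ = z⁻¹ * ((z * y * z⁻¹) * w) * z := by rw [h2]
            _ = y * (z⁻¹ * w * z) := by group
        have := inv_mem hzi
        rwa [inv_inv] at this

include hM hcf in
theorem exists_normal_odd (Q : Sylow 2 G) (hD : (Q : Subgroup G) ⊓ commutator G ≤ zm M) :
    ∃ (O : Subgroup G) (_ : O.Normal), ¬ 2 ∣ Nat.card O ∧ Group.IsSolvable (G ⧸ O) := by
  obtain ⟨G', hG'⟩ : ∃ G' : Subgroup G, G' = commutator G := ⟨_, rfl⟩
  have hG'n : G'.Normal := by rw [hG']; infer_instance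
  rw [← hG'] at hD
  obtain ⟨D, hDdef⟩ : ∃ D : Subgroup G, D = (Q : Subgroup G) ⊓ G' := ⟨_, rfl⟩
  rw [← hDdef] at hD
  have hZM : zm M ≤ M := zm_le M
  have hNC : ∀ g ∈ Subgroup.normalizer (D : Set G), ∀ d ∈ D, d * g = g * d := by
    by_cases hDb : D = ⊥
    · intro g _ d hd
      rw [hDb, Subgroup.mem_bot] at hd
      rw [hd, one_mul, mul_one]
    · have hMN : M ≤ Subgroup.normalizer (D : Set G) := by
        intro m hm
        apply mem_normalizer_of_forall_conj_mem
        intro x hx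
        rw [(mem_zm.1 (hD hx)).2 m hm, mul_inv_cancel_right]; exact hx
      have hND := normalizer_eq_of_corefree hM hcf D hDb (hD.trans hZM) hMN
      intro g hg d hd
      rw [hND] at hg
      exact ((mem_zm.1 (hD hd)).2 g hg).symm
  have hD'p : IsPGroup 2 ((Q : Subgroup G).subgroupOf G') := Q.2.comap_subtype
  have hD'i : ¬ 2 ∣ ((Q : Subgroup G).subgroupOf G').index := by
    intro h2
    exact Q.not_dvd_index (h2.trans
      (Cfsg.Agent.Helper4.PClassAbelSylow.relIndex_dvd_index_of_normal_right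
        (Q : Subgroup G) G'))
  obtain ⟨P', hP'⟩ : ∃ P' : Sylow 2 G', (P' : Subgroup G') = (Q : Subgroup G).subgroupOf G' :=
    ⟨hD'p.toSylow hD'i, rfl⟩
  have hmemP' : ∀ x : G', x ∈ (P' : Subgroup G') ↔ (x : G) ∈ D := by
    intro x
    rw [hP', Subgroup.mem_subgroupOf, hDdef, Subgroup.mem_inf]
    exact ⟨fun h => ⟨h, x.2⟩, fun h => h.1⟩
  have hP'NC : Subgroup.normalizer ((P' : Subgroup G') : Set G') ≤
      Subgroup.centralizer ((P' : Subgroup G') : Set G') := by
    intro g hg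
    rw [Subgroup.mem_centralizer_iff]
    intro d hd
    have hgN : (g : G) ∈ Subgroup.normalizer (D : Set G) := by
      apply mem_normalizer_of_forall_conj_mem
      intro x hx
      have hxG' : x ∈ G' := by rw [hDdef] at hx; exact hx.2
      have h1 : (⟨x, hxG'⟩ : G') ∈ (P' : Subgroup G') := (hmemP' _).2 hx
      have h2 := (Subgroup.mem_normalizer_iff.1 hg ⟨x, hxG'⟩).1 h1
      exact (hmemP' _).1 h2
    have := hNC g hgN d ((hmemP' d).1 hd)
    exact Subtype.ext this
  obtain ⟨K, hK⟩ : ∃ K : Subgroup G', K = (MonoidHom.transferSylow P' hP'NC).ker := ⟨_, rfl⟩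
  have hKn : K.Normal := by rw [hK]; infer_instance
  have hcompl : K.IsComplement' (P' : Subgroup G') := by
    rw [hK]; exact MonoidHom.ker_transferSylow_isComplement' P' hP'NC
  have hKodd : ¬ 2 ∣ Nat.card K := by
    rw [hK]; exact MonoidHom.not_dvd_card_ker_transferSylow P' hP'NC
  obtain ⟨j, hj⟩ := IsPGroup.iff_card.1 P'.2
  have hKidx : K.index = 2 ^ j := by rw [hcompl.symm.index_eq_card]; exact hj
  obtain ⟨O, hO⟩ : ∃ O : Subgroup G, O = K.map G'.subtype := ⟨_, rfl⟩
  have hOmem : ∀ x : G, x ∈ O ↔ x ∈ G' ∧ ¬ 2 ∣ orderOf x := by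
    intro x
    constructor
    · rw [hO]
      rintro ⟨k, hk, rfl⟩
      refine ⟨k.2, fun h2 => hKodd ?_⟩
      have e : orderOf k = orderOf (⟨k, hk⟩ : K) := Subgroup.orderOf_coe (⟨k, hk⟩ : K)
      have h3 : orderOf (k : G) ∣ Nat.card K := by
        rw [Subgroup.orderOf_coe k, e]; exact orderOf_dvd_natCard _
      exact h2.trans h3
    · rintro ⟨hxG', hxodd⟩
      rw [hO]
      have h1 : (⟨x, hxG'⟩ : G') ^ K.index ∈ K := K.pow_index_mem _
      rw [hKidx] at h1
      have e : orderOf x = orderOf (⟨x, hxG'⟩ : G') := Subgroup.orderOf_coe (⟨x, hxG'⟩ : G')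
      have hcop : Nat.Coprime (2 ^ j) (orderOf (⟨x, hxG'⟩ : G')) := by
        apply Nat.Coprime.pow_left
        rw [← e]
        exact (Nat.Prime.coprime_iff_not_dvd Nat.prime_two).2 hxodd
      obtain ⟨m, hm⟩ := exists_pow_eq_self_of_coprime hcop
      exact ⟨⟨x, hxG'⟩, by rw [← hm]; exact K.pow_mem h1 m, rfl⟩
  have hOn : O.Normal := by
    constructor
    intro x hx g
    rw [hOmem] at hx ⊢
    refine ⟨hG'n.conj_mem x hx.1 g, ?_⟩
    have e : orderOf (g * x * g⁻¹) = orderOf x := by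
      rw [← MulAut.conj_apply]; exact MulEquiv.orderOf_eq _ _
    rw [e]; exact hx.2
  have hOodd : ¬ 2 ∣ Nat.card O := by
    rw [hO, Subgroup.card_map_of_injective G'.subtype_injective]; exact hKodd
  refine ⟨O, hOn, hOodd, ?_⟩
  have hDp : IsPGroup 2 D := by rw [hDdef]; exact Q.2.to_le inf_le_left
  have : Group.IsSolvable D := by
    have := hDp.isNilpotent
    infer_instance
  have hOG' : O ≤ G' := by
    rw [hO]; exact Subgroup.map_subtype_le _
  have hOker : O ≤ (Abelianization.of (G := G)).ker := by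
    rw [Abelianization.ker_of, ← hG']; exact hOG'
  exact Group.isSolvable_of_ker_le_range ((QuotientGroup.mk' O).comp D.subtype)
    (QuotientGroup.lift O Abelianization.of hOker) (by
      intro y hy
      obtain ⟨x, rfl⟩ := QuotientGroup.mk'_surjective O y
      rw [MonoidHom.mem_ker, QuotientGroup.mk'_apply, QuotientGroup.lift_mk] at hy
      have hxG' : x ∈ G' := by
        rw [hG', ← Abelianization.ker_of]; exact MonoidHom.mem_ker.2 hy
      obtain ⟨⟨⟨k, hk⟩, ⟨d, hd⟩⟩, hkd, -⟩ :=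
        (Subgroup.isComplement'_def.1 hcompl).existsUnique (⟨x, hxG'⟩ : G')
      have hkd' : (k : G) * (d : G) = x := congrArg Subtype.val hkd
      have hdD : (d : G) ∈ D := (hmemP' d).1 hd
      refine ⟨⟨d, hdD⟩, ?_⟩
      change QuotientGroup.mk' O (d : G) = QuotientGroup.mk' O x
      rw [← hkd', map_mul]
      have : QuotientGroup.mk' O (k : G) = 1 := by
        rw [← MonoidHom.mem_ker, QuotientGroup.ker_mk', hO]
        exact ⟨k, hk, rfl⟩
      rw [this, one_mul])

include hM hcf hcl in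
/-- the core-free case -/
theorem solvable_of_corefree (hnil : Group.IsNilpotent M) : Group.IsSolvable G := by
  by_cases hodd : Odd (Nat.card M)
  · exact Cfsg.Agent.Lead.NilpMax.solvable_of_corefree hM hnil hodd hcf
  have h2M : 2 ∣ Nat.card M := by
    rcases Nat.even_or_odd (Nat.card M) with h | h
    · exact even_iff_two_dvd.1 h
    · exact absurd h hodd
  have hMsolv : Group.IsSolvable M := by
    have := hnil
    infer_instance
  have hMbot : M ≠ ⊥ := by
    intro h
    rw [h, Subgroup.card_bot] at h2M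
    omega
  obtain ⟨Q, hQM, hNQ, -⟩ := exists_sylow_of_corefree hM hnil hcf (p := 2) h2M
  have hZ := zm_ne_bot hnil hMbot
  have hD := focal_le_zm hM hcf hcl hZ Q hQM hNQ
  obtain ⟨O, hOn, hOodd, hOsolv⟩ := exists_normal_odd hM hcf Q hD
  obtain ⟨π, hπ⟩ : ∃ π : Finset ℕ, π = (Nat.card M).primeFactors.erase 2 := ⟨_, rfl⟩
  have hex : ∀ p ∈ π, ∃ K : Subgroup G, K.Normal ∧ (Nat.card K).Coprime p ∧
      ∃ k : ℕ, K.index = p ^ k := by
    intro p hp
    rw [hπ, Finset.mem_erase] at hp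
    have : Fact p.Prime := ⟨Nat.prime_of_mem_primeFactors hp.2⟩
    exact hasNormalPComplement_iff_exists.1
      (Cfsg.Agent.Lead.NilpMax.npc_of_prime hM hnil hcf hp.1
        (Nat.dvd_of_mem_primeFactors hp.2)).1
  choose! Kf hKf using hex
  obtain ⟨L, hLdef⟩ : ∃ L : Subgroup G, L = ⨅ p : π, Kf p.1 := ⟨_, rfl⟩
  have hLn : L.Normal := by
    rw [hLdef]
    exact Subgroup.normal_iInf_normal (fun p => (hKf p.1 p.2).1)
  have hLle : ∀ p ∈ π, L ≤ Kf p := by
    intro p hp
    rw [hLdef]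
    exact iInf_le (fun p : π => Kf p.1) ⟨p, hp⟩
  obtain ⟨T, hT⟩ : ∃ T : Subgroup G, T = O ⊓ L := ⟨_, rfl⟩
  have hTn : T.Normal := by
    rw [hT]; exact Subgroup.normal_inf_normal O L
  have hcop : Nat.Coprime (Nat.card M) (Nat.card T) := by
    apply Nat.coprime_of_dvd
    intro p hp hpM hpT
    by_cases hp2 : p = 2
    · subst hp2
      exact hOodd (hpT.trans (Subgroup.card_dvd_of_le (by rw [hT]; exact inf_le_left)))
    · have hpπ : p ∈ π := by
        rw [hπ, Finset.mem_erase, Nat.mem_primeFactors]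
        exact ⟨hp2, hp, hpM, Nat.card_pos.ne'⟩
      have hTL : T ≤ L := by rw [hT]; exact inf_le_right
      have h1 : Nat.card T ∣ Nat.card (Kf p) :=
        Subgroup.card_dvd_of_le (hTL.trans (hLle p hpπ))
      have h2 := (hKf p hpπ).2.1
      have h3 : p ∣ Nat.card (Kf p) := hpT.trans h1
      exact hp.one_lt.ne' (Nat.dvd_one.1 (by
        rw [← h2.gcd_eq_one]; exact Nat.dvd_gcd h3 (dvd_refl p)))
  have hTsolv : Group.IsSolvable T := isSolvable_normal_of_coprime hM hMsolv T hcop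
  -- an involution in `L`
  obtain ⟨x, hx⟩ := exists_prime_orderOf_dvd_card' 2
    (h2M.trans (Subgroup.card_subgroup_dvd_card M))
  have hxL : x ∈ L := by
    rw [hLdef, Subgroup.mem_iInf]
    rintro ⟨p, hp⟩
    have := (hKf p hp).1
    obtain ⟨k, hk⟩ := (hKf p hp).2.2
    have hp' := hp
    rw [hπ, Finset.mem_erase] at hp'
    exact Cfsg.Agent.Lead.NilpMax.mem_of_index_pow (Nat.prime_of_mem_primeFactors hp'.2)
      Nat.prime_two (Ne.symm hp'.1) hk hx
  have hx1 : x ≠ 1 := by
    intro h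
    rw [h, orderOf_one] at hx
    omega
  have hLbot : L ≠ ⊥ := by
    intro h
    rw [h, Subgroup.mem_bot] at hxL
    exact hx1 hxL
  have hsupL : M ⊔ L = ⊤ := by
    apply hM.2
    rw [lt_iff_le_and_ne]
    refine ⟨le_sup_left, fun h => hLbot ?_⟩
    have h1 : L ≤ M := by rw [h]; exact le_sup_right
    exact hcf L hLn h1
  have hsurj : Function.Surjective ((QuotientGroup.mk' L).comp M.subtype) := by
    intro y
    obtain ⟨g, rfl⟩ := QuotientGroup.mk'_surjective L y
    have hg : g ∈ ((M ⊔ L : Subgroup G) : Set G) := by rw [hsupL]; exact Set.mem_univ g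
    rw [Subgroup.mul_normal M L] at hg
    obtain ⟨m, hm, l, hl, rfl⟩ := Set.mem_mul.1 hg
    refine ⟨⟨m, hm⟩, ?_⟩
    change (QuotientGroup.mk' L) m = (QuotientGroup.mk' L) (m * l)
    rw [map_mul]
    have : (QuotientGroup.mk' L) l = 1 := by
      rw [← MonoidHom.mem_ker, QuotientGroup.ker_mk']; exact hl
    rw [this, mul_one]
  have hQsolv : Group.IsSolvable (G ⧸ L) := Group.isSolvable_of_surjective hsurj
  exact Group.isSolvable_of_ker_le_range T.subtype
    ((QuotientGroup.mk' O).prod (QuotientGroup.mk' L)) (by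
      rw [MonoidHom.ker_prod, QuotientGroup.ker_mk', QuotientGroup.ker_mk',
        Subgroup.range_subtype, hT])

end CoreFree

theorem main_aux : ∀ (n : ℕ) (G : Type u) [Group G] [Finite G], Nat.card G = n →
    ∀ M : Subgroup G, IsCoatom M → Group.IsNilpotent M →
      (∀ a ∈ M, ∀ b ∈ M, ∀ c ∈ M, (a * b * a⁻¹ * b⁻¹) * c = c * (a * b * a⁻¹ * b⁻¹)) →
      Group.IsSolvable G := by
  intro n
  induction n using Nat.strong_induction_on with
  | _ n ih =>
  intro G _ _ hn M hM hnil hcl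
  by_cases hcore : ∃ N : Subgroup G, N.Normal ∧ N ≤ M ∧ N ≠ ⊥
  · obtain ⟨N, hNn, hNM, hNne⟩ := hcore
    have hMsolv : Group.IsSolvable M := by
      have := hnil
      infer_instance
    have hNsolv : Group.IsSolvable N :=
      Group.isSolvable_of_isSolvable_injective (Subgroup.inclusion_injective hNM)
    have hlt : Nat.card (G ⧸ N) < n := by
      rw [← hn, ← Subgroup.index_eq_card, ← N.card_mul_index]
      have h1 : 1 < Nat.card N := by
        rw [Subgroup.one_lt_card_iff_ne_bot]; exact hNne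
      have h2 : 0 < N.index := Nat.pos_of_ne_zero Subgroup.index_ne_zero_of_finite
      nlinarith
    have hM' := Cfsg.Agent.Lead.NilpMax.isCoatom_map_mk hM hNM
    have hnil' : Group.IsNilpotent (M.map (QuotientGroup.mk' N)) :=
      Group.nilpotent_of_surjective ((QuotientGroup.mk' N).subgroupMap M)
        ((QuotientGroup.mk' N).subgroupMap_surjective M)
    have hcl' : ∀ a ∈ M.map (QuotientGroup.mk' N), ∀ b ∈ M.map (QuotientGroup.mk' N),
        ∀ c ∈ M.map (QuotientGroup.mk' N),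
          (a * b * a⁻¹ * b⁻¹) * c = c * (a * b * a⁻¹ * b⁻¹) := by
      rintro _ ⟨a, ha, rfl⟩ _ ⟨b, hb, rfl⟩ _ ⟨c, hc, rfl⟩
      simp only [← map_mul, ← map_inv]
      rw [hcl a ha b hb c hc]
    have hQ : Group.IsSolvable (G ⧸ N) := ih _ hlt (G ⧸ N) rfl _ hM' hnil' hcl'
    exact Group.isSolvable_of_ker_le_range N.subtype (QuotientGroup.mk' N) (by
      rw [QuotientGroup.ker_mk', Subgroup.range_subtype])
  · push Not at hcore
    exact solvable_of_corefree hM (fun N hN hNM => by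
      by_contra h
      exact h (hcore N hN hNM)) hcl hnil

theorem main {G : Type u} [Group G] [Finite G] (M : Subgroup G) (hmax : IsCoatom M)
    (hnil : Group.IsNilpotent M) (hcl : Group.nilpotencyClass ↥M ≤ 2) : Group.IsSolvable G := by
  have h2 : Subgroup.upperCentralSeries M 2 = ⊤ := Subgroup.upperCentralSeries_eq_top_iff_nilpotencyClass_le.2 hcl
  apply main_aux _ G rfl M hmax hnil
  intro a ha b hb c hc
  have h3 : (⟨a, ha⟩ : M) ∈ Subgroup.upperCentralSeries M 2 := by rw [h2]; exact Subgroup.mem_top _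
  have h4 := (Subgroup.mem_upperCentralSeries_succ_iff (n := 1)).1 h3 ⟨b, hb⟩
  rw [Subgroup.upperCentralSeries_one, Subgroup.mem_center_iff] at h4
  have h5 := h4 ⟨c, hc⟩
  rw [commutatorElement_def] at h5
  have h6 := congrArg Subtype.val h5
  exact h6.symm

end Cfsg.Agent.Helper4.NilpMaxTwo
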