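import Mathlib.RepresentationTheory.Basic
import Mathlib.GroupTheory.OrderOfElement

set_option autoImplicit false

namespace Cfsg.Agent.Helper4.NineD8

variable {S : Type*} [Group S] {M : Type*} [AddCommGroup M] [Module (ZMod 2) M]
variable (ρ : Representation (ZMod 2) S M)

lemma add_self_zero (m : M) : m + m = 0 := by
  rw [← two_smul (ZMod 2)]
  have : (2 : ZMod 2) = 0 := rfl
  rw [this, zero_smul]

lemma eq_of_add_zero {m n : M} (h : m + n = 0) : m = n := by
  have h2 := add_self_zero n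
  have : m + n = n + n := by rw [h, h2]
  exact add_right_cancel this

lemma rho_mul (x y : S) (m : M) : ρ (x * y) m = ρ x (ρ y m) := by
  rw [map_mul]; rfl

lemma rho_one (m : M) : ρ 1 m = m := by
  rw [map_one]; rfl

lemma rho_inv_self (x : S) (m : M) : ρ x⁻¹ (ρ x m) = m := by
  rw [← rho_mul, inv_mul_cancel, rho_one]

lemma rho_self_inv (x : S) (m : M) : ρ x (ρ x⁻¹ m) = m := by
  rw [← rho_mul, mul_inv_cancel, rho_one]

/-- fixed points of `ρ x`. -/
def Fx (x : S) : Submodule (ZMod 2) M := LinearMap.eqLocus (ρ x) LinearMap.id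

lemma mem_Fx {x : S} {m : M} : m ∈ Fx ρ x ↔ ρ x m = m := by
  simp [Fx, LinearMap.mem_eqLocus]

lemma Fx_of_comm {x y g : S} (h : g * x = y * g) {m : M} (hm : m ∈ Fx ρ x) :
    ρ g m ∈ Fx ρ y := by
  rw [mem_Fx] at *
  rw [← rho_mul, ← h, rho_mul, hm]

lemma mem_Fx_inv {x : S} {m : M} (hm : m ∈ Fx ρ x) : m ∈ Fx ρ x⁻¹ := by
  rw [mem_Fx] at *
  conv_lhs => rw [← hm]
  exact rho_inv_self ρ x m

lemma rho_eq_zero {x : S} {m : M} (h : ρ x m = 0) : m = 0 := by
  have := rho_inv_self ρ x m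
  rw [h, map_zero] at this
  exact this.symm

/-- An involution preserving a nonzero submodule has a nonzero fixed point in it. -/
lemma exists_fixed {x : S} (hx : x * x = 1) (N : Submodule (ZMod 2) M)
    (hN : ∀ m ∈ N, ρ x m ∈ N) (hne : ∃ m ∈ N, m ≠ 0) :
    ∃ m ∈ N, m ≠ 0 ∧ ρ x m = m := by
  obtain ⟨n, hnN, hn0⟩ := hne
  by_cases h : ρ x n = n
  · exact ⟨n, hnN, hn0, h⟩
  · refine ⟨n + ρ x n, N.add_mem hnN (hN n hnN), ?_, ?_⟩
    · intro h0
      exact h (eq_of_add_zero h0).symm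
    · rw [map_add, ← rho_mul, hx, rho_one, add_comm]

end Cfsg.Agent.Helper4.NineD8
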