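import Cfsg.Agent.Helper4.NineD8A

set_option autoImplicit false
set_option linter.unusedSectionVars false

namespace Cfsg.Agent.Helper4.NineD8

variable {S : Type*} [Group S]

/-- The group-theoretic configuration: `a` of order 3, `r` of order 4, `s` a reflection
centralizing `a`, the central involution `r * r` inverting `a`, `b` the `r`-conjugate of `a`,
commuting with `a`. -/
structure Cfg (a b r s : S) : Prop where
  a3 : a * a * a = 1
  a_ne : a ≠ 1
  r4 : r * r * (r * r) = 1
  s2 : s * s = 1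
  srs : s * r = r⁻¹ * s
  sa : s * a = a * s
  za : r * r * a = a⁻¹ * (r * r)
  ra : r * a = b * r
  comm : a * b = b * a

namespace Cfg

variable {a b r s : S} (h : Cfg a b r s)
include h

lemma rinv : r⁻¹ = r * (r * r) :=
  inv_eq_of_mul_eq_one_right (by rw [← mul_assoc]; exact h.r4)

lemma zinv : (r * r)⁻¹ = r * r := inv_eq_of_mul_eq_one_right h.r4

lemma sinv : s⁻¹ = s := inv_eq_of_mul_eq_one_right h.s2

lemma ainv : a⁻¹ = a * a :=
  inv_eq_of_mul_eq_one_right (by rw [← mul_assoc]; exact h.a3)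

lemma b_eq : b = r * a * r⁻¹ := eq_mul_inv_of_mul_eq h.ra.symm

lemma sz : s * (r * r) = r * r * s :=
  calc s * (r * r) = (s * r) * r := (mul_assoc _ _ _).symm
    _ = r⁻¹ * s * r := by rw [h.srs]
    _ = r⁻¹ * (s * r) := mul_assoc _ _ _
    _ = r⁻¹ * (r⁻¹ * s) := by rw [h.srs]
    _ = (r * r)⁻¹ * s := by rw [mul_inv_rev, mul_assoc]
    _ = r * r * s := by rw [h.zinv]

lemma rb : r * b = a⁻¹ * r := by
  have : r * b * r = a⁻¹ * r * r := by
    rw [mul_assoc, ← h.ra, ← mul_assoc, h.za, mul_assoc]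
  exact mul_right_cancel this

lemma ra_inv : r * a⁻¹ = b⁻¹ * r := (SemiconjBy.inv_right (show SemiconjBy r a b from h.ra)).eq

lemma rb_inv : r * b⁻¹ = a * r := by
  have := (SemiconjBy.inv_right (show SemiconjBy r b a⁻¹ from h.rb)).eq
  rwa [inv_inv] at this

lemma zb : r * r * b = b⁻¹ * (r * r) := by
  rw [mul_assoc, h.rb, ← mul_assoc, h.ra_inv, mul_assoc]

lemma rs : r * s = s * r⁻¹ := by
  have h1 : r * (s * r) = s := by rw [h.srs, mul_inv_cancel_left]
  calc r * s = r * (s * r) * r⁻¹ := by simp only [mul_assoc, mul_inv_cancel, mul_one]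
    _ = s * r⁻¹ := by rw [h1]

/-- `s * r = r * u`. -/
lemma sr : s * r = r * (s * (r * r)) := by
  have h1 : r * (s * r) = s := by rw [h.srs, mul_inv_cancel_left]
  calc s * r = r * (s * r) * r := by rw [h1]
    _ = r * (s * (r * r)) := by simp only [mul_assoc]

lemma sb : s * b = b⁻¹ * s := by
  have h1 : s * b * r = b⁻¹ * s * r := by
    calc s * b * r = s * (r * a) := by rw [mul_assoc, h.ra]
      _ = r * (s * (r * r)) * a := by rw [← mul_assoc, h.sr]
      _ = r * (s * (r * r * a)) := by simp only [mul_assoc]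
      _ = r * (s * (a⁻¹ * (r * r))) := by rw [h.za]
      _ = r * (s * a⁻¹) * (r * r) := by simp only [mul_assoc]
      _ = r * (a⁻¹ * s) * (r * r) := by
          rw [(SemiconjBy.inv_right (show SemiconjBy s a a from h.sa)).eq]
      _ = (r * a⁻¹) * (s * (r * r)) := by simp only [mul_assoc]
      _ = b⁻¹ * (r * (s * (r * r))) := by rw [h.ra_inv]; simp only [mul_assoc]
      _ = b⁻¹ * s * r := by rw [← h.sr, mul_assoc]
  exact mul_right_cancel h1

lemma sb_inv : s * b⁻¹ = b * s := by
  have := (SemiconjBy.inv_right (show SemiconjBy s b b⁻¹ from h.sb)).eq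
  rwa [inv_inv] at this

lemma b3 : b * b * b = 1 := by
  rw [h.b_eq]
  have : (r * a * r⁻¹) * (r * a * r⁻¹) * (r * a * r⁻¹) = r * (a * a * a) * r⁻¹ := by
    simp only [mul_assoc, inv_mul_cancel_left]
  rw [this, h.a3, mul_one, mul_inv_cancel]

lemma binv : b⁻¹ = b * b :=
  inv_eq_of_mul_eq_one_right (by rw [← mul_assoc]; exact h.b3)

lemma b_ne : b ≠ 1 := by
  intro hb
  apply h.a_ne
  have := h.ra
  rw [hb, one_mul] at this
  exact mul_left_cancel (this.trans (mul_one r).symm)

/-- `u = s * z` inverts `a`. -/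
lemma ua : s * (r * r) * a = a⁻¹ * (s * (r * r)) := by
  rw [mul_assoc, h.za, ← mul_assoc,
    (SemiconjBy.inv_right (show SemiconjBy s a a from h.sa)).eq, mul_assoc]

/-- `u = s * z` centralizes `b`. -/
lemma ub : s * (r * r) * b = b * (s * (r * r)) := by
  rw [mul_assoc, h.zb, ← mul_assoc, h.sb_inv, mul_assoc]

lemma uu : s * (r * r) * (s * (r * r)) = 1 :=
  calc s * (r * r) * (s * (r * r)) = s * (r * r * s) * (r * r) := by simp only [mul_assoc]
    _ = s * (s * (r * r)) * (r * r) := by rw [h.sz]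
    _ = (s * s) * (r * r * (r * r)) := by simp only [mul_assoc]
    _ = 1 := by rw [h.s2, h.r4, mul_one]

/-- `z = s * u`. -/
lemma z_eq : r * r = s * (s * (r * r)) := by
  rw [← mul_assoc, h.s2, one_mul]

lemma us : s * (r * r) * s = s * (s * (r * r)) := by
  rw [mul_assoc, ← h.sz]

lemma uz : s * (r * r) * (r * r) = (r * r) * (s * (r * r)) := by
  rw [← mul_assoc (r * r), ← h.sz]

lemma ab_inv : a * b⁻¹ = b⁻¹ * a :=
  (SemiconjBy.inv_right (show SemiconjBy a b b from h.comm)).eq

/-- `a * r = r * b⁻¹`. -/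
lemma ar : a * r = r * b⁻¹ := h.rb_inv.symm

/-- `b * r = r * a`. -/
lemma br : b * r = r * a := h.ra.symm

lemma as' : a * s = s * a := h.sa.symm

lemma bs : b * s = s * b⁻¹ := h.sb_inv.symm

end Cfg

end Cfsg.Agent.Helper4.NineD8
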