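import Mathlib.RepresentationTheory.Basic
import Mathlib.Data.ZMod.Basic
import Mathlib.SetTheory.Cardinal.Finite

set_option autoImplicit false

namespace Cfsg.Agent.Helper4.NineD8

variable {M : Type*} [AddCommGroup M] [Module (ZMod 2) M]

/-- Four vectors spanning `M` independently with the action table of `ζ`, `σ`, `τ`. -/
structure Tab (ζ σ τ : M →ₗ[ZMod 2] M) (v w e2 e3 : M) : Prop where
  span : ∀ m, ∃ c0 c1 c2 c3 : ZMod 2, m = c0 • v + c1 • w + c2 • e2 + c3 • e3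
  ind : ∀ c0 c1 c2 c3 : ZMod 2, c0 • v + c1 • w + c2 • e2 + c3 • e3 = 0 →
    c0 = 0 ∧ c1 = 0 ∧ c2 = 0 ∧ c3 = 0
  zv : ζ v = v
  zw : ζ w = v + w
  ze2 : ζ e2 = e2
  ze3 : ζ e3 = e2 + e3
  sv : σ v = v
  sw : σ w = v + w
  se2 : σ e2 = e2
  se3 : σ e3 = e3
  tv : τ v = e2
  tw : τ w = e3
  te2 : τ e2 = v
  te3 : τ e3 = w

abbrev C4 := ZMod 2 × ZMod 2 × ZMod 2 × ZMod 2

def phi (v w e2 e3 : M) (c : C4) : M := c.1 • v + c.2.1 • w + c.2.2.1 • e2 + c.2.2.2 • e3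

namespace Tab

variable {ζ σ τ : M →ₗ[ZMod 2] M} {v w e2 e3 : M} (T : Tab ζ σ τ v w e2 e3)
include T

lemma phi_bij : Function.Bijective (phi v w e2 e3) := by
  constructor
  · intro c d hcd
    have h0 : (c.1 - d.1) • v + (c.2.1 - d.2.1) • w + (c.2.2.1 - d.2.2.1) • e2
        + (c.2.2.2 - d.2.2.2) • e3 = 0 := by
      have : phi v w e2 e3 c - phi v w e2 e3 d = 0 := by rw [hcd, sub_self]
      rw [← this]
      simp only [phi, sub_smul]
      abel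
    obtain ⟨h1, h2, h3, h4⟩ := T.ind _ _ _ _ h0
    rw [sub_eq_zero] at h1 h2 h3 h4
    exact Prod.ext h1 (Prod.ext h2 (Prod.ext h3 h4))
  · intro m
    obtain ⟨c0, c1, c2, c3, h⟩ := T.span m
    exact ⟨(c0, c1, c2, c3), h.symm⟩

noncomputable def equiv : C4 ≃ M := Equiv.ofBijective _ T.phi_bij

lemma card_eq : Nat.card M = 16 := by
  rw [← Nat.card_congr T.equiv]
  simp [Nat.card_prod]

def Zc (c : C4) : C4 := (c.1 + c.2.1, c.2.1, c.2.2.1 + c.2.2.2, c.2.2.2)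
def Sc (c : C4) : C4 := (c.1 + c.2.1, c.2.1, c.2.2.1, c.2.2.2)
def Tc (c : C4) : C4 := (c.2.2.1, c.2.2.2, c.1, c.2.1)

omit T in
lemma zeta_phi (T : Tab ζ σ τ v w e2 e3) (c : C4) :
    ζ (phi v w e2 e3 c) = phi v w e2 e3 (Zc c) := by
  simp only [phi, Zc, map_add, map_smul, T.zv, T.zw, T.ze2, T.ze3, smul_add, add_smul]
  abel

omit T in
lemma sigma_phi (T : Tab ζ σ τ v w e2 e3) (c : C4) :
    σ (phi v w e2 e3 c) = phi v w e2 e3 (Sc c) := by
  simp only [phi, Sc, map_add, map_smul, T.sv, T.sw, T.se2, T.se3, smul_add, add_smul]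
  abel

omit T in
lemma tau_phi (T : Tab ζ σ τ v w e2 e3) (c : C4) :
    τ (phi v w e2 e3 c) = phi v w e2 e3 (Tc c) := by
  simp only [phi, Tc, map_add, map_smul, T.tv, T.tw, T.te2, T.te3, smul_add, add_smul]
  abel

lemma card_fix_zs : Nat.card {m : M // ζ m = m ∧ σ m = m} = 4 := by
  have e : {c : C4 // Zc c = c ∧ Sc c = c} ≃ {m : M // ζ m = m ∧ σ m = m} :=
    Equiv.subtypeEquiv T.equiv (by
      intro c
      show _ ↔ (ζ (phi v w e2 e3 c) = phi v w e2 e3 c ∧ σ (phi v w e2 e3 c) = phi v w e2 e3 c)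
      rw [zeta_phi T, sigma_phi T, T.phi_bij.1.eq_iff, T.phi_bij.1.eq_iff])
  rw [← Nat.card_congr e, Nat.card_eq_fintype_card]
  decide

lemma card_fix_zt : Nat.card {m : M // ζ m = m ∧ τ m = m} = 2 := by
  have e : {c : C4 // Zc c = c ∧ Tc c = c} ≃ {m : M // ζ m = m ∧ τ m = m} :=
    Equiv.subtypeEquiv T.equiv (by
      intro c
      show _ ↔ (ζ (phi v w e2 e3 c) = phi v w e2 e3 c ∧ τ (phi v w e2 e3 c) = phi v w e2 e3 c)
      rw [zeta_phi T, tau_phi T, T.phi_bij.1.eq_iff, T.phi_bij.1.eq_iff])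
  rw [← Nat.card_congr e, Nat.card_eq_fintype_card]
  decide

end Tab

end Cfsg.Agent.Helper4.NineD8
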