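import Cfsg.Agent.Helper4.NineD8B
import Cfsg.Agent.Helper4.NineD8C

set_option autoImplicit false
set_option linter.unusedSectionVars false

namespace Cfsg.Agent.Helper4.NineD8

variable {S : Type*} [Group S] {M : Type*} [AddCommGroup M] [Module (ZMod 2) M]
variable (ρ : Representation (ZMod 2) S M)

/-- The module-theoretic configuration. -/
structure MCfg (a b r s : S) : Prop extends Cfg a b r s where
  faith : ρ a ≠ 1
  irr : ∀ N : Submodule (ZMod 2) M, (∀ m ∈ N, ρ a m ∈ N) → (∀ m ∈ N, ρ r m ∈ N) →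
    (∀ m ∈ N, ρ s m ∈ N) → N = ⊥ ∨ N = ⊤
  fixa : ∃ m, m ≠ 0 ∧ ρ a m = m

namespace MCfg

variable {ρ} {a b r s : S} (h : MCfg ρ a b r s)
include h

lemma inter_bot {m : M} (ha : ρ a m = m) (hb : ρ b m = m) : m = 0 := by
  have hc := h.toCfg
  set N : Submodule (ZMod 2) M := Fx ρ a ⊓ Fx ρ b with hN
  have hNm : ∀ m, m ∈ N ↔ (m ∈ Fx ρ a ∧ m ∈ Fx ρ b) := fun m => Submodule.mem_inf
  have hirr : N = ⊥ ∨ N = ⊤ := by
    refine h.irr N ?_ ?_ ?_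
    · intro m hm
      rw [(mem_Fx ρ).1 ((hNm m).1 hm).1]
      exact hm
    · intro m hm
      obtain ⟨h1, h2⟩ := (hNm m).1 hm
      exact (hNm _).2 ⟨Fx_of_comm ρ hc.rb_inv (mem_Fx_inv ρ h2), Fx_of_comm ρ hc.ra h1⟩
    · intro m hm
      obtain ⟨h1, h2⟩ := (hNm m).1 hm
      exact (hNm _).2 ⟨Fx_of_comm ρ hc.sa h1, Fx_of_comm ρ hc.sb_inv (mem_Fx_inv ρ h2)⟩
  rcases hirr with h0 | h0
  · have : m ∈ N := (hNm m).2 ⟨(mem_Fx ρ).2 ha, (mem_Fx ρ).2 hb⟩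
    rw [h0] at this
    exact (Submodule.mem_bot _).1 this
  · exfalso
    apply h.faith
    ext m
    have : m ∈ N := by rw [h0]; trivial
    exact (mem_Fx ρ).1 ((hNm m).1 this).1

/-- `u = s * z` acts trivially on the fixed points of `a`. -/
lemma u_triv {m : M} (hm : ρ a m = m) : ρ (s * (r * r)) m = m := by
  have hc := h.toCfg
  set u := s * (r * r) with hu
  have hua : u * a⁻¹ = a * u := by
    have := (SemiconjBy.inv_right (show SemiconjBy u a a⁻¹ from hc.ua)).eq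
    rwa [inv_inv] at this
  have hub : b⁻¹ * u = u * b⁻¹ :=
    ((SemiconjBy.inv_right (show SemiconjBy u b b from hc.ub)).eq).symm
  have hza : r * r * a⁻¹ = a * (r * r) := by
    have := (SemiconjBy.inv_right (show SemiconjBy (r * r) a a⁻¹ from hc.za)).eq
    rwa [inv_inv] at this
  set F : Submodule (ZMod 2) M := Fx ρ a ⊓ Fx ρ u with hF
  have hFm : ∀ m, m ∈ F ↔ (m ∈ Fx ρ a ∧ m ∈ Fx ρ u) := fun m => Submodule.mem_inf
  obtain ⟨f0, hf0a, hf0ne, hf0u⟩ : ∃ f ∈ Fx ρ a, f ≠ 0 ∧ ρ u f = f := by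
    apply exists_fixed ρ hc.uu (Fx ρ a)
    · intro m hm
      exact Fx_of_comm ρ hua (mem_Fx_inv ρ hm)
    · obtain ⟨m, hm0, hma⟩ := h.fixa
      exact ⟨m, (mem_Fx ρ).2 hma, hm0⟩
  have hf0F : f0 ∈ F := (hFm _).2 ⟨hf0a, (mem_Fx ρ).2 hf0u⟩
  set N : Submodule (ZMod 2) M := F ⊔ F.map (ρ r) with hN
  have hNm : ∀ m, m ∈ N ↔ ∃ f ∈ F, ∃ f' ∈ F, f + ρ r f' = m := by
    intro m
    rw [hN, Submodule.mem_sup]
    constructor
    · rintro ⟨f, hf, y, hy, rfl⟩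
      obtain ⟨f', hf', rfl⟩ := Submodule.mem_map.1 hy
      exact ⟨f, hf, f', hf', rfl⟩
    · rintro ⟨f, hf, f', hf', rfl⟩
      exact ⟨f, hf, _, Submodule.mem_map_of_mem hf', rfl⟩
  have hNtop : N = ⊤ := by
    have hirr : N = ⊥ ∨ N = ⊤ := by
      refine h.irr N ?_ ?_ ?_
      · intro m hm
        obtain ⟨f, hf, f', hf', rfl⟩ := (hNm m).1 hm
        refine (hNm _).2 ⟨f, hf, ρ b⁻¹ f', ?_, ?_⟩
        · obtain ⟨h1, h2⟩ := (hFm _).1 hf'
          exact (hFm _).2 ⟨Fx_of_comm ρ hc.ab_inv.symm h1, Fx_of_comm ρ hub h2⟩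
        · rw [map_add, (mem_Fx ρ).1 ((hFm _).1 hf).1, ← rho_mul, ← rho_mul, hc.ar]
      · intro m hm
        obtain ⟨f, hf, f', hf', rfl⟩ := (hNm m).1 hm
        refine (hNm _).2 ⟨ρ (r * r) f', ?_, f, hf, ?_⟩
        · obtain ⟨h1, h2⟩ := (hFm _).1 hf'
          exact (hFm _).2 ⟨Fx_of_comm ρ hza (mem_Fx_inv ρ h1), Fx_of_comm ρ hc.uz.symm h2⟩
        · rw [map_add, ← rho_mul, add_comm]
      · intro m hm
        obtain ⟨f, hf, f', hf', rfl⟩ := (hNm m).1 hm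
        refine (hNm _).2 ⟨ρ s f, ?_, f', hf', ?_⟩
        · obtain ⟨h1, h2⟩ := (hFm _).1 hf
          exact (hFm _).2 ⟨Fx_of_comm ρ hc.sa h1, Fx_of_comm ρ hc.us.symm h2⟩
        · rw [map_add, ← rho_mul ρ s r, hc.sr, rho_mul, (mem_Fx ρ).1 ((hFm _).1 hf').2]
    rcases hirr with h0 | h0
    · exfalso
      have : f0 ∈ N := (hNm _).2 ⟨f0, hf0F, 0, F.zero_mem, by simp⟩
      rw [h0] at this
      exact hf0ne ((Submodule.mem_bot _).1 this)
    · exact h0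
  have hmN : m ∈ N := by rw [hNtop]; trivial
  obtain ⟨f, hf, f', hf', hfm⟩ := (hNm m).1 hmN
  have h1 : ρ r f' ∈ Fx ρ b := Fx_of_comm ρ hc.ra ((hFm _).1 hf').1
  have h2 : ρ r f' ∈ Fx ρ a := by
    have : ρ r f' = m + f := by
      rw [← hfm, add_comm f, add_assoc, add_self_zero, add_zero]
    rw [this]
    exact (Fx ρ a).add_mem ((mem_Fx ρ).2 hm) ((hFm _).1 hf).1
  have h3 : ρ r f' = 0 := h.inter_bot ((mem_Fx ρ).1 h2) ((mem_Fx ρ).1 h1)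
  rw [h3, add_zero] at hfm
  rw [← hfm]
  exact (mem_Fx ρ).1 ((hFm _).1 hf).2

end MCfg

end Cfsg.Agent.Helper4.NineD8
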