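import Cfsg.Agent.Helper4.NineD8D

set_option autoImplicit false
set_option linter.unusedSectionVars false

namespace Cfsg.Agent.Helper4.NineD8

variable {S : Type*} [Group S] {M : Type*} [AddCommGroup M] [Module (ZMod 2) M]
variable {ρ : Representation (ZMod 2) S M}

lemma zmod2_cases (c : ZMod 2) : c = 0 ∨ c = 1 := by
  revert c; decide

lemma span4_invariant (v w e2 e3 : M) (f : M →ₗ[ZMod 2] M)
    (h0 : f v ∈ Submodule.span (ZMod 2) {v, w, e2, e3})
    (h1 : f w ∈ Submodule.span (ZMod 2) {v, w, e2, e3})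
    (h2 : f e2 ∈ Submodule.span (ZMod 2) {v, w, e2, e3})
    (h3 : f e3 ∈ Submodule.span (ZMod 2) {v, w, e2, e3}) :
    ∀ m ∈ Submodule.span (ZMod 2) {v, w, e2, e3}, f m ∈ Submodule.span (ZMod 2) {v, w, e2, e3} := by
  intro m hm
  have : Submodule.span (ZMod 2) {v, w, e2, e3} ≤
      (Submodule.span (ZMod 2) {v, w, e2, e3}).comap f := by
    rw [Submodule.span_le]
    rintro x (rfl | rfl | rfl | rfl) <;> assumption
  exact this hm

lemma mem_span4 (v w e2 e3 m : M) (hm : m ∈ Submodule.span (ZMod 2) {v, w, e2, e3}) :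
    ∃ c0 c1 c2 c3 : ZMod 2, m = c0 • v + c1 • w + c2 • e2 + c3 • e3 := by
  rw [Submodule.mem_span_insert] at hm
  obtain ⟨c0, m1, hm1, rfl⟩ := hm
  rw [Submodule.mem_span_insert] at hm1
  obtain ⟨c1, m2, hm2, rfl⟩ := hm1
  rw [Submodule.mem_span_insert] at hm2
  obtain ⟨c2, m3, hm3, rfl⟩ := hm2
  rw [Submodule.mem_span_singleton] at hm3
  obtain ⟨c3, rfl⟩ := hm3
  exact ⟨c0, c1, c2, c3, by abel⟩

namespace MCfg

variable {a b r s : S} (h : MCfg ρ a b r s)
include h

lemma exists_tab : ∃ v w e2 e3 : M, Tab (ρ (r * r)) (ρ s) (ρ (s * r)) v w e2 e3 := by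
  have hc := h.toCfg
  obtain ⟨v, hva, hv0, hvs⟩ : ∃ v ∈ Fx ρ a, v ≠ 0 ∧ ρ s v = v := by
    apply exists_fixed ρ hc.s2 (Fx ρ a)
    · intro m hm
      exact Fx_of_comm ρ hc.sa hm
    · obtain ⟨m, hm0, hma⟩ := h.fixa
      exact ⟨m, (mem_Fx ρ).2 hma, hm0⟩
  have hva' : ρ a v = v := (mem_Fx ρ).1 hva
  have hba : ∀ m, ρ a m = m → ρ a (ρ b m) = ρ b m := fun m hm =>
    (mem_Fx ρ).1 (Fx_of_comm ρ hc.comm.symm ((mem_Fx ρ).2 hm))
  obtain ⟨w, hw⟩ : ∃ w, w = ρ b v := ⟨_, rfl⟩
  have hwa : ρ a w = w := by rw [hw]; exact hba v hva'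
  have hbbw : ρ b (ρ b w) = v := by
    rw [hw, ← rho_mul, ← rho_mul, hc.b3, rho_one]
  have hbw : ρ b w = v + w := by
    have ht : v + w + ρ b w = 0 := by
      apply h.inter_bot
      · rw [map_add, map_add, hva', hwa, hba w hwa]
      · rw [map_add, map_add, hbbw, ← hw]
        abel
    exact (eq_of_add_zero ht).symm
  have hw0 : w ≠ 0 := fun h0 => hv0 (rho_eq_zero ρ (hw ▸ h0))
  have hvw : v + w ≠ 0 := by
    intro h0
    have h1 : v = w := eq_of_add_zero h0
    exact hv0 (h.inter_bot hva' (by rw [← hw, ← h1]))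
  have hbv' : ρ b⁻¹ v = v + w := by
    have h1 : ρ b (v + w) = v := by
      rw [map_add, ← hw, hbw, add_comm v w, ← add_assoc, add_self_zero, zero_add]
    conv_lhs => rw [← h1]
    exact rho_inv_self ρ b _
  have hbw' : ρ b⁻¹ w = v := by rw [hw]; exact rho_inv_self ρ b v
  have hsw : ρ s w = v + w := by
    rw [hw, ← rho_mul, hc.sb, rho_mul, hvs, hbv', ← hw]
  have hz_on : ∀ m, ρ a m = m → ρ (r * r) m = ρ s m := by
    intro m hm
    conv_lhs => rw [hc.z_eq]
    rw [rho_mul, h.u_triv hm]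
  have hzv : ρ (r * r) v = v := by rw [hz_on v hva', hvs]
  have hzw : ρ (r * r) w = v + w := by rw [hz_on w hwa, hsw]
  have hzr : ∀ m, ρ (r * r) (ρ r m) = ρ r (ρ (r * r) m) := by
    intro m
    rw [← rho_mul, ← rho_mul, mul_assoc]
  have hsr : ∀ m, ρ a m = m → ρ (s * r) m = ρ r m := by
    intro m hm
    rw [hc.sr, rho_mul, h.u_triv hm]
  have hsr' : ∀ m, ρ a m = m → ρ s (ρ r m) = ρ r m := by
    intro m hm
    rw [← rho_mul, hsr m hm]
  have hrr : ∀ m, ρ r (ρ r m) = ρ (r * r) m := fun m => (rho_mul ρ r r m).symm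
  have har : ∀ m, ρ a (ρ r m) = ρ r (ρ b⁻¹ m) := by
    intro m
    rw [← rho_mul, hc.ar, rho_mul]
  refine ⟨v, w, ρ r v, ρ r w, ?_⟩
  -- independence of v, w
  have ind2 : ∀ c0 c1 : ZMod 2, c0 • v + c1 • w = 0 → c0 = 0 ∧ c1 = 0 := by
    intro c0 c1 h0
    rcases zmod2_cases c0 with rfl | rfl <;> rcases zmod2_cases c1 with rfl | rfl
    · exact ⟨rfl, rfl⟩
    · exfalso; apply hw0; simpa using h0
    · exfalso; apply hv0; simpa using h0
    · exfalso; apply hvw; simpa using h0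
  have hspan_top : Submodule.span (ZMod 2) {v, w, ρ r v, ρ r w} = ⊤ := by
    set N := Submodule.span (ZMod 2) {v, w, ρ r v, ρ r w} with hN
    have hvN : v ∈ N := Submodule.subset_span (by simp)
    have hwN : w ∈ N := Submodule.subset_span (by simp)
    have he2N : ρ r v ∈ N := Submodule.subset_span (by simp)
    have he3N : ρ r w ∈ N := Submodule.subset_span (by simp)
    have hirr : N = ⊥ ∨ N = ⊤ := by
      refine h.irr N ?_ ?_ ?_
      · apply span4_invariant
        · rw [hva']; exact hvN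
        · rw [hwa]; exact hwN
        · rw [har, hbv', map_add]; exact N.add_mem he2N he3N
        · rw [har, hbw']; exact he2N
      · apply span4_invariant
        · exact he2N
        · exact he3N
        · rw [hrr, hzv]; exact hvN
        · rw [hrr, hzw]; exact N.add_mem hvN hwN
      · apply span4_invariant
        · rw [hvs]; exact hvN
        · rw [hsw]; exact N.add_mem hvN hwN
        · rw [hsr' v hva']; exact he2N
        · rw [hsr' w hwa]; exact he3N
    rcases hirr with h0 | h0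
    · exfalso
      rw [h0] at hvN
      exact hv0 ((Submodule.mem_bot _).1 hvN)
    · exact h0
  constructor
  · intro m
    apply mem_span4
    rw [hspan_top]; trivial
  · intro c0 c1 c2 c3 h0
    have hX : ρ a (c0 • v + c1 • w) = c0 • v + c1 • w := by
      rw [map_add, map_smul, map_smul, hva', hwa]
    have hY : c2 • ρ r v + c3 • ρ r w = ρ r (c2 • v + c3 • w) := by
      rw [map_add, map_smul, map_smul]
    have hYa : ρ a (c2 • v + c3 • w) = c2 • v + c3 • w := by
      rw [map_add, map_smul, map_smul, hva', hwa]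
    have hXY : c0 • v + c1 • w = ρ r (c2 • v + c3 • w) := by
      apply eq_of_add_zero
      rw [← hY, ← add_assoc]
      exact h0
    have hXb : ρ b (c0 • v + c1 • w) = c0 • v + c1 • w := by
      rw [hXY]
      exact (mem_Fx ρ).1 (Fx_of_comm ρ hc.ra ((mem_Fx ρ).2 hYa))
    have hX0 : c0 • v + c1 • w = 0 := h.inter_bot hX hXb
    have hY0 : c2 • v + c3 • w = 0 := by
      apply rho_eq_zero ρ (x := r)
      rw [← hXY, hX0]
    obtain ⟨h1, h2⟩ := ind2 _ _ hX0
    obtain ⟨h3, h4⟩ := ind2 _ _ hY0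
    exact ⟨h1, h2, h3, h4⟩
  · exact hzv
  · exact hzw
  · rw [hzr, hzv]
  · rw [hzr, hzw, map_add]
  · exact hvs
  · exact hsw
  · exact hsr' v hva'
  · exact hsr' w hwa
  · exact hsr v hva'
  · exact hsr w hwa
  · rw [rho_mul, hrr, hzv, hvs]
  · rw [rho_mul, hrr, hzw, map_add, hvs, hsw, ← add_assoc, add_self_zero, zero_add]

theorem card_eq : Nat.card M = 16 := by
  obtain ⟨v, w, e2, e3, T⟩ := h.exists_tab
  exact T.card_eq

theorem card_fix_zs : Nat.card {m : M // ρ (r * r) m = m ∧ ρ s m = m} = 4 := by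
  obtain ⟨v, w, e2, e3, T⟩ := h.exists_tab
  exact T.card_fix_zs

theorem card_fix_zt : Nat.card {m : M // ρ (r * r) m = m ∧ ρ (s * r) m = m} = 2 := by
  obtain ⟨v, w, e2, e3, T⟩ := h.exists_tab
  exact T.card_fix_zt

end MCfg

end Cfsg.Agent.Helper4.NineD8
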