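import Cfsg.Agent.Helper4.NineD8E

set_option autoImplicit false
set_option linter.unusedSectionVars false

namespace Cfsg.Agent.Helper4.NineD8

variable {S : Type*} [Group S] {M : Type*} [AddCommGroup M] [Module (ZMod 2) M]
variable {ρ : Representation (ZMod 2) S M}

lemma invariant_of_closure [Finite S] (N : Submodule (ZMod 2) M) (T : Set S)
    (hT : Subgroup.closure T = ⊤) (h : ∀ g ∈ T, ∀ m ∈ N, ρ g m ∈ N) :
    ∀ g : S, ∀ m ∈ N, ρ g m ∈ N := by
  intro g
  have hg : g ∈ Submonoid.closure T := by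
    rw [← Subgroup.closure_toSubmonoid_of_finite]
    show g ∈ Subgroup.closure T
    rw [hT]; trivial
  induction hg using Submonoid.closure_induction with
  | mem x hx => exact h x hx
  | one => intro m hm; rw [rho_one]; exact hm
  | mul x y _ _ hx hy => intro m hm; rw [rho_mul]; exact hx _ (hy m hm)

/-- Either `a` or `a * b⁻¹` has a nonzero fixed vector. -/
lemma Cfg.exists_fix {a b r s : S} (hc : Cfg a b r s) [Nontrivial M] :
    (∃ m : M, m ≠ 0 ∧ ρ a m = m) ∨ (∃ m : M, m ≠ 0 ∧ ρ (a * b⁻¹) m = m) := by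
  by_cases h1 : ∃ m : M, m ≠ 0 ∧ ρ a m = m
  · exact Or.inl h1
  right
  push Not at h1
  have h1' : ∀ m : M, ρ a m = m → m = 0 := by
    intro m hm
    by_contra h0
    exact h1 m h0 hm
  have hα : ∀ m : M, m + ρ a m + ρ a (ρ a m) = 0 := by
    intro m
    apply h1'
    rw [map_add, map_add]
    have : ρ a (ρ a (ρ a m)) = m := by
      rw [← rho_mul, ← rho_mul, hc.a3, rho_one]
    rw [this]; abel
  have hrinv : r⁻¹ * b = a * r⁻¹ := by
    have := hc.ra
    rw [eq_mul_inv_iff_mul_eq, mul_assoc, ← this, inv_mul_cancel_left]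
  have hβ : ∀ m : M, m + ρ b m + ρ b (ρ b m) = 0 := by
    intro m
    have hb : ρ b (m + ρ b m + ρ b (ρ b m)) = m + ρ b m + ρ b (ρ b m) := by
      rw [map_add, map_add]
      have : ρ b (ρ b (ρ b m)) = m := by
        rw [← rho_mul, ← rho_mul, hc.b3, rho_one]
      rw [this]; abel
    have h2 := h1' _ ((mem_Fx ρ).1 (Fx_of_comm ρ hrinv ((mem_Fx ρ).2 hb)))
    exact rho_eq_zero ρ h2
  have hab : ∀ m : M, ρ a (ρ b m) = ρ b (ρ a m) := by
    intro m
    rw [← rho_mul, ← rho_mul, hc.comm]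
  obtain ⟨m, hm0⟩ := exists_ne (0 : M)
  by_cases hm' : ρ a m + ρ b (ρ b m) = 0
  · have h2 : ρ a m = ρ b (ρ b m) := eq_of_add_zero hm'
    have h3 : ρ (a * b) m = m := by
      rw [hc.comm, rho_mul, h2, ← rho_mul, ← rho_mul, hc.b3, rho_one]
    have h4 : r⁻¹ * (a * b) = (a * b⁻¹) * r⁻¹ := by
      have : (a * b) * r = r * (a * b⁻¹) := by
        rw [mul_assoc, hc.br, ← mul_assoc, hc.ar, mul_assoc, hc.ab_inv]
      rw [eq_mul_inv_iff_mul_eq, mul_assoc, this, inv_mul_cancel_left]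
    refine ⟨ρ r⁻¹ m, ?_, (mem_Fx ρ).1 (Fx_of_comm ρ h4 ((mem_Fx ρ).2 h3))⟩
    intro h0
    exact hm0 (rho_eq_zero ρ h0)
  · refine ⟨ρ a m + ρ b (ρ b m), hm', ?_⟩
    have h2 : ρ a (ρ a m + ρ b (ρ b m)) = ρ b (ρ a m + ρ b (ρ b m)) := by
      apply eq_of_add_zero
      rw [map_add, map_add, hab, hab]
      have e1 : ρ b (ρ b (ρ b m)) = m := by
        rw [← rho_mul, ← rho_mul, hc.b3, rho_one]
      rw [e1]
      have e2 := hα m
      have e3 := hβ (ρ a m)
      have : ρ a (ρ a m) + ρ b (ρ b (ρ a m)) + (ρ b (ρ a m) + m)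
          = (m + ρ a m + ρ a (ρ a m)) + (ρ a m + ρ b (ρ a m) + ρ b (ρ b (ρ a m)))
            - (ρ a m + ρ a m) := by abel
      rw [this, e2, e3, add_self_zero (ρ a m)]
      simp
    rw [hc.ab_inv, rho_mul, h2]
    exact rho_inv_self ρ b _

end Cfsg.Agent.Helper4.NineD8
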