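import Mathlib.GroupTheory.Index
import Mathlib.Tactic.Group
import Mathlib.Tactic.IntervalCases
import Mathlib.Tactic.NormNum
import Mathlib.GroupTheory.OrderOfElement
import Mathlib.Data.Set.Card
import Mathlib.Algebra.Group.Subgroup.Pointwise
import Mathlib.GroupTheory.Subgroup.Centralizer

set_option autoImplicit false
set_option linter.unusedSectionVars false

namespace Cfsg.Agent.Helper4.NineD8

variable {S : Type*} [Group S]

/-- The elements of a subgroup of order `3`. -/
lemma set_eq_of_card_three [Finite S] (K : Subgroup S) (hK : Nat.card K = 3) {x : S}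
    (hx : x ∈ K) (hx1 : x ≠ 1) : ({1, x, x⁻¹} : Set S) = (K : Set S) := by
  have hx3 : x ^ 3 = 1 := by
    have := pow_card_eq_one' (G := K) (x := ⟨x, hx⟩)
    rw [hK] at this
    exact congrArg Subtype.val this
  have hxx : x⁻¹ ≠ x := by
    intro h
    apply hx1
    have h2 : x * x = 1 := by
      nth_rewrite 1 [← h]
      exact inv_mul_cancel x
    have : x = x ^ 3 * (x * x)⁻¹ := by group
    rw [this, hx3, h2]; simp
  apply Set.eq_of_subset_of_ncard_le
  · rintro y (rfl | rfl | rfl)
    · exact K.one_mem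
    · exact hx
    · exact K.inv_mem hx
  · have h1 : (K : Set S).ncard = 3 := by
      rw [← hK]; exact (Nat.card_coe_set_eq _)
    rw [h1]
    rw [Set.ncard_insert_of_notMem, Set.ncard_insert_of_notMem, Set.ncard_singleton]
    · simpa using hxx.symm
    · simp only [Set.mem_insert_iff, Set.mem_singleton_iff, not_or]
      exact ⟨fun h => hx1 h.symm, fun h => hx1 (by simpa using h.symm)⟩
  · exact Set.toFinite _

/-- A subgroup of order `3` normalized by `r` is centralized by `r * r`. -/
lemma centralize_of_card_three [Finite S] (K : Subgroup S) (hK : Nat.card K = 3) (r : S)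
    (hr : ∀ x ∈ K, r * x * r⁻¹ ∈ K) : ∀ x ∈ K, r * r * x = x * (r * r) := by
  intro x hx
  by_cases hx1 : x = 1
  · rw [hx1, mul_one, one_mul]
  have hKset := set_eq_of_card_three K hK hx hx1
  have hy : r * x * r⁻¹ ∈ ({1, x, x⁻¹} : Set S) := by
    rw [hKset]; exact hr x hx
  rcases hy with h | h | h
  · exfalso
    apply hx1
    have : x = r⁻¹ * (r * x * r⁻¹) * r := by group
    rw [this, h]; group
  · have h1 : r * x = x * r := by
      calc r * x = r * x * r⁻¹ * r := by group
        _ = x * r := by rw [h]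
    rw [mul_assoc, h1, ← mul_assoc, h1, mul_assoc]
  · have h0 : r * x * r⁻¹ = x⁻¹ := h
    have h1 : r * x = x⁻¹ * r := by
      calc r * x = r * x * r⁻¹ * r := by group
        _ = x⁻¹ * r := by rw [h0]
    have h2 : r * x⁻¹ = x * r := by
      have := (SemiconjBy.inv_right (show SemiconjBy r x x⁻¹ from h1)).eq
      rwa [inv_inv] at this
    rw [mul_assoc, h1, ← mul_assoc, h2, mul_assoc]

/-- The hypotheses on the normal subgroup `A` of order nine. -/
structure NineHyp (A : Subgroup S) : Prop where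
  comm : ∀ x ∈ A, ∀ y ∈ A, x * y = y * x
  exp3 : ∀ x ∈ A, x ^ 3 = 1
  card9 : Nat.card A = 9
  cent : Subgroup.centralizer (A : Set S) = A
  normal : A.Normal

namespace NineHyp

variable {A : Subgroup S} (hA : NineHyp A)
include hA

lemma no_invol {x : S} (hx : x ∈ A) (h2 : x * x = 1) : x = 1 := by
  have h3 := hA.exp3 x hx
  have : x = x ^ 3 * (x * x)⁻¹ := by group
  rw [this, h3, h2]; simp

lemma mem_of_centralizes {g : S} (hg : ∀ c ∈ A, g * c = c * g) : g ∈ A := by
  rw [← hA.cent, Subgroup.mem_centralizer_iff]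
  intro c hc
  exact (hg c hc).symm

lemma conj_mem' {c : S} (hc : c ∈ A) (g : S) (hg : g * g = 1) : g * c * g ∈ A := by
  have := hA.normal.conj_mem c hc g
  rwa [inv_eq_of_mul_eq_one_right hg] at this

/-- A non-central involution-square `z = r * r` inverts `A`. -/
lemma inverts [Finite S] (r : S) (hr4 : r * r * (r * r) = 1) (hz : r * r ≠ 1) :
    ∀ c ∈ A, r * r * c = c⁻¹ * (r * r) := by
  obtain ⟨z, hzdef⟩ : ∃ z, z = r * r := ⟨_, rfl⟩
  rw [← hzdef] at hr4 hz ⊢
  have hzinv : z⁻¹ = z := inv_eq_of_mul_eq_one_right hr4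
  have hzr : z * r = r * z := by rw [hzdef, mul_assoc]
  by_contra hcon
  push Not at hcon
  obtain ⟨c0, hc0A, hc0⟩ := hcon
  -- the subgroup of inverted elements
  let D : Subgroup S :=
    { carrier := {x | x ∈ A ∧ z * x = x⁻¹ * z}
      one_mem' := ⟨A.one_mem, by simp⟩
      mul_mem' := by
        rintro x y ⟨hx, hx'⟩ ⟨hy, hy'⟩
        refine ⟨A.mul_mem hx hy, ?_⟩
        rw [← mul_assoc, hx', mul_assoc, hy', ← mul_assoc, mul_inv_rev,
          hA.comm _ (A.inv_mem hx) _ (A.inv_mem hy)]
      inv_mem' := by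
        rintro x ⟨hx, hx'⟩
        exact ⟨A.inv_mem hx, (SemiconjBy.inv_right (show SemiconjBy z x x⁻¹ from hx')).eq⟩ }
  have hDmem : ∀ x, x ∈ D ↔ (x ∈ A ∧ z * x = x⁻¹ * z) := fun x => Iff.rfl
  have hDA : D ≤ A := fun x hx => ((hDmem x).1 hx).1
  -- an element fixed by z
  have ht0 : z * c0 * z ∈ A := hA.conj_mem' hc0A z hr4
  obtain ⟨c1, hc1def⟩ : ∃ c1, c1 = c0 * (z * c0 * z) := ⟨_, rfl⟩
  have hc1A : c1 ∈ A := by rw [hc1def]; exact A.mul_mem hc0A ht0
  have hc1z : z * c1 = c1 * z := by
    rw [hc1def]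
    calc z * (c0 * (z * c0 * z)) = (z * c0 * z) * c0 * z := by simp only [mul_assoc]
      _ = c0 * (z * c0 * z) * z := by rw [hA.comm _ ht0 _ hc0A]
  have hc1ne : c1 ≠ 1 := by
    intro h1
    apply hc0
    rw [hc1def] at h1
    have h2 : z * c0 * z = c0⁻¹ := by
      rw [eq_comm, inv_eq_iff_mul_eq_one]; exact h1
    calc z * c0 = z * c0 * z * z⁻¹ := by group
      _ = c0⁻¹ * z := by rw [h2, hzinv]
  have hc1D : c1 ∉ D := by
    intro h
    have h2 := ((hDmem _).1 h).2
    rw [hc1z] at h2
    have h3 : c1 = c1⁻¹ := mul_right_cancel h2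
    apply hc1ne
    apply hA.no_invol hc1A
    nth_rewrite 1 [h3]
    exact inv_mul_cancel c1
  -- an element inverted by z
  have hex : ∃ c2 ∈ A, z * c2 ≠ c2 * z := by
    by_contra hno
    push Not at hno
    have hzA : z ∈ A := hA.mem_of_centralizes hno
    exact hz (hA.no_invol hzA hr4)
  obtain ⟨c2, hc2A, hc2⟩ := hex
  have ht2 : z * c2 * z ∈ A := hA.conj_mem' hc2A z hr4
  obtain ⟨d, hddef⟩ : ∃ d, d = c2⁻¹ * (z * c2 * z) := ⟨_, rfl⟩
  have hdA : d ∈ A := by rw [hddef]; exact A.mul_mem (A.inv_mem hc2A) ht2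
  have hdne : d ≠ 1 := by
    intro h1
    apply hc2
    rw [hddef, inv_mul_eq_one] at h1
    calc z * c2 = z * c2 * z * z⁻¹ := by group
      _ = c2 * z := by rw [← h1, hzinv]
  have hdD : d ∈ D := by
    refine (hDmem d).2 ⟨hdA, ?_⟩
    rw [hddef, mul_inv_rev, inv_inv]
    have : (z * c2 * z)⁻¹ = z * c2⁻¹ * z := by
      rw [mul_inv_rev, mul_inv_rev, hzinv, mul_assoc]
    rw [this]
    simp only [mul_assoc]
  -- card D = 3
  have hDcard : Nat.card D = 3 := by
    have hdvd : Nat.card D ∣ 9 := by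
      rw [← hA.card9]; exact Subgroup.card_dvd_of_le hDA
    have hne1 : Nat.card D ≠ 1 := by
      intro h1
      rw [Subgroup.card_eq_one] at h1
      rw [h1] at hdD
      exact hdne ((Subgroup.mem_bot).1 hdD)
    have hne9 : Nat.card D ≠ 9 := by
      intro h9
      have : D = A := Subgroup.eq_of_le_of_card_ge hDA (by rw [h9, hA.card9])
      rw [this] at hc1D
      exact hc1D hc1A
    have hle : Nat.card D ≤ 9 := Nat.le_of_dvd (by norm_num) hdvd
    interval_cases h : Nat.card D <;> simp_all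
  -- r normalizes D
  have hrD : ∀ x ∈ D, r * x * r⁻¹ ∈ D := by
    intro x hx
    obtain ⟨hxA, hxz⟩ := (hDmem x).1 hx
    refine (hDmem _).2 ⟨hA.normal.conj_mem x hxA r, ?_⟩
    have hzr' : z * r⁻¹ = r⁻¹ * z := by
      have := (SemiconjBy.inv_right (show SemiconjBy z r r from hzr)).eq
      exact this
    calc z * (r * x * r⁻¹) = (z * r) * x * r⁻¹ := by simp only [mul_assoc]
      _ = r * (z * x) * r⁻¹ := by rw [hzr]; simp only [mul_assoc]
      _ = r * x⁻¹ * (z * r⁻¹) := by rw [hxz]; simp only [mul_assoc]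
      _ = (r * x * r⁻¹)⁻¹ * z := by rw [hzr']; simp only [mul_inv_rev, inv_inv, mul_assoc]
  have hcen := centralize_of_card_three D hDcard r hrD d hdD
  rw [← hzdef] at hcen
  have h2 := ((hDmem _).1 hdD).2
  rw [hcen] at h2
  have h3 : d = d⁻¹ := mul_right_cancel h2
  apply hdne
  apply hA.no_invol hdA
  nth_rewrite 1 [h3]
  exact inv_mul_cancel d

/-- A reflection `s` (not equal to the central involution `z`) centralizes a nontrivial
element of `A`. -/
lemma exists_centralized (s z : S) (hs : s * s = 1) (hzz : z * z = 1)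
    (hzinv : ∀ c ∈ A, z * c = c⁻¹ * z) (hsz : s * z = z * s) (hne : s * z ≠ 1) :
    ∃ a ∈ A, a ≠ 1 ∧ s * a = a * s := by
  by_contra hcon
  push Not at hcon
  have hsinv : s⁻¹ = s := inv_eq_of_mul_eq_one_right hs
  have hinv : ∀ c ∈ A, s * c = c⁻¹ * s := by
    intro c hc
    have ht : s * c * s ∈ A := hA.conj_mem' hc s hs
    have hc' : s * (c * (s * c * s)) = (c * (s * c * s)) * s := by
      calc s * (c * (s * c * s)) = (s * c * s) * c * s := by simp only [mul_assoc]
        _ = c * (s * c * s) * s := by rw [hA.comm _ ht _ hc]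
    have h1 : c * (s * c * s) = 1 := by
      by_contra h1
      exact hcon _ (A.mul_mem hc ht) h1 hc'
    have h2 : s * c * s = c⁻¹ := by
      rw [eq_comm, inv_eq_iff_mul_eq_one]; exact h1
    calc s * c = s * c * s * s⁻¹ := by group
      _ = c⁻¹ * s := by rw [h2, hsinv]
  have hu : s * z ∈ A := by
    apply hA.mem_of_centralizes
    intro c hc
    have h1 : s * c⁻¹ = c * s := by
      have := (SemiconjBy.inv_right (show SemiconjBy s c c⁻¹ from hinv c hc)).eq
      rwa [inv_inv] at this
    rw [mul_assoc, hzinv c hc, ← mul_assoc, h1, mul_assoc]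
  apply hne
  apply hA.no_invol hu
  calc s * z * (s * z) = s * (z * s) * z := by simp only [mul_assoc]
    _ = s * (s * z) * z := by rw [hsz]
    _ = (s * s) * (z * z) := by simp only [mul_assoc]
    _ = 1 := by rw [hs, hzz, mul_one]

lemma closure_eq [Finite S] {a b : S} (ha : a ∈ A) (hb : b ∈ A) (ha1 : a ≠ 1) (hb1 : b ≠ 1)
    (hba : b ≠ a) (hba' : b ≠ a⁻¹) : Subgroup.closure {a, b} = A := by
  set K := Subgroup.closure ({a, b} : Set S) with hK
  have haK : a ∈ K := Subgroup.subset_closure (by simp)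
  have hbK : b ∈ K := Subgroup.subset_closure (by simp)
  have hKA : K ≤ A := by
    rw [hK, Subgroup.closure_le]
    rintro x (rfl | rfl)
    · exact ha
    · exact hb
  have hdvd : Nat.card K ∣ 9 := by
    rw [← hA.card9]; exact Subgroup.card_dvd_of_le hKA
  have hne1 : Nat.card K ≠ 1 := by
    intro h1
    rw [Subgroup.card_eq_one] at h1
    rw [h1] at haK
    exact ha1 ((Subgroup.mem_bot).1 haK)
  have hne3 : Nat.card K ≠ 3 := by
    intro h3
    have hset := set_eq_of_card_three K h3 haK ha1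
    have : b ∈ ({1, a, a⁻¹} : Set S) := by rw [hset]; exact hbK
    rcases this with h | h | h
    · exact hb1 h
    · exact hba h
    · exact hba' h
  have hle : Nat.card K ≤ 9 := Nat.le_of_dvd (by norm_num) hdvd
  have h9 : Nat.card K = 9 := by
    interval_cases h : Nat.card K <;> simp_all
  exact Subgroup.eq_of_le_of_card_ge hKA (by rw [h9, hA.card9])

end NineHyp

end Cfsg.Agent.Helper4.NineD8
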