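import Mathlib.GroupTheory.SpecificGroups.Dihedral
import Mathlib.GroupTheory.Index
import Mathlib.Data.Set.Card

set_option autoImplicit false

namespace Cfsg.Agent.Helper4.NineD8

open DihedralGroup

/-- The Klein four-subgroups of the dihedral group of order eight. -/
def Vk (i : ZMod 4) : Subgroup (DihedralGroup 4) where
  carrier := {x | x = 1 ∨ x = r 2 ∨ x = sr i ∨ x = sr (i + 2)}
  one_mem' := Or.inl rfl
  mul_mem' := by
    intro x y hx hy
    simp only [Set.mem_ofPred_eq] at hx hy ⊢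
    revert i x y
    decide
  inv_mem' := by
    intro x hx
    simp only [Set.mem_ofPred_eq] at hx ⊢
    revert i x
    decide

lemma mem_Vk {i : ZMod 4} {x : DihedralGroup 4} :
    x ∈ Vk i ↔ (x = 1 ∨ x = r 2 ∨ x = sr i ∨ x = sr (i + 2)) := Iff.rfl

instance (i : ZMod 4) : DecidablePred (· ∈ Vk i) := fun x =>
  decidable_of_iff _ mem_Vk.symm

lemma card_Vk (i : ZMod 4) : Nat.card (Vk i) = 4 := by
  rw [Nat.card_eq_fintype_card]
  revert i
  decide

lemma Vk_two : Vk 2 = Vk 0 := by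
  ext x
  simp only [mem_Vk]
  revert x
  decide

lemma Vk_three : Vk 3 = Vk 1 := by
  ext x
  simp only [mem_Vk]
  revert x
  decide

lemma klein_center : ∀ x y : DihedralGroup 4, x ≠ 1 → y ≠ 1 → x ≠ y → x ^ 2 = 1 → y ^ 2 = 1 →
    (x * y) ^ 2 = 1 → (x = r 2 ∨ y = r 2 ∨ x * y = r 2) := by
  decide

lemma invol_cases : ∀ t : DihedralGroup 4, t ^ 2 = 1 → t ≠ 1 → t ≠ r 2 → ∃ i, t = sr i := by
  decide

lemma elt_form : ∀ d : DihedralGroup 4, ∃ j : Fin 2, ∃ k : Fin 4,
    d = sr 0 ^ (j : ℕ) * r 1 ^ (k : ℕ) := by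
  decide

/-- Subgroups of order four and exponent two of the dihedral group of order eight. -/
lemma eq_Vk (B : Subgroup (DihedralGroup 4)) (hB : Nat.card B = 4) (hexp : ∀ x ∈ B, x ^ 2 = 1) :
    B = Vk 0 ∨ B = Vk 1 := by
  have hBn : (B : Set (DihedralGroup 4)).ncard = 4 := by
    exact (Nat.card_coe_set_eq _).symm.trans hB
  -- two distinct nonidentity elements
  obtain ⟨x, hxB, hx1⟩ : ∃ x ∈ (B : Set (DihedralGroup 4)), x ∉ ({1} : Set (DihedralGroup 4)) := by
    apply Set.exists_mem_notMem_of_ncard_lt_ncard _ (Set.toFinite _)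
    rw [hBn, Set.ncard_singleton]; norm_num
  obtain ⟨y, hyB, hy1⟩ : ∃ y ∈ (B : Set (DihedralGroup 4)),
      y ∉ ({1, x} : Set (DihedralGroup 4)) := by
    apply Set.exists_mem_notMem_of_ncard_lt_ncard _ (Set.toFinite _)
    rw [hBn]
    exact lt_of_le_of_lt (Set.ncard_insert_le _ _) (by rw [Set.ncard_singleton]; norm_num)
  simp only [Set.mem_singleton_iff, Set.mem_insert_iff, not_or] at hx1 hy1
  have hz : r 2 ∈ B := by
    rcases klein_center x y hx1 hy1.1 (fun h => hy1.2 h.symm) (hexp x hxB) (hexp y hyB)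
      (hexp _ (B.mul_mem hxB hyB)) with h | h | h
    · rw [← h]; exact hxB
    · rw [← h]; exact hyB
    · rw [← h]; exact B.mul_mem hxB hyB
  obtain ⟨t, htB, ht⟩ : ∃ t ∈ (B : Set (DihedralGroup 4)),
      t ∉ ({1, r 2} : Set (DihedralGroup 4)) := by
    apply Set.exists_mem_notMem_of_ncard_lt_ncard _ (Set.toFinite _)
    rw [hBn]
    exact lt_of_le_of_lt (Set.ncard_insert_le _ _) (by rw [Set.ncard_singleton]; norm_num)
  simp only [Set.mem_singleton_iff, Set.mem_insert_iff, not_or] at ht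
  obtain ⟨i, rfl⟩ := invol_cases t (hexp t htB) ht.1 ht.2
  have hle : Vk i ≤ B := by
    intro x hx
    rcases mem_Vk.1 hx with rfl | rfl | rfl | rfl
    · exact B.one_mem
    · exact hz
    · exact htB
    · have : sr (i + 2) = sr i * r 2 := by rw [sr_mul_r]
      rw [this]; exact B.mul_mem htB hz
  have heq : Vk i = B := Subgroup.eq_of_le_of_card_ge hle (by rw [hB, card_Vk])
  have hi : ∀ i : ZMod 4, i = 0 ∨ i = 1 ∨ i = 2 ∨ i = 3 := by decide
  have hi := hi i
  rcases hi with rfl | rfl | rfl | rfl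
  · exact Or.inl heq.symm
  · exact Or.inr heq.symm
  · rw [Vk_two] at heq; exact Or.inl heq.symm
  · rw [Vk_three] at heq; exact Or.inr heq.symm

end Cfsg.Agent.Helper4.NineD8
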