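import Cfsg.Agent.Helper4.NineD8F
import Cfsg.Agent.Helper4.NineD8G
import Cfsg.Agent.Helper4.NineD8H

set_option autoImplicit false
set_option linter.unusedSectionVars false

namespace Cfsg.Agent.Helper4.NineD8

open DihedralGroup

variable {S : Type*} [Group S] {M : Type*} [AddCommGroup M] [Module (ZMod 2) M]
variable (ρ : Representation (ZMod 2) S M) (f : DihedralGroup 4 →* S)

lemma fix_map (i : ZMod 4) (m : M) :
    (∀ b ∈ (Vk i).map f, ρ b m = m) ↔ (ρ (f (r 2)) m = m ∧ ρ (f (sr i)) m = m) := by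
  constructor
  · intro h
    exact ⟨h _ (Subgroup.mem_map_of_mem f (mem_Vk.2 (Or.inr (Or.inl rfl)))),
      h _ (Subgroup.mem_map_of_mem f (mem_Vk.2 (Or.inr (Or.inr (Or.inl rfl)))))⟩
  · rintro ⟨h1, h2⟩ b hb
    obtain ⟨x, hx, rfl⟩ := Subgroup.mem_map.1 hb
    rcases mem_Vk.1 hx with rfl | rfl | rfl | rfl
    · rw [map_one, rho_one]
    · exact h1
    · exact h2
    · have : sr (i + 2) = sr i * r 2 := by rw [sr_mul_r]
      rw [this, map_mul, rho_mul, h1, h2]

lemma Vk_exp : ∀ (i : ZMod 4) (x : DihedralGroup 4), x ∈ Vk i → x ^ 2 = 1 := by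
  intro i x hx
  rw [mem_Vk] at hx
  revert i x
  decide

theorem unique_B (hf : Function.Injective f) (X : Subgroup S) (hfX : f.range = X)
    (j j' : ZMod 4) (hj : (j = 0 ∧ j' = 1) ∨ (j = 1 ∧ j' = 0))
    (h2 : Nat.card {m : M // ρ (f (r 2)) m = m ∧ ρ (f (sr j)) m = m} = 2)
    (h4 : Nat.card {m : M // ρ (f (r 2)) m = m ∧ ρ (f (sr j')) m = m} = 4) :
    ∃! B : Subgroup S, B ≤ X ∧ Nat.card ↥B = 4 ∧ (∀ b ∈ B, b ^ 2 = 1) ∧
        Nat.card {m : M // ∀ b ∈ B, ρ b m = m} = 2 := by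
  have hcount : ∀ i : ZMod 4, Nat.card {m : M // ∀ b ∈ (Vk i).map f, ρ b m = m}
      = Nat.card {m : M // ρ (f (r 2)) m = m ∧ ρ (f (sr i)) m = m} := fun i =>
    Nat.card_congr (Equiv.subtypeEquivRight (fix_map ρ f i))
  refine ⟨(Vk j).map f, ⟨?_, ?_, ?_, ?_⟩, ?_⟩
  · rw [← hfX]; exact Subgroup.map_le_range f _
  · rw [Subgroup.card_map_of_injective hf, card_Vk]
  · intro b hb
    obtain ⟨x, hx, rfl⟩ := Subgroup.mem_map.1 hb
    rw [← map_pow, Vk_exp j x hx, map_one]
  · rw [hcount, h2]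
  · rintro B ⟨hBX, hB4, hBexp, hBfix⟩
    have hmap : (B.comap f).map f = B := by
      apply Subgroup.map_comap_eq_self
      rw [hfX]; exact hBX
    have hc4 : Nat.card (B.comap f) = 4 := by
      rw [← Subgroup.card_map_of_injective hf, hmap, hB4]
    have hexp : ∀ x ∈ B.comap f, x ^ 2 = 1 := by
      intro x hx
      apply hf
      rw [map_pow, map_one]
      exact hBexp _ (Subgroup.mem_comap.1 hx)
    have hcases := eq_Vk (B.comap f) hc4 hexp
    have hB01 : B = (Vk 0).map f ∨ B = (Vk 1).map f := by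
      rcases hcases with h | h
      · left; rw [← hmap, h]
      · right; rw [← hmap, h]
    have hnot : B ≠ (Vk j').map f := by
      intro h
      rw [h, hcount, h4] at hBfix
      norm_num at hBfix
    rcases hj with ⟨rfl, rfl⟩ | ⟨rfl, rfl⟩
    · rcases hB01 with h | h
      · exact h
      · exact absurd h hnot
    · rcases hB01 with h | h
      · exact absurd h hnot
      · exact h

end Cfsg.Agent.Helper4.NineD8
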