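import Cfsg.Agent.Helper4.NineD8I

set_option autoImplicit false
set_option linter.unusedSectionVars false

namespace Cfsg.Agent.Helper4.NineD8

open DihedralGroup

theorem main {S : Type*} [Group S] [Finite S] (A : Subgroup S) (hA : NineHyp A)
    (X : Subgroup S) (f : DihedralGroup 4 →* S) (hf : Function.Injective f) (hfX : f.range = X)
    (hAX : A ⊔ X = ⊤)
    {M : Type*} [AddCommGroup M] [Module (ZMod 2) M] (ρ : Representation (ZMod 2) S M)
    (hfaith : Function.Injective ρ)
    (hirr : ∀ N : Submodule (ZMod 2) M, (∀ s : S, ∀ m ∈ N, ρ s m ∈ N) → N = ⊥ ∨ N = ⊤)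
    (hM : Nontrivial M) :
    Nat.card M = 16 ∧
      ∃! B : Subgroup S, B ≤ X ∧ Nat.card ↥B = 4 ∧ (∀ b ∈ B, b ^ 2 = 1) ∧
        Nat.card {m : M // ∀ b ∈ B, ρ b m = m} = 2 := by
  obtain ⟨r, hrdef⟩ : ∃ r, r = f (DihedralGroup.r 1) := ⟨_, rfl⟩
  obtain ⟨s, hsdef⟩ : ∃ s, s = f (sr 0) := ⟨_, rfl⟩
  have hr4 : r * r * (r * r) = 1 := by
    rw [hrdef]; simp only [← map_mul]
    rw [show (DihedralGroup.r 1 * DihedralGroup.r 1 * (DihedralGroup.r 1 * DihedralGroup.r 1)
      : DihedralGroup 4) = 1 by decide, map_one]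
  have hs2 : s * s = 1 := by
    rw [hsdef]; simp only [← map_mul]
    rw [show (sr 0 * sr 0 : DihedralGroup 4) = 1 by decide, map_one]
  have hsrs : s * r = r⁻¹ * s := by
    rw [hsdef, hrdef]; simp only [← map_mul, ← map_inv]
    rw [show (sr 0 * DihedralGroup.r 1 : DihedralGroup 4) = (DihedralGroup.r 1)⁻¹ * sr 0 by decide]
  have hz1 : r * r ≠ 1 := by
    rw [hrdef, ← map_mul]
    intro h
    have := hf (h.trans (map_one f).symm)
    revert this; decide
  have hsz : s * (r * r) = r * r * s := by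
    rw [hsdef, hrdef]; simp only [← map_mul]
    rw [show (sr 0 * (DihedralGroup.r 1 * DihedralGroup.r 1) : DihedralGroup 4)
      = DihedralGroup.r 1 * DihedralGroup.r 1 * sr 0 by decide]
  have hsz1 : s * (r * r) ≠ 1 := by
    rw [hsdef, hrdef, ← map_mul, ← map_mul]
    intro h
    have := hf (h.trans (map_one f).symm)
    revert this; decide
  have hfr2 : f (DihedralGroup.r 2) = r * r := by
    rw [hrdef, ← map_mul]; rfl
  have hfs1 : f (sr 1) = s * r := by
    rw [hsdef, hrdef, ← map_mul]; rfl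
  have hinv := hA.inverts r hr4 hz1
  obtain ⟨a, haA, ha1, hsa⟩ := hA.exists_centralized s (r * r) hs2 hr4 hinv hsz hsz1
  obtain ⟨b, hbdef⟩ : ∃ b, b = r * a * r⁻¹ := ⟨_, rfl⟩
  have hbA : b ∈ A := by rw [hbdef]; exact hA.normal.conj_mem a haA r
  have ha3 : ∀ x ∈ A, x * x * x = 1 := by
    intro x hx
    rw [← pow_three']; exact hA.exp3 x hx
  have hc : Cfg a b r s :=
    ⟨ha3 a haA, ha1, hr4, hs2, hsrs, hsa, hinv a haA, by rw [hbdef, inv_mul_cancel_right],
      hA.comm a haA b hbA⟩
  -- generation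
  have haa : a⁻¹ ≠ a := by
    intro h
    apply ha1
    apply hA.no_invol haA
    nth_rewrite 1 [← h]
    exact inv_mul_cancel a
  have hba : b ≠ a := by
    intro h
    have h1 := hc.sb
    rw [h, hsa] at h1
    exact haa (mul_right_cancel h1).symm
  have hba' : b ≠ a⁻¹ := by
    intro h
    have h1 := hc.sb
    rw [h, inv_inv] at h1
    have h2 : s * a⁻¹ = a⁻¹ * s := (SemiconjBy.inv_right (show SemiconjBy s a a from hsa)).eq
    rw [h2] at h1
    exact haa (mul_right_cancel h1)
  have hgen : Subgroup.closure ({a, r, s} : Set S) = ⊤ := by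
    rw [eq_top_iff, ← hAX, sup_le_iff]
    have haK : a ∈ Subgroup.closure ({a, r, s} : Set S) := Subgroup.subset_closure (by simp)
    have hrK : r ∈ Subgroup.closure ({a, r, s} : Set S) := Subgroup.subset_closure (by simp)
    have hsK : s ∈ Subgroup.closure ({a, r, s} : Set S) := Subgroup.subset_closure (by simp)
    constructor
    · rw [← hA.closure_eq haA hbA ha1 hc.b_ne hba hba', Subgroup.closure_le]
      rintro x (rfl | rfl)
      · exact haK
      · rw [hbdef]
        exact Subgroup.mul_mem _ (Subgroup.mul_mem _ hrK haK) (Subgroup.inv_mem _ hrK)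
    · rw [← hfX]
      rintro x ⟨d, rfl⟩
      obtain ⟨j, k, hd⟩ := elt_form d
      rw [hd, map_mul, map_pow, map_pow, ← hsdef, ← hrdef]
      exact Subgroup.mul_mem _ (Subgroup.pow_mem _ hsK _) (Subgroup.pow_mem _ hrK _)
  have hfa : ∀ x : S, x ≠ 1 → ρ x ≠ 1 := fun x hx h => hx (hfaith (h.trans (map_one ρ).symm))
  have hirr1 : ∀ N : Submodule (ZMod 2) M, (∀ m ∈ N, ρ a m ∈ N) → (∀ m ∈ N, ρ r m ∈ N) →
      (∀ m ∈ N, ρ s m ∈ N) → N = ⊥ ∨ N = ⊤ := by
    intro N h1 h2 h3
    apply hirr N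
    apply invariant_of_closure N _ hgen
    rintro g (rfl | rfl | rfl)
    · exact h1
    · exact h2
    · exact h3
  rcases hc.exists_fix (ρ := ρ) with hfix | hfix
  · have hm : MCfg ρ a b r s := { toCfg := hc, faith := hfa a ha1, irr := hirr1, fixa := hfix }
    refine ⟨hm.card_eq, ?_⟩
    apply unique_B ρ f hf X hfX 1 0 (Or.inr ⟨rfl, rfl⟩)
    · rw [hfr2, hfs1]; exact hm.card_fix_zt
    · rw [hfr2, ← hsdef]; exact hm.card_fix_zs
  · -- the second configuration
    obtain ⟨a', ha'def⟩ : ∃ a', a' = a * b⁻¹ := ⟨_, rfl⟩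
    obtain ⟨b', hb'def⟩ : ∃ b', b' = r * a' * r⁻¹ := ⟨_, rfl⟩
    have ha'A : a' ∈ A := by rw [ha'def]; exact A.mul_mem haA (A.inv_mem hbA)
    have hb'A : b' ∈ A := by rw [hb'def]; exact hA.normal.conj_mem a' ha'A r
    have ha'1 : a' ≠ 1 := by
      intro h
      rw [ha'def, mul_inv_eq_one] at h
      exact hba h.symm
    have hc' : Cfg a' b' r (s * r) := by
      refine ⟨ha3 a' ha'A, ha'1, hr4, ?_, ?_, ?_, hinv a' ha'A,
        by rw [hb'def, inv_mul_cancel_right], hA.comm a' ha'A b' hb'A⟩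
      · calc s * r * (s * r) = r⁻¹ * s * (s * r) := by rw [hsrs]
          _ = r⁻¹ * (s * s) * r := by simp only [mul_assoc]
          _ = 1 := by rw [hs2, mul_one, inv_mul_cancel]
      · rw [← mul_assoc r⁻¹, ← hsrs]
      · rw [ha'def]
        calc s * r * (a * b⁻¹) = s * (r * a) * b⁻¹ := by simp only [mul_assoc]
          _ = s * (b * r) * b⁻¹ := by rw [hc.ra]
          _ = s * b * (r * b⁻¹) := by simp only [mul_assoc]
          _ = s * b * (a * r) := by rw [hc.rb_inv]
          _ = b⁻¹ * s * (a * r) := by rw [hc.sb]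
          _ = b⁻¹ * (s * a) * r := by simp only [mul_assoc]
          _ = b⁻¹ * (a * s) * r := by rw [hsa]
          _ = (b⁻¹ * a) * (s * r) := by simp only [mul_assoc]
          _ = a * b⁻¹ * (s * r) := by rw [hc.ab_inv]
    have hgen' : Subgroup.closure ({a', r, s * r} : Set S) = ⊤ := by
      rw [eq_top_iff, ← hgen, Subgroup.closure_le]
      have ha'K : a' ∈ Subgroup.closure ({a', r, s * r} : Set S) :=
        Subgroup.subset_closure (by simp)
      have hrK : r ∈ Subgroup.closure ({a', r, s * r} : Set S) :=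
        Subgroup.subset_closure (by simp)
      have hsrK : s * r ∈ Subgroup.closure ({a', r, s * r} : Set S) :=
        Subgroup.subset_closure (by simp)
      have hb'K : b' ∈ Subgroup.closure ({a', r, s * r} : Set S) := by
        rw [hb'def]
        exact Subgroup.mul_mem _ (Subgroup.mul_mem _ hrK ha'K) (Subgroup.inv_mem _ hrK)
      have hb'eq : b' = a * b := by
        rw [hb'def, ha'def]
        calc r * (a * b⁻¹) * r⁻¹ = (r * a) * b⁻¹ * r⁻¹ := by simp only [mul_assoc]
          _ = b * (r * b⁻¹) * r⁻¹ := by rw [hc.ra]; simp only [mul_assoc]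
          _ = b * (a * r) * r⁻¹ := by rw [hc.rb_inv]
          _ = b * a := by simp only [mul_assoc, mul_inv_cancel, mul_one]
          _ = a * b := hc.comm.symm
      have haK : a ∈ Subgroup.closure ({a', r, s * r} : Set S) := by
        have h1 : a' * b' = a⁻¹ := by
          rw [hb'eq, ha'def, hc.ainv]
          calc a * b⁻¹ * (a * b) = a * (b⁻¹ * a) * b := by simp only [mul_assoc]
            _ = a * (a * b⁻¹) * b := by rw [hc.ab_inv]
            _ = a * a := by simp only [mul_assoc, inv_mul_cancel, mul_one]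
        have h2 : a⁻¹ ∈ Subgroup.closure ({a', r, s * r} : Set S) := by
          rw [← h1]; exact Subgroup.mul_mem _ ha'K hb'K
        simpa using Subgroup.inv_mem _ h2
      rintro x (rfl | rfl | rfl)
      · exact haK
      · exact hrK
      · have h3 := Subgroup.mul_mem _ hsrK (Subgroup.inv_mem _ hrK)
        rwa [mul_inv_cancel_right] at h3
    have hirr2 : ∀ N : Submodule (ZMod 2) M, (∀ m ∈ N, ρ a' m ∈ N) → (∀ m ∈ N, ρ r m ∈ N) →
        (∀ m ∈ N, ρ (s * r) m ∈ N) → N = ⊥ ∨ N = ⊤ := by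
      intro N h1 h2 h3
      apply hirr N
      apply invariant_of_closure N _ hgen'
      rintro g (rfl | rfl | rfl)
      · exact h1
      · exact h2
      · exact h3
    have hm : MCfg ρ a' b' r (s * r) :=
      { toCfg := hc', faith := hfa a' ha'1, irr := hirr2, fixa := by rw [ha'def]; exact hfix }
    refine ⟨hm.card_eq, ?_⟩
    apply unique_B ρ f hf X hfX 0 1 (Or.inl ⟨rfl, rfl⟩)
    · rw [hfr2, ← hsdef]
      refine Eq.trans ?_ hm.card_fix_zt
      apply Nat.card_congr
      apply Equiv.subtypeEquivRight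
      intro m
      constructor
      · rintro ⟨h1, h2⟩
        refine ⟨h1, ?_⟩
        rw [mul_assoc, rho_mul, h1, h2]
      · rintro ⟨h1, h2⟩
        refine ⟨h1, ?_⟩
        rw [mul_assoc, rho_mul, h1] at h2
        exact h2
    · rw [hfr2, hfs1]; exact hm.card_fix_zs

end Cfsg.Agent.Helper4.NineD8
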