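import Cfsg.Agent.Helper4.O73MADat

/-! generated permutation model, checks: O73MA -/

set_option autoImplicit false
set_option Elab.async false
set_option maxRecDepth 1000000

namespace Cfsg.Agent.Helper4.O73MA
open Cfsg.Agent.Helper5.TC Cfsg.Agent.Helper5.TCI Cfsg.Agent.Helper5.LP

theorem fixc_5_0 : fixPtsF W_5 2160 0 = true := by decide +kernel

theorem fixc_14_0 : fixPtsF W_14 2160 0 = true := by decide +kernel

theorem fixc_9_0 : fixPtsF W_9 2160 0 = true := by decide +kernel

theorem fixc_13_0 : fixPtsF W_13 2160 0 = true := by decide +kernel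

theorem fixc_8_0 : fixPtsF W_8 2160 0 = true := by decide +kernel

theorem fixc_20_0 : fixPtsF W_20 2160 0 = true := by decide +kernel

theorem fixc_17_0 : fixPtsF W_17 2160 0 = true := by decide +kernel

theorem fixc_16_0 : fixPtsF W_16 2160 0 = true := by decide +kernel

theorem fixc_15_0 : fixPtsF W_15 2160 0 = true := by decide +kernel

theorem fixc_0_0 : fixPtsF W_0 2160 0 = true := by decide +kernel

theorem fixc_2_0 : fixPtsF W_2 2160 0 = true := by decide +kernel

theorem invc_0_0 : invRowFI mT 2160 0 1 2160 0 = true := by decide +kernel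

theorem invc_2_0 : invRowFI mT 2160 2 3 2160 0 = true := by decide +kernel

theorem invc_4_0 : invRowFI mT 2160 4 5 2160 0 = true := by decide +kernel

theorem invc_6_0 : invRowFI mT 2160 6 7 2160 0 = true := by decide +kernel

theorem invc_8_0 : invRowFI mT 2160 8 9 2160 0 = true := by decide +kernel

theorem fixc_22_0 : fixPtsF W_22 2160 0 = true := by decide +kernel

end Cfsg.Agent.Helper4.O73MA
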