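import Cfsg.Agent.Helper4.O73MBDat

/-! generated permutation model, checks: O73MB -/

set_option autoImplicit false
set_option Elab.async false
set_option maxRecDepth 1000000

namespace Cfsg.Agent.Helper4.O73MB
open Cfsg.Agent.Helper5.TC Cfsg.Agent.Helper5.TCI Cfsg.Agent.Helper5.LP

theorem fixc_5_0 : fixPtsF W_5 2268 0 = true := by decide +kernel

theorem fixc_14_0 : fixPtsF W_14 2268 0 = true := by decide +kernel

theorem fixc_11_0 : fixPtsF W_11 2268 0 = true := by decide +kernel

theorem fixc_4_0 : fixPtsF W_4 2268 0 = true := by decide +kernel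

theorem fixc_12_0 : fixPtsF W_12 2268 0 = true := by decide +kernel

theorem fixc_21_0 : fixPtsF W_21 2268 0 = true := by decide +kernel

theorem fixc_17_0 : fixPtsF W_17 2268 0 = true := by decide +kernel

theorem fixc_18_0 : fixPtsF W_18 2268 0 = true := by decide +kernel

theorem fixc_19_0 : fixPtsF W_19 2268 0 = true := by decide +kernel

theorem fixc_1_0 : fixPtsF W_1 2268 0 = true := by decide +kernel

theorem fixc_3_0 : fixPtsF W_3 2268 0 = true := by decide +kernel

theorem invc_0_0 : invRowFI mT 2268 0 1 2268 0 = true := by decide +kernel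

theorem invc_1_0 : invRowFI mT 2268 1 0 2268 0 = true := by decide +kernel

theorem invc_3_0 : invRowFI mT 2268 3 2 2268 0 = true := by decide +kernel

theorem invc_5_0 : invRowFI mT 2268 5 4 2268 0 = true := by decide +kernel

theorem invc_7_0 : invRowFI mT 2268 7 6 2268 0 = true := by decide +kernel

theorem invc_9_0 : invRowFI mT 2268 9 8 2268 0 = true := by decide +kernel

end Cfsg.Agent.Helper4.O73MB
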