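import Mathlib
import Cfsg.Agent.Helper4.SDProd

set_option autoImplicit false
set_option linter.unusedSectionVars false

/-!
Order types of finite groups: the number of solutions of `x ^ d = 1`, its behaviour under products,
and the fact that it determines the number of elements of each order.
-/

namespace Cfsg.Agent.Helper4.OT

open Finset

/-- the number of solutions of `x ^ d = 1`. -/
def cnt (X : Type*) [Group X] [Fintype X] [DecidableEq X] (d : ℕ) : ℕ :=
  (univ.filter (fun x : X => x ^ d = 1)).card

/-- the number of elements of order `n`. -/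
noncomputable def oc (X : Type*) [Group X] [Fintype X] [DecidableEq X] (n : ℕ) : ℕ :=
  (univ.filter (fun x : X => orderOf x = n)).card

section basic

variable {X Y : Type*} [Group X] [Fintype X] [DecidableEq X] [Group Y] [Fintype Y] [DecidableEq Y]

theorem cnt_prod (d : ℕ) : cnt (X × Y) d = cnt X d * cnt Y d := by
  unfold cnt
  rw [← Finset.card_product]
  congr 1
  ext ⟨x, y⟩
  simp only [mem_filter, mem_univ, true_and, mem_product, Prod.pow_mk, Prod.mk_eq_one]

theorem cnt_pi (m d : ℕ) : cnt (Fin m → X) d = cnt X d ^ m := by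
  unfold cnt
  have h : (univ.filter (fun f : Fin m → X => f ^ d = 1)) =
      Fintype.piFinset (fun _ : Fin m => univ.filter (fun x : X => x ^ d = 1)) := by
    ext f
    simp only [mem_filter, mem_univ, true_and, Fintype.mem_piFinset]
    constructor
    · intro hf i
      have := congrFun hf i
      simpa using this
    · intro hf
      funext i
      simpa using hf i
  rw [h, Fintype.card_piFinset, Finset.prod_const, Finset.card_univ, Fintype.card_fin]

theorem cnt_eq_sum_oc (d : ℕ) (hd : d ≠ 0) : cnt X d = ∑ m ∈ d.divisors, oc X m := by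
  unfold cnt oc
  rw [Finset.card_eq_sum_card_fiberwise (f := fun x : X => orderOf x) (t := d.divisors)]
  · apply Finset.sum_congr rfl
    intro m hm
    congr 1
    ext x
    simp only [mem_filter, mem_univ, true_and]
    constructor
    · rintro ⟨_, h⟩
      exact h
    · intro h
      refine ⟨?_, h⟩
      rw [← orderOf_dvd_iff_pow_eq_one, h]
      exact Nat.dvd_of_mem_divisors hm
  · intro x hx
    rw [Finset.mem_coe, mem_filter] at hx
    rw [Finset.mem_coe, Nat.mem_divisors]
    exact ⟨orderOf_dvd_of_pow_eq_one hx.2, hd⟩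

theorem oc_zero : oc X 0 = 0 := by
  unfold oc
  rw [Finset.card_eq_zero, Finset.filter_eq_empty_iff]
  intro x _
  exact (orderOf_pos x).ne'

/-- the numbers of solutions of `x ^ d = 1` determine the numbers of elements of each order. -/
theorem oc_eq_of_cnt_eq (h : ∀ d, cnt X d = cnt Y d) (n : ℕ) : oc X n = oc Y n := by
  induction n using Nat.strong_induction_on with
  | _ n ih =>
    rcases Nat.eq_zero_or_pos n with rfl | hn
    · rw [oc_zero, oc_zero]
    · have hX := cnt_eq_sum_oc (X := X) n hn.ne'
      have hY := cnt_eq_sum_oc (X := Y) n hn.ne'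
      rw [← Nat.insert_self_properDivisors hn.ne',
        Finset.sum_insert Nat.self_notMem_properDivisors] at hX hY
      have hsum : ∑ m ∈ n.properDivisors, oc X m = ∑ m ∈ n.properDivisors, oc Y m := by
        apply Finset.sum_congr rfl
        intro m hm
        exact ih m (Nat.mem_properDivisors.mp hm).2
      have := h n
      omega

theorem card_subtype_orderOf (n : ℕ) : Nat.card {x : X // orderOf x = n} = oc X n := by
  rw [Nat.card_eq_fintype_card, Fintype.card_subtype]
  rfl

end basic

/-- the divisors of 84. -/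
def divs : Fin 12 → ℕ := ![1, 2, 3, 4, 6, 7, 12, 14, 21, 28, 42, 84]

theorem exists_divs (e : ℕ) (he : e ∣ 84) : ∃ i, divs i = e := by
  have hle : e ≤ 84 := Nat.le_of_dvd (by norm_num) he
  have hmem : e ∈ Nat.divisors 84 := Nat.mem_divisors.mpr ⟨he, by norm_num⟩
  have hall : ∀ e ∈ Nat.divisors 84, ∃ i, divs i = e := by decide
  exact hall e hmem

/-- a group of exponent dividing 84 with the given numbers of solutions of `x ^ d = 1`, `d ∣ 84`. -/
structure Prof (X : Type*) [Group X] [Fintype X] [DecidableEq X] (v : Fin 12 → ℕ) : Prop where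
  exp : ∀ x : X, x ^ 84 = 1
  cnt_eq : ∀ i, cnt X (divs i) = v i

section prof

variable {X Y : Type*} [Group X] [Fintype X] [DecidableEq X] [Group Y] [Fintype Y] [DecidableEq Y]

theorem Prof.prod {v w : Fin 12 → ℕ} (hX : Prof X v) (hY : Prof Y w) : Prof (X × Y) (v * w) where
  exp := by
    rintro ⟨x, y⟩
    rw [Prod.pow_mk, hX.exp, hY.exp]
    rfl
  cnt_eq := by
    intro i
    rw [cnt_prod, hX.cnt_eq, hY.cnt_eq]
    rfl

theorem Prof.pi {v : Fin 12 → ℕ} (hX : Prof X v) (m : ℕ) : Prof (Fin m → X) (v ^ m) where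
  exp := by
    intro f
    funext i
    rw [Pi.pow_apply, hX.exp]
    rfl
  cnt_eq := by
    intro i
    rw [cnt_pi, hX.cnt_eq]
    rfl

theorem cnt_gcd (hX : ∀ x : X, x ^ 84 = 1) (d : ℕ) : cnt X d = cnt X (Nat.gcd d 84) := by
  unfold cnt
  congr 1
  ext x
  simp only [mem_filter, mem_univ, true_and]
  rw [← orderOf_dvd_iff_pow_eq_one, ← orderOf_dvd_iff_pow_eq_one, Nat.dvd_gcd_iff]
  constructor
  · intro h
    exact ⟨h, orderOf_dvd_of_pow_eq_one (hX x)⟩
  · intro h
    exact h.1

theorem Prof.cnt_eq_cnt {v : Fin 12 → ℕ} (hX : Prof X v) (hY : Prof Y v) (d : ℕ) :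
    cnt X d = cnt Y d := by
  rw [cnt_gcd hX.exp, cnt_gcd hY.exp]
  obtain ⟨i, hi⟩ := exists_divs (Nat.gcd d 84) (Nat.gcd_dvd_right d 84)
  rw [← hi, hX.cnt_eq, hY.cnt_eq]

/-- two groups with the same profile have the same number of elements of each order. -/
theorem Prof.card_orderOf_eq {v : Fin 12 → ℕ} (hX : Prof X v) (hY : Prof Y v) (n : ℕ) :
    Nat.card {x : X // orderOf x = n} = Nat.card {y : Y // orderOf y = n} := by
  rw [card_subtype_orderOf, card_subtype_orderOf]
  exact oc_eq_of_cnt_eq (hX.cnt_eq_cnt hY) n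

end prof


/-! ### The instance-free version, for large products -/

/-- the number of solutions of `x ^ d = 1`, without reference to instances. -/
noncomputable def ncnt (X : Type*) [Group X] (d : ℕ) : ℕ := Nat.card {x : X // x ^ d = 1}

theorem ncnt_eq_cnt {X : Type*} [Group X] [Fintype X] [DecidableEq X] (d : ℕ) :
    ncnt X d = cnt X d := by
  unfold ncnt cnt
  rw [Nat.card_eq_fintype_card, Fintype.card_subtype]

/-- a finite group of exponent dividing 84 with the given numbers of solutions of `x ^ d = 1`. -/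
structure NProf (X : Type*) [Group X] (v : Fin 12 → ℕ) : Prop where
  exp : ∀ x : X, x ^ 84 = 1
  cnt_eq : ∀ i, ncnt X (divs i) = v i

theorem Prof.toN {X : Type*} [Group X] [Fintype X] [DecidableEq X] {v : Fin 12 → ℕ}
    (h : Prof X v) : NProf X v where
  exp := h.exp
  cnt_eq i := by rw [ncnt_eq_cnt, h.cnt_eq]

section nprof

variable {X Y : Type*} [Group X] [Group Y]

theorem ncnt_prod (d : ℕ) : ncnt (X × Y) d = ncnt X d * ncnt Y d := by
  unfold ncnt
  rw [← Nat.card_prod]
  apply Nat.card_congr
  exact
    { toFun := fun p => (⟨p.1.1, by have := p.2; rw [Prod.ext_iff] at this; exact this.1⟩,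
        ⟨p.1.2, by have := p.2; rw [Prod.ext_iff] at this; exact this.2⟩)
      invFun := fun q => ⟨(q.1.1, q.2.1), by
        rw [Prod.pow_mk, q.1.2, q.2.2]; rfl⟩
      left_inv := fun p => rfl
      right_inv := fun q => rfl }

theorem ncnt_pi (m d : ℕ) : ncnt (Fin m → X) d = ncnt X d ^ m := by
  unfold ncnt
  have h : Nat.card (Fin m → {x : X // x ^ d = 1}) = Nat.card {x : X // x ^ d = 1} ^ m := by
    rw [Nat.card_fun, Nat.card_fin]
  rw [← h]
  apply Nat.card_congr
  exact
    { toFun := fun f i => ⟨f.1 i, by have := congrFun f.2 i; simpa using this⟩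
      invFun := fun g => ⟨fun i => (g i).1, by
        funext i; rw [Pi.pow_apply, (g i).2]; rfl⟩
      left_inv := fun f => rfl
      right_inv := fun g => rfl }

theorem NProf.prod {v w : Fin 12 → ℕ} (hX : NProf X v) (hY : NProf Y w) :
    NProf (X × Y) (v * w) where
  exp := by
    rintro ⟨x, y⟩
    rw [Prod.pow_mk, hX.exp, hY.exp]
    rfl
  cnt_eq := by
    intro i
    rw [ncnt_prod, hX.cnt_eq, hY.cnt_eq]
    rfl

theorem NProf.pi {v : Fin 12 → ℕ} (hX : NProf X v) (m : ℕ) : NProf (Fin m → X) (v ^ m) where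
  exp := by
    intro f
    funext i
    rw [Pi.pow_apply, hX.exp]
    rfl
  cnt_eq := by
    intro i
    rw [ncnt_pi, hX.cnt_eq]
    rfl

/-- two finite groups with the same profile have the same number of elements of each order. -/
theorem NProf.card_orderOf_eq [Finite X] [Finite Y] {v : Fin 12 → ℕ} (hX : NProf X v)
    (hY : NProf Y v) (n : ℕ) :
    Nat.card {x : X // orderOf x = n} = Nat.card {y : Y // orderOf y = n} := by
  classical
  cases nonempty_fintype X
  cases nonempty_fintype Y
  have hX' : Prof X v := ⟨hX.exp, fun i => by rw [← ncnt_eq_cnt]; exact hX.cnt_eq i⟩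
  have hY' : Prof Y v := ⟨hY.exp, fun i => by rw [← ncnt_eq_cnt]; exact hY.cnt_eq i⟩
  exact hX'.card_orderOf_eq hY' n

end nprof

section solvable

theorem isSolvable_pi {ι : Type*} {X : Type*} [Group X] [h : Group.IsSolvable X] :
    Group.IsSolvable (ι → X) := by
  obtain ⟨n, hn⟩ := (Group.isSolvable_def X).mp h
  rw [Group.isSolvable_def]
  refine ⟨n, ?_⟩
  rw [eq_bot_iff]
  intro g hg
  rw [Subgroup.mem_bot]
  funext i
  have h1 : (Pi.evalMonoidHom (fun _ : ι => X) i) g ∈
      (derivedSeries (ι → X) n).map (Pi.evalMonoidHom (fun _ : ι => X) i) :=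
    Subgroup.mem_map_of_mem _ hg
  have h2 := map_derivedSeries_le_derivedSeries (Pi.evalMonoidHom (fun _ : ι => X) i) n h1
  rw [hn, Subgroup.mem_bot] at h2
  exact h2

end solvable

end Cfsg.Agent.Helper4.OT
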