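import Mathlib
import Cfsg.Agent.Helper4.OTCore

set_option autoImplicit false
set_option linter.unusedSectionVars false

/-!
Concrete finite groups used for the order-type example: semidirect products, fibre products over a
group of order two, and their solvability.
-/

namespace Cfsg.Agent.Helper4.OT

open Cfsg.Agent.Helper4.Spec

section sd

variable {A K : Type*} [AddCommGroup A] [Group K] [DistribMulAction K A]

instance [DecidableEq A] [DecidableEq K] : DecidableEq (SD A K) := fun x y =>
  decidable_of_iff (x.a = y.a ∧ x.g = y.g) ⟨fun h => SD.ext h.1 h.2, fun h => by rw [h]; exact ⟨rfl, rfl⟩⟩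

instance [Fintype A] [Fintype K] : Fintype (SD A K) := Fintype.ofEquiv (A × K) SD.equivProd.symm

theorem SD.isSolvable [Group.IsSolvable K] : Group.IsSolvable (SD A K) := by
  have := SD.isSolvable_ker_proj (A := A) (K := K)
  exact Group.isSolvable_of_ker_le_range (SD.proj (A := A) (K := K)).ker.subtype SD.proj
    (by rw [Subgroup.range_subtype])

end sd

/-- a homomorphism to the group of order two, written additively. -/
structure SignHom (X : Type*) [Group X] where
  /-- the underlying map -/
  s : X → ZMod 2
  map_mul : ∀ x y, s (x * y) = s x + s y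

namespace SignHom

variable {X Y : Type*} [Group X] [Group Y]

theorem map_one (s : SignHom X) : s.s 1 = 0 := by
  have h := s.map_mul 1 1
  rw [mul_one] at h
  have h2 : ∀ a : ZMod 2, a = a + a → a = 0 := by decide
  exact h2 _ h

theorem map_inv (s : SignHom X) (x : X) : s.s x⁻¹ = s.s x := by
  have h := s.map_mul x x⁻¹
  rw [mul_inv_cancel, s.map_one] at h
  have h2 : ∀ a b : ZMod 2, 0 = a + b → b = a := by decide
  exact h2 _ _ h

/-- the homomorphism to the multiplicative group of order two. -/
def toHom (s : SignHom X) : X →* Multiplicative (ZMod 2) where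
  toFun x := Multiplicative.ofAdd (s.s x)
  map_one' := by rw [s.map_one]; rfl
  map_mul' x y := by rw [s.map_mul]; rfl

theorem mem_ker_toHom (s : SignHom X) (x : X) : x ∈ s.toHom.ker ↔ s.s x = 0 := by
  rw [MonoidHom.mem_ker]
  constructor
  · intro h
    exact Multiplicative.ofAdd.injective h
  · intro h
    show Multiplicative.ofAdd (s.s x) = 1
    rw [h]
    rfl

/-- a group with a commutative subgroup of index at most two is solvable. -/
theorem isSolvable (s : SignHom X) (h : ∀ x y, s.s x = 0 → s.s y = 0 → x * y = y * x) :
    Group.IsSolvable X := by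
  have : Group.IsSolvable s.toHom.ker := by
    apply Group.isSolvable_of_comm
    rintro ⟨x, hx⟩ ⟨y, hy⟩
    rw [mem_ker_toHom] at hx hy
    exact Subtype.ext (h x y hx hy)
  exact Group.isSolvable_of_ker_le_range s.toHom.ker.subtype s.toHom
    (by rw [Subgroup.range_subtype])

/-- the fibre product of two groups over the group of order two. -/
def FP (sA : SignHom X) (sB : SignHom Y) : Subgroup (X × Y) where
  carrier := {p | sA.s p.1 = sB.s p.2}
  one_mem' := by
    show sA.s 1 = sB.s 1
    rw [sA.map_one, sB.map_one]
  mul_mem' := by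
    intro p q hp hq
    show sA.s (p.1 * q.1) = sB.s (p.2 * q.2)
    rw [sA.map_mul, sB.map_mul]
    rw [Set.mem_ofPred_eq] at hp hq
    rw [hp, hq]
  inv_mem' := by
    intro p hp
    show sA.s p.1⁻¹ = sB.s p.2⁻¹
    rw [sA.map_inv, sB.map_inv]
    exact hp

instance (sA : SignHom X) (sB : SignHom Y) : DecidablePred (· ∈ FP sA sB) := fun p =>
  inferInstanceAs (Decidable (sA.s p.1 = sB.s p.2))

end SignHom

end Cfsg.Agent.Helper4.OT
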