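import Mathlib
import Cfsg.Agent.Helper4.OTGroupsA

set_option autoImplicit false
set_option linter.unusedSectionVars false

/-!
The concrete groups of the order-type example: the definitions, the homomorphisms onto the group of
order two, and solvability.
-/

namespace Cfsg.Agent.Helper4.OT

open Cfsg.Agent.Helper4.Spec
open scoped commutatorElement

/-- the holomorph of the cyclic group of order 7 -/
abbrev Hol7 := SD (ZMod 7) (ZMod 7)ˣ

/-- the cyclic group of order 3, written multiplicatively -/
abbrev C3m := Multiplicative (ZMod 3)

/-- the group of order 3 acts on the group of order 7 by the powers of 2 -/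
instance instActC3Z7 : DistribMulAction C3m (ZMod 7) where
  smul k x := 2 ^ (Multiplicative.toAdd k).val * x
  one_smul := by decide
  mul_smul := by decide
  smul_zero := by decide
  smul_add := by decide

/-- the Frobenius group of order 21 -/
abbrev F21 := SD (ZMod 7) C3m

/-- the additive group of the field with 8 elements, as polynomials of degree at most 2 modulo
`x ^ 3 + x + 1` -/
abbrev V8 := ZMod 2 × ZMod 2 × ZMod 2

/-- multiplication by `x` -/
def mulX (v : V8) : V8 := (v.2.2, v.1 + v.2.2, v.2.1)

/-- squaring -/
def frob (v : V8) : V8 := (v.1, v.2.2, v.2.1 + v.2.2)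

/-- the Frobenius group of order 21 acts on the field with 8 elements by semilinear maps -/
instance instActF21V8 : DistribMulAction F21 V8 where
  smul g v := mulX^[g.a.val] (frob^[(Multiplicative.toAdd g.g).val] v)
  one_smul := by decide
  mul_smul := by decide
  smul_zero := by decide
  smul_add := by decide

/-- the group of semilinear affine maps of the field with 8 elements, of order 168 -/
abbrev AGaL8 := SD V8 F21

/-- the group of order 16 generated by the Pauli matrices: `⟨k, a, b⟩` stands for
`i ^ k X ^ a Z ^ b`. -/
structure Pauli where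
  /-- the exponent of `i` -/
  k : ZMod 4
  /-- the exponent of `X` -/
  a : ZMod 2
  /-- the exponent of `Z` -/
  b : ZMod 2
deriving DecidableEq, Fintype

namespace Pauli

/-- the cocycle: `Z ^ b X ^ a = (-1) ^ (a b) X ^ a Z ^ b` -/
def tw (b a : ZMod 2) : ZMod 4 := if b = 1 ∧ a = 1 then 2 else 0

instance : Mul Pauli := ⟨fun x y => ⟨x.k + y.k + tw x.b y.a, x.a + y.a, x.b + y.b⟩⟩

instance : One Pauli := ⟨⟨0, 0, 0⟩⟩

instance : Inv Pauli := ⟨fun x => ⟨-x.k + tw x.b x.a, x.a, x.b⟩⟩

instance : Group Pauli :=
  Group.ofLeftAxioms (by decide +kernel) (by decide +kernel) (by decide +kernel)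

end Pauli

/-- the simple group of order 168 -/
abbrev L32 := Matrix.SpecialLinearGroup (Fin 3) (ZMod 2)

/-! ### Homomorphisms onto the group of order two -/

/-- the sign on a dihedral group -/
def dihSign (n : ℕ) : SignHom (DihedralGroup n) where
  s x := match x with
    | .r _ => 0
    | .sr _ => 1
  map_mul := by
    rintro (i | i) (j | j) <;> rfl

/-- the parity of the index on the dihedral group of order 8 -/
def dihPar : SignHom (DihedralGroup 4) where
  s x := match x with
    | .r i => ZMod.castHom (show 2 ∣ 4 by decide) (ZMod 2) i
    | .sr i => ZMod.castHom (show 2 ∣ 4 by decide) (ZMod 2) i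
  map_mul := by decide +kernel

/-- the sign on a dicyclic group -/
def quatSign (n : ℕ) : SignHom (QuaternionGroup n) where
  s x := match x with
    | .a _ => 0
    | .xa _ => 1
  map_mul := by
    rintro (i | i) (j | j) <;> rfl

/-- the sign on the holomorph of the group of order 7 -/
def hol7Sign : SignHom Hol7 where
  s x := if x.g ^ 3 = 1 then 0 else 1
  map_mul := by decide +kernel

/-- the reduction modulo 2 on the cyclic group of order 4 -/
def c4Sign : SignHom (Multiplicative (ZMod 4)) where
  s x := ZMod.castHom (show 2 ∣ 4 by decide) (ZMod 2) (Multiplicative.toAdd x)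
  map_mul := by decide +kernel

/-- the homomorphism of the Pauli group with kernel the quaternion group -/
def pauliQ : SignHom Pauli where
  s x := ZMod.castHom (show 2 ∣ 4 by decide) (ZMod 2) x.k + x.a + x.b
  map_mul := by decide +kernel

/-- the homomorphism of the Pauli group with kernel a dihedral group -/
def pauliD : SignHom Pauli where
  s x := ZMod.castHom (show 2 ∣ 4 by decide) (ZMod 2) x.k
  map_mul := by decide +kernel

/-- the homomorphism of the Pauli group with a commutative kernel -/
def pauliA : SignHom Pauli where
  s x := x.a
  map_mul := by decide +kernel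

/-! ### Solvability -/

instance instSolvableSD {A K : Type*} [AddCommGroup A] [Group K] [DistribMulAction K A]
    [Group.IsSolvable K] : Group.IsSolvable (SD A K) := SD.isSolvable

instance instSolvablePi {m : ℕ} {X : Type*} [Group X] [Group.IsSolvable X] :
    Group.IsSolvable (Fin m → X) := isSolvable_pi

instance instSolvableDihedral (n : ℕ) : Group.IsSolvable (DihedralGroup n) := by
  apply (dihSign n).isSolvable
  rintro (i | i) (j | j) hx hy
  · rw [DihedralGroup.r_mul_r, DihedralGroup.r_mul_r, add_comm]
  · exact absurd hy (show ¬ ((1 : ZMod 2) = 0) by decide)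
  · exact absurd hx (show ¬ ((1 : ZMod 2) = 0) by decide)
  · exact absurd hx (show ¬ ((1 : ZMod 2) = 0) by decide)

instance instSolvableQuaternion (n : ℕ) : Group.IsSolvable (QuaternionGroup n) := by
  apply (quatSign n).isSolvable
  rintro (i | i) (j | j) hx hy
  · rw [QuaternionGroup.a_mul_a, QuaternionGroup.a_mul_a, add_comm]
  · exact absurd hy (show ¬ ((1 : ZMod 2) = 0) by decide)
  · exact absurd hx (show ¬ ((1 : ZMod 2) = 0) by decide)
  · exact absurd hx (show ¬ ((1 : ZMod 2) = 0) by decide)

instance instSolvablePauli : Group.IsSolvable Pauli := by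
  apply pauliA.isSolvable
  decide +kernel

/-- an involution of the simple group of order 168 -/
def l32x : L32 := ⟨!![0, 0, 1; 0, 1, 0; 1, 0, 0], by decide⟩

/-- an auxiliary element of the simple group of order 168 -/
def l32y : L32 := ⟨!![0, 0, 1; 0, 1, 1; 1, 1, 0], by decide⟩

/-- an auxiliary element of the simple group of order 168 -/
def l32z : L32 := ⟨!![0, 0, 1; 0, 1, 1; 1, 0, 0], by decide⟩

theorem l32_key : l32x = l32z * ⁅l32x, l32y * l32x * l32y⁻¹⁆ * l32z⁻¹ := by decide +kernel

theorem l32x_ne_one : l32x ≠ 1 := by decide +kernel

/-- the simple group of order 168 is not solvable. -/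
theorem not_isSolvable_L32 : ¬ Group.IsSolvable L32 := by
  refine not_isSolvable_of_mem_derivedSeries l32x_ne_one fun n => ?_
  induction n with
  | zero => exact Subgroup.mem_top l32x
  | succ n ih =>
    rw [l32_key, (derivedSeries_normal _ _).mem_comm_iff, inv_mul_cancel_left]
    exact Subgroup.commutator_mem_commutator ih ((derivedSeries_normal _ _).conj_mem _ ih _)

end Cfsg.Agent.Helper4.OT
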