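import Mathlib
import Cfsg.Agent.Helper4.OTGroupsB

set_option autoImplicit false

/-!
The numbers of solutions of `x ^ d = 1`, `d ∣ 84`, in the cyclic, dihedral and dicyclic factors.
-/

namespace Cfsg.Agent.Helper4.OT

open Cfsg.Agent.Helper4.Spec

theorem prof_C2 : Prof (Multiplicative (ZMod 2)) ![1, 2, 1, 2, 2, 1, 2, 2, 1, 2, 2, 2] where
  exp := by decide +kernel
  cnt_eq := by decide +kernel

theorem prof_C3 : Prof (Multiplicative (ZMod 3)) ![1, 1, 3, 1, 3, 1, 3, 1, 3, 1, 3, 3] where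
  exp := by decide +kernel
  cnt_eq := by decide +kernel

theorem prof_C4 : Prof (Multiplicative (ZMod 4)) ![1, 2, 1, 4, 2, 1, 4, 2, 1, 4, 2, 4] where
  exp := by decide +kernel
  cnt_eq := by decide +kernel

theorem prof_C7 : Prof (Multiplicative (ZMod 7)) ![1, 1, 1, 1, 1, 7, 1, 7, 7, 7, 7, 7] where
  exp := by decide +kernel
  cnt_eq := by decide +kernel

theorem prof_D3 : Prof (DihedralGroup 3) ![1, 4, 3, 4, 6, 1, 6, 4, 3, 4, 6, 6] where
  exp := by decide +kernel
  cnt_eq := by decide +kernel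

theorem prof_D4 : Prof (DihedralGroup 4) ![1, 6, 1, 8, 6, 1, 8, 6, 1, 8, 6, 8] where
  exp := by decide +kernel
  cnt_eq := by decide +kernel

theorem prof_D7 : Prof (DihedralGroup 7) ![1, 8, 1, 8, 8, 7, 8, 14, 7, 14, 14, 14] where
  exp := by decide +kernel
  cnt_eq := by decide +kernel

theorem prof_D21 : Prof (DihedralGroup 21) ![1, 22, 3, 22, 24, 7, 24, 28, 21, 28, 42, 42] where
  exp := by decide +kernel
  cnt_eq := by decide +kernel

theorem prof_D28 : Prof (DihedralGroup 28) ![1, 30, 1, 32, 30, 7, 32, 42, 7, 56, 42, 56] where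
  exp := by decide +kernel
  cnt_eq := by decide +kernel

theorem prof_Q3 : Prof (QuaternionGroup 3) ![1, 2, 3, 8, 6, 1, 12, 2, 3, 8, 6, 12] where
  exp := by decide +kernel
  cnt_eq := by decide +kernel

theorem prof_Q7 : Prof (QuaternionGroup 7) ![1, 2, 1, 16, 2, 7, 16, 14, 7, 28, 14, 28] where
  exp := by decide +kernel
  cnt_eq := by decide +kernel

theorem prof_Q21 : Prof (QuaternionGroup 21) ![1, 2, 3, 44, 6, 7, 48, 14, 21, 56, 42, 84] where
  exp := by decide +kernel
  cnt_eq := by decide +kernel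

theorem prof_Hol7 : Prof Hol7 ![1, 8, 15, 8, 36, 7, 36, 14, 21, 14, 42, 42] where
  exp := by decide +kernel
  cnt_eq := by decide +kernel

theorem prof_F21 : Prof F21 ![1, 1, 15, 1, 15, 7, 15, 7, 21, 7, 21, 21] where
  exp := by decide +kernel
  cnt_eq := by decide +kernel

end Cfsg.Agent.Helper4.OT
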