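import Mathlib
import Cfsg.Agent.Helper4.OTGroupsB

set_option autoImplicit false

/-!
The numbers of solutions of `x ^ d = 1`, `d ∣ 84`, in the group of semilinear affine maps of the
field with 8 elements and in the smaller fibre products.
-/

namespace Cfsg.Agent.Helper4.OT

open Cfsg.Agent.Helper4.Spec

theorem prof_AGaL8 : Prof AGaL8 ![1, 8, 57, 8, 120, 49, 120, 56, 105, 56, 168, 168] where
  exp := by decide +kernel
  cnt_eq := by decide +kernel

theorem prof_FP_D3_D3 : Prof ↥(SignHom.FP (dihSign 3) (dihSign 3))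
    ![1, 10, 9, 10, 18, 1, 18, 10, 9, 10, 18, 18] where
  exp := by decide +kernel
  cnt_eq := by decide +kernel

theorem prof_FP_D3_D4 : Prof ↥(SignHom.FP (dihSign 3) dihPar)
    ![1, 10, 3, 16, 18, 1, 24, 10, 3, 16, 18, 24] where
  exp := by decide +kernel
  cnt_eq := by decide +kernel

theorem prof_FP_C4_Hol7 : Prof ↥(SignHom.FP c4Sign hol7Sign)
    ![1, 2, 15, 16, 30, 7, 72, 14, 21, 28, 42, 84] where
  exp := by decide +kernel
  cnt_eq := by decide +kernel

theorem prof_FP_D7_D7 : Prof ↥(SignHom.FP (dihSign 7) (dihSign 7))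
    ![1, 50, 1, 50, 50, 49, 50, 98, 49, 98, 98, 98] where
  exp := by decide +kernel
  cnt_eq := by decide +kernel

theorem prof_FP_D3_Q3 : Prof ↥(SignHom.FP (dihSign 3) (quatSign 3))
    ![1, 2, 9, 20, 18, 1, 36, 2, 9, 20, 18, 36] where
  exp := by decide +kernel
  cnt_eq := by decide +kernel

theorem prof_FP_D3_D21 : Prof ↥(SignHom.FP (dihSign 3) (dihSign 21))
    ![1, 64, 9, 64, 72, 7, 72, 70, 63, 70, 126, 126] where
  exp := by decide +kernel
  cnt_eq := by decide +kernel

end Cfsg.Agent.Helper4.OT
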