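import Mathlib
import Cfsg.Agent.Helper4.OTGroupsB

set_option autoImplicit false

/-!
The numbers of solutions of `x ^ d = 1`, `d ∣ 84`, in the larger fibre products.
-/

namespace Cfsg.Agent.Helper4.OT

open Cfsg.Agent.Helper4.Spec

theorem prof_FP_D7_PauliQ : Prof ↥(SignHom.FP (dihSign 7) pauliQ)
    ![1, 44, 1, 64, 44, 7, 64, 56, 7, 112, 56, 112] where
  exp := by decide +kernel
  cnt_eq := by decide +kernel

theorem prof_FP_D3_Q21 : Prof ↥(SignHom.FP (dihSign 3) (quatSign 21))
    ![1, 2, 9, 128, 18, 7, 144, 14, 63, 140, 126, 252] where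
  exp := by decide +kernel
  cnt_eq := by decide +kernel

theorem prof_FP_D7_Hol7 : Prof ↥(SignHom.FP (dihSign 7) hol7Sign)
    ![1, 50, 15, 50, 162, 49, 162, 98, 147, 98, 294, 294] where
  exp := by decide +kernel
  cnt_eq := by decide +kernel

theorem prof_FP_Hol7_PauliQ : Prof ↥(SignHom.FP hol7Sign pauliQ)
    ![1, 44, 15, 64, 156, 7, 288, 56, 21, 112, 168, 336] where
  exp := by decide +kernel
  cnt_eq := by decide +kernel

theorem prof_FP_Hol7_PauliD : Prof ↥(SignHom.FP hol7Sign pauliD)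
    ![1, 20, 15, 64, 132, 7, 288, 56, 21, 112, 168, 336] where
  exp := by decide +kernel
  cnt_eq := by decide +kernel

end Cfsg.Agent.Helper4.OT
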