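import Mathlib
import Cfsg.Agent.Helper4.OTGroupsB

set_option autoImplicit false

/-!
The numbers of solutions of `x ^ d = 1`, `d ∣ 84`, in the simple group of order 168.
-/

namespace Cfsg.Agent.Helper4.OT

open Cfsg.Agent.Helper4.Spec

theorem cnt_L32 : ∀ i, cnt L32 (divs i) = ![1, 22, 57, 64, 78, 49, 120, 70, 105, 112, 126, 168] i := by
  decide +kernel

theorem card_L32 : Fintype.card L32 = 168 := by decide +kernel

theorem prof_L32 : Prof L32 ![1, 22, 57, 64, 78, 49, 120, 70, 105, 112, 126, 168] where
  exp := by
    have h := cnt_L32 11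
    have h2 : cnt L32 84 = Fintype.card L32 := by rw [card_L32]; exact h
    unfold cnt at h2
    rw [← Finset.card_univ, Finset.card_filter_eq_iff] at h2
    intro x
    exact h2 x (Finset.mem_univ x)
  cnt_eq := cnt_L32

end Cfsg.Agent.Helper4.OT
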