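import Mathlib
import Cfsg.Agent.Helper4.OTProfA
import Cfsg.Agent.Helper4.OTProfB
import Cfsg.Agent.Helper4.OTProfC
import Cfsg.Agent.Helper4.OTProfD

set_option autoImplicit false
set_option synthInstance.maxSize 2048
set_option synthInstance.maxHeartbeats 400000
set_option maxHeartbeats 1000000

/-!
A solvable and a non-solvable group with the same number of elements of each order.
-/

namespace Cfsg.Agent.Helper4.OT

open Cfsg.Agent.Helper4.Spec

/-- the solvable group -/
abbrev GS : Type :=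
  (Fin 3 → AGaL8) × DihedralGroup 3 × Multiplicative (ZMod 7) × (Fin 4 → DihedralGroup 4) ×
  (Fin 3 → DihedralGroup 7) × (Fin 3 → Hol7) × QuaternionGroup 21 ×
  (Fin 2 → ↥(SignHom.FP (dihSign 3) (dihSign 3))) × (Fin 3 → ↥(SignHom.FP (dihSign 3) dihPar)) ×
  ↥(SignHom.FP c4Sign hol7Sign) × (Fin 2 → ↥(SignHom.FP (dihSign 7) (dihSign 7))) ×
  ↥(SignHom.FP (dihSign 7) pauliQ) × (Fin 2 → ↥(SignHom.FP (dihSign 3) (quatSign 21))) ×
  (Fin 3 → ↥(SignHom.FP hol7Sign pauliQ))

/-- the non-solvable group -/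
abbrev HN : Type :=
  (Fin 3 → L32) × (Fin 21 → Multiplicative (ZMod 2)) × (Fin 3 → Multiplicative (ZMod 3)) ×
  Multiplicative (ZMod 4) × QuaternionGroup 3 × (Fin 4 → F21) × (Fin 3 → QuaternionGroup 7) ×
  DihedralGroup 21 × (Fin 4 → DihedralGroup 28) ×
  (Fin 2 → ↥(SignHom.FP (dihSign 3) (quatSign 3))) ×
  (Fin 2 → ↥(SignHom.FP (dihSign 3) (dihSign 21))) ×
  (Fin 2 → ↥(SignHom.FP (dihSign 7) hol7Sign)) × ↥(SignHom.FP hol7Sign pauliD)

/-- the common profile -/
def vGH : Fin 12 → ℕ :=
  ![1, 10431471432989933568000000000, 50447504966749453125,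
    435754893828453856764491726848000000, 14771478761784934669294073649561600000000,
    1341068619663964900807, 1244535528094537122205926903939984261120000000,
    17410519507033410890310675018547200000, 46010372769789612355876354815375,
    2884938730288523987392538290291065487360000,
    7080832734141390994268440530587296954589380608,
    13579865139524541752548741285415830802845019406336]

theorem prof_GS : NProf GS vGH := by
  have h := (prof_AGaL8.toN.pi 3).prod (prof_D3.toN.prod (prof_C7.toN.prod ((prof_D4.toN.pi 4).prod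
    ((prof_D7.toN.pi 3).prod ((prof_Hol7.toN.pi 3).prod (prof_Q21.toN.prod
    ((prof_FP_D3_D3.toN.pi 2).prod ((prof_FP_D3_D4.toN.pi 3).prod (prof_FP_C4_Hol7.toN.prod
    ((prof_FP_D7_D7.toN.pi 2).prod (prof_FP_D7_PauliQ.toN.prod ((prof_FP_D3_Q21.toN.pi 2).prod
    (prof_FP_Hol7_PauliQ.toN.pi 3)))))))))))))
  convert h using 1
  decide +kernel

theorem prof_HN : NProf HN vGH := by
  have h := (prof_L32.toN.pi 3).prod ((prof_C2.toN.pi 21).prod ((prof_C3.toN.pi 3).prod
    (prof_C4.toN.prod (prof_Q3.toN.prod ((prof_F21.toN.pi 4).prod ((prof_Q7.toN.pi 3).prod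
    (prof_D21.toN.prod ((prof_D28.toN.pi 4).prod ((prof_FP_D3_Q3.toN.pi 2).prod
    ((prof_FP_D3_D21.toN.pi 2).prod ((prof_FP_D7_Hol7.toN.pi 2).prod
    prof_FP_Hol7_PauliD.toN)))))))))))
  convert h using 1
  decide +kernel

theorem isSolvable_GS : Group.IsSolvable GS := inferInstance

theorem finite_GS : Finite GS := inferInstance

theorem finite_HN : Finite HN := inferInstance

theorem not_isSolvable_HN : ¬ Group.IsSolvable HN := by
  intro h
  apply not_isSolvable_L32
  let f : HN →* L32 := (Pi.evalMonoidHom (fun _ : Fin 3 => L32) 0).comp (MonoidHom.fst _ _)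
  refine Group.isSolvable_of_surjective (f := f) ?_
  intro n
  exact ⟨(fun _ => n, 1), rfl⟩

theorem card_orderOf_GS_HN (n : ℕ) :
    Nat.card {g : GS // orderOf g = n} = Nat.card {h : HN // orderOf h = n} :=
  prof_GS.card_orderOf_eq prof_HN n

end Cfsg.Agent.Helper4.OT
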