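import Mathlib
import Cfsg.Agent.Helper4.OrbitSpanA

set_option autoImplicit false

namespace Cfsg.Agent.Helper4

section Rep

variable {k V H : Type*} [Field k] [AddCommGroup V] [Module k V] [Group H]

theorem rep_mul_apply (ρ : Representation k H V) (g h : H) (v : V) :
    ρ (g * h) v = ρ g (ρ h v) := by
  rw [map_mul]; rfl

theorem rep_inv_apply (ρ : Representation k H V) (g : H) (v : V) : ρ g⁻¹ (ρ g v) = v := by
  rw [← rep_mul_apply, inv_mul_cancel, map_one]; rfl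

theorem exists_orbitSum [Finite H] (ρ : Representation k H V) (a : V)
    (hspan : Submodule.span k {u : V | ∃ h : H, ρ h a = u} = ⊤)
    (hm : ((Nat.card {u : V | ∃ h : H, ρ h a = u} : ℕ) : k) ≠ 0) :
    ∃ e : V, (∀ h : H, ρ h e = e) ∧ ∀ K : Subgroup H, ((Nat.card K : ℕ) : k) ≠ 0 →
      (∀ h : H, ∃ c ∈ K, ρ c a = ρ h a) → ∀ b : V, (∀ c ∈ K, ρ c b = b) → ∃ μ : k, b = μ • e := by
  classical
  have hfin : ({u : V | ∃ h : H, ρ h a = u} : Set V).Finite := Set.finite_range (fun h : H => ρ h a)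
  obtain ⟨S, hS⟩ : ∃ S : Finset V, S = hfin.toFinset := ⟨_, rfl⟩
  have hmemS : ∀ u, u ∈ S ↔ ∃ h : H, ρ h a = u := by
    intro u; rw [hS, Set.Finite.mem_toFinset]; rfl
  have hcardS : Nat.card {u : V | ∃ h : H, ρ h a = u} = S.card := by
    rw [hS]; exact Nat.card_eq_card_finite_toFinset hfin
  rw [hcardS] at hm
  have he : ∀ h : H, ρ h (∑ u ∈ S, u) = ∑ u ∈ S, u := by
    intro h
    rw [map_sum]
    refine Finset.sum_bij' (fun u _ => ρ h u) (fun u _ => ρ h⁻¹ u) ?_ ?_ ?_ ?_ ?_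
    · intro u hu
      obtain ⟨g, rfl⟩ := (hmemS u).1 hu
      exact (hmemS _).2 ⟨h * g, rep_mul_apply ρ h g a⟩
    · intro u hu
      obtain ⟨g, rfl⟩ := (hmemS u).1 hu
      exact (hmemS _).2 ⟨h⁻¹ * g, rep_mul_apply ρ h⁻¹ g a⟩
    · intro u _
      exact rep_inv_apply ρ h u
    · intro u _
      have := rep_inv_apply ρ h⁻¹ u
      rwa [inv_inv] at this
    · intro u _
      rfl
  refine ⟨∑ u ∈ S, u, he, ?_⟩
  intro K hK htrans b hb
  have : Fintype K := Fintype.ofFinite K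
  obtain ⟨T, hT⟩ : ∃ T : V →ₗ[k] V, T = ∑ c : K, ρ (c : H) := ⟨_, rfl⟩
  have hTapp : ∀ v, T v = ∑ c : K, ρ (c : H) v := by
    intro v; rw [hT, LinearMap.sum_apply]
  have hcardK : Nat.card K = (Finset.univ : Finset K).card := by
    rw [Finset.card_univ, Nat.card_eq_fintype_card]
  have hTfix : ∀ v, (∀ c ∈ K, ρ c v = v) → T v = ((Nat.card K : ℕ) : k) • v := by
    intro v hv
    rw [hTapp]
    have : ∀ c : K, ρ (c : H) v = v := fun c => hv c c.2
    simp_rw [this]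
    rw [Finset.sum_const, hcardK, Nat.cast_smul_eq_nsmul]
  have hTS : ∀ w ∈ S, T w = T a := by
    intro w hw
    obtain ⟨h, rfl⟩ := (hmemS w).1 hw
    obtain ⟨c0, hc0, hc0a⟩ := htrans h
    rw [← hc0a, hTapp, hTapp]
    exact Fintype.sum_equiv (Equiv.mulRight (⟨c0, hc0⟩ : K)) _ _
      (fun c => (rep_mul_apply ρ (c : H) c0 a).symm)
  have hTe : T (∑ u ∈ S, u) = ((Nat.card K : ℕ) : k) • ∑ u ∈ S, u :=
    hTfix _ (fun c _ => he c)
  have hTe' : T (∑ u ∈ S, u) = ((S.card : ℕ) : k) • T a := by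
    rw [map_sum, Finset.sum_congr rfl hTS, Finset.sum_const, Nat.cast_smul_eq_nsmul]
  have hall : ∀ v ∈ Submodule.span k {u : V | ∃ h : H, ρ h a = u}, ∃ μ : k, T v = μ • T a := by
    intro v hv
    induction hv using Submodule.span_induction with
    | mem v hv =>
      refine ⟨1, ?_⟩
      rw [one_smul]
      exact hTS v ((hmemS v).2 hv)
    | zero => exact ⟨0, by rw [map_zero, zero_smul]⟩
    | add x y _ _ hx hy =>
      obtain ⟨μ1, h1⟩ := hx
      obtain ⟨μ2, h2⟩ := hy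
      exact ⟨μ1 + μ2, by rw [map_add, h1, h2, add_smul]⟩
    | smul r x _ hx =>
      obtain ⟨μ1, h1⟩ := hx
      exact ⟨r * μ1, by rw [map_smul, h1, mul_smul]⟩
  obtain ⟨μ, hμ⟩ := hall b (by rw [hspan]; exact Submodule.mem_top)
  have hTb' := hTfix b hb
  have key : (((Nat.card K : ℕ) : k) * ((S.card : ℕ) : k)) • b =
      (((Nat.card K : ℕ) : k) * μ) • ∑ u ∈ S, u := by
    calc (((Nat.card K : ℕ) : k) * ((S.card : ℕ) : k)) • b
        = ((S.card : ℕ) : k) • (((Nat.card K : ℕ) : k) • b) := by rw [smul_smul, mul_comm]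
      _ = ((S.card : ℕ) : k) • (μ • T a) := by rw [← hTb', hμ]
      _ = μ • (((S.card : ℕ) : k) • T a) := by rw [smul_comm]
      _ = μ • (((Nat.card K : ℕ) : k) • ∑ u ∈ S, u) := by rw [← hTe', hTe]
      _ = (((Nat.card K : ℕ) : k) * μ) • ∑ u ∈ S, u := by rw [smul_smul, mul_comm]
  refine ⟨(((Nat.card K : ℕ) : k) * ((S.card : ℕ) : k))⁻¹ * (((Nat.card K : ℕ) : k) * μ), ?_⟩
  rw [mul_smul, ← key, smul_smul, inv_mul_cancel₀ (mul_ne_zero hK hm), one_smul]

end Rep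

end Cfsg.Agent.Helper4
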