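import Mathlib
import Cfsg.Agent.Helper4.OrbitSpanB
import Cfsg.Agent.Helper4.HallConverseB
import Cfsg.Agent.Helper3.PSolvHall

set_option autoImplicit false

namespace Cfsg.Agent.Helper4

section Rep

universe u

variable {k V : Type*} {H : Type u} [Field k] [AddCommGroup V] [Module k V] [Group H]

theorem fixed_eq_smul_of_isPSolvable [Finite H] (p : ℕ) [hp : Fact p.Prime] [CharP k p]
    (ρ : Representation k H V) (a : V)
    (hfix : ∃ P : Sylow p H, ∀ x : H, x ∈ (P : Subgroup H) → ρ x a = a)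
    (hspan : Submodule.span k {u : V | ∃ h : H, ρ h a = u} = ⊤) :
    ∃ e : V, (∀ h : H, ρ h e = e) ∧ ∀ C : Subgroup H, Cfsg.IsPSolvable p C →
      (Nat.card {u : V | ∃ h : H, ρ h a = u}).Coprime C.index →
      ∀ b : V, (∀ c ∈ C, ρ c b = b) → ∃ μ : k, b = μ • e := by
  obtain ⟨P, hP⟩ := hfix
  have hDidx := index_repStabilizer ρ a
  have hPD : (P : Subgroup H) ≤ repStabilizer ρ a := fun x hx => hP x hx
  have hpm : ¬ p ∣ Nat.card {u : V | ∃ h : H, ρ h a = u} := by
    rw [← hDidx]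
    intro hdvd
    exact P.not_dvd_index (hdvd.trans (Subgroup.index_dvd_of_le hPD))
  have hm : ((Nat.card {u : V | ∃ h : H, ρ h a = u} : ℕ) : k) ≠ 0 := by
    rw [Ne, CharP.cast_eq_zero_iff k p]
    exact hpm
  obtain ⟨e, he, hmain⟩ := exists_orbitSum ρ a hspan hm
  refine ⟨e, he, ?_⟩
  intro C hCsol hcop b hb
  obtain ⟨⟨K0, hK0cop, j, hK0idx⟩, -, -⟩ := Cfsg.Agent.Helper3.hallP_of_isPSolvable p hCsol
  have hcardK : Nat.card (K0.map C.subtype) = Nat.card K0 :=
    Subgroup.card_map_of_injective C.subtype_injective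
  have hK : ((Nat.card (K0.map C.subtype) : ℕ) : k) ≠ 0 := by
    rw [Ne, CharP.cast_eq_zero_iff k p, hcardK]
    intro hdvd
    have := Nat.Coprime.eq_one_of_dvd hK0cop.symm hdvd
    exact hp.out.one_lt.ne' this
  apply hmain (K0.map C.subtype) hK
  · intro h
    rw [← hDidx] at hcop
    obtain ⟨c1, hc1, d1, hd1, rfl⟩ := exists_mul_of_coprime_index (repStabilizer ρ a) C hcop h
    have hrel : ((repStabilizer ρ a).subgroupOf C).index = (repStabilizer ρ a).index :=
      relIndex_of_coprime_index C (repStabilizer ρ a) hcop.symm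
    have hcop2 : Nat.Coprime ((repStabilizer ρ a).subgroupOf C).index K0.index := by
      rw [hrel, hK0idx, hDidx]
      apply Nat.Coprime.pow_right
      exact ((Nat.Prime.coprime_iff_not_dvd hp.out).2 hpm).symm
    obtain ⟨κ, hκ, d', hd', hcd⟩ :=
      exists_mul_of_coprime_index ((repStabilizer ρ a).subgroupOf C) K0 hcop2 (⟨c1, hc1⟩ : C)
    refine ⟨(κ : H), ⟨κ, hκ, rfl⟩, ?_⟩
    have hc1eq : c1 = (κ : H) * (d' : H) := by
      have := congrArg Subtype.val hcd
      simpa using this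
    have hd'a : ρ (d' : H) a = a := hd'
    have hd1a : ρ d1 a = a := hd1
    rw [hc1eq, rep_mul_apply, rep_mul_apply, hd1a, hd'a]
  · intro c hc
    obtain ⟨c', -, rfl⟩ := hc
    exact hb c' c'.2

end Rep

end Cfsg.Agent.Helper4
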