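import Mathlib
import Cfsg.Agent.Helper4.Ord168A
import Cfsg.Agent.Helper1.FrobPCompl2
import Cfsg.Agent.Helper8.Dihedral8

set_option autoImplicit false

namespace Cfsg.Agent.Helper4.Ord168

open Subgroup Cfsg.Agent.Helper2.SmallOrder Cfsg.Agent.Helper2.SylowExact

variable {G : Type*} [Group G]

attribute [local instance] fact7

theorem centralizer_singleton_eq_zpowers (w : G) :
    centralizer ({w} : Set G) = centralizer (zpowers w : Set G) := by
  apply le_antisymm
  · intro g hg
    rw [mem_centralizer_iff] at hg ⊢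
    intro y hy
    obtain ⟨k, rfl⟩ := mem_zpowers_iff.1 hy
    have hc : Commute w g := hg w rfl
    exact (hc.zpow_left k).eq
  · exact centralizer_le (Set.singleton_subset_iff.2 (mem_zpowers w))

theorem mem_centralizer_singleton {u y : G} : y ∈ centralizer ({u} : Set G) ↔ u * y = y * u := by
  rw [mem_centralizer_iff]
  simp only [Set.mem_singleton_iff, forall_eq]

section

variable [Finite G] (h : Nat.card G = 168) [IsSimpleGroup G]
include h

theorem exists_sylow7_eq_zpowers (x : G) (hx : orderOf x = 7) :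
    ∃ P : Sylow 7 G, (P : Subgroup G) = zpowers x := by
  have hp : IsPGroup 7 (zpowers x) :=
    IsPGroup.of_card (n := 1) (by rw [Nat.card_zpowers, hx]; norm_num)
  obtain ⟨P, hP⟩ := hp.exists_le_sylow
  refine ⟨P, ?_⟩
  symm
  apply Subgroup.eq_of_le_of_card_ge hP
  rw [card_syl7 h P, Nat.card_zpowers, hx]

theorem card_normalizer_syl2 (T : Sylow 2 G) :
    Nat.card (normalizer ((T : Subgroup G) : Set G)) = 8 := by
  have := card_normalizer_mul_card_sylow T
  rw [card_sylow2 h, h] at this
  omega

theorem normalizer_syl2 (T : Sylow 2 G) : normalizer ((T : Subgroup G) : Set G) = T := by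
  symm
  apply Subgroup.eq_of_le_of_card_ge le_normalizer
  rw [card_normalizer_syl2 h T, card_syl2 h T]

/-- The centralizer of a nontrivial 2-element is a 2-group. -/
theorem card_centralizer_dvd_eight (u : G) (hu : u ≠ 1) (k : ℕ) (huk : orderOf u = 2 ^ k) :
    Nat.card (centralizer ({u} : Set G)) ∣ 8 := by
  have hk : k ≠ 0 := by
    rintro rfl
    rw [pow_zero, orderOf_eq_one_iff] at huk
    exact hu huk
  have h2u : 2 ∣ orderOf u := by rw [huk]; exact dvd_pow_self 2 hk
  have hdvd : Nat.card (centralizer ({u} : Set G)) ∣ 8 * 21 := by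
    have := Subgroup.card_subgroup_dvd_card (centralizer ({u} : Set G))
    rwa [h] at this
  have h3 : ¬ 3 ∣ Nat.card (centralizer ({u} : Set G)) := by
    intro h3
    obtain ⟨y, hy⟩ := exists_prime_orderOf_dvd_card' (G := ↥(centralizer ({u} : Set G))) 3 h3
    have hy3 : orderOf (y : G) = 3 := by rw [Subgroup.orderOf_coe]; exact hy
    obtain ⟨Q, hQ⟩ := exists_sylow3_eq_zpowers h (y : G) hy3
    apply not_two_dvd_card_centralizer_syl3 h Q
    have huC : u ∈ centralizer ((Q : Subgroup G) : Set G) := by
      rw [hQ, ← centralizer_singleton_eq_zpowers, mem_centralizer_singleton]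
      exact (mem_centralizer_singleton.1 y.2).symm
    exact h2u.trans (Subgroup.orderOf_dvd_natCard _ huC)
  have h7 : ¬ 7 ∣ Nat.card (centralizer ({u} : Set G)) := by
    intro h7
    obtain ⟨y, hy⟩ := exists_prime_orderOf_dvd_card' (G := ↥(centralizer ({u} : Set G))) 7 h7
    have hy7 : orderOf (y : G) = 7 := by rw [Subgroup.orderOf_coe]; exact hy
    obtain ⟨P, hP⟩ := exists_sylow7_eq_zpowers h (y : G) hy7
    have huC : u ∈ centralizer ((P : Subgroup G) : Set G) := by
      rw [hP, ← centralizer_singleton_eq_zpowers, mem_centralizer_singleton]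
      exact (mem_centralizer_singleton.1 y.2).symm
    have huN : u ∈ normalizer ((P : Subgroup G) : Set G) := centralizer_le_normalizer _ huC
    have := h2u.trans (Subgroup.orderOf_dvd_natCard _ huN)
    rw [card_normalizer_syl7 h P] at this
    omega
  have hcop : Nat.Coprime (Nat.card (centralizer ({u} : Set G))) 21 := by
    rw [show 21 = 3 * 7 by norm_num]
    exact Nat.Coprime.mul_right
      ((Nat.Prime.coprime_iff_not_dvd Nat.prime_three).2 h3).symm
      ((Nat.Prime.coprime_iff_not_dvd (by norm_num : Nat.Prime 7)).2 h7).symm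
  exact hcop.dvd_of_dvd_mul_right hdvd

theorem not_comm_syl2 (T : Sylow 2 G) : ∃ a b : ↥(T : Subgroup G), a * b ≠ b * a := by
  by_contra hcon
  push Not at hcon
  have hT := card_syl2 h T
  apply not_normalizer_le_centralizer T (by rw [hT]; norm_num) (by rw [hT, h]; norm_num)
  rw [normalizer_syl2 h T]
  intro a ha
  rw [mem_centralizer_iff]
  intro b hb
  exact congrArg Subtype.val (hcon ⟨b, hb⟩ ⟨a, ha⟩)

theorem card_center_syl2 (T : Sylow 2 G) : Nat.card (center ↥(T : Subgroup G)) = 2 := by
  have hT := card_syl2 h T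
  have hdvd : Nat.card (center ↥(T : Subgroup G)) ∣ 2 ^ 3 := by
    have := Subgroup.card_subgroup_dvd_card (center ↥(T : Subgroup G))
    rwa [hT] at this
  haveI : Nontrivial ↥(T : Subgroup G) := by
    rw [← Finite.one_lt_card_iff_nontrivial, hT]; norm_num
  have hnt : Nontrivial (center ↥(T : Subgroup G)) := IsPGroup.center_nontrivial T.isPGroup'
  have h1 : Nat.card (center ↥(T : Subgroup G)) ≠ 1 := by
    have := Finite.one_lt_card_iff_nontrivial.2 hnt
    omega
  have h8 : Nat.card (center ↥(T : Subgroup G)) ≠ 8 := by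
    intro h8
    have htop : center ↥(T : Subgroup G) = ⊤ := by
      apply Subgroup.eq_top_of_card_eq
      rw [h8, hT]
    obtain ⟨a, b, hab⟩ := not_comm_syl2 h T
    apply hab
    have ha : a ∈ center ↥(T : Subgroup G) := by rw [htop]; exact mem_top a
    exact (mem_center_iff.1 ha b).symm
  have h4 : Nat.card (center ↥(T : Subgroup G)) ≠ 4 := by
    intro h4
    have hidx : (center ↥(T : Subgroup G)).index = 2 := by
      have := (center ↥(T : Subgroup G)).card_mul_index
      rw [h4, hT] at this
      omega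
    haveI : Fact (Nat.Prime (Nat.card (↥(T : Subgroup G) ⧸ center ↥(T : Subgroup G)))) :=
      ⟨by rw [← Subgroup.index_eq_card, hidx]; exact Nat.prime_two⟩
    haveI : IsCyclic (↥(T : Subgroup G) ⧸ center ↥(T : Subgroup G)) := isCyclic_of_prime_card rfl
    obtain ⟨a, b, hab⟩ := not_comm_syl2 h T
    exact hab (commutative_of_cyclic_center_quotient
      (QuotientGroup.mk' (center ↥(T : Subgroup G))) (by rw [QuotientGroup.ker_mk']) a b)
  obtain ⟨m, hm, hmc⟩ := (Nat.dvd_prime_pow Nat.prime_two).1 hdvd
  rw [hmc] at h1 h4 h8 ⊢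
  interval_cases m <;> simp_all

theorem centralizer_eq_of_central (T : Sylow 2 G) (z : G) (hzT : z ∈ (T : Subgroup G))
    (hz1 : z ≠ 1) (hzc : ∀ t ∈ (T : Subgroup G), t * z = z * t) :
    centralizer ({z} : Set G) = T := by
  have hT := card_syl2 h T
  have hle : (T : Subgroup G) ≤ centralizer ({z} : Set G) := by
    intro t ht
    rw [mem_centralizer_singleton]
    exact (hzc t ht).symm
  obtain ⟨k, hk⟩ : ∃ k, orderOf z = 2 ^ k := by
    have := Subgroup.orderOf_dvd_natCard (T : Subgroup G) hzT
    rw [hT] at this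
    have this' : orderOf z ∣ 2 ^ 3 := this
    obtain ⟨m, _, hm⟩ := (Nat.dvd_prime_pow Nat.prime_two).1 this'
    exact ⟨m, hm⟩
  have hd8 := card_centralizer_dvd_eight h z hz1 k hk
  symm
  apply Subgroup.eq_of_le_of_card_ge hle
  rw [hT]
  exact Nat.le_of_dvd (by norm_num) hd8

theorem exists_noncentral_involution (T : Sylow 2 G) :
    ∃ x t : ↥(T : Subgroup G), x * x = 1 ∧ t * x * t⁻¹ ≠ x := by
  by_contra hcon
  push Not at hcon
  have hT := card_syl2 h T
  have hfrob := (Cfsg.Agent.Helper1.frobenius_normal_pcomplement_iff T).2 ?_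
  · obtain ⟨N, hNn, hNc⟩ := hfrob
    have hcard := hNc.card_mul
    rw [hT, h] at hcard
    rcases hNn.eq_bot_or_eq_top with hb | ht
    · rw [hb, Subgroup.card_bot] at hcard; omega
    · rw [ht, Subgroup.card_top, h] at hcard; omega
  · intro Q hQT g hg hcop
    by_cases hQ : Q = ⊥
    · rw [hQ, mem_centralizer_iff]
      intro y hy
      have : y = 1 := hy
      rw [this, one_mul, mul_one]
    · have hQp : IsPGroup 2 Q := T.isPGroup'.to_le hQT
      have h2Q : 2 ∣ Nat.card Q := by
        obtain ⟨n, hn⟩ := IsPGroup.iff_card.1 hQp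
        have hn0 : n ≠ 0 := by
          rintro rfl
          rw [pow_zero] at hn
          exact hQ (Subgroup.card_eq_one.1 hn)
        rw [hn]
        exact dvd_pow_self 2 hn0
      obtain ⟨u, hu⟩ := exists_prime_orderOf_dvd_card' (G := ↥Q) 2 h2Q
      have hu2 : orderOf (u : G) = 2 := by rw [Subgroup.orderOf_coe]; exact hu
      have huT : (u : G) ∈ (T : Subgroup G) := hQT u.2
      have hu1 : (u : G) ≠ 1 := by
        intro h1
        rw [h1, orderOf_one] at hu2
        omega
      have huu : (u : G) * (u : G) = 1 := by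
        rw [← pow_two, ← hu2]
        exact pow_orderOf_eq_one _
      have hcen : ∀ y : G, y ∈ (T : Subgroup G) → y * y = 1 → y ≠ 1 →
          centralizer ({y} : Set G) = T := by
        intro y hyT hyy hy1
        apply centralizer_eq_of_central h T y hyT hy1
        intro t ht
        have := hcon ⟨y, hyT⟩ ⟨t, ht⟩ (Subtype.ext hyy)
        have h' : t * y * t⁻¹ = y := congrArg Subtype.val this
        calc t * y = (t * y * t⁻¹) * t := by group
          _ = y * t := by rw [h']
      have hu'Q : g * (u : G) * g⁻¹ ∈ Q := (mem_normalizer_iff.1 hg (u : G)).1 u.2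
      have hu'u' : (g * (u : G) * g⁻¹) * (g * (u : G) * g⁻¹) = 1 := by
        calc (g * (u : G) * g⁻¹) * (g * (u : G) * g⁻¹) = g * ((u : G) * (u : G)) * g⁻¹ := by group
          _ = 1 := by rw [huu]; group
      have hu'1 : g * (u : G) * g⁻¹ ≠ 1 := by
        intro h1
        apply hu1
        have : (u : G) = g⁻¹ * (g * (u : G) * g⁻¹) * g := by group
        rw [this, h1]
        group
      have hC := hcen (u : G) huT huu hu1
      have hC' := hcen (g * (u : G) * g⁻¹) (hQT hu'Q) hu'u' hu'1
      have hgN : g ∈ normalizer ((T : Subgroup G) : Set G) := by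
        rw [mem_set_normalizer_iff'']
        intro y
        have e1 : y ∈ (T : Subgroup G) ↔ y ∈ centralizer ({g * (u : G) * g⁻¹} : Set G) := by
          rw [hC']
        have e2 : g⁻¹ * y * g ∈ (T : Subgroup G) ↔
            g⁻¹ * y * g ∈ centralizer ({(u : G)} : Set G) := by rw [hC]
        show y ∈ (T : Subgroup G) ↔ g⁻¹ * y * g ∈ (T : Subgroup G)
        rw [e1, e2, mem_centralizer_singleton, mem_centralizer_singleton]
        constructor
        · intro hh
          calc (u : G) * (g⁻¹ * y * g) = g⁻¹ * ((g * u * g⁻¹) * y) * g := by group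
            _ = g⁻¹ * (y * (g * u * g⁻¹)) * g := by rw [hh]
            _ = g⁻¹ * y * g * u := by group
        · intro hh
          calc g * u * g⁻¹ * y = g * (u * (g⁻¹ * y * g)) * g⁻¹ := by group
            _ = g * ((g⁻¹ * y * g) * u) * g⁻¹ := by rw [hh]
            _ = y * (g * u * g⁻¹) := by group
      rw [normalizer_syl2 h T] at hgN
      have hg8 : orderOf g ∣ 2 ^ 3 := by
        have := Subgroup.orderOf_dvd_natCard _ hgN
        rwa [hT] at this
      have hg1 : orderOf g = 1 :=
        Nat.Coprime.eq_one_of_dvd (Nat.Coprime.pow_right 3 hcop) hg8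
      rw [orderOf_eq_one_iff] at hg1
      rw [hg1]
      exact one_mem _

theorem syl2_dihedral (T : Sylow 2 G) : Nonempty (↥(T : Subgroup G) ≃* DihedralGroup 4) := by
  obtain ⟨x, t, hx, hxt⟩ := exists_noncentral_involution h T
  exact Cfsg.Agent.Helper8.Dihedral8.exists_mulEquiv (card_syl2 h T) x t hx hxt

end

end Cfsg.Agent.Helper4.Ord168
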