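import Mathlib
import Cfsg.Agent.Helper4.Ord168B

set_option autoImplicit false

namespace Cfsg.Agent.Helper4.Ord168

open Subgroup Cfsg.Agent.Helper2.SmallOrder Cfsg.Agent.Helper2.SylowExact

variable {G : Type*} [Group G]

attribute [local instance] fact7

theorem card_conj_mul_card_centralizer [Finite G] (g : G) :
    Nat.card {x : G // IsConj g x} * Nat.card (centralizer ({g} : Set G)) = Nat.card G := by
  have h1 := (MulAction.stabilizer (ConjAct G) g).index_mul_card
  rw [MulAction.index_stabilizer, ← Subgroup.nat_card_centralizer_nat_card_stabilizer] at h1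
  have h2 : Nat.card (ConjAct G) = Nat.card G := Nat.card_congr ConjAct.ofConjAct.toEquiv
  rw [h2, ← Nat.card_coe_set_eq] at h1
  rw [← h1]
  congr 1
  apply Nat.card_congr
  exact Equiv.subtypeEquivRight (fun x => by rw [ConjAct.mem_orbit_conjAct, isConj_comm])

theorem orderOf_eq_of_isConj {a b : G} (hab : IsConj a b) : orderOf a = orderOf b := by
  obtain ⟨c, rfl⟩ := isConj_iff.1 hab
  exact (orderOf_injective (MulAut.conj c).toMonoidHom (MulAut.conj c).injective a).symm

/-- The number of elements of a given order. -/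
noncomputable def cnt (G : Type*) [Group G] (m : ℕ) : ℕ := Nat.card {g : G // orderOf g = m}

theorem class_le_cnt [Finite G] (g : G) (m : ℕ) (hg : orderOf g = m) :
    Nat.card {x : G // IsConj g x} ≤ cnt G m := by
  apply Nat.card_le_card_of_injective
    (fun x : {x : G // IsConj g x} =>
      (⟨x.1, (orderOf_eq_of_isConj x.2).symm.trans hg⟩ : {y : G // orderOf y = m}))
  intro x y hxy
  exact Subtype.ext (congrArg (fun t : {y : G // orderOf y = m} => (t : G)) hxy)

theorem isConj_of_card_class_eq [Finite G] (g : G) (m : ℕ) (hg : orderOf g = m)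
    (hcard : Nat.card {x : G // IsConj g x} = cnt G m) (s : G) (hs : orderOf s = m) :
    IsConj g s := by
  let f : {x : G // IsConj g x} → {y : G // orderOf y = m} :=
    fun x => ⟨x.1, (orderOf_eq_of_isConj x.2).symm.trans hg⟩
  have hf : Function.Injective f := by
    intro x y hxy
    exact Subtype.ext (congrArg (fun t : {y : G // orderOf y = m} => (t : G)) hxy)
  have hbij : Function.Bijective f :=
    (Nat.bijective_iff_injective_and_card f).2 ⟨hf, hcard⟩
  obtain ⟨x, hx⟩ := hbij.2 ⟨s, hs⟩
  have : (x : G) = s := congrArg (fun t : {y : G // orderOf y = m} => (t : G)) hx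
  rw [← this]
  exact x.2

theorem two_classes_le_cnt [Finite G] (w w' : G) (m : ℕ) (hw : orderOf w = m)
    (hw' : orderOf w' = m) (hnc : ¬ IsConj w w') :
    Nat.card {x : G // IsConj w x} + Nat.card {x : G // IsConj w' x} ≤ cnt G m := by
  rw [← Nat.card_sum]
  apply Nat.card_le_card_of_injective
    (fun x : {x : G // IsConj w x} ⊕ {x : G // IsConj w' x} =>
      (Sum.elim (fun x => (⟨x.1, (orderOf_eq_of_isConj x.2).symm.trans hw⟩ :
          {y : G // orderOf y = m}))
        (fun x => (⟨x.1, (orderOf_eq_of_isConj x.2).symm.trans hw'⟩ :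
          {y : G // orderOf y = m})) x))
  rintro (x | x) (y | y) hxy
  · have : (x : G) = y := congrArg (fun t : {y : G // orderOf y = m} => (t : G)) hxy
    exact congrArg Sum.inl (Subtype.ext this)
  · exfalso
    have : (x : G) = y := congrArg (fun t : {y : G // orderOf y = m} => (t : G)) hxy
    apply hnc
    have h2 := y.2
    rw [← this] at h2
    exact x.2.trans h2.symm
  · exfalso
    have : (x : G) = y := congrArg (fun t : {y : G // orderOf y = m} => (t : G)) hxy
    apply hnc
    have h2 := x.2
    rw [this] at h2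
    exact y.2.trans h2.symm
  · have : (x : G) = y := congrArg (fun t : {y : G // orderOf y = m} => (t : G)) hxy
    exact congrArg Sum.inr (Subtype.ext this)

theorem sum_cnt [Finite G] (n : ℕ) (hn : Nat.card G = n) (hn0 : n ≠ 0) :
    ∑ m ∈ Nat.divisors n, cnt G m = n := by
  classical
  haveI : Fintype G := Fintype.ofFinite G
  have h1 := sum_card_orderOf_eq_card_pow_eq_one (G := G) hn0
  have h2 : (Finset.univ.filter (fun x : G => x ^ n = 1)).card = n := by
    rw [Finset.filter_true_of_mem, Finset.card_univ, ← Nat.card_eq_fintype_card, hn]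
    intro x _
    rw [← hn]
    exact pow_card_eq_one'
  rw [h2] at h1
  calc ∑ m ∈ Nat.divisors n, cnt G m
      = ∑ m ∈ Nat.divisors n, (Finset.univ.filter (fun x : G => orderOf x = m)).card := by
        apply Finset.sum_congr rfl
        intro m _
        unfold cnt
        rw [Nat.card_eq_fintype_card, Fintype.card_subtype]
    _ = n := h1

/-- The expected number of elements of each order. -/
def expCnt (m : ℕ) : ℕ :=
  if m = 1 then 1 else if m = 2 then 21 else if m = 3 then 56 else if m = 4 then 42
  else if m = 7 then 48 else 0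

theorem sum_expCnt : ∑ m ∈ Nat.divisors 168, expCnt m = 168 := by decide

section

variable [Finite G] (h : Nat.card G = 168) [IsSimpleGroup G]
include h

theorem card_centralizer_order3 (x : G) (hx : orderOf x = 3) :
    Nat.card (centralizer ({x} : Set G)) = 3 := by
  obtain ⟨Q, hQ⟩ := exists_sylow3_eq_zpowers h x hx
  have hC : centralizer ({x} : Set G) = centralizer ((Q : Subgroup G) : Set G) := by
    rw [hQ, centralizer_singleton_eq_zpowers]
  rw [hC]
  have h2 := not_two_dvd_card_centralizer_syl3 h Q
  have hle : centralizer ((Q : Subgroup G) : Set G) ≤ normalizer ((Q : Subgroup G) : Set G) :=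
    centralizer_le_normalizer _
  have hd : Nat.card (centralizer ((Q : Subgroup G) : Set G)) ∣ 6 := by
    have := Subgroup.card_dvd_of_le hle
    rwa [card_normalizer_syl3 h Q] at this
  have hxC : x ∈ centralizer ((Q : Subgroup G) : Set G) := by
    rw [← hC, mem_centralizer_singleton]
  have h3 : 3 ∣ Nat.card (centralizer ((Q : Subgroup G) : Set G)) := by
    have := Subgroup.orderOf_dvd_natCard _ hxC
    rwa [hx] at this
  have hle6 := Nat.le_of_dvd (by norm_num) hd
  generalize Nat.card (centralizer ((Q : Subgroup G) : Set G)) = c at *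
  interval_cases c <;> omega

theorem card_centralizer_order7 (w : G) (hw : orderOf w = 7) :
    Nat.card (centralizer ({w} : Set G)) = 7 := by
  obtain ⟨P, hP⟩ := exists_sylow7_eq_zpowers h w hw
  have hC : centralizer ({w} : Set G) = centralizer ((P : Subgroup G) : Set G) := by
    rw [hP, centralizer_singleton_eq_zpowers]
  rw [hC]
  have hle : centralizer ((P : Subgroup G) : Set G) ≤ normalizer ((P : Subgroup G) : Set G) :=
    centralizer_le_normalizer _
  have hN := card_normalizer_syl7 h P
  have hd : Nat.card (centralizer ((P : Subgroup G) : Set G)) ∣ 21 := by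
    have := Subgroup.card_dvd_of_le hle
    rwa [hN] at this
  have hwC : w ∈ centralizer ((P : Subgroup G) : Set G) := by
    rw [← hC, mem_centralizer_singleton]
  have h7 : 7 ∣ Nat.card (centralizer ((P : Subgroup G) : Set G)) := by
    have := Subgroup.orderOf_dvd_natCard _ hwC
    rwa [hw] at this
  have hne : Nat.card (centralizer ((P : Subgroup G) : Set G)) ≠ 21 := by
    intro h21
    have heq : centralizer ((P : Subgroup G) : Set G) = normalizer ((P : Subgroup G) : Set G) := by
      apply Subgroup.eq_of_le_of_card_ge hle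
      rw [hN, h21]
    have hP7 := card_syl7 h P
    exact not_normalizer_le_centralizer P (by rw [hP7]; norm_num) (by rw [hP7, h]; norm_num)
      heq.ge
  have hle21 := Nat.le_of_dvd (by norm_num) hd
  generalize Nat.card (centralizer ((P : Subgroup G) : Set G)) = c at *
  interval_cases c <;> omega

theorem card_centralizer_order4 (v : G) (hv : orderOf v = 4) :
    Nat.card (centralizer ({v} : Set G)) = 4 := by
  have hv1 : v ≠ 1 := by
    rintro rfl
    rw [orderOf_one] at hv
    omega
  have hd8 := card_centralizer_dvd_eight h v hv1 2 (by rw [hv]; norm_num)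
  have hvC : v ∈ centralizer ({v} : Set G) := by rw [mem_centralizer_singleton]
  have h4 : 4 ∣ Nat.card (centralizer ({v} : Set G)) := by
    have := Subgroup.orderOf_dvd_natCard _ hvC
    rwa [hv] at this
  have hne : Nat.card (centralizer ({v} : Set G)) ≠ 8 := by
    intro h8
    have hp : IsPGroup 2 (centralizer ({v} : Set G)) :=
      IsPGroup.of_card (n := 3) (by rw [h8]; norm_num)
    obtain ⟨T, hT⟩ := hp.exists_le_sylow
    have hTeq : centralizer ({v} : Set G) = T := by
      apply Subgroup.eq_of_le_of_card_ge hT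
      rw [card_syl2 h T, h8]
    have hvT : v ∈ (T : Subgroup G) := by rw [← hTeq]; exact hvC
    have hcen : (⟨v, hvT⟩ : ↥(T : Subgroup G)) ∈ center ↥(T : Subgroup G) := by
      rw [mem_center_iff]
      intro t
      apply Subtype.ext
      have ht : (t : G) ∈ centralizer ({v} : Set G) := by rw [hTeq]; exact t.2
      exact (mem_centralizer_singleton.1 ht).symm
    have ho : orderOf (⟨v, hvT⟩ : ↥(T : Subgroup G)) = 4 := by
      rw [← Subgroup.orderOf_coe]; exact hv
    have := Subgroup.orderOf_dvd_natCard _ hcen
    rw [ho, card_center_syl2 h T] at this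
    omega
  have hle8 := Nat.le_of_dvd (by norm_num) hd8
  generalize Nat.card (centralizer ({v} : Set G)) = c at *
  interval_cases c <;> omega

theorem exists_involution_card_centralizer :
    ∃ z : G, orderOf z = 2 ∧ Nat.card (centralizer ({z} : Set G)) = 8 := by
  obtain ⟨T⟩ : Nonempty (Sylow 2 G) := inferInstance
  have hZ := card_center_syl2 h T
  haveI : Nontrivial (center ↥(T : Subgroup G)) := by
    rw [← Finite.one_lt_card_iff_nontrivial, hZ]; norm_num
  obtain ⟨z, hz⟩ := exists_ne (1 : center ↥(T : Subgroup G))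
  have hz1 : ((z : ↥(T : Subgroup G)) : G) ≠ 1 := by
    intro h1
    apply hz
    apply Subtype.ext
    apply Subtype.ext
    exact h1
  have hzc : ∀ t ∈ (T : Subgroup G), t * ((z : ↥(T : Subgroup G)) : G) =
      ((z : ↥(T : Subgroup G)) : G) * t := by
    intro t ht
    have := mem_center_iff.1 z.2 ⟨t, ht⟩
    exact congrArg Subtype.val this
  have hC := centralizer_eq_of_central h T _ (z : ↥(T : Subgroup G)).2 hz1 hzc
  refine ⟨((z : ↥(T : Subgroup G)) : G), ?_, ?_⟩
  · have ho : orderOf z ∣ 2 := by
      have := orderOf_dvd_natCard z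
      rwa [hZ] at this
    have ho' : orderOf ((z : ↥(T : Subgroup G)) : G) = orderOf z := by
      rw [Subgroup.orderOf_coe, Subgroup.orderOf_coe]
    rw [ho']
    rcases (Nat.dvd_prime Nat.prime_two).1 ho with h1 | h2
    · exact absurd (orderOf_eq_one_iff.1 h1) hz
    · exact h2
  · rw [hC, card_syl2 h T]

theorem exists_order4 : ∃ v : G, orderOf v = 4 := by
  obtain ⟨T⟩ : Nonempty (Sylow 2 G) := inferInstance
  obtain ⟨a, ha⟩ := Cfsg.Agent.Helper8.Dihedral8.exists_order_four (card_syl2 h T)
    (not_comm_syl2 h T)
  exact ⟨(a : G), by rw [Subgroup.orderOf_coe]; exact ha⟩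

theorem not_isConj_inv_order7 (w : G) (hw : orderOf w = 7) : ¬ IsConj w w⁻¹ := by
  intro hc
  obtain ⟨c, hc⟩ := isConj_iff.1 hc
  have hinv : c * w⁻¹ * c⁻¹ = w := by
    have : c * w⁻¹ * c⁻¹ = (c * w * c⁻¹)⁻¹ := by group
    rw [hc, inv_inv] at this
    exact this
  have hc' : c⁻¹ * w * c = w⁻¹ := by
    calc c⁻¹ * w * c = c⁻¹ * (c * w⁻¹ * c⁻¹) * c := by rw [hinv]
      _ = w⁻¹ := by group
  obtain ⟨P, hP⟩ := exists_sylow7_eq_zpowers h w hw
  have hcN : c ∈ normalizer ((P : Subgroup G) : Set G) := by
    rw [mem_normalizer_iff, hP]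
    intro y
    constructor
    · intro hy
      obtain ⟨k, rfl⟩ := mem_zpowers_iff.1 hy
      rw [← conj_zpow, hc]
      exact zpow_mem (inv_mem (mem_zpowers w)) k
    · intro hy
      obtain ⟨k, hk⟩ := mem_zpowers_iff.1 hy
      have : y = (c⁻¹ * w * c) ^ k := by
        have h1 : (c⁻¹ * w * c) ^ k = c⁻¹ * w ^ k * c := by
          have := conj_zpow (a := c⁻¹) (b := w) (i := k)
          rw [inv_inv] at this
          exact this
        rw [h1, hk]
        group
      rw [this, hc']
      exact zpow_mem (inv_mem (mem_zpowers w)) k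
  have ho : orderOf c ∣ 21 := by
    have := Subgroup.orderOf_dvd_natCard _ hcN
    rwa [card_normalizer_syl7 h P] at this
  have hc21 : c ^ 21 = 1 := orderOf_dvd_iff_pow_eq_one.1 ho
  have hcomm2 : Commute (c ^ 2) w := by
    show c ^ 2 * w = w * c ^ 2
    have hcc : c * (c * w * c⁻¹) * c⁻¹ = w := by
      rw [hc]
      exact hinv
    rw [pow_two]
    calc c * c * w = (c * (c * w * c⁻¹) * c⁻¹) * (c * c) := by group
      _ = w * (c * c) := by rw [hcc]
  have hcomm : Commute c w := by
    have h11 := hcomm2.pow_left 11
    have : (c ^ 2) ^ 11 = c := by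
      rw [← pow_mul]
      calc c ^ (2 * 11) = c ^ 21 * c := by rw [← pow_succ]
        _ = c := by rw [hc21, one_mul]
    rwa [this] at h11
  have hww : w = w⁻¹ := by
    rw [← hc, hcomm.eq, mul_inv_cancel_right]
  have hw2 : w ^ 2 = 1 := by
    rw [pow_two]
    nth_rewrite 2 [hww]
    exact mul_inv_cancel w
  have := orderOf_dvd_of_pow_eq_one hw2
  rw [hw] at this
  omega

theorem cnt_eq_expCnt (m : ℕ) (hm : m ∣ 168) : cnt G m = expCnt m := by
  have hsum := sum_cnt (G := G) 168 h (by norm_num)
  have hle : ∀ i ∈ Nat.divisors 168, expCnt i ≤ cnt G i := by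
    intro i _
    unfold expCnt
    split_ifs with h1 h2 h3 h4 h7
    · subst h1
      haveI : Nonempty {g : G // orderOf g = 1} := ⟨⟨1, orderOf_one⟩⟩
      exact Nat.card_pos
    · subst h2
      obtain ⟨z, hz, hzC⟩ := exists_involution_card_centralizer h
      have := card_conj_mul_card_centralizer z
      rw [hzC, h] at this
      have h21 : Nat.card {x : G // IsConj z x} = 21 := by omega
      rw [← h21]
      exact class_le_cnt z 2 hz
    · subst h3
      obtain ⟨x, hx⟩ := exists_prime_orderOf_dvd_card' (G := G) 3 (by rw [h]; norm_num)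
      have := card_conj_mul_card_centralizer x
      rw [card_centralizer_order3 h x hx, h] at this
      have h56 : Nat.card {y : G // IsConj x y} = 56 := by omega
      rw [← h56]
      exact class_le_cnt x 3 hx
    · subst h4
      obtain ⟨v, hv⟩ := exists_order4 h
      have := card_conj_mul_card_centralizer v
      rw [card_centralizer_order4 h v hv, h] at this
      have h42 : Nat.card {y : G // IsConj v y} = 42 := by omega
      rw [← h42]
      exact class_le_cnt v 4 hv
    · subst h7
      obtain ⟨w, hw⟩ := exists_prime_orderOf_dvd_card' (G := G) 7 (by rw [h]; norm_num)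
      have hw' : orderOf w⁻¹ = 7 := by rw [orderOf_inv]; exact hw
      have h1 := card_conj_mul_card_centralizer w
      rw [card_centralizer_order7 h w hw, h] at h1
      have h2 := card_conj_mul_card_centralizer w⁻¹
      rw [card_centralizer_order7 h w⁻¹ hw', h] at h2
      have := two_classes_le_cnt w w⁻¹ 7 hw hw' (not_isConj_inv_order7 h w hw)
      omega
    · exact Nat.zero_le _
  have key := (Finset.sum_eq_sum_iff_of_le hle).1 (by rw [sum_expCnt, hsum])
  exact (key m (Nat.mem_divisors.2 ⟨hm, by norm_num⟩)).symm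

theorem orderOf_mem (g : G) :
    orderOf g = 1 ∨ orderOf g = 2 ∨ orderOf g = 3 ∨ orderOf g = 4 ∨ orderOf g = 7 := by
  have hd : orderOf g ∣ 168 := by rw [← h]; exact orderOf_dvd_natCard g
  have h1 := cnt_eq_expCnt h (orderOf g) hd
  haveI : Nonempty {x : G // orderOf x = orderOf g} := ⟨⟨g, rfl⟩⟩
  have hpos : 0 < cnt G (orderOf g) := Nat.card_pos
  rw [h1] at hpos
  unfold expCnt at hpos
  split_ifs at hpos with h1 h2 h3 h4 h7
  · exact Or.inl h1
  · exact Or.inr (Or.inl h2)
  · exact Or.inr (Or.inr (Or.inl h3))
  · exact Or.inr (Or.inr (Or.inr (Or.inl h4)))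
  · exact Or.inr (Or.inr (Or.inr (Or.inr h7)))
  · omega

theorem card_class_of_card_centralizer (g : G) (c k : ℕ)
    (hc : Nat.card (centralizer ({g} : Set G)) = c) (hk : k * c = 168) :
    Nat.card {x : G // IsConj g x} = k := by
  have := card_conj_mul_card_centralizer g
  rw [hc, h, ← hk] at this
  have hc0 : 0 < c := by
    rcases Nat.eq_zero_or_pos c with h0 | h0
    · rw [h0] at hk; omega
    · exact h0
  exact Nat.eq_of_mul_eq_mul_right hc0 this

theorem isConj_order2 (s t : G) (hs : orderOf s = 2) (ht : orderOf t = 2) : IsConj s t := by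
  obtain ⟨z, hz, hzC⟩ := exists_involution_card_centralizer h
  have hcl := card_class_of_card_centralizer h z 8 21 hzC (by norm_num)
  have hcnt := cnt_eq_expCnt h 2 (by norm_num)
  have hcard : Nat.card {x : G // IsConj z x} = cnt G 2 := by rw [hcl, hcnt]; rfl
  exact (isConj_of_card_class_eq z 2 hz hcard s hs).symm.trans
    (isConj_of_card_class_eq z 2 hz hcard t ht)

theorem isConj_order3 (s t : G) (hs : orderOf s = 3) (ht : orderOf t = 3) : IsConj s t := by
  have hcl := card_class_of_card_centralizer h s 3 56 (card_centralizer_order3 h s hs)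
    (by norm_num)
  have hcnt := cnt_eq_expCnt h 3 (by norm_num)
  have hcard : Nat.card {x : G // IsConj s x} = cnt G 3 := by rw [hcl, hcnt]; rfl
  exact isConj_of_card_class_eq s 3 hs hcard t ht

theorem isConj_order4 (s t : G) (hs : orderOf s = 4) (ht : orderOf t = 4) : IsConj s t := by
  have hcl := card_class_of_card_centralizer h s 4 42 (card_centralizer_order4 h s hs)
    (by norm_num)
  have hcnt := cnt_eq_expCnt h 4 (by norm_num)
  have hcard : Nat.card {x : G // IsConj s x} = cnt G 4 := by rw [hcl, hcnt]; rfl
  exact isConj_of_card_class_eq s 4 hs hcard t ht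

end

end Cfsg.Agent.Helper4.Ord168
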