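import Mathlib
import Cfsg.Agent.Helper4.Ord168C
import Cfsg.Agent.S1012

set_option autoImplicit false

namespace Cfsg.Agent.Helper4.Ord168

open Subgroup Cfsg.Agent.Helper2.SmallOrder Cfsg.Agent.Helper2.SylowExact DihedralGroup

attribute [local instance] fact7

/-! ### Klein four-subgroups of the dihedral group of order 8 -/

def S1 : Finset (DihedralGroup 4) := {r 0, r 2, sr 0, sr 2}
def S2 : Finset (DihedralGroup 4) := {r 0, r 2, sr 1, sr 3}

set_option maxRecDepth 100000 in
theorem klein_D4 : ∀ S : Finset (DihedralGroup 4), S.card = 4 → (∀ x ∈ S, x * x = 1) →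
    (∀ x ∈ S, ∀ y ∈ S, x * y ∈ S) → (S = S1 ∨ S = S2) := by
  decide

theorem S1_mul : ∀ a b : DihedralGroup 4, a ∈ S1 → b ∈ S1 → a * b ∈ S1 := by decide
theorem S1_inv : ∀ a : DihedralGroup 4, a ∈ S1 → a⁻¹ ∈ S1 := by decide
theorem S2_mul : ∀ a b : DihedralGroup 4, a ∈ S2 → b ∈ S2 → a * b ∈ S2 := by decide
theorem S2_inv : ∀ a : DihedralGroup 4, a ∈ S2 → a⁻¹ ∈ S2 := by decide
theorem S1_sq : ∀ a : DihedralGroup 4, a ∈ S1 → a * a = 1 := by decide
theorem S2_sq : ∀ a : DihedralGroup 4, a ∈ S2 → a * a = 1 := by decide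
theorem r2_central : ∀ a : DihedralGroup 4, a * r 2 = r 2 * a := by decide

def W1 : Subgroup (DihedralGroup 4) where
  carrier := {x | x ∈ S1}
  mul_mem' := fun {a b} ha hb => S1_mul a b ha hb
  one_mem' := by decide
  inv_mem' := fun {a} ha => S1_inv a ha

def W2 : Subgroup (DihedralGroup 4) where
  carrier := {x | x ∈ S2}
  mul_mem' := fun {a b} ha hb => S2_mul a b ha hb
  one_mem' := by decide
  inv_mem' := fun {a} ha => S2_inv a ha

theorem mem_W1 {x : DihedralGroup 4} : x ∈ W1 ↔ x ∈ S1 := Iff.rfl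
theorem mem_W2 {x : DihedralGroup 4} : x ∈ W2 ↔ x ∈ S2 := Iff.rfl

theorem W1_ne_W2 : W1 ≠ W2 := by
  intro h
  have h1 : sr 0 ∈ W1 := by rw [mem_W1]; decide
  rw [h, mem_W2] at h1
  revert h1
  decide

theorem isKleinFour_of_card_of_sq {X : Type*} [Group X] (H : Subgroup X)
    (hcard : Nat.card H = 4) (hsq : ∀ x ∈ H, x * x = 1) : IsKleinFour ↥H := by
  haveI : Finite ↥H := Nat.finite_of_card_ne_zero (by rw [hcard]; norm_num)
  haveI : Nontrivial ↥H := by
    rw [← Finite.one_lt_card_iff_nontrivial, hcard]; norm_num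
  refine ⟨hcard, ?_⟩
  rw [Monoid.exponent_eq_prime_iff Nat.prime_two]
  intro g hg
  apply orderOf_eq_prime
  · rw [pow_two]
    exact Subtype.ext (hsq g g.2)
  · exact hg

theorem card_W1 : Nat.card W1 = 4 := by
  rw [Nat.card_congr (Equiv.subtypeEquivRight (fun x => mem_W1) : ↥W1 ≃ {x // x ∈ S1}),
    Nat.card_eq_fintype_card, Fintype.card_coe]
  decide

theorem card_W2 : Nat.card W2 = 4 := by
  rw [Nat.card_congr (Equiv.subtypeEquivRight (fun x => mem_W2) : ↥W2 ≃ {x // x ∈ S2}),
    Nat.card_eq_fintype_card, Fintype.card_coe]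
  decide

theorem isKleinFour_W1 : IsKleinFour ↥W1 :=
  isKleinFour_of_card_of_sq W1 card_W1 (fun x hx => S1_sq x hx)

theorem isKleinFour_W2 : IsKleinFour ↥W2 :=
  isKleinFour_of_card_of_sq W2 card_W2 (fun x hx => S2_sq x hx)

theorem eq_W1_or_W2 (W : Subgroup (DihedralGroup 4)) (hW : IsKleinFour ↥W) :
    W = W1 ∨ W = W2 := by
  classical
  have hcard : (Finset.univ.filter (fun x => x ∈ W)).card = 4 := by
    rw [← Fintype.card_subtype, ← Nat.card_eq_fintype_card]
    exact hW.card_four
  have hsq : ∀ x ∈ Finset.univ.filter (fun x => x ∈ W), x * x = 1 := by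
    intro x hx
    rw [Finset.mem_filter] at hx
    have := IsKleinFour.mul_self (⟨x, hx.2⟩ : ↥W)
    exact congrArg Subtype.val this
  have hmul : ∀ x ∈ Finset.univ.filter (fun x => x ∈ W),
      ∀ y ∈ Finset.univ.filter (fun x => x ∈ W), x * y ∈ Finset.univ.filter (fun x => x ∈ W) := by
    intro x hx y hy
    rw [Finset.mem_filter] at hx hy ⊢
    exact ⟨Finset.mem_univ _, mul_mem hx.2 hy.2⟩
  rcases klein_D4 _ hcard hsq hmul with h1 | h2
  · left
    ext x
    rw [mem_W1, ← h1, Finset.mem_filter]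
    simp
  · right
    ext x
    rw [mem_W2, ← h2, Finset.mem_filter]
    simp

/-! ### Transport -/

variable {G : Type*} [Group G]

theorem isKleinFour_of_mulEquiv {A B : Type*} [Group A] [Group B] (e : A ≃* B)
    (hA : IsKleinFour A) : IsKleinFour B :=
  ⟨by rw [← Nat.card_congr e.toEquiv]; exact hA.card_four,
   by rw [← Monoid.exponent_eq_of_mulEquiv e]; exact hA.exponent_two⟩

theorem isKleinFour_map {H : Type*} [Group H] (ψ : H →* G) (hψ : Function.Injective ψ)
    (W : Subgroup H) (hW : IsKleinFour ↥W) : IsKleinFour ↥(W.map ψ) :=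
  isKleinFour_of_mulEquiv (W.equivMapOfInjective ψ hψ) hW

theorem isKleinFour_comap {H : Type*} [Group H] (ψ : H →* G) (hψ : Function.Injective ψ)
    (U : Subgroup G) (hU : U ≤ ψ.range) (hK : IsKleinFour ↥U) : IsKleinFour ↥(U.comap ψ) := by
  have h1 : (U.comap ψ).map ψ = U := Subgroup.map_comap_eq_self hU
  have e1 : ↥(U.comap ψ) ≃* ↥((U.comap ψ).map ψ) := (U.comap ψ).equivMapOfInjective ψ hψ
  have e2 : ↥((U.comap ψ).map ψ) ≃* ↥U := MulEquiv.subgroupCongr h1
  exact isKleinFour_of_mulEquiv (e1.trans e2).symm hK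

/-- Burnside's fusion lemma for subgroups normalized by a Sylow subgroup. -/
theorem burnside_fusion [Finite G] {p : ℕ} [Fact p.Prime] (P : Sylow p G) (A B : Subgroup G)
    (hA : (P : Subgroup G) ≤ normalizer (A : Set G))
    (hB : (P : Subgroup G) ≤ normalizer (B : Set G))
    (g : G) (hg : A.map (MulAut.conj g).toMonoidHom = B) :
    ∃ n ∈ normalizer ((P : Subgroup G) : Set G), A.map (MulAut.conj n).toMonoidHom = B := by
  have key : ∀ c, c ∈ A.map (MulAut.conj g).toMonoidHom ↔ g⁻¹ * c * g ∈ A := by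
    intro c
    constructor
    · rintro ⟨a, ha, rfl⟩
      have : g⁻¹ * ((MulAut.conj g).toMonoidHom a) * g = a := by
        simp [mul_assoc]
      rw [this]
      exact ha
    · intro hc
      exact ⟨g⁻¹ * c * g, hc, by simp [mul_assoc]⟩
  have hP2 : ((g • P : Sylow p G) : Subgroup G) ≤ normalizer (B : Set G) := by
    intro x hx
    rw [Sylow.coe_subgroup_smul, Subgroup.mem_pointwise_smul_iff_inv_smul_mem] at hx
    have hy : g⁻¹ * x * g ∈ (P : Subgroup G) := by
      simpa [MulAut.smul_def, mul_assoc] using hx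
    have hyA := hA hy
    rw [← hg]
    rw [mem_normalizer_iff] at hyA ⊢
    intro b
    rw [key, key, hyA (g⁻¹ * b * g)]
    have : g⁻¹ * x * g * (g⁻¹ * b * g) * (g⁻¹ * x * g)⁻¹ = g⁻¹ * (x * b * x⁻¹) * g := by group
    rw [this]
  obtain ⟨m, hm⟩ := MulAction.exists_smul_eq ↥(normalizer (B : Set G))
    ((g • P).subtype hP2) (P.subtype hB)
  rw [Sylow.smul_subtype] at hm
  have hm' : (m : G) • (g • P) = P := Sylow.subtype_injective hm
  refine ⟨(m : G) * g, ?_, ?_⟩
  · have : ((m : G) * g) • P = P := by rw [mul_smul]; exact hm'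
    rw [Sylow.smul_eq_iff_mem_normalizer] at this
    exact this
  · have hcomp : (MulAut.conj ((m : G) * g)).toMonoidHom =
        (MulAut.conj (m : G)).toMonoidHom.comp (MulAut.conj g).toMonoidHom := by
      ext x
      simp [mul_assoc]
    rw [hcomp, ← Subgroup.map_map, hg]
    exact mem_normalizer_iff_map_conj_eq.1 m.2

section

variable [Finite G] (h : Nat.card G = 168) [IsSimpleGroup G]
include h

/-- The two Klein four-subgroups of a Sylow 2-subgroup, with the central involution. -/
theorem klein_structure (T : Sylow 2 G) :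
    ∃ (U1 U2 : Subgroup G) (z : G), U1 ≤ (T : Subgroup G) ∧ U2 ≤ (T : Subgroup G) ∧
      IsKleinFour ↥U1 ∧ IsKleinFour ↥U2 ∧ U1 ≠ U2 ∧
      (∀ U : Subgroup G, U ≤ (T : Subgroup G) → IsKleinFour ↥U → U = U1 ∨ U = U2) ∧
      z ∈ U1 ∧ z ∈ U2 ∧ z ≠ 1 ∧ (∀ t ∈ (T : Subgroup G), t * z = z * t) := by
  obtain ⟨e⟩ := syl2_dihedral h T
  let ψ : DihedralGroup 4 →* G := (T : Subgroup G).subtype.comp e.symm.toMonoidHom
  have hψ : Function.Injective ψ := by
    intro a b hab
    exact e.symm.injective (Subtype.ext hab)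
  have hrange : ψ.range = (T : Subgroup G) := by
    ext x
    constructor
    · rintro ⟨d, rfl⟩
      exact (e.symm d).2
    · intro hx
      exact ⟨e ⟨x, hx⟩, by simp [ψ]⟩
  have hle : ∀ W : Subgroup (DihedralGroup 4), W.map ψ ≤ (T : Subgroup G) := by
    intro W
    rw [← hrange]
    exact Subgroup.map_le_range ψ W
  refine ⟨W1.map ψ, W2.map ψ, ψ (r 2), hle W1, hle W2, isKleinFour_map ψ hψ W1 isKleinFour_W1,
    isKleinFour_map ψ hψ W2 isKleinFour_W2, ?_, ?_, ?_, ?_, ?_, ?_⟩
  · intro heq
    exact W1_ne_W2 (Subgroup.map_injective hψ heq)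
  · intro U hUT hK
    have hU : U ≤ ψ.range := by rw [hrange]; exact hUT
    have h1 : (U.comap ψ).map ψ = U := Subgroup.map_comap_eq_self hU
    rcases eq_W1_or_W2 _ (isKleinFour_comap ψ hψ U hU hK) with h2 | h2
    · left; rw [← h1, h2]
    · right; rw [← h1, h2]
  · exact Subgroup.mem_map_of_mem ψ (by rw [mem_W1]; decide)
  · exact Subgroup.mem_map_of_mem ψ (by rw [mem_W2]; decide)
  · intro h1
    have : ψ (r 2) = ψ 1 := by rw [h1, map_one]
    have := hψ this
    revert this
    decide
  · intro t ht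
    rw [← hrange] at ht
    obtain ⟨d, rfl⟩ := ht
    rw [← map_mul, ← map_mul, r2_central d]

theorem klein_not_conj (T : Sylow 2 G) (U W : Subgroup G) (hU : U ≤ (T : Subgroup G))
    (hW : W ≤ (T : Subgroup G)) (hUK : IsKleinFour ↥U) (hWK : IsKleinFour ↥W) (hne : U ≠ W)
    (g : G) : U.map (MulAut.conj g).toMonoidHom ≠ W := by
  intro hg
  have hT := card_syl2 h T
  have hnorm : ∀ V : Subgroup G, V ≤ (T : Subgroup G) → IsKleinFour ↥V →
      (T : Subgroup G) ≤ normalizer (V : Set G) := by
    intro V hV hVK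
    have hidx : (V.subgroupOf (T : Subgroup G)).index = 2 := by
      have h1 := (V.subgroupOf (T : Subgroup G)).card_mul_index
      have h2 : Nat.card (V.subgroupOf (T : Subgroup G)) = 4 := by
        rw [Nat.card_congr (Subgroup.subgroupOfEquivOfLe hV).toEquiv]
        exact hVK.card_four
      rw [h2, hT] at h1
      omega
    haveI : (V.subgroupOf (T : Subgroup G)).Normal := Subgroup.normal_of_index_eq_two hidx
    exact le_normalizer_of_normal_subgroupOf hV
  obtain ⟨n, hn, hnU⟩ := burnside_fusion T U W (hnorm U hU hUK) (hnorm W hW hWK) g hg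
  rw [normalizer_syl2 h T] at hn
  have hnN : n ∈ normalizer (U : Set G) := hnorm U hU hUK hn
  have := mem_normalizer_iff_map_conj_eq.1 hnN
  apply hne
  rw [← hnU]
  exact this.symm

theorem card_normalizer_klein (U : Subgroup G) (hUK : IsKleinFour ↥U) :
    Nat.card (normalizer (U : Set G)) = 24 := by
  have hUp : IsPGroup 2 U := IsPGroup.of_card (n := 2) (by rw [hUK.card_four]; norm_num)
  obtain ⟨T, hUT⟩ := hUp.exists_le_sylow
  have hT := card_syl2 h T
  obtain ⟨U1, U2, z, hU1, hU2, hK1, hK2, hne, hall, hz1, hz2, hzne, hzc⟩ := klein_structure h T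
  have hzU : z ∈ U := by
    rcases hall U hUT hUK with rfl | rfl
    · exact hz1
    · exact hz2
  have hCz := centralizer_eq_of_central h T z (hUT hzU) hzne hzc
  -- an element of U other than 1, z
  obtain ⟨s, hsU, hs⟩ : ∃ s ∈ (U : Set G), s ∉ ({1, z} : Set G) := by
    apply Set.exists_mem_notMem_of_ncard_lt_ncard
    · have h1 : ({1, z} : Set G).ncard ≤ 2 := by
        have := Set.ncard_insert_le (1 : G) ({z} : Set G)
        rw [Set.ncard_singleton] at this
        exact this
      have h2 : (U : Set G).ncard = 4 := by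
        rw [← Nat.card_coe_set_eq]
        exact hUK.card_four
      omega
    · exact Set.toFinite _
  have hs1 : s ≠ 1 := fun h1 => hs (by rw [h1]; exact Set.mem_insert _ _)
  have hsz : s ≠ z := fun h1 => hs (by rw [h1]; exact Set.mem_insert_of_mem _ rfl)
  have hss : s * s = 1 := by
    haveI := hUK
    exact congrArg Subtype.val (IsKleinFour.mul_self (⟨s, hsU⟩ : ↥U))
  have hzz : z * z = 1 := by
    haveI := hUK
    exact congrArg Subtype.val (IsKleinFour.mul_self (⟨z, hzU⟩ : ↥U))
  have hso : orderOf s = 2 := orderOf_eq_prime (by rw [pow_two]; exact hss) hs1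
  have hzo : orderOf z = 2 := orderOf_eq_prime (by rw [pow_two]; exact hzz) hzne
  obtain ⟨g, hg⟩ := isConj_iff.1 (isConj_order2 h z s hzo hso)
  -- U' = g⁻¹ U g ≤ T
  have hcommU : ∀ u ∈ U, u * s = s * u := by
    intro u hu
    haveI := hUK
    haveI : IsMulCommutative ↥U := IsKleinFour.isMulCommutative
    exact setLike_mul_comm (s := U) hu hsU
  have hU'T : U.map (MulAut.conj g⁻¹).toMonoidHom ≤ (T : Subgroup G) := by
    rintro _ ⟨u, hu, rfl⟩
    rw [← hCz, mem_centralizer_singleton]
    show z * (g⁻¹ * u * g⁻¹⁻¹) = (g⁻¹ * u * g⁻¹⁻¹) * z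
    rw [inv_inv]
    have hz' : z = g⁻¹ * s * g := by rw [← hg]; group
    rw [hz']
    calc g⁻¹ * s * g * (g⁻¹ * u * g) = g⁻¹ * (s * u) * g := by group
      _ = g⁻¹ * (u * s) * g := by rw [hcommU u hu]
      _ = g⁻¹ * u * g * (g⁻¹ * s * g) := by group
  have hU'K : IsKleinFour ↥(U.map (MulAut.conj g⁻¹).toMonoidHom) :=
    isKleinFour_map _ (MulAut.conj g⁻¹).injective U hUK
  have hU'eq : U.map (MulAut.conj g⁻¹).toMonoidHom = U := by
    by_contra hne'
    exact klein_not_conj h T U _ hUT hU'T hUK hU'K (fun h0 => hne' h0.symm) g⁻¹ rfl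
  have hgN : g⁻¹ ∈ normalizer (U : Set G) := mem_normalizer_iff_map_conj_eq.2 hU'eq
  have hgT : g⁻¹ ∉ (T : Subgroup G) := by
    intro hgT
    have hgT' : g ∈ (T : Subgroup G) := by
      have := inv_mem hgT
      rwa [inv_inv] at this
    apply hsz
    rw [← hg, hzc g hgT', mul_inv_cancel_right]
  -- T ≤ N(U)
  have hTN : (T : Subgroup G) ≤ normalizer (U : Set G) := by
    have hidx : (U.subgroupOf (T : Subgroup G)).index = 2 := by
      have h1 := (U.subgroupOf (T : Subgroup G)).card_mul_index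
      have h2 : Nat.card (U.subgroupOf (T : Subgroup G)) = 4 := by
        rw [Nat.card_congr (Subgroup.subgroupOfEquivOfLe hUT).toEquiv]
        exact hUK.card_four
      rw [h2, hT] at h1
      omega
    haveI : (U.subgroupOf (T : Subgroup G)).Normal := Subgroup.normal_of_index_eq_two hidx
    exact le_normalizer_of_normal_subgroupOf hUT
  have h8 : 8 ∣ Nat.card (normalizer (U : Set G)) := by
    have := Subgroup.card_dvd_of_le hTN
    rwa [hT] at this
  have hne8 : Nat.card (normalizer (U : Set G)) ≠ 8 := by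
    intro h8'
    have : (T : Subgroup G) = normalizer (U : Set G) := by
      apply Subgroup.eq_of_le_of_card_ge hTN
      rw [h8', hT]
    apply hgT
    rw [this]
    exact hgN
  -- |N(U)| divides 48
  have hC8 : Nat.card (centralizer (U : Set G)) ∣ 8 := by
    have hle : centralizer (U : Set G) ≤ centralizer ({s} : Set G) :=
      centralizer_le (Set.singleton_subset_iff.2 hsU)
    exact (Subgroup.card_dvd_of_le hle).trans
      (card_centralizer_dvd_eight h s hs1 1 (by rw [hso]; norm_num))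
  have hrel : (centralizer (U : Set G)).relIndex (normalizer (U : Set G)) ∣ 6 := by
    have h1 := relIndex_centralizer_normalizer_dvd_card_mulAut U
    have h2 := card_mulAut_dvd_factorial ↥U
    rw [hUK.card_four] at h2
    exact h1.trans h2
  have hNcard : Nat.card (normalizer (U : Set G)) =
      Nat.card (centralizer (U : Set G)) *
        (centralizer (U : Set G)).relIndex (normalizer (U : Set G)) := by
    have hle : centralizer (U : Set G) ≤ normalizer (U : Set G) := centralizer_le_normalizer _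
    have h1 := ((centralizer (U : Set G)).subgroupOf (normalizer (U : Set G))).card_mul_index
    rw [Nat.card_congr (Subgroup.subgroupOfEquivOfLe hle).toEquiv] at h1
    exact h1.symm
  have h48 : Nat.card (normalizer (U : Set G)) ∣ 48 := by
    rw [hNcard, show 48 = 8 * 6 by norm_num]
    exact Nat.mul_dvd_mul hC8 hrel
  have h168 : Nat.card (normalizer (U : Set G)) ∣ 168 := by
    rw [← h]
    exact Subgroup.card_subgroup_dvd_card _
  have h24 : Nat.card (normalizer (U : Set G)) ∣ 24 := by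
    have := Nat.dvd_gcd h48 h168
    exact this
  have hle24 := Nat.le_of_dvd (by norm_num) h24
  generalize Nat.card (normalizer (U : Set G)) = c at *
  interval_cases c <;> omega

theorem normalizer_klein_equiv (U : Subgroup G) (hUK : IsKleinFour ↥U) :
    Nonempty (↥(normalizer (U : Set G)) ≃* Equiv.Perm (Fin 4)) := by
  apply Cfsg.Agent.S1012.result (card_normalizer_klein h U hUK)
  intro g hg
  have := orderOf_mem h (g : G)
  rw [Subgroup.orderOf_coe, hg] at this
  omega

theorem card_klein_in_syl2 (T : Sylow 2 G) :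
    Nat.card {U : Subgroup G // U ≤ (T : Subgroup G) ∧ IsKleinFour ↥U} = 2 := by
  obtain ⟨U1, U2, z, hU1, hU2, hK1, hK2, hne, hall, -⟩ := klein_structure h T
  rw [Nat.card_eq_two_iff]
  refine ⟨⟨U1, hU1, hK1⟩, ⟨U2, hU2, hK2⟩, ?_, ?_⟩
  · intro heq
    exact hne (congrArg Subtype.val heq)
  · ext ⟨U, hU, hK⟩
    simp only [Set.mem_insert_iff, Set.mem_singleton_iff, Set.mem_univ, iff_true, Subtype.mk.injEq]
    exact hall U hU hK

end

end Cfsg.Agent.Helper4.Ord168
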