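import Mathlib
import Cfsg.Agent.Helper4.Ord168D
import Cfsg.Agent.S0228

set_option autoImplicit false

namespace Cfsg.Agent.Helper4.Ord168

open Subgroup Cfsg.Agent.Helper2.SmallOrder Cfsg.Agent.Helper2.SylowExact

attribute [local instance] fact7

variable {G : Type*} [Group G]

theorem sylow_coe_smul_eq_map {p : ℕ} (g : G) (P : Sylow p G) :
    ((g • P : Sylow p G) : Subgroup G) = (P : Subgroup G).map (MulAut.conj g).toMonoidHom := rfl

theorem map_conj_conj_inv (U : Subgroup G) (c : G) :
    (U.map (MulAut.conj c⁻¹).toMonoidHom).map (MulAut.conj c).toMonoidHom = U := by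
  rw [Subgroup.map_map]
  have : (MulAut.conj c).toMonoidHom.comp (MulAut.conj c⁻¹).toMonoidHom = MonoidHom.id G := by
    ext x
    simp [mul_assoc]
  rw [this, Subgroup.map_id]

theorem card_map_conj [Finite G] (U : Subgroup G) (c : G) :
    Nat.card (U.map (MulAut.conj c).toMonoidHom) = Nat.card U :=
  (Nat.card_congr (U.equivMapOfInjective _ (MulAut.conj c).injective).toEquiv).symm

theorem normalizer_map_conj (U : Subgroup G) (c : G) :
    (normalizer (U : Set G)).map (MulAut.conj c).toMonoidHom =
      normalizer ((U.map (MulAut.conj c).toMonoidHom : Subgroup G) : Set G) :=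
  Subgroup.map_equiv_normalizer_eq U (MulAut.conj c)

theorem not_isCoatom_of_le [Finite G] (M K : Subgroup G) (hMK : M ≤ K) (hK : K ≠ ⊤)
    (hlt : Nat.card M < Nat.card K) : ¬ IsCoatom M := by
  intro hM
  have hne : M ≠ K := by
    intro h0
    rw [h0] at hlt
    exact lt_irrefl _ hlt
  exact hK (hM.2 K (lt_of_le_of_ne hMK hne))

/-- A subgroup with a normal Klein four-subgroup (given inside the subgroup). -/
theorem le_normalizer_map_subtype (M : Subgroup G) (V : Subgroup ↥M) [V.Normal] :
    M ≤ normalizer ((V.map M.subtype : Subgroup G) : Set G) := by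
  have h1 : (V.map M.subtype).subgroupOf M = V :=
    Subgroup.comap_map_eq_self_of_injective M.subtype_injective V
  haveI : ((V.map M.subtype).subgroupOf M).Normal := by rw [h1]; infer_instance
  exact le_normalizer_of_normal_subgroupOf (Subgroup.map_subtype_le V)

theorem exists_klein_normal_of_equiv_S4 (H : Subgroup G) (e : ↥H ≃* Equiv.Perm (Fin 4)) :
    ∃ V : Subgroup G, IsKleinFour ↥V ∧ V ≤ H ∧ H ≤ normalizer (V : Set G) := by
  have h4 : Nat.card (Fin 4) = 4 := by simp
  haveI := alternatingGroup.characteristic_kleinFour (α := Fin 4) h4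
  let V' : Subgroup (Equiv.Perm (Fin 4)) :=
    (alternatingGroup.kleinFour (Fin 4)).map (alternatingGroup (Fin 4)).subtype
  haveI hV'n : V'.Normal := ConjAct.normal_of_characteristic_of_normal
  have hV'K : IsKleinFour ↥V' :=
    isKleinFour_map _ (alternatingGroup (Fin 4)).subtype_injective _
      (alternatingGroup.kleinFour_isKleinFour h4)
  let V'' : Subgroup ↥H := V'.comap e.toMonoidHom
  haveI hV''n : V''.Normal := hV'n.comap _
  have hV''K : IsKleinFour ↥V'' := by
    apply isKleinFour_comap (G := Equiv.Perm (Fin 4)) e.toMonoidHom e.injective V' _ hV'K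
    intro x _
    exact ⟨e.symm x, by simp⟩
  exact ⟨V''.map H.subtype, isKleinFour_map _ H.subtype_injective _ hV''K,
    Subgroup.map_subtype_le _, le_normalizer_map_subtype H V''⟩

section

variable [Finite G] (h : Nat.card G = 168) [IsSimpleGroup G]
include h

theorem card_le_of_ne_top (H : Subgroup G) (hH : H ≠ ⊤) : Nat.card H ≤ 24 := by
  have h1 := card_dvd_factorial_index H hH
  rw [h] at h1
  have h2 := H.card_mul_index
  rw [h] at h2
  have h7 : 7 ≤ H.index := by
    by_contra hlt
    push Not at hlt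
    have h3 : H.index.factorial ∣ Nat.factorial 6 := Nat.factorial_dvd_factorial (by omega)
    have h4 := h1.trans h3
    norm_num [Nat.factorial] at h4
  nlinarith

theorem ne_top_of_card_lt (K : Subgroup G) (hK : Nat.card K < 168) : K ≠ ⊤ := by
  intro h0
  rw [h0, Subgroup.card_top, h] at hK
  exact lt_irrefl _ hK

theorem exists_sylow3_eq (H : Subgroup G) (hH : Nat.card H = 3) :
    ∃ Q : Sylow 3 G, (Q : Subgroup G) = H := by
  have hp : IsPGroup 3 H := IsPGroup.of_card (n := 1) (by rw [hH]; norm_num)
  obtain ⟨Q, hQ⟩ := hp.exists_le_sylow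
  refine ⟨Q, ?_⟩
  symm
  apply Subgroup.eq_of_le_of_card_ge hQ
  rw [card_syl3 h Q, hH]

/-- A subgroup of order 24 contains the normalizer of one of its Sylow 3-subgroups. -/
theorem exists_sylow3_normalizer_le (K : Subgroup G) (hK : Nat.card K = 24) :
    ∃ Q : Sylow 3 G, normalizer ((Q : Subgroup G) : Set G) ≤ K := by
  obtain ⟨R⟩ : Nonempty (Sylow 3 ↥K) := inferInstance
  have hR : Nat.card R = 3 := card_sylow_of_exact (s := 3) (m := 8) (by rw [hK]) (by norm_num) R
  have hidx : (R : Subgroup ↥K).index = 8 := by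
    have := (R : Subgroup ↥K).card_mul_index
    rw [hR, hK] at this
    omega
  have h1 : Nat.card (Sylow 3 ↥K) ∣ 8 := by
    have := R.card_dvd_index
    rwa [hidx] at this
  have h2 := card_sylow_modEq_one 3 ↥K
  have hN := card_normalizer_mul_card_sylow R
  rw [hK] at hN
  have hR' : Nat.card ((R : Subgroup ↥K).map K.subtype) = 3 := by
    exact (Nat.card_congr
      ((R : Subgroup ↥K).equivMapOfInjective _ K.subtype_injective).toEquiv).symm.trans hR
  obtain ⟨Q, hQ⟩ := exists_sylow3_eq h _ hR'
  have hle : (normalizer ((R : Subgroup ↥K) : Set ↥K)).map K.subtype ≤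
      normalizer ((Q : Subgroup G) : Set G) := by
    rw [hQ]
    exact Subgroup.le_normalizer_map K.subtype
  have hcard : Nat.card ((normalizer ((R : Subgroup ↥K) : Set ↥K)).map K.subtype) =
      Nat.card (normalizer ((R : Subgroup ↥K) : Set ↥K)) :=
    (Nat.card_congr ((normalizer ((R : Subgroup ↥K) : Set ↥K)).equivMapOfInjective _
      K.subtype_injective).toEquiv).symm
  have hNQ := card_normalizer_syl3 h Q
  have hle6 : Nat.card (normalizer ((R : Subgroup ↥K) : Set ↥K)) ≤ 6 := by
    rw [← hcard, ← hNQ]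
    exact Nat.card_le_card_of_injective (Subgroup.inclusion hle) (Subgroup.inclusion_injective hle)
  have hn : Nat.card (Sylow 3 ↥K) = 4 := by
    have hle8 := Nat.le_of_dvd (by norm_num) h1
    unfold Nat.ModEq at h2
    generalize Nat.card (Sylow 3 ↥K) = n at *
    generalize Nat.card (normalizer ((R : Subgroup ↥K) : Set ↥K)) = c at *
    interval_cases n <;> first | omega | (exfalso; interval_cases c <;> omega)
  rw [hn] at hN
  have hc6 : Nat.card (normalizer ((R : Subgroup ↥K) : Set ↥K)) = 6 := by omega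
  refine ⟨Q, ?_⟩
  have heq : (normalizer ((R : Subgroup ↥K) : Set ↥K)).map K.subtype =
      normalizer ((Q : Subgroup G) : Set G) := by
    apply Subgroup.eq_of_le_of_card_ge hle
    rw [hcard, hc6, hNQ]
  rw [← heq]
  exact Subgroup.map_subtype_le _

/-- Every Sylow 3-normalizer lies in a subgroup of order 24. -/
theorem exists_overgroup_normalizer_syl3 (Q : Sylow 3 G) :
    ∃ K : Subgroup G, normalizer ((Q : Subgroup G) : Set G) ≤ K ∧ Nat.card K = 24 := by
  obtain ⟨T⟩ : Nonempty (Sylow 2 G) := inferInstance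
  obtain ⟨U1, U2, z, hU1, hU2, hK1, hK2, -⟩ := klein_structure h T
  have hK₀ := card_normalizer_klein h U1 hK1
  obtain ⟨Q', hQ'⟩ := exists_sylow3_normalizer_le h _ hK₀
  obtain ⟨g, hg⟩ := MulAction.exists_smul_eq G Q' Q
  refine ⟨(normalizer (U1 : Set G)).map (MulAut.conj g).toMonoidHom, ?_, ?_⟩
  · rw [← hg, sylow_coe_smul_eq_map, ← normalizer_map_conj]
    exact Subgroup.map_mono hQ'
  · rw [card_map_conj, hK₀]

theorem exists_overgroup_two_group (M : Subgroup G) (hM : IsPGroup 2 M) :
    ∃ K : Subgroup G, M ≤ K ∧ Nat.card K = 24 := by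
  obtain ⟨T, hMT⟩ := hM.exists_le_sylow
  obtain ⟨U1, U2, z, hU1, hU2, hK1, hK2, -⟩ := klein_structure h T
  refine ⟨normalizer (U1 : Set G), hMT.trans ?_, card_normalizer_klein h U1 hK1⟩
  have hT := card_syl2 h T
  have hidx : (U1.subgroupOf (T : Subgroup G)).index = 2 := by
    have h1 := (U1.subgroupOf (T : Subgroup G)).card_mul_index
    have h2 : Nat.card (U1.subgroupOf (T : Subgroup G)) = 4 := by
      rw [Nat.card_congr (Subgroup.subgroupOfEquivOfLe hU1).toEquiv]
      exact hK1.card_four
    rw [h2, hT] at h1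
    omega
  haveI : (U1.subgroupOf (T : Subgroup G)).Normal := Subgroup.normal_of_index_eq_two hidx
  exact le_normalizer_of_normal_subgroupOf hU1

theorem eq_normalizer_of_card_24 (H : Subgroup G) (hH : Nat.card H = 24) :
    Nonempty (↥H ≃* Equiv.Perm (Fin 4)) ∧
      ∃ V : Subgroup G, IsKleinFour ↥V ∧ H = normalizer (V : Set G) := by
  have he : Nonempty (↥H ≃* Equiv.Perm (Fin 4)) := by
    apply Cfsg.Agent.S1012.result hH
    intro g hg
    have := orderOf_mem h (g : G)
    rw [Subgroup.orderOf_coe, hg] at this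
    omega
  refine ⟨he, ?_⟩
  obtain ⟨e⟩ := he
  obtain ⟨V, hVK, hVH, hHN⟩ := exists_klein_normal_of_equiv_S4 H e
  refine ⟨V, hVK, ?_⟩
  apply Subgroup.eq_of_le_of_card_ge hHN
  rw [card_normalizer_klein h V hVK, hH]

theorem exists_overgroup_card_12 (M : Subgroup G) (hM : Nat.card M = 12) :
    ∃ K : Subgroup G, M ≤ K ∧ Nat.card K = 24 := by
  have hz : ∀ z : ↥M, orderOf z = 2 → z ∉ Subgroup.center ↥M := by
    intro z hz hzc
    have hz1 : (z : G) ≠ 1 := by
      intro h1
      have : z = 1 := Subtype.ext h1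
      rw [this, orderOf_one] at hz
      omega
    have hzo : orderOf (z : G) = 2 ^ 1 := by rw [Subgroup.orderOf_coe, hz, pow_one]
    have hd := card_centralizer_dvd_eight h (z : G) hz1 1 hzo
    have hle : M ≤ centralizer ({(z : G)} : Set G) := by
      intro m hm
      rw [mem_centralizer_singleton]
      have := mem_center_iff.1 hzc ⟨m, hm⟩
      exact (congrArg Subtype.val this).symm
    have := (Subgroup.card_dvd_of_le hle).trans hd
    rw [hM] at this
    omega
  obtain ⟨e⟩ := Cfsg.Agent.S0228.result hM hz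
  have h4 : Nat.card (Fin 4) = 4 := by simp
  haveI := alternatingGroup.normal_kleinFour (α := Fin 4) h4
  let V'' : Subgroup ↥M := (alternatingGroup.kleinFour (Fin 4)).comap e.toMonoidHom
  haveI hV''n : V''.Normal := Subgroup.Normal.comap inferInstance _
  have hV''K : IsKleinFour ↥V'' := by
    apply isKleinFour_comap (G := alternatingGroup (Fin 4)) e.toMonoidHom e.injective _ _
      (alternatingGroup.kleinFour_isKleinFour h4)
    intro x _
    exact ⟨e.symm x, by simp⟩
  have hVK : IsKleinFour ↥(V''.map M.subtype) := isKleinFour_map _ M.subtype_injective _ hV''K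
  exact ⟨normalizer ((V''.map M.subtype : Subgroup G) : Set G), le_normalizer_map_subtype M V'',
    card_normalizer_klein h _ hVK⟩

end

end Cfsg.Agent.Helper4.Ord168
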