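import Mathlib
import Cfsg.Agent.Helper4.Ord168E

set_option autoImplicit false

namespace Cfsg.Agent.Helper4.Ord168

open Subgroup Cfsg.Agent.Helper2.SmallOrder Cfsg.Agent.Helper2.SylowExact

attribute [local instance] fact7

variable {G : Type*} [Group G]

section

variable [Finite G] (h : Nat.card G = 168) [IsSimpleGroup G]
include h

theorem normalizer_klein_isCoatom (U : Subgroup G) (hUK : IsKleinFour ↥U) :
    IsCoatom (normalizer (U : Set G)) := by
  have hc := card_normalizer_klein h U hUK
  refine ⟨ne_top_of_card_lt h _ (by rw [hc]; norm_num), ?_⟩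
  intro K hK
  by_contra hne
  have hle := card_le_of_ne_top h K hne
  have : normalizer (U : Set G) = K := by
    apply Subgroup.eq_of_le_of_card_ge hK.le
    rw [hc]
    exact hle
  exact hK.ne this

theorem klein_eq_of_normalizer_eq (U V : Subgroup G) (hUK : IsKleinFour ↥U)
    (hVK : IsKleinFour ↥V) (hN : normalizer (U : Set G) = normalizer (V : Set G)) : U = V := by
  by_contra hne
  have hUp : IsPGroup 2 U := IsPGroup.of_card (n := 2) (by rw [hUK.card_four]; norm_num)
  have hVp : IsPGroup 2 V := IsPGroup.of_card (n := 2) (by rw [hVK.card_four]; norm_num)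
  have hVU : V ≤ normalizer (U : Set G) := by rw [hN]; exact le_normalizer
  have hS : IsPGroup 2 (V ⊔ U : Subgroup G) := IsPGroup.to_sup_of_normal_right' hVp hUp hVU
  obtain ⟨T, hST⟩ := hS.exists_le_sylow
  have hT := card_syl2 h T
  have hUS : U ≤ V ⊔ U := le_sup_right
  have hgt : 4 < Nat.card (V ⊔ U : Subgroup G) := by
    by_contra hle
    push Not at hle
    have hEq : U = V ⊔ U := by
      apply Subgroup.eq_of_le_of_card_ge hUS
      rw [hUK.card_four]
      exact hle
    have hVleU : V ≤ U := by rw [hEq]; exact le_sup_left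
    apply hne
    symm
    apply Subgroup.eq_of_le_of_card_ge hVleU
    rw [hUK.card_four, hVK.card_four]
  have hd8 : Nat.card (V ⊔ U : Subgroup G) ∣ 8 := by
    have := Subgroup.card_dvd_of_le hST
    rwa [hT] at this
  have hc8 : Nat.card (V ⊔ U : Subgroup G) = 8 := by
    have hle8 := Nat.le_of_dvd (by norm_num) hd8
    generalize Nat.card (V ⊔ U : Subgroup G) = c at *
    interval_cases c <;> omega
  have hSeq : (V ⊔ U : Subgroup G) = T := by
    apply Subgroup.eq_of_le_of_card_ge hST
    rw [hT, hc8]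
  have hMN : normalizer (U : Set G) ≤ normalizer ((T : Subgroup G) : Set G) := by
    intro m hm
    have hmV : m ∈ normalizer (V : Set G) := by rw [← hN]; exact hm
    rw [mem_normalizer_iff_map_conj_eq, ← hSeq, Subgroup.map_sup,
      mem_normalizer_iff_map_conj_eq.1 hm, mem_normalizer_iff_map_conj_eq.1 hmV]
  rw [normalizer_syl2 h T] at hMN
  have := Nat.card_le_card_of_injective (Subgroup.inclusion hMN) (Subgroup.inclusion_injective hMN)
  rw [card_normalizer_klein h U hUK, hT] at this
  omega

/-- Every Klein four-subgroup is conjugate to one of the two in a fixed Sylow 2-subgroup. -/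
theorem klein_conj (T : Sylow 2 G) (U1 U2 : Subgroup G)
    (hall : ∀ U : Subgroup G, U ≤ (T : Subgroup G) → IsKleinFour ↥U → U = U1 ∨ U = U2)
    (V : Subgroup G) (hVK : IsKleinFour ↥V) :
    ∃ c : G, V = U1.map (MulAut.conj c).toMonoidHom ∨ V = U2.map (MulAut.conj c).toMonoidHom := by
  have hVp : IsPGroup 2 V := IsPGroup.of_card (n := 2) (by rw [hVK.card_four]; norm_num)
  obtain ⟨T', hVT'⟩ := hVp.exists_le_sylow
  obtain ⟨c, hc⟩ := MulAction.exists_smul_eq G T T'
  have hle : V.map (MulAut.conj c⁻¹).toMonoidHom ≤ (T : Subgroup G) := by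
    rintro _ ⟨v, hv, rfl⟩
    have hv' := hVT' hv
    rw [← hc, sylow_coe_smul_eq_map] at hv'
    obtain ⟨t, ht, htv⟩ := hv'
    have : (MulAut.conj c⁻¹).toMonoidHom v = t := by
      rw [← htv]
      simp [mul_assoc]
    rw [this]
    exact ht
  have hK' : IsKleinFour ↥(V.map (MulAut.conj c⁻¹).toMonoidHom) :=
    isKleinFour_map _ (MulAut.conj c⁻¹).injective V hVK
  refine ⟨c, ?_⟩
  rcases hall _ hle hK' with h1 | h2
  · left
    rw [← h1, map_conj_conj_inv]
  · right
    rw [← h2, map_conj_conj_inv]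

/-! ### Subgroups of order 21 -/

theorem eq_normalizer_of_card_21 (M : Subgroup G) (hM : Nat.card M = 21) :
    ∃ P : Sylow 7 G, M = normalizer ((P : Subgroup G) : Set G) := by
  obtain ⟨x, hx⟩ := exists_prime_orderOf_dvd_card' (G := ↥M) 7 (by rw [hM]; norm_num)
  have hx7 : orderOf (x : G) = 7 := by rw [Subgroup.orderOf_coe]; exact hx
  obtain ⟨P, hP⟩ := exists_sylow7_eq_zpowers h (x : G) hx7
  have hPM : (P : Subgroup G) ≤ M := by rw [hP, zpowers_le]; exact x.2
  have hidx : ((P : Subgroup G).subgroupOf M).index = (Nat.card ↥M).minFac := by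
    have h1 := ((P : Subgroup G).subgroupOf M).card_mul_index
    rw [Nat.card_congr (Subgroup.subgroupOfEquivOfLe hPM).toEquiv, card_syl7 h P, hM] at h1
    rw [hM]
    have : (21 : ℕ).minFac = 3 := by norm_num
    rw [this]
    omega
  haveI : ((P : Subgroup G).subgroupOf M).Normal := Subgroup.normal_of_index_eq_minFac_card hidx
  have hle : M ≤ normalizer ((P : Subgroup G) : Set G) := le_normalizer_of_normal_subgroupOf hPM
  refine ⟨P, ?_⟩
  apply Subgroup.eq_of_le_of_card_ge hle
  rw [card_normalizer_syl7 h P, hM]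

theorem not_comm_of_card_21 (M : Subgroup G) (hM : Nat.card M = 21) :
    ¬ IsMulCommutative ↥M := by
  intro hc
  obtain ⟨x, hx⟩ := exists_prime_orderOf_dvd_card' (G := ↥M) 7 (by rw [hM]; norm_num)
  have hx7 : orderOf (x : G) = 7 := by rw [Subgroup.orderOf_coe]; exact hx
  have hle : M ≤ centralizer ({(x : G)} : Set G) := by
    intro m hm
    rw [mem_centralizer_singleton]
    exact setLike_mul_comm (s := M) x.2 hm
  have := Nat.card_le_card_of_injective (Subgroup.inclusion hle) (Subgroup.inclusion_injective hle)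
  rw [card_centralizer_order7 h (x : G) hx7, hM] at this
  omega

theorem conj_of_card_21 (M M' : Subgroup G) (hM : Nat.card M = 21) (hM' : Nat.card M' = 21) :
    ∃ g : G, M' = M.map (MulAut.conj g).toMonoidHom := by
  obtain ⟨P, hP⟩ := eq_normalizer_of_card_21 h M hM
  obtain ⟨P', hP'⟩ := eq_normalizer_of_card_21 h M' hM'
  obtain ⟨g, hg⟩ := MulAction.exists_smul_eq G P P'
  refine ⟨g, ?_⟩
  rw [hP', hP, ← hg, sylow_coe_smul_eq_map, normalizer_map_conj]

/-! ### Orders of maximal subgroups -/

theorem coatom_card (M : Subgroup G) (hM : IsCoatom M) : Nat.card M = 21 ∨ Nat.card M = 24 := by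
  have hle := card_le_of_ne_top h M hM.1
  have hdvd : Nat.card M ∣ 168 := by rw [← h]; exact Subgroup.card_subgroup_dvd_card M
  have hpos : 0 < Nat.card M := Nat.card_pos
  -- 2-groups
  have h2grp : ∀ k : ℕ, Nat.card M = 2 ^ k → k ≤ 3 → False := by
    intro k hk hk3
    obtain ⟨K, hMK, hK⟩ := exists_overgroup_two_group h M (IsPGroup.of_card hk)
    refine not_isCoatom_of_le M K hMK (ne_top_of_card_lt h K (by rw [hK]; norm_num)) ?_ hM
    rw [hK, hk]
    calc 2 ^ k ≤ 2 ^ 3 := Nat.pow_le_pow_right (by norm_num) hk3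
      _ < 24 := by norm_num
  have h3 : Nat.card M = 3 → False := by
    intro h3
    obtain ⟨Q, hQ⟩ := exists_sylow3_eq h M h3
    refine not_isCoatom_of_le M (normalizer ((Q : Subgroup G) : Set G)) ?_
      (ne_top_of_card_lt h _ (by rw [card_normalizer_syl3 h Q]; norm_num)) ?_ hM
    · rw [← hQ]; exact le_normalizer
    · rw [card_normalizer_syl3 h Q, h3]; norm_num
  have h7 : Nat.card M = 7 → False := by
    intro h7
    have hp : IsPGroup 7 M := IsPGroup.of_card (n := 1) (by rw [h7]; norm_num)
    obtain ⟨P, hP⟩ := hp.exists_le_sylow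
    refine not_isCoatom_of_le M (normalizer ((P : Subgroup G) : Set G)) (hP.trans le_normalizer)
      (ne_top_of_card_lt h _ (by rw [card_normalizer_syl7 h P]; norm_num)) ?_ hM
    rw [card_normalizer_syl7 h P, h7]; norm_num
  have h6 : Nat.card M = 6 → False := by
    intro h6
    obtain ⟨x, hx⟩ := exists_prime_orderOf_dvd_card' (G := ↥M) 3 (by rw [h6]; norm_num)
    have hx3 : orderOf (x : G) = 3 := by rw [Subgroup.orderOf_coe]; exact hx
    obtain ⟨Q, hQ⟩ := exists_sylow3_eq_zpowers h (x : G) hx3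
    have hQM : (Q : Subgroup G) ≤ M := by rw [hQ, zpowers_le]; exact x.2
    have hidx : ((Q : Subgroup G).subgroupOf M).index = 2 := by
      have h1 := ((Q : Subgroup G).subgroupOf M).card_mul_index
      rw [Nat.card_congr (Subgroup.subgroupOfEquivOfLe hQM).toEquiv, card_syl3 h Q, h6] at h1
      omega
    haveI : ((Q : Subgroup G).subgroupOf M).Normal := Subgroup.normal_of_index_eq_two hidx
    have hle6 : M ≤ normalizer ((Q : Subgroup G) : Set G) := le_normalizer_of_normal_subgroupOf hQM
    obtain ⟨K, hNK, hK⟩ := exists_overgroup_normalizer_syl3 h Q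
    refine not_isCoatom_of_le M K (hle6.trans hNK)
      (ne_top_of_card_lt h K (by rw [hK]; norm_num)) ?_ hM
    rw [hK, h6]; norm_num
  have h12 : Nat.card M = 12 → False := by
    intro h12
    obtain ⟨K, hMK, hK⟩ := exists_overgroup_card_12 h M h12
    refine not_isCoatom_of_le M K hMK (ne_top_of_card_lt h K (by rw [hK]; norm_num)) ?_ hM
    rw [hK, h12]; norm_num
  have h14 : Nat.card M = 14 → False := by
    intro h14
    obtain ⟨x, hx⟩ := exists_prime_orderOf_dvd_card' (G := ↥M) 7 (by rw [h14]; norm_num)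
    have hx7 : orderOf (x : G) = 7 := by rw [Subgroup.orderOf_coe]; exact hx
    obtain ⟨P, hP⟩ := exists_sylow7_eq_zpowers h (x : G) hx7
    have hPM : (P : Subgroup G) ≤ M := by rw [hP, zpowers_le]; exact x.2
    have hidx : ((P : Subgroup G).subgroupOf M).index = 2 := by
      have h1 := ((P : Subgroup G).subgroupOf M).card_mul_index
      rw [Nat.card_congr (Subgroup.subgroupOfEquivOfLe hPM).toEquiv, card_syl7 h P, h14] at h1
      omega
    haveI : ((P : Subgroup G).subgroupOf M).Normal := Subgroup.normal_of_index_eq_two hidx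
    have hle14 : M ≤ normalizer ((P : Subgroup G) : Set G) :=
      le_normalizer_of_normal_subgroupOf hPM
    have := Subgroup.card_dvd_of_le hle14
    rw [card_normalizer_syl7 h P, h14] at this
    omega
  generalize Nat.card ↥M = c at *
  interval_cases c
  all_goals first
    | omega
    | (exfalso; exact h2grp 0 rfl (Nat.zero_le _))
    | (exfalso; exact h2grp 1 rfl (Nat.le_succ_of_le (Nat.le_succ _)))
    | (exfalso; exact h2grp 2 rfl (Nat.le_succ _))
    | (exfalso; exact h2grp 3 rfl (Nat.le_refl _))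
    | (exfalso; exact h3 rfl)
    | (exfalso; exact h6 rfl)
    | (exfalso; exact h7 rfl)
    | (exfalso; exact h12 rfl)
    | (exfalso; exact h14 rfl)

theorem coatom_structure (M : Subgroup G) (hM : IsCoatom M) :
    Nonempty (↥M ≃* Equiv.Perm (Fin 4)) ∨ (Nat.card ↥M = 21 ∧ ¬ IsMulCommutative ↥M) := by
  rcases coatom_card h M hM with h21 | h24
  · exact Or.inr ⟨h21, not_comm_of_card_21 h M h21⟩
  · exact Or.inl (eq_normalizer_of_card_24 h M h24).1

theorem exists_two_S4_classes :
    ∃ M₁ M₂ : Subgroup G, IsCoatom M₁ ∧ IsCoatom M₂ ∧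
      Nonempty (↥M₁ ≃* Equiv.Perm (Fin 4)) ∧ Nonempty (↥M₂ ≃* Equiv.Perm (Fin 4)) ∧
      (∀ g : G, M₂ ≠ M₁.map (MulAut.conj g).toMonoidHom) ∧
      ∀ M : Subgroup G, IsCoatom M → Nonempty (↥M ≃* Equiv.Perm (Fin 4)) →
        ∃ g : G, M = M₁.map (MulAut.conj g).toMonoidHom ∨
          M = M₂.map (MulAut.conj g).toMonoidHom := by
  obtain ⟨T⟩ : Nonempty (Sylow 2 G) := inferInstance
  obtain ⟨U1, U2, z, hU1, hU2, hK1, hK2, hne, hall, -⟩ := klein_structure h T
  refine ⟨normalizer (U1 : Set G), normalizer (U2 : Set G), normalizer_klein_isCoatom h U1 hK1,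
    normalizer_klein_isCoatom h U2 hK2, normalizer_klein_equiv h U1 hK1,
    normalizer_klein_equiv h U2 hK2, ?_, ?_⟩
  · intro g hg
    rw [normalizer_map_conj] at hg
    have hK' : IsKleinFour ↥(U1.map (MulAut.conj g).toMonoidHom) :=
      isKleinFour_map _ (MulAut.conj g).injective U1 hK1
    have := klein_eq_of_normalizer_eq h U2 _ hK2 hK' hg
    exact klein_not_conj h T U1 U2 hU1 hU2 hK1 hK2 hne g this.symm
  · intro M hM he
    have h24 : Nat.card M = 24 := by
      obtain ⟨e⟩ := he
      rw [Nat.card_congr e.toEquiv, Nat.card_perm]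
      simp [Nat.factorial]
    obtain ⟨V, hVK, hMV⟩ := (eq_normalizer_of_card_24 h M h24).2
    obtain ⟨c, hc⟩ := klein_conj h T U1 U2 hall V hVK
    refine ⟨c, ?_⟩
    rcases hc with hc | hc
    · left
      rw [hMV, hc, normalizer_map_conj]
    · right
      rw [hMV, hc, normalizer_map_conj]

end

end Cfsg.Agent.Helper4.Ord168
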