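import Mathlib

set_option autoImplicit false

namespace Cfsg.Agent.Helper4.Ord168

/-- The projective line over the field with seven elements. -/
abbrev Pt := Option (ZMod 7)

/-- Translation by one. -/
def fA : Pt → Pt
  | none => none
  | some i => some (1 + i)

/-- Translation by minus one. -/
def fAinv : Pt → Pt
  | none => none
  | some i => some (6 + i)

/-- Multiplication by two. -/
def fB : Pt → Pt
  | none => none
  | some i => some (2 * i)

/-- Multiplication by four. -/
def fBinv : Pt → Pt
  | none => none
  | some i => some (4 * i)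

/-- The map sending `x` to `c / x`. -/
def fT (c : ZMod 7) : Pt → Pt
  | none => some 0
  | some i => if i = 0 then none else some (c * i ^ 5)

theorem fA_left : Function.LeftInverse fAinv fA := by decide
theorem fA_right : Function.RightInverse fAinv fA := by decide
theorem fB_left : Function.LeftInverse fBinv fB := by decide
theorem fB_right : Function.RightInverse fBinv fB := by decide
theorem fT3_inv : Function.LeftInverse (fT 3) (fT 3) := by decide
theorem fT5_inv : Function.LeftInverse (fT 5) (fT 5) := by decide
theorem fT6_inv : Function.LeftInverse (fT 6) (fT 6) := by decide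

def permA : Equiv.Perm Pt := ⟨fA, fAinv, fA_left, fA_right⟩
def permB : Equiv.Perm Pt := ⟨fB, fBinv, fB_left, fB_right⟩
def permT3 : Equiv.Perm Pt := ⟨fT 3, fT 3, fT3_inv, fT3_inv⟩
def permT5 : Equiv.Perm Pt := ⟨fT 5, fT 5, fT5_inv, fT5_inv⟩
def permT6 : Equiv.Perm Pt := ⟨fT 6, fT 6, fT6_inv, fT6_inv⟩

/-- The model copy of the simple group of order 168. -/
def H0 : Subgroup (Equiv.Perm Pt) := Subgroup.closure {permA, permB, permT6}

theorem permT3_eq : permT3 = permB * permT6 * permB⁻¹ := by
  apply Equiv.ext
  show ∀ x, fT 3 x = fB (fT 6 (fBinv x))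
  decide

theorem permT5_eq : permT5 = permB * permT3 * permB⁻¹ := by
  apply Equiv.ext
  show ∀ x, fT 5 x = fB (fT 3 (fBinv x))
  decide

theorem permT6_eq : permT6 = permB * permT5 * permB⁻¹ := by
  apply Equiv.ext
  show ∀ x, fT 6 x = fB (fT 5 (fBinv x))
  decide

theorem permA_mem : permA ∈ H0 := Subgroup.subset_closure (by simp)
theorem permB_mem : permB ∈ H0 := Subgroup.subset_closure (by simp)
theorem permT6_mem : permT6 ∈ H0 := Subgroup.subset_closure (by simp)
theorem permT3_mem : permT3 ∈ H0 := by
  rw [permT3_eq]
  exact H0.mul_mem (H0.mul_mem permB_mem permT6_mem) (H0.inv_mem permB_mem)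
theorem permT5_mem : permT5 ∈ H0 := by
  rw [permT5_eq]
  exact H0.mul_mem (H0.mul_mem permB_mem permT3_mem) (H0.inv_mem permB_mem)

theorem closure_T5 : Subgroup.closure {permA, permB, permT5} = H0 := by
  apply le_antisymm
  · rw [Subgroup.closure_le]
    intro x hx
    rcases hx with rfl | rfl | rfl
    · exact permA_mem
    · exact permB_mem
    · exact permT5_mem
  · unfold H0
    rw [Subgroup.closure_le]
    set K := Subgroup.closure {permA, permB, permT5} with hK
    have hA : permA ∈ K := Subgroup.subset_closure (by simp)
    have hB : permB ∈ K := Subgroup.subset_closure (by simp)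
    have hT : permT5 ∈ K := Subgroup.subset_closure (by simp)
    intro x hx
    rcases hx with rfl | rfl | rfl
    · exact hA
    · exact hB
    · show permT6 ∈ K
      rw [permT6_eq]
      exact K.mul_mem (K.mul_mem hB hT) (K.inv_mem hB)

theorem closure_T3 : Subgroup.closure {permA, permB, permT3} = H0 := by
  apply le_antisymm
  · rw [Subgroup.closure_le]
    intro x hx
    rcases hx with rfl | rfl | rfl
    · exact permA_mem
    · exact permB_mem
    · exact permT3_mem
  · unfold H0
    rw [Subgroup.closure_le]
    set K := Subgroup.closure {permA, permB, permT3} with hK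
    have hA : permA ∈ K := Subgroup.subset_closure (by simp)
    have hB : permB ∈ K := Subgroup.subset_closure (by simp)
    have hT : permT3 ∈ K := Subgroup.subset_closure (by simp)
    have hT5 : permT5 ∈ K := by
      rw [permT5_eq]
      exact K.mul_mem (K.mul_mem hB hT) (K.inv_mem hB)
    intro x hx
    rcases hx with rfl | rfl | rfl
    · exact hA
    · exact hB
    · show permT6 ∈ K
      rw [permT6_eq]
      exact K.mul_mem (K.mul_mem hB hT5) (K.inv_mem hB)

/-- The table of a map determined by its values at `1` and `3` and compatibility with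
multiplication by two. -/
def tbl (c d : Pt) : Pt → Pt
  | none => some 0
  | some i =>
    if i = 0 then none else if i = 1 then c else if i = 2 then fBinv c
    else if i = 4 then fBinv (fBinv c) else if i = 3 then d else if i = 6 then fBinv d
    else fBinv (fBinv d)

theorem tbl_class : ∀ c d : Pt, (∀ x, tbl c d (tbl c d x) = x) → (∀ x, tbl c d x ≠ x) →
    (tbl c d = fT 3 ∨ tbl c d = fT 5 ∨ tbl c d = fT 6) := by
  decide

theorem zmod7_cases (i : ZMod 7) : i = 0 ∨ i = 1 ∨ i = 2 ∨ i = 3 ∨ i = 4 ∨ i = 5 ∨ i = 6 := by
  revert i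
  decide

theorem eq_tbl (T : Equiv.Perm Pt) (h0 : T none = some 0) (hI : ∀ x, T (T x) = x)
    (hB : ∀ x, T (permB x) = permB⁻¹ (T x)) : ⇑T = tbl (T (some 1)) (T (some 3)) := by
  have hB' : ∀ x, T (fB x) = fBinv (T x) := hB
  funext x
  cases x with
  | none => exact h0
  | some i =>
    rcases zmod7_cases i with rfl | rfl | rfl | rfl | rfl | rfl | rfl
    · have := hI none
      rw [h0] at this
      exact this
    · rfl
    · exact hB' (some 1)
    · rfl
    · have h1 := hB' (some 2)
      have h2 := hB' (some 1)
      exact h1.trans (congrArg fBinv h2)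
    · have h1 := hB' (some 6)
      have h2 := hB' (some 3)
      exact h1.trans (congrArg fBinv h2)
    · exact hB' (some 3)

theorem perm_class (T : Equiv.Perm Pt) (h0 : T none = some 0) (hI : ∀ x, T (T x) = x)
    (hB : ∀ x, T (permB x) = permB⁻¹ (T x)) (hfix : ∀ x, T x ≠ x) :
    T = permT3 ∨ T = permT5 ∨ T = permT6 := by
  have hT := eq_tbl T h0 hI hB
  have h1 : ∀ x, tbl (T (some 1)) (T (some 3)) (tbl (T (some 1)) (T (some 3)) x) = x := by
    intro x
    rw [← hT]
    exact hI x
  have h2 : ∀ x, tbl (T (some 1)) (T (some 3)) x ≠ x := by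
    intro x
    rw [← hT]
    exact hfix x
  rcases tbl_class _ _ h1 h2 with h3 | h3 | h3
  · left
    exact Equiv.ext (fun x => by rw [hT, h3]; rfl)
  · right; left
    exact Equiv.ext (fun x => by rw [hT, h3]; rfl)
  · right; right
    exact Equiv.ext (fun x => by rw [hT, h3]; rfl)

theorem closure_of_class (T : Equiv.Perm Pt) (hT : T = permT3 ∨ T = permT5 ∨ T = permT6) :
    Subgroup.closure {permA, permB, T} = H0 := by
  rcases hT with rfl | rfl | rfl
  · exact closure_T3
  · exact closure_T5
  · rfl

theorem permA_ne_one : permA ≠ 1 := by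
  intro h
  have : permA (some 0) = some 0 := by rw [h]; rfl
  revert this
  show fA (some 0) = some 0 → False
  decide

theorem card_Pt : Nat.card Pt = 8 := by
  rw [Nat.card_eq_fintype_card]
  rfl

end Cfsg.Agent.Helper4.Ord168
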