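import Mathlib
import Cfsg.Agent.Helper4.Ord168F
import Cfsg.Agent.Helper4.Ord168Perm

set_option autoImplicit false

namespace Cfsg.Agent.Helper4.Ord168

open Subgroup Cfsg.Agent.Helper2.SmallOrder Cfsg.Agent.Helper2.SylowExact

attribute [local instance] fact7

variable {G : Type*} [Group G]

theorem exists_pow_eq_of_mem_zpowers [Finite G] (a x : G) (hx : x ∈ zpowers a) :
    ∃ k : ℕ, k < orderOf a ∧ a ^ k = x := by
  rw [← mem_powers_iff_mem_zpowers] at hx
  obtain ⟨n, rfl⟩ := (Submonoid.mem_powers_iff _ _).1 hx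
  exact ⟨n % orderOf a, Nat.mod_lt _ (orderOf_pos a), pow_mod_orderOf a n⟩

section

variable [Finite G] (h : Nat.card G = 168) [IsSimpleGroup G]
include h

/-- Generators of Steinberg type in a simple group of order 168. -/
theorem exists_gens : ∃ (P : Sylow 7 G) (a b t : G), orderOf a = 7 ∧
    (P : Subgroup G) = zpowers a ∧ orderOf b = 3 ∧ b * a * b⁻¹ = a ^ 2 ∧ orderOf t = 2 ∧
    t * b * t⁻¹ = b⁻¹ := by
  obtain ⟨a, ha⟩ := exists_prime_orderOf_dvd_card' (G := G) 7 (by rw [h]; norm_num)
  obtain ⟨P, hP⟩ := exists_sylow7_eq_zpowers h a ha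
  have hNP := card_normalizer_syl7 h P
  haveI : Fact (Nat.Prime 3) := ⟨by norm_num⟩
  haveI : Fact (Nat.Prime 2) := ⟨by norm_num⟩
  obtain ⟨b0, hb0⟩ := exists_prime_orderOf_dvd_card'
    (G := normalizer ((P : Subgroup G) : Set G)) 3 (by rw [hNP]; norm_num)
  have hb0' : orderOf (b0 : G) = 3 := by rw [Subgroup.orderOf_coe]; exact hb0
  obtain ⟨c, hcN, hb0'⟩ : ∃ c : G, c ∈ normalizer ((P : Subgroup G) : Set G) ∧ orderOf c = 3 :=
    ⟨b0, b0.2, hb0'⟩
  have key : ∃ b : G, orderOf b = 3 ∧ b * a * b⁻¹ = a ^ 2 := by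
    have hmem : c * a * c⁻¹ ∈ zpowers a := by
      rw [← hP]
      exact (mem_normalizer_iff.1 hcN a).1 (by rw [hP]; exact mem_zpowers a)
    obtain ⟨k, hk, hak⟩ := exists_pow_eq_of_mem_zpowers a _ hmem
    rw [ha] at hk
    have hc : ∀ n : ℕ, c * a ^ n * c⁻¹ = a ^ (k * n) := by
      intro n
      rw [← conj_pow, ← hak, ← pow_mul]
    have hb3 : c ^ 3 = 1 := by rw [← hb0']; exact pow_orderOf_eq_one _
    have e1 : c * (c * (c * a * c⁻¹) * c⁻¹) * c⁻¹
        = a ^ (k * (k * k)) := by
      rw [← hak, hc k, hc (k * k)]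
    have hb3' : c * c * c = 1 := by
      rw [← hb3, pow_succ, pow_two]
    have e2 : c * (c * (c * a * c⁻¹) * c⁻¹) * c⁻¹
        = a := by
      calc c * (c * (c * a * c⁻¹) * c⁻¹) * c⁻¹
          = (c * c * c) * a * (c * c * c)⁻¹ := by simp only [mul_assoc, mul_inv_rev]
        _ = a := by rw [hb3', one_mul, inv_one, mul_one]
    have e3 : a ^ (k * (k * k)) = a ^ 1 := by rw [← e1, e2, pow_one]
    have hmod := pow_eq_pow_iff_modEq.1 e3
    rw [ha] at hmod
    have hk124 : k = 1 ∨ k = 2 ∨ k = 4 := by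
      unfold Nat.ModEq at hmod
      interval_cases k <;> omega
    rcases hk124 with rfl | rfl | rfl
    · exfalso
      rw [pow_one] at hak
      have hcomm : a * c = c * a := by
        have h1 : a * c = c * a * c⁻¹ * c := by rw [← hak]
        rw [h1, inv_mul_cancel_right]
      have hmemC : c ∈ centralizer ({a} : Set G) := mem_centralizer_singleton.2 hcomm
      have hd := Subgroup.orderOf_dvd_natCard _ hmemC
      rw [hb0', card_centralizer_order7 h a ha] at hd
      omega
    · exact ⟨c, hb0', hak.symm⟩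
    · refine ⟨c⁻¹, by rw [orderOf_inv]; exact hb0', ?_⟩
      rw [inv_inv]
      have hinv : c⁻¹ = c * c := inv_eq_of_mul_eq_one_left hb3'
      have hinv2 : c = c⁻¹ * c⁻¹ := by
        rw [← mul_inv_rev, ← hinv, inv_inv]
      calc c⁻¹ * a * c
          = (c * c) * a * (c⁻¹ * c⁻¹) := by rw [← hinv, ← hinv2]
        _ = c * (c * a * c⁻¹) * c⁻¹ := by simp only [mul_assoc]
        _ = c * a ^ 4 * c⁻¹ := by rw [← hak]
        _ = a ^ (4 * 4) := hc 4
        _ = a ^ 2 := by
          have := pow_mod_orderOf a (4 * 4)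
          rw [ha] at this
          rw [← this]
  obtain ⟨b, hb, hba⟩ := key
  obtain ⟨Q, hQ⟩ := exists_sylow3_eq_zpowers h b hb
  have hNQ := card_normalizer_syl3 h Q
  obtain ⟨t0, ht0⟩ := exists_prime_orderOf_dvd_card'
    (G := normalizer ((Q : Subgroup G) : Set G)) 2 (by rw [hNQ]; norm_num)
  have ht0' : orderOf (t0 : G) = 2 := by rw [Subgroup.orderOf_coe]; exact ht0
  obtain ⟨t, htN, ht0'⟩ : ∃ t : G, t ∈ normalizer ((Q : Subgroup G) : Set G) ∧ orderOf t = 2 :=
    ⟨t0, t0.2, ht0'⟩
  refine ⟨P, a, b, t, ha, hP, hb, hba, ht0', ?_⟩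
  have hmem : t * b * t⁻¹ ∈ zpowers b := by
    rw [← hQ]
    exact (mem_normalizer_iff.1 htN b).1 (by rw [hQ]; exact mem_zpowers b)
  obtain ⟨j, hj, hbj⟩ := exists_pow_eq_of_mem_zpowers b _ hmem
  rw [hb] at hj
  have hb3 : b ^ 3 = 1 := by rw [← hb]; exact pow_orderOf_eq_one _
  interval_cases j
  · exfalso
    rw [pow_zero] at hbj
    have hb1 : b = 1 := conj_eq_one_iff.1 hbj.symm
    rw [hb1, orderOf_one] at hb
    omega
  · exfalso
    rw [pow_one] at hbj
    have hcomm : b * t = t * b := by
      have h1 : b * t = t * b * t⁻¹ * t := by rw [← hbj]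
      rw [h1, inv_mul_cancel_right]
    have hmemC : t ∈ centralizer ({b} : Set G) := mem_centralizer_singleton.2 hcomm
    rw [centralizer_singleton_eq_zpowers, ← hQ] at hmemC
    have hd := Subgroup.orderOf_dvd_natCard _ hmemC
    rw [ht0'] at hd
    exact not_two_dvd_card_centralizer_syl3 h Q hd
  · rw [← hbj]
    symm
    apply inv_eq_of_mul_eq_one_left
    rw [← pow_succ]
    exact hb3

/-- The embedding in the symmetric group of the projective line. -/
theorem exists_embedding (P : Sylow 7 G) (a b t : G) (ha : orderOf a = 7)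
    (hP : (P : Subgroup G) = zpowers a) (hb : orderOf b = 3) (hba : b * a * b⁻¹ = a ^ 2)
    (ht : orderOf t = 2) (htb : t * b * t⁻¹ = b⁻¹) :
    ∃ φ : G →* Equiv.Perm Pt, Function.Injective φ ∧ φ.range = H0 := by
  classical
  have htt : t * t = 1 := by rw [← pow_two, ← ht]; exact pow_orderOf_eq_one t
  have haP : a ∈ (P : Subgroup G) := by rw [hP]; exact mem_zpowers a
  have smul_eq_of_le : ∀ (g : G) (P1 P2 : Sylow 7 G),
      ((g • P1 : Sylow 7 G) : Subgroup G) ≤ (P2 : Subgroup G) → g • P1 = P2 := by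
    intro g P1 P2 hle
    apply Sylow.ext
    apply Subgroup.eq_of_le_of_card_ge hle
    rw [card_syl7 h P2, card_syl7 h (g • P1)]
  have hbP : b • P = P := by
    apply smul_eq_of_le
    rw [sylow_coe_smul_eq_map, hP, MonoidHom.map_zpowers, zpowers_le]
    show b * a * b⁻¹ ∈ zpowers a
    rw [hba]
    exact pow_mem (mem_zpowers a) 2
  have hPfix : ∀ x ∈ (P : Subgroup G), x • P = P := by
    intro x hx
    have hxN : x ∈ normalizer ((P : Subgroup G) : Set G) := le_normalizer hx
    exact Sylow.smul_eq_iff_mem_normalizer.2 hxN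
  have hinvol : ∀ P' : Sylow 7 G, t • P' ≠ P' := by
    intro P' hfix
    have hN : t ∈ normalizer ((P' : Subgroup G) : Set G) :=
      Sylow.smul_eq_iff_mem_normalizer.1 hfix
    have hd := Subgroup.orderOf_dvd_natCard _ hN
    rw [ht, card_normalizer_syl7 h P'] at hd
    omega
  have hfixP : ∀ x ∈ (P : Subgroup G), x ≠ 1 → ∀ P' : Sylow 7 G, x • P' = P' → P' = P := by
    intro x hx hx1 P' hfix
    have hxo : orderOf x = 7 := by
      have hd := Subgroup.orderOf_dvd_natCard _ hx
      rw [card_syl7 h P] at hd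
      rcases (Nat.Prime.eq_one_or_self_of_dvd (by norm_num) _ hd) with h1 | h7
      · exact absurd (orderOf_eq_one_iff.1 h1) hx1
      · exact h7
    have hzx : zpowers x = (P : Subgroup G) :=
      Subgroup.eq_of_le_of_card_ge (zpowers_le.2 hx)
        (by rw [card_syl7 h P, Nat.card_zpowers, hxo])
    have hpg : IsPGroup 7 (zpowers x) := by rw [hzx]; exact P.isPGroup'
    have hmem : P' ∈ MulAction.fixedPoints (zpowers x) (Sylow 7 G) := by
      rintro ⟨y, hy⟩
      show y • P' = P'
      have hxN : x ∈ normalizer ((P' : Subgroup G) : Set G) :=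
        Sylow.smul_eq_iff_mem_normalizer.1 hfix
      have hyN : y ∈ normalizer ((P' : Subgroup G) : Set G) := (zpowers_le.2 hxN) hy
      exact Sylow.smul_eq_iff_mem_normalizer.2 hyN
    have hle := hpg.sylow_mem_fixedPoints_iff.1 hmem
    rw [hzx] at hle
    symm
    apply Sylow.ext
    exact Subgroup.eq_of_le_of_card_ge hle (by rw [card_syl7 h P', card_syl7 h P])
  set pw : ZMod 7 → G := fun i => a ^ i.val with hpw
  have pw_add : ∀ i j : ZMod 7, pw (i + j) = pw i * pw j := by
    intro i j
    show a ^ (i + j).val = a ^ i.val * a ^ j.val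
    have := pow_mod_orderOf a (i.val + j.val)
    rw [ha] at this
    rw [ZMod.val_add, this, pow_add]
  have pw_mem : ∀ i, pw i ∈ (P : Subgroup G) := fun i => pow_mem haP _
  have pw_zero : pw 0 = 1 := by
    show a ^ (0 : ZMod 7).val = 1
    rw [ZMod.val_zero, pow_zero]
  have pw_one : pw 1 = a := by
    show a ^ (1 : ZMod 7).val = a
    have : (1 : ZMod 7).val = 1 := rfl
    rw [this, pow_one]
  have pw_ne_one : ∀ i, i ≠ 0 → pw i ≠ 1 := by
    intro i hi h1
    have hd := orderOf_dvd_of_pow_eq_one h1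
    rw [ha] at hd
    have hlt := ZMod.val_lt i
    have h0 : i.val = 0 := by omega
    exact hi ((ZMod.val_eq_zero i).1 h0)
  have pw_conj : ∀ i, b * pw i = pw (2 * i) * b := by
    intro i
    show b * a ^ i.val = a ^ (2 * i).val * b
    have h1 : b * a ^ i.val * b⁻¹ = a ^ (2 * i.val) := by rw [← conj_pow, hba, ← pow_mul]
    have h2 : a ^ (2 * i).val = a ^ (2 * i.val) := by
      have h3 : (2 : ZMod 7).val = 2 := rfl
      have h4 := pow_mod_orderOf a (2 * i.val)
      rw [ha] at h4
      rw [ZMod.val_mul, h3, h4]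
    rw [h2, ← h1, inv_mul_cancel_right]
  set P0 : Sylow 7 G := t • P with hP0
  have htP0 : t • P0 = P := by rw [hP0, ← mul_smul, htt, one_smul]
  have htinv : t⁻¹ = t := inv_eq_of_mul_eq_one_left htt
  have hbt : b * t = t * b⁻¹ := by
    rw [← htb, htinv, ← mul_assoc, ← mul_assoc, htt, one_mul]
  have hbP0 : b • P0 = P0 := by
    rw [hP0, ← mul_smul, hbt, mul_smul]
    congr 1
    rw [inv_smul_eq_iff, hbP]
  have hP0ne : P0 ≠ P := hinvol P
  set e : Pt → Sylow 7 G := fun x => x.elim P (fun i => pw i • P0) with he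
  have e_some_ne : ∀ i, pw i • P0 ≠ P := by
    intro i hi
    apply hP0ne
    have h1 : (pw i)⁻¹ • P = P := hPfix _ (inv_mem (pw_mem i))
    rw [← h1, ← hi, inv_smul_smul]
  have e_inj : Function.Injective e := by
    intro x y hxy
    cases x with
    | none =>
      cases y with
      | none => rfl
      | some j => exact absurd hxy.symm (e_some_ne j)
    | some i =>
      cases y with
      | none => exact absurd hxy (e_some_ne i)
      | some j =>
        by_contra hne
        have hij : i - j ≠ 0 := fun h0 => hne (by rw [sub_eq_zero.1 h0])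
        have h1 : pw i = pw (i - j) * pw j := by rw [← pw_add, sub_add_cancel]
        have hxy' : pw i • P0 = pw j • P0 := hxy
        have h2 : pw (i - j) • (pw j • P0) = pw j • P0 := by rw [← mul_smul, ← h1, hxy']
        exact e_some_ne j (hfixP _ (pw_mem _) (pw_ne_one _ hij) _ h2)
  have e_bij : Function.Bijective e :=
    e_inj.bijective_of_nat_card_le (by rw [card_sylow7 h, card_Pt])
  set E : Pt ≃ Sylow 7 G := Equiv.ofBijective e e_bij with hE
  set φ : G →* Equiv.Perm Pt :=
    (E.symm.permCongrHom.toMonoidHom).comp (MulAction.toPermHom G (Sylow 7 G)) with hφdef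
  have hφ : ∀ g x, E (φ g x) = g • E x := by
    intro g x
    show E (E.symm (g • E x)) = g • E x
    exact E.apply_symm_apply _
  have hφ' : ∀ g x y, g • E x = E y → φ g x = y :=
    fun g x y hxy => E.injective ((hφ g x).trans hxy)
  have E_none : E none = P := rfl
  have E_some : ∀ i, E (some i) = pw i • P0 := fun i => rfl
  have φa : φ a = permA := by
    apply Equiv.ext
    intro x
    apply hφ'
    cases x with
    | none =>
      show a • E none = E none
      rw [E_none]
      exact hPfix a haP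
    | some i =>
      show a • E (some i) = E (some (1 + i))
      rw [E_some, E_some, pw_add, pw_one, mul_smul]
  have φb : φ b = permB := by
    apply Equiv.ext
    intro x
    apply hφ'
    cases x with
    | none =>
      show b • E none = E none
      rw [E_none]
      exact hbP
    | some i =>
      show b • E (some i) = E (some (2 * i))
      rw [E_some, E_some, ← mul_smul, pw_conj, mul_smul, hbP0]
  have hT0 : φ t none = some 0 := by
    apply hφ'
    rw [E_none, E_some, pw_zero, one_smul]
  have hTI : ∀ x, φ t (φ t x) = x := by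
    intro x
    have h1 : φ t * φ t = 1 := by rw [← map_mul, htt, map_one]
    calc φ t (φ t x) = (φ t * φ t) x := rfl
      _ = x := by rw [h1]; rfl
  have hTB : ∀ x, φ t (permB x) = permB⁻¹ (φ t x) := by
    intro x
    have h1 : t * b = b⁻¹ * t := by rw [← htb, inv_mul_cancel_right]
    have h2 : φ t * φ b = (φ b)⁻¹ * φ t := by rw [← map_inv, ← map_mul, ← map_mul, h1]
    rw [← φb]
    exact congrArg (fun p : Equiv.Perm Pt => p x) h2
  have hTfix : ∀ x, φ t x ≠ x := by
    intro x hx
    have h1 := hφ t x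
    rw [hx] at h1
    exact hinvol (E x) h1.symm
  have hclass := perm_class (φ t) hT0 hTI hTB hTfix
  have hcl := closure_of_class (φ t) hclass
  have hgen : closure ({a, b, t} : Set G) = ⊤ := by
    by_contra hne
    have hle := card_le_of_ne_top h _ hne
    have ha' : a ∈ closure ({a, b, t} : Set G) := subset_closure (by simp)
    have hb' : b ∈ closure ({a, b, t} : Set G) := subset_closure (by simp)
    have ht' : t ∈ closure ({a, b, t} : Set G) := subset_closure (by simp)
    have d7 := Subgroup.orderOf_dvd_natCard _ ha'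
    have d3 := Subgroup.orderOf_dvd_natCard _ hb'
    have d2 := Subgroup.orderOf_dvd_natCard _ ht'
    rw [ha] at d7
    rw [hb] at d3
    rw [ht] at d2
    have hpos : 0 < Nat.card (closure ({a, b, t} : Set G)) := Nat.card_pos
    omega
  refine ⟨φ, ?_, ?_⟩
  · rw [← MonoidHom.ker_eq_bot_iff]
    rcases (MonoidHom.normal_ker φ).eq_bot_or_eq_top with hk | hk
    · exact hk
    · exfalso
      have hak : a ∈ φ.ker := by rw [hk]; exact mem_top a
      rw [MonoidHom.mem_ker, φa] at hak
      exact permA_ne_one hak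
  · rw [MonoidHom.range_eq_map, ← hgen, MonoidHom.map_closure, Set.image_insert_eq,
      Set.image_insert_eq, Set.image_singleton, φa, φb]
    exact hcl

/-- A simple group of order 168 is isomorphic to the model group. -/
theorem exists_equiv_H0 : Nonempty (G ≃* H0) := by
  obtain ⟨P, a, b, t, ha, hP, hb, hba, ht, htb⟩ := exists_gens h
  obtain ⟨φ, hinj, hrange⟩ := exists_embedding h P a b t ha hP hb hba ht htb
  exact ⟨(MonoidHom.ofInjective hinj).trans (MulEquiv.subgroupCongr hrange)⟩

end

end Cfsg.Agent.Helper4.Ord168
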