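import Mathlib
import Cfsg.Agent.Helper2.SmallOrder
import Cfsg.Agent.Helper2.SylowExact
import Cfsg.Agent.Helper2.SylowExact2

/-!
# Simple groups of order 360: Sylow 3-subgroups

* `card_sylow_three`: there are exactly ten Sylow 3-subgroups;
* `sylow_three_inf_eq_bot`: distinct Sylow 3-subgroups intersect trivially.
-/

set_option autoImplicit false

namespace Cfsg.Agent.Helper4.Ord360

open Cfsg.Agent.Helper2

variable {G : Type*} [Group G]

theorem card_sylow3 [Finite G] (h : Nat.card G = 360) (P : Sylow 3 G) : Nat.card P = 9 := by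
  have : Fact (Nat.Prime 3) := ⟨Nat.prime_three⟩
  have := SylowExact.card_sylow_of_exact_pow (s := 3) (k := 2) (m := 40)
    (by rw [h]; norm_num) (by norm_num) P
  rw [this]; norm_num

/-- a proper subgroup of a simple group of order 360 has index at least six -/
theorem six_le_index [Finite G] [IsSimpleGroup G] (h : Nat.card G = 360) (H : Subgroup G)
    (hH : H ≠ ⊤) : 6 ≤ H.index := by
  have h1 := SmallOrder.card_dvd_factorial_index H hH
  rw [h] at h1
  by_contra hlt
  push Not at hlt
  have h0 : H.index ≠ 0 := Subgroup.index_ne_zero_of_finite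
  interval_cases hi : H.index
  · exact h0 rfl
  all_goals (revert h1; decide)

theorem card_sylow_three [Finite G] [IsSimpleGroup G] (h : Nat.card G = 360) :
    Nat.card (Sylow 3 G) = 10 := by
  have : Fact (Nat.Prime 3) := ⟨Nat.prime_three⟩
  let P : Sylow 3 G := default
  have hPcard : Nat.card P = 9 := card_sylow3 h P
  have hNS := SmallOrder.card_normalizer_mul_card_sylow P
  rw [h] at hNS
  have hidxP : (P : Subgroup G).index = 40 := by
    have h1 := (P : Subgroup G).card_mul_index
    rw [hPcard, h] at h1; omega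
  have hdvd : Nat.card (Sylow 3 G) ∣ 40 := hidxP ▸ Sylow.card_dvd_index P
  have hmod : Nat.card (Sylow 3 G) ≡ 1 [MOD 3] := card_sylow_modEq_one 3 G
  have hne1 : Nat.card (Sylow 3 G) ≠ 1 :=
    SmallOrder.card_sylow_ne_one P (by rw [hPcard]; norm_num) (by rw [hPcard, h]; norm_num)
  have hidxN : (Subgroup.normalizer ((P : Subgroup G) : Set G)).index = Nat.card (Sylow 3 G) :=
    (Sylow.card_eq_index_normalizer P).symm
  have hNtop : Subgroup.normalizer ((P : Subgroup G) : Set G) ≠ ⊤ := by
    intro htop
    rw [htop, Subgroup.index_top] at hidxN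
    exact hne1 hidxN.symm
  have h6 := six_le_index h _ hNtop
  rw [hidxN] at h6
  have hmem : Nat.card (Sylow 3 G) ∈ Nat.divisors 40 := Nat.mem_divisors.mpr ⟨hdvd, by norm_num⟩
  have hdiv : Nat.divisors 40 = {1, 2, 4, 5, 8, 10, 20, 40} := by decide
  rw [hdiv] at hmem
  simp only [Finset.mem_insert, Finset.mem_singleton] at hmem
  rcases hmem with h1 | h1 | h1 | h1 | h1 | h1 | h1 | h1
  · exact absurd h1 hne1
  · rw [h1] at hmod; exact absurd hmod (by decide)
  · omega
  · omega
  · rw [h1] at hmod; exact absurd hmod (by decide)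
  · exact h1
  · rw [h1] at hmod; exact absurd hmod (by decide)
  · exfalso
    rw [h1] at hNS
    have hN9 : Nat.card (Subgroup.normalizer ((P : Subgroup G) : Set G)) = 9 := by omega
    have hNP : Subgroup.normalizer ((P : Subgroup G) : Set G) = (P : Subgroup G) := by
      symm
      apply Subgroup.eq_of_le_of_card_ge Subgroup.le_normalizer
      rw [hN9, hPcard]
    have hPab : IsMulCommutative (P : Subgroup G) :=
      IsPGroup.isMulCommutative_of_card_eq_prime_sq (p := 3) (by rw [hPcard]; norm_num)
    have hle : Subgroup.normalizer ((P : Subgroup G) : Set G) ≤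
        Subgroup.centralizer ((P : Subgroup G) : Set G) := by
      rw [hNP]
      intro x hx
      rw [Subgroup.mem_centralizer_iff]
      intro y hy
      exact congrArg Subtype.val (hPab.is_comm.comm (⟨y, hy⟩ : (P : Subgroup G)) ⟨x, hx⟩)
    have hcomp := MonoidHom.ker_transferSylow_isComplement' P hle
    rcases (MonoidHom.normal_ker (MonoidHom.transferSylow P hle)).eq_bot_or_eq_top with h0 | h0
    · rw [h0, Subgroup.isComplement'_bot_left] at hcomp
      have : Nat.card (P : Subgroup G) = Nat.card G := by rw [hcomp, Subgroup.card_top]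
      rw [hPcard, h] at this
      omega
    · rw [h0, Subgroup.isComplement'_top_left] at hcomp
      have : Nat.card (P : Subgroup G) = 1 := by rw [hcomp, Subgroup.card_bot]
      rw [hPcard] at this
      omega


/-! ### groups of order 36 with a central element of order 3 -/

theorem order36 {H : Type*} [Group H] [Finite H] (h36 : Nat.card H = 36) (d : H)
    (hd : orderOf d = 3) (hc : ∀ x : H, x * d = d * x) :
    Nat.card (Sylow 3 H) = 1 ∨ ∃ T : Subgroup H, Nat.card T = 4 ∧ T.Normal := by
  have : Fact (Nat.Prime 2) := ⟨Nat.prime_two⟩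
  have : Fact (Nat.Prime 3) := ⟨Nat.prime_three⟩
  let T : Sylow 2 H := default
  have hT : Nat.card T = 4 := by
    have := SylowExact.card_sylow_of_exact_pow (s := 2) (k := 2) (m := 9)
      (by rw [h36]; norm_num) (by norm_num) T
    rw [this]; norm_num
  by_cases hle : Subgroup.normalizer ((T : Subgroup H) : Set H) ≤
      Subgroup.centralizer ((T : Subgroup H) : Set H)
  · left
    have hcomp := MonoidHom.ker_transferSylow_isComplement' T hle
    set K : Subgroup H := (MonoidHom.transferSylow T hle).ker with hK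
    have hKn : K.Normal := MonoidHom.normal_ker _
    have hKidx : K.index = 4 := by rw [hcomp.symm.index_eq_card, hT]
    have hKcard : Nat.card K = 9 := by
      have := K.card_mul_index
      rw [hKidx, h36] at this
      omega
    have hall : ∀ Q : Sylow 3 H, (Q : Subgroup H) = K := by
      intro Q
      have hQ : Nat.card Q = 9 := by
        have := SylowExact.card_sylow_of_exact_pow (s := 3) (k := 2) (m := 4)
          (by rw [h36]; norm_num) (by norm_num) Q
        rw [this]; norm_num
      have hQK : (Q : Subgroup H) ≤ K :=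
        SylowExact.sylow_le_of_normal_of_coprime_index K (by rw [hKidx]; decide) Q
      exact Subgroup.eq_of_le_of_card_ge hQK (by rw [hKcard, hQ])
    rw [Nat.card_eq_one_iff_unique]
    refine ⟨⟨fun Q Q' => ?_⟩, ⟨default⟩⟩
    apply Sylow.ext
    rw [hall Q, hall Q']
  · right
    refine ⟨(T : Subgroup H), hT, ?_⟩
    rw [← Subgroup.normalizer_eq_top_iff]
    set C : Subgroup H := Subgroup.centralizer ((T : Subgroup H) : Set H) with hC
    set N : Subgroup H := Subgroup.normalizer ((T : Subgroup H) : Set H) with hN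
    have hCN : C ≤ N := Subgroup.centralizer_le_normalizer _
    have hTab : IsMulCommutative (T : Subgroup H) :=
      IsPGroup.isMulCommutative_of_card_eq_prime_sq (p := 2) (by rw [hT]; norm_num)
    have hTC : (T : Subgroup H) ≤ C := by
      intro x hx
      rw [hC, Subgroup.mem_centralizer_iff]
      intro y hy
      exact congrArg Subtype.val (hTab.is_comm.comm (⟨y, hy⟩ : (T : Subgroup H)) ⟨x, hx⟩)
    have hdC : d ∈ C := by
      rw [hC, Subgroup.mem_centralizer_iff]
      intro y _
      exact hc y
    have h4 : 4 ∣ Nat.card C := hT ▸ Subgroup.card_dvd_of_le hTC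
    have h3 : 3 ∣ Nat.card C := hd ▸ Subgroup.orderOf_dvd_natCard C hdC
    have h12 : 12 ∣ Nat.card C := by omega
    have hcn : Nat.card C ∣ Nat.card N := Subgroup.card_dvd_of_le hCN
    have hn36 : Nat.card N ∣ 36 := h36 ▸ Subgroup.card_subgroup_dvd_card N
    have hlt : Nat.card C < Nat.card N := by
      by_contra hge
      push Not at hge
      apply hle
      exact (Subgroup.eq_of_le_of_card_ge hCN hge).ge
    have hmem : Nat.card N ∈ Nat.divisors 36 := Nat.mem_divisors.mpr ⟨hn36, by norm_num⟩
    have hdiv : Nat.divisors 36 = {1, 2, 3, 4, 6, 9, 12, 18, 36} := by decide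
    rw [hdiv] at hmem
    simp only [Finset.mem_insert, Finset.mem_singleton] at hmem
    have hCpos : 0 < Nat.card C := Nat.card_pos
    have h12n : 12 ∣ Nat.card N := h12.trans hcn
    have h36N : Nat.card N = 36 := by
      rcases hmem with h1 | h1 | h1 | h1 | h1 | h1 | h1 | h1 | h1
      all_goals first | exact h1 | (exfalso; omega)
    rw [← Subgroup.card_eq_iff_eq_top, h36N, h36]

/-! ### distinct Sylow 3-subgroups intersect trivially -/

theorem sylow_three_inf_eq_bot [Finite G] [IsSimpleGroup G] (h : Nat.card G = 360)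
    (P P' : Sylow 3 G) (hne : P ≠ P') : (P : Subgroup G) ⊓ (P' : Subgroup G) = ⊥ := by
  have : Fact (Nat.Prime 2) := ⟨Nat.prime_two⟩
  have : Fact (Nat.Prime 3) := ⟨Nat.prime_three⟩
  by_contra hD
  obtain ⟨⟨d, hdD⟩, hd1⟩ := (Subgroup.ne_bot_iff_exists_ne_one).1 hD
  have hd1' : d ≠ 1 := fun h => hd1 (Subtype.ext h)
  have hdP : d ∈ (P : Subgroup G) := hdD.1
  have hdP' : d ∈ (P' : Subgroup G) := hdD.2
  have hP9 := card_sylow3 h P
  have hP'9 := card_sylow3 h P'
  -- the order of `d` is three
  have hord : orderOf d = 3 := by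
    have h1 : orderOf d ∣ 9 := hP9 ▸ Subgroup.orderOf_dvd_natCard _ hdP
    have hmem : orderOf d ∈ Nat.divisors 9 := Nat.mem_divisors.mpr ⟨h1, by norm_num⟩
    have hdiv : Nat.divisors 9 = {1, 3, 9} := by decide
    rw [hdiv] at hmem
    simp only [Finset.mem_insert, Finset.mem_singleton] at hmem
    rcases hmem with h1 | h1 | h1
    · exact absurd (orderOf_eq_one_iff.1 h1) hd1'
    · exact h1
    · exfalso
      have hz : Nat.card (Subgroup.zpowers d) = 9 := by rw [Nat.card_zpowers, h1]
      have e1 : Subgroup.zpowers d = (P : Subgroup G) :=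
        Subgroup.eq_of_le_of_card_ge ((Subgroup.zpowers_le).2 hdP) (by rw [hz, hP9])
      have e2 : Subgroup.zpowers d = (P' : Subgroup G) :=
        Subgroup.eq_of_le_of_card_ge ((Subgroup.zpowers_le).2 hdP') (by rw [hz, hP'9])
      exact hne (Sylow.ext (e1.symm.trans e2))
  set H : Subgroup G := Subgroup.centralizer ({d} : Set G) with hH
  have hPab : IsMulCommutative (P : Subgroup G) :=
    IsPGroup.isMulCommutative_of_card_eq_prime_sq (p := 3) (by rw [hP9]; norm_num)
  have hP'ab : IsMulCommutative (P' : Subgroup G) :=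
    IsPGroup.isMulCommutative_of_card_eq_prime_sq (p := 3) (by rw [hP'9]; norm_num)
  have hPH : (P : Subgroup G) ≤ H := by
    intro x hx
    rw [hH, Subgroup.mem_centralizer_singleton_iff]
    exact congrArg Subtype.val (hPab.is_comm.comm (⟨x, hx⟩ : (P : Subgroup G)) ⟨d, hdP⟩)
  have hP'H : (P' : Subgroup G) ≤ H := by
    intro x hx
    rw [hH, Subgroup.mem_centralizer_singleton_iff]
    exact congrArg Subtype.val (hP'ab.is_comm.comm (⟨x, hx⟩ : (P' : Subgroup G)) ⟨d, hdP'⟩)
  have hHtop : H ≠ ⊤ := by
    intro htop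
    have hdc : ∀ g : G, g * d = d * g := fun g => by
      have : g ∈ H := htop ▸ Subgroup.mem_top g
      rwa [hH, Subgroup.mem_centralizer_singleton_iff] at this
    have hn : (Subgroup.zpowers d).Normal := by
      constructor
      intro n hn g
      obtain ⟨k, rfl⟩ := Subgroup.mem_zpowers_iff.1 hn
      have hcomm : Commute g d := hdc g
      have h2 : g * d ^ k * g⁻¹ = d ^ k := by
        rw [(hcomm.zpow_right k).eq]; group
      rw [h2]; exact hn
    have hz : Nat.card (Subgroup.zpowers d) = 3 := by rw [Nat.card_zpowers, hord]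
    rcases hn.eq_bot_or_eq_top with h0 | h0
    · rw [h0, Subgroup.card_bot] at hz; omega
    · rw [h0, Subgroup.card_top, h] at hz; omega
  have h6 := six_le_index h H hHtop
  have hmul := H.card_mul_index
  rw [h] at hmul
  have h9H : 9 ∣ Nat.card H := hP9 ▸ Subgroup.card_dvd_of_le hPH
  -- the Sylow 3-subgroups of `H`
  set Q : Sylow 3 H := P.subtype hPH with hQ
  set Q' : Sylow 3 H := P'.subtype hP'H with hQ'
  have hQne : Q ≠ Q' := fun hq => hne (Sylow.subtype_injective hq)
  have hQ9 : Nat.card Q = 9 := by
    rw [hQ, Sylow.coe_subtype, Nat.card_congr (Subgroup.subgroupOfEquivOfLe hPH).toEquiv, hP9]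
  have hn1 : Nat.card (Sylow 3 H) ≠ 1 := by
    intro h1
    have := (Nat.card_eq_one_iff_unique.1 h1).1
    exact hQne (Subsingleton.elim _ _)
  have hmod : Nat.card (Sylow 3 H) ≡ 1 [MOD 3] := card_sylow_modEq_one 3 H
  have hdvd : Nat.card (Sylow 3 H) ∣ (Q : Subgroup H).index := Sylow.card_dvd_index Q
  have hQmul := (Q : Subgroup H).card_mul_index
  rw [hQ9] at hQmul
  have hH36 : Nat.card H = 36 := by
    obtain ⟨k, hk⟩ := h9H
    rw [hk] at hmul hQmul
    have hkidx : k * H.index = 40 := by
      have : 9 * (k * H.index) = 9 * 40 := by rw [← mul_assoc, hmul]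
      omega
    have hk6 : k ≤ 6 := by nlinarith
    have hQidx : (Q : Subgroup H).index = k := by omega
    rw [hQidx] at hdvd
    have hk0 : 0 < k := by
      rcases Nat.eq_zero_or_pos k with h0 | h0
      · rw [h0] at hkidx; omega
      · exact h0
    have hnle : Nat.card (Sylow 3 H) ≤ k := Nat.le_of_dvd hk0 hdvd
    have hmod' : Nat.card (Sylow 3 H) % 3 = 1 := hmod
    have hnpos : 0 < Nat.card (Sylow 3 H) := Nat.card_pos
    have hidx0 : H.index ∣ 40 := Dvd.intro_left _ hkidx
    have hk40 : k ∣ 40 := Dvd.intro _ hkidx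
    interval_cases k
    · omega
    · omega
    · exfalso; revert hk40; decide
    · omega
    · exfalso
      interval_cases hn : Nat.card (Sylow 3 H) <;> omega
    · exfalso; revert hk40; decide
  have hdH : d ∈ H := by rw [hH, Subgroup.mem_centralizer_singleton_iff]
  rcases order36 (H := H) hH36 ⟨d, hdH⟩ (by rw [← Subgroup.orderOf_coe]; exact hord)
    (fun x => Subtype.ext (by
      have h2 : (x : G) ∈ Subgroup.centralizer ({d} : Set G) := x.2
      rw [Subgroup.mem_centralizer_singleton_iff] at h2
      exact h2)) with h1 | ⟨T, hT4, hTn⟩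
  · exact hn1 h1
  · set T' : Subgroup G := T.map H.subtype with hT'
    have hT'4 : Nat.card T' = 4 := by
      rw [hT', Subgroup.card_map_of_injective H.subtype_injective, hT4]
    have hHN : H ≤ Subgroup.normalizer (T' : Set G) := by
      have h1 := Subgroup.le_normalizer_map (H := T) H.subtype
      rw [Subgroup.normalizer_eq_top_iff.2 hTn, ← MonoidHom.range_eq_map,
        Subgroup.range_subtype] at h1
      exact h1
    have hT'p : IsPGroup 2 T' := IsPGroup.of_card (n := 2) (by rw [hT'4]; norm_num)
    obtain ⟨S, hS⟩ := hT'p.exists_le_sylow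
    have hS8 : Nat.card S = 8 := by
      have := SylowExact.card_sylow_of_exact_pow (s := 2) (k := 3) (m := 45)
        (by rw [h]; norm_num) (by norm_num) S
      rw [this]; norm_num
    have hidx2 : (T'.subgroupOf S).index = 2 := by
      have h1 := (T'.subgroupOf (S : Subgroup G)).card_mul_index
      rw [Nat.card_congr (Subgroup.subgroupOfEquivOfLe hS).toEquiv, hT'4, hS8] at h1
      omega
    have hSN : (S : Subgroup G) ≤ Subgroup.normalizer (T' : Set G) :=
      (Subgroup.normal_subgroupOf_iff_le_normalizer hS).1 (Subgroup.normal_of_index_eq_two hidx2)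
    set N : Subgroup G := Subgroup.normalizer (T' : Set G) with hN
    have h36N : 36 ∣ Nat.card N := hH36 ▸ Subgroup.card_dvd_of_le hHN
    have h8N : 8 ∣ Nat.card N := hS8 ▸ Subgroup.card_dvd_of_le hSN
    have hNmul := N.card_mul_index
    rw [h] at hNmul
    by_cases hNtop : N = ⊤
    · have hn : T'.Normal := Subgroup.normalizer_eq_top_iff.1 hNtop
      rcases hn.eq_bot_or_eq_top with h0 | h0
      · rw [h0, Subgroup.card_bot] at hT'4; omega
      · rw [h0, Subgroup.card_top, h] at hT'4; omega
    · have h6N := six_le_index h N hNtop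
      obtain ⟨a, ha⟩ : 72 ∣ Nat.card N := by omega
      have hapos : 0 < a := by
        have : 0 < Nat.card N := Nat.card_pos
        omega
      rw [ha] at hNmul
      nlinarith

end Cfsg.Agent.Helper4.Ord360
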