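import Mathlib
import Cfsg.Prelude.Def_Characters
import Cfsg.Agent.Helper4.Bf2_Norm

/-!
# Order 4032: a simple group cannot have 288 Sylow 7-subgroups

If `n_7 = 288` then `|N_G(P)| = 14`; by Burnside's transfer theorem an involution of `N_G(P)`
inverts `P`, and the order formula `bf2` gives `4032 (d - e)² = 7 c² d (d + 1)`, i.e.
`(24 (d - e))² = c² d (d + 1)`, which is impossible since `d (d + 1)` is not a square.
-/

set_option autoImplicit false
set_option linter.style.haveILetI false

namespace Cfsg.Agent.Helper4.Ord4032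

open Subgroup

/-- `d (d + 1)` is not a perfect square -/
theorem h4_no_sol (c : ℤ) (hc : c ≠ 0) (d : ℕ) (e : ℤ) (hd : 0 < d)
    (h : (4032 : ℤ) * ((d : ℤ) - e) ^ 2 = 7 * c ^ 2 * d * (d + 1)) : False := by
  have h1 : (24 * ((d : ℤ) - e)) ^ 2 = c ^ 2 * ((d : ℤ) * (d + 1)) := by linarith
  have hdvd : c ^ 2 ∣ (24 * ((d : ℤ) - e)) ^ 2 := ⟨_, h1⟩
  rw [Int.pow_dvd_pow_iff (by norm_num : (2 : ℕ) ≠ 0)] at hdvd
  obtain ⟨q, hq⟩ := hdvd
  rw [hq, mul_pow] at h1
  have hc2 : c ^ 2 ≠ 0 := pow_ne_zero 2 hc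
  have h2 : q ^ 2 = (d : ℤ) * (d + 1) := mul_left_cancel₀ hc2 h1
  have hd' : (1 : ℤ) ≤ d := by exact_mod_cast hd
  have h3 : |q| ^ 2 = (d : ℤ) * (d + 1) := by rw [sq_abs, h2]
  have h0 : 0 ≤ |q| := abs_nonneg q
  rcases le_or_gt |q| (d : ℤ) with h4 | h4
  · nlinarith
  · have h5 : (d : ℤ) + 1 ≤ |q| := h4
    nlinarith

theorem h4_fact4032 : (4032 : ℕ).factorization 7 = 1 := by
  have : (4032 : ℕ) = 7 ^ 1 * 576 := by norm_num
  rw [this, Nat.factorization_mul (by norm_num) (by norm_num), Nat.factorization_pow]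
  simp [Nat.Prime.factorization_self (by norm_num : Nat.Prime 7),
    Nat.factorization_eq_zero_of_not_dvd (by norm_num : ¬ 7 ∣ 576)]

variable {G : Type*} [Group G] [Finite G]

theorem n7_ne_288 [IsSimpleGroup G] (h : Nat.card G = 4032) : Nat.card (Sylow 7 G) ≠ 288 := by
  intro h288
  haveI : Fact (Nat.Prime 7) := ⟨by norm_num⟩
  obtain ⟨P⟩ := (Sylow.nonempty : Nonempty (Sylow 7 G))
  have hP7 : Nat.card (P : Subgroup G) = 7 := by
    rw [Sylow.card_eq_multiplicity, h, h4_fact4032, pow_one]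
  have hNidx : (normalizer ((P : Subgroup G) : Set G)).index = 288 := by
    have := Sylow.card_eq_index_normalizer P
    rw [h288] at this
    exact this.symm
  have hN14 : Nat.card (normalizer ((P : Subgroup G) : Set G)) = 14 := by
    have := Subgroup.card_mul_index (normalizer ((P : Subgroup G) : Set G))
    rw [hNidx, h] at this
    omega
  haveI : Fact (Nat.Prime 2) := ⟨by norm_num⟩
  obtain ⟨t', ht'⟩ := exists_prime_orderOf_dvd_card'
    (G := normalizer ((P : Subgroup G) : Set G)) 2 (by rw [hN14]; norm_num)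
  obtain ⟨t, htdef⟩ : ∃ t : G, t = (t' : G) := ⟨_, rfl⟩
  have hto : orderOf t = 2 := by
    rw [htdef, Subgroup.orderOf_coe]
    exact ht'
  have htt : t * t = 1 := by
    have := pow_orderOf_eq_one t
    rwa [hto, pow_two] at this
  have htN : t ∈ normalizer ((P : Subgroup G) : Set G) := by
    rw [htdef]
    exact t'.2
  have hconj : ∀ y ∈ (P : Subgroup G), t * y * t⁻¹ ∈ (P : Subgroup G) := fun y hy =>
    (Subgroup.mem_normalizer_iff.mp htN y).mp hy
  have hcomm : ∀ a ∈ (P : Subgroup G), ∀ b ∈ (P : Subgroup G), a * b = b * a := by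
    intro a ha b hb
    have := Bf2.h4_comm_of_prime_card (by norm_num : Nat.Prime 7) hP7
      (⟨a, ha⟩ : (P : Subgroup G)) ⟨b, hb⟩
    exact congrArg Subtype.val this
  have htP : t ∉ (P : Subgroup G) := by
    intro hcon
    have h1 : orderOf t ∣ 7 := by
      have h2 := orderOf_dvd_natCard (⟨t, hcon⟩ : (P : Subgroup G))
      rw [hP7] at h2
      have h3 : orderOf (⟨t, hcon⟩ : (P : Subgroup G)) = orderOf t :=
        (Subgroup.orderOf_coe (⟨t, hcon⟩ : (P : Subgroup G))).symm
      rwa [h3] at h2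
    rw [hto] at h1
    omega
  by_cases hB : ∀ y ∈ (P : Subgroup G), t * y * t⁻¹ = y⁻¹
  · obtain ⟨d, e, hd, hf⟩ := Bf2.bf2 (P : Subgroup G) 7 (by norm_num) (by norm_num) hP7 t htt hB
      (by rw [hN14])
    rw [h] at hf
    have hc0 : (Nat.card (Subgroup.centralizer ({t} : Set G)) : ℤ) ≠ 0 := by
      have : 0 < Nat.card (Subgroup.centralizer ({t} : Set G)) := Nat.card_pos
      exact_mod_cast this.ne'
    exact h4_no_sol _ hc0 d e hd (by exact_mod_cast hf)
  · push Not at hB
    obtain ⟨y, hy, hyne⟩ := hB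
    have hz : y * (t * y * t⁻¹) ∈ (P : Subgroup G) := mul_mem hy (hconj y hy)
    have hz1 : y * (t * y * t⁻¹) ≠ 1 := fun hcon => hyne (eq_inv_of_mul_eq_one_right hcon)
    have htinv : t⁻¹ = t := inv_eq_of_mul_eq_one_left htt
    have htz : t * (y * (t * y * t⁻¹)) * t⁻¹ = y * (t * y * t⁻¹) := by
      have e1 : t * (y * (t * y * t⁻¹)) * t⁻¹ = (t * y * t⁻¹) * y := by
        rw [htinv]
        calc t * (y * (t * y * t)) * t = (t * y * t) * (y * (t * t)) := by group
          _ = (t * y * t) * y := by rw [htt, mul_one]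
      rw [e1]
      exact hcomm _ (hconj y hy) _ hy
    have htc : ∀ r ∈ (P : Subgroup G), t * r * t⁻¹ = r := by
      intro r hr
      have hg : (⟨y * (t * y * t⁻¹), hz⟩ : (P : Subgroup G)) ≠ 1 :=
        fun hcon => hz1 (congrArg Subtype.val hcon)
      have hmem : (⟨r, hr⟩ : (P : Subgroup G)) ∈
          Subgroup.zpowers (⟨y * (t * y * t⁻¹), hz⟩ : (P : Subgroup G)) :=
        mem_zpowers_of_prime_card hP7 hg
      obtain ⟨k, hk⟩ := Subgroup.mem_zpowers_iff.mp hmem
      have hk' : (y * (t * y * t⁻¹)) ^ k = r := by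
        have := congrArg Subtype.val hk
        simpa using this
      rw [← hk', ← conj_zpow, htz]
    have hle : normalizer ((P : Subgroup G) : Set G) ≤ centralizer ((P : Subgroup G) : Set G) := by
      intro n hn
      rw [Subgroup.mem_centralizer_iff]
      intro b hb
      rcases Bf2.h4_mem_or_mul_mem (P : Subgroup G) _ Subgroup.le_normalizer
        (by rw [hN14, hP7]) htN htP hn with h1 | h1
      · exact hcomm b hb n h1
      · have e1 : t * b = b * t := mul_inv_eq_iff_eq_mul.mp (htc b hb)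
        have e2 : b * (t * n) = (t * n) * b := hcomm b hb _ h1
        calc b * n = t⁻¹ * (t * b) * n := by group
          _ = t⁻¹ * (b * t) * n := by rw [e1]
          _ = t⁻¹ * (b * (t * n)) := by group
          _ = t⁻¹ * ((t * n) * b) := by rw [e2]
          _ = n * b := by group
    have hcompl := MonoidHom.ker_transferSylow_isComplement' P hle
    have hcard := hcompl.card_mul_card
    rw [h, hP7] at hcard
    rcases (MonoidHom.normal_ker (MonoidHom.transferSylow P hle)).eq_bot_or_eq_top with hk | hk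
    · rw [hk, Subgroup.card_bot] at hcard
      omega
    · rw [hk, Subgroup.card_top, h] at hcard
      omega

end Cfsg.Agent.Helper4.Ord4032
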