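import Mathlib

set_option autoImplicit false

namespace Cfsg.Agent.Helper4

theorem orderOf_conj {G : Type*} [Group G] (g x : G) : orderOf (g * x * g⁻¹) = orderOf x :=
  orderOf_injective (MulAut.conj g).toMonoidHom (MulAut.conj g).injective x

theorem orderOf_conj' {G : Type*} [Group G] (g x : G) : orderOf (g⁻¹ * x * g) = orderOf x := by
  have := orderOf_conj g⁻¹ x
  simpa using this

theorem isConj_orderOf_eq {G : Type*} [Group G] {x y : G} (h : IsConj x y) : orderOf x = orderOf y := by
  obtain ⟨c, hc⟩ := isConj_iff.mp h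
  rw [← hc, orderOf_conj]

end Cfsg.Agent.Helper4
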