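import Mathlib
import Cfsg.Agent.Helper4.HallEnumA

set_option autoImplicit false

/-!
Elements of order `a * b` with `a`, `b` coprime, as commuting pairs; counting elements of a given
order through cyclic subgroups.
-/

namespace Cfsg.Agent.Helper4.OrderCount

section Parts

variable {G : Type*} [Group G] (a b : ℕ)

/-- the `a`-part of an element of order `a * b` (with `a`, `b` coprime) -/
def partL (g : G) : G := g ^ ((b : ℤ) * Nat.gcdB a b)

/-- the `b`-part -/
def partR (g : G) : G := g ^ ((a : ℤ) * Nat.gcdA a b)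

variable {a b}

theorem bezout (hab : Nat.Coprime a b) : (a : ℤ) * Nat.gcdA a b + (b : ℤ) * Nat.gcdB a b = 1 := by
  rw [← Nat.gcd_eq_gcd_ab, hab]; rfl

theorem partL_mul_partR (hab : Nat.Coprime a b) (g : G) : partL a b g * partR a b g = g := by
  unfold partL partR
  rw [← zpow_add, add_comm, bezout hab, zpow_one]

theorem commute_parts (g : G) : Commute (partL a b g) (partR a b g) := by
  unfold partL partR
  exact (Commute.refl g).zpow_zpow _ _

theorem partL_pow (g : G) (hg : g ^ (a * b) = 1) : partL a b g ^ a = 1 := by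
  unfold partL
  rw [← zpow_natCast, ← zpow_mul, mul_comm, ← mul_assoc, zpow_mul, ← Nat.cast_mul, zpow_natCast, hg,
    one_zpow]

theorem partR_pow (g : G) (hg : g ^ (a * b) = 1) : partR a b g ^ b = 1 := by
  unfold partR
  rw [← zpow_natCast, ← zpow_mul, mul_comm, ← mul_assoc, zpow_mul, ← Nat.cast_mul, zpow_natCast,
    mul_comm b a, hg, one_zpow]

theorem orderOf_parts (hab : Nat.Coprime a b) (ha : 0 < a) (hb : 0 < b) (g : G)
    (hg : orderOf g = a * b) :
    orderOf (partL a b g) = a ∧ orderOf (partR a b g) = b := by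
  have hg1 : g ^ (a * b) = 1 := by rw [← hg]; exact pow_orderOf_eq_one g
  have h1 : orderOf (partL a b g) ∣ a := orderOf_dvd_of_pow_eq_one (partL_pow g hg1)
  have h2 : orderOf (partR a b g) ∣ b := orderOf_dvd_of_pow_eq_one (partR_pow g hg1)
  have hcop : (orderOf (partL a b g)).Coprime (orderOf (partR a b g)) :=
    Nat.Coprime.coprime_dvd_left h1 (Nat.Coprime.coprime_dvd_right h2 hab)
  have h3 := (commute_parts (a := a) (b := b) g).orderOf_mul_eq_mul_orderOf_of_coprime hcop
  rw [partL_mul_partR hab, hg] at h3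
  have h4 := Nat.le_of_dvd ha h1
  have h5 := Nat.le_of_dvd hb h2
  have hpos1 : 0 < orderOf (partL a b g) := Nat.pos_of_dvd_of_pos h1 ha
  have hpos2 : 0 < orderOf (partR a b g) := Nat.pos_of_dvd_of_pos h2 hb
  constructor
  · by_contra hne
    have hlt : orderOf (partL a b g) < a := lt_of_le_of_ne h4 hne
    have : orderOf (partL a b g) * orderOf (partR a b g) < a * b :=
      calc orderOf (partL a b g) * orderOf (partR a b g)
          < a * orderOf (partR a b g) := Nat.mul_lt_mul_of_pos_right hlt hpos2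
        _ ≤ a * b := Nat.mul_le_mul_left _ h5
    omega
  · by_contra hne
    have hlt : orderOf (partR a b g) < b := lt_of_le_of_ne h5 hne
    have : orderOf (partL a b g) * orderOf (partR a b g) < a * b :=
      calc orderOf (partL a b g) * orderOf (partR a b g)
          < orderOf (partL a b g) * b := Nat.mul_lt_mul_of_pos_left hlt hpos1
        _ ≤ a * b := Nat.mul_le_mul_right _ h4
    omega

theorem partL_mul (hab : Nat.Coprime a b) {u y : G} (hc : Commute u y) (hu : u ^ a = 1)
    (hy : y ^ b = 1) : partL a b (u * y) = u := by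
  unfold partL
  rw [hc.mul_zpow]
  have h1 : y ^ ((b : ℤ) * Nat.gcdB a b) = 1 := by
    rw [zpow_mul, zpow_natCast, hy, one_zpow]
  have h2 : (b : ℤ) * Nat.gcdB a b = 1 - (a : ℤ) * Nat.gcdA a b := by
    have := bezout hab; omega
  rw [h1, mul_one, h2, zpow_sub, zpow_one, zpow_mul, zpow_natCast, hu, one_zpow, inv_one, mul_one]

theorem partR_mul (hab : Nat.Coprime a b) {u y : G} (hc : Commute u y) (hu : u ^ a = 1)
    (hy : y ^ b = 1) : partR a b (u * y) = y := by
  unfold partR
  rw [hc.mul_zpow]
  have h1 : u ^ ((a : ℤ) * Nat.gcdA a b) = 1 := by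
    rw [zpow_mul, zpow_natCast, hu, one_zpow]
  have h2 : (a : ℤ) * Nat.gcdA a b = 1 - (b : ℤ) * Nat.gcdB a b := by
    have := bezout hab; omega
  rw [h1, one_mul, h2, zpow_sub, zpow_one, zpow_mul, zpow_natCast, hy, one_zpow, inv_one, mul_one]

end Parts

section Count

variable {G : Type*} [Group G] [Finite G]

open Cfsg.Agent.Helper4.HallEnum

/-- the number of generators of a cyclic subgroup -/
theorem card_generators (X : Subgroup G) (hX : IsCyclic X) :
    Nat.card {u : ↥X // orderOf u = Nat.card X} = (Nat.card X).totient := by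
  classical
  haveI := hX
  have : Fintype ↥X := Fintype.ofFinite _
  have h := IsCyclic.card_orderOf_eq_totient (α := ↥X) (d := Nat.card X)
    (by rw [Nat.card_eq_fintype_card])
  rw [← h, Nat.card_eq_fintype_card, Fintype.card_subtype]

/-- Elements of order `a * b` (coprime `a`, `b`) are counted by pairs (cyclic subgroup of order
`a`, element of order `b` centralizing it), each pair accounting for `φ(a)` elements. -/
theorem card_orderOf_mul {a b : ℕ} (hab : Nat.Coprime a b) (ha : 0 < a) (hb : 0 < b) :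
    Nat.card {g : G // orderOf g = a * b} =
      Nat.card {Xy : Subgroup G × G // IsCyclic Xy.1 ∧ Nat.card Xy.1 = a ∧ orderOf Xy.2 = b ∧
        ∀ x ∈ Xy.1, Commute x Xy.2} * a.totient := by
  have hΨ : ∀ g : {g : G // orderOf g = a * b},
      IsCyclic (Subgroup.zpowers (partL a b g.1)) ∧
        Nat.card (Subgroup.zpowers (partL a b g.1)) = a ∧ orderOf (partR a b g.1) = b ∧
        ∀ x ∈ Subgroup.zpowers (partL a b g.1), Commute x (partR a b g.1) := by
    intro g
    obtain ⟨h1, h2⟩ := orderOf_parts hab ha hb g.1 g.2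
    refine ⟨inferInstance, by rw [Nat.card_zpowers, h1], h2, ?_⟩
    intro x hx
    obtain ⟨k, rfl⟩ := Subgroup.mem_zpowers_iff.1 hx
    exact (commute_parts g.1).zpow_left k
  apply card_eq_mul_of_fibers
    (fun g : {g : G // orderOf g = a * b} =>
      (⟨(Subgroup.zpowers (partL a b g.1), partR a b g.1), hΨ g⟩ :
        {Xy : Subgroup G × G // IsCyclic Xy.1 ∧ Nat.card Xy.1 = a ∧ orderOf Xy.2 = b ∧
          ∀ x ∈ Xy.1, Commute x Xy.2}))
  rintro ⟨⟨X, y⟩, hXc, hXcard, hy, hcomm⟩
  simp only at hXc hXcard hy hcomm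
  have hgen := card_generators X hXc
  rw [hXcard] at hgen
  rw [← hgen]
  apply Nat.card_congr
  have hy1 : y ^ b = 1 := by rw [← hy]; exact pow_orderOf_eq_one y
  refine ⟨fun g => ⟨⟨partL a b g.1.1, ?_⟩, ?_⟩, fun u => ⟨⟨u.1.1 * y, ?_⟩, ?_⟩, ?_, ?_⟩
  · have h := congrArg (fun t => t.1.1) g.2
    simp only at h
    exact h.le (Subgroup.mem_zpowers _)
  · rw [Subgroup.orderOf_mk]
    exact (orderOf_parts hab ha hb g.1.1 g.1.2).1
  · have hu : orderOf (u.1.1 : G) = a := by
      rw [← Subgroup.orderOf_mk u.1.1 u.1.2]; exact u.2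
    rw [(hcomm u.1.1 u.1.2).orderOf_mul_eq_mul_orderOf_of_coprime (by rw [hu, hy]; exact hab),
      hu, hy]
  · have hu : orderOf (u.1.1 : G) = a := by
      rw [← Subgroup.orderOf_mk u.1.1 u.1.2]; exact u.2
    have hu1 : (u.1.1 : G) ^ a = 1 := by
      have h0 := pow_orderOf_eq_one (u.1.1 : G)
      rwa [hu] at h0
    apply Subtype.ext
    simp only
    rw [partL_mul hab (hcomm u.1.1 u.1.2) hu1 hy1, partR_mul hab (hcomm u.1.1 u.1.2) hu1 hy1]
    congr 1
    apply Subgroup.eq_of_le_of_card_ge (Subgroup.zpowers_le.2 u.1.2)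
    rw [Nat.card_zpowers, hu, hXcard]
  · intro g
    apply Subtype.ext
    apply Subtype.ext
    simp only
    have h := congrArg (fun t => t.1.2) g.2
    simp only at h
    have h0 := partL_mul_partR hab g.1.1
    rwa [h] at h0
  · intro u
    apply Subtype.ext
    apply Subtype.ext
    simp only
    have hu : orderOf (u.1.1 : G) = a := by
      rw [← Subgroup.orderOf_mk u.1.1 u.1.2]; exact u.2
    have hu1 : (u.1.1 : G) ^ a = 1 := by
      have h0 := pow_orderOf_eq_one (u.1.1 : G)
      rwa [hu] at h0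
    exact partL_mul hab (hcomm u.1.1 u.1.2) hu1 hy1

end Count

end Cfsg.Agent.Helper4.OrderCount
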