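import Mathlib
import Cfsg.Agent.Helper3.SubgroupCount
import Cfsg.Agent.Helper4.Conj
import Cfsg.Agent.Helper4.HallEnumF
import Cfsg.Agent.Helper4.OrderCountA

set_option autoImplicit false

/-!
The number of elements of order `p ^ s * m` (`s ≥ 2`, `p` odd, noncyclic Sylow `p`-subgroups) is
divisible by `p ^ s`.
-/

namespace Cfsg.Agent.Helper4.OrderCount

open scoped Pointwise
open Cfsg.Agent.Helper3 Cfsg.Agent.Helper4.HallEnum

universe u

section Main

variable {G : Type u} [Group G] [Finite G] {p : ℕ} [hp : Fact p.Prime]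

theorem dvd_card_pairs (hp2 : p ≠ 2) (P : Sylow p G) (hP : ¬ IsCyclic ↥(P : Subgroup G))
    (c m : ℕ) (hc : 1 ≤ c) :
    p ∣ Nat.card {Xy : Subgroup G × G // IsCyclic Xy.1 ∧ Nat.card Xy.1 = p ^ (c + 1) ∧
      orderOf Xy.2 = m ∧ ∀ x ∈ Xy.1, Commute x Xy.2} := by
  classical
  have : Fintype G := Fintype.ofFinite G
  have : Fintype (Subgroup G) := Fintype.ofFinite _
  letI act : MulAction (↥(P : Subgroup G)) (Subgroup G × G) :=
    MulAction.compHom (Subgroup G × G)
      ((MulAut.conj : G →* MulAut G).comp (P : Subgroup G).subtype)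
  have hsmul : ∀ (g : ↥(P : Subgroup G)) (Xy : Subgroup G × G),
      g • Xy = (Xy.1.map (MulAut.conj (g : G)).toMonoidHom, (g : G) * Xy.2 * (g : G)⁻¹) :=
    fun _ _ => rfl
  set t₀ := Finset.univ.filter (fun Xy : Subgroup G × G => IsCyclic Xy.1 ∧
    Nat.card Xy.1 = p ^ (c + 1) ∧ orderOf Xy.2 = m ∧ ∀ x ∈ Xy.1, Commute x Xy.2) with ht₀
  let Q : Subgroup G × G → Prop := fun Xy => Xy.1 ≤ P ∧ ∀ h ∈ (P : Subgroup G), Commute h Xy.2
  have hQ : ∀ (g : ↥(P : Subgroup G)) (Xy : Subgroup G × G), Q Xy → Q (g • Xy) := by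
    intro g Xy hXy
    rw [hsmul]
    refine ⟨?_, ?_⟩
    · rintro x ⟨x', hx', rfl⟩
      change (g : G) * x' * (g : G)⁻¹ ∈ (P : Subgroup G)
      exact (P : Subgroup G).mul_mem ((P : Subgroup G).mul_mem g.2 (hXy.1 hx'))
        ((P : Subgroup G).inv_mem g.2)
    · intro h hh
      change Commute h ((g : G) * Xy.2 * (g : G)⁻¹)
      have h1 : Commute ((g : G)⁻¹ * h * (g : G)) Xy.2 :=
        hXy.2 _ ((P : Subgroup G).mul_mem ((P : Subgroup G).mul_mem
          ((P : Subgroup G).inv_mem g.2) hh) g.2)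
      have h2 : (g : G)⁻¹ * h * (g : G) * Xy.2 = Xy.2 * ((g : G)⁻¹ * h * (g : G)) := h1.eq
      change h * ((g : G) * Xy.2 * (g : G)⁻¹) = (g : G) * Xy.2 * (g : G)⁻¹ * h
      calc h * ((g : G) * Xy.2 * (g : G)⁻¹)
          = (g : G) * ((g : G)⁻¹ * h * (g : G) * Xy.2) * (g : G)⁻¹ := by group
        _ = (g : G) * (Xy.2 * ((g : G)⁻¹ * h * (g : G))) * (g : G)⁻¹ := by rw [h2]
        _ = (g : G) * Xy.2 * (g : G)⁻¹ * h := by group
  set t₁ := t₀.filter (fun Xy => Q Xy) with ht₁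
  set t₂ := t₀.filter (fun Xy => ¬ Q Xy) with ht₂
  have hsplit : t₁.card + t₂.card = t₀.card := Finset.card_filter_add_card_filter_not _
  have hcard : Nat.card {Xy : Subgroup G × G // IsCyclic Xy.1 ∧ Nat.card Xy.1 = p ^ (c + 1) ∧
      orderOf Xy.2 = m ∧ ∀ x ∈ Xy.1, Commute x Xy.2} = t₀.card := by
    rw [ht₀, Nat.card_eq_fintype_card, Fintype.card_subtype]
  -- t₂
  have hdvd₂ : p ∣ t₂.card := by
    apply dvd_card_finset_of_dvd_index (S := ↥(P : Subgroup G)) (α := Subgroup G × G) p t₂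
    · intro g Xy hXy
      rw [ht₂, Finset.mem_filter, ht₀, Finset.mem_filter] at hXy ⊢
      obtain ⟨⟨-, hXc, hXcard, hy, hcomm⟩, hnQ⟩ := hXy
      refine ⟨⟨Finset.mem_univ _, ?_, ?_, ?_, ?_⟩, ?_⟩
      · rw [hsmul]
        haveI := hXc
        exact isCyclic_of_surjective
          (Xy.1.equivMapOfInjective _ (MulAut.conj (g : G)).injective).toMonoidHom
          (Xy.1.equivMapOfInjective _ (MulAut.conj (g : G)).injective).surjective
      · rw [hsmul]
        simp only
        rw [Subgroup.card_map_of_injective (MulAut.conj (g : G)).injective]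
        exact hXcard
      · rw [hsmul]
        simp only
        have := (MulAut.conj (g : G)).orderOf_eq Xy.2
        rw [MulAut.conj_apply] at this
        rw [this, hy]
      · rw [hsmul]
        rintro x ⟨x', hx', rfl⟩
        change Commute ((g : G) * x' * (g : G)⁻¹) ((g : G) * Xy.2 * (g : G)⁻¹)
        have h2 : x' * Xy.2 = Xy.2 * x' := (hcomm x' hx').eq
        change (g : G) * x' * (g : G)⁻¹ * ((g : G) * Xy.2 * (g : G)⁻¹) =
          (g : G) * Xy.2 * (g : G)⁻¹ * ((g : G) * x' * (g : G)⁻¹)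
        calc (g : G) * x' * (g : G)⁻¹ * ((g : G) * Xy.2 * (g : G)⁻¹)
            = (g : G) * (x' * Xy.2) * (g : G)⁻¹ := by group
          _ = (g : G) * (Xy.2 * x') * (g : G)⁻¹ := by rw [h2]
          _ = (g : G) * Xy.2 * (g : G)⁻¹ * ((g : G) * x' * (g : G)⁻¹) := by group
      · intro hQg
        apply hnQ
        have := hQ g⁻¹ (g • Xy) hQg
        rwa [inv_smul_smul] at this
    · intro Xy hXy
      rw [ht₂, Finset.mem_filter, ht₀, Finset.mem_filter] at hXy
      obtain ⟨⟨-, hXc, hXcard, hy, hcomm⟩, hnQ⟩ := hXy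
      obtain ⟨n, hn⟩ := (P.isPGroup').index (MulAction.stabilizer (↥(P : Subgroup G)) Xy)
      rcases Nat.eq_zero_or_pos n with h0 | h0
      · exfalso
        rw [h0, pow_zero, Subgroup.index_eq_one] at hn
        apply hnQ
        have hfix : ∀ g (hg : g ∈ (P : Subgroup G)),
            (Xy.1.map (MulAut.conj g).toMonoidHom, g * Xy.2 * g⁻¹) = Xy := by
          intro g hg
          have h1 : (⟨g, hg⟩ : ↥(P : Subgroup G)) ∈
              MulAction.stabilizer (↥(P : Subgroup G)) Xy := by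
            rw [hn]; exact Subgroup.mem_top _
          rw [MulAction.mem_stabilizer_iff, hsmul] at h1
          exact h1
        refine ⟨?_, ?_⟩
        · apply le_sylow_of_normalized P Xy.1 (IsPGroup.of_card hXcard)
          intro g hg
          exact mem_normalizer_of_map_conj_eq Xy.1 g (congrArg Prod.fst (hfix g hg))
        · intro g hg
          have := congrArg Prod.snd (hfix g hg)
          simp only at this
          change g * Xy.2 = Xy.2 * g
          calc g * Xy.2 = g * Xy.2 * g⁻¹ * g := by group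
            _ = Xy.2 * g := by rw [this]
      · rw [hn]
        exact dvd_pow_self p (by omega)
  -- t₁
  obtain ⟨E₀, hE₀n, hE₀e, hE₀c⟩ :=
    Cfsg.Agent.Helper1.exists_normal_elementary_p2_top hp2 P.isPGroup' hP
  have hmiller := dvd_card_cyclic (P : Subgroup G) (E₀.map (P : Subgroup G).subtype)
    (Subgroup.map_subtype_le _)
    (by rw [Subgroup.card_map_of_injective (Subgroup.subtype_injective _)]; exact hE₀c)
    (by
      rintro x hx e ⟨e₀, he₀, rfl⟩
      have := mul_pow_eq_of_normal_elementary hp2 P.isPGroup' E₀ hE₀e hE₀c ⟨x, hx⟩ e₀ he₀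
      have h2 := congrArg Subtype.val this
      simpa using h2) c hc
  have hdvd₁ : p ∣ t₁.card := by
    have h1 : t₁.card = Nat.card ({X : Subgroup G // X ≤ (P : Subgroup G) ∧ IsCyclic X ∧
        Nat.card X = p ^ (c + 1)} × {y : G // orderOf y = m ∧
          ∀ h ∈ (P : Subgroup G), Commute h y}) := by
      have h2 : t₁.card = Nat.card {Xy : Subgroup G × G // (IsCyclic Xy.1 ∧
          Nat.card Xy.1 = p ^ (c + 1) ∧ orderOf Xy.2 = m ∧ ∀ x ∈ Xy.1, Commute x Xy.2) ∧ Q Xy} := by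
        rw [ht₁, ht₀, Finset.filter_filter, Nat.card_eq_fintype_card, Fintype.card_subtype]
      rw [h2]
      apply Nat.card_congr
      refine ⟨fun Xy => (⟨Xy.1.1, Xy.2.2.1, Xy.2.1.1, Xy.2.1.2.1⟩, ⟨Xy.1.2, Xy.2.1.2.2.1, Xy.2.2.2⟩),
        fun Xy => ⟨(Xy.1.1, Xy.2.1), ⟨Xy.1.2.2.1, Xy.1.2.2.2, Xy.2.2.1,
          fun x hx => Xy.2.2.2 x (Xy.1.2.1 hx)⟩, Xy.1.2.1, Xy.2.2.2⟩, ?_, ?_⟩
      · intro Xy; rfl
      · intro Xy; rfl
    rw [h1, Nat.card_prod]
    exact Dvd.dvd.mul_right hmiller _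
  rw [hcard, ← hsplit]
  exact dvd_add hdvd₁ hdvd₂

/-- The number of elements of order `p ^ s * m` is divisible by `p ^ s`. -/
theorem pow_dvd_card_orderOf (hp2 : p ≠ 2) (P : Sylow p G) (hP : ¬ IsCyclic ↥(P : Subgroup G))
    (s m : ℕ) (hs : 1 < s) (hm : Nat.Coprime p m) :
    p ^ s ∣ Nat.card {g : G // orderOf g = p ^ s * m} := by
  have hmpos : 0 < m := by
    rcases Nat.eq_zero_or_pos m with h | h
    · rw [h, Nat.coprime_zero_right] at hm
      exact absurd hm hp.out.one_lt.ne'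
    · exact h
  obtain ⟨c, rfl⟩ : ∃ c, s = c + 1 := ⟨s - 1, by omega⟩
  have hc : 1 ≤ c := by omega
  rw [card_orderOf_mul (Nat.Coprime.pow_left (c + 1) hm) (pow_pos hp.out.pos _) hmpos,
    Nat.totient_prime_pow hp.out (Nat.succ_pos c), Nat.succ_sub_one]
  obtain ⟨k, hk⟩ := dvd_card_pairs hp2 P hP c m hc
  rw [hk]
  exact ⟨k * (p - 1), by rw [pow_succ]; ring⟩

end Main

end Cfsg.Agent.Helper4.OrderCount
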