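import Mathlib

/-!
# Quadratic forms over the field with two elements: transvections and Siegel elements

`Q : V → F` is a function with polar form `B`, where `F` has two elements.  For every subspace `Z`
of codimension at least two there is a non-identity involutive isometry fixing `Z` pointwise.
-/

set_option autoImplicit false

namespace Cfsg.Agent.Helper4.OrthSyl

open Module

variable {F V : Type*} [Field F] [AddCommGroup V] [Module F V]

section Basic

variable (hF : ∀ a : F, a = 0 ∨ a = 1)
include hF

theorem one_add_one : (1 : F) + 1 = 0 := by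
  rcases hF (1 + 1) with h | h
  · exact h
  · exact absurd (add_eq_right.1 h) one_ne_zero

theorem add_self_F (a : F) : a + a = 0 := by
  have := one_add_one hF
  calc a + a = a * (1 + 1) := by ring
    _ = 0 := by rw [this, mul_zero]

theorem add_self_V (v : V) : v + v = 0 := by
  have := one_add_one hF
  calc v + v = ((1 : F) + 1) • v := by rw [add_smul, one_smul]
    _ = 0 := by rw [this, zero_smul]

theorem mul_self_F (a : F) : a * a = a := by
  rcases hF a with h | h <;> rw [h] <;> simp

theorem eq_of_add_eq_zero_V {v w : V} (h : v + w = 0) : v = w := by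
  have h2 := add_self_V (V := V) hF w
  have : v = v + (w + w) := by rw [h2, add_zero]
  rw [this, ← add_assoc, h, zero_add]

end Basic

section Forms

variable (hF : ∀ a : F, a = 0 ∨ a = 1)
variable (Q : V → F) (B : LinearMap.BilinForm F V)
variable (hQB : ∀ x y, Q (x + y) = Q x + Q y + B x y)
include hF hQB

omit hF in
theorem Q_zero : Q 0 = 0 := by
  have h := hQB 0 0
  rw [add_zero, map_zero, add_zero] at h
  exact left_eq_add.1 h

theorem B_self (x : V) : B x x = 0 := by
  have h := hQB x x
  rw [add_self_V hF x, Q_zero Q B hQB, add_self_F hF (Q x), zero_add] at h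
  exact h.symm

omit hF in
theorem B_comm (x y : V) : B x y = B y x := by
  have h1 := hQB x y
  have h2 := hQB y x
  rw [add_comm y x, h1, add_comm (Q y) (Q x)] at h2
  exact add_left_cancel h2

theorem Q_smul (a : F) (x : V) : Q (a • x) = a * Q x := by
  rcases hF a with h | h
  · rw [h, zero_smul, zero_mul, Q_zero Q B hQB]
  · rw [h, one_smul, one_mul]

end Forms

section Maps

variable (B : LinearMap.BilinForm F V)

/-- the orthogonal transvection `x ↦ x + B(n, x) n`. -/
def tau (n : V) : V →ₗ[F] V := LinearMap.id + (B n).smulRight n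

/-- the Siegel element `x ↦ x + B(u, x) v + B(v, x) u`. -/
def siegel (u v : V) : V →ₗ[F] V :=
  LinearMap.id + (B u).smulRight v + (B v).smulRight u

theorem tau_apply (n x : V) : tau B n x = x + B n x • n := by
  simp [tau]

theorem siegel_apply (u v x : V) : siegel B u v x = x + B u x • v + B v x • u := by
  simp [siegel]

end Maps

section Isometries

variable (hF : ∀ a : F, a = 0 ∨ a = 1)
variable (Q : V → F) (B : LinearMap.BilinForm F V)
variable (hQB : ∀ x y, Q (x + y) = Q x + Q y + B x y)
include hF hQB

theorem tau_tau (n x : V) : tau B n (tau B n x) = x := by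
  rw [tau_apply, tau_apply, map_add, map_smul, B_self hF Q B hQB, smul_eq_mul, mul_zero, add_zero,
    add_assoc, add_self_V hF, add_zero]

theorem Q_tau (n : V) (hn : Q n = 1) (x : V) : Q (tau B n x) = Q x := by
  rw [tau_apply, hQB, Q_smul hF Q B hQB, hn, mul_one, map_smul, smul_eq_mul,
    B_comm Q B hQB x n, mul_self_F hF, add_assoc, add_self_F hF, add_zero]

theorem siegel_siegel (u v : V) (huv : B u v = 0) (x : V) :
    siegel B u v (siegel B u v x) = x := by
  have hvu : B v u = 0 := by rw [B_comm Q B hQB v u]; exact huv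
  rw [siegel_apply, siegel_apply]
  simp only [map_add, map_smul, smul_eq_mul, B_self hF Q B hQB, huv, hvu, mul_zero, add_zero]
  have h1 := add_self_V (V := V) hF (B u x • v)
  have h2 := add_self_V (V := V) hF (B v x • u)
  calc x + B u x • v + B v x • u + B u x • v + B v x • u
      = x + (B u x • v + B u x • v) + (B v x • u + B v x • u) := by abel
    _ = x := by rw [h1, h2, add_zero, add_zero]

theorem Q_siegel (u v : V) (hu : Q u = 0) (hv : Q v = 0) (huv : B u v = 0) (x : V) :
    Q (siegel B u v x) = Q x := by
  have hvu : B v u = 0 := by rw [B_comm Q B hQB v u]; exact huv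
  rw [siegel_apply, hQB, hQB, Q_smul hF Q B hQB, Q_smul hF Q B hQB, hu, hv]
  simp only [map_add, map_smul, smul_eq_mul, mul_zero, add_zero, LinearMap.add_apply,
    LinearMap.smul_apply, hvu]
  rw [B_comm Q B hQB x v, B_comm Q B hQB x u, mul_comm (B v x) (B u x)]
  rw [add_assoc, add_self_F hF, add_zero]

end Isometries

section Exists

variable (hF : ∀ a : F, a = 0 ∨ a = 1)
variable (Q : V → F) (B : LinearMap.BilinForm F V)
variable (hQB : ∀ x y, Q (x + y) = Q x + Q y + B x y)
include hF hQB

/-- a subspace of codimension at least two is fixed pointwise by a non-trivial involutive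
isometry. -/
theorem exists_involution_fixing [FiniteDimensional F V] (hB : B.Nondegenerate)
    (Z : Submodule F V) (hZ : finrank F Z + 2 ≤ finrank F V) :
    ∃ f : V →ₗ[F] V, (∀ x, f (f x) = x) ∧ (∀ x, Q (f x) = Q x) ∧ f ≠ LinearMap.id ∧
      ∀ z ∈ Z, f z = z := by
  obtain ⟨W, hW⟩ : ∃ W : Submodule F V, W = B.orthogonal Z := ⟨_, rfl⟩
  have hWdim : 2 ≤ finrank F W := by
    rw [hW, LinearMap.BilinForm.finrank_orthogonal hB]
    omega
  have hWmem : ∀ w ∈ W, ∀ z ∈ Z, B w z = 0 := by
    intro w hw z hz
    rw [hW] at hw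
    rw [B_comm Q B hQB]
    exact hw z hz
  -- two independent vectors
  have hWne : W ≠ ⊥ := by
    intro h
    rw [h, finrank_bot] at hWdim
    omega
  obtain ⟨u, huW, hu0⟩ := Submodule.exists_mem_ne_zero_of_ne_bot hWne
  have hnle : ¬ W ≤ Submodule.span F {u} := by
    intro hle
    have := Submodule.finrank_mono hle
    rw [finrank_span_singleton hu0] at this
    omega
  obtain ⟨v, hvW, hvu⟩ := SetLike.not_le_iff_exists.1 hnle
  -- a vector pairing non-trivially
  have hpair : ∀ n : V, n ≠ 0 → ∃ x, B n x = 1 := by
    intro n hn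
    by_contra hcon
    push Not at hcon
    apply hn
    apply hB.1 n
    intro x
    rcases hF (B n x) with h | h
    · exact h
    · exact absurd h (hcon x)
  -- transvection case
  have htau : ∀ n ∈ W, Q n = 1 → ∃ f : V →ₗ[F] V, (∀ x, f (f x) = x) ∧ (∀ x, Q (f x) = Q x) ∧
      f ≠ LinearMap.id ∧ ∀ z ∈ Z, f z = z := by
    intro n hnW hn
    have hn0 : n ≠ 0 := by
      intro h
      rw [h, Q_zero Q B hQB] at hn
      exact zero_ne_one hn
    refine ⟨tau B n, tau_tau hF Q B hQB n, Q_tau hF Q B hQB n hn, ?_, ?_⟩
    · intro h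
      obtain ⟨x, hx⟩ := hpair n hn0
      have := congrArg (fun f : V →ₗ[F] V => f x) h
      simp only [tau_apply, hx, one_smul, LinearMap.id_apply] at this
      exact hn0 (add_eq_left.1 this)
    · intro z hz
      rw [tau_apply, hWmem n hnW z hz, zero_smul, add_zero]
  rcases hF (Q u) with hQu | hQu
  swap
  · exact htau u huW hQu
  rcases hF (Q v) with hQv | hQv
  swap
  · exact htau v hvW hQv
  rcases hF (B u v) with hBuv | hBuv
  swap
  · refine htau (u + v) (W.add_mem huW hvW) ?_
    rw [hQB, hQu, hQv, hBuv, zero_add, zero_add]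
  refine ⟨siegel B u v, siegel_siegel hF Q B hQB u v hBuv, Q_siegel hF Q B hQB u v hQu hQv hBuv,
    ?_, ?_⟩
  · intro h
    obtain ⟨x, hx⟩ := hpair u hu0
    have := congrArg (fun f : V →ₗ[F] V => f x) h
    simp only [siegel_apply, hx, one_smul, LinearMap.id_apply] at this
    rw [add_assoc] at this
    have h2 : v + B v x • u = 0 := add_eq_left.1 this
    have h3 : v = B v x • u := eq_of_add_eq_zero_V hF h2
    apply hvu
    rw [h3]
    exact Submodule.smul_mem _ _ (Submodule.mem_span_singleton_self u)
  · intro z hz
    rw [siegel_apply, hWmem u huW z hz, hWmem v hvW z hz, zero_smul, zero_smul, add_zero, add_zero]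

end Exists

end Cfsg.Agent.Helper4.OrthSyl
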