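import Cfsg.Agent.Helper4.OrthSylA

/-!
# The pointwise stabilizer of a totally singular subspace of corank one is a `2`-group

`Y` is totally singular, `e, f` is a hyperbolic pair in `Y^⊥` with `Y^⊥ = Y ⊕ ⟨e, f⟩`.  An
isometry `T` fixing `Y` pointwise satisfies `T ^ 8 = 1`.
-/

set_option autoImplicit false

namespace Cfsg.Agent.Helper4.OrthSyl

open Module

variable {F V : Type*} [Field F] [AddCommGroup V] [Module F V]

section

variable (hF : ∀ a : F, a = 0 ∨ a = 1)
variable (Q : V → F) (B : LinearMap.BilinForm F V)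
variable (hQB : ∀ x y, Q (x + y) = Q x + Q y + B x y)
include hF hQB

omit hF in
theorem B_map (T : V →ₗ[F] V) (hTQ : ∀ x, Q (T x) = Q x) (x y : V) :
    B (T x) (T y) = B x y := by
  have h1 := hQB (T x) (T y)
  rw [← map_add, hTQ, hTQ, hTQ, hQB] at h1
  exact (add_left_cancel h1).symm

omit hQB in
theorem add_add_cancel_mid (a b c : V) : (a + b) + (b + c) = a + c := by
  have h := add_self_V (V := V) hF b
  calc (a + b) + (b + c) = a + (b + b) + c := by abel
    _ = a + c := by rw [h, add_zero]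

omit hQB in
/-- an isometry that is unipotent of level three on the chain `0 ≤ Y ≤ Y^⊥ ≤ V`. -/
theorem iterate_four_of_nilpotent (S : V →ₗ[F] V)
    (hN : ∀ x, S (S (S x + x) + (S x + x)) + (S (S x + x) + (S x + x)) = 0) (x : V) :
    S (S (S (S x))) = x := by
  -- `N x = S x + x`, `N (N x) = S (S x) + x`
  have hNN : ∀ z, S (S z + z) + (S z + z) = S (S z) + z := by
    intro z
    rw [map_add]
    exact add_add_cancel_mid hF _ _ _
  have h1 := hN (S x + x)
  rw [hNN, hNN] at h1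
  -- h1 : S (S (S (S x) + x)) + (S (S x) + x) = 0  (after simplification)
  have h2 : S (S (S (S x) + x)) + (S (S x) + x) = S (S (S (S x))) + x := by
    rw [map_add, map_add]
    exact add_add_cancel_mid hF _ _ _
  rw [h2] at h1
  exact eq_of_add_eq_zero_V hF h1

variable (Y : Submodule F V) (e f : V)
variable (h1 : ∀ y ∈ Y, Q y = 0) (he : Q e = 0) (hf : Q f = 0) (hef : B e f = 1)
variable (h3e : ∀ y ∈ Y, B y e = 0) (h3f : ∀ y ∈ Y, B y f = 0)
variable (h4 : ∀ x, (∀ y ∈ Y, B y x = 0) → x + B x f • e + B x e • f ∈ Y)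
include h1 he hf hef h3e h3f h4

theorem pow_eight_eq_one (T : V →ₗ[F] V) (hTQ : ∀ x, Q (T x) = Q x) (hTY : ∀ y ∈ Y, T y = y)
    (x : V) : T (T (T (T (T (T (T (T x))))))) = x := by
  have hYY : ∀ y ∈ Y, ∀ y' ∈ Y, B y y' = 0 := by
    intro y hy y' hy'
    have := hQB y y'
    rw [h1 y hy, h1 y' hy', h1 (y + y') (Y.add_mem hy hy'), zero_add, zero_add] at this
    exact this.symm
  have hfe : B f e = 1 := by rw [B_comm Q B hQB]; exact hef
  have hee : B e e = 0 := B_self hF Q B hQB e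
  have hff : B f f = 0 := B_self hF Q B hQB f
  -- decomposition of elements of `Y^⊥`
  have hdecomp : ∀ z, (∀ y ∈ Y, B y z = 0) → ∃ y ∈ Y, z = y + B z f • e + B z e • f := by
    intro z hz
    refine ⟨_, h4 z hz, ?_⟩
    have e1 := add_self_V (V := V) hF (B z f • e)
    have e2 := add_self_V (V := V) hF (B z e • f)
    calc z = z + (B z f • e + B z f • e) + (B z e • f + B z e • f) := by
          rw [e1, e2, add_zero, add_zero]
      _ = z + B z f • e + B z e • f + B z f • e + B z e • f := by abel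
  have hQd : ∀ y ∈ Y, ∀ a b : F, Q (y + a • e + b • f) = a * b := by
    intro y hy a b
    rw [hQB, hQB, h1 y hy, Q_smul hF Q B hQB, Q_smul hF Q B hQB, he, hf]
    simp only [map_add, map_smul, smul_eq_mul, LinearMap.add_apply, LinearMap.smul_apply,
      h3e y hy, h3f y hy, hef, mul_zero, add_zero, zero_add, mul_one]
    exact mul_comm _ _
  have hBd : ∀ y ∈ Y, ∀ y' ∈ Y, ∀ a b c d : F,
      B (y + a • e + b • f) (y' + c • e + d • f) = a * d + b * c := by
    intro y hy y' hy' a b c d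
    have hey' : B e y' = 0 := by rw [B_comm Q B hQB]; exact h3e y' hy'
    have hfy' : B f y' = 0 := by rw [B_comm Q B hQB]; exact h3f y' hy'
    simp only [map_add, map_smul, smul_eq_mul, LinearMap.add_apply, LinearMap.smul_apply,
      hYY y hy y' hy', h3e y hy, h3f y hy, hey', hfy', hee, hff, hef, hfe, mul_zero, add_zero,
      zero_add, mul_one]
    ring
  -- general facts on isometries fixing `Y` pointwise
  have hstepP : ∀ S : V →ₗ[F] V, (∀ z, Q (S z) = Q z) → (∀ y ∈ Y, S y = y) →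
      ∀ z, (∀ y ∈ Y, B y z = 0) → ∀ y ∈ Y, B y (S z) = 0 := by
    intro S hSQ hSY z hz y hy
    have := B_map Q B hQB S hSQ y z
    rw [hSY y hy] at this
    rw [this]
    exact hz y hy
  have hstep2 : ∀ S : V →ₗ[F] V, (∀ z, Q (S z) = Q z) → (∀ y ∈ Y, S y = y) →
      ∀ z, ∀ y ∈ Y, B y (S z + z) = 0 := by
    intro S hSQ hSY z y hy
    have := B_map Q B hQB S hSQ y z
    rw [hSY y hy] at this
    rw [map_add, this]
    exact add_self_F hF _
  have hPe : ∀ y ∈ Y, B y e = 0 := h3e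
  have hPf : ∀ y ∈ Y, B y f = 0 := h3f
  -- the images of `e` and `f`
  obtain ⟨y₁, hy₁, hTe⟩ := hdecomp (T e) (hstepP T hTQ hTY e hPe)
  obtain ⟨y₂, hy₂, hTf⟩ := hdecomp (T f) (hstepP T hTQ hTY f hPf)
  obtain ⟨α, hα⟩ : ∃ α : F, α = B (T e) f := ⟨_, rfl⟩
  obtain ⟨β, hβ⟩ : ∃ β : F, β = B (T e) e := ⟨_, rfl⟩
  obtain ⟨γ, hγ⟩ : ∃ γ : F, γ = B (T f) f := ⟨_, rfl⟩
  obtain ⟨δ, hδ⟩ : ∃ δ : F, δ = B (T f) e := ⟨_, rfl⟩
  rw [← hα, ← hβ] at hTe
  rw [← hγ, ← hδ] at hTf
  have c1 : α * β = 0 := by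
    have := hTQ e
    rw [hTe, hQd y₁ hy₁, he] at this
    exact this
  have c2 : γ * δ = 0 := by
    have := hTQ f
    rw [hTf, hQd y₂ hy₂, hf] at this
    exact this
  have c3 : α * δ + β * γ = 1 := by
    have := B_map Q B hQB T hTQ e f
    rw [hTe, hTf, hBd y₁ hy₁ y₂ hy₂, hef] at this
    exact this
  have hcase : (α = 1 ∧ β = 0 ∧ γ = 0 ∧ δ = 1) ∨ (α = 0 ∧ β = 1 ∧ γ = 1 ∧ δ = 0) := by
    rcases hF α with e1 | e1 <;> rcases hF β with e2 | e2 <;> rcases hF γ with e3 | e3 <;>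
      rcases hF δ with e4 | e4 <;> simp [e1, e2, e3, e4] at c1 c2 c3 ⊢
  -- `S = T ∘ T` moves `e` and `f` inside their cosets
  have hSe : T (T e) + e ∈ Y ∧ T (T f) + f ∈ Y := by
    rcases hcase with ⟨e1, e2, e3, e4⟩ | ⟨e1, e2, e3, e4⟩
    · rw [e1, e2, one_smul, zero_smul, add_zero] at hTe
      rw [e3, e4, one_smul, zero_smul, add_zero] at hTf
      constructor
      · have : T (T e) + e = 0 := by
          rw [hTe, map_add, hTY y₁ hy₁, hTe, ← add_assoc, add_self_V hF, zero_add, add_self_V hF]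
        rw [this]; exact Y.zero_mem
      · have : T (T f) + f = 0 := by
          rw [hTf, map_add, hTY y₂ hy₂, hTf, ← add_assoc, add_self_V hF, zero_add, add_self_V hF]
        rw [this]; exact Y.zero_mem
    · rw [e1, e2, one_smul, zero_smul, add_zero] at hTe
      rw [e3, e4, one_smul, zero_smul, add_zero] at hTf
      constructor
      · have : T (T e) + e = y₁ + y₂ := by
          rw [hTe, map_add, hTY y₁ hy₁, hTf, add_assoc, add_assoc, add_self_V hF, add_zero]
        rw [this]; exact Y.add_mem hy₁ hy₂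
      · have : T (T f) + f = y₂ + y₁ := by
          rw [hTf, map_add, hTY y₂ hy₂, hTe, add_assoc, add_assoc, add_self_V hF, add_zero]
        rw [this]; exact Y.add_mem hy₂ hy₁
  -- `S = T ∘ T`
  obtain ⟨S, hS⟩ : ∃ S : V →ₗ[F] V, S = T ∘ₗ T := ⟨_, rfl⟩
  have hSap : ∀ z, S z = T (T z) := by intro z; rw [hS]; rfl
  have hSQ : ∀ z, Q (S z) = Q z := by intro z; rw [hSap, hTQ, hTQ]
  have hSY : ∀ y ∈ Y, S y = y := by intro y hy; rw [hSap, hTY y hy, hTY y hy]
  have hB' : ∀ z, (∀ y ∈ Y, B y z = 0) → S z + z ∈ Y := by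
    intro z hz
    obtain ⟨y, hy, hzd⟩ := hdecomp z hz
    have e5 : S z + z = (S y + y) + (B z f • (S e + e) + B z e • (S f + f)) := by
      conv_lhs => rw [hzd]
      simp only [map_add, map_smul, smul_add]
      abel
    rw [e5, hSY y hy, add_self_V hF, zero_add, hSap, hSap]
    exact Y.add_mem (Y.smul_mem _ hSe.1) (Y.smul_mem _ hSe.2)
  have hnil : ∀ z, S (S (S z + z) + (S z + z)) + (S (S z + z) + (S z + z)) = 0 := by
    intro z
    have hm := hB' (S z + z) (hstep2 S hSQ hSY z)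
    rw [hSY _ hm, add_self_V hF]
  have := iterate_four_of_nilpotent hF S hnil x
  rw [hSap, hSap, hSap, hSap] at this
  exact this

end

end Cfsg.Agent.Helper4.OrthSyl
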