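import Mathlib

/-!
# Sylow 2-subgroups of an extension of degree 2 intersect non-trivially

If `N ⊴ G` has index 2 and contains two 2-subgroups `A`, `B` such that at most `|B|²` elements `h`
of `N` satisfy `A ∩ h B h⁻¹ = 1`, then any two Sylow 2-subgroups of `G` intersect non-trivially.
-/

set_option autoImplicit false

namespace Cfsg.Agent.Helper4.SylInt

open Subgroup
open scoped Pointwise

variable {G : Type*} [Group G]

/-- the conjugate of a subgroup. -/
abbrev cj (g : G) (K : Subgroup G) : Subgroup G := K.map (MulAut.conj g).toMonoidHom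

theorem mem_cj {g y : G} {K : Subgroup G} : y ∈ cj g K ↔ g⁻¹ * y * g ∈ K := by
  constructor
  · rintro ⟨k, hk, rfl⟩
    change g⁻¹ * (g * k * g⁻¹) * g ∈ K
    have : g⁻¹ * (g * k * g⁻¹) * g = k := by group
    rw [this]; exact hk
  · intro h
    refine ⟨g⁻¹ * y * g, h, ?_⟩
    change g * (g⁻¹ * y * g) * g⁻¹ = y
    group

theorem mem_smul_conj {x y : G} {K : Subgroup G} :
    y ∈ MulAut.conj x • K ↔ x⁻¹ * y * x ∈ K := by
  rw [Subgroup.mem_pointwise_smul_iff_inv_smul_mem, ← map_inv, MulAut.smul_def,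
    MulAut.conj_apply, inv_inv]

theorem card_cj [Finite G] (g : G) (K : Subgroup G) : Nat.card (cj g K) = Nat.card K :=
  Subgroup.card_map_of_injective (MulAut.conj g).injective

theorem eq_one_of_conj_eq_one {g y : G} (h : g * y * g⁻¹ = 1) : y = 1 := by
  have : y = g⁻¹ * (g * y * g⁻¹) * g := by group
  rw [this, h]; group

variable [Finite G]

/-- **The counting lemma.** -/
theorem sylow_inf_conj_ne_bot (N : Subgroup G) [N.Normal] (hidx : N.index = 2)
    (A B : Subgroup N) (hA : IsPGroup 2 A) (hB : IsPGroup 2 B)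
    (hcount : Nat.card {h : N // A ⊓ B.map (MulAut.conj h).toMonoidHom = ⊥} ≤ Nat.card B ^ 2)
    (H : Sylow 2 G) (x : G) : (H : Subgroup G) ⊓ MulAut.conj x • (H : Subgroup G) ≠ ⊥ := by
  have : Fact (Nat.Prime 2) := ⟨Nat.prime_two⟩
  intro hbot
  have hHx : ∀ y : G, y ∈ (H : Subgroup G) → x⁻¹ * y * x ∈ (H : Subgroup G) → y = 1 := by
    intro y hy hy'
    have : y ∈ (H : Subgroup G) ⊓ MulAut.conj x • (H : Subgroup G) :=
      ⟨hy, mem_smul_conj.2 hy'⟩
    rw [hbot] at this
    exact Subgroup.mem_bot.1 this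
  -- an element of `H` outside `N`
  obtain ⟨τ, hτH, hτN⟩ : ∃ τ ∈ (H : Subgroup G), τ ∉ N := by
    by_contra hcon
    push Not at hcon
    have hle : (H : Subgroup G) ≤ N := hcon
    have h1 := Subgroup.relIndex_mul_index hle
    rw [hidx] at h1
    exact H.not_dvd_index ⟨_, by rw [← h1, mul_comm]⟩
  obtain ⟨U, hU⟩ : ∃ U : Subgroup G, U = (H : Subgroup G) ⊓ N := ⟨_, rfl⟩
  have hUH : U ≤ H := hU ▸ inf_le_left
  have hUN : U ≤ N := hU ▸ inf_le_right
  -- `τ` normalizes `U`
  have hτU : ∀ y ∈ U, τ * y * τ⁻¹ ∈ U := by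
    intro y hy
    rw [hU]
    exact ⟨(H : Subgroup G).mul_mem ((H : Subgroup G).mul_mem hτH (hUH hy))
      ((H : Subgroup G).inv_mem hτH), ‹N.Normal›.conj_mem y (hUN hy) τ⟩
  have hτU' : ∀ y ∈ U, τ⁻¹ * y * τ ∈ U := by
    intro y hy
    rw [hU]
    refine ⟨(H : Subgroup G).mul_mem ((H : Subgroup G).mul_mem ((H : Subgroup G).inv_mem hτH)
      (hUH hy)) hτH, ?_⟩
    have := ‹N.Normal›.conj_mem y (hUN hy) τ⁻¹
    rwa [inv_inv] at this
  -- `|H| ≥ 2 |U|`
  have hcardHU : 2 * Nat.card U ≤ Nat.card (H : Subgroup G) := by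
    have hdvd : Nat.card U ∣ Nat.card (H : Subgroup G) := Subgroup.card_dvd_of_le hUH
    have hne : Nat.card U ≠ Nat.card (H : Subgroup G) := by
      intro h
      have : U = (H : Subgroup G) := Subgroup.eq_of_le_of_card_ge hUH h.ge
      exact hτN (hUN (this ▸ hτH))
    obtain ⟨c, hc⟩ := hdvd
    have hpos : 0 < Nat.card U := Nat.card_pos
    have hc2 : 2 ≤ c := by
      rcases c with _ | _ | c
      · rw [mul_zero] at hc
        have : 0 < Nat.card (H : Subgroup G) := Nat.card_pos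
        omega
      · rw [zero_add, mul_one] at hc
        exact absurd hc.symm hne
      · omega
    rw [hc]
    nlinarith
  -- the sets
  obtain ⟨T, hT⟩ : ∃ T : Set G, T = {g : G | U ⊓ cj g U = ⊥} := ⟨_, rfl⟩
  obtain ⟨TN, hTN⟩ : ∃ TN : Set G, TN = {g : G | g ∈ N ∧ U ⊓ cj g U = ⊥} := ⟨_, rfl⟩
  -- (i)
  have h1 : Nat.card (H : Subgroup G) ^ 2 ≤ Nat.card T := by
    have hmem : ∀ p : ↥(H : Subgroup G) × ↥(H : Subgroup G), (p.1 : G) * x * p.2 ∈ T := by
      rintro ⟨h1, h2⟩
      rw [hT, Set.mem_ofPred_eq, Subgroup.eq_bot_iff_forall]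
      rintro y ⟨hyU, hyc⟩
      replace hyc := mem_cj.1 hyc
      replace hyU : y ∈ U := hyU
      have hy1 : (h1 : G)⁻¹ * y * h1 ∈ (H : Subgroup G) :=
        (H : Subgroup G).mul_mem ((H : Subgroup G).mul_mem ((H : Subgroup G).inv_mem h1.2)
          (hUH hyU)) h1.2
      have hy2 : x⁻¹ * ((h1 : G)⁻¹ * y * h1) * x ∈ (H : Subgroup G) := by
        have e : x⁻¹ * ((h1 : G)⁻¹ * y * h1) * x =
            (h2 : G) * (((h1 : G) * x * h2)⁻¹ * y * ((h1 : G) * x * h2)) * (h2 : G)⁻¹ := by group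
        rw [e]
        exact (H : Subgroup G).mul_mem ((H : Subgroup G).mul_mem h2.2 (hUH hyc))
          ((H : Subgroup G).inv_mem h2.2)
      have := hHx _ hy1 hy2
      have e2 : y = (h1 : G) * ((h1 : G)⁻¹ * y * h1) * (h1 : G)⁻¹ := by group
      rw [e2, this]; group
    have hinj : Function.Injective
        (fun p : ↥(H : Subgroup G) × ↥(H : Subgroup G) => (⟨(p.1 : G) * x * p.2, hmem p⟩ : T)) := by
      rintro ⟨a1, a2⟩ ⟨b1, b2⟩ hab
      have e : (a1 : G) * x * a2 = b1 * x * b2 := congrArg Subtype.val hab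
      have hy1 : (b1 : G)⁻¹ * a1 ∈ (H : Subgroup G) :=
        (H : Subgroup G).mul_mem ((H : Subgroup G).inv_mem b1.2) a1.2
      have hy2 : x⁻¹ * ((b1 : G)⁻¹ * a1) * x ∈ (H : Subgroup G) := by
        have e3 : x⁻¹ * ((b1 : G)⁻¹ * a1) * x = (b2 : G) * (a2 : G)⁻¹ := by
          have : (a1 : G) = b1 * x * b2 * (a2 : G)⁻¹ * x⁻¹ := by
            rw [← e]; group
          rw [this]; group
        rw [e3]
        exact (H : Subgroup G).mul_mem b2.2 ((H : Subgroup G).inv_mem a2.2)
      have h3 := hHx _ hy1 hy2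
      have h4 : (a1 : G) = b1 := by
        have := inv_mul_eq_one.1 h3
        exact this.symm
      have h5 : (a2 : G) = b2 := by
        rw [h4] at e
        exact mul_left_cancel e
      exact Prod.ext (Subtype.ext h4) (Subtype.ext h5)
    have := Nat.card_le_card_of_injective _ hinj
    rwa [Nat.card_prod, ← pow_two] at this
  -- (ii)
  have h2 : Nat.card T ≤ 2 * Nat.card TN := by
    classical
    have hmem : ∀ g : T, (if (g : G) ∈ N then (g : G) else τ⁻¹ * g) ∈ TN := by
      rintro ⟨g, hg⟩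
      rw [hT, Set.mem_ofPred_eq] at hg
      rw [hTN, Set.mem_ofPred_eq]
      by_cases hgN : g ∈ N
      · rw [if_pos hgN]
        exact ⟨hgN, hg⟩
      · rw [if_neg hgN]
        refine ⟨?_, ?_⟩
        · rw [Subgroup.mul_mem_iff_of_index_two hidx]
          constructor
          · intro h; exact absurd (by simpa using N.inv_mem h) hτN
          · intro h; exact absurd h hgN
        · rw [Subgroup.eq_bot_iff_forall]
          rintro y ⟨hyU, hyc⟩
          replace hyc := mem_cj.1 hyc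
          replace hyU : y ∈ U := hyU
          have hy1 : τ * y * τ⁻¹ ∈ U ⊓ cj g U := by
            refine ⟨hτU y hyU, mem_cj.2 ?_⟩
            have e : g⁻¹ * (τ * y * τ⁻¹) * g = (τ⁻¹ * g)⁻¹ * y * (τ⁻¹ * g) := by group
            rw [e]; exact hyc
          rw [hg, Subgroup.mem_bot] at hy1
          exact eq_one_of_conj_eq_one hy1
    have hinj : Function.Injective (fun g : T =>
        (((decide ((g : G) ∈ N)), (⟨_, hmem g⟩ : TN)) : Bool × TN)) := by
      rintro ⟨a, ha⟩ ⟨b, hb⟩ hab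
      have e1 : decide (a ∈ N) = decide (b ∈ N) := congrArg Prod.fst hab
      have e2 : (if a ∈ N then a else τ⁻¹ * a) = (if b ∈ N then b else τ⁻¹ * b) :=
        congrArg (fun p : Bool × TN => (p.2 : G)) hab
      apply Subtype.ext
      change a = b
      by_cases haN : a ∈ N
      · have hbN : b ∈ N := by simpa [haN] using e1
        rwa [if_pos haN, if_pos hbN] at e2
      · have hbN : b ∉ N := by simpa [haN] using e1
        rw [if_neg haN, if_neg hbN] at e2
        exact mul_left_cancel e2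
    have := Nat.card_le_card_of_injective _ hinj
    rwa [Nat.card_prod, Nat.card_eq_fintype_card (α := Bool), Fintype.card_bool] at this
  -- conjugating `A` and `B` into `U`
  have hconj : ∀ C : Subgroup N, IsPGroup 2 C → ∃ g ∈ N, C.map N.subtype ≤ cj g U := by
    intro C hC
    have hC' : IsPGroup 2 (C.map N.subtype) := hC.map N.subtype
    obtain ⟨Q, hQ⟩ := hC'.exists_le_sylow
    obtain ⟨g, hg⟩ := MulAction.exists_smul_eq G H Q
    have hle : C.map N.subtype ≤ cj g U := by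
      intro y hy
      rw [mem_cj, hU]
      have hyQ : y ∈ (Q : Subgroup G) := hQ hy
      rw [← hg, Sylow.coe_subgroup_smul, mem_smul_conj] at hyQ
      refine ⟨hyQ, ?_⟩
      have hyN : y ∈ N := by
        obtain ⟨c, _, rfl⟩ := hy
        exact c.2
      have := ‹N.Normal›.conj_mem y hyN g⁻¹
      rwa [inv_inv] at this
    by_cases hgN : g ∈ N
    · exact ⟨g, hgN, hle⟩
    · refine ⟨g * τ⁻¹, ?_, ?_⟩
      · rw [Subgroup.mul_mem_iff_of_index_two hidx]
        constructor
        · intro h; exact absurd h hgN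
        · intro h; exact absurd (by simpa using N.inv_mem h) hτN
      · intro y hy
        have := hle hy
        rw [mem_cj] at this ⊢
        have e : (g * τ⁻¹)⁻¹ * y * (g * τ⁻¹) = τ * (g⁻¹ * y * g) * τ⁻¹ := by group
        rw [e]
        exact hτU _ this
  obtain ⟨g1, hg1N, hg1⟩ := hconj A hA
  obtain ⟨g2, hg2N, hg2⟩ := hconj B hB
  -- (iii)
  have hTNmem : ∀ g : TN, (g : G) ∈ N ∧ U ⊓ cj (g : G) U = ⊥ := by
    rintro ⟨g, hg⟩
    rw [hTN] at hg
    exact hg
  have h3 : Nat.card TN ≤ Nat.card {h : N // A ⊓ B.map (MulAut.conj h).toMonoidHom = ⊥} := by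
    have hmem : ∀ g : TN, A ⊓ B.map (MulAut.conj (⟨g1 * (g : G) * g2⁻¹,
        N.mul_mem (N.mul_mem hg1N (hTNmem g).1) (N.inv_mem hg2N)⟩ : N)).toMonoidHom =
          ⊥ := by
      rintro ⟨g, hg⟩
      obtain ⟨hgN, hgU⟩ := hTNmem ⟨g, hg⟩
      rw [Subgroup.eq_bot_iff_forall]
      rintro y ⟨hyA, b, hbB, hby⟩
      have hby' : g1 * g * g2⁻¹ * (b : G) * (g1 * g * g2⁻¹)⁻¹ = (y : G) :=
        congrArg Subtype.val hby
      have hy1 : g1⁻¹ * (y : G) * g1 ∈ U := by
        have : (y : G) ∈ A.map N.subtype := ⟨y, hyA, rfl⟩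
        exact mem_cj.1 (hg1 this)
      have hb1 : g2⁻¹ * (b : G) * g2 ∈ U := by
        have : (b : G) ∈ B.map N.subtype := ⟨b, hbB, rfl⟩
        exact mem_cj.1 (hg2 this)
      have hy2 : g1⁻¹ * (y : G) * g1 ∈ U ⊓ cj g U := by
        refine ⟨hy1, mem_cj.2 ?_⟩
        have e : g⁻¹ * (g1⁻¹ * (y : G) * g1) * g = g2⁻¹ * (b : G) * g2 := by
          rw [← hby']; group
        rw [e]; exact hb1
      rw [hgU, Subgroup.mem_bot] at hy2
      apply Subtype.ext
      have e : (y : G) = g1 * (g1⁻¹ * (y : G) * g1) * g1⁻¹ := by group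
      rw [e, hy2]
      simp
    have hinj : Function.Injective (fun g : TN =>
        (⟨_, hmem g⟩ : {h : N // A ⊓ B.map (MulAut.conj h).toMonoidHom = ⊥})) := by
      rintro ⟨a, ha⟩ ⟨b, hb⟩ hab
      have e : g1 * a * g2⁻¹ = g1 * b * g2⁻¹ :=
        congrArg (fun p : {h : N // A ⊓ B.map (MulAut.conj h).toMonoidHom = ⊥} =>
          ((p : N) : G)) hab
      apply Subtype.ext
      exact mul_left_cancel (mul_right_cancel e)
    exact Nat.card_le_card_of_injective _ hinj
  -- (iv)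
  have h4 : Nat.card B ≤ Nat.card U := by
    have e1 : Nat.card (B.map N.subtype) = Nat.card B :=
      Subgroup.card_map_of_injective N.subtype_injective
    have e2 := Subgroup.card_le_of_le hg2
    rw [e1, card_cj] at e2
    exact e2
  have hUpos : 0 < Nat.card U := Nat.card_pos
  have h5 : Nat.card B ^ 2 ≤ Nat.card U ^ 2 := Nat.pow_le_pow_left h4 2
  have h6 : (2 * Nat.card U) ^ 2 ≤ Nat.card (H : Subgroup G) ^ 2 := Nat.pow_le_pow_left hcardHU 2
  nlinarith

end Cfsg.Agent.Helper4.SylInt
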