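import Cfsg.Agent.Helper4.OrthSylB
import Cfsg.Agent.Helper4.SylIntA

/-!
# Sylow `2`-subgroups of an orthogonal group over the field with two elements meet non-trivially

Abstract version: a group `Γ` acting on a quadratic space through `ρ` so that every involutive
isometry is induced, with a subspace `Y₀` of dimension at most `dim V / 2 - 1` whose pointwise
stabilizer is a `2`-group.
-/

set_option autoImplicit false

namespace Cfsg.Agent.Helper4.OrthSyl

open Module
open scoped Pointwise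

variable {F V Γ : Type*} [Field F] [AddCommGroup V] [Module F V] [Group Γ]

/-- the pointwise stabilizer of a subspace. -/
def fixSub (ρ : Representation F Γ V) (Z : Submodule F V) : Subgroup Γ where
  carrier := {g | ∀ z ∈ Z, ρ g z = z}
  one_mem' := by
    intro z _
    rw [map_one]
    rfl
  mul_mem' := by
    intro a b ha hb z hz
    rw [map_mul, Module.End.mul_apply, hb z hz, ha z hz]
  inv_mem' := by
    intro a ha z hz
    have h1 : ρ a⁻¹ (ρ a z) = z := by
      rw [← Module.End.mul_apply, ← map_mul, inv_mul_cancel, map_one]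
      rfl
    rw [ha z hz] at h1
    exact h1

theorem mem_fixSub {ρ : Representation F Γ V} {Z : Submodule F V} {g : Γ} :
    g ∈ fixSub ρ Z ↔ ∀ z ∈ Z, ρ g z = z := Iff.rfl

theorem sylow_inf_conj_ne_bot_of_fix [Finite Γ] [FiniteDimensional F V]
    (hF : ∀ a : F, a = 0 ∨ a = 1) (Q : V → F) (B : LinearMap.BilinForm F V)
    (hQB : ∀ x y, Q (x + y) = Q x + Q y + B x y) (hB : B.Nondegenerate)
    (ρ : Representation F Γ V)
    (hρsurj : ∀ f : V →ₗ[F] V, (∀ x, f (f x) = x) → (∀ x, Q (f x) = Q x) → ∃ g, ρ g = f)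
    (Y₀ : Submodule F V) (hY₀ : 2 * finrank F Y₀ + 2 ≤ finrank F V)
    (h2 : IsPGroup 2 (fixSub ρ Y₀)) (H : Sylow 2 Γ) (x : Γ) :
    (H : Subgroup Γ) ⊓ MulAut.conj x • (H : Subgroup Γ) ≠ ⊥ := by
  have : Fact (Nat.Prime 2) := ⟨Nat.prime_two⟩
  obtain ⟨P, hP⟩ := h2.exists_le_sylow
  obtain ⟨c, hc⟩ := MulAction.exists_smul_eq Γ P H
  obtain ⟨Y, hY⟩ : ∃ Y : Submodule F V, Y = Y₀.map (ρ c) := ⟨_, rfl⟩
  have hinv : ∀ (a : Γ) (v : V), ρ a⁻¹ (ρ a v) = v := by
    intro a v
    rw [← Module.End.mul_apply, ← map_mul, inv_mul_cancel, map_one]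
    rfl
  have hYH : ∀ g : Γ, (∀ y ∈ Y, ρ g y = y) → g ∈ (H : Subgroup Γ) := by
    intro g hg
    have h1 : c⁻¹ * g * c ∈ fixSub ρ Y₀ := by
      intro z hz
      have hz' : ρ c z ∈ Y := by
        rw [hY]
        exact Submodule.mem_map_of_mem hz
      rw [map_mul, map_mul, Module.End.mul_apply, Module.End.mul_apply, hg _ hz', hinv]
    have h2' := hP h1
    rw [← hc, Sylow.coe_subgroup_smul, SylInt.mem_smul_conj]
    exact h2'
  have hYdim : finrank F Y ≤ finrank F Y₀ := by
    rw [hY]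
    exact Submodule.finrank_map_le _ _
  obtain ⟨Z, hZ⟩ : ∃ Z : Submodule F V, Z = Y ⊔ Y.map (ρ x) := ⟨_, rfl⟩
  have hZdim : finrank F Z + 2 ≤ finrank F V := by
    have h3 : finrank F Z ≤ finrank F Y + finrank F (Y.map (ρ x)) := by
      rw [hZ]
      exact Submodule.finrank_add_le_finrank_add_finrank _ _
    have h4 : finrank F (Y.map (ρ x)) ≤ finrank F Y := Submodule.finrank_map_le _ _
    omega
  obtain ⟨f, hf1, hf2, hf3, hf4⟩ := exists_involution_fixing hF Q B hQB hB Z hZdim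
  obtain ⟨g, hg⟩ := hρsurj f hf1 hf2
  have hg1 : g ≠ 1 := by
    intro h
    rw [h, map_one] at hg
    exact hf3 hg.symm
  have hgH : g ∈ (H : Subgroup Γ) := by
    apply hYH
    intro y hy
    rw [hg]
    exact hf4 y (by rw [hZ]; exact Submodule.mem_sup_left hy)
  have hgH' : g ∈ MulAut.conj x • (H : Subgroup Γ) := by
    rw [SylInt.mem_smul_conj]
    apply hYH
    intro y hy
    have hy' : ρ x y ∈ Z := by
      rw [hZ]
      exact Submodule.mem_sup_right (Submodule.mem_map_of_mem hy)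
    rw [map_mul, map_mul, Module.End.mul_apply, Module.End.mul_apply, hg, hf4 _ hy', hinv]
  intro hbot
  have : g ∈ (H : Subgroup Γ) ⊓ MulAut.conj x • (H : Subgroup Γ) := ⟨hgH, hgH'⟩
  rw [hbot] at this
  exact hg1 (Subgroup.mem_bot.1 this)

end Cfsg.Agent.Helper4.OrthSyl
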