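import Cfsg.Agent.Helper4.OrthSylC
import Cfsg.Prelude.Def_Classical

/-!
# Sylow `2`-subgroups of `O⁺(2m, 2)` meet non-trivially
-/

set_option autoImplicit false

namespace Cfsg.Agent.Helper4.OrthSyl

open Module Matrix
open scoped Pointwise

variable {F : Type*} [Field F] {m : ℕ}

/-- the polar form of the hyperbolic quadratic form. -/
def polar (m : ℕ) (F : Type*) [Field F] : LinearMap.BilinForm F (Fin m ⊕ Fin m → F) :=
  LinearMap.mk₂ F (fun u v => ∑ i : Fin m, (u (.inl i) * v (.inr i) + u (.inr i) * v (.inl i)))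
    (by
      intro u u' v
      rw [← Finset.sum_add_distrib]
      apply Finset.sum_congr rfl
      intro i _
      simp only [Pi.add_apply]
      ring)
    (by
      intro c u v
      rw [smul_eq_mul, Finset.mul_sum]
      apply Finset.sum_congr rfl
      intro i _
      simp only [Pi.smul_apply, smul_eq_mul]
      ring)
    (by
      intro u v v'
      rw [← Finset.sum_add_distrib]
      apply Finset.sum_congr rfl
      intro i _
      simp only [Pi.add_apply]
      ring)
    (by
      intro c u v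
      rw [smul_eq_mul, Finset.mul_sum]
      apply Finset.sum_congr rfl
      intro i _
      simp only [Pi.smul_apply, smul_eq_mul]
      ring)

theorem polar_apply (u v : Fin m ⊕ Fin m → F) :
    polar m F u v = ∑ i : Fin m, (u (.inl i) * v (.inr i) + u (.inr i) * v (.inl i)) := rfl

theorem quad_add (x y : Fin m ⊕ Fin m → F) :
    Cfsg.quadFormPlus m F (x + y) =
      Cfsg.quadFormPlus m F x + Cfsg.quadFormPlus m F y + polar m F x y := by
  unfold Cfsg.quadFormPlus
  rw [polar_apply, ← Finset.sum_add_distrib, ← Finset.sum_add_distrib]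
  apply Finset.sum_congr rfl
  intro i _
  simp only [Pi.add_apply]
  ring

theorem polar_single_inr (x : Fin m ⊕ Fin m → F) (j : Fin m) :
    polar m F x (Pi.single (.inr j) 1) = x (.inl j) := by
  classical
  rw [polar_apply, Finset.sum_eq_single j]
  · simp
  · intro i _ hij
    have h1 : (Pi.single (Sum.inr j) (1 : F) : Fin m ⊕ Fin m → F) (.inr i) = 0 := by
      rw [Pi.single_apply, if_neg]
      intro h
      exact hij (Sum.inr.inj h)
    have h2 : (Pi.single (Sum.inr j) (1 : F) : Fin m ⊕ Fin m → F) (.inl i) = 0 := by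
      rw [Pi.single_apply, if_neg]
      intro h
      exact Sum.inl_ne_inr h
    rw [h1, h2, mul_zero, mul_zero, add_zero]
  · intro h
    exact absurd (Finset.mem_univ j) h

theorem polar_single_inl (x : Fin m ⊕ Fin m → F) (j : Fin m) :
    polar m F x (Pi.single (.inl j) 1) = x (.inr j) := by
  classical
  rw [polar_apply, Finset.sum_eq_single j]
  · simp
  · intro i _ hij
    have h1 : (Pi.single (Sum.inl j) (1 : F) : Fin m ⊕ Fin m → F) (.inl i) = 0 := by
      rw [Pi.single_apply, if_neg]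
      intro h
      exact hij (Sum.inl.inj h)
    have h2 : (Pi.single (Sum.inl j) (1 : F) : Fin m ⊕ Fin m → F) (.inr i) = 0 := by
      rw [Pi.single_apply, if_neg]
      intro h
      exact Sum.inr_ne_inl h
    rw [h1, h2, mul_zero, mul_zero, add_zero]
  · intro h
    exact absurd (Finset.mem_univ j) h

theorem polar_comm (x y : Fin m ⊕ Fin m → F) : polar m F x y = polar m F y x := by
  rw [polar_apply, polar_apply]
  apply Finset.sum_congr rfl
  intro i _
  ring

theorem polar_nondegenerate : (polar m F).Nondegenerate := by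
  have hsep : ∀ x : Fin m ⊕ Fin m → F, (∀ y, polar m F x y = 0) → x = 0 := by
    intro x hx
    funext k
    rcases k with j | j
    · rw [← polar_single_inr x j, hx]; rfl
    · rw [← polar_single_inl x j, hx]; rfl
  refine ⟨hsep, ?_⟩
  intro y hy
  apply hsep
  intro x
  rw [polar_comm]
  exact hy x

variable [Fintype F]

/-- the natural representation of the isometry group. -/
def rho (m : ℕ) (F : Type*) [Field F] :
    Representation F ↥(Cfsg.isometryGroup F (Cfsg.quadFormPlus m F)) (Fin m ⊕ Fin m → F) where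
  toFun g := Matrix.mulVecLin ((g : Matrix.GeneralLinearGroup (Fin m ⊕ Fin m) F) :
    Matrix (Fin m ⊕ Fin m) (Fin m ⊕ Fin m) F)
  map_one' := by
    simp only [OneMemClass.coe_one, Units.val_one, Matrix.mulVecLin_one]
    rfl
  map_mul' := by
    intro a b
    simp only [Subgroup.coe_mul, Units.val_mul, Matrix.mulVecLin_mul]
    rfl

omit [Fintype F] in
theorem rho_apply (g : ↥(Cfsg.isometryGroup F (Cfsg.quadFormPlus m F))) (x : Fin m ⊕ Fin m → F) :
    rho m F g x = ((g : Matrix.GeneralLinearGroup (Fin m ⊕ Fin m) F) :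
      Matrix (Fin m ⊕ Fin m) (Fin m ⊕ Fin m) F) *ᵥ x := rfl

omit [Fintype F] in
theorem quad_rho (g : ↥(Cfsg.isometryGroup F (Cfsg.quadFormPlus m F))) (x : Fin m ⊕ Fin m → F) :
    Cfsg.quadFormPlus m F (rho m F g x) = Cfsg.quadFormPlus m F x :=
  g.2 x x

omit [Fintype F] in
theorem rho_injective : Function.Injective (rho m F) := by
  intro a b hab
  apply Subtype.ext
  apply Units.ext
  have h1 : Matrix.toLin' ((a : Matrix.GeneralLinearGroup (Fin m ⊕ Fin m) F) :
      Matrix (Fin m ⊕ Fin m) (Fin m ⊕ Fin m) F) = Matrix.toLin' ((b :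
      Matrix.GeneralLinearGroup (Fin m ⊕ Fin m) F) : Matrix (Fin m ⊕ Fin m) (Fin m ⊕ Fin m) F) :=
    hab
  exact Matrix.toLin'.injective h1

omit [Fintype F] in
theorem rho_surj (f : (Fin m ⊕ Fin m → F) →ₗ[F] (Fin m ⊕ Fin m → F)) (hf : ∀ x, f (f x) = x)
    (hfQ : ∀ x, Cfsg.quadFormPlus m F (f x) = Cfsg.quadFormPlus m F x) :
    ∃ g, rho m F g = f := by
  have hMM : LinearMap.toMatrix' f * LinearMap.toMatrix' f = 1 := by
    rw [← LinearMap.toMatrix'_comp, ← LinearMap.toMatrix'_id]
    congr 1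
    exact LinearMap.ext hf
  obtain ⟨u, hu⟩ : ∃ u : Matrix.GeneralLinearGroup (Fin m ⊕ Fin m) F,
      (u : Matrix (Fin m ⊕ Fin m) (Fin m ⊕ Fin m) F) = LinearMap.toMatrix' f :=
    ⟨⟨LinearMap.toMatrix' f, LinearMap.toMatrix' f, hMM, hMM⟩, rfl⟩
  have huG : u ∈ Cfsg.isometryGroup F (Cfsg.quadFormPlus m F) := by
    intro a b
    change Cfsg.quadFormPlus m F ((u : Matrix (Fin m ⊕ Fin m) (Fin m ⊕ Fin m) F) *ᵥ a) =
      Cfsg.quadFormPlus m F a
    rw [hu, LinearMap.toMatrix'_mulVec, hfQ]
  refine ⟨⟨u, huG⟩, ?_⟩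
  refine LinearMap.ext fun x => ?_
  rw [rho_apply]
  change (u : Matrix (Fin m ⊕ Fin m) (Fin m ⊕ Fin m) F) *ᵥ x = f x
  rw [hu, LinearMap.toMatrix'_mulVec]

/-- the standard totally singular subspace of dimension `m - 1`. -/
def stdY (m : ℕ) (F : Type*) [Field F] (i₀ : Fin m) : Submodule F (Fin m ⊕ Fin m → F) where
  carrier := {v | (∀ i, v (.inr i) = 0) ∧ v (.inl i₀) = 0}
  add_mem' := by
    intro a b ha hb
    refine ⟨fun i => ?_, ?_⟩
    · rw [Pi.add_apply, ha.1 i, hb.1 i, add_zero]
    · rw [Pi.add_apply, ha.2, hb.2, add_zero]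
  zero_mem' := ⟨fun _ => rfl, rfl⟩
  smul_mem' := by
    intro c a ha
    refine ⟨fun i => ?_, ?_⟩
    · rw [Pi.smul_apply, ha.1 i, smul_zero]
    · rw [Pi.smul_apply, ha.2, smul_zero]

omit [Fintype F] in
theorem mem_stdY {i₀ : Fin m} {v : Fin m ⊕ Fin m → F} :
    v ∈ stdY m F i₀ ↔ (∀ i, v (.inr i) = 0) ∧ v (.inl i₀) = 0 := Iff.rfl

omit [Fintype F] in
theorem finrank_stdY (i₀ : Fin m) : finrank F (stdY m F i₀) + 1 ≤ m := by
  classical
  obtain ⟨φ, hφ⟩ : ∃ φ : ↥(stdY m F i₀) →ₗ[F] ({j : Fin m // ¬ j = i₀} → F),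
      ∀ v j, φ v j = (v : Fin m ⊕ Fin m → F) (.inl j.1) :=
    ⟨(LinearMap.funLeft F F (fun j : {j : Fin m // ¬ j = i₀} => (Sum.inl j.1 : Fin m ⊕ Fin m))).comp
      (stdY m F i₀).subtype, fun _ _ => rfl⟩
  have hinj : Function.Injective φ := by
    rw [← LinearMap.ker_eq_bot, LinearMap.ker_eq_bot']
    intro v hv
    apply Subtype.ext
    funext k
    rcases k with j | j
    · by_cases hj : j = i₀
      · rw [hj]; exact v.2.2
      · have := congrFun hv ⟨j, hj⟩
        rw [hφ] at this
        exact this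
    · exact v.2.1 j
  have h1 := LinearMap.finrank_le_finrank_of_injective hinj
  rw [Module.finrank_fintype_fun_eq_card, Fintype.card_subtype_compl, Fintype.card_subtype_eq,
    Fintype.card_fin] at h1
  have : 1 ≤ m := Nat.one_le_iff_ne_zero.2 (fun h => by subst h; exact i₀.elim0)
  omega

theorem field_two (hF : Fintype.card F = 2) (a : F) : a = 0 ∨ a = 1 := by
  classical
  by_contra hcon
  push Not at hcon
  have h1 : ({0, 1, a} : Finset F).card = 3 := by
    rw [Finset.card_insert_of_notMem, Finset.card_insert_of_notMem, Finset.card_singleton]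
    · rw [Finset.mem_singleton]
      exact fun h => hcon.2 h.symm
    · rw [Finset.mem_insert, Finset.mem_singleton]
      rintro (h | h)
      · exact zero_ne_one h
      · exact hcon.1 h.symm
  have h2 := Finset.card_le_univ ({0, 1, a} : Finset F)
  rw [h1, hF] at h2
  omega

/-- the pointwise stabilizer of the standard subspace is a `2`-group. -/
theorem isPGroup_fixSub_stdY (hF : Fintype.card F = 2) (i₀ : Fin m) :
    IsPGroup 2 ↥(fixSub (rho m F) (stdY m F i₀)) := by
  classical
  have hF' := field_two hF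
  rintro ⟨g, hg⟩
  refine ⟨3, Subtype.ext ?_⟩
  change g ^ 2 ^ 3 = 1
  apply rho_injective
  refine LinearMap.ext fun x => ?_
  have h8 : g ^ 2 ^ 3 = g * (g * (g * (g * (g * (g * (g * g)))))) := by
    rw [show (2 : ℕ) ^ 3 = 8 by norm_num]
    simp only [pow_succ, pow_zero, one_mul, mul_assoc]
  rw [h8, map_one]
  simp only [map_mul, Module.End.mul_apply]
  change _ = x
  obtain ⟨e, he⟩ : ∃ e : Fin m ⊕ Fin m → F, e = Pi.single (.inl i₀) 1 := ⟨_, rfl⟩
  obtain ⟨f, hf⟩ : ∃ f : Fin m ⊕ Fin m → F, f = Pi.single (.inr i₀) 1 := ⟨_, rfl⟩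
  have hBf : ∀ z, polar m F z f = z (.inl i₀) := by
    intro z; rw [hf]; exact polar_single_inr z i₀
  have hBe : ∀ z, polar m F z e = z (.inr i₀) := by
    intro z; rw [he]; exact polar_single_inl z i₀
  have he_inr : ∀ i, e (.inr i) = 0 := by
    intro i
    rw [he, Pi.single_apply, if_neg]
    exact Sum.inr_ne_inl
  have hf_inl : ∀ i, f (.inl i) = 0 := by
    intro i
    rw [hf, Pi.single_apply, if_neg]
    exact Sum.inl_ne_inr
  refine pow_eight_eq_one hF' (Cfsg.quadFormPlus m F) (polar m F) quad_add (stdY m F i₀) e f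
    ?_ ?_ ?_ ?_ ?_ ?_ ?_ (rho m F g) (quad_rho g) hg x
  · intro y hy
    unfold Cfsg.quadFormPlus
    apply Finset.sum_eq_zero
    intro i _
    rw [hy.1 i, mul_zero]
  · unfold Cfsg.quadFormPlus
    apply Finset.sum_eq_zero
    intro i _
    rw [he_inr i, mul_zero]
  · unfold Cfsg.quadFormPlus
    apply Finset.sum_eq_zero
    intro i _
    rw [hf_inl i, zero_mul]
  · rw [hBf, he, Pi.single_eq_same]
  · intro y hy
    rw [hBe]
    exact hy.1 i₀
  · intro y hy
    rw [hBf]
    exact hy.2
  · intro z hz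
    rw [hBf, hBe]
    have hz' : ∀ j, j ≠ i₀ → z (.inr j) = 0 := by
      intro j hj
      have hmem : (Pi.single (Sum.inl j) (1 : F) : Fin m ⊕ Fin m → F) ∈ stdY m F i₀ := by
        refine ⟨fun i => ?_, ?_⟩
        · rw [Pi.single_apply, if_neg]
          exact Sum.inr_ne_inl
        · rw [Pi.single_apply, if_neg]
          intro h
          exact hj (Sum.inl.inj h).symm
      have := hz _ hmem
      rw [polar_comm, polar_single_inl] at this
      exact this
    refine ⟨fun i => ?_, ?_⟩
    · simp only [Pi.add_apply, Pi.smul_apply, smul_eq_mul, he_inr, mul_zero, add_zero]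
      by_cases hi : i = i₀
      · rw [hi, hf, Pi.single_eq_same, mul_one]
        exact add_self_F hF' _
      · rw [hz' i hi, hf, Pi.single_apply, if_neg, mul_zero, add_zero]
        intro h
        exact hi (Sum.inr.inj h)
    · simp only [Pi.add_apply, Pi.smul_apply, smul_eq_mul, hf_inl, mul_zero, add_zero]
      rw [he, Pi.single_eq_same, mul_one]
      exact add_self_F hF' _

/-- **Sylow `2`-subgroups of `O⁺(2m, 2)` pairwise meet non-trivially.** -/
theorem sylow_inf_conj_ne_bot_orthogonal (hF : Fintype.card F = 2) (hm : 1 ≤ m)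
    (H : Sylow 2 (Cfsg.isometryGroup F (Cfsg.quadFormPlus m F)))
    (x : Cfsg.isometryGroup F (Cfsg.quadFormPlus m F)) :
    (H : Subgroup (Cfsg.isometryGroup F (Cfsg.quadFormPlus m F))) ⊓
      MulAut.conj x • (H : Subgroup _) ≠ ⊥ := by
  classical
  obtain ⟨i₀⟩ : Nonempty (Fin m) := ⟨⟨0, hm⟩⟩
  have hdim : finrank F (Fin m ⊕ Fin m → F) = m + m := by
    rw [Module.finrank_fintype_fun_eq_card, Fintype.card_sum, Fintype.card_fin]
  have hY := finrank_stdY (F := F) i₀
  exact sylow_inf_conj_ne_bot_of_fix (field_two hF) (Cfsg.quadFormPlus m F) (polar m F) quad_add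
    polar_nondegenerate (rho m F) rho_surj (stdY m F i₀) (by rw [hdim]; omega)
    (isPGroup_fixSub_stdY hF i₀) H x

end Cfsg.Agent.Helper4.OrthSyl
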