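import Mathlib
import Cfsg.Prelude.Def_Solvable
import Cfsg.Agent.Helper4.PCore
import Cfsg.Agent.Lead.CharChain

set_option autoImplicit false

/-!
A finite group with a characteristic chain `1 = K 0 < K 1 < ... < K n = H` with `|K i| = p ^ i`:
every group of automorphisms has a normal Sylow `p`-subgroup; consequently quotients of order
divisible by `p` have nontrivial `p`-core.  (General length version of `Lead.CharChain`.)
-/

namespace Cfsg.Agent.Helper4.P4A

open Cfsg.Agent.Lead.CharChain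

variable {p : ℕ} [hp : Fact p.Prime] {H : Type*} [Group H] [Finite H]

/-- The stabilizer of the chain `K 0 ≤ K 1 ≤ ... ≤ K n`. -/
def chainStab (n : ℕ) (K : ℕ → Subgroup H) (hmono : ∀ i < n, K i ≤ K (i + 1)) :
    Subgroup (MulAut H) where
  carrier := {α | ∀ i < n, ∀ x ∈ K (i + 1), x⁻¹ * α x ∈ K i}
  one_mem' := by
    intro i _ x _
    simp
  mul_mem' := by
    intro α β hα hβ i hi x hx
    have hβx : β x ∈ K (i + 1) := by
      have : β x = x * (x⁻¹ * β x) := by group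
      rw [this]
      exact (K (i + 1)).mul_mem hx (hmono i hi (hβ i hi x hx))
    have : x⁻¹ * (α * β) x = (x⁻¹ * β x) * ((β x)⁻¹ * α (β x)) := by
      rw [MulAut.mul_apply]; group
    rw [this]
    exact (K i).mul_mem (hβ i hi x hx) (hα i hi _ hβx)
  inv_mem' := by
    intro α hα
    -- closure under products gives closure under powers, and `α⁻¹` is a power of `α`
    have hpow : ∀ m : ℕ, ∀ i < n, ∀ x ∈ K (i + 1), x⁻¹ * (α ^ m) x ∈ K i := by
      intro m
      induction m with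
      | zero => intro i _ x _; simp
      | succ m ih =>
        intro i hi x hx
        have hβx : (α ^ m) x ∈ K (i + 1) := by
          have : (α ^ m) x = x * (x⁻¹ * (α ^ m) x) := by group
          rw [this]
          exact (K (i + 1)).mul_mem hx (hmono i hi (ih i hi x hx))
        have : x⁻¹ * (α ^ (m + 1)) x = (x⁻¹ * (α ^ m) x) * (((α ^ m) x)⁻¹ * α ((α ^ m) x)) := by
          rw [pow_succ', MulAut.mul_apply]; group
        rw [this]
        exact (K i).mul_mem (ih i hi x hx) (hα i hi _ hβx)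
    haveI : Finite (MulAut H) := inferInstance
    have hinv : α⁻¹ = α ^ (orderOf α - 1) := by
      rw [inv_eq_iff_mul_eq_one, ← pow_succ']
      have : orderOf α - 1 + 1 = orderOf α := Nat.sub_add_cancel (orderOf_pos α)
      rw [this, pow_orderOf_eq_one]
    intro i hi x hx
    show x⁻¹ * (α⁻¹) x ∈ K i
    rw [hinv]
    exact hpow _ i hi x hx

theorem mem_chainStab (n : ℕ) (K : ℕ → Subgroup H) (hmono : ∀ i < n, K i ≤ K (i + 1))
    (α : MulAut H) :
    α ∈ chainStab n K hmono ↔ ∀ i < n, ∀ x ∈ K (i + 1), x⁻¹ * α x ∈ K i := Iff.rfl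

theorem isPGroup_chainStab (n : ℕ) (K : ℕ → Subgroup H) (hmono : ∀ i < n, K i ≤ K (i + 1))
    (hK0 : K 0 = ⊥) (hKn : K n = ⊤) (hcard : ∀ i ≤ n, Nat.card (K i) = p ^ i) :
    IsPGroup p (chainStab n K hmono) := by
  intro α
  have key : ∀ j ≤ n, ∃ k : ℕ, ∀ x ∈ K j, ((α : MulAut H) ^ (p ^ k)) x = x := by
    intro j
    induction j with
    | zero =>
      intro _
      refine ⟨0, fun x hx => ?_⟩
      rw [hK0, Subgroup.mem_bot] at hx
      rw [hx, map_one]
    | succ j ih =>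
      intro hj
      obtain ⟨k, hk⟩ := ih (Nat.le_of_succ_le hj)
      refine ⟨k + j, fun x hx => ?_⟩
      have hβmem : (α : MulAut H) ^ (p ^ k) ∈ chainStab n K hmono := Subgroup.pow_mem _ α.2 _
      have hq := (mem_chainStab n K hmono _).1 hβmem j hj x hx
      have hq1 : (x⁻¹ * ((α : MulAut H) ^ (p ^ k)) x) ^ (p ^ j) = 1 := by
        have := pow_card_eq_one' (G := K j) (x := ⟨_, hq⟩)
        rw [hcard j (Nat.le_of_succ_le hj)] at this
        exact congrArg Subtype.val this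
      have := pow_apply_of_fixed ((α : MulAut H) ^ (p ^ k)) x
        (x⁻¹ * ((α : MulAut H) ^ (p ^ k)) x) (by group) (hk _ hq) (p ^ j)
      rw [hq1, mul_one, ← pow_mul, ← pow_add] at this
      exact this
  obtain ⟨k, hk⟩ := key n le_rfl
  refine ⟨k, ?_⟩
  apply Subtype.ext
  rw [Subgroup.coe_pow, Subgroup.coe_one]
  ext x
  have := hk x (by rw [hKn]; trivial)
  rw [this]
  rfl

theorem mem_chainStab_of_pow (n : ℕ) (K : ℕ → Subgroup H) (hmono : ∀ i < n, K i ≤ K (i + 1))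
    (hcard : ∀ i ≤ n, Nat.card (K i) = p ^ i)
    (hinv : ∀ β : MulAut H, ∀ i ≤ n, ∀ y ∈ K i, β y ∈ K i)
    (α : MulAut H) (k : ℕ) (hα : α ^ (p ^ k) = 1) : α ∈ chainStab n K hmono := by
  have hpos : 0 < p := hp.out.pos
  rw [mem_chainStab]
  intro i hi
  haveI hn1 : (K i).Normal :=
    ⟨fun x hx g => by simpa using hinv (MulAut.conj g) i hi.le x hx⟩
  haveI : ((K i).subgroupOf (K (i + 1))).Normal := inferInstance
  have hidx : Nat.card (K (i + 1) ⧸ (K i).subgroupOf (K (i + 1))) = p := by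
    have := card_quot_mul (K i) (K (i + 1)) (hmono i hi)
    rw [hcard i hi.le, hcard (i + 1) hi, pow_succ'] at this
    exact Nat.eq_of_mul_eq_mul_right (pow_pos hpos i) this
  exact section_trivial α k hα (K i) (K (i + 1)) (hinv α (i + 1) hi) (hinv α i hi.le) hidx

/-- A group of automorphisms of a finite group with a characteristic chain with all factors of
order `p` has quotients with nontrivial `p`-core whenever `p` divides their order. -/
theorem pCore_ne_bot (n : ℕ) (K : ℕ → Subgroup H) (hmono : ∀ i < n, K i ≤ K (i + 1))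
    (hK0 : K 0 = ⊥) (hKn : K n = ⊤) (hcard : ∀ i ≤ n, Nat.card (K i) = p ^ i)
    (hinv : ∀ β : MulAut H, ∀ i ≤ n, ∀ y ∈ K i, β y ∈ K i)
    (Γ : Subgroup (MulAut H)) (N₀ : Subgroup Γ) [N₀.Normal]
    (hdvd : p ∣ Nat.card (Γ ⧸ N₀)) : Cfsg.pCore p (Γ ⧸ N₀) ≠ ⊥ := by
  intro hbot
  have hCp := isPGroup_chainStab (p := p) n K hmono hK0 hKn hcard
  let P : Subgroup Γ := (chainStab n K hmono).subgroupOf Γ
  have hPp : IsPGroup p P := hCp.comap_of_injective Γ.subtype Γ.subtype_injective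
  have hPn : P.Normal := by
    refine ⟨fun q hq γ => ?_⟩
    obtain ⟨k, hk⟩ := hPp ⟨q, hq⟩
    have hk' : q ^ (p ^ k) = 1 := congrArg Subtype.val hk
    change ((γ * q * γ⁻¹ : Γ) : MulAut H) ∈ chainStab n K hmono
    apply mem_chainStab_of_pow n K hmono hcard hinv _ k
    have : (γ * q * γ⁻¹) ^ (p ^ k) = 1 := by
      rw [conj_pow, hk', mul_one, mul_inv_cancel]
    exact_mod_cast congrArg Subtype.val this
  have hmap_le : P.map (QuotientGroup.mk' N₀) ≤ Cfsg.pCore p (Γ ⧸ N₀) :=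
    Cfsg.Agent.Helper4.le_pCore _ (hPn.map _ (QuotientGroup.mk'_surjective N₀))
      (hPp.map (QuotientGroup.mk' N₀))
  rw [hbot, le_bot_iff] at hmap_le
  haveI : Finite (Γ ⧸ N₀) := inferInstance
  obtain ⟨x, hx⟩ := exists_prime_orderOf_dvd_card' p hdvd
  obtain ⟨γ, rfl⟩ := QuotientGroup.mk_surjective x
  haveI : Finite Γ := inferInstance
  have hpos : 0 < orderOf γ := orderOf_pos γ
  obtain ⟨a, m, hm', hm⟩ := Nat.exists_eq_pow_mul_and_not_dvd hpos.ne' p hp.out.ne_one
  have hδ : (γ ^ m) ^ (p ^ a) = 1 := by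
    rw [← pow_mul, mul_comm, ← hm, pow_orderOf_eq_one]
  have hδC : ((γ ^ m : Γ) : MulAut H) ∈ chainStab n K hmono := by
    apply mem_chainStab_of_pow n K hmono hcard hinv _ a
    exact_mod_cast congrArg Subtype.val hδ
  have hδP : γ ^ m ∈ P := hδC
  have h1 : QuotientGroup.mk' N₀ (γ ^ m) ∈ P.map (QuotientGroup.mk' N₀) :=
    Subgroup.mem_map_of_mem _ hδP
  rw [hmap_le, Subgroup.mem_bot, map_pow] at h1
  have h2 : orderOf ((QuotientGroup.mk' N₀) γ) ∣ m := orderOf_dvd_of_pow_eq_one h1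
  have h3 : orderOf ((QuotientGroup.mk' N₀) γ) = p := hx
  rw [h3] at h2
  exact hm' h2

/-- The `p⁴` instance: a characteristic chain `K₁ < K₂ < K₃` of orders `p, p², p³`. -/
def HasCharChain4 (p : ℕ) (H : Type*) [Group H] : Prop :=
  ∃ K₁ K₂ K₃ : Subgroup H, K₁ ≤ K₂ ∧ K₂ ≤ K₃ ∧ Nat.card K₁ = p ∧ Nat.card K₂ = p ^ 2 ∧
    Nat.card K₃ = p ^ 3 ∧
    (∀ β : MulAut H, ∀ y ∈ K₁, β y ∈ K₁) ∧ (∀ β : MulAut H, ∀ y ∈ K₂, β y ∈ K₂) ∧
    (∀ β : MulAut H, ∀ y ∈ K₃, β y ∈ K₃)

theorem pCore_ne_bot4 (hH : Nat.card H = p ^ 4) (hc : HasCharChain4 p H)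
    (Γ : Subgroup (MulAut H)) (N₀ : Subgroup Γ) [N₀.Normal]
    (hdvd : p ∣ Nat.card (Γ ⧸ N₀)) : Cfsg.pCore p (Γ ⧸ N₀) ≠ ⊥ := by
  obtain ⟨K₁, K₂, K₃, h12, h23, c1, c2, c3, i1, i2, i3⟩ := hc
  let K : ℕ → Subgroup H := fun i =>
    match i with
    | 0 => ⊥
    | 1 => K₁
    | 2 => K₂
    | 3 => K₃
    | _ => ⊤
  have hmono : ∀ i < 4, K i ≤ K (i + 1) := by
    intro i hi
    interval_cases i
    · exact bot_le
    · exact h12
    · exact h23
    · exact le_top
  have hcard : ∀ i ≤ 4, Nat.card (K i) = p ^ i := by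
    intro i hi
    interval_cases i
    · show Nat.card (⊥ : Subgroup H) = p ^ 0
      simp
    · show Nat.card K₁ = p ^ 1
      rw [c1, pow_one]
    · exact c2
    · exact c3
    · show Nat.card (⊤ : Subgroup H) = p ^ 4
      rw [Subgroup.card_top, hH]
  have hinv : ∀ β : MulAut H, ∀ i ≤ 4, ∀ y ∈ K i, β y ∈ K i := by
    intro β i hi
    interval_cases i
    · intro y hy
      have hy' : y = 1 := (Subgroup.mem_bot).1 hy
      show β y ∈ (⊥ : Subgroup H)
      rw [hy', map_one]; exact Subgroup.one_mem _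
    · exact i1 β
    · exact i2 β
    · exact i3 β
    · intro y _; exact Subgroup.mem_top _
  exact pCore_ne_bot 4 K hmono rfl rfl hcard hinv Γ N₀ hdvd

end Cfsg.Agent.Helper4.P4A
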