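import Mathlib
import Cfsg.Agent.Helper1.PGroup
import Cfsg.Agent.Helper4.P4B

set_option autoImplicit false

/-!
Abelian groups of order `p⁴`: elementary abelian, or `C_{p²} × C_p × C_p`, or of rank at most two.
-/

namespace Cfsg.Agent.Helper4.P4C

open Cfsg.Agent.Helper4.P4B

variable {p : ℕ} [hp : Fact p.Prime]

/-- Three independent cyclic subgroups of a commutative group whose orders multiply to the order
of the group give a decomposition. -/
theorem nonempty_mulEquiv_three {H : Type*} [CommGroup H] [Finite H] (x y z : H) (n1 n2 n3 : ℕ)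
    (h1 : Nat.card (Subgroup.zpowers x) = n1) (h2 : Nat.card (Subgroup.zpowers y) = n2)
    (h3 : Nat.card (Subgroup.zpowers z) = n3)
    (hd1 : Subgroup.zpowers y ⊓ Subgroup.zpowers x = ⊥)
    (hd2 : Subgroup.zpowers z ⊓ (Subgroup.zpowers y ⊔ Subgroup.zpowers x) = ⊥)
    (hcard : n1 * n2 * n3 = Nat.card H) :
    Nonempty (H ≃* Multiplicative (ZMod n1 × ZMod n2 × ZMod n3)) := by
  let g : Subgroup.zpowers x × Subgroup.zpowers y × Subgroup.zpowers z →* H :=
    MonoidHom.coprod (Subgroup.zpowers x).subtype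
      (MonoidHom.coprod (Subgroup.zpowers y).subtype (Subgroup.zpowers z).subtype)
  have hg : ∀ a b c, g (a, b, c) = (a : H) * ((b : H) * (c : H)) := fun a b c => rfl
  have hinj : Function.Injective g := by
    rw [injective_iff_map_eq_one]
    rintro ⟨a, b, c⟩ habc
    rw [hg] at habc
    have hab : (b : H) * (a : H) ∈ Subgroup.zpowers y ⊔ Subgroup.zpowers x :=
      Subgroup.mul_mem_sup b.2 a.2
    have hc : (c : H) = ((b : H) * (a : H))⁻¹ := by
      rw [eq_inv_iff_mul_eq_one, ← habc]
      rw [mul_comm (c : H), mul_comm (b : H) (a : H), mul_assoc]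
    have hc1 : (c : H) ∈ Subgroup.zpowers z ⊓ (Subgroup.zpowers y ⊔ Subgroup.zpowers x) :=
      ⟨c.2, by rw [hc]; exact Subgroup.inv_mem _ hab⟩
    rw [hd2, Subgroup.mem_bot] at hc1
    rw [hc1, mul_one] at habc
    have hb : (b : H) = (a : H)⁻¹ := by
      rw [eq_inv_iff_mul_eq_one, mul_comm]; exact habc
    have hb1 : (b : H) ∈ Subgroup.zpowers y ⊓ Subgroup.zpowers x :=
      ⟨b.2, by rw [hb]; exact Subgroup.inv_mem _ a.2⟩
    rw [hd1, Subgroup.mem_bot] at hb1
    rw [hb1, mul_one] at habc
    have ea : a = 1 := Subtype.ext habc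
    have eb : b = 1 := Subtype.ext hb1
    have ec : c = 1 := Subtype.ext hc1
    rw [ea, eb, ec]
    rfl
  have hbij : Function.Bijective g := by
    rw [Nat.bijective_iff_injective_and_card]
    refine ⟨hinj, ?_⟩
    rw [Nat.card_prod, Nat.card_prod, h1, h2, h3, ← hcard, mul_assoc]
  obtain ⟨e1⟩ := nonempty_mulEquiv_zmod (G := Subgroup.zpowers x) n1 h1
  obtain ⟨e2⟩ := nonempty_mulEquiv_zmod (G := Subgroup.zpowers y) n2 h2
  obtain ⟨e3⟩ := nonempty_mulEquiv_zmod (G := Subgroup.zpowers z) n3 h3
  refine ⟨(MulEquiv.ofBijective g hbij).symm.trans ?_⟩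
  refine (MulEquiv.prodCongr e1 (MulEquiv.prodCongr e2 e3)).trans ?_
  refine (MulEquiv.prodCongr (MulEquiv.refl _) (MulEquiv.prodMultiplicative _ _).symm).trans ?_
  exact (MulEquiv.prodMultiplicative _ _).symm

theorem abelian_case4 {H : Type*} [Group H] [Finite H] (hcard : Nat.card H = p ^ 4)
    (hcomm : ∀ a b : H, a * b = b * a) :
    (∀ x : H, x ^ p = 1) ∨ Nonempty (H ≃* Multiplicative (ZMod (p ^ 2) × ZMod p × ZMod p)) ∨
      (frattini H).index ≤ p ^ 2 := by
  letI : CommGroup H := { ‹Group H› with mul_comm := hcomm }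
  have hpos : 0 < p := hp.out.pos
  have hP : IsPGroup p H := IsPGroup.of_card hcard
  let f : H →* H := powMonoidHom p
  have hfx : ∀ x : H, f x = x ^ p := fun x => rfl
  have hmemker : ∀ x : H, x ∈ f.ker ↔ x ^ p = 1 := fun x => by rw [MonoidHom.mem_ker, hfx]
  have hprod : Nat.card f.ker * Nat.card f.range = p ^ 4 := by
    rw [← Subgroup.index_ker, Subgroup.card_mul_index, hcard]
  have hdvd : Nat.card f.ker ∣ p ^ 4 := Dvd.intro _ hprod
  obtain ⟨k, hk4, hk⟩ := (Nat.dvd_prime_pow hp.out).1 hdvd
  have hrange : Nat.card f.range = p ^ (4 - k) := by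
    rw [hk] at hprod
    have h3 : p ^ 4 = p ^ k * p ^ (4 - k) := by rw [← pow_add]; congr 1; omega
    rw [h3] at hprod
    exact Nat.eq_of_mul_eq_mul_left (pow_pos hpos k) hprod
  by_cases hk2 : k ≤ 2
  · -- rank at most two
    right; right
    have hle : f.range ≤ frattini H := by
      rintro _ ⟨x, rfl⟩
      rw [hfx]
      exact Cfsg.Agent.Helper1.IsPGroup.pow_mem_frattini hP x
    have h1 : (frattini H).index ∣ f.range.index := Subgroup.index_dvd_of_le hle
    have h2 : f.range.index = p ^ k := by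
      have := Subgroup.card_mul_index f.range
      rw [hrange, hcard] at this
      have h3 : p ^ 4 = p ^ (4 - k) * p ^ k := by rw [← pow_add]; congr 1; omega
      rw [h3] at this
      exact Nat.eq_of_mul_eq_mul_left (pow_pos hpos _) this
    rw [h2] at h1
    calc (frattini H).index ≤ p ^ k := Nat.le_of_dvd (pow_pos hpos k) h1
      _ ≤ p ^ 2 := Nat.pow_le_pow_right hpos hk2
  · have hk34 : k = 3 ∨ k = 4 := by omega
    rcases hk34 with rfl | rfl
    · -- the case C_{p²} × C_p × C_p
      right; left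
      have hrange' : Nat.card f.range = p := by rw [hrange]; norm_num
      -- an element outside the kernel
      have hnetop : f.ker ≠ ⊤ := by
        intro h
        have : Nat.card f.ker = p ^ 4 := by rw [h, Subgroup.card_top, hcard]
        rw [hk] at this
        exact absurd (Nat.pow_right_injective hp.out.two_le this) (by norm_num)
      obtain ⟨x, hx⟩ : ∃ x : H, x ∉ f.ker := by
        by_contra hcon
        push Not at hcon
        exact hnetop (eq_top_iff.2 fun x _ => hcon x)
      have hxp : ¬ x ^ p ^ 1 = 1 := by rw [pow_one]; exact fun h => hx ((hmemker x).2 h)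
      have hxpp : x ^ p ^ (1 + 1) = 1 := by
        have h1 : (⟨f x, ⟨x, rfl⟩⟩ : f.range) ^ p = 1 := by
          rw [← hrange']; exact pow_card_eq_one'
        have h2 := congrArg Subtype.val h1
        rw [Subgroup.coe_pow, Subgroup.coe_one] at h2
        change (x ^ p) ^ p = 1 at h2
        rw [pow_succ, pow_one, pow_mul]; exact h2
      have hordx : orderOf x = p ^ 2 := orderOf_eq_prime_pow hxp hxpp
      have hA1 : Nat.card (Subgroup.zpowers x) = p ^ 2 := by rw [Nat.card_zpowers, hordx]
      -- y in the kernel outside ⟨x⟩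
      obtain ⟨y, hyk, hyA⟩ : ∃ y : H, y ∈ f.ker ∧ y ∉ Subgroup.zpowers x := by
        by_contra hcon
        push Not at hcon
        have hle : f.ker ≤ Subgroup.zpowers x := fun y hy => hcon y hy
        have := Subgroup.card_le_of_le hle
        rw [hk, hA1] at this
        exact absurd ((Nat.pow_le_pow_iff_right hp.out.one_lt).1 this) (by norm_num)
      have hyp : y ^ p = 1 := (hmemker y).1 hyk
      have hy1 : y ≠ 1 := fun h => hyA (h ▸ Subgroup.one_mem _)
      have hd1 : Subgroup.zpowers y ⊓ Subgroup.zpowers x = ⊥ := zpowers_inf_eq_bot y hyp _ hyA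
      have hA2 : Nat.card (Subgroup.zpowers y ⊔ Subgroup.zpowers x : Subgroup H) = p ^ 3 := by
        rw [card_sup_of_disjoint _ _ hd1, hA1, card_zpowers_of_pow y hyp hy1]; ring
      -- z in the kernel outside ⟨y, x⟩
      obtain ⟨z, hzk, hzA⟩ : ∃ z : H, z ∈ f.ker ∧ z ∉ Subgroup.zpowers y ⊔ Subgroup.zpowers x := by
        by_contra hcon
        push Not at hcon
        have hle : f.ker ≤ Subgroup.zpowers y ⊔ Subgroup.zpowers x := fun y hy => hcon y hy
        have heq := Subgroup.eq_of_le_of_card_ge hle (by rw [hk, hA2])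
        apply hx
        rw [heq]
        exact (le_sup_right : Subgroup.zpowers x ≤ _) (Subgroup.mem_zpowers x)
      have hzp : z ^ p = 1 := (hmemker z).1 hzk
      have hz1 : z ≠ 1 := fun h => hzA (h ▸ Subgroup.one_mem _)
      have hd2 : Subgroup.zpowers z ⊓ (Subgroup.zpowers y ⊔ Subgroup.zpowers x) = ⊥ :=
        zpowers_inf_eq_bot z hzp _ hzA
      exact nonempty_mulEquiv_three x y z (p ^ 2) p p hA1 (card_zpowers_of_pow y hyp hy1)
        (card_zpowers_of_pow z hzp hz1) hd1 hd2 (by rw [hcard]; ring)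
    · left
      have htop : f.ker = ⊤ := by
        apply Subgroup.eq_top_of_card_eq
        rw [hk, hcard]
      intro x
      rw [← hmemker, htop]
      trivial

end Cfsg.Agent.Helper4.P4C
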