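import Mathlib
import Cfsg.Agent.Lead.PCubeExtra
import Cfsg.Agent.Helper4.P4A
import Cfsg.Agent.Helper4.P4B

set_option autoImplicit false

/-!
Non-abelian groups of order `p⁴` with centre of order `p` have a characteristic chain
`Z < Z₂ < C(Z₂)`.
-/

namespace Cfsg.Agent.Helper4.P4D

open scoped commutatorElement
open Cfsg.Agent.Helper4.P4B Cfsg.Agent.Helper4.P4A

universe u

variable {p : ℕ} [hp : Fact p.Prime] {H : Type u} [Group H] [Finite H]

/-- The centralizer of a non-central element of the second centre has index `p`. -/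
theorem card_centralizer (hcard : Nat.card H = p ^ 4) (hZ : Nat.card (Subgroup.center H) = p)
    (d : H) (hd : ∀ g : H, ⁅d, g⁆ ∈ Subgroup.center H) (hdZ : d ∉ Subgroup.center H) :
    Nat.card (Subgroup.centralizer {d}) = p ^ 3 := by
  have h1 := index_centralizer_dvd d hd
  rw [hZ] at h1
  have h2 : (Subgroup.centralizer {d}).index = p := by
    rcases (Nat.dvd_prime hp.out).1 h1 with h | h
    · exact absurd (Subgroup.index_eq_one.1 h) (centralizer_ne_top d hdZ)
    · exact h
  have h3 := Subgroup.card_mul_index (Subgroup.centralizer {d})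
  rw [h2, hcard] at h3
  have h4 : p ^ 4 = p ^ 3 * p := by ring
  rw [h4] at h3
  exact Nat.eq_of_mul_eq_mul_right hp.out.pos h3

/-- In class two with centre of order `p`, centralizers of non-central elements are abelian. -/
theorem centralizer_comm (hcard : Nat.card H = p ^ 4) (hZ : Nat.card (Subgroup.center H) = p)
    (hcl : ∀ g h : H, ⁅g, h⁆ ∈ Subgroup.center H) (t : H) (ht : t ∉ Subgroup.center H)
    (u v : H) (hu : u ∈ Subgroup.centralizer {t}) (hv : v ∈ Subgroup.centralizer {t}) :
    u * v = v * u := by
  by_contra hne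
  have hA := card_centralizer hcard hZ t (hcl t) ht
  have hnc : ∃ a b : Subgroup.centralizer ({t} : Set H), a * b ≠ b * a :=
    ⟨⟨u, hu⟩, ⟨v, hv⟩, fun h => hne (congrArg Subtype.val h)⟩
  have hcen := Cfsg.Agent.Lead.PCubeExtra.card_center_of_card_cube hA hnc
  set A := Subgroup.centralizer ({t} : Set H) with hAdef
  let M : Subgroup H := (Subgroup.center A).map A.subtype
  have hM : Nat.card M = p := by
    rw [Subgroup.card_map_of_injective A.subtype_injective, hcen]
  have htA : t ∈ A := by
    rw [hAdef, Subgroup.mem_centralizer_singleton_iff]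
  have hZM : Subgroup.center H ≤ M := by
    intro z hz
    have hzA : z ∈ A := Subgroup.center_le_centralizer _ hz
    refine ⟨⟨z, hzA⟩, ?_, rfl⟩
    rw [SetLike.mem_coe, Subgroup.mem_center_iff]
    intro g
    apply Subtype.ext
    exact Subgroup.mem_center_iff.1 hz g
  have htM : t ∈ M := by
    refine ⟨⟨t, htA⟩, ?_, rfl⟩
    rw [SetLike.mem_coe, Subgroup.mem_center_iff]
    intro g
    apply Subtype.ext
    have hg : (g : H) ∈ Subgroup.centralizer ({t} : Set H) := g.2
    rw [Subgroup.mem_centralizer_singleton_iff] at hg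
    exact hg
  have heq : Subgroup.center H = M := Subgroup.eq_of_le_of_card_ge hZM (by rw [hM, hZ])
  exact ht (heq ▸ htM)

/-- A group of order `p⁴` with centre of order `p` does not have class two. -/
theorem not_class_two (hcard : Nat.card H = p ^ 4) (hZ : Nat.card (Subgroup.center H) = p)
    (hnc : ∃ a b : H, a * b ≠ b * a) : ¬ ∀ g h : H, ⁅g, h⁆ ∈ Subgroup.center H := by
  intro hcl
  obtain ⟨a, b, hab⟩ := hnc
  have haZ : a ∉ Subgroup.center H := fun h => hab (Subgroup.mem_center_iff.1 h b).symm
  have hbZ : b ∉ Subgroup.center H := fun h => hab (Subgroup.mem_center_iff.1 h a)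
  set T := Subgroup.centralizer ({a} : Set H) ⊓ Subgroup.centralizer ({b} : Set H) with hT
  have hidx : T.index ≤ p * p := by
    have h1 := Subgroup.index_inf_le (H := Subgroup.centralizer ({a} : Set H))
      (K := Subgroup.centralizer ({b} : Set H))
    have ha := card_centralizer hcard hZ a (hcl a) haZ
    have hb := card_centralizer hcard hZ b (hcl b) hbZ
    have ia : (Subgroup.centralizer ({a} : Set H)).index = p := by
      have := Subgroup.card_mul_index (Subgroup.centralizer ({a} : Set H))
      rw [ha, hcard] at this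
      have h4 : p ^ 4 = p ^ 3 * p := by ring
      rw [h4] at this
      exact Nat.eq_of_mul_eq_mul_left (pow_pos hp.out.pos 3) this
    have ib : (Subgroup.centralizer ({b} : Set H)).index = p := by
      have := Subgroup.card_mul_index (Subgroup.centralizer ({b} : Set H))
      rw [hb, hcard] at this
      have h4 : p ^ 4 = p ^ 3 * p := by ring
      rw [h4] at this
      exact Nat.eq_of_mul_eq_mul_left (pow_pos hp.out.pos 3) this
    rw [ia, ib] at h1
    exact h1
  have hTcard : p ^ 2 ≤ Nat.card T := by
    have h1 := Subgroup.card_mul_index T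
    rw [hcard] at h1
    by_contra hcon
    push Not at hcon
    have : Nat.card T * T.index < p ^ 2 * (p * p) := by
      apply Nat.mul_lt_mul_of_lt_of_le hcon hidx (Nat.mul_pos hp.out.pos hp.out.pos)
    rw [h1] at this
    have h4 : p ^ 2 * (p * p) = p ^ 4 := by ring
    rw [h4] at this
    exact lt_irrefl _ this
  obtain ⟨t, htT, htZ⟩ : ∃ t ∈ T, t ∉ Subgroup.center H := by
    by_contra hcon
    push Not at hcon
    have hle : T ≤ Subgroup.center H := hcon
    have := Subgroup.card_le_of_le hle
    rw [hZ] at this
    have h2 : p ^ 2 ≤ p ^ 1 := by rw [pow_one]; exact le_trans hTcard this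
    exact absurd ((Nat.pow_le_pow_iff_right hp.out.one_lt).1 h2) (by norm_num)
  have hta : a ∈ Subgroup.centralizer ({t} : Set H) := by
    rw [Subgroup.mem_centralizer_singleton_iff]
    have := (Subgroup.mem_inf.1 htT).1
    rw [Subgroup.mem_centralizer_singleton_iff] at this
    exact this.symm
  have htb : b ∈ Subgroup.centralizer ({t} : Set H) := by
    rw [Subgroup.mem_centralizer_singleton_iff]
    have := (Subgroup.mem_inf.1 htT).2
    rw [Subgroup.mem_centralizer_singleton_iff] at this
    exact this.symm
  exact hab (centralizer_comm hcard hZ hcl t htZ a b hta htb)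

/-- The chain for centre of order `p`. -/
theorem chain_of_center_card_p (hcard : Nat.card H = p ^ 4)
    (hZ : Nat.card (Subgroup.center H) = p) (hnc : ∃ a b : H, a * b ≠ b * a) :
    HasCharChain4 p H := by
  have hpos : 0 < p := hp.out.pos
  have hncl := not_class_two hcard hZ hnc
  -- the quotient by the centre
  have hQcard : Nat.card (H ⧸ Subgroup.center H) = p ^ 3 := by
    rw [← Subgroup.index_eq_card]
    have := Subgroup.card_mul_index (Subgroup.center H)
    rw [hZ, hcard] at this
    have h4 : p ^ 4 = p * p ^ 3 := by ring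
    rw [h4] at this
    exact Nat.eq_of_mul_eq_mul_left hpos this
  have hQnc : ∃ a b : H ⧸ Subgroup.center H, a * b ≠ b * a := by
    by_contra hcon
    push Not at hcon
    apply hncl
    intro g h
    rw [← QuotientGroup.eq_one_iff, commutatorElement_def]
    simp only [QuotientGroup.mk_mul, QuotientGroup.mk_inv]
    rw [hcon (g : H ⧸ Subgroup.center H) (h : H ⧸ Subgroup.center H)]
    group
  have hZQ := Cfsg.Agent.Lead.PCubeExtra.card_center_of_card_cube hQcard hQnc
  set K2 := Subgroup.upperCentralSeries H 2 with hK2
  have hK2eq : K2 = (Subgroup.center (H ⧸ Subgroup.center H)).comap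
      (QuotientGroup.mk' (Subgroup.center H)) := by
    rw [hK2, ← Subgroup.upperCentralSeries_one (H ⧸ Subgroup.center H)]
    exact (Subgroup.comap_upperCentralSeries_quotient_center 1).symm
  have hK2idx : K2.index = p ^ 2 := by
    rw [hK2eq, Subgroup.index_comap_of_surjective _ (QuotientGroup.mk'_surjective _)]
    have := Subgroup.card_mul_index (Subgroup.center (H ⧸ Subgroup.center H))
    rw [hZQ, hQcard] at this
    have h4 : p ^ 3 = p * p ^ 2 := by ring
    rw [h4] at this
    exact Nat.eq_of_mul_eq_mul_left hpos this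
  have hK2card : Nat.card K2 = p ^ 2 := by
    have := Subgroup.card_mul_index K2
    rw [hK2idx, hcard] at this
    have h4 : p ^ 4 = p ^ 2 * p ^ 2 := by ring
    rw [h4] at this
    exact Nat.eq_of_mul_eq_mul_right (pow_pos hpos 2) this
  have hZK2 : Subgroup.center H ≤ K2 := by
    rw [hK2, ← Subgroup.upperCentralSeries_one H]
    exact Subgroup.upperCentralSeries_mono H (by norm_num)
  have hmemK2 : ∀ d ∈ K2, ∀ g : H, ⁅d, g⁆ ∈ Subgroup.center H := by
    intro d hd g
    have := (Subgroup.mem_upperCentralSeries_succ_iff (G := H) (n := 1) (x := d)).1 hd g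
    rw [Subgroup.upperCentralSeries_one] at this
    exact this
  -- an element of `K2` outside the centre
  obtain ⟨d, hdK, hdZ⟩ : ∃ d ∈ K2, d ∉ Subgroup.center H := by
    by_contra hcon
    push Not at hcon
    have hle : K2 ≤ Subgroup.center H := hcon
    have := Subgroup.card_le_of_le hle
    rw [hZ, hK2card] at this
    have h2 : p ^ 2 ≤ p ^ 1 := by rw [pow_one]; exact this
    exact absurd ((Nat.pow_le_pow_iff_right hp.out.one_lt).1 h2) (by norm_num)
  have hCd := card_centralizer hcard hZ d (hmemK2 d hdK) hdZ
  -- `K2 = Z ⊔ ⟨d⟩`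
  have hK2sup : Subgroup.center H ⊔ Subgroup.zpowers d = K2 := by
    apply Subgroup.eq_of_le_of_card_ge (sup_le hZK2 (Subgroup.zpowers_le.2 hdK))
    rw [hK2card]
    have hlt : Subgroup.center H < Subgroup.center H ⊔ Subgroup.zpowers d := by
      apply lt_of_le_of_ne le_sup_left
      intro h
      apply hdZ
      rw [h]
      exact (le_sup_right : Subgroup.zpowers d ≤ _) (Subgroup.mem_zpowers d)
    have := card_pow_of_lt hcard hlt (i := 1) (by rw [pow_one, hZ])
    exact this
  set K3 := Subgroup.centralizer (K2 : Set H) with hK3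
  have hK3eq : K3 = Subgroup.centralizer {d} := by
    apply le_antisymm
    · apply Subgroup.centralizer_le
      intro x hx
      rw [Set.mem_singleton_iff] at hx
      rw [hx]; exact hdK
    · intro g hg
      rw [hK3, Subgroup.mem_centralizer_iff]
      have hle : K2 ≤ Subgroup.centralizer {g} := by
        rw [← hK2sup]
        apply sup_le (Subgroup.center_le_centralizer _)
        rw [Subgroup.zpowers_le, Subgroup.mem_centralizer_singleton_iff]
        rw [Subgroup.mem_centralizer_singleton_iff] at hg
        exact hg.symm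
      intro k hk
      have := hle hk
      rw [Subgroup.mem_centralizer_singleton_iff] at this
      exact this
  have hK3card : Nat.card K3 = p ^ 3 := by rw [hK3eq]; exact hCd
  have hK23 : K2 ≤ K3 := by
    have hc : IsMulCommutative K2 := IsPGroup.isMulCommutative_of_card_eq_prime_sq hK2card
    intro x hx
    rw [hK3, Subgroup.mem_centralizer_iff]
    intro k hk
    have := hc.is_comm.comm (⟨k, hk⟩ : K2) ⟨x, hx⟩
    exact congrArg Subtype.val this
  refine ⟨Subgroup.center H, K2, K3, hZK2, hK23, hZ, hK2card, hK3card, ?_, ?_, ?_⟩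
  · intro β y hy
    exact char_inv _ β y hy
  · intro β y hy
    exact char_inv _ β y hy
  · intro β y hy
    rw [hK3, Subgroup.mem_centralizer_iff] at hy ⊢
    intro k hk
    have hk' : β⁻¹ k ∈ K2 := char_inv K2 β⁻¹ k hk
    have := hy _ hk'
    have h2 := congrArg β this
    rw [map_mul, map_mul] at h2
    simpa using h2

end Cfsg.Agent.Helper4.P4D
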