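import Mathlib
import Cfsg.Agent.Helper4.P4A
import Cfsg.Agent.Helper4.P4B

set_option autoImplicit false

/-!
Non-abelian groups of order `p⁴` with centre of order `p²`: class two, derived group of order `p`,
and either a characteristic chain `H' < Z < {x | x^p ∈ H'}` or all `p`-th powers lie in `H'`.
-/

namespace Cfsg.Agent.Helper4.P4E

open scoped commutatorElement
open Cfsg.Agent.Helper4.P4B Cfsg.Agent.Helper4.P4A

universe u

variable {p : ℕ} [hp : Fact p.Prime] {H : Type u} [Group H] [Finite H]

omit [Finite H] in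
theorem card_quot_center (hcard : Nat.card H = p ^ 4) (hZ : Nat.card (Subgroup.center H) = p ^ 2) :
    Nat.card (H ⧸ Subgroup.center H) = p ^ 2 := by
  rw [← Subgroup.index_eq_card]
  have := Subgroup.card_mul_index (Subgroup.center H)
  rw [hZ, hcard] at this
  have h4 : p ^ 4 = p ^ 2 * p ^ 2 := by ring
  rw [h4] at this
  exact Nat.eq_of_mul_eq_mul_left (pow_pos hp.out.pos 2) this

/-- commutators are central -/
theorem comm_mem_center (hcard : Nat.card H = p ^ 4) (hZ : Nat.card (Subgroup.center H) = p ^ 2)
    (g h : H) : ⁅g, h⁆ ∈ Subgroup.center H := by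
  have hq := card_quot_center hcard hZ
  have hc : IsMulCommutative (H ⧸ Subgroup.center H) :=
    IsPGroup.isMulCommutative_of_card_eq_prime_sq hq
  rw [← QuotientGroup.eq_one_iff, commutatorElement_def]
  simp only [QuotientGroup.mk_mul, QuotientGroup.mk_inv]
  rw [hc.is_comm.comm (g : H ⧸ Subgroup.center H) (h : H ⧸ Subgroup.center H)]
  group

/-- `p`-th powers are central -/
theorem pow_mem_center (hcard : Nat.card H = p ^ 4) (hZ : Nat.card (Subgroup.center H) = p ^ 2)
    (hnc : ∃ a b : H, a * b ≠ b * a) (x : H) : x ^ p ∈ Subgroup.center H := by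
  have hq := card_quot_center hcard hZ
  rw [← QuotientGroup.eq_one_iff, QuotientGroup.mk_pow]
  have hdvd : orderOf (x : H ⧸ Subgroup.center H) ∣ p ^ 2 := by
    rw [← hq]; exact orderOf_dvd_natCard _
  obtain ⟨k, hk2, hk⟩ := (Nat.dvd_prime_pow hp.out).1 hdvd
  have hk1 : k ≤ 1 := by
    by_contra hcon
    have hk2' : k = 2 := by omega
    rw [hk2', ← hq] at hk
    have : IsCyclic (H ⧸ Subgroup.center H) := isCyclic_of_orderOf_eq_card _ hk
    have hcm := MonoidHom.isMulCommutative_of_isCyclic_of_ker_le_center
      (QuotientGroup.mk' (Subgroup.center H)) (by rw [QuotientGroup.ker_mk'])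
    obtain ⟨a, b, hab⟩ := hnc
    exact hab (hcm.is_comm.comm a b)
  apply orderOf_dvd_iff_pow_eq_one.1
  rw [hk]
  calc p ^ k ∣ p ^ 1 := pow_dvd_pow p hk1
    _ = p := pow_one p

/-- commutators have order dividing `p` -/
theorem comm_pow (hcard : Nat.card H = p ^ 4) (hZ : Nat.card (Subgroup.center H) = p ^ 2)
    (hnc : ∃ a b : H, a * b ≠ b * a) (g h : H) : ⁅g, h⁆ ^ p = 1 := by
  have h1 : ⁅g, h⁆ ^ p = commHom g (comm_mem_center hcard hZ g) (h ^ p) := by
    rw [map_pow]; rfl
  rw [h1, commHom_apply, commutatorElement_eq_one_iff_commute]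
  have := pow_mem_center hcard hZ hnc h
  exact (Subgroup.mem_center_iff.1 this g)

/-- generation by the centre and two non-commuting elements -/
theorem eq_top_of_mem (hcard : Nat.card H = p ^ 4) (hZ : Nat.card (Subgroup.center H) = p ^ 2)
    (a b : H) (hab : a * b ≠ b * a) (M : Subgroup H) (hZM : Subgroup.center H ≤ M)
    (ha : a ∈ M) (hb : b ∈ M) : M = ⊤ := by
  have haZ : a ∉ Subgroup.center H := fun h => hab (Subgroup.mem_center_iff.1 h b).symm
  have h1 : Subgroup.center H < Subgroup.center H ⊔ Subgroup.zpowers a := by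
    apply lt_of_le_of_ne le_sup_left
    intro h
    apply haZ
    rw [h]
    exact (le_sup_right : Subgroup.zpowers a ≤ _) (Subgroup.mem_zpowers a)
  have hc1 := card_pow_of_lt hcard h1 (i := 2) (by rw [hZ])
  have hle : Subgroup.center H ⊔ Subgroup.zpowers a ≤ Subgroup.centralizer {a} := by
    apply sup_le (Subgroup.center_le_centralizer _)
    rw [Subgroup.zpowers_le, Subgroup.mem_centralizer_singleton_iff]
  have hb1 : b ∉ Subgroup.center H ⊔ Subgroup.zpowers a := by
    intro h
    have := hle h
    rw [Subgroup.mem_centralizer_singleton_iff] at this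
    exact hab this.symm
  have h2 : Subgroup.center H ⊔ Subgroup.zpowers a <
      (Subgroup.center H ⊔ Subgroup.zpowers a) ⊔ Subgroup.zpowers b := by
    apply lt_of_le_of_ne le_sup_left
    intro h
    apply hb1
    rw [h]
    exact (le_sup_right : Subgroup.zpowers b ≤ _) (Subgroup.mem_zpowers b)
  have hc2 := card_pow_of_lt hcard h2 (i := 3) hc1
  have hle2 : (Subgroup.center H ⊔ Subgroup.zpowers a) ⊔ Subgroup.zpowers b ≤ M :=
    sup_le (sup_le hZM (Subgroup.zpowers_le.2 ha)) (Subgroup.zpowers_le.2 hb)
  apply eq_top_of_card_ge hcard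
  exact le_trans hc2 (Subgroup.card_le_of_le hle2)

/-- all commutators are powers of one -/
theorem comm_mem_zpowers (hcard : Nat.card H = p ^ 4) (hZ : Nat.card (Subgroup.center H) = p ^ 2)
    (a b : H) (hab : a * b ≠ b * a) (g h : H) : ⁅g, h⁆ ∈ Subgroup.zpowers ⁅a, b⁆ := by
  have hcl := comm_mem_center hcard hZ
  have hZker : ∀ x : H, Subgroup.center H ≤
      (Subgroup.zpowers ⁅a, b⁆).comap (commHom x (hcl x)) := by
    intro x z hz
    rw [Subgroup.mem_comap, commHom_apply]
    have : ⁅x, z⁆ = 1 := by
      rw [commutatorElement_eq_one_iff_commute]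
      exact (Subgroup.mem_center_iff.1 hz x)
    rw [this]; exact Subgroup.one_mem _
  have hself : ∀ x : H, ⁅x, x⁆ = 1 := fun x => commutatorElement_self x
  have hba : ⁅b, a⁆ ∈ Subgroup.zpowers ⁅a, b⁆ := by
    rw [(commutatorElement_inv a b).symm]
    exact Subgroup.inv_mem _ (Subgroup.mem_zpowers _)
  have step1a : ∀ h : H, ⁅a, h⁆ ∈ Subgroup.zpowers ⁅a, b⁆ := by
    intro h
    have htop := eq_top_of_mem hcard hZ a b hab _ (hZker a)
      (by rw [Subgroup.mem_comap, commHom_apply, hself]; exact Subgroup.one_mem _)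
      (by rw [Subgroup.mem_comap, commHom_apply]; exact Subgroup.mem_zpowers _)
    have : h ∈ (Subgroup.zpowers ⁅a, b⁆).comap (commHom a (hcl a)) := by rw [htop]; trivial
    exact this
  have step1b : ∀ h : H, ⁅b, h⁆ ∈ Subgroup.zpowers ⁅a, b⁆ := by
    intro h
    have htop := eq_top_of_mem hcard hZ a b hab _ (hZker b)
      (by rw [Subgroup.mem_comap, commHom_apply]; exact hba)
      (by rw [Subgroup.mem_comap, commHom_apply, hself]; exact Subgroup.one_mem _)
    have : h ∈ (Subgroup.zpowers ⁅a, b⁆).comap (commHom b (hcl b)) := by rw [htop]; trivial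
    exact this
  have htop := eq_top_of_mem hcard hZ a b hab _ (hZker g)
    (by
      rw [Subgroup.mem_comap, commHom_apply, (commutatorElement_inv a g).symm]
      exact Subgroup.inv_mem _ (step1a g))
    (by
      rw [Subgroup.mem_comap, commHom_apply, (commutatorElement_inv b g).symm]
      exact Subgroup.inv_mem _ (step1b g))
  have : h ∈ (Subgroup.zpowers ⁅a, b⁆).comap (commHom g (hcl g)) := by rw [htop]; trivial
  exact this

theorem commutator_eq_zpowers (hcard : Nat.card H = p ^ 4)
    (hZ : Nat.card (Subgroup.center H) = p ^ 2)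
    (a b : H) (hab : a * b ≠ b * a) : commutator H = Subgroup.zpowers ⁅a, b⁆ := by
  apply le_antisymm
  · rw [commutator_def, Subgroup.commutator_le]
    intro g _ h _
    exact comm_mem_zpowers hcard hZ a b hab g h
  · rw [Subgroup.zpowers_le, commutator_def]
    exact Subgroup.commutator_mem_commutator (Subgroup.mem_top a) (Subgroup.mem_top b)

theorem card_commutator (hcard : Nat.card H = p ^ 4) (hZ : Nat.card (Subgroup.center H) = p ^ 2)
    (hnc : ∃ a b : H, a * b ≠ b * a) : Nat.card (commutator H) = p := by
  obtain ⟨a, b, hab⟩ := hnc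
  rw [commutator_eq_zpowers hcard hZ a b hab]
  apply card_zpowers_of_pow _ (comm_pow hcard hZ ⟨a, b, hab⟩ a b)
  intro h
  rw [commutatorElement_eq_one_iff_commute] at h
  exact hab h.eq

theorem commutator_le_center (hcard : Nat.card H = p ^ 4)
    (hZ : Nat.card (Subgroup.center H) = p ^ 2) : commutator H ≤ Subgroup.center H := by
  rw [commutator_def, Subgroup.commutator_le]
  intro g _ h _
  exact comm_mem_center hcard hZ g h

/-- Either a characteristic chain, or all `p`-th powers lie in the derived group. -/
theorem chain_or_pow_mem (hcard : Nat.card H = p ^ 4) (hZ : Nat.card (Subgroup.center H) = p ^ 2)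
    (hnc : ∃ a b : H, a * b ≠ b * a) :
    HasCharChain4 p H ∨ ∀ x : H, x ^ p ∈ commutator H := by
  have hpos : 0 < p := hp.out.pos
  have hD := card_commutator hcard hZ hnc
  have hDZ := commutator_le_center (H := H) hcard hZ
  have hofs : Function.Surjective (Abelianization.of : H → Abelianization H) :=
    fun x => QuotientGroup.mk_surjective x
  have hQ : Nat.card (Abelianization H) = p ^ 3 := by
    have h1 : Nat.card (Abelianization H) = (commutator H).index := (Subgroup.index_eq_card _).symm
    rw [h1]
    have := Subgroup.card_mul_index (commutator H)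
    rw [hD, hcard] at this
    have h4 : p ^ 4 = p * p ^ 3 := by ring
    rw [h4] at this
    exact Nat.eq_of_mul_eq_mul_left hpos this
  let f : Abelianization H →* Abelianization H := powMonoidHom p
  have hfx : ∀ q : Abelianization H, f q = q ^ p := fun q => rfl
  set K3 : Subgroup H := f.ker.comap Abelianization.of with hK3
  have hmem : ∀ x : H, x ∈ K3 ↔ x ^ p ∈ commutator H := by
    intro x
    rw [hK3, Subgroup.mem_comap, MonoidHom.mem_ker, hfx, ← map_pow, ← MonoidHom.mem_ker,
      Abelianization.ker_of]
  -- the image of the centre has order `p`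
  have hZbar : Nat.card ((Subgroup.center H).map Abelianization.of) = p := by
    have h1 := Subgroup.index_map (Subgroup.center H) (Abelianization.of : H →* Abelianization H)
    rw [Abelianization.ker_of, sup_eq_left.2 hDZ, MonoidHom.range_eq_top.2 hofs,
      Subgroup.index_top, mul_one] at h1
    have h2 : (Subgroup.center H).index = p ^ 2 := by
      rw [Subgroup.index_eq_card]; exact card_quot_center hcard hZ
    have h3 := Subgroup.card_mul_index ((Subgroup.center H).map Abelianization.of)
    rw [h1, h2, hQ] at h3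
    have h4 : p ^ 3 = p * p ^ 2 := by ring
    rw [h4] at h3
    exact Nat.eq_of_mul_eq_mul_right (pow_pos hpos 2) h3
  have hrange : f.range ≤ (Subgroup.center H).map Abelianization.of := by
    rintro _ ⟨q, rfl⟩
    obtain ⟨x, rfl⟩ := hofs q
    rw [hfx, ← map_pow]
    exact Subgroup.mem_map_of_mem _ (pow_mem_center hcard hZ hnc x)
  have hidx : K3.index ∣ p := by
    rw [hK3, Subgroup.index_comap_of_surjective _ hofs, Subgroup.index_ker, ← hZbar]
    exact Subgroup.card_dvd_of_le hrange
  have hZK3 : Subgroup.center H ≤ K3 := by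
    intro z hz
    rw [hK3, Subgroup.mem_comap, MonoidHom.mem_ker, hfx]
    have h1 : (⟨Abelianization.of z, Subgroup.mem_map_of_mem _ hz⟩ :
        (Subgroup.center H).map Abelianization.of) ^ p = 1 := by
      rw [← hZbar]; exact pow_card_eq_one'
    have h2 := congrArg Subtype.val h1
    rw [Subgroup.coe_pow, Subgroup.coe_one] at h2
    exact h2
  rcases (Nat.dvd_prime hp.out).1 hidx with h | h
  · right
    intro x
    rw [← hmem, Subgroup.index_eq_one.1 h]
    trivial
  · left
    have hK3card : Nat.card K3 = p ^ 3 := by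
      have := Subgroup.card_mul_index K3
      rw [h, hcard] at this
      have h4 : p ^ 4 = p ^ 3 * p := by ring
      rw [h4] at this
      exact Nat.eq_of_mul_eq_mul_right hpos this
    refine ⟨commutator H, Subgroup.center H, K3, hDZ, hZK3, hD, hZ, hK3card, ?_, ?_, ?_⟩
    · intro β y hy
      exact char_inv _ β y hy
    · intro β y hy
      exact char_inv _ β y hy
    · intro β y hy
      rw [hmem] at hy ⊢
      rw [← map_pow]
      exact char_inv _ β _ hy

end Cfsg.Agent.Helper4.P4E
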