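import Mathlib
import Cfsg.Prelude.Def_Transfer
import Cfsg.Agent.Helper1.Class2
import Cfsg.Agent.Lead.PCubeExtra
import Cfsg.Agent.Helper4.P4E

set_option autoImplicit false

/-!
Non-abelian groups of order `p⁴` with non-cyclic centre of order `p²` all of whose `p`-th powers lie
in the derived group, `p` odd: a characteristic chain or `p^{1+2}_+ × C_p`.
-/

namespace Cfsg.Agent.Helper4.P4F

open scoped commutatorElement
open Cfsg.Agent.Helper4.P4B Cfsg.Agent.Helper4.P4A Cfsg.Agent.Helper4.P4E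

universe u

variable {p : ℕ} [hp : Fact p.Prime] {H : Type u} [Group H] [Finite H]

/-- a non-cyclic group of order `p²` has exponent `p` -/
theorem center_pow (hZ : Nat.card (Subgroup.center H) = p ^ 2)
    (hncyc : ¬ IsCyclic (Subgroup.center H)) (z : H) (hz : z ∈ Subgroup.center H) : z ^ p = 1 := by
  have hdvd : orderOf (⟨z, hz⟩ : Subgroup.center H) ∣ p ^ 2 := by
    rw [← hZ]; exact orderOf_dvd_natCard _
  obtain ⟨k, hk2, hk⟩ := (Nat.dvd_prime_pow hp.out).1 hdvd
  have hk1 : k ≤ 1 := by
    by_contra hcon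
    have hk2' : k = 2 := by omega
    rw [hk2', ← hZ] at hk
    exact hncyc (isCyclic_of_orderOf_eq_card _ hk)
  have h1 : (⟨z, hz⟩ : Subgroup.center H) ^ p = 1 := by
    apply orderOf_dvd_iff_pow_eq_one.1
    rw [hk]
    calc p ^ k ∣ p ^ 1 := pow_dvd_pow p hk1
      _ = p := pow_one p
  exact congrArg Subtype.val h1

/-- centralizers of non-central elements have order `p³` -/
theorem card_centralizer (hcard : Nat.card H = p ^ 4) (hZ : Nat.card (Subgroup.center H) = p ^ 2)
    (w : H) (hw : w ∉ Subgroup.center H) : Nat.card (Subgroup.centralizer {w}) = p ^ 3 := by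
  have h1 : Subgroup.center H < Subgroup.center H ⊔ Subgroup.zpowers w := by
    apply lt_of_le_of_ne le_sup_left
    intro h
    apply hw
    rw [h]
    exact (le_sup_right : Subgroup.zpowers w ≤ _) (Subgroup.mem_zpowers w)
  have hc1 := card_pow_of_lt hcard h1 (i := 2) (by rw [hZ])
  have hle : Subgroup.center H ⊔ Subgroup.zpowers w ≤ Subgroup.centralizer {w} := by
    apply sup_le (Subgroup.center_le_centralizer _)
    rw [Subgroup.zpowers_le, Subgroup.mem_centralizer_singleton_iff]
  have hc2 : p ^ 3 ≤ Nat.card (Subgroup.centralizer {w}) :=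
    le_trans hc1 (Subgroup.card_le_of_le hle)
  obtain ⟨j, hj4, hj⟩ := exists_card_eq hcard (Subgroup.centralizer {w})
  rw [hj] at hc2 ⊢
  have hj3 : 3 ≤ j := (Nat.pow_le_pow_iff_right hp.out.one_lt).1 hc2
  have hjne : j ≠ 4 := by
    intro h
    apply centralizer_ne_top w hw
    apply eq_top_of_card_ge hcard
    rw [hj, h]
  have : j = 3 := by omega
  rw [this]

/-- Direct product decomposition with a non-abelian subgroup of order `p³`. -/
theorem nonempty_mulEquiv_prod (hcard : Nat.card H = p ^ 4)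
    (hZ : Nat.card (Subgroup.center H) = p ^ 2)
    (hexpZ : ∀ z ∈ Subgroup.center H, z ^ p = 1) (E : Subgroup H) (hE : Nat.card E = p ^ 3)
    (a b : H) (ha : a ∈ E) (hb : b ∈ E) (hab : a * b ≠ b * a) :
    Nonempty (H ≃* E × Multiplicative (ZMod p)) := by
  have hncE : ∃ x y : E, x * y ≠ y * x :=
    ⟨⟨a, ha⟩, ⟨b, hb⟩, fun h => hab (congrArg Subtype.val h)⟩
  have hcen := Cfsg.Agent.Lead.PCubeExtra.card_center_of_card_cube hE hncE
  obtain ⟨z0, hz0Z, hz0E⟩ : ∃ z0 ∈ Subgroup.center H, z0 ∉ E := by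
    by_contra hcon
    push Not at hcon
    have hle : Subgroup.center H ≤ E := hcon
    have h1 : (Subgroup.center H).subgroupOf E ≤ Subgroup.center E := by
      intro x hx
      rw [Subgroup.mem_subgroupOf] at hx
      rw [Subgroup.mem_center_iff]
      intro g
      apply Subtype.ext
      exact Subgroup.mem_center_iff.1 hx g
    have h2 := Subgroup.card_le_of_le h1
    rw [hcen, Nat.card_congr (Subgroup.subgroupOfEquivOfLe hle).toEquiv, hZ] at h2
    have h3 : p ^ 2 ≤ p ^ 1 := by rw [pow_one]; exact h2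
    exact absurd ((Nat.pow_le_pow_iff_right hp.out.one_lt).1 h3) (by norm_num)
  have hz0p := hexpZ z0 hz0Z
  have hz01 : z0 ≠ 1 := fun h => hz0E (h ▸ E.one_mem)
  have hdisj : E ⊓ Subgroup.zpowers z0 = ⊥ := by
    rw [inf_comm]; exact zpowers_inf_eq_bot z0 hz0p E hz0E
  have hcz : Nat.card (Subgroup.zpowers z0) = p := card_zpowers_of_pow z0 hz0p hz01
  have hle : Subgroup.zpowers z0 ≤ Subgroup.center H := Subgroup.zpowers_le.2 hz0Z
  obtain ⟨e⟩ := nonempty_prod_mulEquiv E (Subgroup.zpowers z0)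
    (fun x _ y hy => (Subgroup.mem_center_iff.1 (hle hy) x))
    hdisj (by rw [hE, hcz, hcard]; ring)
  obtain ⟨e2⟩ := nonempty_mulEquiv_zmod (G := Subgroup.zpowers z0) p hcz
  exact ⟨e.trans (MulEquiv.prodCongr (MulEquiv.refl _) e2)⟩

/-- every finite group has an isomorphic copy in `Type` -/
theorem exists_small_copy (K : Type u) [Group K] [Finite K] :
    ∃ (E : Type) (_ : Group E) (_ : Finite E), Nonempty (E ≃* K) := by
  obtain ⟨m, ⟨e⟩⟩ := Finite.exists_equiv_fin K
  exact ⟨Fin m, e.symm.group, inferInstance, ⟨@Equiv.mulEquiv _ _ e.symm _⟩⟩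

/-- The odd case. -/
theorem odd_case (hp2 : p ≠ 2) (hcard : Nat.card H = p ^ 4)
    (hZ : Nat.card (Subgroup.center H) = p ^ 2) (hnc : ∃ a b : H, a * b ≠ b * a)
    (hncyc : ¬ IsCyclic (Subgroup.center H)) (hpw : ∀ x : H, x ^ p ∈ commutator H) :
    HasCharChain4 p H ∨
      ∃ (E : Type) (_ : Group E) (_ : Finite E), Cfsg.IsExtraspecial p E ∧ Nat.card E = p ^ 3 ∧
        (∀ x : E, x ^ p = 1) ∧ Nonempty (H ≃* E × Multiplicative (ZMod p)) := by
  have hpos : 0 < p := hp.out.pos
  have hD := card_commutator hcard hZ hnc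
  have hDZ := commutator_le_center (H := H) hcard hZ
  have hexpZ := center_pow hZ hncyc
  have h2 : ⁅commutator H, (⊤ : Subgroup H)⁆ = ⊥ := by
    rw [Subgroup.commutator_eq_bot_iff_le_centralizer, Subgroup.coe_top,
      Subgroup.centralizer_univ]
    exact hDZ
  let φ : H →* H :=
    { toFun := fun x => x ^ p
      map_one' := one_pow p
      map_mul' := fun x y =>
        Cfsg.Agent.Helper1.mul_pow_prime_of_class_two hp2 h2 x y (comm_pow hcard hZ hnc y x) }
  have hφ : ∀ x, φ x = x ^ p := fun x => rfl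
  have hmem : ∀ x : H, x ∈ φ.ker ↔ x ^ p = 1 := fun x => by rw [MonoidHom.mem_ker, hφ]
  have hrange : φ.range ≤ commutator H := by
    rintro _ ⟨x, rfl⟩
    exact hpw x
  have hidx : φ.ker.index ∣ p := by
    rw [Subgroup.index_ker, ← hD]
    exact Subgroup.card_dvd_of_le hrange
  have hZker : Subgroup.center H ≤ φ.ker := fun z hz => (hmem z).2 (hexpZ z hz)
  rcases (Nat.dvd_prime hp.out).1 hidx with h | h
  · -- exponent `p`
    right
    have hexp : ∀ x : H, x ^ p = 1 := by
      intro x
      rw [← hmem, Subgroup.index_eq_one.1 h]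
      trivial
    obtain ⟨a, b, hab⟩ := hnc
    have haZ : a ∉ Subgroup.center H := fun h => hab (Subgroup.mem_center_iff.1 h b).symm
    have haD : a ∉ commutator H := fun h => haZ (hDZ h)
    have hd1 : Subgroup.zpowers a ⊓ commutator H = ⊥ := zpowers_inf_eq_bot a (hexp a) _ haD
    have ha1 : a ≠ 1 := fun h => haD (h ▸ Subgroup.one_mem _)
    set E1 : Subgroup H := Subgroup.zpowers a ⊔ commutator H with hE1
    have hE1card : Nat.card E1 = p ^ 2 := by
      rw [hE1, card_sup_of_disjoint _ _ hd1, hD, card_zpowers_of_pow a (hexp a) ha1]; ring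
    have hE1n : E1.Normal := by
      refine ⟨fun n hn g => ?_⟩
      have h1 : g * n * g⁻¹ = ⁅g, n⁆ * n := by rw [commutatorElement_def]; group
      rw [h1]
      apply E1.mul_mem _ hn
      apply (le_sup_right : commutator H ≤ E1)
      rw [commutator_def]
      exact Subgroup.commutator_mem_commutator (Subgroup.mem_top g) (Subgroup.mem_top n)
    have hE1le : E1 ≤ Subgroup.centralizer {a} := by
      apply sup_le
      · rw [Subgroup.zpowers_le, Subgroup.mem_centralizer_singleton_iff]
      · exact le_trans hDZ (Subgroup.center_le_centralizer _)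
    have hbE1 : b ∉ E1 := by
      intro h
      have := hE1le h
      rw [Subgroup.mem_centralizer_singleton_iff] at this
      exact hab this.symm
    have hb1 : b ≠ 1 := fun h => hbE1 (h ▸ Subgroup.one_mem _)
    have hd2 : Subgroup.zpowers b ⊓ E1 = ⊥ := zpowers_inf_eq_bot b (hexp b) _ hbE1
    set E2 : Subgroup H := Subgroup.zpowers b ⊔ E1 with hE2
    have hE2card : Nat.card E2 = p ^ 3 := by
      rw [hE2, card_sup_of_disjoint _ _ hd2, hE1card, card_zpowers_of_pow b (hexp b) hb1]; ring
    have haE2 : a ∈ E2 :=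
      (le_sup_right : E1 ≤ E2) ((le_sup_left : Subgroup.zpowers a ≤ E1) (Subgroup.mem_zpowers a))
    have hbE2 : b ∈ E2 := (le_sup_left : Subgroup.zpowers b ≤ E2) (Subgroup.mem_zpowers b)
    obtain ⟨e⟩ := nonempty_mulEquiv_prod hcard hZ hexpZ E2 hE2card a b haE2 hbE2 hab
    obtain ⟨E0, grp, fin, ⟨e0⟩⟩ := exists_small_copy E2
    have hE0card : Nat.card E0 = p ^ 3 := by rw [Nat.card_congr e0.toEquiv, hE2card]
    have hE0nc : ∃ x y : E0, x * y ≠ y * x := by
      refine ⟨e0.symm ⟨a, haE2⟩, e0.symm ⟨b, hbE2⟩, fun h => ?_⟩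
      rw [← map_mul, ← map_mul] at h
      exact hab (congrArg Subtype.val (e0.symm.injective h))
    refine ⟨E0, grp, fin, Cfsg.Agent.Lead.PCubeExtra.isExtraspecial_of_card_cube hE0card hE0nc,
      hE0card, ?_, ⟨e.trans (MulEquiv.prodCongr e0.symm (MulEquiv.refl _))⟩⟩
    intro x
    apply e0.injective
    rw [map_pow, map_one]
    apply Subtype.ext
    rw [Subgroup.coe_pow, Subgroup.coe_one]
    exact hexp _
  · -- the chain `H' < Z < Ω`
    left
    have hKcard : Nat.card φ.ker = p ^ 3 := by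
      have := Subgroup.card_mul_index φ.ker
      rw [h, hcard] at this
      have h4 : p ^ 4 = p ^ 3 * p := by ring
      rw [h4] at this
      exact Nat.eq_of_mul_eq_mul_right hpos this
    refine ⟨commutator H, Subgroup.center H, φ.ker, hDZ, hZker, hD, hZ, hKcard, ?_, ?_, ?_⟩
    · intro β y hy
      exact char_inv _ β y hy
    · intro β y hy
      exact char_inv _ β y hy
    · intro β y hy
      rw [hmem] at hy ⊢
      rw [← map_pow, hy, map_one]

end Cfsg.Agent.Helper4.P4F
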