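import Mathlib
import Cfsg.Agent.Helper2.QuatIso
import Cfsg.Agent.Helper4.P4F

set_option autoImplicit false

/-!
Non-abelian groups of order `16` with non-cyclic centre of order `4` all of whose squares lie in the
derived group: a characteristic chain (`D₈ × C₂`) or `Q₈ × C₂`.
-/

namespace Cfsg.Agent.Helper4.P4G

open scoped commutatorElement
open Cfsg.Agent.Helper4.P4B Cfsg.Agent.Helper4.P4A Cfsg.Agent.Helper4.P4E Cfsg.Agent.Helper4.P4F

universe u

variable {H : Type u} [Group H] [Finite H]

omit [Finite H] in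
theorem mem_zpowers_two (c g : H) (hc : c ^ 2 = 1) (hg : g ∈ Subgroup.zpowers c) :
    g = 1 ∨ g = c := by
  obtain ⟨k, rfl⟩ := Subgroup.mem_zpowers_iff.1 hg
  rw [zpow_eq_zpow_emod' k hc]
  rcases Int.emod_two_eq_zero_or_one k with h | h
  · left
    have : k % ((2 : ℕ) : ℤ) = 0 := by exact_mod_cast h
    rw [this, zpow_zero]
  · right
    have : k % ((2 : ℕ) : ℤ) = 1 := by exact_mod_cast h
    rw [this, zpow_one]

omit [Finite H] in
theorem sq_mul (x y : H) (hc : ⁅y, x⁆ ∈ Subgroup.center H) :
    (x * y) ^ 2 = ⁅y, x⁆ * x ^ 2 * y ^ 2 := by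
  have hyx : y * x = ⁅y, x⁆ * x * y := by simp [commutatorElement_def]
  have hcx : x * ⁅y, x⁆ = ⁅y, x⁆ * x := Subgroup.mem_center_iff.1 hc x
  calc (x * y) ^ 2 = x * (y * x) * y := by rw [pow_two]; simp only [mul_assoc]
    _ = x * (⁅y, x⁆ * x * y) * y := by rw [hyx]
    _ = (x * ⁅y, x⁆) * x * y * y := by simp only [mul_assoc]
    _ = (⁅y, x⁆ * x) * x * y * y := by rw [hcx]
    _ = ⁅y, x⁆ * x ^ 2 * y ^ 2 := by rw [pow_two, pow_two]; simp only [mul_assoc]

theorem two_case (hcard : Nat.card H = 2 ^ 4) (hZ : Nat.card (Subgroup.center H) = 2 ^ 2)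
    (hnc : ∃ a b : H, a * b ≠ b * a) (hncyc : ¬ IsCyclic (Subgroup.center H))
    (hpw : ∀ x : H, x ^ 2 ∈ commutator H) :
    HasCharChain4 2 H ∨ Nonempty (H ≃* QuaternionGroup 2 × Multiplicative (ZMod 2)) := by
  have : Fact (Nat.Prime 2) := ⟨Nat.prime_two⟩
  have hD := card_commutator (p := 2) hcard hZ hnc
  have hDZ := commutator_le_center (p := 2) (H := H) hcard hZ
  have hexpZ := center_pow (p := 2) hZ hncyc
  have hcl := comm_mem_center (p := 2) hcard hZ
  obtain ⟨a, b, hab⟩ := hnc
  set c := ⁅a, b⁆ with hcdef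
  have hDeq : commutator H = Subgroup.zpowers c := commutator_eq_zpowers (p := 2) hcard hZ a b hab
  have hc2 : c ^ 2 = 1 := comm_pow (p := 2) hcard hZ ⟨a, b, hab⟩ a b
  have hc1 : c ≠ 1 := by
    intro h
    rw [hcdef, commutatorElement_eq_one_iff_commute] at h
    exact hab h.eq
  have hsq : ∀ x : H, x ^ 2 = 1 ∨ x ^ 2 = c := fun x =>
    mem_zpowers_two c _ hc2 (hDeq ▸ hpw x)
  have hcm : ∀ g h : H, ⁅g, h⁆ = 1 ∨ ⁅g, h⁆ = c := fun g h =>
    mem_zpowers_two c _ hc2 (comm_mem_zpowers (p := 2) hcard hZ a b hab g h)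
  have sqZ : ∀ x z : H, z ∈ Subgroup.center H → (x * z) ^ 2 = x ^ 2 := by
    intro x z hz
    have hcomm : Commute x z := Subgroup.mem_center_iff.1 hz x
    rw [hcomm.mul_pow, hexpZ z hz, mul_one]
  by_cases hx0 : ∃ x0 : H, x0 ∉ Subgroup.center H ∧ x0 ^ 2 = 1
  · -- the case with a non-central involution: a characteristic chain
    left
    obtain ⟨x0, hx0Z, hx0sq⟩ := hx0
    set S : Set H := {x : H | x ^ 2 ≠ 1} with hS
    obtain ⟨w, hw⟩ : ∃ w : H, w ^ 2 ≠ 1 := by
      by_contra hcon
      push Not at hcon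
      apply hab
      have hinv : ∀ x : H, x⁻¹ = x := fun x => by
        apply inv_eq_of_mul_eq_one_right
        rw [← pow_two]; exact hcon x
      calc a * b = (a * b)⁻¹ := (hinv _).symm
        _ = b⁻¹ * a⁻¹ := mul_inv_rev a b
        _ = b * a := by rw [hinv a, hinv b]
    have hwc : w ^ 2 = c := (hsq w).resolve_left hw
    have hwZ : w ∉ Subgroup.center H := fun h => hw (hexpZ w h)
    -- the subgroup `A = ⟨x0⟩ Z`
    have hx01 : x0 ≠ 1 := fun h => hx0Z (h ▸ Subgroup.one_mem _)
    have hd : Subgroup.zpowers x0 ⊓ Subgroup.center H = ⊥ :=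
      zpowers_inf_eq_bot (p := 2) x0 hx0sq _ hx0Z
    set A : Subgroup H := Subgroup.zpowers x0 ⊔ Subgroup.center H with hA
    have hAcard : Nat.card A = 2 ^ 3 := by
      rw [hA, card_sup_of_disjoint _ _ hd, hZ, card_zpowers_of_pow (p := 2) x0 hx0sq hx01]
      norm_num
    have hAidx : A.index = 2 := by
      have := Subgroup.card_mul_index A
      rw [hAcard, hcard] at this
      omega
    have hAsq : ∀ g ∈ A, g ^ 2 = 1 := by
      intro g hg
      obtain ⟨y, hy, z, hz, rfl⟩ := Subgroup.mem_sup_of_normal_right.1 hg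
      rw [sqZ y z hz]
      rcases mem_zpowers_two x0 y hx0sq hy with h | h
      · rw [h, one_pow]
      · rw [h, hx0sq]
    have hwA : w ∉ A := fun h => hw (hAsq w h)
    have hAle : A ≤ Subgroup.centralizer {x0} := by
      apply sup_le
      · rw [Subgroup.zpowers_le, Subgroup.mem_centralizer_singleton_iff]
      · exact Subgroup.center_le_centralizer _
    have hcentA : A = Subgroup.centralizer {x0} := by
      apply Subgroup.eq_of_le_of_card_ge hAle
      rw [hAcard, P4F.card_centralizer (p := 2) hcard hZ x0 hx0Z]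
    have hx0w : ⁅x0, w⁆ = c := by
      apply (hcm x0 w).resolve_left
      intro h
      rw [commutatorElement_eq_one_iff_commute] at h
      apply hwA
      rw [hcentA, Subgroup.mem_centralizer_singleton_iff]
      exact h.eq.symm
    have hSw : ∀ g ∈ S, ∃ z ∈ Subgroup.center H, g = w * z := by
      intro g hg
      have hgA : g ∉ A := fun h => hg (hAsq g h)
      have hwiA : w⁻¹ ∉ A := fun h => hwA (by simpa using A.inv_mem h)
      have hmem : w⁻¹ * g ∈ A := by
        rw [Subgroup.mul_mem_iff_of_index_two hAidx]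
        exact ⟨fun h => absurd h hwiA, fun h => absurd h hgA⟩
      obtain ⟨y, hy, z, hz, hyz⟩ := Subgroup.mem_sup_of_normal_right.1 hmem
      have hg' : g = w * (y * z) := by rw [hyz]; group
      rcases mem_zpowers_two x0 y hx0sq hy with h | h
      · exact ⟨z, hz, by rw [hg', h, one_mul]⟩
      · exfalso
        apply hg
        rw [hg', h, ← mul_assoc, sqZ _ z hz, sq_mul w x0 (hcl x0 w), hx0w, hwc, hx0sq, mul_one,
          ← pow_two, hc2]
    set T : Subgroup H := Subgroup.centralizer S with hT
    have hTeq : T = Subgroup.centralizer {w} := by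
      apply le_antisymm
      · apply Subgroup.centralizer_le
        intro x hx
        rw [Set.mem_singleton_iff] at hx
        rw [hx]; exact hw
      · intro u hu
        rw [Subgroup.mem_centralizer_singleton_iff] at hu
        rw [hT, Subgroup.mem_centralizer_iff]
        intro g hg
        obtain ⟨z, hz, rfl⟩ := hSw g hg
        have hzu : z * u = u * z := (Subgroup.mem_center_iff.1 hz u).symm
        calc w * z * u = w * (z * u) := mul_assoc _ _ _
          _ = w * (u * z) := by rw [hzu]
          _ = (w * u) * z := (mul_assoc _ _ _).symm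
          _ = (u * w) * z := by rw [hu]
          _ = u * (w * z) := mul_assoc _ _ _
    have hTcard : Nat.card T = 2 ^ 3 := by
      rw [hTeq]; exact P4F.card_centralizer (p := 2) hcard hZ w hwZ
    refine ⟨commutator H, Subgroup.center H, T, hDZ, Subgroup.center_le_centralizer _, hD, hZ,
      hTcard, ?_, ?_, ?_⟩
    · intro β y hy
      exact char_inv _ β y hy
    · intro β y hy
      exact char_inv _ β y hy
    · intro β y hy
      rw [hT, Subgroup.mem_centralizer_iff] at hy ⊢
      intro s hs
      have hs' : β⁻¹ s ∈ S := by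
        show (β⁻¹ s) ^ 2 ≠ 1
        rw [← map_pow]
        intro h
        apply hs
        have := congrArg β h
        simpa using this
      have := hy _ hs'
      have h2 := congrArg β this
      rw [map_mul, map_mul] at h2
      simpa using h2
  · -- all non-central elements have order four: `Q₈ × C₂`
    right
    push Not at hx0
    have haZ : a ∉ Subgroup.center H := fun h => hab (Subgroup.mem_center_iff.1 h b).symm
    have hbZ : b ∉ Subgroup.center H := fun h => hab (Subgroup.mem_center_iff.1 h a)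
    have ha2 : a ^ 2 = c := (hsq a).resolve_left (hx0 a haZ)
    have hb2 : b ^ 2 = c := (hsq b).resolve_left (hx0 b hbZ)
    have ha4 : a ^ 4 = 1 := by
      have : a ^ 4 = (a ^ 2) ^ 2 := by rw [← pow_mul]
      rw [this, ha2, hc2]
    have hordA : orderOf a = 2 * 2 := by
      have h1 : ¬ a ^ 2 ^ 1 = 1 := by rw [pow_one, ha2]; exact hc1
      have h2 : a ^ 2 ^ (1 + 1) = 1 := by norm_num; exact ha4
      have := orderOf_eq_prime_pow h1 h2
      rw [this]; norm_num
    have hB : b * b = a ^ 2 := by rw [← pow_two, hb2, ha2]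
    have hba : ⁅b, a⁆ = c := by
      apply (hcm b a).resolve_left
      intro h
      rw [commutatorElement_eq_one_iff_commute] at h
      exact hab h.eq.symm
    have hrel : b * a * b⁻¹ = a⁻¹ := by
      have h1 : b * a * b⁻¹ = ⁅b, a⁆ * a := by rw [commutatorElement_def]; group
      rw [h1, hba, ← ha2]
      apply eq_inv_of_mul_eq_one_left
      rw [← pow_succ, ← pow_succ]
      exact ha4
    have hBn : b ∉ Subgroup.zpowers a := by
      intro h
      have hle : Subgroup.zpowers a ≤ Subgroup.centralizer {a} := by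
        rw [Subgroup.zpowers_le, Subgroup.mem_centralizer_singleton_iff]
      have := hle h
      rw [Subgroup.mem_centralizer_singleton_iff] at this
      exact hab this.symm
    have hinj := Cfsg.Agent.Helper2.QuatIso.quatHom_injective a b 2 hordA hB hrel hBn
    set f := Cfsg.Agent.Helper2.QuatIso.quatHom a b 2 hordA hB hrel with hf
    have hEcard : Nat.card f.range = 2 ^ 3 := by
      rw [← Nat.card_congr (MonoidHom.ofInjective hinj).toEquiv, Nat.card_eq_fintype_card,
        QuaternionGroup.card]
      norm_num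
    have hne : f (QuaternionGroup.a 1) * f (QuaternionGroup.xa 0) ≠
        f (QuaternionGroup.xa 0) * f (QuaternionGroup.a 1) := by
      rw [← map_mul, ← map_mul]
      intro h
      have := hinj h
      revert this
      decide
    obtain ⟨e⟩ := nonempty_mulEquiv_prod (p := 2) hcard hZ hexpZ f.range hEcard _ _
      ⟨_, rfl⟩ ⟨_, rfl⟩ hne
    exact ⟨e.trans (MulEquiv.prodCongr (MonoidHom.ofInjective hinj).symm (MulEquiv.refl _))⟩

end Cfsg.Agent.Helper4.P4G
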