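import Mathlib
import Cfsg.Prelude.Def_Transfer
import Cfsg.Agent.Helper4.P4C
import Cfsg.Agent.Helper4.P4D
import Cfsg.Agent.Helper4.P4G

set_option autoImplicit false

/-!
Non-abelian groups of order `p⁴`: a characteristic chain with factors of order `p`, or one of
`p^{1+2}_+ × C_p`, `Q₈ × C₂`, or exponent `p²` with cyclic centre of order `p²`.
-/

namespace Cfsg.Agent.Helper4.P4H

open scoped commutatorElement
open Cfsg.Agent.Helper4.P4B Cfsg.Agent.Helper4.P4A

universe u

variable {p : ℕ} [hp : Fact p.Prime] {H : Type u} [Group H] [Finite H]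

theorem nonabelian_case (hcard : Nat.card H = p ^ 4) (hnc : ∃ a b : H, a * b ≠ b * a) :
    HasCharChain4 p H ∨
      (Odd p ∧ ∃ (E : Type) (_ : Group E) (_ : Finite E), Cfsg.IsExtraspecial p E ∧
        Nat.card E = p ^ 3 ∧ (∀ x : E, x ^ p = 1) ∧
        Nonempty (H ≃* E × Multiplicative (ZMod p))) ∨
      (p = 2 ∧ Nonempty (H ≃* QuaternionGroup 2 × Multiplicative (ZMod 2))) ∨
      ((∀ x : H, x ^ (p ^ 2) = 1) ∧ IsCyclic (Subgroup.center H) ∧
        Nat.card (Subgroup.center H) = p ^ 2) := by
  have hpos : 0 < p := hp.out.pos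
  have hP : IsPGroup p H := IsPGroup.of_card hcard
  have : Nontrivial H := by
    obtain ⟨a, b, hab⟩ := hnc
    exact ⟨⟨a * b, b * a, hab⟩⟩
  have hnt : Nontrivial (Subgroup.center H) := hP.center_nontrivial
  obtain ⟨k, hk4, hk⟩ := exists_card_eq hcard (Subgroup.center H)
  have hk0 : k ≠ 0 := by
    intro h
    rw [h, pow_zero] at hk
    have := (Subgroup.card_eq_one.1 hk)
    rw [Subgroup.nontrivial_iff_ne_bot] at hnt
    exact hnt this
  have hk4' : k ≠ 4 := by
    intro h
    rw [h, ← hcard] at hk
    have htop := Subgroup.eq_top_of_card_eq _ hk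
    obtain ⟨a, b, hab⟩ := hnc
    have : a ∈ Subgroup.center H := by rw [htop]; trivial
    exact hab (Subgroup.mem_center_iff.1 this b).symm
  have hk3 : k ≠ 3 := by
    intro h
    rw [h] at hk
    have hq : Nat.card (H ⧸ Subgroup.center H) = p := by
      rw [← Subgroup.index_eq_card]
      have := Subgroup.card_mul_index (Subgroup.center H)
      rw [hk, hcard] at this
      have h4 : p ^ 4 = p ^ 3 * p := by ring
      rw [h4] at this
      exact Nat.eq_of_mul_eq_mul_left (pow_pos hpos 3) this
    have : IsCyclic (H ⧸ Subgroup.center H) := isCyclic_of_prime_card hq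
    have hcm := MonoidHom.isMulCommutative_of_isCyclic_of_ker_le_center
      (QuotientGroup.mk' (Subgroup.center H)) (by rw [QuotientGroup.ker_mk'])
    obtain ⟨a, b, hab⟩ := hnc
    exact hab (hcm.is_comm.comm a b)
  have hk12 : k = 1 ∨ k = 2 := by omega
  rcases hk12 with rfl | rfl
  · left
    rw [pow_one] at hk
    exact P4D.chain_of_center_card_p hcard hk hnc
  · rcases P4E.chain_or_pow_mem hcard hk hnc with h | hpw
    · exact Or.inl h
    · by_cases hcyc : IsCyclic (Subgroup.center H)
      · right; right; right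
        refine ⟨fun x => ?_, hcyc, hk⟩
        have hD := P4E.card_commutator hcard hk hnc
        have h1 : (⟨x ^ p, hpw x⟩ : commutator H) ^ p = 1 := by
          have := pow_card_eq_one' (G := commutator H) (x := ⟨x ^ p, hpw x⟩)
          rw [hD] at this
          exact this
        have h2 := congrArg Subtype.val h1
        rw [Subgroup.coe_pow, Subgroup.coe_one] at h2
        rw [pow_two, pow_mul]
        exact h2
      · by_cases hp2 : p = 2
        · subst hp2
          rcases P4G.two_case hcard hk hnc hcyc hpw with h | h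
          · exact Or.inl h
          · exact Or.inr (Or.inr (Or.inl ⟨rfl, h⟩))
        · rcases P4F.odd_case hp2 hcard hk hnc hcyc hpw with h | h
          · exact Or.inl h
          · exact Or.inr (Or.inl ⟨hp.out.odd_of_ne_two hp2, h⟩)

end Cfsg.Agent.Helper4.P4H
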