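import Mathlib
import Cfsg.Agent.Helper1.Basic
import Cfsg.Agent.Helper1.Coprime

/-!
# Covering the `p`-elements of a group generated by `p`-elements

If `G` is generated by its `p`-elements, any family of proper subgroups covering all
`p`-elements of `G` has at least `p + 1` members.
-/

namespace Cfsg.Agent.Helper4.PCover

open scoped Pointwise
open Cfsg.Agent.Helper1

universe u

variable {G : Type*} [Group G]

/-- `g` is a `p`-element. -/
def Pel (p : ℕ) (g : G) : Prop := ∃ k : ℕ, orderOf g = p ^ k

/-- subgroup generated by the `p`-elements of `H`. -/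
def pgen (p : ℕ) (H : Subgroup G) : Subgroup G :=
  Subgroup.closure {g : G | g ∈ H ∧ Pel p g}

theorem pgen_le (p : ℕ) (H : Subgroup G) : pgen p H ≤ H := by
  unfold pgen
  rw [Subgroup.closure_le]
  exact fun g hg => hg.1

theorem pgen_mono (p : ℕ) {H K : Subgroup G} (h : H ≤ K) : pgen p H ≤ pgen p K :=
  Subgroup.closure_mono (fun _ hg => ⟨h hg.1, hg.2⟩)

theorem pgen_idem (p : ℕ) (H : Subgroup G) : pgen p (pgen p H) = pgen p H := by
  apply le_antisymm (pgen_le p _)
  change Subgroup.closure {g : G | g ∈ H ∧ Pel p g} ≤ _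
  rw [Subgroup.closure_le]
  intro g hg
  exact Subgroup.subset_closure ⟨Subgroup.subset_closure hg, hg.2⟩

theorem pgen_eq_of_forall_pel (p : ℕ) (H : Subgroup G) (h : ∀ g ∈ H, Pel p g) :
    pgen p H = H := by
  apply le_antisymm (pgen_le p _)
  intro g hg
  exact Subgroup.subset_closure ⟨hg, h g hg⟩

theorem pel_conj (p : ℕ) (g x : G) : Pel p (g * x * g⁻¹) ↔ Pel p x := by
  unfold Pel
  have : orderOf (g * x * g⁻¹) = orderOf x := by
    have := (MulAut.conj g).orderOf_eq x
    simpa [MulAut.conj_apply] using this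
  rw [this]

theorem pgen_conj (p : ℕ) (g : G) (H : Subgroup G) :
    pgen p (MulAut.conj g • H) = MulAut.conj g • pgen p H := by
  rw [conj_smul_eq_map g (pgen p H)]
  unfold pgen
  rw [MonoidHom.map_closure]
  congr 1
  ext y
  constructor
  · rintro ⟨hy, hpel⟩
    refine ⟨g⁻¹ * y * g, ⟨mem_conj_smul.1 hy, ?_⟩, ?_⟩
    · have := (pel_conj p g⁻¹ y).2 hpel
      simpa using this
    · simp [MulAut.conj_apply, mul_assoc]
  · rintro ⟨s, ⟨hs, hpel⟩, rfl⟩
    refine ⟨?_, ?_⟩
    · have := conj_mem_conj_smul (g := g) hs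
      simpa [MulAut.conj_apply] using this
    · have := (pel_conj p g s).2 hpel
      simpa [MulAut.conj_apply] using this

theorem conj_smul_eq_top_iff (g : G) (M : Subgroup G) : MulAut.conj g • M = ⊤ ↔ M = ⊤ := by
  constructor
  · intro h
    rw [eq_top_iff]
    intro x _
    have : g * x * g⁻¹ ∈ MulAut.conj g • M := by rw [h]; exact Subgroup.mem_top _
    rw [mem_conj_smul] at this
    simpa [mul_assoc] using this
  · intro h
    rw [eq_top_iff]
    intro x _
    rw [mem_conj_smul, h]
    exact Subgroup.mem_top _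

/-- maximal among proper subgroups generated by `p`-elements. -/
def IsPMax (p : ℕ) (M : Subgroup G) : Prop :=
  M ≠ ⊤ ∧ pgen p M = M ∧
    ∀ M' : Subgroup G, M' ≠ ⊤ → pgen p M' = M' → M ≤ M' → M' = M

theorem IsPMax.conj {p : ℕ} {M : Subgroup G} (hM : IsPMax p M) (g : G) :
    IsPMax p (MulAut.conj g • M) := by
  obtain ⟨h1, h2, h3⟩ := hM
  refine ⟨fun h => h1 ((conj_smul_eq_top_iff g M).1 h), ?_, ?_⟩
  · rw [pgen_conj, h2]
  · intro M' hM'1 hM'2 hle
    have hle' : M ≤ MulAut.conj g⁻¹ • M' := by
      intro x hx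
      rw [mem_conj_smul, inv_inv]
      exact hle (conj_mem_conj_smul hx)
    have h4 := h3 (MulAut.conj g⁻¹ • M') (fun h => hM'1 ((conj_smul_eq_top_iff _ _).1 h))
      (by rw [pgen_conj, hM'2]) hle'
    rw [← h4, map_inv, smul_inv_smul]

theorem main (p : ℕ) [Fact p.Prime] {ι : Type*} [Fintype ι] :
    ∀ (n : ℕ) (G : Type u) [Group G] [Finite G], Nat.card G = n →
      Subgroup.closure {g : G | Pel p g} = ⊤ →
      ∀ (K : ι → Subgroup G), (∀ i, K i ≠ ⊤) → (∀ g : G, Pel p g → ∃ i, g ∈ K i) →
      p + 1 ≤ Fintype.card ι := by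
  intro n
  induction n using Nat.strong_induction_on with
  | _ n ih =>
  intro G _ _ hn hgen K hK hcov
  by_contra hlt
  push Not at hlt
  have hp := (Fact.out : p.Prime)
  have hp2 := hp.two_le
  -- Step A
  have stepA : ∀ H : Subgroup G, H ≠ ⊤ → pgen p H = H → ∃ i, H ≤ K i := by
    intro H hH hHg
    by_contra hcon
    push Not at hcon
    have hlt' : Nat.card H < n := by
      rw [← hn]
      exact lt_of_le_of_ne (Subgroup.card_le_card_group H)
        (fun h => hH (Subgroup.eq_top_of_card_eq H h))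
    have hgenH : Subgroup.closure {h : H | Pel p h} = ⊤ := by
      apply Subgroup.map_injective H.subtype_injective
      rw [MonoidHom.map_closure, ← MonoidHom.range_eq_map, Subgroup.range_subtype]
      conv_rhs => rw [← hHg]
      unfold pgen
      congr 1
      ext y
      constructor
      · rintro ⟨h, ⟨k, hk⟩, rfl⟩
        exact ⟨h.2, k, by rw [← hk]; exact Subgroup.orderOf_coe h⟩
      · rintro ⟨hy, k, hk⟩
        exact ⟨⟨y, hy⟩, ⟨k, by rw [← hk]; exact Subgroup.orderOf_mk y hy⟩, rfl⟩
    have := ih (Nat.card H) hlt' H rfl hgenH (fun i => (K i).subgroupOf H) ?_ ?_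
    · omega
    · intro i h
      exact hcon i (Subgroup.subgroupOf_eq_top.1 h)
    · intro h hh
      obtain ⟨k, hk⟩ := hh
      obtain ⟨i, hi⟩ := hcov (h : G) ⟨k, by rw [Subgroup.orderOf_coe]; exact hk⟩
      exact ⟨i, Subgroup.mem_subgroupOf.2 hi⟩
  obtain ⟨i₀, _⟩ := hcov 1 ⟨0, by simp⟩
  by_cases hpg : IsPGroup p G
  · -- counting in a `p`-group
    classical
    have : Fintype G := Fintype.ofFinite G
    have hall : ∀ g : G, ∃ i, g ∈ K i := fun g => hcov g ((IsPGroup.iff_orderOf.1 hpg) g)
    have hKi : ∀ i, Nat.card (K i) * p ≤ Nat.card G := by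
      intro i
      have hidx : (K i).index ≠ 1 := fun h => hK i (Subgroup.index_eq_one.1 h)
      have hdvd : p ∣ (K i).index := by
        obtain ⟨m, hm⟩ := IsPGroup.index hpg (K i)
        rw [hm] at hidx ⊢
        cases m with
        | zero => simp at hidx
        | succ m => exact dvd_pow_self p (Nat.succ_ne_zero m)
      have hmul := (K i).card_mul_index
      obtain ⟨c, hc⟩ := hdvd
      rw [hc] at hmul
      have hc0 : 0 < c := by
        rcases Nat.eq_zero_or_pos c with h | h
        · rw [h, mul_zero, mul_zero] at hmul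
          exact absurd hmul.symm Nat.card_pos.ne'
        · exact h
      calc Nat.card (K i) * p ≤ Nat.card (K i) * (p * c) :=
            Nat.mul_le_mul_left _ (Nat.le_mul_of_pos_right p hc0)
        _ = Nat.card G := hmul
    have hsub : (Finset.univ : Finset G).erase 1 ⊆
        Finset.univ.biUnion (fun i => (Finset.univ.filter (fun g => g ∈ K i)).erase 1) := by
      intro g hg
      rw [Finset.mem_erase] at hg
      obtain ⟨i, hi⟩ := hall g
      rw [Finset.mem_biUnion]
      exact ⟨i, Finset.mem_univ i,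
        Finset.mem_erase.2 ⟨hg.1, Finset.mem_filter.2 ⟨Finset.mem_univ _, hi⟩⟩⟩
    have hcard := (Finset.card_le_card hsub).trans Finset.card_biUnion_le
    rw [Finset.card_erase_of_mem (Finset.mem_univ _), Finset.card_univ,
      ← Nat.card_eq_fintype_card] at hcard
    have hterm : ∀ i, ((Finset.univ.filter (fun g => g ∈ K i)).erase 1).card
        = Nat.card (K i) - 1 := by
      intro i
      rw [Finset.card_erase_of_mem (Finset.mem_filter.2 ⟨Finset.mem_univ _, (K i).one_mem⟩)]
      congr 1
      rw [Nat.card_eq_fintype_card, Fintype.card_subtype]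
    rw [Finset.sum_congr rfl (fun i _ => hterm i)] at hcard
    have h1 : ∀ i, p * (Nat.card (K i) - 1) ≤ Nat.card G - p := by
      intro i
      have := hKi i
      rw [Nat.mul_sub, mul_one]
      exact Nat.sub_le_sub_right (by rw [mul_comm]; exact this) p
    have h2 : p * ∑ i, (Nat.card (K i) - 1) ≤ Fintype.card ι * (Nat.card G - p) := by
      rw [Finset.mul_sum]
      calc ∑ i, p * (Nat.card (K i) - 1) ≤ ∑ _i : ι, (Nat.card G - p) :=
            Finset.sum_le_sum (fun i _ => h1 i)
        _ = Fintype.card ι * (Nat.card G - p) := by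
            rw [Finset.sum_const, Finset.card_univ, smul_eq_mul]
    have h3 : p ≤ Nat.card G := by
      have := hKi i₀
      have hpos : 0 < Nat.card (K i₀) := Nat.card_pos
      nlinarith
    have h4 : p * (Nat.card G - 1) ≤ p * (Nat.card G - p) :=
      calc p * (Nat.card G - 1) ≤ p * ∑ i, (Nat.card (K i) - 1) := Nat.mul_le_mul_left _ hcard
        _ ≤ Fintype.card ι * (Nat.card G - p) := h2
        _ ≤ p * (Nat.card G - p) := Nat.mul_le_mul_right _ (by omega)
    have h5 := Nat.le_of_mul_le_mul_left h4 hp.pos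
    omega
  -- Step B1
  have stepB1 : ∀ H : Subgroup G, H ≠ ⊤ → pgen p H = H → ∃ M, IsPMax p M ∧ H ≤ M := by
    intro H hH hHg
    have hfin : {M' : Subgroup G | M' ≠ ⊤ ∧ pgen p M' = M' ∧ H ≤ M'}.Finite := Set.toFinite _
    obtain ⟨M, hM⟩ := hfin.exists_maximal ⟨H, hH, hHg, le_rfl⟩
    refine ⟨M, ⟨hM.prop.1, hM.prop.2.1, ?_⟩, hM.prop.2.2⟩
    intro M' h1 h2 h3
    exact le_antisymm (hM.le_of_ge ⟨h1, h2, hM.prop.2.2.trans h3⟩ h3) h3
  have stepB2 : ∀ M : Subgroup G, IsPMax p M → ∃ i, M ≤ K i ∧ pgen p (K i) = M := by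
    intro M hM
    obtain ⟨i, hi⟩ := stepA M hM.1 hM.2.1
    refine ⟨i, hi, ?_⟩
    apply hM.2.2 (pgen p (K i))
    · intro h; apply hK i; rw [eq_top_iff, ← h]; exact pgen_le p _
    · exact pgen_idem p _
    · rw [← hM.2.1]; exact pgen_mono p hi
  have hcardM : Nat.card {M : Subgroup G // IsPMax p M} ≤ p := by
    choose f hf using stepB2
    have hinj : Function.Injective (fun M : {M : Subgroup G // IsPMax p M} => f M.1 M.2) := by
      intro M M' h
      apply Subtype.ext
      rw [← (hf M.1 M.2).2, ← (hf M'.1 M'.2).2]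
      simp only at h
      rw [h]
    have := Nat.card_le_card_of_injective _ hinj
    rw [Nat.card_eq_fintype_card (α := ι)] at this
    omega
  have stepC : ∀ x : G, Pel p x → ∀ M : Subgroup G, IsPMax p M → MulAut.conj x • M = M := by
    intro x hx M hM
    by_contra hne
    have hzx : Subgroup.zpowers x ≠ ⊤ := by
      intro h
      obtain ⟨i, hi⟩ := hcov x hx
      apply hK i
      rw [eq_top_iff, ← h, Subgroup.zpowers_le]; exact hi
    have hzg : pgen p (Subgroup.zpowers x) = Subgroup.zpowers x := by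
      apply pgen_eq_of_forall_pel
      intro g hg
      obtain ⟨k, hk⟩ := hx
      have hdvd : orderOf g ∣ p ^ k := by rw [← hk]; exact orderOf_dvd_of_mem_zpowers hg
      obtain ⟨j, _, hj⟩ := (Nat.dvd_prime_pow hp).1 hdvd
      exact ⟨j, hj⟩
    obtain ⟨Mx, hMx, hxMx⟩ := stepB1 _ hzx hzg
    have hxM : x ∈ Mx := hxMx (Subgroup.mem_zpowers x)
    have hα : ∀ d : ℕ, 0 < d → d < p → MulAut.conj (x ^ d) • M ≠ M := by
      intro d hd0 hdp h
      apply hne
      have hmem := mem_normalizer_of_conj_smul_eq h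
      obtain ⟨k, hk⟩ := hx
      have hcop : Nat.Coprime d (orderOf x) := by
        rw [hk]
        apply Nat.Coprime.pow_right
        exact ((Nat.Prime.coprime_iff_not_dvd hp).2 (Nat.not_dvd_of_pos_of_lt hd0 hdp)).symm
      obtain ⟨m, hm⟩ := exists_pow_eq_self_of_coprime hcop
      have : x ∈ Subgroup.normalizer (M : Set G) := by
        rw [← hm]; exact Subgroup.pow_mem _ hmem m
      exact conj_smul_eq_of_mem_normalizer this
    have hβ : ∀ i j : ℕ, i ≤ j → j < p →
        MulAut.conj (x ^ i) • M = MulAut.conj (x ^ j) • M → i = j := by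
      intro i j hij hjp h
      by_contra hne'
      have hxj : x ^ j = x ^ i * x ^ (j - i) := by
        rw [← pow_add]; congr 1; omega
      rw [hxj, map_mul, mul_smul] at h
      have h' := MulAction.injective (MulAut.conj (x ^ i)) h
      exact hα (j - i) (by omega) (by omega) h'.symm
    let F : Option (Fin p) → {M : Subgroup G // IsPMax p M} := fun o =>
      match o with
      | none => ⟨Mx, hMx⟩
      | some j => ⟨MulAut.conj (x ^ (j : ℕ)) • M, hM.conj _⟩
    have hγ : ∀ j : ℕ, Mx ≠ MulAut.conj (x ^ j) • M := by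
      intro j h
      apply hne
      have hxin : x ∈ MulAut.conj (x ^ j) • M := by rw [← h]; exact hxM
      rw [mem_conj_smul] at hxin
      have hxM' : x ∈ M := by
        have hcomm : (x ^ j)⁻¹ * x * x ^ j = x := by
          rw [mul_assoc, ← pow_succ', pow_succ, inv_mul_cancel_left]
        rwa [hcomm] at hxin
      exact Subgroup.conj_smul_eq_self_of_mem hxM'
    have hFinj : Function.Injective F := by
      intro a b hab
      match a, b with
      | none, none => rfl
      | none, some j =>
        exact absurd (congrArg Subtype.val hab) (hγ j)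
      | some j, none =>
        exact absurd (congrArg Subtype.val hab).symm (hγ j)
      | some i, some j =>
        have h := congrArg Subtype.val hab
        simp only [F] at h
        rcases le_total (i : ℕ) (j : ℕ) with hij | hij
        · have := hβ i j hij j.2 h
          rw [Fin.ext this]
        · have := hβ j i hij i.2 h.symm
          rw [Fin.ext this]
    have := Nat.card_le_card_of_injective F hFinj
    rw [Nat.card_eq_fintype_card, Fintype.card_option, Fintype.card_fin] at this
    omega
  have stepD : ∀ M : Subgroup G, IsPMax p M → M.Normal := by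
    intro M hM
    have : Subgroup.normalizer (M : Set G) = ⊤ := by
      rw [eq_top_iff, ← hgen, Subgroup.closure_le]
      intro x hx
      exact mem_normalizer_of_conj_smul_eq (stepC x hx M hM)
    exact Subgroup.normalizer_eq_top_iff.1 this
  -- finish with a Sylow subgroup
  obtain ⟨P⟩ : Nonempty (Sylow p G) := inferInstance
  have hPtop : (P : Subgroup G) ≠ ⊤ := by
    intro h
    apply hpg
    intro g
    have hg : g ∈ (P : Subgroup G) := by rw [h]; exact Subgroup.mem_top g
    obtain ⟨k, hk⟩ := P.isPGroup' ⟨g, hg⟩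
    exact ⟨k, by simpa using congrArg Subtype.val hk⟩
  have hPg : pgen p (P : Subgroup G) = P := by
    apply pgen_eq_of_forall_pel
    intro g hg
    obtain ⟨k, hk⟩ := (IsPGroup.iff_orderOf.1 P.isPGroup') ⟨g, hg⟩
    exact ⟨k, by rw [← hk, Subgroup.orderOf_mk]⟩
  obtain ⟨M, hM, hPM⟩ := stepB1 _ hPtop hPg
  have hMn := stepD M hM
  apply hM.1
  rw [eq_top_iff, ← hgen, Subgroup.closure_le]
  intro x hx
  obtain ⟨k, hk⟩ := hx
  have hzp : IsPGroup p (Subgroup.zpowers x) :=
    IsPGroup.of_card (n := k) (by rw [Nat.card_zpowers, hk])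
  obtain ⟨Q, hQ⟩ := hzp.exists_le_sylow
  obtain ⟨g, rfl⟩ := MulAction.exists_smul_eq G P Q
  have hxQ : x ∈ ((g • P : Sylow p G) : Subgroup G) := hQ (Subgroup.mem_zpowers x)
  rw [Sylow.coe_subgroup_smul, mem_conj_smul] at hxQ
  have := hMn.conj_mem _ (hPM hxQ) g
  simpa [mul_assoc] using this

end Cfsg.Agent.Helper4.PCover
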