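import Mathlib
import Cfsg.Agent.Helper4.PNilpSectionA
import Cfsg.Agent.Helper1.MinNonPNilp

set_option autoImplicit false

namespace Cfsg.Agent.Helper4

open Cfsg.Agent.Helper1

universe u

/-- forward direction: sections of a `p`-nilpotent group with trivial `p'`-core are `p`-groups -/
theorem sectionHyp_of_hasNormalPComplement {G : Type u} [Group G] [Finite G] {p : ℕ}
    [hp : Fact p.Prime] (h : Cfsg.HasNormalPComplement p G) : SectionHyp p G := by
  intro H N hN hcore
  obtain ⟨P, M, hMn, hMc⟩ := hasNormalPComplement_subgroup h H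
  have hcopM : (Nat.card M).Coprime p := by
    rw [← hMc.index_eq_card]
    exact ((Nat.Prime.coprime_iff_not_dvd hp.out).2 P.not_dvd_index).symm
  have hMN : M ≤ N := by
    have h1 : M.map (QuotientGroup.mk' N) ≤ Cfsg.pPrimeCore p (H ⧸ N) := by
      apply le_sSup
      refine ⟨hMn.map _ (QuotientGroup.mk'_surjective N), ?_⟩
      exact Nat.Coprime.coprime_dvd_left (Subgroup.card_map_dvd M _) hcopM
    rw [hcore] at h1
    intro x hx
    have h2 : QuotientGroup.mk' N x ∈ M.map (QuotientGroup.mk' N) := ⟨x, hx, rfl⟩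
    have h3 := h1 h2
    rw [Subgroup.mem_bot] at h3
    exact (QuotientGroup.eq_one_iff x).1 h3
  have hidx : N.index ∣ M.index := Subgroup.index_dvd_of_le hMN
  have hMidx : M.index = Nat.card P := hMc.symm.index_eq_card
  have hK : IsPGroup p (H ⧸ N) := by
    obtain ⟨n, hn⟩ := IsPGroup.iff_card.1 P.isPGroup'
    rw [hMidx, hn] at hidx
    obtain ⟨i, _, hi⟩ := (Nat.dvd_prime_pow hp.out).1 hidx
    exact IsPGroup.of_card (n := i) (by rw [← hi]; exact (Subgroup.index_eq_card N).symm)
  exact exists_orderOf_eq_exponent_of_pgroup hK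

/-- a `p`-subgroup lies in a normal Sylow `p`-subgroup -/
theorem le_normal_sylow {G : Type u} [Group G] [Finite G] {p : ℕ} [hp : Fact p.Prime]
    (P : Sylow p G) (hP : (P : Subgroup G).Normal) (Q : Subgroup G) (hQ : IsPGroup p Q) :
    Q ≤ (P : Subgroup G) := by
  obtain ⟨P', hP'⟩ := hQ.exists_le_sylow
  have : P' = P := by
    haveI := Sylow.unique_of_normal P hP
    exact Subsingleton.elim _ _
  exact this ▸ hP'

theorem mem_normal_sylow_of_orderOf {G : Type u} [Group G] [Finite G] {p : ℕ} [hp : Fact p.Prime]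
    (P : Sylow p G) (hP : (P : Subgroup G).Normal) (x : G) (n : ℕ) (hx : orderOf x = p ^ n) :
    x ∈ (P : Subgroup G) := by
  have h1 : IsPGroup p (Subgroup.zpowers x) := by
    apply IsPGroup.of_card (n := n)
    rw [Nat.card_zpowers, hx]
  exact le_normal_sylow P hP _ h1 (Subgroup.mem_zpowers x)

/-- if `x * v = v * x * c` with `c` central then `x * v ^ n = v ^ n * x * c ^ n` -/
theorem mul_pow_eq_of_central {G : Type u} [Group G] (x v c : G) (hc : c ∈ Subgroup.center G)
    (h : x * v = v * x * c) (n : ℕ) : x * v ^ n = v ^ n * x * c ^ n := by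
  induction n with
  | zero => simp
  | succ n ih =>
    have hcomm : ∀ y : G, c * y = y * c := fun y => (Subgroup.mem_center_iff.1 hc y).symm
    have hcn : ∀ y : G, c ^ n * y = y * c ^ n := by
      intro y
      have : c ^ n ∈ Subgroup.center G := Subgroup.pow_mem _ hc n
      exact (Subgroup.mem_center_iff.1 this y).symm
    calc x * v ^ (n + 1) = (x * v ^ n) * v := by rw [pow_succ, mul_assoc]
      _ = v ^ n * x * c ^ n * v := by rw [ih]
      _ = v ^ n * (x * v) * c ^ n := by
          rw [mul_assoc (v ^ n * x), hcn v]; group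
      _ = v ^ n * (v * x * c) * c ^ n := by rw [h]
      _ = v ^ (n + 1) * x * c ^ (n + 1) := by
          rw [pow_succ, pow_succ' c]; group

end Cfsg.Agent.Helper4
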