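import Mathlib
import Cfsg.Agent.Helper4.PNilpSectionB

set_option autoImplicit false

namespace Cfsg.Agent.Helper4

open Cfsg.Agent.Helper1

universe u

/-- a minimal counterexample does not exist -/
theorem min_counterexample_false {G : Type u} [Group G] [Finite G] {p : ℕ} [hp : Fact p.Prime]
    (h1 : ¬ Cfsg.HasNormalPComplement p G)
    (h2 : ∀ H : Subgroup G, H ≠ ⊤ → Cfsg.HasNormalPComplement p H)
    (h3 : ∀ M : Subgroup G, ∀ [M.Normal], M ≠ ⊥ → Cfsg.HasNormalPComplement p (G ⧸ M))
    (hO : Cfsg.pPrimeCore p G = ⊥)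
    (k : G) (hk : orderOf k = Monoid.exponent G) : False := by
  classical
  obtain ⟨hnil, hnotnil, hPn⟩ := min_non_pnilpotent h1 h2
  obtain ⟨P⟩ : Nonempty (Sylow p G) := inferInstance
  have hP : (P : Subgroup G).Normal := hPn P
  haveI := hP
  -- p divides |G|
  have hpG : p ∣ Nat.card G := by
    by_contra hnd
    apply hnotnil
    have htop : (⊤ : Subgroup G) ≤ Cfsg.pPrimeCore p G := by
      apply le_sSup
      refine ⟨inferInstance, ?_⟩
      rw [Subgroup.card_top]
      exact ((Nat.Prime.coprime_iff_not_dvd hp.out).2 hnd).symm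
    rw [hO] at htop
    haveI : Subsingleton G := by
      constructor
      intro a b
      have ha := htop (Subgroup.mem_top a)
      have hb := htop (Subgroup.mem_top b)
      rw [Subgroup.mem_bot] at ha hb
      rw [ha, hb]
    infer_instance
  -- another prime q
  obtain ⟨q, hq, hqp, hqG⟩ : ∃ q : ℕ, q.Prime ∧ q ≠ p ∧ q ∣ Nat.card G := by
    by_contra hne
    push Not at hne
    apply hnotnil
    have hcard : Nat.card G = p ^ (Nat.card G).primeFactorsList.length :=
      Nat.eq_prime_pow_of_unique_prime_dvd Nat.card_pos.ne' (fun {d} hd hdvd => by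
        by_contra hdp
        exact hne d hd hdp hdvd)
    exact (IsPGroup.of_card hcard).isNilpotent
  haveI : Fact q.Prime := ⟨hq⟩
  have hpe : p ∣ orderOf k := by
    obtain ⟨a, ha⟩ := exists_prime_orderOf_dvd_card' p hpG
    rw [hk, ← ha]
    exact Monoid.order_dvd_exponent a
  have hqe : q ∣ orderOf k := by
    obtain ⟨a, ha⟩ := exists_prime_orderOf_dvd_card' q hqG
    rw [hk, ← ha]
    exact Monoid.order_dvd_exponent a
  have hk0 : orderOf k ≠ 0 := (orderOf_pos k).ne'
  obtain ⟨u, hudef⟩ : ∃ u : G, u = k ^ (orderOf k / p) := ⟨_, rfl⟩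
  obtain ⟨v, hvdef⟩ : ∃ v : G, v = k ^ (orderOf k / q) := ⟨_, rfl⟩
  have hou : orderOf u = p := by
    have hne : orderOf k / p ≠ 0 := by
      intro h0
      have := Nat.div_mul_cancel hpe
      rw [h0, zero_mul] at this
      exact hk0 this.symm
    rw [hudef, orderOf_pow_of_dvd hne (Nat.div_dvd_of_dvd hpe), Nat.div_div_self hpe hk0]
  have hov : orderOf v = q := by
    have hne : orderOf k / q ≠ 0 := by
      intro h0
      have := Nat.div_mul_cancel hqe
      rw [h0, zero_mul] at this
      exact hk0 this.symm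
    rw [hvdef, orderOf_pow_of_dvd hne (Nat.div_dvd_of_dvd hqe), Nat.div_div_self hqe hk0]
  have huv : u * v = v * u := by rw [hudef, hvdef, ← pow_add, ← pow_add, add_comm]
  have huP : u ∈ (P : Subgroup G) := mem_normal_sylow_of_orderOf P hP u 1 (by rw [hou, pow_one])
  have hqpc : Nat.Coprime q p := (Nat.coprime_primes hq hp.out).2 hqp
  have hvcop : (orderOf v).Coprime p := by rw [hov]; exact hqpc
  have hvN : ∀ Q : Subgroup G, Q.Normal → v ∈ Subgroup.normalizer (Q : Set G) := by
    intro Q hQ
    rw [Subgroup.normalizer_eq_top]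
    exact Subgroup.mem_top v
  -- Step B
  have hB : v ∉ Subgroup.centralizer ((P : Subgroup G) : Set G) := by
    intro hvC
    obtain ⟨C, hCdef⟩ : ∃ C : Subgroup G, C = Subgroup.centralizer ((P : Subgroup G) : Set G) :=
      ⟨_, rfl⟩
    have hCn : C.Normal := by rw [hCdef]; exact Subgroup.normal_centralizer
    have hvC' : v ∈ C := hCdef ▸ hvC
    by_cases hCtop : C = ⊤
    · apply h1
      apply hasNormalPComplement_of_normalizer_le_centralizer P
      rw [← hCdef, hCtop]
      exact le_top
    · have hCnil : Group.IsNilpotent C := hnil C hCtop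
      obtain ⟨R⟩ : Nonempty (Sylow q C) := inferInstance
      have htf := ((Group.isNilpotent_of_finite_tfae (G := C)).out 0 3).1 hCnil
      have hRn : (R : Subgroup C).Normal := htf q inferInstance R
      haveI hRc : (R : Subgroup C).Characteristic := Sylow.characteristic_of_normal R hRn
      have hmapn : ((R : Subgroup C).map C.subtype).Normal :=
        ConjAct.normal_of_characteristic_of_normal
      have hvR : (⟨v, hvC'⟩ : C) ∈ (R : Subgroup C) := by
        apply mem_normal_sylow_of_orderOf R hRn _ 1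
        rw [pow_one, Subgroup.orderOf_mk, hov]
      have hle : (R : Subgroup C).map C.subtype ≤ Cfsg.pPrimeCore p G := by
        apply le_sSup
        refine ⟨hmapn, ?_⟩
        rw [← Nat.card_congr ((R : Subgroup C).equivMapOfInjective C.subtype
          (Subgroup.subtype_injective C)).toEquiv]
        obtain ⟨n, hn⟩ := IsPGroup.iff_card.1 R.isPGroup'
        rw [hn]
        exact Nat.Coprime.pow_left _ hqpc
      rw [hO] at hle
      have hmem : v ∈ (R : Subgroup C).map C.subtype := ⟨⟨v, hvC'⟩, hvR, rfl⟩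
      have hv1 := hle hmem
      rw [Subgroup.mem_bot] at hv1
      rw [hv1, orderOf_one] at hov
      exact hq.one_lt.ne hov
  -- dichotomy
  have hdich : ∀ Q : Subgroup G, Q.Normal → IsPGroup p Q →
      Q ⊔ Subgroup.zpowers v = ⊤ ∨ v ∈ Subgroup.centralizer (Q : Set G) := by
    intro Q hQn hQp
    by_cases hne : Q ⊔ Subgroup.zpowers v = ⊤
    · exact Or.inl hne
    · right
      exact mem_centralizer_of_plocalCentral_subgroup _
        (plocalCentral_of_hasNormalPComplement (h2 _ hne)) Q hQp le_sup_left v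
        (Subgroup.mem_sup_right (Subgroup.mem_zpowers v)) (hvN Q hQn) hvcop
  have hPv : (P : Subgroup G) ⊔ Subgroup.zpowers v = ⊤ := (hdich P hP P.isPGroup').resolve_right hB
  have hcen : ∀ z : G, (∀ x ∈ (P : Subgroup G), x * z = z * x) → v * z = z * v →
      z ∈ Subgroup.center G := by
    intro z hzP hzv
    have hle : (P : Subgroup G) ⊔ Subgroup.zpowers v ≤ Subgroup.centralizer ({z} : Set G) := by
      apply sup_le
      · intro x hx
        rw [Subgroup.mem_centralizer_iff]
        intro h hh
        rw [Set.mem_singleton_iff] at hh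
        rw [hh]
        exact (hzP x hx).symm
      · rw [Subgroup.zpowers_le, Subgroup.mem_centralizer_iff]
        intro h hh
        rw [Set.mem_singleton_iff] at hh
        rw [hh]
        exact hzv.symm
    rw [hPv] at hle
    rw [Subgroup.mem_center_iff]
    intro g
    have := hle (Subgroup.mem_top g)
    rw [Subgroup.mem_centralizer_iff] at this
    exact (this z rfl).symm
  have hdisj : (P : Subgroup G) ⊓ Subgroup.zpowers v = ⊥ := by
    apply (Subgroup.disjoint_of_coprime_natCard _).eq_bot
    obtain ⟨n, hn⟩ := IsPGroup.iff_card.1 P.isPGroup'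
    rw [hn, Nat.card_zpowers, hov]
    exact Nat.Coprime.pow_left _ hqpc.symm
  -- Step D
  obtain ⟨ZP, hZPdef⟩ : ∃ ZP : Subgroup G,
      ZP = (P : Subgroup G) ⊓ Subgroup.centralizer ((P : Subgroup G) : Set G) := ⟨_, rfl⟩
  have hZPn : ZP.Normal := by
    have : (Subgroup.centralizer ((P : Subgroup G) : Set G)).Normal := Subgroup.normal_centralizer
    rw [hZPdef]
    infer_instance
  have hZPp : IsPGroup p ZP := P.isPGroup'.to_le (hZPdef ▸ inf_le_left)
  obtain ⟨z, hzP, hz1, hzc⟩ : ∃ z ∈ (P : Subgroup G), z ≠ 1 ∧ z ∈ Subgroup.center G := by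
    rcases hdich ZP hZPn hZPp with hcase | hcase
    · -- P is abelian
      have hPab : ∀ x ∈ (P : Subgroup G), x ∈ Subgroup.centralizer ((P : Subgroup G) : Set G) := by
        intro x hx
        have hx' : x ∈ ZP ⊔ Subgroup.zpowers v := hcase ▸ Subgroup.mem_top x
        haveI := hZPn
        obtain ⟨y, hy, w, hw, hyw⟩ := Subgroup.mem_sup_of_normal_left.1 hx'
        have hyP : y ∈ (P : Subgroup G) := (hZPdef ▸ hy : y ∈ (P : Subgroup G) ⊓ _).1
        have hwP : w ∈ (P : Subgroup G) := by
          have : w = y⁻¹ * x := by rw [← hyw]; group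
          rw [this]
          exact Subgroup.mul_mem _ (Subgroup.inv_mem _ hyP) hx
        have hw1 : w ∈ (P : Subgroup G) ⊓ Subgroup.zpowers v := ⟨hwP, hw⟩
        rw [hdisj, Subgroup.mem_bot] at hw1
        rw [hw1, mul_one] at hyw
        rw [← hyw]
        exact (hZPdef ▸ hy : y ∈ (P : Subgroup G) ⊓ _).2
      refine ⟨u, huP, ?_, ?_⟩
      · intro h
        rw [h, orderOf_one] at hou
        exact hp.out.one_lt.ne hou
      · apply hcen u
        · intro x hx
          exact Subgroup.mem_centralizer_iff.1 (hPab u huP) x hx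
        · exact huv.symm
    · -- Z(P) ≤ Z(G)
      have hPne : (P : Subgroup G) ≠ ⊥ := P.ne_bot_of_dvd_card hpG
      haveI : Nontrivial (P : Subgroup G) := (Subgroup.nontrivial_iff_ne_bot _).2 hPne
      haveI : Nontrivial (Subgroup.center (P : Subgroup G)) := P.isPGroup'.center_nontrivial
      obtain ⟨⟨z', hz'⟩, hz'1⟩ := exists_ne (1 : Subgroup.center (P : Subgroup G))
      have hzcomm : ∀ x ∈ (P : Subgroup G), x * (z' : G) = (z' : G) * x := by
        intro x hx
        have := Subgroup.mem_center_iff.1 hz' ⟨x, hx⟩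
        exact congrArg Subtype.val this
      refine ⟨(z' : G), z'.2, ?_, ?_⟩
      · intro h
        apply hz'1
        apply Subtype.ext
        apply Subtype.ext
        exact h
      · apply hcen _ hzcomm
        have hzZP : (z' : G) ∈ ZP := by
          rw [hZPdef]
          refine ⟨z'.2, ?_⟩
          show (z' : G) ∈ Subgroup.centralizer ((P : Subgroup G) : Set G)
          rw [Subgroup.mem_centralizer_iff]
          intro h hh
          exact hzcomm h hh
        exact (Subgroup.mem_centralizer_iff.1 hcase _ hzZP).symm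
  -- Step E
  have hZne : Subgroup.center G ≠ ⊥ := by
    intro h
    rw [h, Subgroup.mem_bot] at hzc
    exact hz1 hzc
  have hPLC : PLocalCentral p (G ⧸ Subgroup.center G) :=
    plocalCentral_of_hasNormalPComplement (h3 (Subgroup.center G) hZne)
  have hPbar : IsPGroup p ((P : Subgroup G).map (QuotientGroup.mk' (Subgroup.center G))) :=
    P.isPGroup'.map _
  have hPbarn : ((P : Subgroup G).map (QuotientGroup.mk' (Subgroup.center G))).Normal :=
    hP.map _ (QuotientGroup.mk'_surjective _)
  have hvbar : QuotientGroup.mk' (Subgroup.center G) v ∈ Subgroup.centralizer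
      (((P : Subgroup G).map (QuotientGroup.mk' (Subgroup.center G)) : Subgroup _) : Set _) := by
    apply hPLC _ hPbar
    · rw [Subgroup.normalizer_eq_top]
      exact Subgroup.mem_top _
    · exact Nat.Coprime.coprime_dvd_left (orderOf_map_dvd _ v) hvcop
  apply hB
  rw [Subgroup.mem_centralizer_iff]
  intro x hx
  have h4 : QuotientGroup.mk' (Subgroup.center G) x * QuotientGroup.mk' (Subgroup.center G) v =
      QuotientGroup.mk' (Subgroup.center G) v * QuotientGroup.mk' (Subgroup.center G) x :=
    Subgroup.mem_centralizer_iff.1 hvbar _ ⟨x, hx, rfl⟩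
  rw [← map_mul, ← map_mul] at h4
  have h5 : (v * x)⁻¹ * (x * v) ∈ Subgroup.center G := QuotientGroup.eq.1 h4.symm
  obtain ⟨c, hcdef⟩ : ∃ c : G, c = (v * x)⁻¹ * (x * v) := ⟨_, rfl⟩
  rw [← hcdef] at h5
  have h6 : x * v = v * x * c := by rw [hcdef]; group
  have h7 := mul_pow_eq_of_central x v c h5 h6 q
  have hvq : v ^ q = 1 := by rw [← hov]; exact pow_orderOf_eq_one v
  rw [hvq, mul_one, one_mul] at h7
  have hcq : c ^ q = 1 := by
    have : x * 1 = x * c ^ q := by rw [mul_one]; exact h7
    exact (mul_left_cancel this).symm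
  have hcP : c ∈ (P : Subgroup G) := by
    have : c = x⁻¹ * (v⁻¹ * x * v⁻¹⁻¹) := by rw [hcdef]; group
    rw [this]
    exact Subgroup.mul_mem _ (Subgroup.inv_mem _ hx) (hP.conj_mem x hx v⁻¹)
  obtain ⟨j, hj⟩ := P.isPGroup' ⟨c, hcP⟩
  have hcj : c ^ p ^ j = 1 := by
    have := congrArg Subtype.val hj
    simpa using this
  have hd1 : orderOf c ∣ q := orderOf_dvd_of_pow_eq_one hcq
  have hd2 : orderOf c ∣ p ^ j := orderOf_dvd_of_pow_eq_one hcj
  have hd3 : orderOf c = 1 :=
    Nat.Coprime.eq_one_of_dvd (Nat.Coprime.coprime_dvd_left hd1 (Nat.Coprime.pow_right _ hqpc)) hd2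
  have hc1 : c = 1 := orderOf_eq_one_iff.1 hd3
  rw [hc1, mul_one] at h6
  exact h6

end Cfsg.Agent.Helper4
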