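import Mathlib
import Cfsg.Agent.Helper4.PNilpSectionC

set_option autoImplicit false

namespace Cfsg.Agent.Helper4

open Cfsg.Agent.Helper1

universe u

/-- a group of order prime to `p` has a normal `p`-complement -/
theorem hasNormalPComplement_of_coprime_card {G : Type u} [Group G] [Finite G] {p : ℕ}
    [hp : Fact p.Prime] (hc : (Nat.card G).Coprime p) : Cfsg.HasNormalPComplement p G := by
  obtain ⟨P⟩ : Nonempty (Sylow p G) := inferInstance
  refine ⟨P, ⊤, inferInstance, ?_⟩
  rw [Subgroup.isComplement'_top_left]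
  rcases P.isPGroup'.card_eq_or_dvd with h | h
  · exact Subgroup.card_eq_one.1 h
  · exfalso
    have h2 : p ∣ Nat.card G := h.trans (Subgroup.card_subgroup_dvd_card _)
    have := Nat.Coprime.eq_one_of_dvd hc.symm h2
    exact hp.out.one_lt.ne' this

/-- `p`-nilpotency lifts through a normal `p'`-subgroup -/
theorem hasNormalPComplement_of_quotient_coprime {G : Type u} [Group G] [Finite G] {p : ℕ}
    [hp : Fact p.Prime] (M : Subgroup G) [hM : M.Normal] (hMc : (Nat.card M).Coprime p)
    (h : Cfsg.HasNormalPComplement p (G ⧸ M)) : Cfsg.HasNormalPComplement p G := by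
  obtain ⟨Pb, Kb, hKn, hKc⟩ := h
  obtain ⟨M', hM'def⟩ : ∃ M' : Subgroup G, M' = Kb.comap (QuotientGroup.mk' M) := ⟨_, rfl⟩
  haveI hM'n : M'.Normal := by rw [hM'def]; exact hKn.comap _
  obtain ⟨j, hj⟩ := IsPGroup.iff_card.1 Pb.isPGroup'
  have hidx : M'.index = p ^ j := by
    rw [hM'def, Subgroup.index_comap_of_surjective _ (QuotientGroup.mk'_surjective M),
      hKc.symm.index_eq_card, hj]
  have hcopK : (Nat.card Kb).Coprime p := by
    rw [← hKc.index_eq_card]
    exact ((Nat.Prime.coprime_iff_not_dvd hp.out).2 Pb.not_dvd_index).symm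
  have hcard : Nat.card M' = Nat.card M * Nat.card Kb := by
    have e1 : Nat.card M' * M'.index = Nat.card G := Subgroup.card_mul_index M'
    have e2 : Nat.card G = Nat.card (G ⧸ M) * Nat.card M :=
      Subgroup.card_eq_card_quotient_mul_card_subgroup M
    have e3 : Nat.card Kb * Nat.card Pb = Nat.card (G ⧸ M) := hKc.card_mul_card
    rw [hidx, e2, ← e3, hj] at e1
    have hpos : 0 < p ^ j := pow_pos hp.out.pos j
    apply Nat.eq_of_mul_eq_mul_right hpos
    rw [e1]; ring
  have hM'c : (Nat.card M').Coprime p := by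
    rw [hcard]
    exact Nat.Coprime.mul_left hMc hcopK
  exact hasNormalPComplement_of_normal_ppow_index M' hidx (hasNormalPComplement_of_coprime_card hM'c)

theorem hasNormalPComplement_of_sectionHyp_aux {p : ℕ} [hp : Fact p.Prime] :
    ∀ n : ℕ, ∀ (G : Type u) [Group G] [Finite G], Nat.card G = n → SectionHyp p G →
      Cfsg.HasNormalPComplement p G := by
  intro n
  induction n using Nat.strong_induction_on with
  | _ n ih =>
    intro G _ _ hn hyp
    by_contra h1
    have h2 : ∀ H : Subgroup G, H ≠ ⊤ → Cfsg.HasNormalPComplement p H := by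
      intro H hH
      apply ih (Nat.card H) _ H rfl (hyp.subgroup H)
      rw [← hn]
      have hidx : H.index ≠ 1 := fun h => hH (Subgroup.index_eq_one.1 h)
      have hpos : H.index ≠ 0 := Subgroup.index_ne_zero_of_finite
      have e := Subgroup.card_mul_index H
      have hcp : 0 < Nat.card H := Nat.card_pos
      have h2le : 2 ≤ H.index := by omega
      nlinarith
    have h3 : ∀ M : Subgroup G, ∀ [M.Normal], M ≠ ⊥ → Cfsg.HasNormalPComplement p (G ⧸ M) := by
      intro M _ hM
      apply ih (Nat.card (G ⧸ M)) _ (G ⧸ M) rfl (hyp.quotient M)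
      rw [← hn, Subgroup.card_eq_card_quotient_mul_card_subgroup M]
      have h1M : 1 < Nat.card M := by
        rw [Finite.one_lt_card_iff_nontrivial]
        exact (Subgroup.nontrivial_iff_ne_bot M).2 hM
      have hpos : 0 < Nat.card (G ⧸ M) := Nat.card_pos
      nlinarith
    have hO : Cfsg.pPrimeCore p G = ⊥ := by
      by_contra hne
      apply h1
      exact hasNormalPComplement_of_quotient_coprime (Cfsg.pPrimeCore p G)
        (card_pPrimeCore_coprime p) (h3 (Cfsg.pPrimeCore p G) hne)
    obtain ⟨k, hk⟩ := hyp.good hO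
    exact min_counterexample_false h1 h2 h3 hO k hk

theorem hasNormalPComplement_of_sectionHyp {G : Type u} [Group G] [Finite G] {p : ℕ}
    [hp : Fact p.Prime] (h : SectionHyp p G) : Cfsg.HasNormalPComplement p G :=
  hasNormalPComplement_of_sectionHyp_aux _ G rfl h

end Cfsg.Agent.Helper4
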