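import Mathlib
import Cfsg.Prelude.Def_Classical
import Cfsg.Agent.Helper7.IsomTransfer

/-!
# Transport of `PΩ(Q)` along a ring isomorphism of the coefficient fields
-/

set_option autoImplicit false

namespace Cfsg.Agent.Helper4.POmegaTransport

open Cfsg

section general
variable {G H : Type*} [Group G] [Group H]

theorem map_commutator_top (e : G ≃* H) :
    (commutator G).map e.toMonoidHom = commutator H := by
  rw [commutator_def, commutator_def, Subgroup.map_commutator,
    Subgroup.map_top_of_surjective e.toMonoidHom e.surjective]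

/-- commutator subgroups of isomorphic groups are isomorphic. -/
noncomputable def commEquiv (e : G ≃* H) : ↥(commutator G) ≃* ↥(commutator H) :=
  (e.subgroupMap (commutator G)).trans (MulEquiv.subgroupCongr (map_commutator_top e))

theorem map_center (e : G ≃* H) :
    (Subgroup.center G).map e.toMonoidHom = Subgroup.center H := by
  ext y
  constructor
  · rintro ⟨x, hx, rfl⟩
    rw [SetLike.mem_coe, Subgroup.mem_center_iff] at hx
    rw [Subgroup.mem_center_iff]
    intro z
    obtain ⟨w, rfl⟩ := e.surjective z
    show e w * e x = e x * e w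
    rw [← map_mul, ← map_mul, hx w]
  · intro hy
    refine ⟨e.symm y, ?_, by simp⟩
    rw [Subgroup.mem_center_iff] at hy
    rw [SetLike.mem_coe, Subgroup.mem_center_iff]
    intro z
    apply e.injective
    rw [map_mul, map_mul, e.apply_symm_apply]
    exact hy (e z)

/-- quotients by the centre of isomorphic groups are isomorphic. -/
noncomputable def centerQuotEquiv (e : G ≃* H) :
    (G ⧸ Subgroup.center G) ≃* (H ⧸ Subgroup.center H) :=
  QuotientGroup.congr (Subgroup.center G) (Subgroup.center H) e (map_center e)

end general

variable {ι : Type} [Fintype ι] [DecidableEq ι] {F K : Type*} [Field F] [Field K]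

/-- `PΩ` of a form that is natural in the field is transported by a ring isomorphism. -/
noncomputable def pOmegaEquiv (φ : F ≃+* K) (QF : (ι → F) → F) (QK : (ι → K) → K)
    (hnat : ∀ v : ι → F, QK (φ ∘ v) = φ (QF v)) : POmega F QF ≃* POmega K QK :=
  centerQuotEquiv (commEquiv (Cfsg.Agent.Helper7.IsomTransfer.isoEquiv φ QF QK hnat))

theorem quadFormOdd_nat (m : ℕ) (φ : F ≃+* K) (v : Unit ⊕ (Fin m ⊕ Fin m) → F) :
    quadFormOdd m K (φ ∘ v) = φ (quadFormOdd m F v) := by
  simp only [quadFormOdd, Function.comp_apply, map_add, map_pow, map_sum, map_mul]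

/-- `PΩ_{2m+1}` over two fields of the same cardinality. -/
noncomputable def pOmegaOddEquiv (m : ℕ) (φ : F ≃+* K) :
    POmega F (quadFormOdd m F) ≃* POmega K (quadFormOdd m K) :=
  pOmegaEquiv φ _ _ (quadFormOdd_nat m φ)

end Cfsg.Agent.Helper4.POmegaTransport
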