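import Mathlib
import Cfsg.Prelude.Def_Local
import Cfsg.Agent.Helper1.Basic
import Cfsg.Agent.Helper1.QCoreA
import Cfsg.Agent.Helper4.OrbitSpanA
import Cfsg.Agent.Helper4.PSolvable

/-!
# S4411, part A (helper4): Hall `{p, q}`-subgroups of `p`-solvable groups

A finite `p`-solvable group has a subgroup whose order involves only the primes `p`, `q` and whose
index is prime to both `p` and `q`.
-/

set_option autoImplicit false
set_option linter.style.haveILetI false
set_option linter.unusedVariables false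

namespace Cfsg.Agent.Helper4.PQAut

open Cfsg.Agent.Helper1

universe u

/-- `n` is a `{p, q}`-number. -/
def IsPQ (p q n : ℕ) : Prop := ∀ r : ℕ, r.Prime → r ∣ n → r = p ∨ r = q

theorem IsPQ.mul {p q a b : ℕ} (ha : IsPQ p q a) (hb : IsPQ p q b) : IsPQ p q (a * b) := by
  intro r hr hd
  rcases (Nat.Prime.dvd_mul hr).1 hd with h | h
  · exact ha r hr h
  · exact hb r hr h

theorem IsPQ.of_dvd {p q a b : ℕ} (hb : IsPQ p q b) (h : a ∣ b) : IsPQ p q a :=
  fun r hr hd => hb r hr (hd.trans h)

theorem isPQ_one (p q : ℕ) : IsPQ p q 1 := by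
  intro r hr hd
  exact absurd (Nat.dvd_one.1 hd) hr.one_lt.ne'

theorem isPQ_pow_left (p q k : ℕ) [hp : Fact p.Prime] : IsPQ p q (p ^ k) := by
  intro r hr hd
  exact Or.inl ((Nat.prime_dvd_prime_iff_eq hr hp.out).1 (hr.dvd_of_dvd_pow hd))

theorem isPQ_pow_right (p q k : ℕ) [hq : Fact q.Prime] : IsPQ p q (q ^ k) := by
  intro r hr hd
  exact Or.inr ((Nat.prime_dvd_prime_iff_eq hr hq.out).1 (hr.dvd_of_dvd_pow hd))

/-- a number prime to `p` and `q` is prime to every `{p, q}`-number. -/
theorem IsPQ.coprime {p q a b : ℕ} (ha : IsPQ p q a) (hp : b.Coprime p) (hq : b.Coprime q) :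
    b.Coprime a := by
  by_contra hc
  obtain ⟨r, hr, hrb, hra⟩ := Nat.Prime.not_coprime_iff_dvd.1 hc
  rcases ha r hr hra with rfl | rfl
  · exact hr.one_lt.ne' (Nat.eq_one_of_dvd_coprimes hp hrb dvd_rfl)
  · exact hr.one_lt.ne' (Nat.eq_one_of_dvd_coprimes hq hrb dvd_rfl)

variable {X : Type u} [Group X]

/-- the order of a full preimage. -/
theorem card_comap_mk' [Finite X] (K : Subgroup X) [K.Normal] (Yb : Subgroup (X ⧸ K)) :
    Nat.card (Yb.comap (QuotientGroup.mk' K)) = Nat.card K * Nat.card Yb := by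
  have hsurj : Function.Surjective (QuotientGroup.mk' K) := QuotientGroup.mk'_surjective K
  have e1 : Nat.card X = Nat.card K * Nat.card (X ⧸ K) := by
    rw [Subgroup.card_eq_card_quotient_mul_card_subgroup K, mul_comm]
  have e2 : Nat.card X = Nat.card (Yb.comap (QuotientGroup.mk' K)) * Yb.index := by
    rw [← Subgroup.index_comap_of_surjective Yb hsurj]
    exact ((Yb.comap (QuotientGroup.mk' K)).card_mul_index).symm
  have e3 : Nat.card (X ⧸ K) = Nat.card Yb * Yb.index := (Yb.card_mul_index).symm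
  have hidx : 0 < Yb.index := Nat.pos_of_ne_zero Subgroup.index_ne_zero_of_finite
  have : Nat.card (Yb.comap (QuotientGroup.mk' K)) * Yb.index
      = (Nat.card K * Nat.card Yb) * Yb.index := by
    rw [← e2, e1, e3, mul_assoc]
  exact Nat.eq_of_mul_eq_mul_right hidx this

/-- index of a supplement of a normal subgroup. -/
theorem index_eq_relIndex_of_sup_eq_top [Finite X] (H K : Subgroup X) [K.Normal]
    (h : H ⊔ K = ⊤) : H.index = H.relIndex K := by
  have ha : K.index = K.relIndex H := by
    rw [← Subgroup.relIndex_top_right, ← h, Subgroup.relIndex_sup_right]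
  have hb := K.card_mul_index
  have hc := H.card_mul_index
  have hd : K.relIndex H * Nat.card (K ⊓ H : Subgroup X) = Nat.card H := by
    rw [← Subgroup.inf_relIndex_right]
    exact relIndex_mul_card_of_le inf_le_right
  have he : H.relIndex K * Nat.card (H ⊓ K : Subgroup X) = Nat.card K := by
    rw [← Subgroup.inf_relIndex_right]
    exact relIndex_mul_card_of_le inf_le_right
  have hpos : 0 < K.relIndex H := by
    rw [← ha]
    exact Nat.pos_of_ne_zero Subgroup.index_ne_zero_of_finite
  have hpos2 : 0 < Nat.card (H ⊓ K : Subgroup X) := Nat.card_pos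
  rw [inf_comm] at hd
  -- card K * relIndex K H = card H * index H
  have h1 : Nat.card K * K.relIndex H = K.relIndex H * Nat.card (H ⊓ K : Subgroup X) * H.index := by
    rw [hd, hc, ← ha, hb]
  have h2 : Nat.card K = Nat.card (H ⊓ K : Subgroup X) * H.index := by
    have : K.relIndex H * Nat.card K
        = K.relIndex H * (Nat.card (H ⊓ K : Subgroup X) * H.index) := by
      rw [mul_comm, h1, mul_assoc]
    exact Nat.eq_of_mul_eq_mul_left hpos this
  rw [← he, mul_comm] at h2
  exact (Nat.eq_of_mul_eq_mul_left hpos2 h2).symm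

theorem exists_hall_pq_aux (p q : ℕ) [hp : Fact p.Prime] [hq : Fact q.Prime] :
    ∀ (n : ℕ) (X : Type u) [Group X] [Finite X], Nat.card X = n → Cfsg.IsPSolvable p X →
      ∃ Y : Subgroup X, IsPQ p q (Nat.card Y) ∧ Y.index.Coprime p ∧ Y.index.Coprime q := by
  intro n
  induction n using Nat.strong_induction_on with
  | _ n ih =>
  intro X _ _ hn hX
  by_cases htriv : (⊤ : Subgroup X) = ⊥
  · refine ⟨⊤, ?_, by simp, by simp⟩
    rw [htriv, Subgroup.card_bot]
    exact isPQ_one p q
  -- quotient step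
  have quotStep : ∀ K : Subgroup X, K.Normal → K ≠ ⊥ → IsPQ p q (Nat.card K) →
      ∃ Y : Subgroup X, IsPQ p q (Nat.card Y) ∧ Y.index.Coprime p ∧ Y.index.Coprime q := by
    intro K hKn hK1 hKpq
    haveI := hKn
    have hlt : Nat.card (X ⧸ K) < n := by
      rw [← hn, Subgroup.card_eq_card_quotient_mul_card_subgroup K]
      have h1 : 1 < Nat.card K := (Subgroup.one_lt_card_iff_ne_bot _).2 hK1
      have hpos : 0 < Nat.card (X ⧸ K) := Nat.card_pos
      nlinarith
    obtain ⟨Yb, hYb1, hYb2, hYb3⟩ := ih _ hlt (X ⧸ K) rfl (isPSolvable_quotient hX K)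
    refine ⟨Yb.comap (QuotientGroup.mk' K), ?_, ?_, ?_⟩
    · rw [card_comap_mk']
      exact hKpq.mul hYb1
    · rw [Subgroup.index_comap_of_surjective Yb (QuotientGroup.mk'_surjective K)]
      exact hYb2
    · rw [Subgroup.index_comap_of_surjective Yb (QuotientGroup.mk'_surjective K)]
      exact hYb3
  -- subgroup step
  have subStep : ∀ L : Subgroup X, L ≠ ⊤ → L.index.Coprime p → L.index.Coprime q →
      ∃ Y : Subgroup X, IsPQ p q (Nat.card Y) ∧ Y.index.Coprime p ∧ Y.index.Coprime q := by
    intro L hL hLp hLq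
    have hlt : Nat.card L < n := by
      rw [← hn]
      exact lt_of_le_of_ne (Subgroup.card_le_card_group L)
        (fun h => hL (Subgroup.eq_top_of_card_eq L h))
    obtain ⟨Y₂, h1, h2, h3⟩ := ih _ hlt L rfl (isPSolvable_subgroup hX L)
    refine ⟨Y₂.map L.subtype, ?_, ?_, ?_⟩
    · rw [Subgroup.card_map_of_injective L.subtype_injective]
      exact h1
    · rw [Subgroup.index_map_subtype]
      exact Nat.Coprime.mul_left h2 hLp
    · rw [Subgroup.index_map_subtype]
      exact Nat.Coprime.mul_left h3 hLq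
  obtain ⟨M, hMn, -, hM1, hMcase⟩ := QCore.exists_normal_of_isPSolvable (⊤ : Subgroup X)
    (isPSolvable_subgroup hX ⊤) htriv
  haveI := hMn
  rcases hMcase with ⟨m, hm⟩ | hMcop
  · exact quotStep M hMn hM1 (hm ▸ isPQ_pow_left p q m)
  -- `M` is a `p'`-group
  have hlt : Nat.card (X ⧸ M) < n := by
    rw [← hn, Subgroup.card_eq_card_quotient_mul_card_subgroup M]
    have h1 : 1 < Nat.card M := (Subgroup.one_lt_card_iff_ne_bot _).2 hM1
    have hpos : 0 < Nat.card (X ⧸ M) := Nat.card_pos
    nlinarith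
  obtain ⟨Yb, hYb1, hYb2, hYb3⟩ := ih _ hlt (X ⧸ M) rfl (isPSolvable_quotient hX M)
  have hsurj : Function.Surjective (QuotientGroup.mk' M) := QuotientGroup.mk'_surjective M
  by_cases hY₁ : Yb.comap (QuotientGroup.mk' M) = ⊤
  swap
  · apply subStep _ hY₁
    · rw [Subgroup.index_comap_of_surjective Yb hsurj]
      exact hYb2
    · rw [Subgroup.index_comap_of_surjective Yb hsurj]
      exact hYb3
  -- `X ⧸ M` is a `{p, q}`-group
  have hYbtop : Yb = ⊤ := by
    apply Subgroup.comap_injective hsurj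
    rw [hY₁, Subgroup.comap_top]
  have hidxpq : IsPQ p q M.index := by
    rw [Subgroup.index_eq_card, ← Subgroup.card_top (G := X ⧸ M), ← hYbtop]
    exact hYb1
  by_cases hqM : q ∣ Nat.card M
  · -- Frattini argument
    obtain ⟨Q₀⟩ : Nonempty (Sylow q M) := inferInstance
    have hQ₀1 : (Q₀ : Subgroup M) ≠ ⊥ := Q₀.ne_bot_of_dvd_card hqM
    have hQ₁1 : (Q₀ : Subgroup M).map M.subtype ≠ ⊥ := by
      intro h
      exact hQ₀1 ((Subgroup.map_eq_bot_iff_of_injective _ M.subtype_injective).1 h)
    have hQ₁pq : IsPQ p q (Nat.card ((Q₀ : Subgroup M).map M.subtype)) := by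
      rw [Subgroup.card_map_of_injective M.subtype_injective]
      obtain ⟨k, hk⟩ := IsPGroup.iff_card.1 Q₀.2
      rw [hk]
      exact isPQ_pow_right p q k
    by_cases hN₁ : Subgroup.normalizer (((Q₀ : Subgroup M).map M.subtype : Subgroup X) : Set X) = ⊤
    · exact quotStep _ (Subgroup.normalizer_eq_top_iff.1 hN₁) hQ₁1 hQ₁pq
    · have hfr := Sylow.normalizer_sup_eq_top Q₀
      have hidx := index_eq_relIndex_of_sup_eq_top _ M hfr
      have hdvd : (Subgroup.normalizer
          (((Q₀ : Subgroup M).map M.subtype : Subgroup X) : Set X)).index ∣ Nat.card M := by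
        rw [hidx]
        exact Subgroup.relIndex_dvd_card _ _
      have hnq : ¬ q ∣ (Subgroup.normalizer
          (((Q₀ : Subgroup M).map M.subtype : Subgroup X) : Set X)).index := by
        rw [hidx]
        intro hd
        apply Q₀.not_dvd_index
        refine hd.trans (Subgroup.index_dvd_of_le ?_)
        intro x hx
        rw [Subgroup.mem_subgroupOf]
        exact Subgroup.le_normalizer ⟨x, hx, rfl⟩
      apply subStep _ hN₁
      · exact Nat.Coprime.coprime_dvd_left hdvd hMcop
      · exact ((Nat.Prime.coprime_iff_not_dvd hq.out).2 hnq).symm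
  · -- Schur–Zassenhaus
    have hMq : (Nat.card M).Coprime q := ((Nat.Prime.coprime_iff_not_dvd hq.out).2 hqM).symm
    have hcop : (Nat.card M).Coprime M.index := hidxpq.coprime hMcop hMq
    obtain ⟨K, hK⟩ := Subgroup.exists_right_complement'_of_coprime hcop
    refine ⟨K, ?_, ?_, ?_⟩
    · rw [← hK.symm.index_eq_card]
      exact hidxpq
    · rw [hK.index_eq_card]
      exact hMcop
    · rw [hK.index_eq_card]
      exact hMq

/-- **Hall `{p, q}`-subgroups of `p`-solvable groups.** -/
theorem exists_hall_pq (p q : ℕ) [Fact p.Prime] [Fact q.Prime] [Finite X]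
    (hX : Cfsg.IsPSolvable p X) :
    ∃ Y : Subgroup X, IsPQ p q (Nat.card Y) ∧ Y.index.Coprime p ∧ Y.index.Coprime q :=
  exists_hall_pq_aux p q _ X rfl hX

end Cfsg.Agent.Helper4.PQAut
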