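import Mathlib
import Cfsg.Prelude.Def_PLocal
import Cfsg.Prelude.Def_Transfer
import Cfsg.Agent.Helper1.KChainD
import Cfsg.Agent.Helper1.TNi
import Cfsg.Agent.Helper1.ThompsonNPC
import Cfsg.Agent.Helper1.QuadFreeA

/-!
# S4411, part B (helper4): a functorial normal `p`-complement criterion

If for EVERY characteristic functor `F` the automizer of `F(P)` (`P` a Sylow `p`-subgroup of `Y`)
is a `p`-group, and `p ≠ 2` or `Y` is `S₄`-free, then `Y` has a normal `p`-complement
(Thompson's theorem for `J_a` and `Z`, iterated through quotients by `Z(P)`, `J_a(P)`).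
-/

set_option autoImplicit false
set_option linter.style.haveILetI false
set_option linter.unusedVariables false

namespace Cfsg.Agent.Helper4.PQAut

open Cfsg.Agent.Helper1 Cfsg.Agent.Helper1.ThompsonRed Cfsg.Agent.Helper1.KChain

universe u

theorem normal_W (V : CharFunctor.{u}) (R : Type u) [Group R] : (V.W R).Normal := by
  refine ⟨fun n hn g => ?_⟩
  have h := V.map_equiv (MulAut.conj g)
  rw [← h]
  exact ⟨n, hn, by simp⟩

instance instNormalW (V : CharFunctor.{u}) (R : Type u) [Group R] : (V.W R).Normal :=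
  normal_W V R

/-- the lift of the functor `F` through the quotient by the functor `V`. -/
def liftF (V F : CharFunctor.{u}) : CharFunctor.{u} where
  W := fun R _ => (F.W (R ⧸ V.W R)).comap (QuotientGroup.mk' (V.W R))
  map_equiv := by
    intro R R' _ _ e
    have hV : (V.W R).map (e : R →* R') = V.W R' := V.map_equiv e
    let eb : R ⧸ V.W R ≃* R' ⧸ V.W R' := QuotientGroup.congr (V.W R) (V.W R') e hV
    have heb : ∀ x : R, eb (QuotientGroup.mk' (V.W R) x) = QuotientGroup.mk' (V.W R') (e x) := by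
      intro x
      rfl
    have hF := F.map_equiv eb
    ext y
    constructor
    · rintro ⟨x, hx, rfl⟩
      have hx' : QuotientGroup.mk' (V.W R) x ∈ F.W (R ⧸ V.W R) := hx
      rw [Subgroup.mem_comap, ← hF]
      exact ⟨_, hx', heb x⟩
    · intro hy
      rw [Subgroup.mem_comap, ← hF] at hy
      obtain ⟨z, hz, hzy⟩ := hy
      have hzy' : eb z = QuotientGroup.mk' (V.W R') y := hzy
      refine ⟨e.symm y, ?_, by simp⟩
      have h1 : eb (QuotientGroup.mk' (V.W R) (e.symm y)) = eb z := by
        rw [heb, hzy']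
        simp
      change QuotientGroup.mk' (V.W R) (e.symm y) ∈ F.W (R ⧸ V.W R)
      rw [eb.injective h1]
      exact hz

theorem mem_liftF_W (V F : CharFunctor.{u}) {R : Type u} [Group R] {x : R} :
    x ∈ (liftF V F).W R ↔ QuotientGroup.mk' (V.W R) x ∈ F.W (R ⧸ V.W R) := Iff.rfl

/-- the lifted functor computes the preimage. -/
theorem liftF_of (V F : CharFunctor.{u}) {Y Yb : Type u} [Group Y] [Group Yb] (P : Subgroup Y)
    (f : Y →* Yb) (hker : f.ker = V.of P) :
    (liftF V F).of P = (F.of (P.map f)).comap f := by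
  have hsurj : Function.Surjective (f.subgroupMap P) := f.subgroupMap_surjective P
  have hk : V.W P = (f.subgroupMap P).ker := by
    ext x
    rw [MonoidHom.mem_ker]
    constructor
    · intro hx
      have h1 : (x : Y) ∈ V.of P := ⟨x, hx, rfl⟩
      rw [← hker, MonoidHom.mem_ker] at h1
      exact Subtype.ext h1
    · intro hx
      have h1 : f (x : Y) = 1 := congrArg Subtype.val hx
      have h2 : (x : Y) ∈ V.of P := by
        rw [← hker]
        exact h1
      obtain ⟨x', hx', hxx⟩ := h2
      have h3 : x' = x := Subtype.ext hxx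
      rwa [← h3]
  let ε : ↥P ⧸ V.W ↥P ≃* ↥(P.map f) :=
    (QuotientGroup.quotientMulEquivOfEq hk).trans
      (QuotientGroup.quotientKerEquivOfSurjective _ hsurj)
  have hε : ∀ x : P, ε (QuotientGroup.mk' _ x) = f.subgroupMap P x := by
    intro x
    rfl
  have hF := F.map_equiv ε
  ext y
  constructor
  · rintro ⟨x, hx, rfl⟩
    rw [Subgroup.mem_comap]
    refine ⟨f.subgroupMap P x, ?_, rfl⟩
    rw [← hF]
    exact ⟨_, (mem_liftF_W V F).1 hx, hε x⟩
  · intro hy
    rw [Subgroup.mem_comap] at hy
    obtain ⟨w, hw, hwy⟩ := hy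
    have hyP : y ∈ P := by
      obtain ⟨x₀, hx₀, hx₀w⟩ := w.2
      have h1 : x₀⁻¹ * y ∈ f.ker := by
        rw [MonoidHom.mem_ker, map_mul, map_inv, hx₀w]
        have : f y = (w : Yb) := hwy.symm
        rw [this, inv_mul_cancel]
      rw [hker] at h1
      have h2 := P.mul_mem hx₀ (V.of_le P h1)
      simpa using h2
    refine ⟨⟨y, hyP⟩, ?_, rfl⟩
    rw [← hF] at hw
    obtain ⟨z, hz, hzw⟩ := hw
    have hzw' : ε z = w := hzw
    have h3 : ε (QuotientGroup.mk' _ ⟨y, hyP⟩) = ε z := by
      rw [hε, hzw']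
      exact Subtype.ext hwy.symm
    change QuotientGroup.mk' (V.W ↥P) ⟨y, hyP⟩ ∈ F.W (↥P ⧸ V.W ↥P)
    rw [ε.injective h3]
    exact hz

/-- `Cond` descends along surjections from the full preimage. -/
theorem cond_of_comap {p : ℕ} [Fact p.Prime] {Y Yb : Type u} [Group Y] [Finite Y] [Group Yb]
    (f : Y →* Yb) (hf : Function.Surjective f) (Kb : Subgroup Yb) (h : Cond p (Kb.comap f)) :
    Cond p Kb := by
  intro yb hyN hyo
  obtain ⟨y, rfl, hyc⟩ := exists_lift_coprime f hf yb hyo
  have hyN' : y ∈ Subgroup.normalizer ((Kb.comap f : Subgroup Y) : Set Y) := by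
    rw [Subgroup.mem_normalizer_iff] at hyN ⊢
    intro h'
    rw [Subgroup.mem_comap, Subgroup.mem_comap, hyN (f h')]
    simp
  have h1 := h y hyN' hyc
  rw [Subgroup.mem_centralizer_iff] at h1 ⊢
  intro kb hkb
  obtain ⟨k, rfl⟩ := hf kb
  have h2 := h1 k hkb
  rw [← map_mul, ← map_mul, h2]

/-- lifting a normal `p`-complement through a normal `p`-subgroup centralized by all
`p'`-elements. -/
theorem npc_of_quotient {X : Type u} [Group X] [Finite X] {p : ℕ} [hp : Fact p.Prime]
    (Z : Subgroup X) [hZn : Z.Normal]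
    (hZc : ∀ y : X, (orderOf y).Coprime p → ∀ z ∈ Z, z * y = y * z) (hZp : IsPGroup p Z)
    (h : Cfsg.HasNormalPComplement p (X ⧸ Z)) : Cfsg.HasNormalPComplement p X := by
  obtain ⟨Mb, hMbn, hcop, k, hk⟩ := hasNormalPComplement_iff_exists.1 h
  set π := QuotientGroup.mk' Z with hπ
  have hπs : Function.Surjective π := QuotientGroup.mk'_surjective Z
  set L := Mb.comap π with hL
  haveI hLn : L.Normal := hMbn.comap π
  have hZL : Z ≤ L := by
    intro z hz
    rw [hL, Subgroup.mem_comap, hπ, QuotientGroup.mk'_apply, (QuotientGroup.eq_one_iff z).2 hz]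
    exact Mb.one_mem
  have hLidx : L.index = p ^ k := by
    rw [hL, Subgroup.index_comap_of_surjective Mb hπs, hk]
  obtain ⟨a, ha⟩ := IsPGroup.iff_card.1 hZp
  have hLcard : Nat.card L = Nat.card Mb * Nat.card Z := by
    have h1 : Nat.card (L.map π) * Nat.card Z = Nat.card L := by
      rw [hπ, ← Subgroup.relIndex_ker, QuotientGroup.ker_mk']
      exact relIndex_mul_card_of_le hZL
    rw [hL, Subgroup.map_comap_eq_self_of_surjective hπs] at h1
    exact h1.symm
  have hLp : Cfsg.HasNormalPComplement p L := by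
    haveI : (Z.subgroupOf L).Normal := Subgroup.Normal.subgroupOf hZn L
    have hZLcard : Nat.card (Z.subgroupOf L) = Nat.card Z := card_subgroupOf_of_le hZL
    have hZLidx : (Z.subgroupOf L).index = Nat.card Mb := by
      have h1 := (Z.subgroupOf L).card_mul_index
      rw [hZLcard, hLcard, mul_comm] at h1
      exact Nat.eq_of_mul_eq_mul_right Nat.card_pos h1
    have hcop' : (Nat.card (Z.subgroupOf L)).Coprime (Z.subgroupOf L).index := by
      rw [hZLcard, hZLidx, ha]
      exact (Nat.Coprime.pow_right a hcop).symm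
    obtain ⟨Q, hQ⟩ := Subgroup.exists_right_complement'_of_coprime hcop'
    rw [hasNormalPComplement_iff_exists]
    have hQcard : Nat.card Q = Nat.card Mb := by
      rw [← hZLidx]; exact (hQ.symm.index_eq_card).symm
    have hQidx : Q.index = p ^ a := by
      rw [hQ.index_eq_card, hZLcard, ha]
    refine ⟨Q, ?_, by rw [hQcard]; exact hcop, a, hQidx⟩
    refine ⟨fun q hq l => ?_⟩
    have hl : l ∈ (Z.subgroupOf L) ⊔ Q := by rw [hQ.sup_eq_top]; exact Subgroup.mem_top l
    obtain ⟨z, hz, q', hq', rfl⟩ := Subgroup.mem_sup_of_normal_left.1 hl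
    have hw : q' * q * q'⁻¹ ∈ Q := Q.mul_mem (Q.mul_mem hq' hq) (Q.inv_mem hq')
    have hwo : (orderOf ((q' * q * q'⁻¹ : L) : X)).Coprime p := by
      rw [Subgroup.orderOf_coe]
      have h1 : orderOf (⟨q' * q * q'⁻¹, hw⟩ : Q) ∣ Nat.card Q := orderOf_dvd_natCard _
      rw [Subgroup.orderOf_mk] at h1
      exact Nat.Coprime.coprime_dvd_left h1 (hQcard ▸ hcop)
    have hzc : z * (q' * q * q'⁻¹) = (q' * q * q'⁻¹) * z := by
      apply Subtype.ext
      exact hZc _ hwo _ (Subgroup.mem_subgroupOf.1 hz)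
    have h1 : z * q' * q * (z * q')⁻¹ = q' * q * q'⁻¹ := by
      have e1 : z * q' * q * (z * q')⁻¹ = z * (q' * q * q'⁻¹) * z⁻¹ := by group
      rw [e1, hzc]
      group
    rw [h1]
    exact hw
  exact npc_of_normal_of_index L hLp ⟨k, hLidx⟩

/-- **Functorial normal `p`-complement criterion.** -/
theorem npc_of_forall_cond {p : ℕ} [hp : Fact p.Prime] :
    ∀ (m : ℕ) (Y : Type u) [Group Y] [Finite Y] (P : Sylow p Y), Nat.card Y = m →
      (p ≠ 2 ∨ ¬ Cfsg.Involves (Equiv.Perm (Fin 4)) Y) →
      (∀ F : CharFunctor.{u}, Cond p (F.of (P : Subgroup Y))) →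
      Cfsg.HasNormalPComplement p Y := by
  intro m
  induction m using Nat.strong_induction_on with
  | _ m ih =>
  intro Y _ _ P hm h4 hcond
  by_cases hP1 : (P : Subgroup Y) = ⊥
  · exact npc_of_sylow_eq_bot P hP1
  -- the subgroup step
  have hsub : ∀ M : Subgroup Y, (P : Subgroup Y) ≤ M → M ≠ ⊤ →
      Cfsg.HasNormalPComplement p M := by
    intro M hPM hM
    have hMlt : Nat.card M < m := by
      rw [← hm]
      exact lt_of_le_of_ne (Subgroup.card_le_card_group M)
        (fun h => hM (Subgroup.eq_top_of_card_eq M h))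
    refine ih (Nat.card M) hMlt M (P.subtype hPM) rfl ?_ ?_
    · rcases h4 with h | h
      · exact Or.inl h
      · exact Or.inr (fun hi => h (QuadFree.involves_of_injective M.subtype M.subtype_injective hi))
    · intro F
      rw [Sylow.coe_subtype]
      exact cond_subgroupOf _ (F.of_subgroupOf hPM) (hcond F)
  -- the quotient step
  have hquot : ∀ V : CharFunctor.{u}, V.of (P : Subgroup Y) ≠ ⊥ →
      Subgroup.normalizer ((V.of (P : Subgroup Y) : Subgroup Y) : Set Y) = ⊤ →
      Cfsg.HasNormalPComplement p Y := by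
    intro V hVne hVtop
    haveI hVn : (V.of (P : Subgroup Y)).Normal := Subgroup.normalizer_eq_top_iff.1 hVtop
    have hV₀P : V.of (P : Subgroup Y) ≤ P := V.of_le _
    have hV₀p : IsPGroup p (V.of (P : Subgroup Y)) := P.2.to_le hV₀P
    refine npc_of_quotient (V.of (P : Subgroup Y)) ?_ hV₀p ?_
    · intro y hy z hz
      have h1 := hcond V y (by rw [hVtop]; trivial) hy
      exact (Subgroup.mem_centralizer_iff.1 h1) z hz
    · have hπ : Function.Surjective (QuotientGroup.mk' (V.of (P : Subgroup Y))) :=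
        QuotientGroup.mk'_surjective _
      have hlt : Nat.card (Y ⧸ V.of (P : Subgroup Y)) < m := by
        rw [← hm, Subgroup.card_eq_card_quotient_mul_card_subgroup (V.of (P : Subgroup Y))]
        have h1 : 1 < Nat.card (V.of (P : Subgroup Y)) := (Subgroup.one_lt_card_iff_ne_bot _).2 hVne
        have hpos : 0 < Nat.card (Y ⧸ V.of (P : Subgroup Y)) := Nat.card_pos
        nlinarith
      refine ih _ hlt (Y ⧸ V.of (P : Subgroup Y)) (P.mapSurjective hπ) rfl ?_ ?_
      · rcases h4 with h | h
        · exact Or.inl h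
        · exact Or.inr (fun hi => h (QuadFree.involves_of_surjective _ hπ hi))
      · intro F
        rw [Sylow.coe_mapSurjective]
        apply cond_of_comap (QuotientGroup.mk' (V.of (P : Subgroup Y))) hπ
        rw [← liftF_of V F (P : Subgroup Y) (QuotientGroup.mk' (V.of (P : Subgroup Y)))
          (QuotientGroup.ker_mk' _)]
        exact hcond (liftF V F)
  by_cases hC : Subgroup.centralizer
      ((centerFunctor.of (P : Subgroup Y) : Subgroup Y) : Set Y) = ⊤
  · apply hquot centerFunctor
      (of_ne_bot centerFunctor (fun R _ _ h1 h2 => centerFunctor_ne_bot R h1 h2) P.2 hP1)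
    rw [eq_top_iff, ← hC]
    exact Subgroup.centralizer_le_normalizer _
  by_cases hN : Subgroup.normalizer
      ((TN.jaFunctor.of (P : Subgroup Y) : Subgroup Y) : Set Y) = ⊤
  · exact hquot TN.jaFunctor
      (of_ne_bot TN.jaFunctor (fun R _ _ h1 h2 => TN.jaFunctor_ne_bot R h1 h2) P.2 hP1) hN
  apply TN.thompson_ja Y P h4
  · have h1 : Cfsg.HasNormalPComplement p ↥(Subgroup.centralizer
        ((centerFunctor.of (P : Subgroup Y) : Subgroup Y) : Set Y)) := by
      refine hsub _ ?_ hC
      intro x hx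
      rw [Subgroup.mem_centralizer_iff]
      intro z hz
      have hz' : z ∈ centerFunctor.of (P : Subgroup Y) := hz
      rw [centerFunctor_of] at hz'
      exact ((Subgroup.mem_centralizer_iff.1 (Subgroup.mem_inf.1 hz').2) x hx).symm
    rw [centerFunctor_of] at h1
    exact h1
  · rw [← TN.jaFunctor_of]
    refine hsub _ ?_ hN
    exact Subgroup.le_normalizer.trans (TN.jaFunctor.normalizer_le _)

end Cfsg.Agent.Helper4.PQAut
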