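import Mathlib

set_option autoImplicit false

/-!
# A pair of disjoint sets whose joint stabilizer has index divisible by `p`
-/

namespace Cfsg.Agent.Helper4.PStabIndex

open scoped Pointwise

/-- A `p`-subgroup can be conjugated into any subgroup of index prime to `p`. -/
theorem exists_conj_le {G : Type*} [Group G] [Finite G] {p : ℕ} [Fact p.Prime]
    (P H : Subgroup G) (hP : IsPGroup p P) (hH : ¬ p ∣ H.index) :
    ∃ g : G, ∀ x ∈ P, g⁻¹ * x * g ∈ H := by
  have hcard : ¬ p ∣ Nat.card (G ⧸ H) := by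
    rw [← Subgroup.index_eq_card]; exact hH
  obtain ⟨q, hq⟩ := hP.nonempty_fixed_point_of_prime_not_dvd_card (G ⧸ H) hcard
  induction q using QuotientGroup.induction_on with | _ g => ?_
  refine ⟨g, fun x hx => ?_⟩
  have h1 : ((x * g : G) : G ⧸ H) = (g : G ⧸ H) := hq ⟨x, hx⟩
  have h2 := QuotientGroup.eq.mp h1
  have h3 := H.inv_mem h2
  simpa [mul_assoc] using h3

theorem main {Ω : Type*} [Fintype Ω] (p : ℕ) [Fact p.Prime] (G : Subgroup (Equiv.Perm Ω))
    (hG : G ≠ ⊥)
    (hgen : Subgroup.closure {g : G | ∃ k : ℕ, orderOf g = p ^ k} = ⊤) :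
    ∃ Δ₁ Δ₂ : Set Ω, Δ₁.Nonempty ∧ Δ₂.Nonempty ∧ Disjoint Δ₁ Δ₂ ∧
      p ∣ (MulAction.stabilizer G Δ₁ ⊓ MulAction.stabilizer G Δ₂).index := by
  classical
  have hp : p.Prime := Fact.out
  -- p divides the order of G
  have hpG : p ∣ Nat.card G := by
    by_contra hnd
    apply hG
    have hall : ∀ g : G, (∃ k : ℕ, orderOf g = p ^ k) → g = 1 := by
      rintro g ⟨k, hk⟩
      have hdvd : orderOf g ∣ Nat.card G := orderOf_dvd_natCard g
      rcases Nat.eq_zero_or_pos k with h0 | h0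
      · rw [h0, pow_zero] at hk
        exact orderOf_eq_one_iff.mp hk
      · exfalso
        apply hnd
        have : p ∣ orderOf g := by rw [hk]; exact dvd_pow_self p h0.ne'
        exact this.trans hdvd
    have hbot : (⊤ : Subgroup G) = ⊥ := by
      rw [← hgen, Subgroup.closure_eq_bot_iff]
      intro g hg
      exact hall g hg
    rw [Subgroup.eq_bot_iff_forall]
    intro x hx
    have : (⟨x, hx⟩ : G) ∈ (⊤ : Subgroup G) := Subgroup.mem_top _
    rw [hbot, Subgroup.mem_bot] at this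
    exact congrArg Subtype.val this
  let P : Sylow p G := default
  have hPne : (P : Subgroup G) ≠ ⊥ := P.ne_bot_of_dvd_card hpG
  obtain ⟨⟨x, hxP⟩, hx1⟩ : ∃ x : (P : Subgroup G), x ≠ 1 := by
    by_contra hcon
    push Not at hcon
    apply hPne
    rw [Subgroup.eq_bot_iff_forall]
    intro y hy
    have := hcon ⟨y, hy⟩
    exact congrArg Subtype.val this
  have hx1' : x ≠ 1 := fun h => hx1 (Subtype.ext h)
  obtain ⟨ω, hω⟩ : ∃ ω : Ω, x • ω ≠ ω := by
    by_contra hcon
    push Not at hcon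
    apply hx1'
    apply Subtype.ext
    ext ω
    exact hcon ω
  -- the orbit
  let O : Set Ω := {y | ∃ z ∈ (P : Subgroup G), z • ω = y}
  have hωO : ω ∈ O := ⟨1, Subgroup.one_mem _, one_smul _ _⟩
  have hPO : ∀ z ∈ (P : Subgroup G), z • O = O := by
    intro z hz
    ext y
    rw [Set.mem_smul_set_iff_inv_smul_mem]
    constructor
    · rintro ⟨w, hw, hwy⟩
      refine ⟨z * w, Subgroup.mul_mem _ hz hw, ?_⟩
      rw [mul_smul, hwy, smul_inv_smul]
    · rintro ⟨w, hw, hwy⟩
      refine ⟨z⁻¹ * w, Subgroup.mul_mem _ (Subgroup.inv_mem _ hz) hw, ?_⟩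
      rw [mul_smul, hwy]
  refine ⟨{ω}, O \ {ω}, Set.singleton_nonempty ω, ⟨x • ω, ⟨x, hxP, rfl⟩, hω⟩,
    Set.disjoint_sdiff_right, ?_⟩
  by_contra hnd
  obtain ⟨g, hg⟩ := exists_conj_le (P : Subgroup G) _ P.isPGroup' hnd
  -- Q = g⁻¹ P g fixes ω and stabilizes O
  have hQω : ∀ y ∈ (P : Subgroup G), (g⁻¹ * y * g) • ω = ω := by
    intro y hy
    have h1 := (Subgroup.mem_inf.mp (hg y hy)).1
    rw [MulAction.mem_stabilizer_iff, Set.smul_set_singleton] at h1
    exact Set.singleton_eq_singleton_iff.mp h1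
  have hQO : ∀ y ∈ (P : Subgroup G), (g⁻¹ * y * g) • O = O := by
    intro y hy
    have h1 := (Subgroup.mem_inf.mp (hg y hy)).1
    have h2 := (Subgroup.mem_inf.mp (hg y hy)).2
    rw [MulAction.mem_stabilizer_iff] at h1 h2
    have hO : O = {ω} ∪ (O \ {ω}) := by
      rw [Set.union_sdiff_self, Set.union_eq_self_of_subset_left]
      exact Set.singleton_subset_iff.mpr hωO
    rw [hO, Set.smul_set_union, h1, h2]
  -- work in K = stabilizer of O
  let K : Subgroup G := MulAction.stabilizer G O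
  have hPK : (P : Subgroup G) ≤ K := fun z hz => MulAction.mem_stabilizer_iff.mpr (hPO z hz)
  let Q : Sylow p G := g⁻¹ • P
  have hQmem : ∀ z : G, z ∈ (Q : Subgroup G) ↔ g * z * g⁻¹ ∈ (P : Subgroup G) := by
    intro z
    show z ∈ ((g⁻¹ • P : Sylow p G) : Subgroup G) ↔ _
    rw [Sylow.coe_subgroup_smul, Subgroup.mem_pointwise_smul_iff_inv_smul_mem, ← map_inv, inv_inv,
      MulAut.smul_def, MulAut.conj_apply]
  have hQform : ∀ z ∈ (Q : Subgroup G), ∃ y ∈ (P : Subgroup G), z = g⁻¹ * y * g := by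
    intro z hz
    refine ⟨g * z * g⁻¹, (hQmem z).mp hz, ?_⟩
    group
  have hQK : (Q : Subgroup G) ≤ K := by
    intro z hz
    obtain ⟨y, hy, rfl⟩ := hQform z hz
    exact MulAction.mem_stabilizer_iff.mpr (hQO y hy)
  have hQidx : ¬ p ∣ ((Q : Subgroup G).subgroupOf K).index := by
    intro h
    have h1 : (Q : Subgroup G).relIndex K ∣ (Q : Subgroup G).index :=
      Dvd.intro _ (Subgroup.relIndex_mul_index hQK)
    exact Q.not_dvd_index (h.trans h1)
  have hPK' : IsPGroup p ((P : Subgroup G).subgroupOf K) :=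
    P.isPGroup'.comap_of_injective K.subtype K.subtype_injective
  obtain ⟨k, hk⟩ := exists_conj_le ((P : Subgroup G).subgroupOf K)
    ((Q : Subgroup G).subgroupOf K) hPK' hQidx
  -- P fixes k • ω
  have hfix : ∀ y ∈ (P : Subgroup G), y • ((k : G) • ω) = (k : G) • ω := by
    intro y hy
    have h1 := hk ⟨y, hPK hy⟩ (Subgroup.mem_subgroupOf.mpr hy)
    rw [Subgroup.mem_subgroupOf] at h1
    obtain ⟨y', hy', he⟩ := hQform _ h1
    have h2 := hQω y' hy'
    rw [← he] at h2
    simp only [Subgroup.coe_mul, Subgroup.coe_inv] at h2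
    have h3 : ((k : G)⁻¹ * y * (k : G)) • ω = ω := h2
    rw [mul_smul, mul_smul, inv_smul_eq_iff] at h3
    exact h3
  have hkO : (k : G) • ω ∈ O := by
    have h1 : (k : G) • O = O := MulAction.mem_stabilizer_iff.mp k.2
    rw [← h1]
    exact Set.smul_mem_smul_set hωO
  obtain ⟨y₀, hy₀, hy₀ω⟩ := hkO
  have hkω : (k : G) • ω = ω := by
    have h1 := hfix y₀⁻¹ (Subgroup.inv_mem _ hy₀)
    rw [← hy₀ω, inv_smul_smul] at h1
    rw [← hy₀ω]
    exact h1.symm
  apply hω
  have := hfix x hxP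
  rw [hkω] at this
  exact this

end Cfsg.Agent.Helper4.PStabIndex
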