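import Mathlib
import Cfsg.Prelude.Def_Local
import Cfsg.Prelude.Def_Transfer
import Cfsg.Agent.Helper1.NormalPCompl
import Cfsg.Agent.Helper1.IterFocal
import Cfsg.Agent.Helper2.PSolvChain
import Cfsg.Agent.Helper4.PElementFiber
import Cfsg.Agent.Helper4.PStabIndex
import Cfsg.Agent.Helper4.PQAutA
import Cfsg.Agent.Helper4.PQAutB

/-!
# S4411, part C (helper4): the core lemma inside `X = N_G(U)`
-/

set_option autoImplicit false
set_option linter.style.haveILetI false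
set_option linter.unusedVariables false

namespace Cfsg.Agent.Helper4.PQAut

open Cfsg.Agent.Helper1 Cfsg.Agent.Helper1.ThompsonRed Cfsg.Agent.Helper1.KChain

universe u

variable {X : Type u} [Group X]

/-- `x` is a `q`-element. -/
def IsQElt (q : ℕ) (x : X) : Prop := ∃ k : ℕ, x ^ (q ^ k) = 1

theorem IsQElt.conj {q : ℕ} {x : X} (h : IsQElt q x) (g : X) : IsQElt q (g * x * g⁻¹) := by
  obtain ⟨k, hk⟩ := h
  exact ⟨k, by rw [conj_pow, hk, mul_one, mul_inv_cancel]⟩

theorem IsQElt.coe {q : ℕ} {A : Subgroup X} {x : A} (h : IsQElt q x) : IsQElt q (x : X) := by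
  obtain ⟨k, hk⟩ := h
  exact ⟨k, by rw [← Subgroup.coe_pow, hk, Subgroup.coe_one]⟩

theorem IsQElt.isPGroup_zpowers {q : ℕ} {x : X} (h : IsQElt q x) :
    IsPGroup q (Subgroup.zpowers x) := by
  obtain ⟨k, hk⟩ := h
  rintro ⟨y, hy⟩
  obtain ⟨n, rfl⟩ := Subgroup.mem_zpowers_iff.1 hy
  refine ⟨k, Subtype.ext ?_⟩
  show (x ^ n) ^ (q ^ k) = 1
  rw [← zpow_natCast, ← zpow_mul, mul_comm, zpow_mul, zpow_natCast, hk, one_zpow]

/-- if `q` divides the index of the normal subgroup `K`, some `q`-element lies outside `K`. -/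
theorem exists_qelt_not_mem [Finite X] (q : ℕ) [hq : Fact q.Prime] (K : Subgroup X) [K.Normal]
    (h : q ∣ K.index) : ∃ x : X, x ∉ K ∧ IsQElt q x := by
  rw [Subgroup.index_eq_card] at h
  obtain ⟨xb, hxb⟩ := exists_prime_orderOf_dvd_card' q h
  obtain ⟨x₀, rfl⟩ := QuotientGroup.mk_surjective xb
  obtain ⟨e, m, hm, hem⟩ := Nat.exists_eq_pow_mul_and_not_dvd (orderOf_pos x₀).ne' q hq.out.ne_one
  refine ⟨x₀ ^ m, ?_, e, ?_⟩
  · intro hmem
    apply hm
    have h1 : (QuotientGroup.mk x₀ : X ⧸ K) ^ m = 1 := by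
      rw [← QuotientGroup.mk_pow, QuotientGroup.eq_one_iff]
      exact hmem
    rw [← hxb]
    exact orderOf_dvd_of_pow_eq_one h1
  · rw [← pow_mul, mul_comm, ← hem, pow_orderOf_eq_one]

/-- a `q`-element outside the normal subgroup `K` forces `q ∣ |X : K|`. -/
theorem dvd_index_of_qelt [Finite X] (q : ℕ) [hq : Fact q.Prime] (K : Subgroup X) [K.Normal]
    {x : X} (hx : x ∉ K) (hxq : IsQElt q x) : q ∣ K.index := by
  obtain ⟨k, hk⟩ := hxq
  rw [Subgroup.index_eq_card]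
  have h1 : (QuotientGroup.mk x : X ⧸ K) ^ (q ^ k) = 1 := by
    rw [← QuotientGroup.mk_pow, hk]
    rfl
  have h2 : orderOf (QuotientGroup.mk x : X ⧸ K) ∣ q ^ k := orderOf_dvd_of_pow_eq_one h1
  obtain ⟨j, -, hj⟩ := (Nat.dvd_prime_pow hq.out).1 h2
  rcases Nat.eq_zero_or_pos j with rfl | hjpos
  · exfalso
    rw [pow_zero, orderOf_eq_one_iff, QuotientGroup.eq_one_iff] at hj
    exact hx hj
  · have h3 : q ∣ orderOf (QuotientGroup.mk x : X ⧸ K) := by
      rw [hj]
      exact dvd_pow_self q hjpos.ne'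
    exact h3.trans (orderOf_dvd_natCard _)

/-- an element of order prime to `p` in a `{p, q}`-group is a `q`-element. -/
theorem isQElt_of_coprime [Finite X] {p q : ℕ} [hq : Fact q.Prime] (hX : IsPQ p q (Nat.card X))
    {y : X} (hy : (orderOf y).Coprime p) : IsQElt q y := by
  have h1 : orderOf y = q ^ (orderOf y).primeFactorsList.length := by
    apply Nat.eq_prime_pow_of_unique_prime_dvd (orderOf_pos y).ne'
    intro d hd hdy
    rcases hX d hd (hdy.trans (orderOf_dvd_natCard y)) with rfl | rfl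
    · exfalso
      exact hd.one_lt.ne' (Nat.eq_one_of_dvd_coprimes hy hdy dvd_rfl)
    · rfl
  exact ⟨_, by rw [← h1, pow_orderOf_eq_one]⟩

/-- a group with a normal `p`-complement is `p`-solvable. -/
theorem isPSolvable_of_npc [Finite X] {p : ℕ} [Fact p.Prime]
    (h : Cfsg.HasNormalPComplement p X) : Cfsg.IsPSolvable p X := by
  obtain ⟨M, hMn, hcop, k, hk⟩ := hasNormalPComplement_iff_exists.1 h
  refine Cfsg.Agent.Helper2.isPSolvable_of_chain3 M ⊤ hMn inferInstance le_top hcop ⟨k, ?_⟩ ?_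
  · rw [Subgroup.relIndex_top_right, hk]
  · rw [Subgroup.index_top]
    exact Nat.coprime_one_left p

/-- `S₄` is not involved in a group whose order is prime to `3`. -/
theorem not_involves_S4 [Finite X] (h3 : ¬ 3 ∣ Nat.card X) :
    ¬ Cfsg.Involves (Equiv.Perm (Fin 4)) X := by
  rintro ⟨K, R, hn, ⟨e⟩⟩
  have h1 : Nat.card (↥K ⧸ R.subgroupOf K) = Nat.card (Equiv.Perm (Fin 4)) :=
    Nat.card_congr e.toEquiv
  have h2 : Nat.card (↥K ⧸ R.subgroupOf K) ∣ Nat.card K :=
    Subgroup.card_quotient_dvd_card (R.subgroupOf K)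
  have h4 : Nat.card (Equiv.Perm (Fin 4)) = 24 := by
    rw [Nat.card_eq_fintype_card, Fintype.card_perm, Fintype.card_fin]
    rfl
  apply h3
  have h5 : (3 : ℕ) ∣ 24 := by norm_num
  rw [← h4, ← h1] at h5
  exact (h5.trans h2).trans (Subgroup.card_subgroup_dvd_card K)

section core

variable [Finite X] (p q : ℕ) [hp : Fact p.Prime] [hq : Fact q.Prime]

/-- Step 1: the Frattini argument. -/
theorem frattini_step (hpq : p ≠ q) (U : Subgroup X) [hUn : U.Normal] (hU : IsPGroup p U)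
    (R : Sylow p X)
    (hx : ∃ x : X, x ∉ Subgroup.centralizer (U : Set X) ∧ IsQElt q x) :
    ∃ y : X, y ∈ Subgroup.normalizer
        ((((R : Subgroup X) ⊓ (U ⊔ Subgroup.centralizer (U : Set X)) : Subgroup X)) : Set X) ∧
      y ∉ Subgroup.centralizer (U : Set X) ∧ IsQElt q y := by
  obtain ⟨x, hxC, hxq⟩ := hx
  set C := Subgroup.centralizer (U : Set X) with hC
  haveI hCn : C.Normal := Subgroup.normal_centralizer
  haveI hUCn : (U ⊔ C).Normal := Subgroup.sup_normal U C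
  set T := (R : Subgroup X) ⊓ (U ⊔ C) with hT
  -- `T` is a Sylow subgroup of `U ⊔ C`
  have hTcard : Nat.card (T.subgroupOf (U ⊔ C))
      = p ^ (Nat.card (U ⊔ C : Subgroup X)).factorization p := by
    rw [card_subgroupOf_of_le inf_le_right]
    exact Cfsg.Agent.Helper4.card_sylow_inf_normal' p R (U ⊔ C)
  have hfr := Sylow.normalizer_sup_eq_top (Sylow.ofCard (T.subgroupOf (U ⊔ C)) hTcard)
  rw [Sylow.coe_ofCard, Subgroup.subgroupOf_map_subtype, inf_eq_left.2 (inf_le_right : T ≤ U ⊔ C)]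
    at hfr
  -- `q` divides the index of `U ⊔ C`
  have hqC : q ∣ C.index := dvd_index_of_qelt q C hxC hxq
  have hCUC : C ≤ U ⊔ C := le_sup_right
  have h1 : C.relIndex (U ⊔ C) * (U ⊔ C).index = C.index := Subgroup.relIndex_mul_index hCUC
  have h2 : C.relIndex (U ⊔ C) ∣ Nat.card U := by
    rw [Subgroup.relIndex_sup_right]
    exact Subgroup.relIndex_dvd_card C U
  obtain ⟨a, ha⟩ := IsPGroup.iff_card.1 hU
  have h3 : ¬ q ∣ C.relIndex (U ⊔ C) := by
    intro hd
    have h4 : q ∣ p ^ a := ha ▸ hd.trans h2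
    exact hpq ((Nat.prime_dvd_prime_iff_eq hq.out hp.out).1 (hq.out.dvd_of_dvd_pow h4)).symm
  have h5 : q ∣ (U ⊔ C).index := by
    rw [← h1] at hqC
    exact ((Nat.Prime.dvd_mul hq.out).1 hqC).resolve_left h3
  -- pass to the normalizer of `T`
  set A := Subgroup.normalizer (T : Set X) with hA
  have h6 : (U ⊔ C).index = (U ⊔ C).relIndex A := by
    rw [← Subgroup.relIndex_top_right, ← hfr, Subgroup.relIndex_sup_right]
  rw [h6] at h5
  obtain ⟨y, hyK, hyq⟩ := exists_qelt_not_mem q ((U ⊔ C).subgroupOf A) h5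
  refine ⟨(y : X), y.2, ?_, hyq.coe⟩
  intro hyC
  exact hyK (Subgroup.mem_subgroupOf.2 (hCUC hyC))

/-- Step 2: if `C_R(U) ≤ U` then `X` is `p`-solvable. -/
theorem isPSolvable_of_inf_le (U : Subgroup X) [hUn : U.Normal] (R : Sylow p X)
    (hRC : (R : Subgroup X) ⊓ Subgroup.centralizer (U : Set X) ≤ U)
    (hsol : Cfsg.IsPSolvable p (X ⧸ Subgroup.centralizer (U : Set X))) :
    Cfsg.IsPSolvable p X := by
  set C := Subgroup.centralizer (U : Set X) with hC
  haveI hCn : C.Normal := Subgroup.normal_centralizer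
  have hcard : Nat.card (((R : Subgroup X) ⊓ C).subgroupOf C)
      = p ^ (Nat.card C).factorization p := by
    rw [card_subgroupOf_of_le inf_le_right]
    exact Cfsg.Agent.Helper4.card_sylow_inf_normal' p R C
  have hnpc : Cfsg.HasNormalPComplement p C := by
    apply hasNormalPComplement_of_normalizer_le_centralizer
      (Sylow.ofCard (((R : Subgroup X) ⊓ C).subgroupOf C) hcard)
    intro c _
    rw [Sylow.coe_ofCard, Subgroup.mem_centralizer_iff]
    intro s hs
    have hsU : (s : X) ∈ U := hRC (Subgroup.mem_subgroupOf.1 hs)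
    apply Subtype.ext
    have := (Subgroup.mem_centralizer_iff.1 c.2) (s : X) hsU
    exact this
  exact QCore.isPSolvable_ext C (isPSolvable_of_npc hnpc) hsol

/-- Steps 3–7: a `p`-solvable group with a `q`-element acting non-trivially on the normal
`p`-subgroup `U` has a characteristic functor `F` with a `q`-element acting non-trivially on
`F(R)`. -/
theorem exists_functor_of_isPSolvable (hpq : p ≠ q)
    (h23 : ¬ ((p = 2 ∧ q = 3) ∨ (p = 3 ∧ q = 2)))
    (U : Subgroup X) [hUn : U.Normal] (hU : IsPGroup p U) (R : Sylow p X)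
    (hX : Cfsg.IsPSolvable p X)
    (hx : ∃ x : X, x ∉ Subgroup.centralizer (U : Set X) ∧ IsQElt q x) :
    ∃ (F : CharFunctor.{u}) (y : X),
      y ∈ Subgroup.normalizer ((F.of (R : Subgroup X) : Subgroup X) : Set X) ∧
      y ∉ Subgroup.centralizer ((F.of (R : Subgroup X) : Subgroup X) : Set X) ∧ IsQElt q y := by
  obtain ⟨x, hxC, hxq⟩ := hx
  haveI hCn : (Subgroup.centralizer (U : Set X)).Normal := Subgroup.normal_centralizer
  -- Hall subgroup containing `R`
  obtain ⟨Y₀, hY₀pq, hY₀p, hY₀q⟩ := exists_hall_pq p q hX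
  have hnp : ¬ p ∣ Y₀.index := fun h =>
    hp.out.one_lt.ne' (Nat.eq_one_of_dvd_coprimes hY₀p h dvd_rfl)
  obtain ⟨g, hg⟩ := Cfsg.Agent.Helper4.PStabIndex.exists_conj_le (R : Subgroup X) Y₀ R.2 hnp
  set Y := Y₀.map (MulAut.conj g).toMonoidHom with hY
  have hRY : (R : Subgroup X) ≤ Y := by
    intro r hr
    exact ⟨g⁻¹ * r * g, hg r hr, by simp [mul_assoc]⟩
  have hYcard : Nat.card Y = Nat.card Y₀ :=
    Subgroup.card_map_of_injective (MulAut.conj g).injective
  have hYidx : Y.index = Y₀.index :=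
    Subgroup.index_map_of_bijective (MulAut.conj g).bijective Y₀
  have hYpq : IsPQ p q (Nat.card Y) := hYcard ▸ hY₀pq
  -- a `q`-element of `Y` outside `C`
  have hnq : ¬ q ∣ Y.index := by
    rw [hYidx]
    exact fun h => hq.out.one_lt.ne' (Nat.eq_one_of_dvd_coprimes hY₀q h dvd_rfl)
  obtain ⟨g', hg'⟩ := Cfsg.Agent.Helper4.PStabIndex.exists_conj_le (Subgroup.zpowers x) Y
    hxq.isPGroup_zpowers hnq
  have hx'Y : g'⁻¹ * x * g' ∈ Y := hg' x (Subgroup.mem_zpowers x)
  have hx'q : IsQElt q (g'⁻¹ * x * g') := by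
    have := hxq.conj g'⁻¹
    rwa [inv_inv] at this
  have hx'C : g'⁻¹ * x * g' ∉ Subgroup.centralizer (U : Set X) := by
    intro h
    apply hxC
    have := hCn.conj_mem _ h g'
    simpa [mul_assoc] using this
  -- `Y` has no normal `p`-complement
  have hUR : U ≤ (R : Subgroup X) := hU.le_sylow_of_normal R
  have hUY : U ≤ Y := hUR.trans hRY
  have hno : ¬ Cfsg.HasNormalPComplement p Y := by
    intro hnpc
    obtain ⟨D, hDn, hDcop, k, hDk⟩ := hasNormalPComplement_iff_exists.1 hnpc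
    haveI := hDn
    obtain ⟨kq, hkq⟩ := hx'q
    -- the `q`-element lies in `D`
    have hzD : Subgroup.zpowers (⟨g'⁻¹ * x * g', hx'Y⟩ : Y) ≤ D := by
      apply le_of_coprime_card_index
      rw [hDk, Nat.card_zpowers]
      apply Nat.Coprime.pow_right
      have h1 : orderOf (⟨g'⁻¹ * x * g', hx'Y⟩ : Y) ∣ q ^ kq := by
        apply orderOf_dvd_of_pow_eq_one
        apply Subtype.ext
        exact hkq
      exact Nat.Coprime.coprime_dvd_left h1
        (Nat.Coprime.pow_left kq ((Nat.coprime_primes hq.out hp.out).2 hpq.symm))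
    have hxD : (⟨g'⁻¹ * x * g', hx'Y⟩ : Y) ∈ D := hzD (Subgroup.mem_zpowers _)
    haveI hUYn : (U.subgroupOf Y).Normal := hUn.subgroupOf Y
    have hdisj : D ⊓ U.subgroupOf Y = ⊥ := by
      apply Subgroup.inf_eq_bot_of_coprime
      rw [card_subgroupOf_of_le hUY]
      obtain ⟨a, ha⟩ := IsPGroup.iff_card.1 hU
      rw [ha]
      exact Nat.Coprime.pow_right a hDcop
    apply hx'C
    rw [Subgroup.mem_centralizer_iff]
    intro u hu
    have hmem : (⟨g'⁻¹ * x * g', hx'Y⟩ : Y) * ⟨u, hUY hu⟩ * (⟨g'⁻¹ * x * g', hx'Y⟩ : Y)⁻¹ *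
        (⟨u, hUY hu⟩ : Y)⁻¹ ∈ D ⊓ U.subgroupOf Y := by
      refine Subgroup.mem_inf.2 ⟨?_, ?_⟩
      · have h1 : (⟨u, hUY hu⟩ : Y) * (⟨g'⁻¹ * x * g', hx'Y⟩ : Y)⁻¹ * (⟨u, hUY hu⟩ : Y)⁻¹ ∈ D :=
          hDn.conj_mem _ (D.inv_mem hxD) _
        have e : (⟨g'⁻¹ * x * g', hx'Y⟩ : Y) * ⟨u, hUY hu⟩ * (⟨g'⁻¹ * x * g', hx'Y⟩ : Y)⁻¹ *
            (⟨u, hUY hu⟩ : Y)⁻¹ = (⟨g'⁻¹ * x * g', hx'Y⟩ : Y) *
            ((⟨u, hUY hu⟩ : Y) * (⟨g'⁻¹ * x * g', hx'Y⟩ : Y)⁻¹ * (⟨u, hUY hu⟩ : Y)⁻¹) := by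
          group
        rw [e]
        exact D.mul_mem hxD h1
      · have hu' : (⟨u, hUY hu⟩ : Y) ∈ U.subgroupOf Y := Subgroup.mem_subgroupOf.2 hu
        exact (U.subgroupOf Y).mul_mem (hUYn.conj_mem _ hu' _) ((U.subgroupOf Y).inv_mem hu')
    rw [hdisj, Subgroup.mem_bot] at hmem
    have h2 := congrArg Subtype.val hmem
    simp only [Subgroup.coe_mul, Subgroup.coe_inv, Subgroup.coe_one] at h2
    -- `x' u x'⁻¹ u⁻¹ = 1`
    have h3 : g'⁻¹ * x * g' * u = u * (g'⁻¹ * x * g') := by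
      have := mul_inv_eq_one.1 h2
      exact mul_inv_eq_iff_eq_mul.1 this
    exact h3.symm
  -- `S₄`-freeness
  have h4 : p ≠ 2 ∨ ¬ Cfsg.Involves (Equiv.Perm (Fin 4)) Y := by
    by_cases hp2 : p = 2
    · right
      apply not_involves_S4
      intro h3
      rcases hYpq 3 (by norm_num) h3 with h | h
      · omega
      · exact h23 (Or.inl ⟨hp2, h.symm⟩)
    · exact Or.inl hp2
  -- apply the functorial criterion
  have hex : ∃ F : CharFunctor.{u}, ¬ Cond p (F.of ((R.subtype hRY : Sylow p Y) : Subgroup Y)) := by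
    by_contra hcon
    push Not at hcon
    exact hno (npc_of_forall_cond _ Y (R.subtype hRY) rfl h4 hcon)
  obtain ⟨F, hF⟩ := hex
  unfold Cond at hF
  push Not at hF
  obtain ⟨y, hyN, hyo, hyC⟩ := hF
  rw [Sylow.coe_subtype] at hyN hyC
  have hof : (F.of ((R : Subgroup X).subgroupOf Y)).map Y.subtype = F.of (R : Subgroup X) :=
    F.of_subgroupOf hRY
  refine ⟨F, (y : X), ?_, ?_, (isQElt_of_coprime hYpq hyo).coe⟩
  · rw [← hof]
    exact Subgroup.le_normalizer_map Y.subtype ⟨y, hyN, rfl⟩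
  · intro hc
    apply hyC
    rw [Subgroup.mem_centralizer_iff] at hc ⊢
    intro s hs
    apply Subtype.ext
    exact hc (s : X) (hof ▸ ⟨s, hs, rfl⟩)

end core

end Cfsg.Agent.Helper4.PQAut
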