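import Mathlib
import Cfsg.Prelude.Def_Local
import Cfsg.Agent.Lead.SylowLemmas
import Cfsg.Agent.Lead.PSolvC
import Cfsg.Agent.Helper4.PQAutC

/-!
# S4411, part D (helper4): the main theorem

`p ≠ q` primes, `{p, q} ≠ {2, 3}`, all `p`-local automizers `p`-solvable; if `q` divides the order
of the automizer of some `p`-subgroup, then it divides the order of the automizer of a subgroup
normal in a Sylow `p`-subgroup.
-/

set_option autoImplicit false
set_option linter.style.haveILetI false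
set_option linter.unusedVariables false

namespace Cfsg.Agent.Helper4.PQAut

open Cfsg.Agent.Helper1 Cfsg.Agent.Helper1.ThompsonRed Cfsg.Agent.Helper1.KChain

universe u

variable {G : Type u} [Group G]

/-- the automizer of `U` contains a non-trivial `q`-element. -/
def HasQAut (q : ℕ) (U : Subgroup G) : Prop :=
  ∃ x : G, x ∈ Subgroup.normalizer (U : Set G) ∧ x ∉ Subgroup.centralizer (U : Set G) ∧ IsQElt q x

theorem hasQAut_iff [Finite G] (q : ℕ) [Fact q.Prime] (U : Subgroup G) :
    q ∣ ((Subgroup.centralizer (U : Set G)).subgroupOf (Subgroup.normalizer (U : Set G))).index ↔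
      HasQAut q U := by
  constructor
  · intro h
    obtain ⟨x, hxK, hxq⟩ := exists_qelt_not_mem q _ h
    exact ⟨x, x.2, fun hc => hxK (Subgroup.mem_subgroupOf.2 hc), hxq.coe⟩
  · rintro ⟨x, hxN, hxC, hxq⟩
    apply dvd_index_of_qelt q _ (x := ⟨x, hxN⟩)
    · intro h
      exact hxC (Subgroup.mem_subgroupOf.1 h)
    · obtain ⟨k, hk⟩ := hxq
      exact ⟨k, Subtype.ext (by simpa using hk)⟩

theorem HasQAut.conj {q : ℕ} {U : Subgroup G} (h : HasQAut q U) (g : G) :
    HasQAut q (U.map (MulAut.conj g).toMonoidHom) := by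
  obtain ⟨x, hxN, hxC, hxq⟩ := h
  refine ⟨g * x * g⁻¹, ?_, ?_, hxq.conj g⟩
  · rw [← Subgroup.map_equiv_normalizer_eq]
    exact ⟨x, hxN, by simp⟩
  · intro hc
    apply hxC
    rw [Subgroup.mem_centralizer_iff] at hc ⊢
    intro u hu
    have h1 := hc (g * u * g⁻¹) ⟨u, hu, by simp⟩
    have e1 : g * u * g⁻¹ * (g * x * g⁻¹) = g * (u * x) * g⁻¹ := by group
    have e2 : g * x * g⁻¹ * (g * u * g⁻¹) = g * (x * u) * g⁻¹ := by group
    rw [e1, e2] at h1
    exact mul_left_cancel (mul_right_cancel h1)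

/-- the centralizer of `U` computed inside a subgroup `N ⊇ U`. -/
theorem centralizer_subgroupOf_eq {U N : Subgroup G} (hUN : U ≤ N) :
    Subgroup.centralizer ((U.subgroupOf N : Subgroup N) : Set N) =
      (Subgroup.centralizer (U : Set G)).subgroupOf N := by
  ext c
  rw [Subgroup.mem_subgroupOf, Subgroup.mem_centralizer_iff, Subgroup.mem_centralizer_iff]
  constructor
  · intro h u hu
    have := h ⟨u, hUN hu⟩ (Subgroup.mem_subgroupOf.2 hu)
    exact congrArg Subtype.val this
  · intro h u hu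
    apply Subtype.ext
    exact h (u : G) (Subgroup.mem_subgroupOf.1 hu)

theorem main [Finite G] (p q : ℕ) [hp : Fact p.Prime] [hq : Fact q.Prime] (hpq : p ≠ q)
    (h23 : ¬ ((p = 2 ∧ q = 3) ∨ (p = 3 ∧ q = 2)))
    (hsol : ∀ H : Subgroup G, IsPGroup p ↥H →
      Cfsg.IsPSolvable p (↥(Subgroup.normalizer (H : Set G)) ⧸
        (Subgroup.centralizer (H : Set G)).subgroupOf (Subgroup.normalizer (H : Set G))))
    (H : Subgroup G) (hH : IsPGroup p ↥H) (hqH : HasQAut q H) (Gp : Sylow p G) :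
    ∃ K : Subgroup G, K ≤ (Gp : Subgroup G) ∧
      (Gp : Subgroup G) ≤ Subgroup.normalizer (K : Set G) ∧ HasQAut q K := by
  classical
  haveI : Finite (Subgroup G) := inferInstance
  -- the candidates
  let 𝒮 : Set (Subgroup G) := {U | U ≤ (Gp : Subgroup G) ∧ HasQAut q U}
  have hne : 𝒮.Nonempty := by
    obtain ⟨g, hg⟩ := Cfsg.Agent.Lead.exists_conj_le_sylow Gp H hH
    exact ⟨_, hg, hqH.conj g⟩
  let f₁ : Subgroup G → ℕ :=
    fun U => Nat.card ((Gp : Subgroup G) ⊓ Subgroup.normalizer (U : Set G) : Subgroup G)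
  obtain ⟨U₁, hU₁, hmax₁⟩ := Set.exists_max_image 𝒮 f₁ (Set.toFinite 𝒮) hne
  let 𝒮₂ : Set (Subgroup G) := {U | U ∈ 𝒮 ∧ f₁ U₁ ≤ f₁ U}
  have hne₂ : 𝒮₂.Nonempty := ⟨U₁, hU₁, le_rfl⟩
  obtain ⟨U, hU, hmax₂⟩ := Set.exists_max_image 𝒮₂ (fun U => Nat.card U) (Set.toFinite 𝒮₂) hne₂
  obtain ⟨hUS, hUf⟩ := hU
  have hA : ∀ U' ∈ 𝒮, f₁ U' ≤ f₁ U := fun U' hU' => (hmax₁ U' hU').trans hUf
  have hB : ∀ U' ∈ 𝒮, f₁ U ≤ f₁ U' → Nat.card U' ≤ Nat.card U :=
    fun U' hU' h => hmax₂ U' ⟨hU', hUf.trans h⟩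
  obtain ⟨hUGp, hUq⟩ := hUS
  have hUp : IsPGroup p U := Gp.2.to_le hUGp
  -- notation
  obtain ⟨N, hN⟩ : ∃ N : Subgroup G, N = Subgroup.normalizer (U : Set G) := ⟨_, rfl⟩
  obtain ⟨R, hR⟩ : ∃ R : Subgroup G, R = (Gp : Subgroup G) ⊓ N := ⟨_, rfl⟩
  have hf₁U : f₁ U = Nat.card R := by rw [hR, hN]
  have hUN : U ≤ N := hN ▸ Subgroup.le_normalizer
  have hRN : R ≤ N := hR ▸ inf_le_right
  have hRGp : R ≤ (Gp : Subgroup G) := hR ▸ inf_le_left
  have hUR : U ≤ R := hR ▸ le_inf hUGp hUN
  have hRp : IsPGroup p R := Gp.2.to_le hRGp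
  -- `R` is a Sylow subgroup of `N`
  have hRsyl : ∃ R' : Sylow p N, (R' : Subgroup N) = R.subgroupOf N := by
    have hR'p : IsPGroup p (R.subgroupOf N) := hRp.comap_subtype
    obtain ⟨S', hS'⟩ := hR'p.exists_le_sylow
    refine ⟨S', ?_⟩
    have hSp : IsPGroup p ((S' : Subgroup N).map N.subtype) := S'.2.map _
    have hRS : R ≤ (S' : Subgroup N).map N.subtype := by
      intro r hr
      exact ⟨⟨r, hRN hr⟩, hS' (Subgroup.mem_subgroupOf.2 hr), rfl⟩
    have hSN : (S' : Subgroup N).map N.subtype ≤ N := Subgroup.map_subtype_le _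
    obtain ⟨g, hg⟩ := Cfsg.Agent.Lead.exists_conj_le_sylow Gp _ hSp
    have hU'S : U.map (MulAut.conj g).toMonoidHom ∈ 𝒮 :=
      ⟨(Subgroup.map_mono (hUR.trans hRS)).trans hg, hUq.conj g⟩
    have h1 : ((S' : Subgroup N).map N.subtype).map (MulAut.conj g).toMonoidHom ≤
        (Gp : Subgroup G) ⊓ Subgroup.normalizer
          ((U.map (MulAut.conj g).toMonoidHom : Subgroup G) : Set G) := by
      refine le_inf hg ?_
      rw [← Subgroup.map_equiv_normalizer_eq]
      exact Subgroup.map_mono (hN ▸ hSN)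
    have h2 : Nat.card ((S' : Subgroup N).map N.subtype) ≤ Nat.card R := by
      rw [← hf₁U]
      refine le_trans ?_ (hA _ hU'S)
      have h0 : Nat.card (((S' : Subgroup N).map N.subtype).map (MulAut.conj g).toMonoidHom)
          = Nat.card ((S' : Subgroup N).map N.subtype) :=
        Subgroup.card_map_of_injective (MulAut.conj g).injective
      rw [← h0]
      exact Subgroup.card_le_of_le h1
    have h3 : R = (S' : Subgroup N).map N.subtype := Subgroup.eq_of_le_of_card_ge hRS h2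
    rw [h3]
    exact (Subgroup.comap_map_eq_self_of_injective N.subtype_injective _).symm
  obtain ⟨R', hR'⟩ := hRsyl
  -- transfer to `X = N`
  haveI hU'n : (U.subgroupOf N).Normal := by
    rw [hN]
    exact Subgroup.normal_in_normalizer
  have hU'p : IsPGroup p (U.subgroupOf N) := hUp.comap_subtype
  have hcent := centralizer_subgroupOf_eq hUN
  have hsol' : Cfsg.IsPSolvable p
      (↥N ⧸ Subgroup.centralizer ((U.subgroupOf N : Subgroup N) : Set N)) := by
    subst hN
    have h1 := hsol U hUp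
    exact Cfsg.Agent.Lead.PSolvGL2.isPSolvable_of_surjective
      (QuotientGroup.quotientMulEquivOfEq hcent.symm).toMonoidHom
      (QuotientGroup.quotientMulEquivOfEq hcent.symm).surjective h1
  have hx' : ∃ x : N, x ∉ Subgroup.centralizer ((U.subgroupOf N : Subgroup N) : Set N) ∧
      IsQElt q x := by
    obtain ⟨x, hxN, hxC, k, hk⟩ := hUq
    refine ⟨⟨x, hN ▸ hxN⟩, ?_, k, Subtype.ext (by simpa using hk)⟩
    rw [hcent, Subgroup.mem_subgroupOf]
    exact hxC
  have hU'R' : U.subgroupOf N ≤ (R' : Subgroup N) := by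
    rw [hR']
    intro u hu
    exact Subgroup.mem_subgroupOf.2 (hUR (Subgroup.mem_subgroupOf.1 hu))
  have hmapR' : (R' : Subgroup N).map N.subtype = R := by
    rw [hR', Subgroup.subgroupOf_map_subtype, inf_eq_left.2 hRN]
  have hmapU' : (U.subgroupOf N).map N.subtype = U := by
    rw [Subgroup.subgroupOf_map_subtype, inf_eq_left.2 hUN]
  by_cases hT : (R' : Subgroup N) ⊓
      (U.subgroupOf N ⊔ Subgroup.centralizer ((U.subgroupOf N : Subgroup N) : Set N)) =
      U.subgroupOf N
  · -- `C_R(U) ≤ U`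
    have hRC : (R' : Subgroup N) ⊓ Subgroup.centralizer ((U.subgroupOf N : Subgroup N) : Set N) ≤
        U.subgroupOf N := by
      exact le_of_le_of_eq (inf_le_inf_left _ le_sup_right) hT
    have hX := isPSolvable_of_inf_le p (U.subgroupOf N) R' hRC hsol'
    obtain ⟨F, y, hyN, hyC, hyq⟩ :=
      exists_functor_of_isPSolvable p q hpq h23 (U.subgroupOf N) hU'p R' hX hx'
    have hof : (F.of (R' : Subgroup N)).map N.subtype = F.of R := by
      rw [hR']
      exact F.of_subgroupOf hRN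
    have hKq : HasQAut q (F.of R) := by
      refine ⟨(y : G), ?_, ?_, hyq.coe⟩
      · rw [← hof]
        exact Subgroup.le_normalizer_map N.subtype ⟨y, hyN, rfl⟩
      · intro hc
        apply hyC
        rw [Subgroup.mem_centralizer_iff] at hc ⊢
        intro s hs
        apply Subtype.ext
        exact hc (s : G) (hof ▸ ⟨s, hs, rfl⟩)
    have hKS : F.of R ∈ 𝒮 := ⟨(F.of_le R).trans hRGp, hKq⟩
    have h1 : (Gp : Subgroup G) ⊓ Subgroup.normalizer (R : Set G) ≤
        (Gp : Subgroup G) ⊓ Subgroup.normalizer ((F.of R : Subgroup G) : Set G) :=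
      inf_le_inf_left _ (F.normalizer_le R)
    have h2 : Nat.card ((Gp : Subgroup G) ⊓ Subgroup.normalizer (R : Set G) : Subgroup G) ≤
        Nat.card R := by
      rw [← hf₁U]
      exact (Subgroup.card_le_of_le h1).trans (hA _ hKS)
    have h3 : R = (Gp : Subgroup G) ⊓ Subgroup.normalizer (R : Set G) :=
      Subgroup.eq_of_le_of_card_ge (le_inf hRGp Subgroup.le_normalizer) h2
    -- normalizer condition
    have hRtop : R = (Gp : Subgroup G) := by
      by_contra hne'
      have hR₀ : R.subgroupOf (Gp : Subgroup G) < ⊤ := by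
        rw [lt_top_iff_ne_top]
        intro h
        exact hne' (le_antisymm hRGp (Subgroup.subgroupOf_eq_top.1 h))
      haveI : Group.IsNilpotent (Gp : Subgroup G) := Gp.2.isNilpotent
      have hnc := Group.normalizerCondition_of_isNilpotent (G := (Gp : Subgroup G)) _ hR₀
      obtain ⟨z, hzN, hzR⟩ := SetLike.exists_of_lt hnc
      rw [← Subgroup.subgroupOf_normalizer_eq hRGp, Subgroup.mem_subgroupOf] at hzN
      apply hzR
      rw [Subgroup.mem_subgroupOf, h3]
      exact Subgroup.mem_inf.2 ⟨z.2, hzN⟩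
    refine ⟨U, hUGp, ?_, hUq⟩
    rw [← hRtop, ← hN]
    exact hRN
  · -- the Frattini case contradicts maximality
    exfalso
    obtain ⟨y, hyN, hyC, hyq⟩ := frattini_step p q hpq (U.subgroupOf N) hU'p R' hx'
    obtain ⟨T', hT'⟩ : ∃ T' : Subgroup N, T' = (R' : Subgroup N) ⊓
        (U.subgroupOf N ⊔ Subgroup.centralizer ((U.subgroupOf N : Subgroup N) : Set N)) :=
      ⟨_, rfl⟩
    rw [← hT'] at hT hyN
    have hU'T' : U.subgroupOf N ≤ T' := hT' ▸ le_inf hU'R' le_sup_left
    have hT'R' : T' ≤ (R' : Subgroup N) := hT' ▸ inf_le_left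
    have hUT : U ≤ T'.map N.subtype := by
      rw [← hmapU']
      exact Subgroup.map_mono hU'T'
    have hTR : T'.map N.subtype ≤ R := by
      rw [← hmapR']
      exact Subgroup.map_mono hT'R'
    have hTq : HasQAut q (T'.map N.subtype) := by
      refine ⟨(y : G), Subgroup.le_normalizer_map N.subtype ⟨y, hyN, rfl⟩, ?_, hyq.coe⟩
      intro hc
      apply hyC
      rw [Subgroup.mem_centralizer_iff] at hc ⊢
      intro u hu
      apply Subtype.ext
      exact hc (u : G) (hUT (Subgroup.mem_subgroupOf.1 hu))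
    have hTS : T'.map N.subtype ∈ 𝒮 := ⟨hTR.trans hRGp, hTq⟩
    haveI hUCn : (U.subgroupOf N ⊔
        Subgroup.centralizer ((U.subgroupOf N : Subgroup N) : Set N)).Normal :=
      Subgroup.sup_normal _ _
    have hR'T' : (R' : Subgroup N) ≤ Subgroup.normalizer (T' : Set N) := by
      rw [hT']
      exact le_normalizer_inf_normal _ _
    have hRNT : R ≤ Subgroup.normalizer ((T'.map N.subtype : Subgroup G) : Set G) := by
      rw [← hmapR']
      exact (Subgroup.map_mono hR'T').trans (Subgroup.le_normalizer_map N.subtype)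
    have hf : f₁ U ≤ f₁ (T'.map N.subtype) := by
      rw [hf₁U]
      exact Subgroup.card_le_of_le (le_inf hRGp hRNT)
    have hcard := hB _ hTS hf
    have heq : U = T'.map N.subtype := Subgroup.eq_of_le_of_card_ge hUT hcard
    apply hT
    have h1 : T' = (T'.map N.subtype).subgroupOf N :=
      (Subgroup.comap_map_eq_self_of_injective N.subtype_injective _).symm
    rw [h1, ← heq]

end Cfsg.Agent.Helper4.PQAut
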