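import Mathlib
import Cfsg.Agent.Helper4.CaminaLemma
import Cfsg.Prelude.Def_Transfer

/-!
If no class size of `G` is divisible by `p * q` (while `p` and `q` each divide some class size),
then `G` is `p`-nilpotent or `q`-nilpotent: `G` is covered by the conjugates of `C(P)` and `C(Q)`,
so by counting one of `N(P) = C(P)`, `N(Q) = C(Q)` holds; conclude with Burnside's transfer theorem.
-/

namespace Cfsg.Agent.Helper4.PQClassSizes

open Subgroup

variable {G : Type*} [Group G] [Finite G]

/-- A Sylow subgroup with `N(S) ≠ C(S)` has `2 |C(S)| n_p ≤ |G|`. -/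
theorem two_mul_card_centralizer_le (p : ℕ) [Fact p.Prime] (S : Sylow p G)
    (hS : ¬ normalizer ((S : Subgroup G) : Set G) ≤ centralizer ((S : Subgroup G) : Set G)) :
    2 * Nat.card (centralizer ((S : Subgroup G) : Set G)) * Nat.card (Sylow p G) ≤ Nat.card G := by
  set C := centralizer ((S : Subgroup G) : Set G)
  set N := normalizer ((S : Subgroup G) : Set G)
  have hCN : C ≤ N := Subgroup.centralizer_le_normalizer _
  have hdvd : Nat.card C ∣ Nat.card N := Subgroup.card_dvd_of_le hCN
  have hne : Nat.card C ≠ Nat.card N := by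
    intro h
    exact hS (Subgroup.eq_of_le_of_card_ge hCN h.ge).ge
  obtain ⟨k, hk⟩ := hdvd
  have hk2 : 2 ≤ k := by
    rcases k with _ | _ | k
    · simp only [mul_zero] at hk; exact absurd hk Nat.card_pos.ne'
    · simp only [zero_add, mul_one] at hk; exact absurd hk.symm hne
    · omega
  have hN : Nat.card N * Nat.card (Sylow p G) = Nat.card G := by
    rw [S.card_eq_index_normalizer]
    exact Subgroup.card_mul_index N
  calc 2 * Nat.card C * Nat.card (Sylow p G) ≤ k * Nat.card C * Nat.card (Sylow p G) := by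
        exact Nat.mul_le_mul_right _ (Nat.mul_le_mul_right _ hk2)
    _ = Nat.card N * Nat.card (Sylow p G) := by rw [hk]; ring
    _ = Nat.card G := hN

theorem exists_normalizer_le_centralizer (p q : ℕ) [Fact p.Prime] [Fact q.Prime] (hpq : p ≠ q)
    (h : ∀ x : G, ¬ p * q ∣ (Subgroup.centralizer ({x} : Set G)).index) :
    (∃ S : Sylow p G, normalizer ((S : Subgroup G) : Set G) ≤ centralizer ((S : Subgroup G) : Set G)) ∨
    (∃ T : Sylow q G, normalizer ((T : Subgroup G) : Set G) ≤ centralizer ((T : Subgroup G) : Set G)) := by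
  classical
  have hp := (Fact.out : p.Prime)
  have hq := (Fact.out : q.Prime)
  by_contra hcon
  push Not at hcon
  obtain ⟨hP, hQ⟩ := hcon
  have : Fintype G := Fintype.ofFinite G
  have : Fintype (Sylow p G) := Fintype.ofFinite _
  have : Fintype (Sylow q G) := Fintype.ofFinite _
  -- covering
  have hcov : ∀ x : G, (∃ S : Sylow p G, x ∈ centralizer ((S : Subgroup G) : Set G)) ∨
      (∃ T : Sylow q G, x ∈ centralizer ((T : Subgroup G) : Set G)) := by
    intro x
    have hx := h x
    have hor : ¬ p ∣ (Subgroup.centralizer ({x} : Set G)).index ∨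
        ¬ q ∣ (Subgroup.centralizer ({x} : Set G)).index := by
      by_contra hc
      push Not at hc
      exact hx (Nat.Coprime.mul_dvd_of_dvd_of_dvd ((Nat.coprime_primes hp hq).2 hpq) hc.1 hc.2)
    rcases hor with h1 | h1
    · left
      obtain ⟨S, hS⟩ := Cfsg.Agent.Helper4.CaminaLemma.exists_sylow_le_of_not_dvd_index p _ h1
      refine ⟨S, ?_⟩
      rw [Subgroup.mem_centralizer_iff]
      intro s hs
      have := hS hs
      rw [Subgroup.mem_centralizer_singleton_iff] at this
      exact this
    · right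
      obtain ⟨T, hT⟩ := Cfsg.Agent.Helper4.CaminaLemma.exists_sylow_le_of_not_dvd_index q _ h1
      refine ⟨T, ?_⟩
      rw [Subgroup.mem_centralizer_iff]
      intro s hs
      have := hT hs
      rw [Subgroup.mem_centralizer_singleton_iff] at this
      exact this
  let FP : Sylow p G → Finset G := fun S =>
    (Finset.univ.filter (fun x => x ∈ centralizer ((S : Subgroup G) : Set G))).erase 1
  let FQ : Sylow q G → Finset G := fun T =>
    (Finset.univ.filter (fun x => x ∈ centralizer ((T : Subgroup G) : Set G))).erase 1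
  have hsub : (Finset.univ : Finset G).erase 1 ⊆
      (Finset.univ.biUnion FP) ∪ (Finset.univ.biUnion FQ) := by
    intro x hx
    rw [Finset.mem_erase] at hx
    rw [Finset.mem_union, Finset.mem_biUnion, Finset.mem_biUnion]
    rcases hcov x with ⟨S, hS⟩ | ⟨T, hT⟩
    · left
      exact ⟨S, Finset.mem_univ _, Finset.mem_erase.2 ⟨hx.1, Finset.mem_filter.2 ⟨Finset.mem_univ _, hS⟩⟩⟩
    · right
      exact ⟨T, Finset.mem_univ _, Finset.mem_erase.2 ⟨hx.1, Finset.mem_filter.2 ⟨Finset.mem_univ _, hT⟩⟩⟩
  have hcardFP : ∀ S : Sylow p G, (FP S).card + 1 = Nat.card (centralizer ((S : Subgroup G) : Set G)) := by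
    intro S
    have h1 : (1 : G) ∈ Finset.univ.filter (fun x => x ∈ centralizer ((S : Subgroup G) : Set G)) :=
      Finset.mem_filter.2 ⟨Finset.mem_univ _, Subgroup.one_mem _⟩
    rw [Finset.card_erase_add_one h1, Nat.card_eq_fintype_card, Fintype.card_subtype]
  have hcardFQ : ∀ T : Sylow q G, (FQ T).card + 1 = Nat.card (centralizer ((T : Subgroup G) : Set G)) := by
    intro T
    have h1 : (1 : G) ∈ Finset.univ.filter (fun x => x ∈ centralizer ((T : Subgroup G) : Set G)) :=
      Finset.mem_filter.2 ⟨Finset.mem_univ _, Subgroup.one_mem _⟩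
    rw [Finset.card_erase_add_one h1, Nat.card_eq_fintype_card, Fintype.card_subtype]
  have hcard1 : Nat.card G - 1 ≤ ∑ S : Sylow p G, (FP S).card + ∑ T : Sylow q G, (FQ T).card := by
    have h1 := Finset.card_le_card hsub
    rw [Finset.card_erase_of_mem (Finset.mem_univ _), Finset.card_univ, ← Nat.card_eq_fintype_card] at h1
    exact h1.trans ((Finset.card_union_le _ _).trans
      (Nat.add_le_add Finset.card_biUnion_le Finset.card_biUnion_le))
  -- bounds
  have hbP : 2 * (∑ S : Sylow p G, (FP S).card) + 2 * Nat.card (Sylow p G) ≤ Nat.card G := by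
    have h2 : ∀ S : Sylow p G, 2 * ((FP S).card + 1) * Nat.card (Sylow p G) ≤ Nat.card G := by
      intro S
      rw [hcardFP]
      exact two_mul_card_centralizer_le p S (hP S)
    have h3 : (∑ S : Sylow p G, 2 * ((FP S).card + 1) * Nat.card (Sylow p G))
        ≤ ∑ _S : Sylow p G, Nat.card G := Finset.sum_le_sum (fun S _ => h2 S)
    rw [Finset.sum_const, Finset.card_univ, smul_eq_mul, ← Finset.sum_mul,
      ← Nat.card_eq_fintype_card, mul_comm] at h3
    have hpos : 0 < Nat.card (Sylow p G) := Nat.card_pos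
    have h4 := Nat.le_of_mul_le_mul_left h3 hpos
    have h5 : (∑ S : Sylow p G, 2 * ((FP S).card + 1))
        = 2 * (∑ S : Sylow p G, (FP S).card) + 2 * Nat.card (Sylow p G) := by
      rw [← Finset.mul_sum, Finset.sum_add_distrib, Finset.sum_const, Finset.card_univ, smul_eq_mul,
        mul_one, Nat.card_eq_fintype_card, mul_add]
    rw [h5] at h4
    exact h4
  have hbQ : 2 * (∑ T : Sylow q G, (FQ T).card) + 2 * Nat.card (Sylow q G) ≤ Nat.card G := by
    have h2 : ∀ T : Sylow q G, 2 * ((FQ T).card + 1) * Nat.card (Sylow q G) ≤ Nat.card G := by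
      intro T
      rw [hcardFQ]
      exact two_mul_card_centralizer_le q T (hQ T)
    have h3 : (∑ T : Sylow q G, 2 * ((FQ T).card + 1) * Nat.card (Sylow q G))
        ≤ ∑ _T : Sylow q G, Nat.card G := Finset.sum_le_sum (fun T _ => h2 T)
    rw [Finset.sum_const, Finset.card_univ, smul_eq_mul, ← Finset.sum_mul,
      ← Nat.card_eq_fintype_card, mul_comm] at h3
    have hpos : 0 < Nat.card (Sylow q G) := Nat.card_pos
    have h4 := Nat.le_of_mul_le_mul_left h3 hpos
    have h5 : (∑ T : Sylow q G, 2 * ((FQ T).card + 1))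
        = 2 * (∑ T : Sylow q G, (FQ T).card) + 2 * Nat.card (Sylow q G) := by
      rw [← Finset.mul_sum, Finset.sum_add_distrib, Finset.sum_const, Finset.card_univ, smul_eq_mul,
        mul_one, Nat.card_eq_fintype_card, mul_add]
    rw [h5] at h4
    exact h4
  have hnp : 0 < Nat.card (Sylow p G) := Nat.card_pos
  have hnq : 0 < Nat.card (Sylow q G) := Nat.card_pos
  have hG : 0 < Nat.card G := Nat.card_pos
  omega

theorem hasNormalPComplement_or (p q : ℕ) (hp : p.Prime) (hq : q.Prime) (hpq : p ≠ q)
    (h : ∀ x : G, ¬ p * q ∣ (Subgroup.centralizer ({x} : Set G)).index) :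
    Cfsg.HasNormalPComplement p G ∨ Cfsg.HasNormalPComplement q G := by
  have : Fact p.Prime := ⟨hp⟩
  have : Fact q.Prime := ⟨hq⟩
  rcases exists_normalizer_le_centralizer p q hpq h with ⟨S, hS⟩ | ⟨T, hT⟩
  · left
    exact ⟨S, (MonoidHom.transferSylow S hS).ker, inferInstance,
      MonoidHom.ker_transferSylow_isComplement' S hS⟩
  · right
    exact ⟨T, (MonoidHom.transferSylow T hT).ker, inferInstance,
      MonoidHom.ker_transferSylow_isComplement' T hT⟩

end Cfsg.Agent.Helper4.PQClassSizes
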