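import Mathlib
import Cfsg.Agent.S3377

/-!
# Raw computations in `SL₂(𝔽₁₁)` for the `A₅`-subgroups of `PSL₂(11)`
-/

set_option autoImplicit false

namespace Cfsg.Agent.Helper4.PSL11

open Cfsg.Agent.S3377

abbrev Z := ZMod 11

/-- raw `2 × 2` matrices over `ZMod 11` -/
structure M4 where
  a : Z
  b : Z
  c : Z
  d : Z
deriving DecidableEq

namespace M4

def mul (x y : M4) : M4 :=
  ⟨x.a * y.a + x.b * y.c, x.a * y.b + x.b * y.d, x.c * y.a + x.d * y.c, x.c * y.b + x.d * y.d⟩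

def neg (x : M4) : M4 := ⟨-x.a, -x.b, -x.c, -x.d⟩

def one : M4 := ⟨1, 0, 0, 1⟩

def det (x : M4) : Z := x.a * x.d - x.b * x.c

def adj (x : M4) : M4 := ⟨x.d, -x.b, -x.c, x.a⟩

/-- `x = y` or `x = -y` -/
def pm (x y : M4) : Prop := x = y ∨ x = y.neg

instance (x y : M4) : Decidable (pm x y) := by unfold pm; infer_instance

/-- word products -/
def prod4 (g0 g1 : M4) : List (Fin 2) → M4
  | [] => one
  | s :: l => (if s = 0 then g0 else g1).mul (prod4 g0 g1 l)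

end M4

open M4

def xs4 : M4 := ⟨0, -1, 1, -1⟩
def yH4 : M4 := ⟨0, 2, 5, 8⟩
def yK4 : M4 := ⟨0, 4, 8, 7⟩
def g14 : M4 := ⟨0, 1, 10, 0⟩

def ytab : List M4 := [⟨0, 2, 5, 8⟩, ⟨0, 3, 7, 7⟩, ⟨0, 4, 8, 7⟩, ⟨0, 5, 2, 3⟩, ⟨1, 8, 2, 6⟩, ⟨1, 9, 3, 6⟩, ⟨2, 0, 5, 6⟩, ⟨2, 3, 1, 2⟩, ⟨2, 4, 3, 1⟩, ⟨2, 6, 0, 6⟩, ⟨2, 8, 7, 1⟩, ⟨2, 10, 8, 2⟩, ⟨3, 0, 7, 4⟩, ⟨3, 2, 1, 1⟩, ⟨3, 4, 0, 4⟩, ⟨3, 7, 2, 5⟩, ⟨3, 9, 4, 5⟩, ⟨3, 10, 9, 1⟩, ⟨4, 0, 8, 3⟩, ⟨4, 2, 3, 10⟩, ⟨4, 3, 0, 3⟩, ⟨4, 8, 9, 10⟩, ⟨5, 0, 2, 9⟩, ⟨5, 9, 0, 9⟩]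
def ctab : List M4 := [⟨1, 0, 0, 1⟩, ⟨2, 2, 9, 4⟩, ⟨1, 0, 0, 1⟩, ⟨2, 2, 9, 4⟩, ⟨2, 2, 9, 4⟩, ⟨1, 0, 0, 1⟩, ⟨2, 2, 9, 4⟩, ⟨1, 0, 0, 1⟩, ⟨2, 2, 9, 4⟩, ⟨1, 0, 0, 1⟩, ⟨1, 0, 0, 1⟩, ⟨2, 2, 9, 4⟩, ⟨1, 0, 0, 1⟩, ⟨2, 2, 9, 4⟩, ⟨2, 2, 9, 4⟩, ⟨1, 0, 0, 1⟩, ⟨2, 2, 9, 4⟩, ⟨1, 0, 0, 1⟩, ⟨2, 2, 9, 4⟩, ⟨1, 0, 0, 1⟩, ⟨1, 0, 0, 1⟩, ⟨2, 2, 9, 4⟩, ⟨1, 0, 0, 1⟩, ⟨2, 2, 9, 4⟩]
def wtab : List Bool := [false, false, true, true, true, false, true, false, false, false, true, true, true, true, false, true, false, false, false, true, true, false, false, true]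
def otab : List ℕ := [2, 52, 2, 52, 15, 47, 47, 52, 15, 15, 47, 2, 13, 13, 50, 52, 2, 50, 47, 50, 15, 13, 13, 50]
def centList : List M4 := [⟨0, 1, 10, 1⟩, ⟨0, 10, 1, 10⟩, ⟨1, 0, 0, 1⟩, ⟨1, 10, 1, 0⟩, ⟨2, 2, 9, 4⟩, ⟨2, 7, 4, 9⟩, ⟨4, 9, 2, 2⟩, ⟨7, 2, 9, 9⟩, ⟨9, 4, 7, 2⟩, ⟨9, 9, 2, 7⟩, ⟨10, 0, 0, 10⟩, ⟨10, 1, 10, 0⟩]

/-- the word table as words of the `A₅` presentation -/
def W4 (y : M4) (ω : Fin 60) : M4 := prod4 xs4 y (word ω)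

/-! ### relations -/

theorem xs4_rel : xs4.mul (xs4.mul xs4) = one ∧ xs4 ≠ one ∧ xs4 ≠ one.neg ∧ xs4.det = 1 := by
  decide +kernel

theorem yH4_rel : pm (prod4 xs4 yH4 [1, 1, 1, 1, 1]) one ∧ pm (prod4 xs4 yH4 [0, 1, 0, 1]) one ∧
    yH4.det = 1 := by decide +kernel

theorem yK4_rel : pm (prod4 xs4 yK4 [1, 1, 1, 1, 1]) one ∧ pm (prod4 xs4 yK4 [0, 1, 0, 1]) one ∧
    yK4.det = 1 := by decide +kernel

/-! ### the big loops -/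

set_option maxRecDepth 100000 in
/-- (C1) every element of order 3 of `SL₂(11)` is conjugate to `xs` -/
theorem c1_raw : ∀ a b c d : Z, (M4.mk a b c d).det = 1 →
    (M4.mk a b c d).mul ((M4.mk a b c d).mul (M4.mk a b c d)) = one → M4.mk a b c d ≠ one →
    ∃ u1 u2 : Z, (M4.mk u1 (a * u1 + b * u2) u2 (c * u1 + d * u2)).det = 1 ∧
      (M4.mk u1 (a * u1 + b * u2) u2 (c * u1 + d * u2)).mul xs4 =
        (M4.mk a b c d).mul (M4.mk u1 (a * u1 + b * u2) u2 (c * u1 + d * u2)) := by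
  decide +kernel

set_option maxRecDepth 100000 in
/-- (C2) the centralizer of `xs` modulo sign -/
theorem c2_raw : ∀ a b c d : Z, (M4.mk a b c d).det = 1 →
    pm ((M4.mk a b c d).mul xs4) (xs4.mul (M4.mk a b c d)) → M4.mk a b c d ∈ centList := by
  decide +kernel

set_option maxRecDepth 100000 in
/-- (C3) the elements `y` completing `xs` to a `(3,5,2)`-pair modulo sign -/
theorem c3_raw : ∀ a b c d : Z, (M4.mk a b c d).det = 1 →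
    pm (prod4 xs4 (M4.mk a b c d) [1, 1, 1, 1, 1]) one →
    pm (prod4 xs4 (M4.mk a b c d) [0, 1, 0, 1]) one →
    ∃ j : Fin 24, pm (M4.mk a b c d) (ytab.getD j.val one) := by
  decide +kernel

/-! ### the small loops -/

set_option maxRecDepth 100000 in
/-- (C4) each completion is conjugate, by an element centralizing `xs`, into `H` or `K` -/
theorem c4_raw : ∀ j : Fin 24,
    (ctab.getD j.val one).det = 1 ∧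
    (ctab.getD j.val one).mul xs4 = xs4.mul (ctab.getD j.val one) ∧
    pm ((ctab.getD j.val one).adj.mul ((ytab.getD j.val one).mul (ctab.getD j.val one)))
      (W4 (if wtab.getD j.val false then yK4 else yH4)
        ⟨(otab.getD j.val 0) % 60, Nat.mod_lt _ (by norm_num)⟩) := by
  decide +kernel

set_option maxRecDepth 100000 in
/-- (C5) no element centralizing `xs` conjugates `yH` into `K` -/
theorem c5_raw : ∀ c ∈ centList, ∀ ω : Fin 60,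
    ¬ pm (c.mul (yH4.mul c.adj)) (W4 yK4 ω) := by
  decide +kernel

set_option maxRecDepth 100000 in
/-- (C6) `g1` conjugates `xs` outside `H` and outside `K` -/
theorem c6_raw : g14.det = 1 ∧ (∀ ω : Fin 60, ¬ pm (g14.mul (xs4.mul g14.adj)) (W4 yH4 ω)) ∧
    (∀ ω : Fin 60, ¬ pm (g14.mul (xs4.mul g14.adj)) (W4 yK4 ω)) := by
  decide +kernel

end Cfsg.Agent.Helper4.PSL11
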