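import Mathlib
import Cfsg.Agent.Helper4.PSL11Raw
import Cfsg.Agent.Helper4.A5Pair
import Cfsg.Agent.Helper8.PSL2Basic

/-!
# Bridge between raw matrices and `SL₂(𝔽₁₁)`, `PSL₂(11)`
-/

set_option autoImplicit false

namespace Cfsg.Agent.Helper4.PSL11

open Matrix Cfsg.Agent.S3377 Cfsg.Agent.Helper3.CosetCert Cfsg.Agent.Helper8.SL2C
open Cfsg.Agent.Helper4.A5Pair

instance fact11' : Fact (Nat.Prime 11) := ⟨by norm_num⟩

abbrev S := Matrix.SpecialLinearGroup (Fin 2) (ZMod 11)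
abbrev P := Matrix.ProjectiveSpecialLinearGroup (Fin 2) (ZMod 11)

/-- the raw matrix of an element of `SL₂` -/
def ofS (X : S) : M4 := ⟨X 0 0, X 0 1, X 1 0, X 1 1⟩

/-- an element of `SL₂` from a raw matrix of determinant one -/
def toS (x : M4) (h : x.det = 1) : S :=
  ⟨!![x.a, x.b; x.c, x.d], by rw [Matrix.det_fin_two_of]; exact h⟩

theorem ofS_toS (x : M4) (h : x.det = 1) : ofS (toS x h) = x := by
  cases x
  simp [ofS, toS]

theorem ofS_injective : Function.Injective ofS := by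
  intro X Y h
  simp only [ofS, M4.mk.injEq] at h
  obtain ⟨h1, h2, h3, h4⟩ := h
  ext i j
  fin_cases i <;> fin_cases j <;> assumption

theorem ofS_mul (X Y : S) : ofS (X * Y) = (ofS X).mul (ofS Y) := by
  simp only [ofS, M4.mul, Matrix.SpecialLinearGroup.coe_mul, Matrix.mul_apply, Fin.sum_univ_two]

theorem ofS_one : ofS 1 = M4.one := by
  simp [ofS, M4.one]

theorem ofS_neg (X : S) : ofS (-X) = (ofS X).neg := by
  simp [ofS, M4.neg]

theorem ofS_det (X : S) : (ofS X).det = 1 := by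
  have := X.2
  rw [Matrix.det_fin_two] at this
  exact this

theorem ofS_inv (X : S) : ofS X⁻¹ = (ofS X).adj := by
  simp [ofS, M4.adj, Matrix.SpecialLinearGroup.coe_inv, Matrix.adjugate_fin_two]

theorem ofS_eta (X : S) : M4.mk (X 0 0) (X 0 1) (X 1 0) (X 1 1) = ofS X := rfl

theorem ofS_prodL (X Y : S) (l : List (Fin 2)) :
    ofS (prodL (gmap X Y) l) = M4.prod4 (ofS X) (ofS Y) l := by
  induction l with
  | nil => simp [prodL, M4.prod4, ofS_one]
  | cons s l ih =>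
    rw [prodL_cons, ofS_mul, ih, M4.prod4]
    congr 1
    unfold gmap
    split_ifs <;> rfl

theorem pm_ofS_iff (X Y : S) : M4.pm (ofS X) (ofS Y) ↔ pmk X = pmk Y := by
  rw [pmk_eq_iff, M4.pm, ← ofS_neg]
  constructor
  · rintro (h | h)
    · exact Or.inl (ofS_injective h)
    · exact Or.inr (ofS_injective h)
  · rintro (h | h)
    · exact Or.inl (congrArg ofS h)
    · exact Or.inr (congrArg ofS h)

theorem pmk_prodL (X Y : S) (l : List (Fin 2)) :
    prodL (gmap (pmk X) (pmk Y)) l = pmk (prodL (gmap X Y) l) := by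
  induction l with
  | nil => simp [prodL]
  | cons s l ih =>
    rw [prodL_cons, prodL_cons, ih, ← pmk_mul]
    congr 1
    unfold gmap
    split_ifs <;> rfl

/-! ### raw negation lemmas -/

theorem M4.neg_mul (x y : M4) : (x.neg).mul y = (x.mul y).neg := by
  simp only [M4.neg, M4.mul, M4.mk.injEq]
  refine ⟨?_, ?_, ?_, ?_⟩ <;> ring

theorem M4.mul_neg (x y : M4) : x.mul (y.neg) = (x.mul y).neg := by
  simp only [M4.neg, M4.mul, M4.mk.injEq]
  refine ⟨?_, ?_, ?_, ?_⟩ <;> ring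

theorem M4.neg_neg (x : M4) : x.neg.neg = x := by
  cases x
  simp [M4.neg]

theorem M4.pm_symm {x y : M4} (h : M4.pm x y) : M4.pm y x := by
  rcases h with h | h
  · exact Or.inl h.symm
  · right; rw [h, M4.neg_neg]

theorem M4.pm_trans {x y z : M4} (h : M4.pm x y) (h' : M4.pm y z) : M4.pm x z := by
  rcases h with rfl | rfl <;> rcases h' with rfl | rfl
  · exact Or.inl rfl
  · exact Or.inr rfl
  · exact Or.inr rfl
  · left; rw [M4.neg_neg]

theorem M4.pm_mul_left (c : M4) {x y : M4} (h : M4.pm x y) : M4.pm (c.mul x) (c.mul y) := by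
  rcases h with rfl | rfl
  · exact Or.inl rfl
  · right; rw [M4.mul_neg]

theorem M4.pm_mul_right (c : M4) {x y : M4} (h : M4.pm x y) : M4.pm (x.mul c) (y.mul c) := by
  rcases h with rfl | rfl
  · exact Or.inl rfl
  · right; rw [M4.neg_mul]

/-! ### the basic elements -/

def xsS : S := toS xs4 xs4_rel.2.2.2
def yHS : S := toS yH4 yH4_rel.2.2
def yKS : S := toS yK4 yK4_rel.2.2
def g1S : S := toS g14 c6_raw.1

theorem ofS_xsS : ofS xsS = xs4 := ofS_toS _ _
theorem ofS_yHS : ofS yHS = yH4 := ofS_toS _ _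
theorem ofS_yKS : ofS yKS = yK4 := ofS_toS _ _
theorem ofS_g1S : ofS g1S = g14 := ofS_toS _ _

def x0 : P := pmk xsS

theorem pow_five_eq (y : P) : y ^ 5 = prodL (gmap x0 y) [1, 1, 1, 1, 1] := by
  simp [prodL, gmap, pow_succ, mul_assoc]

theorem mul_sq_eq (y : P) : (x0 * y) ^ 2 = prodL (gmap x0 y) [0, 1, 0, 1] := by
  simp [prodL, gmap, pow_succ, mul_assoc]

theorem xsS_pow : xsS ^ 3 = 1 := by
  apply ofS_injective
  rw [pow_succ, pow_succ, pow_one, ofS_mul, ofS_mul, ofS_xsS, ofS_one]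
  have := xs4_rel.1
  -- xs4.mul (xs4.mul xs4) = one ; ours is (xs4.mul xs4).mul xs4
  decide +kernel

theorem x0_pow : x0 ^ 3 = 1 := by
  show pmk xsS ^ 3 = 1
  rw [pmk_pow, xsS_pow]
  rfl

theorem x0_ne : x0 ≠ 1 := by
  intro h
  rw [x0, pmk_eq_one_iff] at h
  rcases h with h | h
  · have := congrArg ofS h
    rw [ofS_xsS, ofS_one] at this
    exact xs4_rel.2.1 this
  · have := congrArg ofS h
    rw [ofS_xsS, ofS_neg, ofS_one] at this
    exact xs4_rel.2.2.1 this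

/-- a completion `pmk Y` of `x0` to a pair, in raw terms -/
theorem isPair_iff_raw (Y : S) : IsPair x0 (pmk Y) ↔
    M4.pm (M4.prod4 xs4 (ofS Y) [1, 1, 1, 1, 1]) M4.one ∧
      M4.pm (M4.prod4 xs4 (ofS Y) [0, 1, 0, 1]) M4.one := by
  have e1 : (pmk Y) ^ 5 = 1 ↔ M4.pm (M4.prod4 xs4 (ofS Y) [1, 1, 1, 1, 1]) M4.one := by
    rw [pow_five_eq, x0, pmk_prodL, ← ofS_xsS, ← ofS_prodL, ← ofS_one, pm_ofS_iff]
    rfl
  have e2 : (x0 * pmk Y) ^ 2 = 1 ↔ M4.pm (M4.prod4 xs4 (ofS Y) [0, 1, 0, 1]) M4.one := by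
    rw [mul_sq_eq, x0, pmk_prodL, ← ofS_xsS, ← ofS_prodL, ← ofS_one, pm_ofS_iff]
    rfl
  constructor
  · intro h
    exact ⟨e1.1 h.hy, e2.1 h.hxy⟩
  · rintro ⟨h1, h2⟩
    exact ⟨x0_pow, e1.2 h1, e2.2 h2, x0_ne⟩

abbrev yH : P := pmk yHS
abbrev yK : P := pmk yKS

theorem pairH : IsPair x0 yH := by
  rw [isPair_iff_raw, ofS_yHS]
  exact ⟨yH4_rel.1, yH4_rel.2.1⟩

theorem pairK : IsPair x0 yK := by
  rw [isPair_iff_raw, ofS_yKS]
  exact ⟨yK4_rel.1, yK4_rel.2.1⟩

/-- the two representatives -/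
def Hs : Subgroup P := sub pairH
def Ks : Subgroup P := sub pairK

/-- membership in the subgroup of a pair `(x0, pmk Y)` in raw terms -/
theorem mem_sub_iff_raw {Y : S} (h : IsPair x0 (pmk Y)) (M : S) :
    pmk M ∈ sub h ↔ ∃ ω : Fin 60, M4.pm (ofS M) (W4 (ofS Y) ω) := by
  rw [mem_sub_iff]
  refine exists_congr fun ω => ?_
  rw [x0, pmk_prodL, ← pm_ofS_iff, ofS_prodL, ofS_xsS]
  rfl

end Cfsg.Agent.Helper4.PSL11
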