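import Mathlib
import Cfsg.Agent.Helper4.PSL11Bridge

/-!
# The subgroups of `PSL₂(11)` isomorphic to `A₅`
-/

set_option autoImplicit false

namespace Cfsg.Agent.Helper4.PSL11

open Matrix Cfsg.Agent.S3377 Cfsg.Agent.Helper3.CosetCert Cfsg.Agent.Helper8.SL2C
open Cfsg.Agent.Helper4.A5Pair
open scoped Pointwise

/-! ### conjugation of subgroups -/

section conj

variable {G : Type*} [Group G]

theorem mem_conj_smul (g : G) (L : Subgroup G) (x : G) :
    x ∈ MulAut.conj g • L ↔ g⁻¹ * x * g ∈ L := by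
  rw [Subgroup.mem_pointwise_smul_iff_inv_smul_mem, MulAut.smul_def, ← map_inv,
    MulAut.conj_apply, inv_inv]

theorem conj_mem_conj_smul (g : G) (L : Subgroup G) {x : G} (hx : x ∈ L) :
    g * x * g⁻¹ ∈ MulAut.conj g • L := by
  rw [mem_conj_smul]
  have : g⁻¹ * (g * x * g⁻¹) * g = x := by group
  rw [this]; exact hx

theorem card_conj_smul (g : G) (L : Subgroup G) :
    Nat.card (MulAut.conj g • L : Subgroup G) = Nat.card L :=
  (Nat.card_congr (Subgroup.equivSMul (MulAut.conj g) L).toEquiv).symm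

theorem conj_smul_smul (g h : G) (L : Subgroup G) :
    MulAut.conj g • (MulAut.conj h • L) = MulAut.conj (g * h) • L := by
  rw [smul_smul, ← map_mul]

theorem conj_one_smul (L : Subgroup G) : MulAut.conj (1 : G) • L = L := by
  rw [map_one, one_smul]

theorem isPair_conj {x y : G} (h : IsPair x y) (c : G) :
    IsPair (c * x * c⁻¹) (c * y * c⁻¹) := by
  refine ⟨?_, ?_, ?_, ?_⟩
  · rw [conj_pow, h.hx]; group
  · rw [conj_pow, h.hy]; group
  · have : c * x * c⁻¹ * (c * y * c⁻¹) = c * (x * y) * c⁻¹ := by group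
    rw [this, conj_pow, h.hxy]; group
  · intro h'
    apply h.hne
    have : x = c⁻¹ * (c * x * c⁻¹) * c := by group
    rw [this, h']; group

end conj

/-! ### (T1) elements of order three are conjugate to `x0` -/

theorem conj_x0 (x : P) (hx : x ^ 3 = 1) (hne : x ≠ 1) : ∃ g : P, g * x0 * g⁻¹ = x := by
  obtain ⟨X, rfl⟩ := pmk_surjective x
  -- choose the lift with cube one
  have hlift : ∃ X' : S, pmk X' = pmk X ∧ X' ^ 3 = 1 := by
    rw [pmk_pow, pmk_eq_one_iff] at hx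
    rcases hx with h | h
    · exact ⟨X, rfl, h⟩
    · refine ⟨-X, pmk_neg X, ?_⟩
      rw [Odd.neg_pow (by decide), h, neg_neg]
  obtain ⟨X', hX', h3⟩ := hlift
  have hne' : X' ≠ 1 := by
    rintro rfl
    apply hne
    rw [← hX']
    rfl
  have h3' : (ofS X').mul ((ofS X').mul (ofS X')) = M4.one := by
    rw [← ofS_mul, ← ofS_mul, ← ofS_one]
    congr 1
    rw [← h3, pow_succ, pow_succ, pow_one, mul_assoc]
  have hne'' : ofS X' ≠ M4.one := by
    intro h
    apply hne'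
    apply ofS_injective
    rw [h, ofS_one]
  obtain ⟨u1, u2, hdet, heq⟩ := c1_raw (X' 0 0) (X' 0 1) (X' 1 0) (X' 1 1)
    (by rw [ofS_eta]; exact ofS_det X') (by rw [ofS_eta]; exact h3') (by rw [ofS_eta]; exact hne'')
  set g : M4 := M4.mk u1 (X' 0 0 * u1 + X' 0 1 * u2) u2 (X' 1 0 * u1 + X' 1 1 * u2) with hg
  rw [ofS_eta] at heq
  have hGx : toS g hdet * xsS = X' * toS g hdet := by
    apply ofS_injective
    rw [ofS_mul, ofS_mul, ofS_toS, ofS_xsS]
    exact heq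
  refine ⟨pmk (toS g hdet), ?_⟩
  rw [← hX', x0, pmk_inv, pmk_mul, pmk_mul, hGx]
  congr 1
  group

/-! ### (T2) every `A₅` is conjugate to `Hs` or `Ks` -/

theorem card_Hs : Nat.card Hs = 60 := card_sub pairH
theorem card_Ks : Nat.card Ks = 60 := card_sub pairK

theorem x0_mem_Hs : x0 ∈ Hs := left_mem pairH
theorem x0_mem_Ks : x0 ∈ Ks := left_mem pairK

/-- a subgroup of order 60 containing `x0` and a completion `y` -/
theorem conj_of_contains (L : Subgroup P) (hc : Nat.card L = 60) (hx : x0 ∈ L) (y : P)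
    (hy : y ∈ L) (hp : IsPair x0 y) :
    ∃ g : P, MulAut.conj g • L = Hs ∨ MulAut.conj g • L = Ks := by
  obtain ⟨Y, rfl⟩ := pmk_surjective y
  have hraw := (isPair_iff_raw Y).1 hp
  obtain ⟨j, hj⟩ := c3_raw (Y 0 0) (Y 0 1) (Y 1 0) (Y 1 1)
    (by rw [ofS_eta]; exact ofS_det Y) (by rw [ofS_eta]; exact hraw.1)
    (by rw [ofS_eta]; exact hraw.2)
  rw [ofS_eta] at hj
  obtain ⟨hcd, hcx, hcy⟩ := c4_raw j
  set cj := ctab.getD j.val M4.one with hcj
  set yj := ytab.getD j.val M4.one with hyj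
  set C : S := toS cj hcd with hC
  -- `C` commutes with `xsS`
  have hCx : C * xsS = xsS * C := by
    apply ofS_injective
    rw [ofS_mul, ofS_mul, ofS_toS, ofS_xsS]
    exact hcx
  have hcx0 : (pmk C)⁻¹ * x0 * (pmk C)⁻¹⁻¹ = x0 := by
    rw [x0, pmk_inv, pmk_inv, pmk_mul, pmk_mul]
    congr 1
    rw [inv_inv, mul_assoc, ← hCx]
    group
  -- the conjugate of `y`
  set y'' : P := (pmk C)⁻¹ * pmk Y * (pmk C)⁻¹⁻¹ with hy''
  have hpair'' : IsPair x0 y'' := by
    have := isPair_conj hp (pmk C)⁻¹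
    rwa [hcx0] at this
  have hy''eq : y'' = pmk (C⁻¹ * Y * C) := by
    rw [hy'', pmk_inv, pmk_inv, pmk_mul, pmk_mul, inv_inv]
  have hraw'' : M4.pm (ofS (C⁻¹ * Y * C))
      (W4 (if wtab.getD j.val false then yK4 else yH4)
        ⟨(otab.getD j.val 0) % 60, Nat.mod_lt _ (by norm_num)⟩) := by
    rw [ofS_mul, ofS_mul, ofS_inv, ofS_toS]
    have h1 : M4.pm ((cj.adj.mul (ofS Y)).mul cj) ((cj.adj.mul yj).mul cj) :=
      M4.pm_mul_right cj (M4.pm_mul_left cj.adj hj)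
    refine M4.pm_trans h1 ?_
    have h2 : (cj.adj.mul yj).mul cj = cj.adj.mul (yj.mul cj) := by
      simp only [M4.mul, M4.mk.injEq]
      refine ⟨?_, ?_, ?_, ?_⟩ <;> ring
    rw [h2]
    exact hcy
  -- the conjugated subgroup
  set L'' : Subgroup P := MulAut.conj (pmk C)⁻¹ • L with hL''
  have hx'' : x0 ∈ L'' := by
    have := conj_mem_conj_smul (pmk C)⁻¹ L hx
    rwa [hcx0] at this
  have hyL'' : y'' ∈ L'' := conj_mem_conj_smul (pmk C)⁻¹ L hy
  have hcL'' : Nat.card L'' = 60 := by rw [hL'', card_conj_smul, hc]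
  have hL''eq : L'' = sub hpair'' := eq_sub_of_card hpair'' hx'' hyL'' hcL''
  refine ⟨(pmk C)⁻¹, ?_⟩
  by_cases hw : wtab.getD j.val false = true
  · right
    rw [if_pos hw] at hraw''
    have hmem : y'' ∈ Ks := by
      rw [hy''eq]
      show pmk (C⁻¹ * Y * C) ∈ sub pairK
      rw [mem_sub_iff_raw, ofS_yKS]
      exact ⟨_, hraw''⟩
    rw [← hL'', hL''eq]
    exact (eq_sub_of_card hpair'' x0_mem_Ks hmem card_Ks).symm
  · left
    rw [if_neg hw] at hraw''
    have hmem : y'' ∈ Hs := by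
      rw [hy''eq]
      show pmk (C⁻¹ * Y * C) ∈ sub pairH
      rw [mem_sub_iff_raw, ofS_yHS]
      exact ⟨_, hraw''⟩
    rw [← hL'', hL''eq]
    exact (eq_sub_of_card hpair'' x0_mem_Hs hmem card_Hs).symm

theorem conj_to_HK (L : Subgroup P) (hL : Nonempty (L ≃* alternatingGroup (Fin 5))) :
    ∃ g : P, MulAut.conj g • L = Hs ∨ MulAut.conj g • L = Ks := by
  obtain ⟨e⟩ := hL
  have hcard : Nat.card L = 60 := by rw [Nat.card_congr e.toEquiv, card_A5]
  obtain ⟨x, hx3, hxne⟩ := exists_three e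
  have hx3' : (x : P) ^ 3 = 1 := by
    have := congrArg (Subtype.val) hx3
    simpa using this
  have hxne' : (x : P) ≠ 1 := by
    intro h
    apply hxne
    exact Subtype.ext h
  obtain ⟨g1, hg1⟩ := conj_x0 (x : P) hx3' hxne'
  -- conjugate `L` so that it contains `x0`
  set L' : Subgroup P := MulAut.conj g1⁻¹ • L with hL'
  have hx0L' : x0 ∈ L' := by
    have := conj_mem_conj_smul g1⁻¹ L x.2
    have h2 : g1⁻¹ * (x : P) * g1⁻¹⁻¹ = x0 := by rw [← hg1]; group
    rwa [h2] at this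
  have e' : L' ≃* alternatingGroup (Fin 5) :=
    (Subgroup.equivSMul (MulAut.conj g1⁻¹) L).symm.trans e
  have hcard' : Nat.card L' = 60 := by rw [Nat.card_congr e'.toEquiv, card_A5]
  obtain ⟨y, hy⟩ := exists_pair e' (⟨x0, hx0L'⟩ : L') (Subtype.ext (by simpa using x0_pow))
    (fun h => x0_ne (by simpa using congrArg Subtype.val h))
  have hp : IsPair x0 (y : P) := by
    refine ⟨x0_pow, ?_, ?_, x0_ne⟩
    · have := congrArg Subtype.val hy.hy
      simpa using this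
    · have := congrArg Subtype.val hy.hxy
      simpa using this
  obtain ⟨g2, hg2⟩ := conj_of_contains L' hcard' hx0L' (y : P) y.2 hp
  refine ⟨g2 * g1⁻¹, ?_⟩
  rw [← conj_smul_smul]
  exact hg2

/-! ### (T3) `Hs` and `Ks` are not conjugate -/

theorem yH_mem_Hs : yH ∈ Hs := right_mem pairH

theorem not_conj (g : P) : MulAut.conj g • Hs ≠ Ks := by
  intro hg
  -- `x0 ∈ Ks`, so `h0 := g⁻¹ x0 g ∈ Hs`
  have h1 : g⁻¹ * x0 * g ∈ Hs := by
    rw [← mem_conj_smul, hg]; exact x0_mem_Ks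
  obtain ⟨e⟩ := (sub_equiv pairH : Nonempty (Hs ≃* alternatingGroup (Fin 5)))
  set h0 : Hs := ⟨g⁻¹ * x0 * g, h1⟩ with hh0
  set x0' : Hs := ⟨x0, x0_mem_Hs⟩ with hx0'
  have h03 : h0 ^ 3 = 1 := by
    apply Subtype.ext
    have : (g⁻¹ * x0 * g) ^ 3 = 1 := by
      have := conj_pow (a := g⁻¹) (b := x0) (i := 3)
      rw [inv_inv] at this
      rw [this, x0_pow]; group
    simpa [hh0] using this
  have h0ne : h0 ≠ 1 := by
    intro h
    have := congrArg Subtype.val h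
    simp only [hh0, Subgroup.coe_one] at this
    apply x0_ne
    have h2 : x0 = g * (g⁻¹ * x0 * g) * g⁻¹ := by group
    rw [h2, this]; group
  have hx03 : x0' ^ 3 = 1 := Subtype.ext (by simpa [hx0'] using x0_pow)
  have hx0ne : x0' ≠ 1 := fun h => x0_ne (by simpa [hx0'] using congrArg Subtype.val h)
  obtain ⟨h, hh⟩ := conj_three e h0 x0' h03 h0ne hx03 hx0ne
  have hh' : (h : P) * (g⁻¹ * x0 * g) * (h : P)⁻¹ = x0 := by
    have := congrArg Subtype.val hh
    exact this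
  -- `c := g * h⁻¹` centralizes `x0`
  set c : P := g * (h : P)⁻¹ with hc
  have hcx : c * x0 = x0 * c := by
    have : x0 = c⁻¹ * x0 * c := by
      rw [hc]
      have h3 : (g * (h : P)⁻¹)⁻¹ * x0 * (g * (h : P)⁻¹) = (h : P) * (g⁻¹ * x0 * g) * (h : P)⁻¹ := by
        group
      rw [h3, hh']
    calc c * x0 = c * (c⁻¹ * x0 * c) := by rw [← this]
      _ = x0 * c := by group
  -- `c yH c⁻¹ ∈ Ks`
  have hcy : c * yH * c⁻¹ ∈ Ks := by
    rw [← hg, mem_conj_smul]
    have h3 : g⁻¹ * (c * yH * c⁻¹) * g = (h : P)⁻¹ * yH * (h : P) := by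
      rw [hc]; group
    rw [h3]
    exact Hs.mul_mem (Hs.mul_mem (Hs.inv_mem h.2) yH_mem_Hs) h.2
  -- raw contradiction
  obtain ⟨C, hC⟩ := pmk_surjective c
  rw [← hC] at hcx hcy
  have hraw1 : M4.pm ((ofS C).mul xs4) (xs4.mul (ofS C)) := by
    rw [x0, pmk_mul, pmk_mul, ← pm_ofS_iff, ofS_mul, ofS_mul, ofS_xsS] at hcx
    exact hcx
  have hmem := c2_raw (C 0 0) (C 0 1) (C 1 0) (C 1 1)
    (by rw [ofS_eta]; exact ofS_det C) (by rw [ofS_eta]; exact hraw1)
  rw [ofS_eta] at hmem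
  have hno := c5_raw (ofS C) hmem
  rw [pmk_inv, pmk_mul, pmk_mul] at hcy
  change pmk (C * yHS * C⁻¹) ∈ sub pairK at hcy
  rw [mem_sub_iff_raw, ofS_yKS] at hcy
  obtain ⟨ω, hω⟩ := hcy
  apply hno ω
  rw [ofS_mul, ofS_mul, ofS_inv, ofS_yHS] at hω
  have h2 : ((ofS C).mul yH4).mul (ofS C).adj = (ofS C).mul (yH4.mul (ofS C).adj) := by
    simp only [M4.mul, M4.mk.injEq]
    refine ⟨?_, ?_, ?_, ?_⟩ <;> ring
  rw [h2] at hω
  exact hω

end Cfsg.Agent.Helper4.PSL11
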