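import Mathlib
import Cfsg.Agent.Helper4.PSL11Main
import Cfsg.Agent.Helper4.ConjClassCount
import Cfsg.Agent.Helper8.PSL211
import Cfsg.Agent.Helper7.SLTransfer

/-!
# The 22 subgroups `A₅` of `PSL₂(11)`: final count
-/

set_option autoImplicit false

namespace Cfsg.Agent.Helper4.PSL11

open Matrix Cfsg.Agent.S3377 Cfsg.Agent.Helper3.CosetCert Cfsg.Agent.Helper8.SL2C
open Cfsg.Agent.Helper4.A5Pair Cfsg.Agent.Helper4.ConjClassCount
open scoped Pointwise

theorem index_Hs : Hs.index = 11 := by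
  have h := Subgroup.card_mul_index Hs
  rw [card_Hs, Cfsg.Agent.Helper8.PSL211.card_P] at h
  omega

theorem index_Ks : Ks.index = 11 := by
  have h := Subgroup.card_mul_index Ks
  rw [card_Ks, Cfsg.Agent.Helper8.PSL211.card_P] at h
  omega

theorem g1_conj_not_mem_Hs : pmk g1S * x0 * (pmk g1S)⁻¹ ∉ Hs := by
  intro h
  rw [x0, pmk_inv, pmk_mul, pmk_mul] at h
  change pmk (g1S * xsS * g1S⁻¹) ∈ sub pairH at h
  rw [mem_sub_iff_raw, ofS_yHS] at h
  obtain ⟨ω, hω⟩ := h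
  apply c6_raw.2.1 ω
  rw [ofS_mul, ofS_mul, ofS_inv, ofS_g1S, ofS_xsS] at hω
  have h2 : (g14.mul xs4).mul g14.adj = g14.mul (xs4.mul g14.adj) := by
    simp only [M4.mul, M4.mk.injEq]
    refine ⟨?_, ?_, ?_, ?_⟩ <;> ring
  rw [h2] at hω
  exact hω

theorem g1_conj_not_mem_Ks : pmk g1S * x0 * (pmk g1S)⁻¹ ∉ Ks := by
  intro h
  rw [x0, pmk_inv, pmk_mul, pmk_mul] at h
  change pmk (g1S * xsS * g1S⁻¹) ∈ sub pairK at h
  rw [mem_sub_iff_raw, ofS_yKS] at h
  obtain ⟨ω, hω⟩ := h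
  apply c6_raw.2.2 ω
  rw [ofS_mul, ofS_mul, ofS_inv, ofS_g1S, ofS_xsS] at hω
  have h2 : (g14.mul xs4).mul g14.adj = g14.mul (xs4.mul g14.adj) := by
    simp only [M4.mul, M4.mk.injEq]
    refine ⟨?_, ?_, ?_, ?_⟩ <;> ring
  rw [h2] at hω
  exact hω

theorem Hs_moved : MulAut.conj (pmk g1S) • Hs ≠ Hs := by
  intro h
  apply g1_conj_not_mem_Hs
  have := conj_mem_conj_smul (pmk g1S) Hs x0_mem_Hs
  rwa [h] at this

theorem Ks_moved : MulAut.conj (pmk g1S) • Ks ≠ Ks := by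
  intro h
  apply g1_conj_not_mem_Ks
  have := conj_mem_conj_smul (pmk g1S) Ks x0_mem_Ks
  rwa [h] at this

theorem ncard_cls_Hs : (cls Hs).ncard = 11 :=
  ncard_cls Hs (by norm_num) index_Hs (pmk g1S) Hs_moved

theorem ncard_cls_Ks : (cls Ks).ncard = 11 :=
  ncard_cls Ks (by norm_num) index_Ks (pmk g1S) Ks_moved

theorem Hs_iso : Nonempty (Hs ≃* alternatingGroup (Fin 5)) := sub_equiv pairH
theorem Ks_iso : Nonempty (Ks ≃* alternatingGroup (Fin 5)) := sub_equiv pairK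

instance : Finite P := Nat.finite_of_card_ne_zero (by rw [Cfsg.Agent.Helper8.PSL211.card_P]; norm_num)

theorem main_P :
    Nat.card {H : Subgroup P // Nonempty (H ≃* alternatingGroup (Fin 5))} = 22 ∧
      ∃ H K : Subgroup P, Nonempty (H ≃* alternatingGroup (Fin 5)) ∧
        Nonempty (K ≃* alternatingGroup (Fin 5)) ∧
        (∀ g : P, MulAut.conj g • H ≠ K) ∧
        ∀ L : Subgroup P, Nonempty (L ≃* alternatingGroup (Fin 5)) →
          ∃ g : P, MulAut.conj g • L = H ∨ MulAut.conj g • L = K := by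
  refine ⟨?_, Hs, Ks, Hs_iso, Ks_iso, not_conj, conj_to_HK⟩
  rw [card_two_classes (fun L : Subgroup P => Nonempty (L ≃* alternatingGroup (Fin 5))) Hs Ks
    ?_ Hs_iso Ks_iso not_conj conj_to_HK, ncard_cls_Hs, ncard_cls_Ks]
  rintro g L ⟨f⟩
  exact ⟨(Subgroup.equivSMul (MulAut.conj g) L).symm.trans f⟩

theorem main {F : Type*} [Field F] [Fintype F] (hF : Fintype.card F = 11) :
    Nat.card {H : Subgroup (Matrix.ProjectiveSpecialLinearGroup (Fin 2) F) //
        Nonempty (H ≃* alternatingGroup (Fin 5))} = 22 ∧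
      ∃ H K : Subgroup (Matrix.ProjectiveSpecialLinearGroup (Fin 2) F),
        Nonempty (H ≃* alternatingGroup (Fin 5)) ∧
        Nonempty (K ≃* alternatingGroup (Fin 5)) ∧
        (∀ g : Matrix.ProjectiveSpecialLinearGroup (Fin 2) F, MulAut.conj g • H ≠ K) ∧
        ∀ L : Subgroup (Matrix.ProjectiveSpecialLinearGroup (Fin 2) F),
          Nonempty (L ≃* alternatingGroup (Fin 5)) →
          ∃ g : Matrix.ProjectiveSpecialLinearGroup (Fin 2) F,
            MulAut.conj g • L = H ∨ MulAut.conj g • L = K := by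
  have hp : Nat.Prime 11 := by norm_num
  have φ : F ≃+* ZMod 11 := (ZMod.ringEquivOfPrime F hp hF).symm
  let e : Matrix.ProjectiveSpecialLinearGroup (Fin 2) F ≃* P :=
    Cfsg.Agent.Helper7.SLTransfer.pslEquiv φ
  exact transport e 22 main_P

end Cfsg.Agent.Helper4.PSL11
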