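import Mathlib
import Cfsg.Agent.S3993
import Cfsg.Agent.Helper4.SylowBasic

/-!
# A Sylow subgroup centralized by every `p'`-element up to conjugacy is a central factor

If every `p'`-element of the finite group `H` centralizes some Sylow `p`-subgroup, then
`H = P C_H(P)` (counting with Frobenius' theorem on the number of solutions of `x ^ m = 1`).
-/

set_option autoImplicit false

namespace Cfsg.Agent.Helper4.PSing

variable {H : Type*} [Group H] [Finite H]

theorem exists_mul_centralizer_of_pregular (p : ℕ) [hp : Fact p.Prime] (P : Sylow p H)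
    (hyp : ∀ w : H, (orderOf w).Coprime p →
      ∃ P' : Sylow p H, w ∈ Subgroup.centralizer ((P' : Subgroup H) : Set H)) :
    ∀ h : H, ∃ u ∈ (P : Subgroup H),
      ∃ c ∈ Subgroup.centralizer ((P : Subgroup H) : Set H), h = u * c := by
  classical
  have : Fintype H := Fintype.ofFinite H
  have : Fintype (Sylow p H) := Fintype.ofFinite _
  set m := (P : Subgroup H).index with hm
  have hcardH : Nat.card (P : Subgroup H) * m = Nat.card H := Subgroup.card_mul_index _
  obtain ⟨a, ha⟩ := IsPGroup.iff_card.1 P.2
  have hmp : m.Coprime p := by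
    have := P.not_dvd_index
    exact ((Nat.Prime.coprime_iff_not_dvd hp.out).2 this).symm
  -- the p'-elements
  set R' : Finset H := Finset.univ.filter (fun w => (orderOf w).Coprime p) with hR'
  set K' : Sylow p H → Finset H := fun P' =>
    Finset.univ.filter (fun w => (orderOf w).Coprime p ∧
      w ∈ Subgroup.centralizer ((P' : Subgroup H) : Set H)) with hK'
  have hone : ∀ P' : Sylow p H, (1 : H) ∈ K' P' := by
    intro P'
    simp [hK']
  -- (1) Frobenius
  have h1 : m ≤ R'.card := by
    have hdvd : m ∣ Nat.card H := Dvd.intro_left _ hcardH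
    have hF := Cfsg.Agent.S3993.result (G := H) m hdvd
    have hcard : Nat.card {g : H // g ^ m = 1} = R'.card := by
      apply Nat.subtype_card
      intro x
      simp only [hR', Finset.mem_filter, Finset.mem_univ, true_and]
      constructor
      · intro hx
        have hd : orderOf x ∣ Nat.card H := orderOf_dvd_natCard x
        rw [← hcardH, ha] at hd
        have : orderOf x ∣ m := (Nat.Coprime.pow_right a hx).dvd_of_dvd_mul_left hd
        exact orderOf_dvd_iff_pow_eq_one.1 this
      · intro hx
        exact Nat.Coprime.coprime_dvd_left (orderOf_dvd_of_pow_eq_one hx) hmp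
    rw [hcard] at hF
    have hpos : 0 < R'.card := Finset.card_pos.2 ⟨1, by simp [hR']⟩
    exact Nat.le_of_dvd hpos hF
  -- (2) the union bound
  have hKle : ∀ P' : Sylow p H, (K' P').card ≤ (K' P).card := by
    intro P'
    obtain ⟨g, hg⟩ := MulAction.exists_smul_eq H P' P
    apply Finset.card_le_card_of_injOn (fun w => g * w * g⁻¹)
    · intro w hw
      simp only [hK', Finset.coe_filter, Finset.mem_univ, true_and, Set.mem_ofPred_eq] at hw ⊢
      refine ⟨?_, ?_⟩
      · have : orderOf (g * w * g⁻¹) = orderOf w := by
          have := (MulAut.conj g).orderOf_eq w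
          rwa [MulAut.conj_apply] at this
        rw [this]; exact hw.1
      · rw [Subgroup.mem_centralizer_iff]
        intro y hy
        have hy' : y ∈ g • P' := by rw [hg]; exact hy
        rw [Cfsg.Agent.Helper4.mem_sylow_smul_iff] at hy'
        have h2 := (Subgroup.mem_centralizer_iff.1 hw.2) _ hy'
        calc y * (g * w * g⁻¹) = g * ((g⁻¹ * y * g) * w) * g⁻¹ := by group
          _ = g * (w * (g⁻¹ * y * g)) * g⁻¹ := by rw [h2]
          _ = g * w * g⁻¹ * y := by group
    · intro w _ w' _ hww
      simpa using hww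
  have h2 : R'.card - 1 ≤ Nat.card (Sylow p H) * ((K' P).card - 1) := by
    have hsub : R'.erase 1 ⊆ Finset.univ.biUnion (fun P' : Sylow p H => (K' P').erase 1) := by
      intro w hw
      rw [Finset.mem_erase] at hw
      have hw2 : (orderOf w).Coprime p := by
        have := hw.2
        simpa [hR'] using this
      obtain ⟨P', hP'⟩ := hyp w hw2
      rw [Finset.mem_biUnion]
      refine ⟨P', Finset.mem_univ _, ?_⟩
      rw [Finset.mem_erase]
      refine ⟨hw.1, ?_⟩
      simp only [hK', Finset.mem_filter, Finset.mem_univ, true_and]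
      exact ⟨hw2, hP'⟩
    have hR1 : (1 : H) ∈ R' := by simp [hR']
    calc R'.card - 1 = (R'.erase 1).card := (Finset.card_erase_of_mem hR1).symm
      _ ≤ (Finset.univ.biUnion (fun P' : Sylow p H => (K' P').erase 1)).card :=
        Finset.card_le_card hsub
      _ ≤ ∑ P' : Sylow p H, ((K' P').erase 1).card := Finset.card_biUnion_le
      _ ≤ ∑ _P' : Sylow p H, ((K' P).card - 1) := by
        apply Finset.sum_le_sum
        intro P' _
        rw [Finset.card_erase_of_mem (hone P')]
        exact Nat.sub_le_sub_right (hKle P') 1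
      _ = Nat.card (Sylow p H) * ((K' P).card - 1) := by
        rw [Finset.sum_const, smul_eq_mul, Finset.card_univ, Nat.card_eq_fintype_card]
  -- (3) the injection `P × K' → N_H(P)`
  set f : ↥(P : Subgroup H) × {w : H // w ∈ K' P} → H := fun x => (x.1 : H) * (x.2 : H) with hf
  have hfinj : Function.Injective f := by
    rintro ⟨u, w, hw⟩ ⟨u', w', hw'⟩ hx
    simp only [hf] at hx
    simp only [hK', Finset.mem_filter, Finset.mem_univ, true_and] at hw hw'
    -- ζ = u'⁻¹ u = w' w⁻¹
    set ζ : H := (u' : H)⁻¹ * (u : H) with hζ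
    have hζP : ζ ∈ (P : Subgroup H) := Subgroup.mul_mem _ (Subgroup.inv_mem _ u'.2) u.2
    have hw'eq : w' = ζ * w := by
      have : (u' : H) * w' = (u : H) * w := hx.symm
      calc w' = (u' : H)⁻¹ * ((u' : H) * w') := by group
        _ = (u' : H)⁻¹ * ((u : H) * w) := by rw [this]
        _ = ζ * w := by rw [hζ]; group
    have hcomm : Commute ζ w := ((Subgroup.mem_centralizer_iff.1 hw.2) ζ hζP)
    -- orders
    obtain ⟨e, he⟩ := (IsPGroup.iff_orderOf.1 P.2) ⟨ζ, hζP⟩
    have he' : orderOf ζ = p ^ e := by
      rw [← he]; exact (Subgroup.orderOf_mk ζ hζP).symm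
    have hcop : (orderOf ζ).Coprime (orderOf w) := by
      rw [he']; exact (Nat.Coprime.pow_left e hw.1.symm)
    have hord : orderOf w' = orderOf ζ * orderOf w := by
      rw [hw'eq]; exact hcomm.orderOf_mul_eq_mul_orderOf_of_coprime hcop
    have hζ1 : orderOf ζ = 1 := by
      have h3 : (orderOf ζ).Coprime p := by
        have := hw'.1
        rw [hord] at this
        exact Nat.Coprime.coprime_mul_right this
      rw [he'] at h3 ⊢
      rcases Nat.eq_zero_or_pos e with h0 | hpos
      · rw [h0, pow_zero]
      · exfalso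
        have : p ∣ p ^ e := dvd_pow_self p hpos.ne'
        have h4 := Nat.Coprime.eq_one_of_dvd h3.symm this
        exact hp.out.one_lt.ne' h4
    have hζe : ζ = 1 := orderOf_eq_one_iff.1 hζ1
    have huu : (u : H) = u' := by
      have : (u' : H)⁻¹ * (u : H) = 1 := hζe
      exact (inv_mul_eq_one.1 this).symm
    have hww : w' = w := by rw [hw'eq, hζe, one_mul]
    ext
    · exact huu
    · exact hww.symm
  have hfN : ∀ x, f x ∈ Subgroup.normalizer ((P : Subgroup H) : Set H) := by
    rintro ⟨u, w, hw⟩
    simp only [hK', Finset.mem_filter, Finset.mem_univ, true_and] at hw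
    exact Subgroup.mul_mem _ (Subgroup.le_normalizer u.2)
      (Subgroup.centralizer_le_normalizer _ hw.2)
  have hcardf : Nat.card (↥(P : Subgroup H) × {w : H // w ∈ K' P}) =
      Nat.card (P : Subgroup H) * (K' P).card := by
    rw [Nat.card_prod]
    congr 1
    rw [Nat.card_eq_fintype_card, Fintype.card_coe]
  have h3 : Nat.card (P : Subgroup H) * (K' P).card ≤
      Nat.card (Subgroup.normalizer ((P : Subgroup H) : Set H)) := by
    rw [← hcardf]
    apply Nat.card_le_card_of_injective
      (fun x => (⟨f x, hfN x⟩ : Subgroup.normalizer ((P : Subgroup H) : Set H)))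
    intro x y hxy
    exact hfinj (congrArg Subtype.val hxy)
  -- (4) arithmetic
  have hnp : Nat.card (Sylow p H) * Nat.card (Subgroup.normalizer ((P : Subgroup H) : Set H)) =
      Nat.card H := by
    rw [Sylow.card_eq_index_normalizer P, mul_comm]
    exact Subgroup.card_mul_index _
  set n := Nat.card (Sylow p H) with hn
  set N := Nat.card (Subgroup.normalizer ((P : Subgroup H) : Set H)) with hN
  set A := Nat.card (P : Subgroup H) with hA
  obtain ⟨k, hk⟩ : ∃ k, (K' P).card = k + 1 := by
    have : 0 < (K' P).card := Finset.card_pos.2 ⟨1, hone P⟩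
    exact ⟨(K' P).card - 1, by omega⟩
  rw [hk] at h2 h3
  have hApos : 0 < A := Nat.card_pos
  have hnpos : 0 < n := Nat.card_pos
  have h5 : n * (k + 1) ≤ m := by
    have : A * (n * (k + 1)) ≤ A * m := by
      calc A * (n * (k + 1)) = n * (A * (k + 1)) := by ring
        _ ≤ n * N := Nat.mul_le_mul_left _ h3
        _ = A * m := by rw [hnp, hcardH]
    exact Nat.le_of_mul_le_mul_left this hApos
  have h6 : m ≤ n * k + 1 := by
    have : R'.card ≤ n * k + 1 := by
      have := h2
      simp only [Nat.add_sub_cancel] at this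
      omega
    exact h1.trans this
  have hn1 : n = 1 := by nlinarith
  have hmk : m = k + 1 := by
    rw [hn1] at h5 h6
    omega
  -- surjectivity
  have hbij : Function.Bijective f := by
    rw [Nat.bijective_iff_injective_and_card]
    refine ⟨hfinj, ?_⟩
    rw [hcardf, hk, ← hmk, hcardH]
  intro h
  obtain ⟨⟨u, w, hw⟩, hx⟩ := hbij.2 h
  simp only [hK', Finset.mem_filter, Finset.mem_univ, true_and] at hw
  exact ⟨u, u.2, w, hw.2, hx.symm⟩

end Cfsg.Agent.Helper4.PSing
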