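import Mathlib
import Cfsg.Agent.Helper4.PSingA
import Cfsg.Agent.Helper4.TwoClassA

/-!
# The relative version: centralizers of `p`-central elements
-/

set_option autoImplicit false

namespace Cfsg.Agent.Helper4.PSing

open Cfsg.Agent.Helper4.TwoClass

variable {G : Type*} [Group G] [Finite G]

/-- If every `p'`-element `w` of `C(z)` centralizes a Sylow `p`-subgroup of `G` lying in `C(z)`,
then `C(z) = P C_G(P)` for every Sylow `p`-subgroup `P ≤ C(z)`. -/
theorem centralizer_eq_mul (p : ℕ) [hp : Fact p.Prime] (z : G) (P : Sylow p G)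
    (hP : (P : Subgroup G) ≤ C z)
    (hyp : ∀ w ∈ C z, (orderOf w).Coprime p →
      ∃ P' : Sylow p G, (P' : Subgroup G) ≤ C z ⊓ C w) :
    ∀ h ∈ C z, ∃ u ∈ (P : Subgroup G),
      ∃ c ∈ Subgroup.centralizer ((P : Subgroup G) : Set G), h = u * c := by
  have key := exists_mul_centralizer_of_pregular (H := ↥(C z)) p (P.subtype hP) (by
    intro w hw
    rw [← Subgroup.orderOf_coe] at hw
    obtain ⟨P', hP'⟩ := hyp (w : G) w.2 hw
    refine ⟨P'.subtype (hP'.trans inf_le_left), ?_⟩
    rw [Subgroup.mem_centralizer_iff]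
    intro y hy
    rw [SetLike.mem_coe, Sylow.coe_subtype, Subgroup.mem_subgroupOf] at hy
    have h1 := (hP'.trans inf_le_right) hy
    rw [mem_C] at h1
    exact Subtype.ext h1)
  intro h hh
  obtain ⟨u, hu, c, hc, hhuc⟩ := key ⟨h, hh⟩
  rw [Sylow.coe_subtype, Subgroup.mem_subgroupOf] at hu
  refine ⟨(u : G), hu, (c : G), ?_, congrArg Subtype.val hhuc⟩
  rw [Subgroup.mem_centralizer_iff]
  intro y hy
  rw [Subgroup.mem_centralizer_iff] at hc
  have hy' : (⟨y, hP hy⟩ : ↥(C z)) ∈
      (((P.subtype hP : Sylow p ↥(C z)) : Subgroup ↥(C z)) : Set ↥(C z)) := by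
    rw [SetLike.mem_coe, Sylow.coe_subtype, Subgroup.mem_subgroupOf]
    exact hy
  exact congrArg Subtype.val (hc _ hy')

end Cfsg.Agent.Helper4.PSing
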