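import Mathlib
import Cfsg.Agent.Helper4.PSingB
import Cfsg.Agent.Helper4.TwoClassA
import Cfsg.Agent.Helper4.TwoClassB

/-!
# The `p`-singular class-size graph: the configuration with a `p`-central `p`-element far from `p`

Context `Ctx`: `P` is a Sylow `p`-subgroup centralizing the nontrivial `p`-element `z`, the class
size of `z` divides `n`, and no `p`-singular element has class size divisible both by `p` and by a
prime divisor of `n`.  We show that `P` is normal.
-/

set_option autoImplicit false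

namespace Cfsg.Agent.Helper4.PSing

open Cfsg.Agent.Helper4.TwoClass

variable {G : Type*} [Group G]

/-- the context -/
structure Ctx (G : Type*) [Group G] (p : ℕ) (n : ℕ) (P : Sylow p G) (z : G) : Prop where
  hZ : ¬ p ∣ Nat.card (Subgroup.center G)
  sp : ∀ t : ℕ, t.Prime → t ∣ n → ∀ g : G, p ∣ orderOf g → p ∣ cs g → t ∣ cs g → False
  hzord : ∃ l : ℕ, l ≠ 0 ∧ orderOf z = p ^ l
  hPz : (P : Subgroup G) ≤ C z
  hzn : cs z ∣ n

/-- A nontrivial `p`-element is not central when `p ∤ |Z(G)|`. -/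
theorem not_mem_center_of_pelement [Finite G] {p : ℕ} (hZ : ¬ p ∣ Nat.card (Subgroup.center G))
    {x : G} {l : ℕ} (hl : l ≠ 0) (hx : orderOf x = p ^ l) : x ∉ Subgroup.center G := by
  intro hmem
  apply hZ
  have h1 : orderOf (⟨x, hmem⟩ : Subgroup.center G) ∣ Nat.card (Subgroup.center G) :=
    orderOf_dvd_natCard _
  rw [Subgroup.orderOf_mk, hx] at h1
  exact (dvd_pow_self p hl).trans h1

theorem one_lt_cs_of_not_mem_center [Finite G] {x : G} (hx : x ∉ Subgroup.center G) :
    1 < cs x := by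
  have h1 : cs x ≠ 1 := fun h => hx ((cs_eq_one_iff x).1 h)
  have h0 := cs_pos x
  omega

theorem dvd_orderOf_of_pelement {p : ℕ} {x : G} {l : ℕ} (hl : l ≠ 0) (hx : orderOf x = p ^ l) :
    p ∣ orderOf x := by
  rw [hx]; exact dvd_pow_self p hl

variable [Finite G] {p : ℕ} [hp : Fact p.Prime] {n : ℕ} {P : Sylow p G} {z : G}

namespace Ctx

theorem not_dvd_cs_z (h : Ctx G p n P z) : ¬ p ∣ cs z :=
  not_dvd_index_of_sylow_le p (C z) P h.hPz

/-- Step 2: the centralizer of a `p`-central `p`-element with class size involving only primes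
dividing `n` is `P C_G(P)`. -/
theorem cent_eq (h : Ctx G p n P z) (ζ : G) (hζord : ∃ l : ℕ, l ≠ 0 ∧ orderOf ζ = p ^ l)
    (hPζ : (P : Subgroup G) ≤ C ζ) (hζn : ∀ t : ℕ, t.Prime → t ∣ cs ζ → t ∣ n) :
    ∀ x ∈ C ζ, ∃ u ∈ (P : Subgroup G),
      ∃ c ∈ Subgroup.centralizer ((P : Subgroup G) : Set G), x = u * c := by
  obtain ⟨l, hl, hζl⟩ := hζord
  have hζnc : ζ ∉ Subgroup.center G := not_mem_center_of_pelement h.hZ hl hζl
  have h1 := one_lt_cs_of_not_mem_center hζnc
  obtain ⟨t, ht, htζ⟩ := Nat.exists_prime_and_dvd h1.ne'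
  apply centralizer_eq_mul p ζ P hPζ
  intro w hw hwcop
  rw [mem_C] at hw
  have hcomm : Commute ζ w := hw.symm
  have hcop : (orderOf ζ).Coprime (orderOf w) := by
    rw [hζl]; exact Nat.Coprime.pow_left l hwcop.symm
  have hC : C (ζ * w) = C ζ ⊓ C w := C_mul_of_coprime hcomm hcop
  have hord : p ∣ orderOf (ζ * w) := by
    rw [hcomm.orderOf_mul_eq_mul_orderOf_of_coprime hcop, hζl]
    exact (dvd_pow_self p hl).mul_right _
  have hnp : ¬ p ∣ (C ζ ⊓ C w).index := by
    intro hd
    rw [← hC] at hd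
    apply h.sp t ht (hζn t ht htζ) (ζ * w) hord hd
    have : C (ζ * w) ≤ C ζ := by rw [hC]; exact inf_le_left
    exact htζ.trans (Subgroup.index_dvd_of_le this)
  exact exists_sylow_le_of_not_dvd_index p _ hnp

/-- `C(z) = P C_G(P)` -/
theorem cent_z (h : Ctx G p n P z) : ∀ x ∈ C z, ∃ u ∈ (P : Subgroup G),
    ∃ c ∈ Subgroup.centralizer ((P : Subgroup G) : Set G), x = u * c :=
  h.cent_eq z h.hzord h.hPz (fun _ _ htz => htz.trans h.hzn)

/-- elements of `C(z)` of order prime to `p` centralize `P` -/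
theorem mem_centralizer_of_coprime (h : Ctx G p n P z) {x : G} (hx : x ∈ C z)
    (hxo : (orderOf x).Coprime p) : x ∈ Subgroup.centralizer ((P : Subgroup G) : Set G) := by
  obtain ⟨u, hu, c, hc, rfl⟩ := h.cent_z x hx
  have hcomm : Commute u c := (Subgroup.mem_centralizer_iff.1 hc u hu)
  -- u is a power of (u*c)^e ... : u = (u^e)^s
  obtain ⟨i, hi⟩ := (IsPGroup.iff_orderOf.1 P.2) ⟨u, hu⟩
  have hi' : orderOf u = p ^ i := by rw [← hi]; exact (Subgroup.orderOf_mk u hu).symm
  set e := orderOf (u * c) with he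
  have h1 : u ^ e * c ^ e = 1 := by rw [← hcomm.mul_pow, he, pow_orderOf_eq_one]
  have hcopo : (orderOf u).Coprime e := by rw [hi']; exact Nat.Coprime.pow_left i hxo.symm
  obtain ⟨s, hs⟩ := exists_pow_eq_self_of_coprime (x := u) hcopo.symm
  have hue : u ^ e ∈ Subgroup.centralizer ((P : Subgroup G) : Set G) := by
    have : u ^ e = (c ^ e)⁻¹ := eq_inv_of_mul_eq_one_left h1
    rw [this]
    exact Subgroup.inv_mem _ (Subgroup.pow_mem _ hc e)
  have hu' : u ∈ Subgroup.centralizer ((P : Subgroup G) : Set G) := by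
    rw [← hs]; exact Subgroup.pow_mem _ hue s
  exact Subgroup.mul_mem _ hu' hc

/-- Step 3: the primes dividing the class size of an element of `P` are `p` or divide `|z^G|`. -/
theorem prime_dvd_cs (h : Ctx G p n P z) {v : G} (hv : v ∈ (P : Subgroup G)) {t : ℕ}
    (ht : t.Prime) (htv : t ∣ cs v) : t = p ∨ t ∣ cs z := by
  by_contra hcon
  rw [not_or] at hcon
  obtain ⟨htp, htz⟩ := hcon
  have : Fact t.Prime := ⟨ht⟩
  obtain ⟨T, hT⟩ := exists_sylow_le_of_not_dvd_index t (C z) htz
  have hTC : (T : Subgroup G) ≤ C v := by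
    intro x hx
    have hxo : (orderOf x).Coprime p := by
      obtain ⟨j, hj⟩ := (IsPGroup.iff_orderOf.1 T.2) ⟨x, hx⟩
      have hj' : orderOf x = t ^ j := by rw [← hj]; exact (Subgroup.orderOf_mk x hx).symm
      rw [hj']
      exact Nat.Coprime.pow_left j ((Nat.coprime_primes ht hp.out).2 htp)
    have := h.mem_centralizer_of_coprime (hT hx) hxo
    rw [mem_C]
    exact (Subgroup.mem_centralizer_iff.1 this v hv).symm
  exact not_dvd_index_of_sylow_le t (C v) T hTC htv

/-- a `p`-singular element of `P` whose class size is divisible by `p` has class size a power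
of `p`, in particular coprime to `|z^G|` -/
theorem coprime_cs_of_dvd (h : Ctx G p n P z) {v : G} (hv : v ∈ (P : Subgroup G))
    (hv1 : p ∣ orderOf v) (hpv : p ∣ cs v) : (cs v).Coprime (cs z) := by
  apply Nat.coprime_of_dvd
  intro t ht htv htz
  rcases h.prime_dvd_cs hv ht htv with rfl | _
  · exact h.not_dvd_cs_z htz
  · exact h.sp t ht (htz.trans h.hzn) v hv1 hpv htv

omit [Finite G] hp in
/-- `C_G(P) ≤ C(v)` for `v ∈ P` -/
theorem centralizer_le_C {v : G} (hv : v ∈ (P : Subgroup G)) :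
    Subgroup.centralizer ((P : Subgroup G) : Set G) ≤ C v := by
  intro c hc
  rw [mem_C]
  exact (Subgroup.mem_centralizer_iff.1 hc v hv).symm

/-- `C(z) ≤ N_G(P)` -/
theorem C_z_le_normalizer (h : Ctx G p n P z) :
    C z ≤ Subgroup.normalizer ((P : Subgroup G) : Set G) := by
  intro x hx
  obtain ⟨u, hu, c, hc, rfl⟩ := h.cent_z x hx
  exact Subgroup.mul_mem _ (Subgroup.le_normalizer hu) (Subgroup.centralizer_le_normalizer _ hc)

/-- `G = P C(v)` when the class sizes of `v ∈ P` and `z` are coprime -/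
theorem exists_mul_C (h : Ctx G p n P z) {v : G} (hv : v ∈ (P : Subgroup G))
    (hcop : (cs v).Coprime (cs z)) (g : G) :
    ∃ u ∈ (P : Subgroup G), ∃ c ∈ C v, g = u * c := by
  obtain ⟨d, hd, c, hc, rfl⟩ := exists_mul_of_coprime z v hcop.symm g
  obtain ⟨u, hu, c0, hc0, rfl⟩ := h.cent_z d hd
  exact ⟨u, hu, c0 * c, Subgroup.mul_mem _ (centralizer_le_C hv hc0) hc, by group⟩

/-- Step 4: conjugates stay in `P` -/
theorem conj_mem (h : Ctx G p n P z) {v : G} (hv : v ∈ (P : Subgroup G))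
    (hcop : (cs v).Coprime (cs z)) (g : G) : g * v * g⁻¹ ∈ (P : Subgroup G) := by
  obtain ⟨u, hu, c, hc, rfl⟩ := h.exists_mul_C hv hcop g
  rw [mem_C] at hc
  have : u * c * v * (u * c)⁻¹ = u * v * u⁻¹ := by
    calc u * c * v * (u * c)⁻¹ = u * (c * v) * c⁻¹ * u⁻¹ := by group
      _ = u * (v * c) * c⁻¹ * u⁻¹ := by rw [hc]
      _ = u * v * u⁻¹ := by group
  rw [this]
  exact Subgroup.mul_mem _ (Subgroup.mul_mem _ hu hv) (Subgroup.inv_mem _ hu)

/-- Step 5a: elements of `P` with `p'`-class size commute with those whose class size is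
coprime to `|z^G|`. -/
theorem commute_of_not_dvd (h : Ctx G p n P z) {v y : G} (hv : v ∈ (P : Subgroup G))
    (hy : y ∈ (P : Subgroup G)) (hpv : ¬ p ∣ cs v) (hcop : (cs y).Coprime (cs z)) :
    Commute v y := by
  obtain ⟨P', hP'⟩ := exists_sylow_le_of_not_dvd_index p (C v) hpv
  obtain ⟨g, hg⟩ := MulAction.exists_smul_eq G P P'
  -- g⁻¹ y' g ∈ P for y' ∈ P' ; we want y ∈ P'
  have hyP' : y ∈ (P' : Subgroup G) := by
    rw [← hg]
    show y ∈ g • P
    rw [Cfsg.Agent.Helper4.mem_sylow_smul_iff]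
    have := h.conj_mem hy hcop g⁻¹
    rw [inv_inv] at this
    exact this
  have := hP' hyP'
  rw [mem_C] at this
  exact this.symm

/-- Step 5: `P` is normal. -/
theorem normal (h : Ctx G p n P z) (y : G) (hy : y ∈ (P : Subgroup G)) (hy1 : p ∣ orderOf y)
    (hpy : p ∣ cs y) : (P : Subgroup G).Normal := by
  -- the set of elements of P whose class size is divisible by p
  set Pp : Set G := {v | v ∈ (P : Subgroup G) ∧ p ∣ cs v} with hPp
  have hPp1 : ∀ v ∈ Pp, p ∣ orderOf v := by
    intro v hv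
    by_contra hcon
    obtain ⟨i, hi⟩ := (IsPGroup.iff_orderOf.1 P.2) ⟨v, hv.1⟩
    have hi' : orderOf v = p ^ i := by rw [← hi]; exact (Subgroup.orderOf_mk v hv.1).symm
    have hi0 : i = 0 := by
      by_contra h0
      exact hcon (hi' ▸ dvd_pow_self p h0)
    rw [hi0, pow_zero, orderOf_eq_one_iff] at hi'
    have h1 : cs v = 1 := by rw [hi', cs_eq_one_iff]; exact Subgroup.one_mem _
    have := hv.2
    rw [h1] at this
    exact hp.out.one_lt.ne' (Nat.dvd_one.1 this)
  have hPpcop : ∀ v ∈ Pp, (cs v).Coprime (cs z) := fun v hv =>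
    h.coprime_cs_of_dvd hv.1 (hPp1 v hv) hv.2
  -- Q = elements of P commuting with Pp
  set Q : Subgroup G := (P : Subgroup G) ⊓ Subgroup.centralizer Pp with hQ
  have hE : ∀ v ∈ (P : Subgroup G), ¬ p ∣ cs v → v ∈ Q := by
    intro v hv hpv
    refine Subgroup.mem_inf.2 ⟨hv, ?_⟩
    rw [Subgroup.mem_centralizer_iff]
    intro w hw
    exact ((h.commute_of_not_dvd hv hw.1 hpv (hPpcop w hw)).eq).symm
  -- some element of P is not in Q
  obtain ⟨v0, hv0P, hv0Q⟩ : ∃ v0 ∈ (P : Subgroup G), v0 ∉ Q := by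
    by_contra hcon
    push Not at hcon
    -- then y commutes with all of P
    have hPy : (P : Subgroup G) ≤ C y := by
      intro x hx
      have hxQ := hcon x hx
      rw [hQ, Subgroup.mem_inf, Subgroup.mem_centralizer_iff] at hxQ
      rw [mem_C]
      exact (hxQ.2 y ⟨hy, hpy⟩).symm
    exact not_dvd_index_of_sylow_le p (C y) P hPy hpy
  have hv0Pp : v0 ∈ Pp := by
    refine ⟨hv0P, ?_⟩
    by_contra hcon
    exact hv0Q (hE v0 hv0P hcon)
  -- P ≤ closure Pp
  have hgen : (P : Subgroup G) ≤ Subgroup.closure Pp := by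
    intro x hx
    by_cases hxp : p ∣ cs x
    · exact Subgroup.subset_closure ⟨hx, hxp⟩
    · have hxQ := hE x hx hxp
      have hxv : x * v0 ∈ Pp := by
        refine ⟨Subgroup.mul_mem _ hx hv0P, ?_⟩
        by_contra hcon
        have h1 := hE (x * v0) (Subgroup.mul_mem _ hx hv0P) hcon
        apply hv0Q
        have : v0 = x⁻¹ * (x * v0) := by group
        rw [this]
        exact Subgroup.mul_mem _ (Subgroup.inv_mem _ hxQ) h1
      have : x = (x * v0) * v0⁻¹ := by group
      rw [this]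
      exact Subgroup.mul_mem _ (Subgroup.subset_closure hxv)
        (Subgroup.inv_mem _ (Subgroup.subset_closure hv0Pp))
  have hconj : ∀ g : G, ∀ x ∈ Subgroup.closure Pp, g * x * g⁻¹ ∈ (P : Subgroup G) := by
    intro g x hx
    induction hx using Subgroup.closure_induction with
    | mem v hv => exact h.conj_mem hv.1 (hPpcop v hv) g
    | one => simp
    | mul a b _ _ ha hb =>
      have : g * (a * b) * g⁻¹ = (g * a * g⁻¹) * (g * b * g⁻¹) := by group
      rw [this]
      exact Subgroup.mul_mem _ ha hb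
    | inv a _ ha =>
      have : g * a⁻¹ * g⁻¹ = (g * a * g⁻¹)⁻¹ := by group
      rw [this]
      exact Subgroup.inv_mem _ ha
  constructor
  intro x hx g
  exact hconj g x (hgen hx)

end Ctx

end Cfsg.Agent.Helper4.PSing
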