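import Mathlib
import Cfsg.Agent.Helper4.PSingC
import Cfsg.Agent.Helper4.ConjUnion
import Cfsg.Agent.Helper1.Glauberman

/-!
# The `p`-singular class-size graph: the contradiction in the configuration `Ctx`
-/

set_option autoImplicit false

namespace Cfsg.Agent.Helper4.PSing

open Cfsg.Agent.Helper4.TwoClass

universe u

/-- `G` acting on itself by conjugation: the carrier -/
@[ext] structure CSet (G : Type u) where
  /-- the underlying element -/
  val : G

instance instMulActionCSet (G : Type u) [Group G] : MulAction G (CSet G) where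
  smul g x := ⟨g * x.val * g⁻¹⟩
  one_smul x := by
    apply CSet.ext
    show (1 : G) * x.val * (1 : G)⁻¹ = x.val
    group
  mul_smul g h x := by
    apply CSet.ext
    show g * h * x.val * (g * h)⁻¹ = g * (h * x.val * h⁻¹) * g⁻¹
    group

theorem CSet.smul_val {G : Type u} [Group G] (g : G) (x : CSet G) :
    (g • x).val = g * x.val * g⁻¹ := rfl

/-- A subgroup meeting every conjugacy class (under the big subgroup) of a finite subgroup is
everything. -/
theorem eq_of_forall_conj_mem {G : Type u} [Group G] [Finite G] {P D : Subgroup G} (hDP : D ≤ P)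
    (hconj : ∀ x ∈ P, ∃ k ∈ P, k * x * k⁻¹ ∈ D) : D = P := by
  by_contra hne
  have h1 : D.subgroupOf P ≠ ⊤ := by
    intro h
    apply hne
    apply le_antisymm hDP
    intro x hx
    have : (⟨x, hx⟩ : ↥P) ∈ D.subgroupOf P := by rw [h]; trivial
    exact Subgroup.mem_subgroupOf.1 this
  obtain ⟨g, hg⟩ := Cfsg.Agent.Helper4.exists_not_mem_conj (D.subgroupOf P) h1
  obtain ⟨k, hk, hkD⟩ := hconj (g : G) g.2
  apply hg (⟨k, hk⟩⁻¹ : ↥P)
  rw [Subgroup.mem_subgroupOf]
  simpa using hkD

variable {G : Type u} [Group G] [Finite G] {p : ℕ} [hp : Fact p.Prime] {n : ℕ} {P : Sylow p G}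
  {z : G}

namespace Ctx

/-- Steps 6 and 7. -/
theorem false_of_normal (h : Ctx G p n P z) [hn : (P : Subgroup G).Normal] (y : G)
    (hy : y ∈ (P : Subgroup G)) (hpy : p ∣ cs y) : False := by
  -- uniqueness of the Sylow subgroup
  have huniq : ∀ P' : Sylow p G, P' = P := by
    intro P'
    obtain ⟨g, hg⟩ := MulAction.exists_smul_eq G P P'
    rw [← hg]
    exact Sylow.smul_eq_of_normal
  -- z ∈ P
  obtain ⟨l, hl, hzl⟩ := h.hzord
  have hzP : z ∈ (P : Subgroup G) := by
    have hpg : IsPGroup p (Subgroup.zpowers z) := by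
      apply IsPGroup.of_card (n := l)
      rw [Nat.card_zpowers, hzl]
    obtain ⟨Q, hQ⟩ := hpg.exists_le_sylow
    rw [huniq Q] at hQ
    exact hQ (Subgroup.mem_zpowers z)
  have hznc : z ∉ Subgroup.center G := not_mem_center_of_pelement h.hZ hl hzl
  -- p-central elements of P
  have hcentral : ∀ v : G, ¬ p ∣ cs v → (P : Subgroup G) ≤ C v := by
    intro v hv
    obtain ⟨P', hP'⟩ := exists_sylow_le_of_not_dvd_index p (C v) hv
    rw [huniq P'] at hP'
    exact hP'
  -- elements with p ∣ cs are nontrivial, with class size coprime to that of z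
  have hcop : ∀ v ∈ (P : Subgroup G), p ∣ cs v → (cs v).Coprime (cs z) := by
    intro v hv hpv
    have hv1 : p ∣ orderOf v := by
      by_contra hcon
      obtain ⟨i, hi⟩ := (IsPGroup.iff_orderOf.1 P.2) ⟨v, hv⟩
      have hi' : orderOf v = p ^ i := by rw [← hi]; exact (Subgroup.orderOf_mk v hv).symm
      have hi0 : i = 0 := by
        by_contra h0
        exact hcon (hi' ▸ dvd_pow_self p h0)
      rw [hi0, pow_zero, orderOf_eq_one_iff] at hi'
      have h1 : cs v = 1 := by rw [hi', cs_eq_one_iff]; exact Subgroup.one_mem _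
      rw [h1] at hpv
      exact hp.out.one_lt.ne' (Nat.dvd_one.1 hpv)
    exact h.coprime_cs_of_dvd hv hv1 hpv
  -- a complement
  obtain ⟨H, hH⟩ := Subgroup.exists_right_complement'_of_coprime (Sylow.card_coprime_index P)
  have hHcard : Nat.card H = (P : Subgroup G).index := (hH.symm.index_eq_card).symm
  have hHcop : (Nat.card H).Coprime (Nat.card (P : Subgroup G)) := by
    rw [hHcard]; exact (Sylow.card_coprime_index P).symm
  have hprod : ∀ g : G, ∃ u ∈ (P : Subgroup G), ∃ a ∈ H, g = u * a := by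
    intro g
    obtain ⟨⟨u, a⟩, hua, -⟩ := (Subgroup.isComplement'_def.1 hH).existsUnique g
    exact ⟨u, u.2, a, a.2, hua.symm⟩
  have hsolv : Group.IsSolvable ↥(P : Subgroup G) := by
    have := IsPGroup.isNilpotent P.2
    infer_instance
  -- (7a)
  have h7a : ∀ v ∈ (P : Subgroup G), p ∣ cs v →
      ∃ k ∈ (P : Subgroup G), ∀ a ∈ H, a * (k * v * k⁻¹) * a⁻¹ = k * v * k⁻¹ := by
    intro v hv hpv
    have hHP : H ≤ Subgroup.normalizer ((P : Subgroup G) : Set G) := by
      rw [Subgroup.normalizer_eq_top]; exact le_top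
    obtain ⟨k, hk, hkfix⟩ := Cfsg.Agent.Helper1.glauberman_exists (X := CSet G) H (P : Subgroup G)
      hHP hHcop (Or.inr hsolv) (⟨v⟩ : CSet G) (by
        intro a _
        obtain ⟨u, hu, c, hc, rfl⟩ := h.exists_mul_C hv (hcop v hv hpv) a
        refine ⟨u, hu, ?_⟩
        apply CSet.ext
        rw [CSet.smul_val, CSet.smul_val]
        rw [mem_C] at hc
        show u * c * v * (u * c)⁻¹ = u * v * u⁻¹
        calc u * c * v * (u * c)⁻¹ = u * (c * v) * c⁻¹ * u⁻¹ := by group
          _ = u * (v * c) * c⁻¹ * u⁻¹ := by rw [hc]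
          _ = u * v * u⁻¹ := by group)
    refine ⟨k, hk, fun a ha => ?_⟩
    have := congrArg CSet.val (hkfix a ha)
    rw [CSet.smul_val, CSet.smul_val] at this
    exact this
  -- the subgroup D = C_P(H) Z(P)
  let D : Subgroup G :=
    { carrier := {x | ∃ c ∈ (P : Subgroup G), (∀ a ∈ H, a * c * a⁻¹ = c) ∧
        ∃ ζ ∈ (P : Subgroup G), (P : Subgroup G) ≤ C ζ ∧ x = c * ζ}
      one_mem' := ⟨1, Subgroup.one_mem _, by simp, 1, Subgroup.one_mem _, by
        intro x _; rw [mem_C]; simp, by simp⟩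
      mul_mem' := by
        rintro _ _ ⟨c, hc, hcH, ζ, hζ, hζP, rfl⟩ ⟨c', hc', hcH', ζ', hζ', hζP', rfl⟩
        refine ⟨c * c', Subgroup.mul_mem _ hc hc', ?_, ζ * ζ', Subgroup.mul_mem _ hζ hζ', ?_, ?_⟩
        · intro a ha
          calc a * (c * c') * a⁻¹ = (a * c * a⁻¹) * (a * c' * a⁻¹) := by group
            _ = c * c' := by rw [hcH a ha, hcH' a ha]
        · intro x hx
          have h1 := hζP hx
          have h2 := hζP' hx
          rw [mem_C] at h1 h2 ⊢
          exact (show Commute x ζ from h1).mul_right h2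
        · have h1 := hζP hc'
          rw [mem_C] at h1
          calc c * ζ * (c' * ζ') = c * (ζ * c') * ζ' := by group
            _ = c * (c' * ζ) * ζ' := by rw [← h1]
            _ = c * c' * (ζ * ζ') := by group
      inv_mem' := by
        rintro _ ⟨c, hc, hcH, ζ, hζ, hζP, rfl⟩
        refine ⟨c⁻¹, Subgroup.inv_mem _ hc, ?_, ζ⁻¹, Subgroup.inv_mem _ hζ, ?_, ?_⟩
        · intro a ha
          calc a * c⁻¹ * a⁻¹ = (a * c * a⁻¹)⁻¹ := by group
            _ = c⁻¹ := by rw [hcH a ha]
        · intro x hx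
          have h1 := hζP hx
          rw [mem_C] at h1 ⊢
          exact (show Commute x ζ from h1).inv_right
        · have h1 := hζP hc
          rw [mem_C] at h1
          have h2 : Commute c ζ := h1
          calc (c * ζ)⁻¹ = ζ⁻¹ * c⁻¹ := by group
            _ = c⁻¹ * ζ⁻¹ := (h2.inv_inv).eq.symm }
  have hDmem : ∀ x : G, x ∈ D ↔ ∃ c ∈ (P : Subgroup G), (∀ a ∈ H, a * c * a⁻¹ = c) ∧
      ∃ ζ ∈ (P : Subgroup G), (P : Subgroup G) ≤ C ζ ∧ x = c * ζ := fun x => Iff.rfl
  have hDP : D ≤ (P : Subgroup G) := by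
    intro x hx
    obtain ⟨c, hc, -, ζ, hζ, -, rfl⟩ := (hDmem x).1 hx
    exact Subgroup.mul_mem _ hc hζ
  have hDeq : D = (P : Subgroup G) := by
    apply eq_of_forall_conj_mem hDP
    intro x hx
    by_cases hpx : p ∣ cs x
    · obtain ⟨k, hk, hkfix⟩ := h7a x hx hpx
      refine ⟨k, hk, (hDmem _).2 ⟨k * x * k⁻¹, ?_, hkfix, 1, Subgroup.one_mem _, ?_, by simp⟩⟩
      · exact Subgroup.mul_mem _ (Subgroup.mul_mem _ hk hx) (Subgroup.inv_mem _ hk)
      · intro w _; rw [mem_C]; simp
    · refine ⟨1, Subgroup.one_mem _, (hDmem _).2 ⟨1, Subgroup.one_mem _, by simp, x, hx,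
        hcentral x hpx, by simp⟩⟩
  -- (7c)
  have hyD : y ∈ D := by rw [hDeq]; exact hy
  obtain ⟨c, hc, hcH, ζ0, hζ0, hζ0P, hyc⟩ := (hDmem y).1 hyD
  set v := c * z with hv
  have hvP : v ∈ (P : Subgroup G) := Subgroup.mul_mem _ hc hzP
  have hpv : p ∣ cs v := by
    by_contra hcon
    have h1 := hcentral v hcon
    -- then P ≤ C c, hence P ≤ C y
    apply not_dvd_index_of_sylow_le p (C y) P _ hpy
    intro x hx
    have hxv := h1 hx
    have hxz := h.hPz hx
    have hxζ := hζ0P hx
    rw [mem_C] at hxv hxz hxζ ⊢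
    have hxc : Commute x c := by
      have h2 : c = v * z⁻¹ := by rw [hv]; group
      rw [h2]
      exact (show Commute x v from hxv).mul_right (show Commute x z from hxz).inv_right
    rw [hyc]
    exact hxc.mul_right hxζ
  obtain ⟨k, hk, hkfix⟩ := h7a v hvP hpv
  have hkD : k ∈ D := by rw [hDeq]; exact hk
  obtain ⟨c', hc', hcH', ζ', hζ', hζP', hkc⟩ := (hDmem k).1 hkD
  -- k v k⁻¹ = (c' c c'⁻¹) z
  have hζ'v : Commute ζ' (c * z) := by
    have h1 := hζP' hc
    have h2 := hζP' hzP
    rw [mem_C] at h1 h2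
    exact ((show Commute c ζ' from h1).mul_left (show Commute z ζ' from h2)).symm
  have hzc' : Commute c' z := by
    have h1 := h.hPz hc'
    rw [mem_C] at h1
    exact h1
  have hkv : k * v * k⁻¹ = (c' * c * c'⁻¹) * z := by
    rw [hkc, hv]
    calc c' * ζ' * (c * z) * (c' * ζ')⁻¹ = c' * (ζ' * (c * z)) * ζ'⁻¹ * c'⁻¹ := by group
      _ = c' * ((c * z) * ζ') * ζ'⁻¹ * c'⁻¹ := by rw [hζ'v.eq]
      _ = c' * c * (z * c'⁻¹) := by group
      _ = c' * c * (c'⁻¹ * z) := by rw [(hzc'.inv_left).eq]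
      _ = c' * c * c'⁻¹ * z := by group
  -- H centralizes z
  have hHz : ∀ a ∈ H, a * z * a⁻¹ = z := by
    intro a ha
    have h1 := hkfix a ha
    rw [hkv] at h1
    have h2 : a * (c' * c * c'⁻¹) * a⁻¹ = c' * c * c'⁻¹ := by
      calc a * (c' * c * c'⁻¹) * a⁻¹ = (a * c' * a⁻¹) * (a * c * a⁻¹) * (a * c' * a⁻¹)⁻¹ := by
            group
        _ = c' * c * c'⁻¹ := by rw [hcH a ha, hcH' a ha]
    have h3 : a * (c' * c * c'⁻¹ * z) * a⁻¹ = (a * (c' * c * c'⁻¹) * a⁻¹) * (a * z * a⁻¹) := by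
      group
    rw [h3, h2] at h1
    exact mul_left_cancel h1
  -- hence z is central
  apply hznc
  rw [Subgroup.mem_center_iff]
  intro g
  obtain ⟨u, hu, a, ha, rfl⟩ := hprod g
  have h1 := h.hPz hu
  rw [mem_C] at h1
  have h2 : a * z = z * a := by
    have := hHz a ha
    calc a * z = a * z * a⁻¹ * a := by group
      _ = z * a := by rw [this]
  calc u * a * z = u * (a * z) := by group
    _ = u * (z * a) := by rw [h2]
    _ = (u * z) * a := by group
    _ = (z * u) * a := by rw [h1]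
    _ = z * (u * a) := by group

/-- The configuration `Ctx` together with an element of `P` whose class size is divisible by
`p` is contradictory. -/
theorem false_of_dvd (h : Ctx G p n P z) (y : G) (hy : y ∈ (P : Subgroup G))
    (hy1 : p ∣ orderOf y) (hpy : p ∣ cs y) : False := by
  have := h.normal y hy hy1 hpy
  exact h.false_of_normal y hy hpy

end Ctx

end Cfsg.Agent.Helper4.PSing
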