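import Mathlib
import Cfsg.Agent.Helper4.PSingD
import Cfsg.Agent.Helper4.CyclicSylowA
import Cfsg.Agent.Helper4.HallConverseA

/-!
# The `p`-singular class-size graph: two separated `p`-singular elements cannot exist
-/

set_option autoImplicit false

namespace Cfsg.Agent.Helper4.PSing

open Cfsg.Agent.Helper4.TwoClass

universe u

variable {G : Type u} [Group G] [Finite G] {p : ℕ} [hp : Fact p.Prime]

/-- The `p`-part of a `p`-singular element. -/
theorem exists_p_part (x : G) (hx : p ∣ orderOf x) :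
    ∃ y : G, y ∈ Subgroup.zpowers x ∧ ∃ l : ℕ, l ≠ 0 ∧ orderOf y = p ^ l := by
  obtain ⟨a', y, ha', hy, hxy, hcop, k, hk⟩ :=
    Cfsg.Agent.Helper4.exists_p_part_decomp p x
  refine ⟨y, hy, ?_⟩
  obtain ⟨l, -, hl⟩ := (Nat.dvd_prime_pow hp.out).1 (orderOf_dvd_of_pow_eq_one hk)
  refine ⟨l, ?_, hl⟩
  rintro rfl
  rw [pow_zero, orderOf_eq_one_iff] at hl
  rw [hl, mul_one] at hxy
  rw [hxy] at hx
  have := Nat.Coprime.eq_one_of_dvd hcop.symm hx
  exact hp.out.one_lt.ne' this

/-- Step 1. -/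
theorem dvd_cs_of_commute {y z : G} {i l : ℕ} (hy : orderOf y = p ^ i) (hz : orderOf z = p ^ l)
    (hync : y ∉ Subgroup.center G) (hznc : z ∉ Subgroup.center G) (hcomm : Commute y z)
    (hcop : (cs y).Coprime (cs z)) (hpz : ¬ p ∣ cs z)
    (hdiv : cs (y * z) ∣ cs y ∨ cs (y * z) ∣ cs z) : p ∣ cs y := by
  by_contra hpy
  by_cases hle : cs (y * z) ≤ cs z
  · exact hync (central_of_lemmaG y z hcop hle (hy ▸ coprime_of_prime_pow hp.out hpz))
  · have h1 : cs (y * z) ∣ cs y :=
      hdiv.resolve_right (fun h => hle (Nat.le_of_dvd (cs_pos z) h))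
    have hle' : cs (z * y) ≤ cs y := by
      rw [← hcomm.eq]; exact Nat.le_of_dvd (cs_pos y) h1
    exact hznc (central_of_lemmaG z y hcop.symm hle' (hz ▸ coprime_of_prime_pow hp.out hpy))

/-- The core: two `p`-singular elements whose class sizes are separated in the graph cannot
exist, when the second is `p`-central. -/
theorem core (hZ : ¬ p ∣ Nat.card (Subgroup.center G)) (a b : G)
    (ha : p ∣ orderOf a) (hb : p ∣ orderOf b)
    (sep : ∀ r' s' : ℕ, r'.Prime → s'.Prime → r' ∣ cs a → s' ∣ cs b →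
      ∀ g : G, p ∣ orderOf g → r' ∣ cs g → s' ∣ cs g → False)
    (hpb : ¬ p ∣ cs b) : False := by
  obtain ⟨y, hya, i, hi, hyi⟩ := exists_p_part (p := p) a ha
  obtain ⟨z0, hzb, l, hl, hzl⟩ := exists_p_part (p := p) b hb
  have hcsy : cs y ∣ cs a := cs_dvd_of_le (C_le_of_mem_zpowers hya)
  have hcsz0 : cs z0 ∣ cs b := cs_dvd_of_le (C_le_of_mem_zpowers hzb)
  have hpz0 : ¬ p ∣ cs z0 := fun h => hpb (h.trans hcsz0)
  obtain ⟨P0, hP0⟩ := exists_sylow_le_of_not_dvd_index p (C z0) hpz0
  -- a Sylow subgroup containing y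
  have hpg : IsPGroup p (Subgroup.zpowers y) := by
    apply IsPGroup.of_card (n := i)
    rw [Nat.card_zpowers, hyi]
  obtain ⟨P, hP⟩ := hpg.exists_le_sylow
  have hyP : y ∈ (P : Subgroup G) := hP (Subgroup.mem_zpowers y)
  obtain ⟨g, hg⟩ := MulAction.exists_smul_eq G P0 P
  set z := g * z0 * g⁻¹ with hzdef
  have hcsz : cs z = cs z0 := cs_conj g z0
  have hzord : orderOf z = p ^ l := by
    rw [← hzl]
    have := (MulAut.conj g).orderOf_eq z0
    rwa [MulAut.conj_apply] at this
  have hPz : (P : Subgroup G) ≤ C z := by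
    intro x hx
    have hx' : x ∈ g • P0 := by rw [hg]; exact hx
    rw [Cfsg.Agent.Helper4.mem_sylow_smul_iff] at hx'
    rw [hzdef, mem_C_conj]
    exact hP0 hx'
  have hcszb : cs z ∣ cs b := hcsz ▸ hcsz0
  have hpz : ¬ p ∣ cs z := hcsz ▸ hpz0
  have hync : y ∉ Subgroup.center G := not_mem_center_of_pelement hZ hi hyi
  have hznc : z ∉ Subgroup.center G := not_mem_center_of_pelement hZ hl hzord
  -- coprimality
  have hcop : (cs y).Coprime (cs z) := by
    apply Nat.coprime_of_dvd
    intro t ht hty htz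
    exact sep t t ht ht (hty.trans hcsy) (htz.trans hcszb) a ha (hty.trans hcsy) (hty.trans hcsy)
  have hcomm : Commute y z := by
    have := hPz hyP
    rw [mem_C] at this
    exact this
  -- y * z is p-singular
  have hyz1 : y * z ≠ 1 := by
    intro h1
    have hzy : z = y⁻¹ := (eq_inv_of_mul_eq_one_right h1)
    have hC : C z = C y := by
      ext k
      rw [mem_C, mem_C, hzy]
      exact (Commute.inv_right_iff (a := k) (b := y))
    have hcs : cs z = cs y := congrArg Subgroup.index hC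
    rw [hcs, Nat.coprime_self] at hcop
    exact hync ((cs_eq_one_iff y).1 hcop)
  have hyzord : p ∣ orderOf (y * z) := by
    have h1 : (y * z) ^ (p ^ (i + l)) = 1 := by
      have hy1 : y ^ (p ^ (i + l)) = 1 := by
        rw [pow_add, pow_mul, ← hyi, pow_orderOf_eq_one, one_pow]
      have hz1 : z ^ (p ^ (i + l)) = 1 := by
        rw [pow_add, mul_comm, pow_mul, ← hzord, pow_orderOf_eq_one, one_pow]
      rw [hcomm.mul_pow, hy1, hz1, one_mul]
    obtain ⟨j, -, hj⟩ := (Nat.dvd_prime_pow hp.out).1 (orderOf_dvd_of_pow_eq_one h1)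
    rw [hj]
    apply dvd_pow_self
    rintro rfl
    rw [pow_zero, orderOf_eq_one_iff] at hj
    exact hyz1 hj
  -- the dichotomy
  have hdvd : cs (y * z) ∣ cs y * cs z := by
    have h1 : C y ⊓ C z ≤ C (y * z) := by
      intro k hk
      obtain ⟨h1, h2⟩ := Subgroup.mem_inf.1 hk
      rw [mem_C] at h1 h2 ⊢
      exact (show Commute k y from h1).mul_right h2
    have h2 := Subgroup.index_dvd_of_le h1
    rwa [Cfsg.Agent.Helper4.index_inf_of_coprime (C y) (C z) hcop] at h2
  have hdiv : cs (y * z) ∣ cs y ∨ cs (y * z) ∣ cs z := by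
    by_cases hc : (cs (y * z)).Coprime (cs y)
    · right
      exact hc.dvd_of_dvd_mul_left hdvd
    · left
      have hc2 : (cs (y * z)).Coprime (cs z) := by
        apply Nat.coprime_of_dvd
        intro s hs hs1 hs2
        apply hc
        apply Nat.coprime_of_dvd
        intro r hr hr1 hr2
        exact sep r s hr hs (hr2.trans hcsy) (hs2.trans hcszb) (y * z) hyzord hr1 hs1
      exact hc2.dvd_of_dvd_mul_right hdvd
  have hpy : p ∣ cs y := dvd_cs_of_commute hyi hzord hync hznc hcomm hcop hpz hdiv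
  -- the context
  have hctx : Ctx G p (cs b) P z :=
    { hZ := hZ
      sp := fun t ht htb g hg hpg htg =>
        sep p t hp.out ht (hpy.trans hcsy) htb g hg hpg htg
      hzord := ⟨l, hl, hzord⟩
      hPz := hPz
      hzn := hcszb }
  exact hctx.false_of_dvd y hyP (hyi ▸ dvd_pow_self p hi) hpy

end Cfsg.Agent.Helper4.PSing
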