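import Mathlib

set_option autoImplicit false

/-!
# Permutations of prime order and invariant uniform partitions: basic lemmas
-/

namespace Cfsg.Agent.Helper4.PartFix

open Equiv

variable {α : Type*} [Fintype α] [DecidableEq α]

/-- If `τ ^ r = 1` with `r` prime, then `r` divides the size of the support of `τ`. -/
theorem dvd_card_support {r : ℕ} (hr : r.Prime) (τ : Perm α) (hτ : τ ^ r = 1) :
    r ∣ τ.support.card := by
  by_cases h1 : τ = 1
  · subst h1; simp
  · have ho : orderOf τ = r := by
      have := Fact.mk hr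
      exact orderOf_eq_prime hτ h1
    obtain ⟨m, hm⟩ := Perm.cycleType_prime_order (σ := τ) (by rw [ho]; exact hr)
    have hs := Perm.sum_cycleType τ
    rw [hm, Multiset.sum_replicate, ho] at hs
    rw [← hs]
    exact ⟨m + 1, by rw [smul_eq_mul, mul_comm]⟩

/-- Two permutations with `r`-th power `1` (`r` prime) and supports of the same size are
conjugate. -/
theorem isConj_of_card_support_eq {r : ℕ} (hr : r.Prime) (σ τ : Perm α) (hσ : σ ^ r = 1)
    (hτ : τ ^ r = 1) (h : σ.support.card = τ.support.card) : IsConj σ τ := by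
  rw [Perm.isConj_iff_cycleType_eq]
  have := Fact.mk hr
  by_cases h1 : σ = 1
  · subst h1
    have : τ = 1 := by
      rw [← Perm.card_support_eq_zero, ← h]; simp
    rw [this]
  · have h2 : τ ≠ 1 := by
      intro h2
      apply h1
      rw [← Perm.card_support_eq_zero, h, h2]; simp
    have ho1 : orderOf σ = r := orderOf_eq_prime hσ h1
    have ho2 : orderOf τ = r := orderOf_eq_prime hτ h2
    obtain ⟨m1, hm1⟩ := Perm.cycleType_prime_order (σ := σ) (by rw [ho1]; exact hr)
    obtain ⟨m2, hm2⟩ := Perm.cycleType_prime_order (σ := τ) (by rw [ho2]; exact hr)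
    have hs1 := Perm.sum_cycleType σ
    have hs2 := Perm.sum_cycleType τ
    rw [hm1, Multiset.sum_replicate, ho1, smul_eq_mul] at hs1
    rw [hm2, Multiset.sum_replicate, ho2, smul_eq_mul] at hs2
    have : m1 + 1 = m2 + 1 := by
      have : (m1 + 1) * r = (m2 + 1) * r := by rw [hs1, hs2, h]
      exact Nat.eq_of_mul_eq_mul_right hr.pos this
    rw [hm1, hm2, ho1, ho2, this]

/-- `(a!)^b * b!` divides `(a*b)!`. -/
theorem factorial_pow_mul_factorial_dvd (a : ℕ) (ha : 1 ≤ a) :
    ∀ b : ℕ, a.factorial ^ b * b.factorial ∣ (a * b).factorial := by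
  intro b
  induction b with
  | zero => simp
  | succ b ih =>
    obtain ⟨q, hq⟩ := ih
    -- (a*(b+1))! = (a*b)! * a! * choose (a*b+a) a
    have h1 : (a * b + a).choose a * (a.factorial * (a * b).factorial) = (a * b + a).factorial := by
      have := Nat.add_choose_mul_factorial_mul_factorial (a * b) a
      rw [add_comm (a * b) a] at this
      rw [add_comm (a * b) a, ← this]
      rw [Nat.choose_symm_add]
      ring
    -- choose (a*b+a) a = (b+1) * choose (a*b+a-1) (a-1)
    obtain ⟨a', rfl⟩ : ∃ a', a = a' + 1 := ⟨a - 1, by omega⟩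
    have h2 : ((a' + 1) * b + (a' + 1)).choose (a' + 1) * (a' + 1) =
        ((a' + 1) * b + a' + 1) * ((a' + 1) * b + a').choose a' := by
      have := Nat.add_one_mul_choose_eq ((a' + 1) * b + a') a'
      rw [show (a' + 1) * b + (a' + 1) = (a' + 1) * b + a' + 1 by ring]
      rw [this]
    have h3 : ((a' + 1) * b + (a' + 1)).choose (a' + 1) =
        (b + 1) * ((a' + 1) * b + a').choose a' := by
      have : ((a' + 1) * b + a' + 1) = (b + 1) * (a' + 1) := by ring
      rw [this] at h2
      have h4 : ((a' + 1) * b + (a' + 1)).choose (a' + 1) * (a' + 1) =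
          ((b + 1) * ((a' + 1) * b + a').choose a') * (a' + 1) := by
        rw [h2]; ring
      exact Nat.eq_of_mul_eq_mul_right (Nat.succ_pos a') h4
    refine ⟨q * ((a' + 1) * b + a').choose a', ?_⟩
    rw [show (a' + 1) * (b + 1) = (a' + 1) * b + (a' + 1) by ring, ← h1, h3, hq,
      Nat.factorial_succ b, pow_succ]
    ring

end Cfsg.Agent.Helper4.PartFix
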