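import Mathlib
import Cfsg.Agent.Helper4.PartFixA

set_option autoImplicit false

/-!
# Necessity: a permutation of prime order fixing a uniform partition
-/

namespace Cfsg.Agent.Helper4.PartFix

open Equiv

variable {α β : Type*} [Fintype α] [DecidableEq α] [Fintype β] [DecidableEq β]

omit [Fintype α] [DecidableEq α] [Fintype β] [DecidableEq β] in
theorem semiconj_pow (σ : Perm α) (f : α → β) (π : Perm β) (hπ : ∀ x, f (σ x) = π (f x)) :
    ∀ (k : ℕ) (x : α), f ((σ ^ k) x) = (π ^ k) (f x) := by
  intro k
  induction k with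
  | zero => intro x; simp
  | succ k ih =>
    intro x
    rw [pow_succ', pow_succ', Perm.mul_apply, Perm.mul_apply, hπ, ih]

/-- The permutation acting like `σ` on the fibre `f ⁻¹ j` (when `π j = j`) and trivially
elsewhere. -/
noncomputable def fibrePerm (σ : Perm α) (f : α → β) (π : Perm β) (hπ : ∀ x, f (σ x) = π (f x))
    (j : β) (hj : π j = j) : Perm α :=
  Perm.ofSubtype (σ.subtypePerm (p := fun x => f x = j) (fun x => by
    rw [hπ]
    constructor
    · intro h; rw [← hj] at h; exact π.injective h
    · intro h; rw [h, hj]))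

theorem fibrePerm_apply_of_mem (σ : Perm α) (f : α → β) (π : Perm β)
    (hπ : ∀ x, f (σ x) = π (f x)) (j : β) (hj : π j = j) {x : α} (hx : f x = j) :
    fibrePerm σ f π hπ j hj x = σ x := by
  unfold fibrePerm
  exact Perm.ofSubtype_subtypePerm_of_mem _ hx

theorem fibrePerm_apply_of_not_mem (σ : Perm α) (f : α → β) (π : Perm β)
    (hπ : ∀ x, f (σ x) = π (f x)) (j : β) (hj : π j = j) {x : α} (hx : ¬ f x = j) :
    fibrePerm σ f π hπ j hj x = x := by
  unfold fibrePerm
  exact Perm.ofSubtype_subtypePerm_of_not_mem _ hx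

theorem fibrePerm_pow (σ : Perm α) (f : α → β) (π : Perm β)
    (hπ : ∀ x, f (σ x) = π (f x)) (j : β) (hj : π j = j) {r : ℕ} (hσ : σ ^ r = 1) :
    (fibrePerm σ f π hπ j hj) ^ r = 1 := by
  unfold fibrePerm
  rw [← map_pow, Perm.subtypePerm_pow]
  simp only [hσ]
  rw [Perm.subtypePerm_one, map_one]

theorem support_fibrePerm (σ : Perm α) (f : α → β) (π : Perm β)
    (hπ : ∀ x, f (σ x) = π (f x)) (j : β) (hj : π j = j) :
    (fibrePerm σ f π hπ j hj).support = σ.support.filter (fun x => f x = j) := by
  ext x
  rw [Perm.mem_support, Finset.mem_filter, Perm.mem_support]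
  by_cases hx : f x = j
  · rw [fibrePerm_apply_of_mem σ f π hπ j hj hx]
    exact ⟨fun h => ⟨h, hx⟩, fun h => h.1⟩
  · rw [fibrePerm_apply_of_not_mem σ f π hπ j hj hx]
    exact ⟨fun h => absurd rfl h, fun h => absurd h.2 hx⟩

/-- Necessity. -/
theorem necessity {a r : ℕ} (hr : r.Prime) (ha : 1 ≤ a) (σ : Perm α) (hσ : σ ^ r = 1)
    (f : α → β) (hf : ∀ j, Nat.card {x : α // f x = j} = a) (π : Perm β)
    (hπ : ∀ x, f (σ x) = π (f x)) :
    ∃ t, r * t ≤ Fintype.card β ∧ t * a * r ≤ σ.support.card ∧
      σ.support.card ≤ (t * a + (Fintype.card β - r * t) * (a / r)) * r := by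
  classical
  have hsurj : ∀ j, ∃ x, f x = j := by
    intro j
    have h := hf j
    have hpos : 0 < Nat.card {x : α // f x = j} := by omega
    obtain ⟨x⟩ := (Nat.card_pos_iff.mp hpos).1
    exact ⟨x.1, x.2⟩
  have hπr : π ^ r = 1 := by
    ext j
    obtain ⟨x, rfl⟩ := hsurj j
    rw [← semiconj_pow σ f π hπ r x, hσ]
    simp
  obtain ⟨t, ht⟩ := dvd_card_support hr π hπr
  have hfib : ∀ j, (Finset.univ.filter (fun x => f x = j)).card = a := by
    intro j
    rw [← hf j, Nat.card_eq_fintype_card, Fintype.card_subtype]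
  refine ⟨t, ?_, ?_, ?_⟩
  · rw [← ht]; exact Finset.card_le_univ _
  all_goals
    have hsum : σ.support.card = ∑ j : β, (σ.support.filter (fun x => f x = j)).card :=
      Finset.card_eq_sum_card_fiberwise (f := f) (s := σ.support) (t := Finset.univ)
        (fun x _ => Finset.mem_coe.mpr (Finset.mem_univ _))
    rw [← Finset.sum_add_sum_compl π.support] at hsum
    have h1 : ∑ j ∈ π.support, (σ.support.filter (fun x => f x = j)).card = r * t * a := by
      rw [← ht, ← smul_eq_mul, ← Finset.sum_const]
      apply Finset.sum_congr rfl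
      intro j hj
      rw [← hfib j]
      congr 1
      ext x
      simp only [Finset.mem_filter, Perm.mem_support, Finset.mem_univ, true_and]
      constructor
      · exact fun h => h.2
      · intro hx
        refine ⟨?_, hx⟩
        intro hfix
        have := hπ x
        rw [hfix, hx] at this
        exact (Perm.mem_support.mp hj) this.symm
  · rw [hsum, h1]
    calc t * a * r = r * t * a := by ring
      _ ≤ _ := Nat.le_add_right _ _
  · have h2 : ∑ j ∈ π.supportᶜ, (σ.support.filter (fun x => f x = j)).card ≤
        (Fintype.card β - r * t) * (r * (a / r)) := by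
      have hc : (π.supportᶜ).card = Fintype.card β - r * t := by
        rw [Finset.card_compl, ht]
      rw [← hc, ← smul_eq_mul]
      apply Finset.sum_le_card_nsmul
      intro j hj
      have hj' : π j = j := by
        rw [Finset.mem_compl, Perm.mem_support, not_not] at hj; exact hj
      have hd := dvd_card_support hr _ (fibrePerm_pow σ f π hπ j hj' hσ)
      rw [support_fibrePerm] at hd
      have hle : (σ.support.filter (fun x => f x = j)).card ≤ a := by
        rw [← hfib j]
        apply Finset.card_le_card
        intro x hx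
        simp only [Finset.mem_filter, Finset.mem_univ, true_and] at hx ⊢
        exact hx.2
      obtain ⟨q, hq⟩ := hd
      rw [hq] at hle ⊢
      have : q ≤ a / r := by
        rw [Nat.le_div_iff_mul_le hr.pos]
        calc q * r = r * q := mul_comm _ _
          _ ≤ a := hle
      exact Nat.mul_le_mul_left r this
    rw [hsum, h1]
    calc r * t * a + ∑ j ∈ π.supportᶜ, (σ.support.filter (fun x => f x = j)).card
        ≤ r * t * a + (Fintype.card β - r * t) * (r * (a / r)) := Nat.add_le_add_left h2 _
      _ = (t * a + (Fintype.card β - r * t) * (a / r)) * r := by ring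

end Cfsg.Agent.Helper4.PartFix
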