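import Mathlib
import Cfsg.Agent.Helper4.PartFixA

set_option autoImplicit false
set_option linter.unusedSectionVars false

/-!
# The model permutation with an invariant uniform partition
-/

namespace Cfsg.Agent.Helper4.PartFix

open Equiv

variable {r : ℕ} [Fact r.Prime]

/-- Index type of the blocks: `t` cycles of `r` blocks, and `m` fixed blocks. -/
abbrev MY (r t m : ℕ) : Type := (Fin t × ZMod r) ⊕ Fin m

/-- The type of a block: `a1` slots of size `r` and `ℓ` further points. -/
abbrev MZ (r a1 ℓ : ℕ) : Type := (Fin a1 × ZMod r) ⊕ Fin ℓ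

/-- The permutation of the blocks. -/
def piY (r t m : ℕ) : Perm (MY r t m) :=
  Equiv.sumCongr (Equiv.prodCongr (Equiv.refl _) (Equiv.addRight (1 : ZMod r))) (Equiv.refl _)

/-- Whether the slot `(i, k)` rotates. -/
def delta (r m a1 c' : ℕ) (i : Fin m) (k : Fin a1) : ZMod r :=
  if (finProdFinEquiv (i, k)).val < c' then 1 else 0

/-- The permutation of a fixed block. -/
def rhoZ (r m a1 ℓ c' : ℕ) (i : Fin m) : Perm (MZ r a1 ℓ) :=
  Equiv.sumCongr (Equiv.prodShear (Equiv.refl _) (fun k => Equiv.addRight (delta r m a1 c' i k)))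
    (Equiv.refl _)

/-- The permutation of the block `y`. -/
def rho (r t m a1 ℓ c' : ℕ) : MY r t m → Perm (MZ r a1 ℓ)
  | Sum.inl _ => Equiv.refl _
  | Sum.inr i => rhoZ r m a1 ℓ c' i

/-- The model permutation. -/
def sigmaX (r t m a1 ℓ c' : ℕ) : Perm (MY r t m × MZ r a1 ℓ) :=
  Equiv.prodShear (piY r t m) (rho r t m a1 ℓ c')

theorem sigmaX_fst (t m a1 ℓ c' : ℕ) (x : MY r t m × MZ r a1 ℓ) :
    (sigmaX r t m a1 ℓ c' x).1 = piY r t m x.1 := rfl

theorem sigmaX_pow_inl (t m a1 ℓ c' : ℕ) (u : Fin t) (s : ZMod r) (z : MZ r a1 ℓ) (n : ℕ) :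
    ((sigmaX r t m a1 ℓ c') ^ n) (Sum.inl (u, s), z) = (Sum.inl (u, s + n), z) := by
  induction n with
  | zero => simp
  | succ n ih =>
    rw [pow_succ', Perm.mul_apply, ih]
    simp [sigmaX, piY, rho, add_assoc]

theorem sigmaX_pow_inr_inl (t m a1 ℓ c' : ℕ) (i : Fin m) (k : Fin a1) (s : ZMod r) (n : ℕ) :
    ((sigmaX r t m a1 ℓ c') ^ n) (Sum.inr i, Sum.inl (k, s)) =
      (Sum.inr i, Sum.inl (k, s + n * delta r m a1 c' i k)) := by
  induction n with
  | zero => simp
  | succ n ih =>
    rw [pow_succ', Perm.mul_apply, ih]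
    simp [sigmaX, piY, rho, rhoZ, add_assoc, add_mul]

theorem sigmaX_pow_inr_inr (t m a1 ℓ c' : ℕ) (i : Fin m) (e : Fin ℓ) (n : ℕ) :
    ((sigmaX r t m a1 ℓ c') ^ n) (Sum.inr i, Sum.inr e) = (Sum.inr i, Sum.inr e) := by
  induction n with
  | zero => simp
  | succ n ih =>
    rw [pow_succ', Perm.mul_apply, ih]
    simp [sigmaX, piY, rho, rhoZ]

theorem sigmaX_pow_r (t m a1 ℓ c' : ℕ) : (sigmaX r t m a1 ℓ c') ^ r = 1 := by
  ext1 x
  obtain ⟨y, z⟩ := x
  rcases y with ⟨u, s⟩ | i
  · rw [sigmaX_pow_inl]; simp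
  · rcases z with ⟨k, s⟩ | e
    · rw [sigmaX_pow_inr_inl]; simp
    · rw [sigmaX_pow_inr_inr]; simp

theorem sigmaX_semiconj (t m a1 ℓ c' : ℕ) (x : MY r t m × MZ r a1 ℓ) :
    Prod.fst (sigmaX r t m a1 ℓ c' x) = piY r t m (Prod.fst x) := rfl

theorem card_MY (t m : ℕ) : Fintype.card (MY r t m) = t * r + m := by
  simp [MY, ZMod.card]

theorem card_MZ (a1 ℓ : ℕ) : Fintype.card (MZ r a1 ℓ) = a1 * r + ℓ := by
  simp [MZ, ZMod.card]

theorem card_fibre_fst {Y Z : Type*} [Fintype Z] (y : Y) :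
    Nat.card {x : Y × Z // x.1 = y} = Fintype.card Z := by
  rw [← Nat.card_eq_fintype_card]
  apply Nat.card_congr
  exact
    { toFun := fun x => x.1.2
      invFun := fun z => ⟨(y, z), rfl⟩
      left_inv := by
        rintro ⟨⟨y', z⟩, h⟩
        simp only at h
        subst h
        rfl
      right_inv := fun z => rfl }

theorem count_slots (m a1 c' : ℕ) (hc : c' ≤ m * a1) :
    ∑ i : Fin m, ∑ k : Fin a1, (if (finProdFinEquiv (i, k)).val < c' then 1 else 0) = c' := by
  rw [← Fintype.sum_prod_type (f := fun p : Fin m × Fin a1 =>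
    if (finProdFinEquiv p).val < c' then 1 else 0)]
  rw [Equiv.sum_comp finProdFinEquiv (fun q : Fin (m * a1) => if q.val < c' then 1 else 0)]
  rw [Finset.sum_boole]
  simp only [Nat.cast_id]
  rw [← Fintype.card_subtype]
  exact Fintype.card_fin_lt_of_le hc

/-- Whether a point of the model is moved. -/
def movedX (r t m a1 ℓ c' : ℕ) : MY r t m × MZ r a1 ℓ → Bool
  | (Sum.inl _, _) => true
  | (Sum.inr i, Sum.inl (k, _)) => decide ((finProdFinEquiv (i, k)).val < c')
  | (Sum.inr _, Sum.inr _) => false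

theorem card_support_sigmaX (t m a1 ℓ c' : ℕ) (hc : c' ≤ m * a1) :
    (sigmaX r t m a1 ℓ c').support.card = (t * (a1 * r + ℓ) + c') * r := by
  have hr : r.Prime := Fact.out
  have h01 : (1 : ZMod r) ≠ 0 := one_ne_zero
  have hsupp : (sigmaX r t m a1 ℓ c').support =
      Finset.univ.filter (fun x : MY r t m × MZ r a1 ℓ => movedX r t m a1 ℓ c' x = true) := by
    ext x
    obtain ⟨y, z⟩ := x
    rw [Perm.mem_support, Finset.mem_filter]
    simp only [Finset.mem_univ, true_and]
    rcases y with ⟨u, s⟩ | i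
    · have := sigmaX_pow_inl (r := r) t m a1 ℓ c' u s z 1
      rw [pow_one] at this
      rw [this]
      simp [movedX]
    · rcases z with ⟨k, s⟩ | e
      · have := sigmaX_pow_inr_inl (r := r) t m a1 ℓ c' i k s 1
        rw [pow_one] at this
        rw [this]
        simp only [Nat.cast_one, one_mul, ne_eq, Prod.mk.injEq, true_and, Sum.inl.injEq,
          add_eq_left, movedX, decide_eq_true_eq]
        unfold delta
        split_ifs with h
        · simpa using h
        · simpa using h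
      · have := sigmaX_pow_inr_inr (r := r) t m a1 ℓ c' i e 1
        rw [pow_one] at this
        rw [this]
        simp [movedX]
  rw [hsupp, Finset.card_filter, Fintype.sum_prod_type, Fintype.sum_sum_type]
  have h1 : ∀ y : Fin t × ZMod r, (∑ z : MZ r a1 ℓ,
      if movedX r t m a1 ℓ c' (Sum.inl y, z) = true then 1 else 0) = a1 * r + ℓ := by
    intro y
    simp only [movedX, if_true, Finset.sum_const, Finset.card_univ, smul_eq_mul, mul_one]
    exact card_MZ a1 ℓ
  have h2 : ∀ i : Fin m, (∑ z : MZ r a1 ℓ,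
      if movedX r t m a1 ℓ c' (Sum.inr i, z) = true then 1 else 0) =
      r * ∑ k : Fin a1, (if (finProdFinEquiv (i, k)).val < c' then 1 else 0) := by
    intro i
    rw [Fintype.sum_sum_type, Fintype.sum_prod_type]
    simp only [movedX, decide_eq_true_eq, Bool.false_eq_true, if_false, Finset.sum_const_zero,
      add_zero, Finset.sum_const, Finset.card_univ, ZMod.card, smul_eq_mul]
    rw [Finset.mul_sum]
  rw [Finset.sum_congr rfl (fun y _ => h1 y), Finset.sum_congr rfl (fun i _ => h2 i),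
    ← Finset.mul_sum, count_slots m a1 c' hc]
  simp only [Finset.sum_const, Finset.card_univ, Fintype.card_prod, Fintype.card_fin, ZMod.card,
    smul_eq_mul]
  ring

end Cfsg.Agent.Helper4.PartFix
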