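import Mathlib
import Cfsg.Agent.Helper4.PartFixA
import Cfsg.Agent.Helper4.PartFixC

set_option autoImplicit false
set_option linter.unusedSectionVars false

/-!
# Transfer from the model to `Fin n`, sufficiency, and existence of permutations
-/

namespace Cfsg.Agent.Helper4.PartFix

open Equiv

theorem permCongr_pow {α β : Type*} (e : α ≃ β) (p : Perm α) (k : ℕ) :
    (e.permCongr p) ^ k = e.permCongr (p ^ k) := by
  have := map_pow e.permCongrHom p k
  rw [Equiv.permCongrHom_coe] at this
  exact this.symm

theorem support_permCongr {α β : Type*} [Fintype α] [DecidableEq α] [Fintype β] [DecidableEq β]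
    (e : α ≃ β) (p : Perm α) : (e.permCongr p).support = p.support.map e.toEmbedding := by
  ext x
  rw [Perm.mem_support, Finset.mem_map_equiv, Perm.mem_support, Equiv.permCongr_apply]
  constructor
  · intro h h'
    apply h
    rw [h']
    simp
  · intro h h'
    apply h
    have := congrArg e.symm h'
    simpa using this

theorem card_support_permCongr {α β : Type*} [Fintype α] [DecidableEq α] [Fintype β]
    [DecidableEq β] (e : α ≃ β) (p : Perm α) :
    (e.permCongr p).support.card = p.support.card := by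
  rw [support_permCongr, Finset.card_map]

/-- Transfer of an invariant partition from a model to `Fin n`. -/
theorem transfer {n b a r : ℕ} (hr : r.Prime) (σ : Perm (Fin n)) (hσ : σ ^ r = 1)
    {X Y : Type} [Fintype X] [DecidableEq X] [Fintype Y]
    (hX : Fintype.card X = n) (hY : Fintype.card Y = b) (σX : Perm X) (hσX : σX ^ r = 1)
    (hsupp : σX.support.card = σ.support.card) (fX : X → Y)
    (hfX : ∀ y, Nat.card {x : X // fX x = y} = a) (πY : Perm Y)
    (hπ : ∀ x, fX (σX x) = πY (fX x)) :
    ∃ f : Fin n → Fin b, (∀ j : Fin b, Nat.card {x : Fin n // f x = j} = a) ∧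
      ∃ π : Perm (Fin b), ∀ x : Fin n, f (σ x) = π (f x) := by
  classical
  let e : X ≃ Fin n := Fintype.equivFinOfCardEq hX
  let eY : Y ≃ Fin b := Fintype.equivFinOfCardEq hY
  let σ' : Perm X := e.symm.permCongr σ
  have hσ' : σ' ^ r = 1 := by
    show (e.symm.permCongr σ) ^ r = 1
    rw [permCongr_pow, hσ]
    ext x
    simp
  have hs' : σX.support.card = σ'.support.card := by
    rw [hsupp]
    exact (card_support_permCongr e.symm σ).symm
  obtain ⟨τ, hτ⟩ := isConj_iff.mp (isConj_of_card_support_eq hr σX σ' hσX hσ' hs')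
  have key : ∀ x : Fin n, τ⁻¹ (e.symm (σ x)) = σX (τ⁻¹ (e.symm x)) := by
    intro x
    have h1 : σ' (e.symm x) = e.symm (σ x) := by
      show (e.symm.permCongr σ) (e.symm x) = _
      rw [Equiv.permCongr_apply]
      simp
    rw [← h1, ← hτ]
    simp
  refine ⟨fun x => eY (fX (τ⁻¹ (e.symm x))), ?_, eY.permCongr πY, ?_⟩
  · intro j
    rw [← hfX (eY.symm j)]
    apply Nat.card_congr
    refine Equiv.subtypeEquiv (e.symm.trans (τ⁻¹ : Perm X)) ?_
    intro x
    simp only [Equiv.trans_apply]
    rw [Equiv.eq_symm_apply]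
  · intro x
    show eY (fX (τ⁻¹ (e.symm (σ x)))) = (eY.permCongr πY) (eY (fX (τ⁻¹ (e.symm x))))
    rw [Equiv.permCongr_apply, Equiv.symm_apply_apply, key, hπ]

/-- Sufficiency: a permutation `σ` with `σ ^ r = 1` whose support has `c * r` points, with `c`
in the interval attached to `t`, fixes a partition into `b` blocks of size `a`. -/
theorem sufficiency {a b r c : ℕ} (hr : r.Prime) (σ : Perm (Fin (a * b))) (hσ : σ ^ r = 1)
    (hc : σ.support.card = c * r) (t : ℕ) (ht : r * t ≤ b) (h1 : t * a ≤ c)
    (h2 : c ≤ t * a + (b - r * t) * (a / r)) :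
    ∃ f : Fin (a * b) → Fin b, (∀ j : Fin b, Nat.card {x : Fin (a * b) // f x = j} = a) ∧
      ∃ π : Perm (Fin b), ∀ x : Fin (a * b), f (σ x) = π (f x) := by
  classical
  have : Fact r.Prime := ⟨hr⟩
  have ha : a / r * r + a % r = a := Nat.div_add_mod' a r
  have hcc : c - t * a ≤ (b - r * t) * (a / r) := by omega
  refine transfer (a := a) hr σ hσ (X := MY r t (b - r * t) × MZ r (a / r) (a % r))
    (Y := MY r t (b - r * t)) ?_ ?_ (sigmaX r t (b - r * t) (a / r) (a % r) (c - t * a))
    (sigmaX_pow_r _ _ _ _ _) ?_ Prod.fst ?_ (piY r t (b - r * t)) (sigmaX_semiconj _ _ _ _ _)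
  · rw [Fintype.card_prod, card_MY, card_MZ, ha]
    have : t * r + (b - r * t) = b := by
      have : t * r = r * t := mul_comm _ _
      omega
    rw [this, mul_comm]
  · rw [card_MY]
    have : t * r = r * t := mul_comm _ _
    omega
  · rw [card_support_sigmaX _ _ _ _ _ hcc, hc, ha]
    congr 1
    omega
  · intro y
    rw [card_fibre_fst, card_MZ, ha]

/-- Existence of a permutation of order `r` with exactly `c` cycles of length `r`. -/
theorem exists_perm {n r c : ℕ} (hr : r.Prime) (hc1 : 1 ≤ c) (hc : c * r ≤ n) :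
    ∃ σ : Perm (Fin n), orderOf σ = r ∧ σ.support.card = c * r := by
  classical
  have : Fact r.Prime := ⟨hr⟩
  have hX : Fintype.card (MY r 0 1 × MZ r c (n - c * r)) = n := by
    rw [Fintype.card_prod, card_MY, card_MZ]
    omega
  let e : MY r 0 1 × MZ r c (n - c * r) ≃ Fin n := Fintype.equivFinOfCardEq hX
  have hsupp : (e.permCongr (sigmaX r 0 1 c (n - c * r) c)).support.card = c * r := by
    rw [card_support_permCongr, card_support_sigmaX _ _ _ _ _ (by omega)]
    ring
  refine ⟨e.permCongr (sigmaX r 0 1 c (n - c * r) c), ?_, hsupp⟩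
  apply orderOf_eq_prime
  · rw [permCongr_pow, sigmaX_pow_r]
    ext x
    simp
  · intro h
    rw [h, Perm.support_one, Finset.card_empty] at hsupp
    have : 0 < c * r := Nat.mul_pos hc1 hr.pos
    omega

end Cfsg.Agent.Helper4.PartFix
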