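import Mathlib

set_option autoImplicit false

/-!
# The arithmetic of the intervals
-/

namespace Cfsg.Agent.Helper4.PartFix

theorem arith_core (r a1 ℓ b1 k : ℕ) (hr : 2 ≤ r) (hℓ : ℓ < r) (hk : k < r)
    (ha : 2 ≤ r * a1 + ℓ) (hb : 2 ≤ r * b1 + k) (hrab : r ≤ (r * a1 + ℓ) * (r * b1 + k)) :
    (∀ c, 1 ≤ c → c * r ≤ (r * a1 + ℓ) * (r * b1 + k) →
      ∃ t, r * t ≤ r * b1 + k ∧ t * (r * a1 + ℓ) ≤ c ∧
        c ≤ t * (r * a1 + ℓ) + (r * b1 + k - r * t) * a1) ↔
    (1 ≤ a1 ∧ ℓ * k < r ∧ (b1 = 0 ∨ ℓ ≤ k * a1 + 1)) := by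
  have hA : (r * a1 + ℓ) * (r * b1 + k) = r * (b1 * ℓ + (r * b1 + k) * a1) + ℓ * k := by ring
  -- general bound on the upper end of an interval
  have hend : ∀ t m, r * b1 + k = r * t + m →
      t * (r * a1 + ℓ) + m * a1 = t * ℓ + (r * b1 + k) * a1 := by
    intro t m hm
    rw [hm]; ring
  have htb : ∀ t, r * t ≤ r * b1 + k → t ≤ b1 := by
    intro t ht
    by_contra hlt
    push Not at hlt
    have : r * (b1 + 1) ≤ r * t := Nat.mul_le_mul_left r hlt
    have : r * (b1 + 1) = r * b1 + r := by ring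
    omega
  constructor
  · intro H
    refine ⟨?_, ?_, ?_⟩
    · -- 1 ≤ a1
      by_contra h0
      have h0' : a1 = 0 := by omega
      subst h0'
      obtain ⟨t, -, h1, h2⟩ := H 1 le_rfl (by simpa using hrab)
      simp only [mul_zero, zero_add, add_zero] at h1 h2 ha
      have : t * ℓ = 1 := le_antisymm h1 h2
      have : ℓ = 1 := Nat.eq_one_of_mul_eq_one_left this
      omega
    · -- ℓ * k < r
      by_contra hge
      push Not at hge
      set A := (r * a1 + ℓ) * (r * b1 + k) with hAdef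
      set U := b1 * ℓ + (r * b1 + k) * a1 with hU
      have hrpos : 0 < r := by omega
      have hc1 : 1 ≤ A / r := Nat.div_pos hrab hrpos
      have hc2 : A / r * r ≤ A := Nat.div_mul_le_self A r
      obtain ⟨t, ht, -, h2⟩ := H (A / r) hc1 hc2
      have htb1 := htb t ht
      obtain ⟨m, hm⟩ : ∃ m, r * b1 + k = r * t + m := ⟨r * b1 + k - r * t, by omega⟩
      have hm' : r * b1 + k - r * t = m := by omega
      rw [hm', hend t m hm] at h2
      have h3 : t * ℓ ≤ b1 * ℓ := Nat.mul_le_mul_right ℓ htb1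
      have h4 : A / r ≤ U := by omega
      have h5 : A < (A / r + 1) * r := by
        have := Nat.div_add_mod A r
        have := Nat.mod_lt A hrpos
        nlinarith
      have h6 : (A / r + 1) * r ≤ (U + 1) * r := Nat.mul_le_mul_right r (by omega)
      have h7 : (U + 1) * r = r * U + r := by ring
      omega
    · -- b1 = 0 ∨ ℓ ≤ k * a1 + 1
      by_contra hcon
      push Not at hcon
      obtain ⟨hb1, hℓ2⟩ := hcon
      have hb1' : 1 ≤ b1 := by omega
      have hba : 2 ≤ b1 * (r * a1 + ℓ) := by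
        calc 2 ≤ 1 * (r * a1 + ℓ) := by omega
          _ ≤ b1 * (r * a1 + ℓ) := Nat.mul_le_mul_right _ hb1'
      have hcr : (b1 * (r * a1 + ℓ) - 1) * r ≤ (r * a1 + ℓ) * (r * b1 + k) := by
        calc (b1 * (r * a1 + ℓ) - 1) * r ≤ (b1 * (r * a1 + ℓ)) * r :=
              Nat.mul_le_mul_right r (Nat.sub_le _ _)
          _ = (r * a1 + ℓ) * (r * b1) := by ring
          _ ≤ (r * a1 + ℓ) * (r * b1 + k) := Nat.mul_le_mul_left _ (Nat.le_add_right _ _)
      obtain ⟨t, ht, h1, h2⟩ := H (b1 * (r * a1 + ℓ) - 1) (by omega) hcr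
      have htlt : t < b1 := by
        have : t * (r * a1 + ℓ) < b1 * (r * a1 + ℓ) := by omega
        exact Nat.lt_of_mul_lt_mul_right this
      obtain ⟨m, hm⟩ : ∃ m, r * b1 + k = r * t + m := ⟨r * b1 + k - r * t, by omega⟩
      have hm' : r * b1 + k - r * t = m := by omega
      rw [hm', hend t m hm] at h2
      obtain ⟨d, hd⟩ : ∃ d, b1 = t + 1 + d := ⟨b1 - (t + 1), by omega⟩
      have e1 : b1 * (r * a1 + ℓ) = r * b1 * a1 + t * ℓ + ℓ + d * ℓ := by
        rw [hd]; ring
      have e2 : (r * b1 + k) * a1 = r * b1 * a1 + k * a1 := by ring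
      have e3 : 0 ≤ d * ℓ := Nat.zero_le _
      omega
  · rintro ⟨ha1, hℓk, hor⟩
    intro c hc1 hcr
    set a := r * a1 + ℓ with hadef
    have hapos : 0 < a := by omega
    set U := b1 * ℓ + (r * b1 + k) * a1 with hU
    have hrpos : 0 < r := by omega
    have hcU : c ≤ U := by
      have h1 : c * r < (U + 1) * r := by
        have : (U + 1) * r = r * U + r := by ring
        omega
      have := Nat.lt_of_mul_lt_mul_right h1
      omega
    have hq1 : c / a * a ≤ c := Nat.div_mul_le_self c a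
    have hq2 : c < a * (c / a + 1) := Nat.lt_mul_div_succ c hapos
    generalize c / a = q at hq1 hq2
    by_cases hcase : b1 ≤ q
    · refine ⟨b1, by omega, ?_, ?_⟩
      · calc b1 * a ≤ q * a := Nat.mul_le_mul_right a hcase
          _ ≤ c := hq1
      · have : r * b1 + k - r * b1 = k := by omega
        rw [this]
        have : b1 * a + k * a1 = U := by rw [hU, hadef]; ring
        omega
    · push Not at hcase
      refine ⟨q, ?_, hq1, ?_⟩
      · have : r * q ≤ r * b1 := Nat.mul_le_mul_left r hcase.le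
        omega
      · have hb1 : b1 ≠ 0 := by omega
        have hℓ' : ℓ ≤ k * a1 + 1 := hor.resolve_left hb1
        obtain ⟨d, hd⟩ : ∃ d, b1 = q + 1 + d := ⟨b1 - (q + 1), by omega⟩
        have hm : r * b1 + k - r * q = r + r * d + k := by
          rw [hd]
          have : r * (q + 1 + d) = r * q + r + r * d := by ring
          omega
        rw [hm]
        have e1 : a * (q + 1) = q * a + a := by ring
        have e2 : (r + r * d + k) * a1 = r * a1 + r * d * a1 + k * a1 := by ring
        have e3 : 0 ≤ r * d * a1 := Nat.zero_le _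
        omega

theorem arith (a b r : ℕ) (ha : 2 ≤ a) (hb : 2 ≤ b) (hr : r.Prime) (hrab : r ≤ a * b) :
    (∀ c, 1 ≤ c → c * r ≤ a * b →
      ∃ t, r * t ≤ b ∧ t * a ≤ c ∧ c ≤ t * a + (b - r * t) * (a / r)) ↔
    (r ≤ a ∧ (a % r = 0 ∨ (b % r = 0 ∧ a % r = 1) ∨
      (a % r ≠ 0 ∧ b % r ≠ 0 ∧ (b % r) * (a % r) < r ∧
        (b < r ∨ (b % r + r) * (a % r) ≤ (b % r) * a + r)))) := by
  have hr2 : 2 ≤ r := hr.two_le
  have hrpos : 0 < r := hr.pos
  have ha' : r * (a / r) + a % r = a := Nat.div_add_mod a r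
  have hb' : r * (b / r) + b % r = b := Nat.div_add_mod b r
  have hℓ : a % r < r := Nat.mod_lt a hrpos
  have hk : b % r < r := Nat.mod_lt b hrpos
  have core := arith_core r (a / r) (a % r) (b / r) (b % r) hr2 hℓ hk (by rw [ha']; exact ha)
    (by rw [hb']; exact hb) (by rw [ha', hb']; exact hrab)
  rw [ha', hb'] at core
  rw [core]
  generalize a / r = a1 at ha' ⊢
  generalize a % r = ℓ at ha' hℓ ⊢
  generalize b / r = b1 at hb' ⊢
  generalize b % r = k at hb' hk ⊢
  have h1 : 1 ≤ a1 ↔ r ≤ a := by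
    constructor
    · intro h
      have : r * 1 ≤ r * a1 := Nat.mul_le_mul_left r h
      omega
    · intro h
      by_contra h0
      have : a1 = 0 := by omega
      subst this
      omega
  have h2 : b1 = 0 ↔ b < r := by
    constructor
    · intro h; subst h; omega
    · intro h
      by_contra h0
      have : 1 ≤ b1 := by omega
      have : r * 1 ≤ r * b1 := Nat.mul_le_mul_left r this
      omega
  have h3 : (k + r) * ℓ ≤ k * a + r ↔ ℓ ≤ k * a1 + 1 := by
    have e1 : (k + r) * ℓ = k * ℓ + r * ℓ := by ring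
    have e2 : k * a + r = k * ℓ + r * (k * a1 + 1) := by rw [← ha']; ring
    rw [e1, e2]
    constructor
    · intro h
      have : r * ℓ ≤ r * (k * a1 + 1) := by omega
      exact Nat.le_of_mul_le_mul_left this hrpos
    · intro h
      have : r * ℓ ≤ r * (k * a1 + 1) := Nat.mul_le_mul_left r h
      omega
  rw [h1, h2]
  constructor
  · rintro ⟨hra, hlk, hor⟩
    refine ⟨hra, ?_⟩
    by_cases hl0 : ℓ = 0
    · exact Or.inl hl0
    · by_cases hk0 : k = 0
      · right; left
        refine ⟨hk0, ?_⟩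
        subst hk0
        rcases hor with hbr | hle
        · have hb10 := h2.mpr hbr
          subst hb10
          omega
        · omega
      · right; right
        refine ⟨hl0, hk0, by rw [mul_comm]; exact hlk, ?_⟩
        rcases hor with hbr | hle
        · exact Or.inl hbr
        · exact Or.inr (h3.mpr hle)
  · rintro ⟨hra, hcases⟩
    refine ⟨hra, ?_, ?_⟩
    · rcases hcases with h | ⟨hk0, -⟩ | ⟨-, -, h, -⟩
      · rw [h]; simpa using hrpos
      · rw [hk0]; simpa using hrpos
      · rw [mul_comm]; exact h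
    · rcases hcases with h | ⟨hk0, hl1⟩ | ⟨-, -, -, h⟩
      · right; rw [h]; omega
      · right; rw [hl1]; omega
      · rcases h with h | h
        · exact Or.inl h
        · exact Or.inr (h3.mp h)

end Cfsg.Agent.Helper4.PartFix
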