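import Mathlib
import Cfsg.Agent.Helper4.PiParts

/-!
The number `k_π` of conjugacy classes of π-elements is submultiplicative over normal subgroups:
`k_π(G) ≤ k_π(N) · k_π(G/N)`.
-/

namespace Cfsg.Agent.Helper4.PiClassCount

open Cfsg.Agent.Helper4.PiParts

variable (π : Set ℕ)

/-- number of commuting pairs whose first entry is a π-element. -/
noncomputable def PPi (X : Type*) [Group X] : ℕ :=
  Nat.card {p : X × X // IsPi π p.1 ∧ p.1 * p.2 = p.2 * p.1}

/-- the class predicate used in the statement. -/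
def ClassIsPi {X : Type*} [Group X] (C : ConjClasses X) : Prop :=
  ∀ q : ℕ, q.Prime → (∃ g : X, ConjClasses.mk g = C ∧ q ∣ orderOf g) → q ∈ π

theorem orderOf_conj' {X : Type*} [Group X] (c g : X) : orderOf (c * g * c⁻¹) = orderOf g := by
  have := (MulAut.conj c).orderOf_eq g
  simpa [MulAut.conj_apply] using this

theorem classIsPi_mk_iff {X : Type*} [Group X] (g : X) :
    ClassIsPi π (ConjClasses.mk g) ↔ IsPi π g := by
  constructor
  · intro h q hq hqd
    exact h q hq ⟨g, rfl, hqd⟩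
  · rintro h q hq ⟨g', hg', hqd⟩
    rw [ConjClasses.mk_eq_mk_iff_isConj, isConj_iff] at hg'
    obtain ⟨c, rfl⟩ := hg'
    apply h q hq
    rw [orderOf_conj' c g']
    exact hqd

/-- pairs `(g, h)` with `g` in a fixed class and `h ∈ C(g)` are in bijection with the group. -/
theorem card_pairs_class {X : Type*} [Group X] [Finite X] (C : ConjClasses X) :
    Nat.card {p : X × X // ConjClasses.mk p.1 = C ∧ p.1 * p.2 = p.2 * p.1} = Nat.card X := by
  classical
  obtain ⟨g0, rfl⟩ := ConjClasses.exists_rep C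
  have hc : ∀ g : X, ConjClasses.mk g = ConjClasses.mk g0 → ∃ c : X, c * g0 * c⁻¹ = g := by
    intro g hg
    rw [ConjClasses.mk_eq_mk_iff_isConj, isConj_comm, isConj_iff] at hg
    exact hg
  choose! cc hcc using hc
  apply Nat.card_eq_of_bijective
    (fun p : {p : X × X // ConjClasses.mk p.1 = ConjClasses.mk g0 ∧ p.1 * p.2 = p.2 * p.1} =>
      p.1.2 * cc p.1.1)
  constructor
  · rintro ⟨⟨g, h⟩, hg, hgh⟩ ⟨⟨g', h'⟩, hg', hgh'⟩ heq
    simp only at heq hg hg' hgh hgh'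
    have e1 : (h * cc g) * g0 * (h * cc g)⁻¹ = g := by
      calc (h * cc g) * g0 * (h * cc g)⁻¹ = h * (cc g * g0 * (cc g)⁻¹) * h⁻¹ := by group
        _ = h * g * h⁻¹ := by rw [hcc g hg]
        _ = g * h * h⁻¹ := by rw [hgh]
        _ = g := by group
    have e2 : (h' * cc g') * g0 * (h' * cc g')⁻¹ = g' := by
      calc (h' * cc g') * g0 * (h' * cc g')⁻¹ = h' * (cc g' * g0 * (cc g')⁻¹) * h'⁻¹ := by group
        _ = h' * g' * h'⁻¹ := by rw [hcc g' hg']
        _ = g' * h' * h'⁻¹ := by rw [hgh']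
        _ = g' := by group
    have hgg : g = g' := by rw [← e1, ← e2, heq]
    subst hgg
    have hhh : h = h' := mul_right_cancel heq
    subst hhh
    rfl
  · intro x
    have hmk : ConjClasses.mk (x * g0 * x⁻¹) = ConjClasses.mk g0 := by
      rw [ConjClasses.mk_eq_mk_iff_isConj, isConj_comm, isConj_iff]
      exact ⟨x, rfl⟩
    set g := x * g0 * x⁻¹ with hg
    refine ⟨⟨(g, x * (cc g)⁻¹), hmk, ?_⟩, ?_⟩
    · simp only
      have h1 : (cc g)⁻¹ * g * cc g = g0 := by
        have h0 := hcc g hmk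
        calc (cc g)⁻¹ * g * cc g = (cc g)⁻¹ * (cc g * g0 * (cc g)⁻¹) * cc g := by rw [h0]
          _ = g0 := by group
      calc g * (x * (cc g)⁻¹) = x * g0 * (cc g)⁻¹ := by rw [hg]; group
        _ = x * ((cc g)⁻¹ * g * cc g) * (cc g)⁻¹ := by rw [h1]
        _ = x * (cc g)⁻¹ * g := by group
    · simp only
      group

theorem classIsPi_of_mk_eq {X : Type*} [Group X] {C : ConjClasses X} (hC : ClassIsPi π C) {g : X}
    (hg : ConjClasses.mk g = C) : IsPi π g :=
  fun q hq hqd => hC q hq ⟨g, hg, hqd⟩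

/-- **Burnside count for π-classes**. -/
theorem pPi_eq {X : Type*} [Group X] [Finite X] :
    PPi π X = Nat.card {C : ConjClasses X // ClassIsPi π C} * Nat.card X := by
  classical
  have : Fintype {C : ConjClasses X // ClassIsPi π C} := Fintype.ofFinite _
  let e : {p : X × X // IsPi π p.1 ∧ p.1 * p.2 = p.2 * p.1} ≃
      Σ C : {C : ConjClasses X // ClassIsPi π C},
        {p : X × X // ConjClasses.mk p.1 = C.1 ∧ p.1 * p.2 = p.2 * p.1} :=
    { toFun := fun p => ⟨⟨ConjClasses.mk p.1.1, (classIsPi_mk_iff π p.1.1).2 p.2.1⟩,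
        ⟨p.1, rfl, p.2.2⟩⟩
      invFun := fun z => ⟨z.2.1, classIsPi_of_mk_eq π z.1.2 z.2.2.1, z.2.2.2⟩
      left_inv := by
        rintro ⟨p, h1, h2⟩
        rfl
      right_inv := by
        rintro ⟨⟨C, hC⟩, ⟨p, h1, h2⟩⟩
        simp only at h1
        subst h1
        rfl }
  rw [PPi, Nat.card_congr e, Nat.card_sigma]
  simp only [card_pairs_class, Finset.sum_const, Finset.card_univ, smul_eq_mul,
    Nat.card_eq_fintype_card]


section main

variable {G : Type*} [Group G] [Finite G] (N : Subgroup G) [N.Normal]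

/-- **Gallagher-type inequality for commuting π-pairs**. -/
theorem pPi_le : PPi π G ≤ PPi π N * PPi π (G ⧸ N) := by
  classical
  -- representatives of `C(g) ∩ (coset)`
  have hr : ∀ (g : G) (y : G ⧸ N), ∃ r : G,
      (∃ h' : G, g * h' = h' * g ∧ (h' : G ⧸ N) = y) → (g * r = r * g ∧ (r : G ⧸ N) = y) := by
    intro g y
    by_cases hex : ∃ h' : G, g * h' = h' * g ∧ (h' : G ⧸ N) = y
    · obtain ⟨h', h1, h2⟩ := hex
      exact ⟨h', fun _ => ⟨h1, h2⟩⟩
    · exact ⟨1, fun h => absurd h hex⟩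
  choose r hr using hr
  -- π-parts
  have hdec : ∀ n : G, ∃ ab : G × G, ab.1 ∈ Subgroup.zpowers n ∧ ab.2 ∈ Subgroup.zpowers n ∧
      IsPi π ab.1 ∧ IsPi' π ab.2 ∧ ab.1 * ab.2 = n := by
    intro n
    obtain ⟨a, b, h1, h2, h3, h4, h5⟩ := exists_decomp π n
    exact ⟨(a, b), h1, h2, h3, h4, h5⟩
  choose dec hdec1 hdec2 hdec3 hdec4 hdec5 using hdec
  -- commuting with n implies commuting with its powers
  have hcpow : ∀ (g n z : G), g * n = n * g → z ∈ Subgroup.zpowers n → g * z = z * g := by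
    intro g n z hgn hz
    obtain ⟨i, rfl⟩ := Subgroup.mem_zpowers_iff.1 hz
    exact ((show Commute g n from hgn).zpow_right i).eq
  have hmemN : ∀ (n z : G), n ∈ N → z ∈ Subgroup.zpowers n → z ∈ N := by
    intro n z hn hz
    exact (Subgroup.zpowers_le.2 hn) hz
  have hmk : ∀ (u v : G), ((u : G ⧸ N) = (v : G ⧸ N)) → u⁻¹ * v ∈ N := by
    intro u v h
    exact QuotientGroup.eq.1 h
  -- the data attached to a pair
  -- n := (r g (mk h))⁻¹ * h
  let nOf : G → G → G := fun g h => (r g (h : G ⧸ N))⁻¹ * h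
  have hn_spec : ∀ g h : G, g * h = h * g →
      (g * r g (h : G ⧸ N) = r g (h : G ⧸ N) * g ∧ ((r g (h : G ⧸ N) : G) : G ⧸ N) = (h : G ⧸ N)) :=
    fun g h hgh => hr g _ ⟨h, hgh, rfl⟩
  have hnN : ∀ g h : G, g * h = h * g → nOf g h ∈ N := by
    intro g h hgh
    exact hmk _ _ (hn_spec g h hgh).2
  have hncomm : ∀ g h : G, g * h = h * g → g * nOf g h = nOf g h * g := by
    intro g h hgh
    have h1 := (hn_spec g h hgh).1
    have h1' : Commute g (r g (h : G ⧸ N))⁻¹ := (show Commute g _ from h1).inv_right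
    exact (h1'.mul_right hgh).eq
  let aOf : G → G → G := fun g h => (dec (nOf g h)).1
  let bOf : G → G → G := fun g h => (dec (nOf g h)).2
  let h'Of : G → G → G := fun g h => g * bOf g h
  let n'Of : G → G → G := fun g h => (r (aOf g h) (g : G ⧸ N))⁻¹ * h'Of g h
  -- properties
  have haN : ∀ g h : G, g * h = h * g → aOf g h ∈ N :=
    fun g h hgh => hmemN _ _ (hnN g h hgh) (hdec1 _)
  have hbN : ∀ g h : G, g * h = h * g → bOf g h ∈ N :=
    fun g h hgh => hmemN _ _ (hnN g h hgh) (hdec2 _)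
  have hga : ∀ g h : G, g * h = h * g → g * aOf g h = aOf g h * g :=
    fun g h hgh => hcpow g _ _ (hncomm g h hgh) (hdec1 _)
  have hgb : ∀ g h : G, g * h = h * g → g * bOf g h = bOf g h * g :=
    fun g h hgh => hcpow g _ _ (hncomm g h hgh) (hdec2 _)
  have hab : ∀ g h : G, aOf g h * bOf g h = bOf g h * aOf g h := by
    intro g h
    obtain ⟨i, hi⟩ := Subgroup.mem_zpowers_iff.1 (hdec1 (nOf g h))
    obtain ⟨j, hj⟩ := Subgroup.mem_zpowers_iff.1 (hdec2 (nOf g h))
    change (dec (nOf g h)).1 * (dec (nOf g h)).2 = (dec (nOf g h)).2 * (dec (nOf g h)).1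
    rw [← hi, ← hj]
    exact ((Commute.refl (nOf g h)).zpow_zpow i j).eq
  have hah' : ∀ g h : G, g * h = h * g → aOf g h * h'Of g h = h'Of g h * aOf g h := by
    intro g h hgh
    change aOf g h * (g * bOf g h) = g * bOf g h * aOf g h
    rw [← mul_assoc, ← hga g h hgh, mul_assoc, hab g h, ← mul_assoc]
  have hh'mk : ∀ g h : G, g * h = h * g → ((h'Of g h : G) : G ⧸ N) = (g : G ⧸ N) := by
    intro g h hgh
    change ((g * bOf g h : G) : G ⧸ N) = (g : G ⧸ N)
    rw [QuotientGroup.mk_mul, (QuotientGroup.eq_one_iff _).2 (hbN g h hgh), mul_one]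
  have hn'_spec : ∀ g h : G, g * h = h * g →
      (aOf g h * r (aOf g h) (g : G ⧸ N) = r (aOf g h) (g : G ⧸ N) * aOf g h ∧
        ((r (aOf g h) (g : G ⧸ N) : G) : G ⧸ N) = (g : G ⧸ N)) :=
    fun g h hgh => hr _ _ ⟨h'Of g h, hah' g h hgh, hh'mk g h hgh⟩
  have hn'N : ∀ g h : G, g * h = h * g → n'Of g h ∈ N := by
    intro g h hgh
    apply hmk
    rw [(hn'_spec g h hgh).2, hh'mk g h hgh]
  have han' : ∀ g h : G, g * h = h * g → aOf g h * n'Of g h = n'Of g h * aOf g h := by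
    intro g h hgh
    have h1 := (hn'_spec g h hgh).1
    have h1' : Commute (aOf g h) (r (aOf g h) (g : G ⧸ N))⁻¹ := (show Commute _ _ from h1).inv_right
    exact (h1'.mul_right (hah' g h hgh)).eq
  have hpiN : ∀ (a : G) (ha : a ∈ N), IsPi π a → IsPi π (⟨a, ha⟩ : N) := by
    intro a ha h q hq hqd
    apply h q hq
    rw [← Subgroup.orderOf_coe] at hqd
    exact hqd
  -- the map
  let Ψ : {p : G × G // IsPi π p.1 ∧ p.1 * p.2 = p.2 * p.1} →
      {p : N × N // IsPi π p.1 ∧ p.1 * p.2 = p.2 * p.1} ×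
      {p : (G ⧸ N) × (G ⧸ N) // IsPi π p.1 ∧ p.1 * p.2 = p.2 * p.1} := fun p =>
    (⟨(⟨aOf p.1.1 p.1.2, haN _ _ p.2.2⟩, ⟨n'Of p.1.1 p.1.2, hn'N _ _ p.2.2⟩),
        hpiN _ _ (hdec3 _), Subtype.ext (han' _ _ p.2.2)⟩,
     ⟨((p.1.1 : G ⧸ N), (p.1.2 : G ⧸ N)), IsPi.map (QuotientGroup.mk' N) p.2.1, by
        change ((p.1.1 : G ⧸ N)) * (p.1.2 : G ⧸ N) = (p.1.2 : G ⧸ N) * (p.1.1 : G ⧸ N)
        rw [← QuotientGroup.mk_mul, ← QuotientGroup.mk_mul, p.2.2]⟩)
  have hinj : Function.Injective Ψ := by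
    rintro ⟨⟨g1, h1⟩, hp1, hc1⟩ ⟨⟨g2, h2⟩, hp2, hc2⟩ heq
    simp only at hp1 hc1 hp2 hc2
    have e1 := congrArg (fun z => ((z.1.1.1 : N) : G)) heq
    have e2 := congrArg (fun z => ((z.1.1.2 : N) : G)) heq
    have e3 := congrArg (fun z => z.2.1.1) heq
    have e4 := congrArg (fun z => z.2.1.2) heq
    simp only [Ψ] at e1 e2 e3 e4
    -- e1 : aOf g1 h1 = aOf g2 h2 ; e2 : n'Of .. = n'Of ..; e3 : mk g1 = mk g2; e4 : mk h1 = mk h2
    have eh' : h'Of g1 h1 = h'Of g2 h2 := by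
      have : n'Of g1 h1 = n'Of g2 h2 := e2
      change (r (aOf g1 h1) (g1 : G ⧸ N))⁻¹ * h'Of g1 h1
        = (r (aOf g2 h2) (g2 : G ⧸ N))⁻¹ * h'Of g2 h2 at this
      rw [e1, e3] at this
      exact mul_left_cancel this
    have huniq := decomp_unique (π := π) (show Commute g1 (bOf g1 h1) from hgb g1 h1 hc1)
      (show Commute g2 (bOf g2 h2) from hgb g2 h2 hc2) hp1 (hdec4 _) hp2 (hdec4 _) eh'
    obtain ⟨egg, ebb⟩ := huniq
    subst egg
    have en : nOf g1 h1 = nOf g1 h2 := by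
      rw [← hdec5 (nOf g1 h1), ← hdec5 (nOf g1 h2)]
      change aOf g1 h1 * bOf g1 h1 = aOf g1 h2 * bOf g1 h2
      rw [e1, ebb]
    have ehh : h1 = h2 := by
      change (r g1 (h1 : G ⧸ N))⁻¹ * h1 = (r g1 (h2 : G ⧸ N))⁻¹ * h2 at en
      rw [e4] at en
      exact mul_left_cancel en
    subst ehh
    rfl
  have := Nat.card_le_card_of_injective Ψ hinj
  rwa [Nat.card_prod] at this

/-- **`k_π(G) ≤ k_π(N) k_π(G/N)`**. -/
theorem kPi_le :
    Nat.card {C : ConjClasses G // ClassIsPi π C} ≤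
      Nat.card {C : ConjClasses N // ClassIsPi π C} *
        Nat.card {C : ConjClasses (G ⧸ N) // ClassIsPi π C} := by
  have h := pPi_le π N
  rw [pPi_eq π (X := G), pPi_eq π (X := N), pPi_eq π (X := G ⧸ N)] at h
  have hcard : Nat.card G = Nat.card N * Nat.card (G ⧸ N) := by
    rw [mul_comm]; exact Subgroup.card_eq_card_quotient_mul_card_subgroup N
  rw [hcard] at h
  have hpos : 0 < Nat.card N * Nat.card (G ⧸ N) := Nat.mul_pos Nat.card_pos Nat.card_pos
  have h2 : Nat.card {C : ConjClasses G // ClassIsPi π C} * (Nat.card N * Nat.card (G ⧸ N)) ≤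
      (Nat.card {C : ConjClasses N // ClassIsPi π C} *
        Nat.card {C : ConjClasses (G ⧸ N) // ClassIsPi π C}) * (Nat.card N * Nat.card (G ⧸ N)) := by
    calc _ ≤ _ := h
      _ = _ := by ring
  exact Nat.le_of_mul_le_mul_right h2 hpos

end main

end Cfsg.Agent.Helper4.PiClassCount
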