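import Mathlib
import Cfsg.Agent.Helper4.SylowBasic

set_option autoImplicit false

namespace Cfsg.Agent.Helper4

/-- A conjugacy class consisting of `π`-elements. -/
def IsPiClass (G : Type*) [Group G] (π : Set ℕ) (C : ConjClasses G) : Prop :=
  ∀ q : ℕ, q.Prime → (∃ g : G, ConjClasses.mk g = C ∧ q ∣ orderOf g) → q ∈ π

theorem orderOf_conj_eq {G : Type*} [Group G] (c g : G) : orderOf (c * g * c⁻¹) = orderOf g := by
  have := MulEquiv.orderOf_eq (MulAut.conj c) g
  rwa [MulAut.conj_apply] at this

theorem isPiClass_mk_iff {G : Type*} [Group G] (π : Set ℕ) (g : G) :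
    IsPiClass G π (ConjClasses.mk g) ↔ ∀ q : ℕ, q.Prime → q ∣ orderOf g → q ∈ π := by
  constructor
  · intro h q hq hqg
    exact h q hq ⟨g, rfl, hqg⟩
  · rintro h q hq ⟨g', hg', hqg'⟩
    rw [ConjClasses.mk_eq_mk_iff_isConj] at hg'
    obtain ⟨c, hc⟩ := isConj_iff.mp hg'
    have h1 : orderOf g = orderOf g' := by rw [← hc]; exact orderOf_conj_eq c g'
    rw [← h1] at hqg'
    exact h q hq hqg'

/-- Splitting a finite-order element into its `p`-part and `p'`-part. -/
theorem exists_ppart_decomposition {G : Type*} [Group G] [Finite G] (p : ℕ) (hp : p.Prime) (g : G) :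
    ∃ x y : G, x * y = g ∧ Commute x y ∧ (∃ k : ℕ, orderOf x = p ^ k) ∧ ¬ p ∣ orderOf y ∧
      orderOf y ∣ orderOf g := by
  have hn : orderOf g ≠ 0 := (orderOf_pos g).ne'
  set n := orderOf g with hn_def
  set a := n.factorization p with ha
  set r := n / p ^ a with hr
  have hnr : p ^ a * r = n := Nat.ordProj_mul_ordCompl_eq_self n p
  have hpr : ¬ p ∣ r := Nat.not_dvd_ordCompl hp hn
  have hcop : Nat.Coprime (p ^ a) r := Nat.Coprime.pow_left a ((Nat.Prime.coprime_iff_not_dvd hp).mpr hpr)
  have hbez := Int.gcd_eq_gcd_ab (p ^ a : ℕ) r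
  have hg1 : Int.gcd ((p ^ a : ℕ) : ℤ) (r : ℤ) = 1 := by
    rw [Int.gcd_natCast_natCast]; exact hcop
  rw [hg1] at hbez
  set u := Int.gcdA (p ^ a : ℕ) r
  set v := Int.gcdB (p ^ a : ℕ) r
  refine ⟨g ^ ((r : ℤ) * v), g ^ (((p ^ a : ℕ) : ℤ) * u), ?_, ?_, ?_, ?_, ?_⟩
  · rw [← zpow_add]
    have : (r : ℤ) * v + ((p ^ a : ℕ) : ℤ) * u = 1 := by rw [add_comm]; exact_mod_cast hbez.symm
    rw [this, zpow_one]
  · exact (Commute.refl g).zpow_zpow _ _
  · have h1 : (g ^ ((r : ℤ) * v)) ^ (p ^ a) = 1 := by
      rw [← zpow_natCast, ← zpow_mul]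
      have : (r : ℤ) * v * ((p ^ a : ℕ) : ℤ) = (n : ℤ) * v := by
        rw [← hnr]; push_cast; ring
      rw [this, zpow_mul, zpow_natCast, hn_def, pow_orderOf_eq_one, one_zpow]
    have h2 := orderOf_dvd_of_pow_eq_one h1
    obtain ⟨k, _, hk⟩ := (Nat.dvd_prime_pow hp).mp h2
    exact ⟨k, hk⟩
  · have h1 : (g ^ (((p ^ a : ℕ) : ℤ) * u)) ^ r = 1 := by
      rw [← zpow_natCast, ← zpow_mul]
      have : ((p ^ a : ℕ) : ℤ) * u * (r : ℤ) = (n : ℤ) * u := by
        rw [← hnr]; push_cast; ring
      rw [this, zpow_mul, zpow_natCast, hn_def, pow_orderOf_eq_one, one_zpow]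
    have h2 := orderOf_dvd_of_pow_eq_one h1
    intro h3
    exact hpr (h3.trans h2)
  · have h1 : (g ^ (((p ^ a : ℕ) : ℤ) * u)) ^ n = 1 := by
      rw [← zpow_natCast, ← zpow_mul, mul_comm, zpow_mul, zpow_natCast, hn_def, pow_orderOf_eq_one,
        one_zpow]
    exact orderOf_dvd_of_pow_eq_one h1

/-- Gluing a class of the centralizer of `x` to a class of `G`: `[y] ↦ [x * y]`. -/
noncomputable def glueClass {G : Type*} [Group G] (x : G) :
    ConjClasses (Subgroup.centralizer ({x} : Set G)) → ConjClasses G :=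
  Quotient.lift (fun y : Subgroup.centralizer ({x} : Set G) => ConjClasses.mk (x * (y : G))) (by
    intro y y' h
    have h' : IsConj y y' := h
    obtain ⟨c, hc⟩ := isConj_iff.mp h'
    rw [ConjClasses.mk_eq_mk_iff_isConj, isConj_iff]
    refine ⟨(c : G), ?_⟩
    have hcx : (c : G) * x = x * (c : G) := Subgroup.mem_centralizer_singleton_iff.mp c.2
    have hc' : (c : G) * (y : G) * (c : G)⁻¹ = (y' : G) := by
      have := congrArg Subtype.val hc
      simpa using this
    rw [← hc']
    calc (c : G) * (x * (y : G)) * (c : G)⁻¹ = ((c : G) * x) * (y : G) * (c : G)⁻¹ := by group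
      _ = x * ((c : G) * (y : G) * (c : G)⁻¹) := by rw [hcx]; group)

theorem glueClass_mk {G : Type*} [Group G] (x : G) (y : Subgroup.centralizer ({x} : Set G)) :
    glueClass x (ConjClasses.mk y) = ConjClasses.mk (x * (y : G)) := rfl

theorem card_piClasses_le_of_centralizers {G : Type*} [Group G] [Finite G] (π : Set ℕ) (p : ℕ)
    [hp : Fact p.Prime] (hpπ : p ∈ π) (P : Sylow p G) (B : ℕ)
    (hB : ∀ x : G, x ∈ P →
      Nat.card {D : ConjClasses (Subgroup.centralizer ({x} : Set G)) // IsPiClass _ (π \ {p}) D} ≤ B) :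
    Nat.card {C : ConjClasses G // IsPiClass G π C} ≤ Nat.card P * B := by
  classical
  have : Fintype P := Fintype.ofFinite P
  let T : P → Type _ := fun x =>
    {D : ConjClasses (Subgroup.centralizer ({(x : G)} : Set G)) // IsPiClass _ (π \ {p}) D}
  have hgood : ∀ (x : P) (D : T x), IsPiClass G π (glueClass (x : G) D.1) := by
    rintro ⟨x, hx⟩ ⟨D, hD⟩
    obtain ⟨y, rfl⟩ := ConjClasses.exists_rep D
    · change IsPiClass G π (glueClass x (ConjClasses.mk y))
      rw [glueClass_mk, isPiClass_mk_iff]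
      intro q hq hqd
      have hcomm : Commute x (y : G) := (Subgroup.mem_centralizer_singleton_iff.mp y.2).symm
      have h1 := hqd.trans hcomm.orderOf_mul_dvd_lcm
      have h2 := h1.trans (Nat.lcm_dvd_mul _ _)
      rcases (Nat.Prime.dvd_mul hq).mp h2 with h3 | h3
      · obtain ⟨k, hk⟩ := orderOf_eq_pow_of_mem_pgroup (P : Subgroup G) P.2 x hx
        rw [hk] at h3
        have := (Nat.prime_dvd_prime_iff_eq hq hp.out).mp (hq.dvd_of_dvd_pow h3)
        rw [this]; exact hpπ
      · have h4 := (isPiClass_mk_iff (π \ {p}) y).mp hD q hq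
        rw [Subgroup.orderOf_coe] at h3
        exact (h4 h3).1
  let f : (Σ x : P, T x) → {C : ConjClasses G // IsPiClass G π C} :=
    fun z => ⟨glueClass (z.1 : G) z.2.1, hgood z.1 z.2⟩
  have hf : Function.Surjective f := by
    rintro ⟨C, hC⟩
    obtain ⟨g, rfl⟩ := ConjClasses.exists_rep C
    · obtain ⟨x₀, y₀, hxy, hcomm, hx₀, hy₀, hy₀g⟩ := exists_ppart_decomposition p hp.out g
      obtain ⟨Q, hQ⟩ := exists_sylow_mem_of_orderOf_eq_pow x₀ hx₀
      obtain ⟨t, ht⟩ := sylow_exists_smul_eq Q P
      have hxP : t * x₀ * t⁻¹ ∈ P := by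
        rw [← ht, mem_sylow_smul_iff]
        have : t⁻¹ * (t * x₀ * t⁻¹) * t = x₀ := by group
        rw [this]; exact hQ
      have hyC : t * y₀ * t⁻¹ ∈ Subgroup.centralizer ({t * x₀ * t⁻¹} : Set G) := by
        rw [Subgroup.mem_centralizer_singleton_iff]
        have h1 : x₀ * y₀ = y₀ * x₀ := hcomm
        calc t * y₀ * t⁻¹ * (t * x₀ * t⁻¹) = t * (y₀ * x₀) * t⁻¹ := by group
          _ = t * (x₀ * y₀) * t⁻¹ := by rw [h1]
          _ = t * x₀ * t⁻¹ * (t * y₀ * t⁻¹) := by group
      have hD : IsPiClass _ (π \ {p})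
          (ConjClasses.mk (⟨t * y₀ * t⁻¹, hyC⟩ : Subgroup.centralizer ({t * x₀ * t⁻¹} : Set G))) := by
        rw [isPiClass_mk_iff]
        intro q hq hqd
        rw [← Subgroup.orderOf_coe] at hqd
        change q ∣ orderOf (t * y₀ * t⁻¹) at hqd
        rw [orderOf_conj_eq] at hqd
        refine ⟨(isPiClass_mk_iff π g).mp hC q hq (hqd.trans hy₀g), ?_⟩
        intro hqp
        rw [Set.mem_singleton_iff] at hqp
        rw [hqp] at hqd
        exact hy₀ hqd
      refine ⟨⟨⟨t * x₀ * t⁻¹, hxP⟩, ⟨ConjClasses.mk ⟨t * y₀ * t⁻¹, hyC⟩, hD⟩⟩, ?_⟩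
      apply Subtype.ext
      change glueClass (t * x₀ * t⁻¹) (ConjClasses.mk ⟨t * y₀ * t⁻¹, hyC⟩) = ConjClasses.mk g
      rw [glueClass_mk, ConjClasses.mk_eq_mk_iff_isConj, isConj_iff]
      refine ⟨t⁻¹, ?_⟩
      rw [← hxy]
      change t⁻¹ * (t * x₀ * t⁻¹ * (t * y₀ * t⁻¹)) * t⁻¹⁻¹ = x₀ * y₀
      group
  have h1 := Nat.card_le_card_of_surjective f hf
  have h2 : Nat.card (Σ x : P, T x) = ∑ x : P, Nat.card (T x) := Nat.card_sigma
  have h3 : ∑ x : P, Nat.card (T x) ≤ ∑ _x : P, B := by
    apply Finset.sum_le_sum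
    intro x _
    exact hB x x.2
  rw [Finset.sum_const, Finset.card_univ, smul_eq_mul, ← Nat.card_eq_fintype_card] at h3
  calc Nat.card {C : ConjClasses G // IsPiClass G π C} ≤ Nat.card (Σ x : P, T x) := h1
    _ = ∑ x : P, Nat.card (T x) := h2
    _ ≤ Nat.card P * B := h3

universe u

/-- The number of classes of `π`-elements is at most the `π`-part of the group order. -/
theorem card_piClasses_le (m : ℕ) : ∀ (G : Type u) [Group G] [Finite G] (π : Set ℕ),
    (∀ q ∈ π, q.Prime) → m ∣ Nat.card G → (∀ q : ℕ, q.Prime → q ∣ m → q ∈ π) →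
    (∀ q ∈ π, ¬ q ∣ Nat.card G / m) →
    Nat.card {C : ConjClasses G // IsPiClass G π C} ≤ m := by
  induction m using Nat.strong_induction_on with
  | _ m ih =>
    intro G _ _ π hπ hm hmπ hm'
    have hGpos : 0 < Nat.card G := Nat.card_pos
    have hmpos : 0 < m := Nat.pos_of_dvd_of_pos hm hGpos
    by_cases hm1 : m = 1
    · -- only the trivial class
      subst hm1
      have hsub : Subsingleton {C : ConjClasses G // IsPiClass G π C} := by
        constructor
        rintro ⟨C, hC⟩ ⟨C', hC'⟩
        apply Subtype.ext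
        have key : ∀ D : ConjClasses G, IsPiClass G π D → D = ConjClasses.mk 1 := by
          intro D hD
          obtain ⟨g, rfl⟩ := ConjClasses.exists_rep D
          have h1 : orderOf g = 1 := by
            by_contra hne
            obtain ⟨q, hq, hqd⟩ := Nat.exists_prime_and_dvd hne
            have hqπ := (isPiClass_mk_iff π g).mp hD q hq hqd
            apply hm' q hqπ
            rw [Nat.div_one]
            exact hqd.trans (orderOf_dvd_natCard g)
          rw [orderOf_eq_one_iff.mp h1]
        change C = C'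
        rw [key C hC, key C' hC']
      exact Finite.card_le_one_iff_subsingleton.mpr hsub
    · obtain ⟨p, hp, hpm⟩ := Nat.exists_prime_and_dvd hm1
      have : Fact p.Prime := ⟨hp⟩
      have hpπ : p ∈ π := hmπ p hp hpm
      obtain ⟨k, hk⟩ := hm
      have hkdiv : Nat.card G / m = k := by rw [hk]; exact Nat.mul_div_cancel_left k hmpos
      set m' := m / p ^ m.factorization p with hm'_def
      have hmm' : p ^ m.factorization p * m' = m := Nat.ordProj_mul_ordCompl_eq_self m p
      have hpm' : ¬ p ∣ m' := Nat.not_dvd_ordCompl hp hmpos.ne'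
      have hm'pos : 0 < m' := Nat.pos_of_ne_zero (by
        intro h0; rw [h0, mul_zero] at hmm'; omega)
      have ha1 : 1 ≤ m.factorization p :=
        (hp.dvd_iff_one_le_factorization hmpos.ne').mp hpm
      have hm'lt : m' < m := by
        have h2 : 2 ≤ p ^ m.factorization p := by
          calc 2 ≤ p := hp.two_le
            _ = p ^ 1 := (pow_one p).symm
            _ ≤ p ^ m.factorization p := Nat.pow_le_pow_right hp.pos ha1
        nlinarith
      have hm'G : m' ∣ Nat.card G := by
        rw [hk]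
        exact (Dvd.intro_left _ hmm').mul_right k
      have hπ' : ∀ q ∈ π \ {p}, q.Prime := fun q hq => hπ q hq.1
      have hm'π : ∀ q : ℕ, q.Prime → q ∣ m' → q ∈ π \ {p} := by
        intro q hq hqm'
        refine ⟨hmπ q hq (hqm'.trans (Dvd.intro_left _ hmm')), ?_⟩
        intro hqp
        rw [Set.mem_singleton_iff] at hqp
        rw [hqp] at hqm'
        exact hpm' hqm'
      have hGm' : Nat.card G / m' = p ^ m.factorization p * k := by
        apply Nat.div_eq_of_eq_mul_right hm'pos
        rw [hk]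
        calc m * k = p ^ m.factorization p * m' * k := by rw [hmm']
          _ = m' * (p ^ m.factorization p * k) := by ring
      have hm'' : ∀ q ∈ π \ {p}, ¬ q ∣ Nat.card G / m' := by
        intro q hq hqd
        rw [hGm'] at hqd
        have hqprime := hπ q hq.1
        rcases (Nat.Prime.dvd_mul hqprime).mp hqd with h1 | h1
        · have := (Nat.prime_dvd_prime_iff_eq hqprime hp).mp (hqprime.dvd_of_dvd_pow h1)
          exact hq.2 (by rw [Set.mem_singleton_iff]; exact this)
        · exact hm' q hq.1 (by rw [hkdiv]; exact h1)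
      -- a Sylow subgroup
      obtain ⟨P⟩ : Nonempty (Sylow p G) := inferInstance
      have hPcard : Nat.card P ∣ p ^ m.factorization p := by
        obtain ⟨j, hj⟩ := IsPGroup.iff_card.mp P.2
        have h1 : Nat.card P ∣ Nat.card G := Subgroup.card_subgroup_dvd_card _
        rw [hj]
        rw [hj, hk] at h1
        have hcop : Nat.Coprime (p ^ j) k := by
          apply Nat.Coprime.pow_left
          rw [Nat.Prime.coprime_iff_not_dvd hp]
          intro hpk
          exact hm' p hpπ (by rw [hkdiv]; exact hpk)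
        have h2 : p ^ j ∣ m := hcop.dvd_of_dvd_mul_right h1
        exact Nat.pow_dvd_pow p ((hp.pow_dvd_iff_le_factorization hmpos.ne').mp h2)
      -- bound for centralizers
      have hB : ∀ x : G, x ∈ P →
          Nat.card {D : ConjClasses (Subgroup.centralizer ({x} : Set G)) //
            IsPiClass _ (π \ {p}) D} ≤ m' := by
        intro x _
        set c := Nat.card (Subgroup.centralizer ({x} : Set G)) with hc
        have hcG : c ∣ Nat.card G := Subgroup.card_subgroup_dvd_card _
        have hcpos : 0 < c := Nat.card_pos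
        have hgpos : 0 < Nat.gcd c m' := Nat.gcd_pos_of_pos_left _ hcpos
        have hle : Nat.gcd c m' ≤ m' := Nat.le_of_dvd hm'pos (Nat.gcd_dvd_right _ _)
        have h1 := ih (Nat.gcd c m') (lt_of_le_of_lt hle hm'lt)
          (Subgroup.centralizer ({x} : Set G)) (π \ {p}) hπ' (Nat.gcd_dvd_left _ _)
          (fun q hq hqd => hm'π q hq (hqd.trans (Nat.gcd_dvd_right _ _)))
          (by
            intro q hq hqd
            apply hm'' q hq
            -- c / gcd c m' ∣ |G| / m'
            have h2 : c / Nat.gcd c m' ∣ Nat.card G / m' := by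
              have h3 : Nat.lcm c m' ∣ Nat.card G := Nat.lcm_dvd hcG hm'G
              have h4 : c / Nat.gcd c m' * m' = Nat.lcm c m' := by
                apply Nat.eq_of_mul_eq_mul_left hgpos
                rw [Nat.gcd_mul_lcm, ← mul_assoc, mul_comm (Nat.gcd c m'),
                  Nat.div_mul_cancel (Nat.gcd_dvd_left c m')]
              rw [← h4] at h3
              obtain ⟨e, he⟩ := h3
              rw [he]
              have : c / Nat.gcd c m' * m' * e = m' * (c / Nat.gcd c m' * e) := by ring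
              rw [this, Nat.mul_div_cancel_left _ hm'pos]
              exact Dvd.intro _ rfl
            exact hqd.trans h2)
        exact h1.trans hle
      have h5 := card_piClasses_le_of_centralizers π p hpπ P m' hB
      calc Nat.card {C : ConjClasses G // IsPiClass G π C} ≤ Nat.card P * m' := h5
        _ ≤ p ^ m.factorization p * m' :=
            Nat.mul_le_mul_right _ (Nat.le_of_dvd (pow_pos hp.pos _) hPcard)
        _ = m := hmm'

end Cfsg.Agent.Helper4
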