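import Mathlib

set_option autoImplicit false

namespace Cfsg.Agent.Helper4.Pit

open MonoidAlgebra

section A

variable {Q : Type*} [CommGroup Q] [Fintype Q]

/-- The norm element of the integral group ring. -/
noncomputable def nrm (Q : Type*) [CommGroup Q] [Fintype Q] : MonoidAlgebra ℤ Q :=
  ∑ q : Q, of ℤ Q q

/-- The augmentation map. -/
noncomputable def aug (Q : Type*) [CommGroup Q] : MonoidAlgebra ℤ Q →+* ℤ :=
  (lift ℤ ℤ Q (1 : Q →* ℤ)).toRingHom

theorem aug_of (q : Q) : aug Q (of ℤ Q q) = 1 := by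
  show (lift ℤ ℤ Q (1 : Q →* ℤ)) (of ℤ Q q) = 1
  rw [lift_of]; rfl

theorem aug_nrm : aug Q (nrm Q) = Fintype.card Q := by
  rw [nrm, map_sum]
  rw [Finset.sum_congr rfl (fun q _ => aug_of q)]
  simp

theorem of_mul_nrm (q : Q) : of ℤ Q q * nrm Q = nrm Q := by
  rw [nrm, Finset.mul_sum]
  simp_rw [← map_mul]
  exact Fintype.sum_equiv (Equiv.mulLeft q) _ _ (fun _ => rfl)

theorem coeff_nrm (p : Q) : (nrm Q).coeff p = 1 := by
  classical
  rw [nrm, coeff_sum, Finsupp.finset_sum_apply]
  simp only [of_apply, coeff_single, Finsupp.single_apply]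
  simp

theorem eq_smul_nrm (x : MonoidAlgebra ℤ Q) (h : ∀ q : Q, x * (of ℤ Q q - 1) = 0) :
    x = (x.coeff 1) • nrm Q := by
  have h1 : ∀ q : Q, x * of ℤ Q q = x := by
    intro q
    have := h q
    rw [mul_sub, mul_one, sub_eq_zero] at this
    exact this
  have h2 : ∀ p : Q, x.coeff p = x.coeff 1 := by
    intro p
    have := congrArg (fun y : MonoidAlgebra ℤ Q => y.coeff 1) (h1 p⁻¹)
    simp only [of_apply, coeff_mul_single_apply, inv_inv, one_mul, mul_one] at this
    exact this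
  rw [← coeff_inj]
  ext p
  rw [coeff_smul_apply, coeff_nrm, h2 p]
  simp

theorem eq_nrm (x : MonoidAlgebra ℤ Q) (h : ∀ q : Q, x * (of ℤ Q q - 1) = 0)
    (haug : aug Q x = Fintype.card Q) : x = nrm Q := by
  have h1 := eq_smul_nrm x h
  have h2 : aug Q x = x.coeff 1 * Fintype.card Q := by
    conv_lhs => rw [h1]
    rw [map_zsmul, aug_nrm, smul_eq_mul]
  rw [haug] at h2
  have hpos : (Fintype.card Q : ℤ) ≠ 0 := by
    exact_mod_cast Fintype.card_ne_zero
  have h3 : x.coeff 1 = 1 := by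
    have : (1 : ℤ) * Fintype.card Q = x.coeff 1 * Fintype.card Q := by rw [one_mul]; exact h2
    exact (mul_right_cancel₀ hpos this).symm
  rw [h1, h3, one_smul]

end A

/-- The adjugate trick for module-valued vectors. -/
theorem det_smul_eq_zero {R M ι : Type*} [CommRing R] [AddCommGroup M] [Module R M]
    [Fintype ι] [DecidableEq ι] (A : Matrix ι ι R) (X : ι → M)
    (h : ∀ i, ∑ j, A i j • X j = 0) (j : ι) : A.det • X j = 0 := by
  have h1 : ∑ l, (A.adjugate * A) j l • X l = A.det • X j := by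
    rw [Matrix.adjugate_mul]
    simp [Matrix.smul_apply, Matrix.one_apply, ite_smul]
  rw [← h1]
  simp_rw [Matrix.mul_apply, Finset.sum_smul, mul_smul]
  rw [Finset.sum_comm]
  simp_rw [← Finset.smul_sum, h, smul_zero]
  exact Finset.sum_const_zero

end Cfsg.Agent.Helper4.Pit
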