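import Mathlib
import Cfsg.Agent.Helper4.PitA

set_option autoImplicit false

namespace Cfsg.Agent.Helper4.Pit

open MonoidAlgebra
open scoped commutatorElement

/-- Cyclic decomposition data of a finite abelian group: generators `qk k` with `qk k ^ e k = 1`
and `|Q| = ∏ e k`. -/
theorem exists_cyclic_decomp (Q : Type*) [CommGroup Q] [Finite Q] :
    ∃ (κ : Type) (_ : Fintype κ) (e : κ → ℕ) (qk : κ → Q),
      (∀ k, qk k ^ e k = 1) ∧ Subgroup.closure (Set.range qk) = ⊤ ∧
      Nat.card Q = ∏ k, e k := by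
  classical
  obtain ⟨κ, hκ, e, he, ⟨Φ⟩⟩ := CommGroup.equiv_prod_multiplicative_zmod_of_finite Q
  haveI : ∀ k, NeZero (e k) := fun k => ⟨by have := he k; omega⟩
  let gen : κ → ((i : κ) → Multiplicative (ZMod (e i))) :=
    fun k => (Pi.mulSingle (M := fun i => Multiplicative (ZMod (e i))) k
      (Multiplicative.ofAdd (1 : ZMod (e k))))
  refine ⟨κ, hκ, e, fun k => Φ.symm (gen k), ?_, ?_, ?_⟩
  · intro k
    rw [← map_pow]
    have : gen k ^ e k = 1 := by
      show (Pi.mulSingle (M := fun i => Multiplicative (ZMod (e i))) k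
        (Multiplicative.ofAdd (1 : ZMod (e k)))) ^ e k = 1
      rw [← Pi.mulSingle_pow, ← ofAdd_nsmul]
      simp
    rw [this, map_one]
  · have hgen : Subgroup.closure (Set.range gen) = ⊤ := by
      rw [eq_top_iff]
      intro x _
      have hx : x = ∏ k, (Pi.mulSingle (M := fun i => Multiplicative (ZMod (e i))) k (x k)) :=
        (Finset.univ_prod_mulSingle x).symm
      rw [hx]
      apply Subgroup.prod_mem
      intro k _
      have h1 : x k = (Multiplicative.ofAdd (1 : ZMod (e k))) ^ (ZMod.val (Multiplicative.toAdd (x k))) := by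
        rw [← ofAdd_nsmul]
        simp
      rw [h1, Pi.mulSingle_pow]
      exact Subgroup.pow_mem _ (Subgroup.subset_closure (Set.mem_range_self k)) _
    have h2 : Set.range (fun k => Φ.symm (gen k)) = (Φ.symm : _ →* Q) '' (Set.range gen) := by
      ext y
      simp only [Set.mem_range, Set.mem_image]
      constructor
      · rintro ⟨k, rfl⟩; exact ⟨gen k, ⟨k, rfl⟩, rfl⟩
      · rintro ⟨_, ⟨k, rfl⟩, rfl⟩; exact ⟨k, rfl⟩
    rw [h2, ← MonoidHom.map_closure, hgen, ← MonoidHom.range_eq_map, MonoidHom.range_eq_top]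
    exact Φ.symm.surjective
  · rw [Nat.card_congr Φ.toEquiv, Nat.card_pi]
    apply Finset.prod_congr rfl
    intro k _
    show Nat.card (ZMod (e k)) = e k
    exact Nat.card_zmod (e k)

section B

variable {G : Type*} [Group G] {Q : Type*} [CommGroup Q]
variable {M : Type*} [AddCommGroup M] [Module (MonoidAlgebra ℤ Q) M]
variable (π : G →* Q) (D : G → M)

/-- Crossed homomorphisms with respect to `π`. -/
def IsDer : Prop := ∀ g h : G, D (g * h) = D g + of ℤ Q (π g) • D h

variable {π D}

theorem IsDer.d_one (hD : IsDer π D) : D 1 = 0 := by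
  have := hD 1 1
  rw [mul_one, map_one, map_one, one_smul] at this
  exact left_eq_add.mp this

theorem IsDer.d_inv (hD : IsDer π D) (g : G) : D g⁻¹ = -(of ℤ Q (π g)⁻¹ • D g) := by
  have := hD g⁻¹ g
  rw [inv_mul_cancel, hD.d_one, map_inv] at this
  exact eq_neg_of_add_eq_zero_left this.symm

theorem IsDer.d_pow (hD : IsDer π D) (g : G) (n : ℕ) :
    D (g ^ n) = (∑ i ∈ Finset.range n, of ℤ Q (π g) ^ i) • D g := by
  induction n with
  | zero => simp [hD.d_one]
  | succ n ih =>
    rw [pow_succ, hD, ih, Finset.sum_range_succ, add_smul, map_pow, map_pow]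

theorem IsDer.d_mul_of_ker (hD : IsDer π D) {a : G} (ha : π a = 1) (b : G) :
    D (a * b) = D a + D b := by
  rw [hD, ha, map_one, one_smul]

theorem IsDer.d_commutator (hD : IsDer π D) (x y : G) :
    D ⁅x, y⁆ = (1 - of ℤ Q (π y)) • D x - (1 - of ℤ Q (π x)) • D y := by
  rw [commutatorElement_def, hD, hD, hD, hD.d_inv, hD.d_inv]
  have h1 : π x * π y * (π x)⁻¹ * (π y)⁻¹ = 1 := by
    rw [mul_comm (π x) (π y), mul_assoc (π y), mul_inv_cancel, mul_one, mul_inv_cancel]
  have h2 : π x * π y * (π x)⁻¹ = π y := by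
    rw [mul_comm (π x) (π y), mul_assoc (π y), mul_inv_cancel, mul_one]
  simp only [_root_.map_mul π, _root_.map_inv π, smul_neg, smul_smul, sub_smul, one_smul,
    ← _root_.map_mul (of ℤ Q)]
  rw [h1, h2, _root_.map_one, one_smul]
  abel

/-- The basic derivation into the group ring. -/
theorem isDer_sub_one (π : G →* Q) :
    IsDer (M := MonoidAlgebra ℤ Q) π (fun g => of ℤ Q (π g) - 1) := by
  intro g h
  simp only [map_mul, smul_eq_mul]
  ring

theorem IsDer.prod {M' : Type*} [AddCommGroup M'] [Module (MonoidAlgebra ℤ Q) M'] {D' : G → M'}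
    (hD : IsDer π D) (hD' : IsDer π D') : IsDer π (fun g => (D g, D' g)) := by
  intro g h
  rw [Prod.ext_iff]
  exact ⟨hD g h, hD' g h⟩

end B

end Cfsg.Agent.Helper4.Pit
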