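import Mathlib
import Cfsg.Agent.Helper4.PitB

set_option autoImplicit false

namespace Cfsg.Agent.Helper4.Pit

open MonoidAlgebra
open scoped commutatorElement

section C

variable {G : Type*} [Group G] {Q : Type*} [CommGroup Q]

/-- A subgroup containing lifts of generators of `Q` and the kernel is everything. -/
theorem eq_top_of_gens (π : G →* Q) {κ : Type*} (qk : κ → Q)
    (hgen : Subgroup.closure (Set.range qk) = ⊤) (gk : κ → G) (hgk : ∀ k, π (gk k) = qk k)
    (S : Subgroup G) (h1 : ∀ k, gk k ∈ S) (h2 : π.ker ≤ S) : S = ⊤ := by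
  rw [eq_top_iff]
  intro g _
  have hmap : S.map π = ⊤ := by
    rw [eq_top_iff, ← hgen, Subgroup.closure_le]
    rintro _ ⟨k, rfl⟩
    exact ⟨gk k, h1 k, hgk k⟩
  have hg : π g ∈ S.map π := by rw [hmap]; trivial
  obtain ⟨s, hs, hsg⟩ := hg
  have hk : s⁻¹ * g ∈ π.ker := by
    rw [MonoidHom.mem_ker, map_mul, map_inv, hsg, inv_mul_cancel]
  have : g = s * (s⁻¹ * g) := by group
  rw [this]
  exact S.mul_mem hs (h2 hk)

variable [Fintype Q] [Finite G]
variable {M : Type*} [AddCommGroup M] [Module (MonoidAlgebra ℤ Q) M]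

theorem aug_one_sub_of (q : Q) : (1 - of ℤ Q q) ∈ RingHom.ker (aug Q) := by
  rw [RingHom.mem_ker, map_sub, map_one, aug_of, sub_self]

/-- The abstract principal ideal theorem: the norm element kills every crossed homomorphism
of `G` with values in a module over the group ring of `G/G'`. -/
theorem nrm_smul_der (π : G →* Q) (hπ : Function.Surjective π) (hker : π.ker = commutator G)
    (D : G → M) (hD : IsDer π D) (g : G) : nrm Q • D g = 0 := by
  classical
  obtain ⟨κ, hκ, e, qk, hpow, hgen, hcard⟩ := exists_cyclic_decomp Q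
  choose gk hgk using fun k => hπ (qk k)
  -- the product derivation
  obtain ⟨D', hD'def⟩ : ∃ D' : G → M × MonoidAlgebra ℤ Q,
      D' = fun g => (D g, of ℤ Q (π g) - 1) := ⟨_, rfl⟩
  have hD' : IsDer π D' := by
    rw [hD'def]; exact hD.prod (isDer_sub_one π)
  have hD'1 : ∀ g, (D' g).1 = D g := by intro g; rw [hD'def]
  have hD'2 : ∀ g, (D' g).2 = of ℤ Q (π g) - 1 := by intro g; rw [hD'def]
  obtain ⟨H, hH⟩ : ∃ H : Subgroup G, H = commutator G := ⟨_, rfl⟩
  haveI : Fintype H := Fintype.ofFinite _
  have hHker : ∀ a : H, π (a : G) = 1 := by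
    intro a
    have : (a : G) ∈ π.ker := by rw [hker, ← hH]; exact a.2
    exact this
  obtain ⟨u, hu⟩ : ∃ u : κ ⊕ H → G, u = Sum.elim gk (fun a : H => (a : G)) := ⟨_, rfl⟩
  obtain ⟨X, hX⟩ : ∃ X : κ ⊕ H → M × MonoidAlgebra ℤ Q, X = fun j => D' (u j) := ⟨_, rfl⟩
  have hXl : ∀ k, X (Sum.inl k) = D' (gk k) := by intro k; rw [hX, hu]; rfl
  have hXr : ∀ a : H, X (Sum.inr a) = D' (a : G) := by intro a; rw [hX, hu]; rfl
  obtain ⟨T, hT⟩ : ∃ T : Submodule (MonoidAlgebra ℤ Q) (M × MonoidAlgebra ℤ Q),
      T = Submodule.span _ (Set.range X) := ⟨_, rfl⟩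
  have hXT : ∀ j, X j ∈ T := by
    intro j; rw [hT]; exact Submodule.subset_span (Set.mem_range_self j)
  -- every value of `D'` lies in `T`
  have hDT : ∀ g, D' g ∈ T := by
    let S : Subgroup G :=
      { carrier := {g | D' g ∈ T}
        one_mem' := by
          show D' 1 ∈ T
          rw [hD'.d_one]; exact T.zero_mem
        mul_mem' := by
          intro a b ha hb
          show D' (a * b) ∈ T
          rw [hD' a b]
          exact T.add_mem ha (T.smul_mem _ hb)
        inv_mem' := by
          intro a ha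
          show D' a⁻¹ ∈ T
          rw [hD'.d_inv]
          exact T.neg_mem (T.smul_mem _ ha) }
    have hS : S = ⊤ := by
      apply eq_top_of_gens π qk hgen gk hgk
      · intro k
        show D' (gk k) ∈ T
        rw [← hXl]; exact hXT _
      · intro a ha
        rw [hker, ← hH] at ha
        show D' a ∈ T
        have := hXr ⟨a, ha⟩
        rw [← this]; exact hXT _
    intro g
    have : g ∈ S := by rw [hS]; trivial
    exact this
  -- values on `H` lie in `I • T`
  obtain ⟨I, hI⟩ : ∃ I : Ideal (MonoidAlgebra ℤ Q), I = RingHom.ker (aug Q) := ⟨_, rfl⟩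
  have hDI : ∀ a : H, D' (a : G) ∈ I • T := by
    let K : Subgroup G :=
      { carrier := {g | π g = 1 ∧ D' g ∈ I • T}
        one_mem' := by
          refine ⟨map_one π, ?_⟩
          rw [hD'.d_one]; exact (I • T).zero_mem
        mul_mem' := by
          rintro a b ⟨ha1, ha2⟩ ⟨hb1, hb2⟩
          refine ⟨by rw [map_mul, ha1, hb1, one_mul], ?_⟩
          rw [hD'.d_mul_of_ker ha1]
          exact (I • T).add_mem ha2 hb2
        inv_mem' := by
          rintro a ⟨ha1, ha2⟩
          refine ⟨by rw [map_inv, ha1, inv_one], ?_⟩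
          rw [hD'.d_inv, ha1, inv_one, map_one, one_smul]
          exact (I • T).neg_mem ha2 }
    have hK : commutator G ≤ K := by
      rw [commutator_eq_closure, Subgroup.closure_le]
      rintro _ ⟨x, y, rfl⟩
      refine ⟨?_, ?_⟩
      · rw [map_commutatorElement]
        exact commutatorElement_eq_one_iff_commute.2 (Commute.all _ _)
      · rw [hD'.d_commutator]
        apply (I • T).sub_mem
        · apply Submodule.smul_mem_smul _ (hDT x)
          rw [hI]; exact aug_one_sub_of _
        · apply Submodule.smul_mem_smul _ (hDT y)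
          rw [hI]; exact aug_one_sub_of _
    intro a
    have : (a : G) ∈ K := hK (hH ▸ a.2)
    exact this.2
  -- coefficients
  have hc : ∀ a : H, ∃ c : κ ⊕ H → MonoidAlgebra ℤ Q,
      (∀ j, c j ∈ I) ∧ ∑ j, c j • X j = D' (a : G) := by
    intro a
    have h := hDI a
    rw [hT, Submodule.mem_ideal_smul_span_iff_exists_sum] at h
    obtain ⟨f, hf, hsum⟩ := h
    refine ⟨fun j => f j, hf, ?_⟩
    rw [← hsum, Finsupp.sum_fintype]
    intro j; exact zero_smul _ _
  choose c hcI hcsum using hc
  -- the elements `a_k`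
  have hak : ∀ k, gk k ^ e k ∈ H := by
    intro k
    rw [hH, ← hker, MonoidHom.mem_ker, map_pow, hgk, hpow]
  obtain ⟨Nk, hNk⟩ : ∃ Nk : κ → MonoidAlgebra ℤ Q,
      Nk = fun k => ∑ i ∈ Finset.range (e k), of ℤ Q (qk k) ^ i := ⟨_, rfl⟩
  -- the relation matrix
  obtain ⟨Mtx, hMtx⟩ : ∃ Mtx : Matrix (κ ⊕ H) (κ ⊕ H) (MonoidAlgebra ℤ Q),
      Mtx = Matrix.fromBlocks (Matrix.diagonal Nk)
        (Matrix.of fun (k : κ) (b : H) =>
          if b = ⟨gk k ^ e k, hak k⟩ then (-1 : MonoidAlgebra ℤ Q) else 0 :
            Matrix κ H (MonoidAlgebra ℤ Q))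
        (Matrix.of fun (a : H) (k : κ) => - c a (Sum.inl k) : Matrix H κ (MonoidAlgebra ℤ Q))
        (Matrix.of fun (a b : H) =>
          (if a = b then (1 : MonoidAlgebra ℤ Q) else 0) - c a (Sum.inr b) :
            Matrix H H (MonoidAlgebra ℤ Q)) :=
    ⟨_, rfl⟩
  have hrel : ∀ i, ∑ j, Mtx i j • X j = 0 := by
    intro i
    rw [Fintype.sum_sum_type]
    rcases i with k | a
    · simp only [hMtx, Matrix.fromBlocks_apply₁₁, Matrix.fromBlocks_apply₁₂, Matrix.of_apply,
        Matrix.diagonal_apply, ite_smul, zero_smul, neg_smul, one_smul]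
      rw [Finset.sum_ite_eq Finset.univ k, Finset.sum_ite_eq' Finset.univ]
      simp only [Finset.mem_univ, if_true]
      rw [hXl, hXr, hNk]
      show _ + -D' (gk k ^ e k) = 0
      rw [hD'.d_pow, hgk]
      exact add_neg_cancel _
    · simp only [hMtx, Matrix.fromBlocks_apply₂₁, Matrix.fromBlocks_apply₂₂, Matrix.of_apply,
        sub_smul, ite_smul, zero_smul, neg_smul, one_smul]
      rw [Finset.sum_sub_distrib, Finset.sum_ite_eq Finset.univ a, Finset.sum_neg_distrib]
      simp only [Finset.mem_univ, if_true]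
      have := hcsum a
      rw [Fintype.sum_sum_type] at this
      rw [hXr, ← this]
      abel
  have hdet := det_smul_eq_zero Mtx X hrel
  -- the augmentation of the determinant
  have haugNk : ∀ k, aug Q (Nk k) = (e k : ℤ) := by
    intro k
    rw [hNk]
    simp only [map_sum, map_pow, aug_of, one_pow, Finset.sum_const, Finset.card_range,
      nsmul_eq_mul, mul_one]
  have haug : aug Q Mtx.det = Fintype.card Q := by
    rw [RingHom.map_det]
    have hmap : (aug Q).mapMatrix Mtx = Matrix.fromBlocks (Matrix.diagonal fun k => (e k : ℤ))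
        ((Matrix.of fun (k : κ) (b : H) =>
          if b = ⟨gk k ^ e k, hak k⟩ then (-1 : MonoidAlgebra ℤ Q) else 0 :
            Matrix κ H (MonoidAlgebra ℤ Q)).map (aug Q)) 0 1 := by
      rw [hMtx, RingHom.mapMatrix_apply, Matrix.fromBlocks_map]
      congr 1
      · rw [Matrix.diagonal_map (map_zero _)]
        congr 1
        funext k
        exact haugNk k
      · ext a k
        simp only [Matrix.map_apply, Matrix.of_apply, map_neg, Matrix.zero_apply, neg_eq_zero]
        have := hcI a (Sum.inl k)
        rw [hI, RingHom.mem_ker] at this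
        exact this
      · ext a b
        simp only [Matrix.map_apply, Matrix.of_apply, map_sub, Matrix.one_apply]
        have := hcI a (Sum.inr b)
        rw [hI, RingHom.mem_ker] at this
        rw [this, sub_zero]
        split_ifs <;> simp
    rw [hmap, Matrix.det_fromBlocks_zero₂₁, Matrix.det_diagonal, Matrix.det_one, mul_one]
    rw [← Nat.card_eq_fintype_card, hcard]
    push_cast
    rfl
  -- the determinant kills the augmentation ideal
  have hΔ : ∀ q : Q, Mtx.det * (of ℤ Q q - 1) = 0 := by
    let S : Subgroup Q :=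
      { carrier := {q | Mtx.det * (of ℤ Q q - 1) = 0}
        one_mem' := by
          show Mtx.det * (of ℤ Q 1 - 1) = 0
          rw [map_one, sub_self, mul_zero]
        mul_mem' := by
          intro p q hp hq
          show Mtx.det * (of ℤ Q (p * q) - 1) = 0
          have : of ℤ Q (p * q) - 1 = (of ℤ Q p - 1) * of ℤ Q q + (of ℤ Q q - 1) := by
            rw [map_mul]; ring
          rw [this, mul_add, ← mul_assoc, show Mtx.det * (of ℤ Q p - 1) = 0 from hp,
            show Mtx.det * (of ℤ Q q - 1) = 0 from hq, zero_mul, add_zero]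
        inv_mem' := by
          intro q hq
          show Mtx.det * (of ℤ Q q⁻¹ - 1) = 0
          have : of ℤ Q q⁻¹ - 1 = -(of ℤ Q q⁻¹) * (of ℤ Q q - 1) := by
            rw [neg_mul, mul_sub, ← map_mul, inv_mul_cancel, map_one, mul_one]; ring
          rw [this, mul_comm (-(of ℤ Q q⁻¹)), ← mul_assoc,
            show Mtx.det * (of ℤ Q q - 1) = 0 from hq, zero_mul] }
    have hS : S = ⊤ := by
      rw [eq_top_iff, ← hgen, Subgroup.closure_le]
      rintro _ ⟨k, rfl⟩
      show Mtx.det * (of ℤ Q (qk k) - 1) = 0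
      have := congrArg Prod.snd (hdet (Sum.inl k))
      rw [hXl, Prod.smul_snd, hD'2, hgk] at this
      exact this
    intro q
    have : q ∈ S := by rw [hS]; trivial
    exact this
  have hN : Mtx.det = nrm Q := eq_nrm _ hΔ haug
  -- conclusion
  let S : Subgroup G :=
    { carrier := {g | nrm Q • D g = 0}
      one_mem' := by
        show nrm Q • D 1 = 0
        rw [hD.d_one, smul_zero]
      mul_mem' := by
        intro a b ha hb
        show nrm Q • D (a * b) = 0
        rw [hD a b, smul_add, smul_comm,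
          show nrm Q • D a = 0 from ha, show nrm Q • D b = 0 from hb, smul_zero, add_zero]
      inv_mem' := by
        intro a ha
        show nrm Q • D a⁻¹ = 0
        rw [hD.d_inv, smul_neg, smul_comm, show nrm Q • D a = 0 from ha, smul_zero, neg_zero] }
  have hS : S = ⊤ := by
    apply eq_top_of_gens π qk hgen gk hgk
    · intro k
      show nrm Q • D (gk k) = 0
      have := congrArg Prod.fst (hdet (Sum.inl k))
      rw [hXl, Prod.smul_fst, hD'1, hN] at this
      exact this
    · intro a ha
      rw [hker, ← hH] at ha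
      show nrm Q • D a = 0
      have := congrArg Prod.fst (hdet (Sum.inr ⟨a, ha⟩))
      rw [hXr, Prod.smul_fst, hD'1, hN] at this
      exact this
  have : g ∈ S := by rw [hS]; trivial
  exact this

end C

end Cfsg.Agent.Helper4.Pit
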