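import Mathlib
import Cfsg.Agent.Helper4.PitC

set_option autoImplicit false

namespace Cfsg.Agent.Helper4.Pit

open MonoidAlgebra

/-- The wreath module: functions on `Q` with values in an additive abelian group, `Q` acting by
translation. -/
def Wr (Q B : Type*) := Q → B

section Wr

variable {Q B : Type*} [CommGroup Q] [AddCommGroup B]

instance : AddCommGroup (Wr Q B) := inferInstanceAs (AddCommGroup (Q → B))

/-- translation -/
def trans (p : Q) : Module.End ℤ (Wr Q B) where
  toFun ψ := fun q => ψ (p⁻¹ * q)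
  map_add' _ _ := rfl
  map_smul' _ _ := rfl

/-- translation as a monoid hom -/
def transHom : Q →* Module.End ℤ (Wr Q B) where
  toFun := trans
  map_one' := by
    apply LinearMap.ext
    intro ψ
    funext q
    show ψ (1⁻¹ * q) = ψ q
    rw [inv_one, one_mul]
  map_mul' p p' := by
    apply LinearMap.ext
    intro ψ
    funext q
    show ψ ((p * p')⁻¹ * q) = ψ (p'⁻¹ * (p⁻¹ * q))
    rw [mul_inv_rev, mul_assoc]

noncomputable instance : Module (MonoidAlgebra ℤ Q) (Wr Q B) :=
  Module.compHom (Wr Q B) (lift ℤ (Module.End ℤ (Wr Q B)) Q transHom).toRingHom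

theorem of_smul_apply (p : Q) (ψ : Wr Q B) (q : Q) : (of ℤ Q p • ψ) q = ψ (p⁻¹ * q) := by
  show ((lift ℤ (Module.End ℤ (Wr Q B)) Q transHom) (of ℤ Q p)) ψ q = ψ (p⁻¹ * q)
  rw [lift_of]
  rfl

theorem nrm_smul_apply [Fintype Q] (ψ : Wr Q B) (q : Q) : (nrm Q • ψ) q = ∑ p, ψ p := by
  rw [nrm, Finset.sum_smul]
  have : (∑ p : Q, of ℤ Q p • ψ) q = ∑ p : Q, (of ℤ Q p • ψ) q := by
    show (∑ p : Q, of ℤ Q p • ψ : Q → B) q = _
    exact Finset.sum_apply q Finset.univ (fun p => (of ℤ Q p • ψ : Q → B))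
  rw [this]
  simp_rw [of_smul_apply]
  exact Fintype.sum_equiv ((Equiv.inv Q).trans (Equiv.mulRight q)) _ _ (fun _ => rfl)

end Wr

end Cfsg.Agent.Helper4.Pit
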