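import Mathlib
import Cfsg.Agent.Helper4.PitD

set_option autoImplicit false

namespace Cfsg.Agent.Helper4.Pit

open MonoidAlgebra

section E

variable {G : Type*} [Group G]

/-- A section of the abelianization map. -/
noncomputable def sec (q : Abelianization G) : G := Quotient.out q

theorem of_sec (q : Abelianization G) : Abelianization.of (sec q) = q :=
  QuotientGroup.out_eq' q

theorem phi_mem (g : G) (q : Abelianization G) :
    (sec q)⁻¹ * g * sec ((Abelianization.of g)⁻¹ * q) ∈ commutator G := by
  rw [← Abelianization.ker_of, MonoidHom.mem_ker, map_mul, map_mul, map_inv, of_sec, of_sec]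
  group

/-- The crossed homomorphism attached to the section. -/
noncomputable def phi (g : G) :
    Wr (Abelianization G) (Additive (Abelianization ↥(commutator G))) :=
  fun q => Additive.ofMul (Abelianization.of
    (⟨(sec q)⁻¹ * g * sec ((Abelianization.of g)⁻¹ * q), phi_mem g q⟩ : ↥(commutator G)))

theorem isDer_phi : IsDer (Abelianization.of : G →* Abelianization G) (phi (G := G)) := by
  intro g h
  funext q
  show phi (g * h) q = phi g q + (of ℤ (Abelianization G) (Abelianization.of g) • phi h) q
  rw [of_smul_apply]
  show Additive.ofMul _ = Additive.ofMul _ + Additive.ofMul _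
  rw [← ofMul_mul, ← map_mul]
  congr 2
  apply Subtype.ext
  show (sec q)⁻¹ * (g * h) * sec ((Abelianization.of (g * h))⁻¹ * q) =
    ((sec q)⁻¹ * g * sec ((Abelianization.of g)⁻¹ * q)) *
      ((sec ((Abelianization.of g)⁻¹ * q))⁻¹ * h *
        sec ((Abelianization.of h)⁻¹ * ((Abelianization.of g)⁻¹ * q)))
  have : (Abelianization.of (g * h))⁻¹ * q =
      (Abelianization.of h)⁻¹ * ((Abelianization.of g)⁻¹ * q) := by
    rw [map_mul, mul_inv_rev, mul_assoc]
  rw [this]
  group

variable [Finite G]

theorem ofMul_transfer (g : G) :
    letI : Fintype (Abelianization G) := (commutator G).fintypeQuotientOfFiniteIndex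
    Additive.ofMul (MonoidHom.transfer
      (Abelianization.of : ↥(commutator G) →* Abelianization ↥(commutator G)) g) =
      ∑ q : Abelianization G, phi g q := by
  have hs : ∀ q : G ⧸ commutator G, ((sec q : G) : G ⧸ commutator G) = q := of_sec
  let T : (commutator G).LeftTransversal :=
    ⟨Set.range (sec (G := G)), Subgroup.isComplement_range_left hs⟩
  rw [MonoidHom.transfer_def _ T g]
  unfold Subgroup.leftTransversals.diff
  simp only
  rw [ofMul_prod]
  refine Finset.sum_congr rfl ?_
  intro q _
  show Additive.ofMul _ = Additive.ofMul _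
  congr 2
  apply Subtype.ext
  show ((T.2.leftQuotientEquiv q : G))⁻¹ * ((g • T).2.leftQuotientEquiv q : G) =
    (sec q)⁻¹ * g * sec ((Abelianization.of g)⁻¹ * (show Abelianization G from q))
  rw [Subgroup.smul_apply_eq_smul_apply_inv_smul, smul_eq_mul]
  have h1 : ∀ q', (T.2.leftQuotientEquiv q' : G) = sec q' :=
    fun q' => Subgroup.IsComplement.leftQuotientEquiv_apply hs q'
  rw [h1, h1, mul_assoc]
  congr 3

/-- **The principal ideal theorem**: the transfer `G → G'/G''` is trivial. -/
theorem transfer_commutator_eq_one :
    MonoidHom.transfer (Abelianization.of : ↥(commutator G) →* Abelianization ↥(commutator G)) =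
      (1 : G →* Abelianization ↥(commutator G)) := by
  classical
  letI : Fintype (Abelianization G) := (commutator G).fintypeQuotientOfFiniteIndex
  ext g
  rw [MonoidHom.one_apply]
  have h1 := ofMul_transfer g
  have h2 := nrm_smul_der (Abelianization.of : G →* Abelianization G)
    (QuotientGroup.mk_surjective) (Abelianization.ker_of G) phi isDer_phi g
  have h3 := congrFun h2 1
  rw [nrm_smul_apply] at h3
  have h4 : Additive.ofMul (MonoidHom.transfer
      (Abelianization.of : ↥(commutator G) →* Abelianization ↥(commutator G)) g) = 0 := by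
    rw [h1]
    exact h3
  exact h4

end E

end Cfsg.Agent.Helper4.Pit
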