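import Mathlib

set_option autoImplicit false

/-!
Polynomial sequences `ℕ → G` adapted to a filtration (Lazard–Leibman style), used to get the
Hall–Petresco type expansion of `(ab)^n`.
-/

namespace Cfsg.Agent.Helper4.PolySeq

open scoped commutatorElement

variable {G : Type*} [Group G]

/-- discrete derivative of a sequence -/
def D (φ : ℕ → G) : ℕ → G := fun n => (φ n)⁻¹ * φ (n + 1)

/-- a filtration: descending, with `[F i, F j] ≤ F (i+j)` -/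
structure Filt (F : ℕ → Subgroup G) : Prop where
  anti : ∀ i, F (i + 1) ≤ F i
  comm : ∀ i j, ⁅F i, F j⁆ ≤ F (i + j)

theorem Filt.anti_add {F : ℕ → Subgroup G} (hF : Filt F) (i k : ℕ) : F (i + k) ≤ F i := by
  induction k with
  | zero => exact le_rfl
  | succ k ih => exact (hF.anti (i + k)).trans ih

/-- `Q F m j φ`: the first `m` derivatives `D^i φ` take values in `F (j+i)`. -/
def Q (F : ℕ → Subgroup G) : ℕ → ℕ → (ℕ → G) → Prop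
  | 0, j, φ => ∀ n, φ n ∈ F j
  | m + 1, j, φ => (∀ n, φ n ∈ F j) ∧ Q F m (j + 1) (D φ)

variable {F : ℕ → Subgroup G}

theorem Q.val : ∀ {m j : ℕ} {φ : ℕ → G}, Q F m j φ → ∀ n, φ n ∈ F j
  | 0, _, _, h => h
  | _ + 1, _, _, h => h.1

theorem Q.mono_m : ∀ {m j : ℕ} {φ : ℕ → G}, Q F (m + 1) j φ → Q F m j φ
  | 0, _, _, h => h.1
  | m + 1, _, _, h => ⟨h.1, Q.mono_m (m := m) h.2⟩

theorem Q.mono_j (hF : Filt F) : ∀ {m j : ℕ} {φ : ℕ → G}, Q F m (j + 1) φ → Q F m j φ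
  | 0, j, _, h => fun n => hF.anti j (h n)
  | m + 1, j, _, h => ⟨fun n => hF.anti j (h.1 n), Q.mono_j hF (m := m) h.2⟩

theorem Q.mono_add (hF : Filt F) {m j : ℕ} (k : ℕ) {φ : ℕ → G} (h : Q F m (j + k) φ) :
    Q F m j φ := by
  induction k with
  | zero => exact h
  | succ k ih => exact ih (Q.mono_j hF h)

theorem Q.cast {m j j' : ℕ} {φ : ℕ → G} (e : j = j') (h : Q F m j φ) : Q F m j' φ := e ▸ h

theorem Q.of_le (hF : Filt F) {m j j' : ℕ} {φ : ℕ → G} (e : j' ≤ j) (h : Q F m j φ) :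
    Q F m j' φ := by
  obtain ⟨k, rfl⟩ := Nat.exists_eq_add_of_le e
  exact Q.mono_add hF k h

theorem D_mul (φ ψ : ℕ → G) : D (φ * ψ) = ⁅ψ⁻¹, D φ⁆ * D φ * D ψ := by
  funext n
  simp only [D, Pi.mul_apply, Pi.inv_apply, commutatorElement_def]
  group

theorem D_inv (φ : ℕ → G) : D φ⁻¹ = ⁅φ, (D φ)⁻¹⁆ * (D φ)⁻¹ := by
  funext n
  simp only [D, Pi.mul_apply, Pi.inv_apply, commutatorElement_def]
  group

theorem D_comm (φ ψ : ℕ → G) :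
    D ⁅φ, ψ⁆ = ⁅φ, ψ⁆⁻¹ * (φ * ⁅D φ, ψ⁆ * φ⁻¹ * (φ * ψ * ⁅D φ, D ψ⁆ * (φ * ψ)⁻¹)) * ⁅φ, ψ⁆ *
      (ψ * ⁅φ, D ψ⁆ * ψ⁻¹) := by
  funext n
  simp only [D, Pi.mul_apply, Pi.inv_apply, commutatorElement_def]
  group

theorem D_one : D (1 : ℕ → G) = 1 := by
  funext n
  simp [D]

theorem Q.one : ∀ (m j : ℕ), Q F m j (1 : ℕ → G)
  | 0, j => fun _ => (F j).one_mem
  | m + 1, j => ⟨fun _ => (F j).one_mem, by rw [D_one]; exact Q.one m (j + 1)⟩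

/-- The closure theorem (Lazard–Leibman), bundled for the induction. -/
theorem Q.closure (hF : Filt F) (m : ℕ) : ∀ (j k : ℕ) (φ ψ : ℕ → G),
    (Q F m j φ → Q F m j ψ → Q F m j (φ * ψ)) ∧ (Q F m j φ → Q F m j φ⁻¹) ∧
      (Q F m j φ → Q F m k ψ → Q F m (j + k) ⁅φ, ψ⁆) := by
  induction m with
  | zero =>
    intro j k φ ψ
    refine ⟨fun h1 h2 n => (F j).mul_mem (h1 n) (h2 n), fun h1 n => (F j).inv_mem (h1 n),
      fun h1 h2 n => hF.comm j k (Subgroup.commutator_mem_commutator (h1 n) (h2 n))⟩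
  | succ m ih =>
    have hmul : ∀ {j : ℕ} {φ ψ : ℕ → G}, Q F m j φ → Q F m j ψ → Q F m j (φ * ψ) :=
      fun {j φ ψ} => (ih j 0 φ ψ).1
    have hinv : ∀ {j : ℕ} {φ : ℕ → G}, Q F m j φ → Q F m j φ⁻¹ :=
      fun {j φ} => (ih j 0 φ φ).2.1
    have hcomm : ∀ {j k : ℕ} {φ ψ : ℕ → G}, Q F m j φ → Q F m k ψ → Q F m (j + k) ⁅φ, ψ⁆ :=
      fun {j k φ ψ} => (ih j k φ ψ).2.2
    have hconj : ∀ {l i : ℕ} {u g : ℕ → G}, Q F m l u → Q F m i g → Q F m l (g * u * g⁻¹) := by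
      intro l i u g hu hg
      have e : g * u * g⁻¹ = ⁅g, u⁆ * u := by
        rw [commutatorElement_def]; group
      rw [e]
      exact hmul (Q.of_le hF (by omega) (hcomm hg hu)) hu
    intro j k φ ψ
    refine ⟨?_, ?_, ?_⟩
    · intro h1 h2
      refine ⟨fun n => (F j).mul_mem (h1.1 n) (h2.1 n), ?_⟩
      rw [D_mul]
      have hψ : Q F m j ψ⁻¹ := hinv (Q.mono_m h2)
      exact hmul (hmul (Q.of_le hF (by omega) (hcomm hψ h1.2)) h1.2) h2.2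
    · intro h1
      refine ⟨fun n => (F j).inv_mem (h1.1 n), ?_⟩
      rw [D_inv]
      have hφ : Q F m j φ := Q.mono_m h1
      exact hmul (Q.of_le hF (by omega) (hcomm hφ (hinv h1.2))) (hinv h1.2)
    · intro h1 h2
      refine ⟨fun n => hF.comm j k (Subgroup.commutator_mem_commutator (h1.1 n) (h2.1 n)), ?_⟩
      rw [D_comm]
      have hφ : Q F m j φ := Q.mono_m h1
      have hψ : Q F m k ψ := Q.mono_m h2
      have hC : Q F m (j + k) ⁅φ, ψ⁆ := hcomm hφ hψ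
      have t1 : Q F m (j + k + 1) ⁅D φ, ψ⁆ := Q.cast (by omega) (hcomm h1.2 hψ)
      have t2 : Q F m (j + k + 1) ⁅D φ, D ψ⁆ := Q.of_le hF (by omega) (hcomm h1.2 h2.2)
      have t3 : Q F m (j + k + 1) ⁅φ, D ψ⁆ := Q.cast (by omega) (hcomm hφ h2.2)
      have s1 : Q F m (j + k + 1) (φ * ⁅D φ, ψ⁆ * φ⁻¹) := hconj t1 hφ
      have s2 : Q F m (j + k + 1) (φ * ψ * ⁅D φ, D ψ⁆ * (φ * ψ)⁻¹) :=
        hconj t2 (hmul (Q.of_le hF (Nat.zero_le _) hφ) (Q.of_le hF (Nat.zero_le _) hψ))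
      have s3 : Q F m (j + k + 1) (ψ * ⁅φ, D ψ⁆ * ψ⁻¹) := hconj t3 hψ
      have s4 := hconj (hmul s1 s2) (hinv hC)
      rw [inv_inv] at s4
      exact hmul s4 s3

theorem Q.mul (hF : Filt F) {m j : ℕ} {φ ψ : ℕ → G} (h1 : Q F m j φ) (h2 : Q F m j ψ) :
    Q F m j (φ * ψ) := (Q.closure hF m j 0 φ ψ).1 h1 h2

theorem Q.inv (hF : Filt F) {m j : ℕ} {φ : ℕ → G} (h1 : Q F m j φ) :
    Q F m j φ⁻¹ := (Q.closure hF m j 0 φ φ).2.1 h1

theorem Q.commutator (hF : Filt F) {m j k : ℕ} {φ ψ : ℕ → G} (h1 : Q F m j φ) (h2 : Q F m k ψ) :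
    Q F m (j + k) ⁅φ, ψ⁆ := (Q.closure hF m j k φ ψ).2.2 h1 h2

end Cfsg.Agent.Helper4.PolySeq
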