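import Mathlib
import Cfsg.Agent.Helper4.PolySeqA
import Cfsg.Agent.Helper4.ThreeSubgroups

set_option autoImplicit false

/-!
Polynomial sequences, part B: binomial sequences, Taylor-type peeling and the
Hall–Petresco consequence for groups of class `< p`.
-/

namespace Cfsg.Agent.Helper4.PolySeq

open scoped commutatorElement

variable {G : Type*} [Group G] {F : ℕ → Subgroup G}

/-- constant sequence -/
def cst (x : G) : ℕ → G := fun _ => x

theorem D_cst (x : G) : D (cst x) = 1 := by
  funext n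
  simp [D, cst]

theorem Q.cst {x : G} : ∀ (m j : ℕ), x ∈ F j → Q F m j (cst x)
  | 0, _, h => fun _ => h
  | m + 1, j, h => ⟨fun _ => h, by rw [D_cst]; exact Q.one m (j + 1)⟩

/-- binomial power sequence `n ↦ τ ^ (n choose i)` -/
def bin (τ : G) (i : ℕ) : ℕ → G := fun n => τ ^ (n.choose i)

theorem bin_zero (τ : G) : bin τ 0 = cst τ := by
  funext n
  simp [bin, cst]

theorem D_bin_succ (τ : G) (i : ℕ) : D (bin τ (i + 1)) = bin τ i := by
  funext n
  simp only [D, bin]
  rw [Nat.choose_succ_succ, pow_add, ((Commute.refl τ).pow_pow _ _).eq, ← mul_assoc,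
    inv_mul_cancel, one_mul]

theorem Q.bin (hF : Filt F) {τ : G} : ∀ (i m j : ℕ), τ ∈ F (j + i) → Q F m j (bin τ i) := by
  intro i
  induction i with
  | zero =>
    intro m j h
    rw [bin_zero]
    exact Q.cst m j h
  | succ i ih =>
    intro m j h
    have hv : ∀ n, PolySeq.bin τ (i + 1) n ∈ F j := fun n =>
      (F j).pow_mem (hF.anti_add j (i + 1) h) _
    cases m with
    | zero => exact hv
    | succ m =>
      refine ⟨hv, ?_⟩
      rw [D_bin_succ]
      refine ih m (j + 1) ?_
      have e : j + 1 + i = j + (i + 1) := by omega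
      rw [e]; exact h

theorem Q.mem_of_vanish : ∀ (i j : ℕ) (ψ : ℕ → G), Q F i j ψ → (∀ n < i, ψ n = 1) →
    ψ i ∈ F (j + i) := by
  intro i
  induction i with
  | zero => intro j ψ h _; exact h 0
  | succ i ih =>
    intro j ψ h hv
    have h2 := ih (j + 1) (D ψ) h.2 (fun n hn => by
      simp only [D]
      rw [hv n (by omega), hv (n + 1) (by omega)]; simp)
    have e : D ψ i = ψ (i + 1) := by
      simp only [D]
      rw [hv i (by omega)]; simp
    rw [e] at h2
    have e2 : j + 1 + i = j + (i + 1) := by omega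
    rw [← e2]; exact h2

theorem Q.iterate_mem : ∀ (m j : ℕ) (φ : ℕ → G), Q F m j φ → ∀ n, (D^[m] φ) n ∈ F (j + m) := by
  intro m
  induction m with
  | zero => intro j φ h n; exact h n
  | succ m ih =>
    intro j φ h n
    rw [Function.iterate_succ_apply]
    have := ih (j + 1) (D φ) h.2 n
    have e2 : j + 1 + m = j + (m + 1) := by omega
    rw [← e2]; exact this

theorem eq_one_of_iterate : ∀ (i : ℕ) (ψ : ℕ → G), (∀ n, (D^[i] ψ) n = 1) →
    (∀ n < i, ψ n = 1) → ∀ n, ψ n = 1 := by
  intro i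
  induction i with
  | zero => intro ψ h _ n; exact h n
  | succ i ih =>
    intro ψ h hv
    have hD : ∀ n, D ψ n = 1 := by
      apply ih (D ψ)
      · intro n
        have := h n
        rwa [Function.iterate_succ_apply] at this
      · intro n hn
        simp only [D]
        rw [hv n (by omega), hv (n + 1) (by omega)]; simp
    intro n
    induction n with
    | zero => exact hv 0 (by omega)
    | succ n ihn =>
      have := hD n
      simp only [D] at this
      rw [ihn] at this
      simpa using this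

/-- polynomial sequences w.r.t. `F` -/
def Poly (F : ℕ → Subgroup G) (φ : ℕ → G) : Prop := ∀ m, Q F m 0 φ

theorem Poly.mul (hF : Filt F) {φ ψ : ℕ → G} (h1 : Poly F φ) (h2 : Poly F ψ) : Poly F (φ * ψ) :=
  fun m => Q.mul hF (h1 m) (h2 m)

theorem Poly.inv (hF : Filt F) {φ : ℕ → G} (h1 : Poly F φ) : Poly F φ⁻¹ :=
  fun m => Q.inv hF (h1 m)

theorem Poly.bin (hF : Filt F) {τ : G} {i : ℕ} (h : τ ∈ F i) : Poly F (bin τ i) :=
  fun m => Q.bin hF i m 0 (by rw [zero_add]; exact h)

theorem Poly.eq_one (_hF : Filt F) {N : ℕ} (hN : F N = ⊥) {φ : ℕ → G} (hφ : Poly F φ)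
    (hv : ∀ n < N, φ n = 1) : ∀ n, φ n = 1 := by
  apply eq_one_of_iterate N φ _ hv
  intro n
  have := Q.iterate_mem N 0 φ (hφ N) n
  rw [zero_add, hN, Subgroup.mem_bot] at this
  exact this

theorem Poly.peel (hF : Filt F) {N : ℕ} (hN : F N = ⊥) (S : Subgroup G) (q : ℕ)
    (hS : ∀ i, 2 ≤ i → i < N → ∀ τ ∈ F i, τ ^ (q.choose i) ∈ S) :
    ∀ (d i : ℕ), i + d = N → 2 ≤ i → ∀ φ : ℕ → G, Poly F φ → (∀ n < i, φ n = 1) → φ q ∈ S := by
  intro d
  induction d with
  | zero =>
    intro i hi _ φ hφ hv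
    rw [add_zero] at hi
    subst hi
    rw [Poly.eq_one hF hN hφ hv q]
    exact S.one_mem
  | succ d ih =>
    intro i hi h2 φ hφ hv
    have hτ : φ i ∈ F i := by
      have := Q.mem_of_vanish i 0 φ (hφ i) hv
      rwa [zero_add] at this
    set τ := φ i with hτdef
    have hb : Poly F (PolySeq.bin τ i) := Poly.bin hF hτ
    have hφ' : Poly F ((PolySeq.bin τ i)⁻¹ * φ) := Poly.mul hF (Poly.inv hF hb) hφ
    have hv' : ∀ n < i + 1, ((PolySeq.bin τ i)⁻¹ * φ) n = 1 := by
      intro n hn
      simp only [Pi.mul_apply, Pi.inv_apply, PolySeq.bin]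
      rcases Nat.lt_succ_iff_lt_or_eq.1 hn with h | h
      · rw [Nat.choose_eq_zero_of_lt h, hv n h]; simp
      · subst h
        rw [Nat.choose_self, pow_one, hτdef]; simp
    have h3 := ih (i + 1) (by omega) (by omega) _ hφ' hv'
    have e : φ q = τ ^ (q.choose i) * ((PolySeq.bin τ i)⁻¹ * φ) q := by
      simp only [Pi.mul_apply, Pi.inv_apply, PolySeq.bin]
      group
    rw [e]
    exact S.mul_mem (hS i h2 (by omega) τ hτ) h3

end Cfsg.Agent.Helper4.PolySeq
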