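import Mathlib
import Cfsg.Agent.Helper4.PolySeqB

set_option autoImplicit false

/-!
Polynomial sequences, part C: the lower central filtration and the Hall–Petresco consequence:
in a group with `γ_p = 1`, `(ab)^(p^k) = a^(p^k) b^(p^k) c` with `c` a product of `p^k`-th powers
of elements of the derived subgroup.
-/

namespace Cfsg.Agent.Helper4.PolySeq

open scoped commutatorElement

variable {K : Type*} [Group K]

/-- the lower central filtration, `lcsF 0 = lcsF 1 = ⊤`, `lcsF (i+1) = γ_{i+1}`. -/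
def lcsF (K : Type*) [Group K] : ℕ → Subgroup K :=
  fun i => (⊤ : Subgroup K).lowerCentralSeries (i - 1)

theorem lcsF_filt : Filt (lcsF K) := by
  refine ⟨fun i => ?_, fun i j => ?_⟩
  · exact Subgroup.lowerCentralSeries_antitone _ (by omega)
  · simp only [lcsF]
    rcases Nat.eq_zero_or_pos i with hi | hi
    · subst hi
      simp only [zero_add, Nat.zero_sub, Subgroup.lowerCentralSeries_zero]
      rw [Subgroup.commutator_comm]
      exact Subgroup.commutator_le_left _ _
    rcases Nat.eq_zero_or_pos j with hj | hj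
    · subst hj
      simp only [add_zero, Nat.zero_sub, Subgroup.lowerCentralSeries_zero]
      exact Subgroup.commutator_le_left _ _
    have h := Cfsg.Agent.Helper4.commutator_lowerCentralSeries_le
      (fun i => (⊤ : Subgroup K).lowerCentralSeries i) (fun i => inferInstance) ⊤
      (fun i => le_of_eq (Subgroup.lowerCentralSeries_succ _ i).symm) (j - 1) (i - 1)
    have e : i - 1 + (j - 1) + 1 = i + j - 1 := by omega
    rw [← e]
    exact h

theorem dvd_choose_prime_pow {p : ℕ} (hp : p.Prime) (k i : ℕ) (hi0 : 0 < i) (hi : i < p) :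
    p ^ k ∣ (p ^ k).choose i := by
  obtain ⟨i', rfl⟩ : ∃ i', i = i' + 1 := ⟨i - 1, by omega⟩
  have hq : 0 < p ^ k := pow_pos hp.pos k
  obtain ⟨q', hq'⟩ : ∃ q', p ^ k = q' + 1 := ⟨p ^ k - 1, by omega⟩
  have h := Nat.add_one_mul_choose_eq q' i'
  rw [← hq'] at h
  have hcop : Nat.Coprime (p ^ k) (i' + 1) := by
    apply Nat.Coprime.pow_left
    rw [Nat.Prime.coprime_iff_not_dvd hp]
    intro hd
    exact absurd (Nat.le_of_dvd (by omega) hd) (by omega)
  exact hcop.dvd_of_dvd_mul_right (Dvd.intro _ h)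

/-- Hall–Petresco consequence. -/
theorem pow_mul_expansion {p : ℕ} (hp : p.Prime)
    (hcl : (⊤ : Subgroup K).lowerCentralSeries (p - 1) = ⊥) (a b : K) (k : ℕ) :
    (a ^ (p ^ k) * b ^ (p ^ k))⁻¹ * (a * b) ^ (p ^ k) ∈
      Subgroup.closure {y : K | ∃ x ∈ (⊤ : Subgroup K).lowerCentralSeries 1, y = x ^ (p ^ k)} := by
  set S := Subgroup.closure {y : K | ∃ x ∈ (⊤ : Subgroup K).lowerCentralSeries 1, y = x ^ (p ^ k)}
    with hS
  have hF : Filt (lcsF K) := lcsF_filt
  have hN : lcsF K p = ⊥ := hcl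
  have h1 : ∀ x : K, x ∈ lcsF K 1 := fun x => by simp [lcsF]
  have key : ∀ i, 2 ≤ i → i < p → ∀ τ ∈ lcsF K i, τ ^ ((p ^ k).choose i) ∈ S := by
    intro i h2 hip τ hτ
    obtain ⟨c, hc⟩ := dvd_choose_prime_pow hp k i (by omega) hip
    have hτ1 : τ ∈ (⊤ : Subgroup K).lowerCentralSeries 1 :=
      Subgroup.lowerCentralSeries_antitone _ (by omega : 1 ≤ i - 1) hτ
    rw [hc, mul_comm, pow_mul]
    exact Subgroup.subset_closure ⟨τ ^ c, Subgroup.pow_mem _ hτ1 _, rfl⟩
  let φ : ℕ → K := (bin a 1 * bin b 1)⁻¹ * bin (a * b) 1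
  have hφ : Poly (lcsF K) φ :=
    Poly.mul hF (Poly.inv hF (Poly.mul hF (Poly.bin hF (h1 a)) (Poly.bin hF (h1 b))))
      (Poly.bin hF (h1 (a * b)))
  have hv : ∀ n < 2, φ n = 1 := by
    intro n hn
    simp only [φ, Pi.mul_apply, Pi.inv_apply, bin, Nat.choose_one_right]
    interval_cases n <;> simp
  have hp2 : 2 ≤ p := hp.two_le
  have := Poly.peel hF hN S (p ^ k) key (p - 2) 2 (by omega) le_rfl φ hφ hv
  simpa only [φ, Pi.mul_apply, Pi.inv_apply, bin, Nat.choose_one_right] using this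

end Cfsg.Agent.Helper4.PolySeq
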