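import Mathlib

/-!
# Power graphs: cyclic-subgroup lemmas and the class structure

`pgCmp x y` : one of `x`, `y` is a power of the other.
`pgNbEq x y` : `x` and `y` have the same closed neighbourhood in the power graph.
-/

set_option autoImplicit false

namespace Cfsg.Agent.Helper4.PowGraph

open Subgroup

variable {G : Type*} [Group G]

/-- comparability in the power graph -/
def pgCmp (x y : G) : Prop := x ∈ zpowers y ∨ y ∈ zpowers x

/-- equal closed neighbourhoods -/
def pgNbEq (x y : G) : Prop := ∀ z : G, pgCmp z x ↔ pgCmp z y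

theorem pgCmp_comm {x y : G} : pgCmp x y ↔ pgCmp y x := by
  unfold pgCmp; tauto

theorem pgCmp_self (x : G) : pgCmp x x := Or.inl (mem_zpowers x)

theorem pgCmp_one_left (x : G) : pgCmp 1 x := Or.inl (one_mem _)

theorem pgCmp_one_right (x : G) : pgCmp x 1 := Or.inr (one_mem _)

theorem pgNbEq_refl (x : G) : pgNbEq x x := fun _ => Iff.rfl

theorem pgNbEq_symm {x y : G} (h : pgNbEq x y) : pgNbEq y x := fun z => (h z).symm

theorem pgNbEq_trans {x y z : G} (h : pgNbEq x y) (h' : pgNbEq y z) : pgNbEq x z :=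
  fun w => (h w).trans (h' w)

theorem pgNbEq_cmp {x y : G} (h : pgNbEq x y) : pgCmp x y := by
  have := (h x).1 (pgCmp_self x)
  exact this

theorem pgNbEq_of_zpowers_eq {x y : G} (h : zpowers x = zpowers y) : pgNbEq x y := by
  intro z
  unfold pgCmp
  have h1 : x ∈ zpowers z ↔ y ∈ zpowers z := by
    rw [← zpowers_le, ← zpowers_le (g := y), h]
  rw [h, h1]

section finite

variable [Finite G]

/-- the subgroup generated by `u ∈ ⟨y⟩` is `⟨y ^ (o(y)/o(u))⟩` -/
theorem zpowers_eq_zpowers_pow_div {y u : G} (hu : u ∈ zpowers y) :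
    zpowers u = zpowers (y ^ (orderOf y / orderOf u)) := by
  have hy : 0 < orderOf y := orderOf_pos y
  have hdvd : orderOf u ∣ orderOf y := orderOf_dvd_of_mem_zpowers hu
  have hupos : 0 < orderOf u := orderOf_pos u
  obtain ⟨i, rfl⟩ := (Submonoid.mem_powers_iff _ _).1 (mem_powers_iff_mem_zpowers.2 hu)
  set n := orderOf y with hn
  set g := Nat.gcd n i with hg
  have hgn : g ∣ n := Nat.gcd_dvd_left _ _
  have hgi : g ∣ i := Nat.gcd_dvd_right _ _
  have hgpos : 0 < g := Nat.gcd_pos_of_pos_left _ hy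
  have hou : orderOf (y ^ i) = n / g := orderOf_pow y
  have hdiv : n / orderOf (y ^ i) = g := by
    rw [hou]; exact Nat.div_div_self hgn hy.ne'
  rw [hdiv]
  have hle : zpowers (y ^ i) ≤ zpowers (y ^ g) := by
    rw [zpowers_le]
    obtain ⟨k, hk⟩ := hgi
    rw [hk, pow_mul]
    exact pow_mem (mem_zpowers _) _
  have hog : orderOf (y ^ g) = n / g := by
    rw [orderOf_pow y, Nat.gcd_eq_right hgn]
  refine Subgroup.eq_of_le_of_card_ge hle ?_
  rw [Nat.card_zpowers, Nat.card_zpowers, hou, hog]

/-- Key lemma: in a cyclic group, divisibility of orders gives containment. -/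
theorem mem_zpowers_of_orderOf_dvd {y u v : G} (hu : u ∈ zpowers y) (hv : v ∈ zpowers y)
    (h : orderOf u ∣ orderOf v) : u ∈ zpowers v := by
  have hy : 0 < orderOf y := orderOf_pos y
  have h1 := zpowers_eq_zpowers_pow_div hu
  have h2 := zpowers_eq_zpowers_pow_div hv
  have hdu : orderOf u ∣ orderOf y := orderOf_dvd_of_mem_zpowers hu
  have hdv : orderOf v ∣ orderOf y := orderOf_dvd_of_mem_zpowers hv
  have : u ∈ zpowers u := mem_zpowers u
  rw [h1] at this
  rw [h2]
  refine (zpowers_le.2 ?_) this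
  obtain ⟨k, hk⟩ := h
  have hvpos : 0 < orderOf v := orderOf_pos v
  have hupos : 0 < orderOf u := orderOf_pos u
  have : orderOf y / orderOf u = orderOf y / orderOf v * k := by
    obtain ⟨c, hc⟩ := hdv
    rw [hc, Nat.mul_div_cancel_left _ hvpos, hk, mul_assoc, Nat.mul_div_cancel_left _ hupos,
      mul_comm]
  rw [this, pow_mul]
  exact pow_mem (mem_zpowers _) _

/-- comparability inside a cyclic group is divisibility of orders -/
theorem pgCmp_iff_of_mem {y u v : G} (hu : u ∈ zpowers y) (hv : v ∈ zpowers y) :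
    pgCmp u v ↔ (orderOf u ∣ orderOf v ∨ orderOf v ∣ orderOf u) := by
  constructor
  · rintro (h | h)
    · exact Or.inl (orderOf_dvd_of_mem_zpowers h)
    · exact Or.inr (orderOf_dvd_of_mem_zpowers h)
  · rintro (h | h)
    · exact Or.inl (mem_zpowers_of_orderOf_dvd hu hv h)
    · exact Or.inr (mem_zpowers_of_orderOf_dvd hv hu h)

theorem zpowers_eq_of_mem_of_orderOf_eq {u v : G} (hu : u ∈ zpowers v)
    (h : orderOf u = orderOf v) : zpowers u = zpowers v := by
  refine Subgroup.eq_of_le_of_card_ge (zpowers_le.2 hu) ?_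
  rw [Nat.card_zpowers, Nat.card_zpowers, h]

/-- an element of order `d` in `⟨y⟩` for each divisor `d` of `o(y)` -/
theorem exists_mem_zpowers_orderOf_eq (y : G) {d : ℕ} (hd : d ∣ orderOf y) :
    ∃ u ∈ zpowers y, orderOf u = d := by
  have hy : 0 < orderOf y := orderOf_pos y
  have hdpos : 0 < d := Nat.pos_of_dvd_of_pos hd hy
  refine ⟨y ^ (orderOf y / d), pow_mem (mem_zpowers _) _, ?_⟩
  rw [orderOf_pow y, Nat.gcd_eq_right (Nat.div_dvd_of_dvd hd), Nat.div_div_self hd hy.ne']

end finite

end Cfsg.Agent.Helper4.PowGraph
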