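import Cfsg.Agent.Helper4.PowGraphA

/-!
# Power graphs: classes of equal closed neighbourhood, and the orientation lemma
-/

set_option autoImplicit false

namespace Cfsg.Agent.Helper4.PowGraph

open Subgroup

/-- arithmetic: if `m ∣ n` is a proper nontrivial divisor comparable (by divisibility) with every
divisor of `n`, then `n` is a prime power. -/
theorem nat_prime_pow_of_cmp_all {m n : ℕ} (hm1 : 1 < m) (hmn : m ∣ n) (hlt : m < n)
    (h : ∀ d, d ∣ n → d ∣ m ∨ m ∣ d) : ∃ p k, p.Prime ∧ n = p ^ k := by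
  have hn0 : n ≠ 0 := by omega
  obtain ⟨c, hc⟩ := hmn
  have hc1 : c ≠ 1 := by
    rintro rfl
    omega
  set p := c.minFac with hp
  have hpp : p.Prime := Nat.minFac_prime hc1
  have hpc : p ∣ c := Nat.minFac_dvd c
  have hpmn : p * m ∣ n := by
    rw [hc, mul_comm]; exact Nat.mul_dvd_mul_left m hpc
  set a := n.factorization p with ha
  have hd : p ^ a ∣ n := Nat.ordProj_dvd n p
  have hnot : ¬ p ^ a ∣ m := by
    intro hdm
    have : p ^ (a + 1) ∣ n := by
      rw [pow_succ']
      exact (Nat.mul_dvd_mul_left p hdm).trans hpmn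
    exact Nat.pow_succ_factorization_not_dvd hn0 hpp this
  have hm : m ∣ p ^ a := (h _ hd).resolve_left hnot
  obtain ⟨j, -, hj⟩ := (Nat.dvd_prime_pow hpp).1 hm
  have hj0 : j ≠ 0 := by
    rintro rfl
    simp at hj; omega
  refine ⟨p, _, hpp, Nat.eq_prime_pow_of_unique_prime_dvd hn0 ?_⟩
  intro r hr hrn
  rcases h r hrn with h1 | h1
  · rw [hj] at h1
    exact (Nat.prime_dvd_prime_iff_eq hr hpp).1 (hr.dvd_of_dvd_pow h1)
  · rcases (Nat.dvd_prime hr).1 h1 with h2 | h2
    · omega
    · have : p ∣ r := by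
        rw [← h2, hj]; exact dvd_pow_self p hj0
      exact ((Nat.prime_dvd_prime_iff_eq hpp hr).1 this).symm

variable {G : Type*} [Group G]

section finite

variable [Finite G]

/-- Structure of classes, basic form: if `x ≠ 1` is a proper power of `y` with the same closed
neighbourhood, then `y` has prime power order. -/
theorem prime_pow_of_pgNbEq {x y : G} (hx : x ≠ 1) (hxy : x ∈ zpowers y)
    (hne : zpowers x ≠ zpowers y) (h : pgNbEq x y) : ∃ p k, p.Prime ∧ orderOf y = p ^ k := by
  have hmn : orderOf x ∣ orderOf y := orderOf_dvd_of_mem_zpowers hxy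
  have hm1 : 1 < orderOf x := by
    have h0 : 0 < orderOf x := orderOf_pos x
    have h1 : orderOf x ≠ 1 := fun h => hx (orderOf_eq_one_iff.1 h)
    omega
  have hlt : orderOf x < orderOf y := by
    refine lt_of_le_of_ne (Nat.le_of_dvd (orderOf_pos y) hmn) ?_
    intro he
    exact hne (zpowers_eq_of_mem_of_orderOf_eq hxy he)
  refine nat_prime_pow_of_cmp_all hm1 hmn hlt ?_
  intro d hd
  obtain ⟨u, hu, hud⟩ := exists_mem_zpowers_orderOf_eq y hd
  have h1 : pgCmp u y := Or.inl hu
  have h2 : pgCmp u x := (h u).2 h1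
  rw [pgCmp_iff_of_mem hu hxy, hud] at h2
  exact h2

/-- both elements have order a power of the same prime -/
theorem prime_pow_of_pgNbEq' {x y : G} (hx : x ≠ 1) (hy : y ≠ 1)
    (hne : zpowers x ≠ zpowers y) (h : pgNbEq x y) :
    ∃ p a b, p.Prime ∧ orderOf x = p ^ a ∧ orderOf y = p ^ b := by
  rcases pgNbEq_cmp h with hxy | hyx
  · obtain ⟨p, k, hp, hk⟩ := prime_pow_of_pgNbEq hx hxy hne h
    have := orderOf_dvd_of_mem_zpowers hxy
    rw [hk] at this
    obtain ⟨j, -, hj⟩ := (Nat.dvd_prime_pow hp).1 this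
    exact ⟨p, j, k, hp, hj, hk⟩
  · obtain ⟨p, k, hp, hk⟩ := prime_pow_of_pgNbEq hy hyx (Ne.symm hne) (pgNbEq_symm h)
    have := orderOf_dvd_of_mem_zpowers hyx
    rw [hk] at this
    obtain ⟨j, -, hj⟩ := (Nat.dvd_prime_pow hp).1 this
    exact ⟨p, k, j, hp, hk, hj⟩

end finite

/-- the class of `x`: non-identity elements with the same closed neighbourhood -/
def pgCls (x : G) : Set G := {y | y ≠ 1 ∧ pgNbEq x y}

/-- generators of `⟨x⟩` -/
def pgGen (x : G) : Set G := {y | zpowers y = zpowers x}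

theorem mem_pgCls_self {x : G} (hx : x ≠ 1) : x ∈ pgCls x := ⟨hx, pgNbEq_refl x⟩

theorem pgGen_subset_pgCls {x : G} (hx : x ≠ 1) : pgGen x ⊆ pgCls x := by
  intro y hy
  refine ⟨?_, pgNbEq_of_zpowers_eq (Eq.symm hy)⟩
  rintro rfl
  apply hx
  have : x ∈ zpowers (1 : G) := by
    have h1 : x ∈ zpowers x := mem_zpowers x
    rwa [← (show zpowers (1:G) = zpowers x from hy)] at h1
  simpa using this

theorem pgCls_eq_of_pgNbEq {x y : G} (h : pgNbEq x y) : pgCls x = pgCls y := by
  ext z
  constructor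
  · rintro ⟨hz, hxz⟩
    exact ⟨hz, pgNbEq_trans (pgNbEq_symm h) hxz⟩
  · rintro ⟨hz, hyz⟩
    exact ⟨hz, pgNbEq_trans h hyz⟩

section finite

variable [Finite G]

theorem ncard_pgGen (x : G) : (pgGen x).ncard = Nat.totient (orderOf x) := by
  classical
  have : Fintype (zpowers x) := Fintype.ofFinite _
  have h := IsCyclic.card_orderOf_eq_totient (α := zpowers x) (d := orderOf x)
    (by rw [Fintype.card_eq_nat_card, Nat.card_zpowers])
  rw [← h]
  have hs : pgGen x = (Subtype.val ''
      ((Finset.univ.filter (fun a : zpowers x => orderOf a = orderOf x) : Finset (zpowers x)) :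
        Set (zpowers x))) := by
    ext y
    simp only [pgGen, Set.mem_ofPred_eq, Finset.coe_filter, Finset.mem_univ, true_and,
      Set.mem_image, Subtype.exists, exists_and_right, exists_eq_right]
    constructor
    · intro hy
      have hyx : y ∈ zpowers x := by rw [← hy]; exact mem_zpowers y
      refine ⟨hyx, ?_⟩
      rw [Subgroup.orderOf_mk]
      have h3 : Nat.card (zpowers y) = Nat.card (zpowers x) := by rw [hy]
      rw [Nat.card_zpowers, Nat.card_zpowers] at h3
      exact h3
    · rintro ⟨hyx, ho⟩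
      rw [Subgroup.orderOf_mk] at ho
      exact zpowers_eq_of_mem_of_orderOf_eq hyx ho
  rw [hs, Set.ncard_image_of_injective _ Subtype.val_injective, Set.ncard_coe_finset]

/-- existence of a top element of a class -/
theorem exists_top_pgCls {x : G} (hx : x ≠ 1) :
    ∃ w, w ≠ 1 ∧ pgNbEq x w ∧ ∀ z, z ≠ 1 → pgNbEq w z → z ∈ zpowers w := by
  classical
  have hfin : (pgCls x).Finite := Set.toFinite _
  obtain ⟨w, hw, hmax⟩ := Set.exists_max_image (pgCls x) orderOf hfin ⟨x, mem_pgCls_self hx⟩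
  refine ⟨w, hw.1, hw.2, ?_⟩
  intro z hz hwz
  have hzc : z ∈ pgCls x := ⟨hz, pgNbEq_trans hw.2 hwz⟩
  have hle := hmax z hzc
  rcases pgNbEq_cmp hwz with h | h
  · -- w ∈ zpowers z
    have hd := orderOf_dvd_of_mem_zpowers h
    have : orderOf w = orderOf z := le_antisymm (Nat.le_of_dvd (orderOf_pos z) hd) hle
    have := zpowers_eq_of_mem_of_orderOf_eq h this
    rw [this]; exact mem_zpowers z
  · exact h

end finite

end Cfsg.Agent.Helper4.PowGraph
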