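import Cfsg.Agent.Helper4.PowGraphB

/-!
# Power graphs: the orientation lemma

For non-identity `x, y` in different classes, "`y` is a power of `x`" is expressed purely in terms
of the (undirected) power graph and the identity: `pgBelow y x`.
-/

set_option autoImplicit false

namespace Cfsg.Agent.Helper4.PowGraph

open Subgroup

variable {G : Type*} [Group G]

/-- a non-identity vertex alone in its class -/
def pgIso (t : G) : Prop := t ≠ 1 ∧ ∀ s, s ≠ 1 → pgNbEq t s → s = t

/-- graph-theoretic description of "`y` is a power of `x`" for `x`, `y` in different classes -/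
def pgBelow (y x : G) : Prop := pgCmp y x ∧ ¬ pgNbEq x y ∧
  ((pgCls y).ncard < (pgCls x).ncard ∨
   ((pgCls y).ncard = (pgCls x).ncard ∧ ∃ t, pgIso t ∧ pgCmp t x ∧ ¬ pgCmp t y))

/-- the graph-theoretic "down-set" of a vertex -/
def pgLam (x : G) : Set G := {w | w = 1 ∨ (w ≠ 1 ∧ pgNbEq x w) ∨ (w ≠ 1 ∧ pgBelow w x)}

section finite

variable [Finite G]

theorem pgCmp_of_mem_prime_pow {p k : ℕ} (hp : p.Prime) {w u v : G} (hw : orderOf w = p ^ k)
    (hu : u ∈ zpowers w) (hv : v ∈ zpowers w) : pgCmp u v := by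
  rw [pgCmp_iff_of_mem hu hv]
  have h1 := orderOf_dvd_of_mem_zpowers hu
  have h2 := orderOf_dvd_of_mem_zpowers hv
  rw [hw] at h1 h2
  obtain ⟨a, -, ha⟩ := (Nat.dvd_prime_pow hp).1 h1
  obtain ⟨b, -, hb⟩ := (Nat.dvd_prime_pow hp).1 h2
  rw [ha, hb]
  rcases le_total a b with h | h
  · exact Or.inl (pow_dvd_pow p h)
  · exact Or.inr (pow_dvd_pow p h)

theorem pgNbEq_of_sandwich {p k : ℕ} (hp : p.Prime) {y x w : G} (hw : orderOf w = p ^ k)
    (hyx : y ∈ zpowers x) (hxw : x ∈ zpowers w) (h : pgNbEq y w) : pgNbEq x y := by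
  have hyw : y ∈ zpowers w := (zpowers_le.2 hxw) hyx
  intro u
  constructor
  · rintro (hux | hxu)
    · exact pgCmp_of_mem_prime_pow hp hw ((zpowers_le.2 hxw) hux) hyw
    · exact Or.inr ((zpowers_le.2 hxu) hyx)
  · intro huy
    rcases (h u).1 huy with huw | hwu
    · exact pgCmp_of_mem_prime_pow hp hw huw hxw
    · exact Or.inr ((zpowers_le.2 hwu) hxw)

theorem mem_zpowers_of_orderOf_two {t s : G} (ht : orderOf t = 2) (hs : s ∈ zpowers t) :
    s = 1 ∨ s = t := by
  obtain ⟨i, rfl⟩ := (Submonoid.mem_powers_iff _ _).1 (mem_powers_iff_mem_zpowers.2 hs)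
  rw [← pow_mod_orderOf, ht]
  rcases Nat.mod_two_eq_zero_or_one i with h | h <;> rw [h] <;> simp

/-- The size comparison of classes along a proper power relation. -/
theorem ncard_pgCls_lt_or {x y : G} (hy : y ≠ 1) (hyx : y ∈ zpowers x) (hne : ¬ pgNbEq x y) :
    (pgCls y).ncard < (pgCls x).ncard ∨
      ((pgCls y).ncard = (pgCls x).ncard ∧ orderOf x = 2 * orderOf y ∧ Odd (orderOf y)) := by
  classical
  have hx : x ≠ 1 := by
    rintro rfl
    apply hy
    simpa using hyx
  have hgx : (pgGen x).ncard ≤ (pgCls x).ncard :=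
    Set.ncard_le_ncard (pgGen_subset_pgCls hx) (Set.toFinite _)
  rw [ncard_pgGen] at hgx
  have hmn : orderOf y ∣ orderOf x := orderOf_dvd_of_mem_zpowers hyx
  by_cases hA : ∀ z ∈ pgCls y, zpowers z = zpowers y
  · -- Case A : the class of `y` is the set of generators of `⟨y⟩`
    have hsub : pgCls y ⊆ pgGen y := fun z hz => hA z hz
    have hgy : (pgCls y).ncard ≤ (pgGen y).ncard := Set.ncard_le_ncard hsub (Set.toFinite _)
    rw [ncard_pgGen] at hgy
    have hphi : Nat.totient (orderOf y) ≤ Nat.totient (orderOf x) :=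
      Nat.le_of_dvd (Nat.totient_pos.2 (orderOf_pos x)) (Nat.totient_dvd_of_dvd hmn)
    rcases lt_or_eq_of_le (hgy.trans (hphi.trans hgx)) with hlt | heq
    · exact Or.inl hlt
    · right
      have hphi' : Nat.totient (orderOf y) = Nat.totient (orderOf x) := by omega
      refine ⟨heq, ?_⟩
      rcases Nat.eq_or_eq_of_totient_eq_totient hmn hphi' with h1 | h1
      · exfalso
        apply hne
        exact pgNbEq_symm (pgNbEq_of_zpowers_eq (zpowers_eq_of_mem_of_orderOf_eq hyx h1))
      · refine ⟨h1.symm, ?_⟩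
        rw [← Nat.not_even_iff_odd]
        intro hev
        have h2 : 2 ∣ orderOf y := hev.two_dvd
        have h3 := Nat.totient_mul_of_prime_of_dvd Nat.prime_two h2
        rw [h1, ← hphi'] at h3
        have h4 : 0 < Nat.totient (orderOf y) := Nat.totient_pos.2 (orderOf_pos y)
        omega
  · -- Case B : the class of `y` meets two different cyclic subgroups
    left
    push Not at hA
    obtain ⟨z, hz, hzy⟩ := hA
    obtain ⟨w, hw1, hyw, hwtop⟩ := exists_top_pgCls hy
    -- choose y0 in the class, generating a proper subgroup of ⟨w⟩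
    have hy0 : ∃ y0, y0 ≠ 1 ∧ pgNbEq y0 w ∧ zpowers y0 ≠ zpowers w := by
      by_cases hyw' : zpowers y = zpowers w
      · exact ⟨z, hz.1, pgNbEq_trans (pgNbEq_symm hz.2) hyw, fun h => hzy (h.trans hyw'.symm)⟩
      · exact ⟨y, hy, hyw, hyw'⟩
    obtain ⟨y0, hy01, hy0w, hy0ne⟩ := hy0
    have hy0mem : y0 ∈ zpowers w := hwtop y0 hy01 (pgNbEq_symm hy0w)
    obtain ⟨p, k, hp, hk⟩ := prime_pow_of_pgNbEq hy01 hy0mem hy0ne hy0w
    have hy0d := orderOf_dvd_of_mem_zpowers hy0mem
    rw [hk] at hy0d
    obtain ⟨j, hjk, hj⟩ := (Nat.dvd_prime_pow hp).1 hy0d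
    have hjk' : j < k := by
      refine lt_of_le_of_ne hjk ?_
      rintro rfl
      exact hy0ne (zpowers_eq_of_mem_of_orderOf_eq hy0mem (hj.trans hk.symm))
    -- the class of y lies in ⟨w⟩ \ {1}
    have hsub : pgCls y ⊆ (zpowers w : Set G) \ {1} := by
      intro u hu
      refine ⟨hwtop u hu.1 (pgNbEq_trans (pgNbEq_symm hyw) hu.2), ?_⟩
      simpa using hu.1
    have hcard : (pgCls y).ncard ≤ p ^ k - 1 := by
      refine (Set.ncard_le_ncard hsub (Set.toFinite _)).trans ?_
      rw [Set.ncard_sdiff_singleton_of_mem (one_mem _)]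
      have : (zpowers w : Set G).ncard = p ^ k := by
        rw [← hk, ← Nat.card_zpowers]; rfl
      rw [this]
    -- x is comparable with w
    have hxw : pgCmp x w := (hyw x).1 (Or.inr hyx)
    rcases hxw with hxw | hwx
    · exact absurd (pgNbEq_of_sandwich hp hk hyx hxw hyw) hne
    · have hxnw : x ∉ zpowers w := fun hxw =>
        hne (pgNbEq_of_sandwich hp hk hyx hxw hyw)
      have hkx : p ^ k ∣ orderOf x := hk ▸ orderOf_dvd_of_mem_zpowers hwx
      have hy0x : y0 ∈ zpowers x := (zpowers_le.2 hwx) hy0mem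
      have hn0 : orderOf x ≠ 0 := (orderOf_pos x).ne'
      have hxpow : orderOf x = p ^ (orderOf x).primeFactorsList.length := by
        refine Nat.eq_prime_pow_of_unique_prime_dvd hn0 ?_
        intro r hr hrn
        by_contra hrp
        have hcop : Nat.Coprime (p ^ j) r :=
          Nat.Coprime.pow_left _ ((Nat.coprime_primes hp hr).2 (Ne.symm hrp))
        have hdvd : p ^ j * r ∣ orderOf x :=
          Nat.Coprime.mul_dvd_of_dvd_of_dvd hcop ((pow_dvd_pow p hjk).trans hkx) hrn
        obtain ⟨u, hu, huo⟩ := exists_mem_zpowers_orderOf_eq x hdvd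
        have hy0u : y0 ∈ zpowers u :=
          mem_zpowers_of_orderOf_dvd hy0x hu (by rw [hj, huo]; exact dvd_mul_right _ _)
        have huw : pgCmp u w := (hy0w u).1 (Or.inr hy0u)
        rw [pgCmp_iff_of_mem hu hwx, huo, hk] at huw
        rcases huw with h1 | h1
        · have : r ∣ p ^ k := (dvd_mul_left r (p ^ j)).trans h1
          exact hrp ((Nat.prime_dvd_prime_iff_eq hr hp).1 (hr.dvd_of_dvd_pow this))
        · have h2 : p ^ (j + 1) ∣ p ^ j * r := (pow_dvd_pow p hjk').trans h1
          rw [pow_succ] at h2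
          have h3 : p ∣ r := Nat.dvd_of_mul_dvd_mul_left (pow_pos hp.pos j) h2
          exact hrp ((Nat.prime_dvd_prime_iff_eq hp hr).1 h3).symm
      set l := (orderOf x).primeFactorsList.length with hl
      have hkl : k ≤ l := by
        rw [hxpow] at hkx
        exact (Nat.pow_dvd_pow_iff_le_right hp.one_lt).1 hkx
      have hkl' : k < l := by
        refine lt_of_le_of_ne hkl ?_
        intro hkl2
        apply hxnw
        have : zpowers w = zpowers x :=
          zpowers_eq_of_mem_of_orderOf_eq hwx (by rw [hk, hxpow, hkl2])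
        rw [this]; exact mem_zpowers x
      have hl0 : 0 < l := by omega
      rw [hxpow, Nat.totient_prime_pow hp hl0] at hgx
      have h1 : p ^ k ≤ p ^ (l - 1) := Nat.pow_le_pow_right hp.pos (by omega)
      have h2 : p ^ (l - 1) ≤ p ^ (l - 1) * (p - 1) :=
        Nat.le_mul_of_pos_right _ (by have := hp.two_le; omega)
      have h3 : 0 < p ^ k := pow_pos hp.pos k
      omega

omit [Finite G] in
theorem orderOf_eq_two_of_pgIso {t : G} (ht : pgIso t) : orderOf t = 2 := by
  have h1 : t⁻¹ ≠ 1 := by simpa using ht.1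
  have h2 : pgNbEq t t⁻¹ := pgNbEq_of_zpowers_eq (zpowers_inv (g := t)).symm
  have h3 : t⁻¹ = t := ht.2 _ h1 h2
  have h4 : t ^ 2 = 1 := by
    rw [pow_two]
    nth_rewrite 1 [← h3]
    simp
  exact orderOf_eq_prime h4 ht.1

/-- Orientation lemma, forward direction. -/
theorem pgBelow_of_mem {x y : G} (hy : y ≠ 1) (hyx : y ∈ zpowers x) (hne : ¬ pgNbEq x y) :
    pgBelow y x := by
  refine ⟨Or.inl hyx, hne, ?_⟩
  rcases ncard_pgCls_lt_or hy hyx hne with h | ⟨heq, hn, hodd⟩
  · exact Or.inl h
  · right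
    refine ⟨heq, ?_⟩
    set m := orderOf y with hm
    have hm0 : 0 < m := orderOf_pos y
    have hm1 : m ≠ 1 := fun h => hy (orderOf_eq_one_iff.1 h)
    have h2m : ¬ 2 ∣ m := hodd.not_two_dvd_nat
    set t := x ^ m with ht
    have htx : t ∈ zpowers x := pow_mem (mem_zpowers x) _
    have hto : orderOf t = 2 := by
      rw [ht, orderOf_pow x, hn, Nat.gcd_eq_right (dvd_mul_left m 2),
        Nat.mul_div_cancel _ hm0]
    have ht1 : t ≠ 1 := by
      intro h
      rw [h, orderOf_one] at hto
      omega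
    refine ⟨t, ⟨ht1, ?_⟩, Or.inl htx, ?_⟩
    · intro s hs1 hts
      by_contra hst
      have hzne : zpowers t ≠ zpowers s := by
        intro h
        have : s ∈ zpowers t := by rw [h]; exact mem_zpowers s
        rcases mem_zpowers_of_orderOf_two hto this with h | h
        · exact hs1 h
        · exact hst h
      obtain ⟨p, a, b, hp, ha, hb⟩ := prime_pow_of_pgNbEq' ht1 hs1 hzne hts
      rw [hto] at ha
      have hp2 : p = 2 := by
        have : p ∣ 2 := by
          rw [ha]
          refine dvd_pow_self p ?_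
          rintro rfl
          simp at ha
        exact (Nat.prime_dvd_prime_iff_eq hp Nat.prime_two).1 this
      subst hp2
      -- t ∈ ⟨s⟩
      have hts' : t ∈ zpowers s := by
        rcases pgNbEq_cmp hts with h | h
        · exact h
        · rcases mem_zpowers_of_orderOf_two hto h with h | h
          · exact absurd h hs1
          · exact absurd h hst
      have hb2 : 2 ≤ b := by
        by_contra hb2
        have hb01 : b = 0 ∨ b = 1 := by omega
        rcases hb01 with rfl | rfl
        · rw [pow_zero] at hb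
          exact hs1 (orderOf_eq_one_iff.1 hb)
        · rw [pow_one] at hb
          exact hzne (zpowers_eq_of_mem_of_orderOf_eq hts' (hto.trans hb.symm))
      have hxs : pgCmp x s := (hts x).1 (Or.inr htx)
      rcases hxs with hxs | hsx
      · have h1 := orderOf_dvd_of_mem_zpowers hxs
        rw [hn, hb] at h1
        have h3 : m ∣ 2 ^ b := (dvd_mul_left m 2).trans h1
        have hcop : Nat.Coprime m (2 ^ b) :=
          Nat.Coprime.pow_right _ (Nat.Coprime.symm
              ((Nat.Prime.coprime_iff_not_dvd Nat.prime_two).2 h2m))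
        exact hm1 (Nat.Coprime.eq_one_of_dvd hcop h3)
      · have h1 := orderOf_dvd_of_mem_zpowers hsx
        rw [hn, hb] at h1
        have h4 : 2 ^ 2 ∣ 2 * m := (pow_dvd_pow 2 hb2).trans h1
        apply h2m
        have : 2 * 2 ∣ 2 * m := by simpa [pow_two] using h4
        exact Nat.dvd_of_mul_dvd_mul_left (by norm_num) this
    · rintro (h | h)
      · have := orderOf_dvd_of_mem_zpowers h
        rw [hto] at this
        exact h2m this
      · have h1 := orderOf_dvd_of_mem_zpowers h
        rw [hto] at h1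
        rcases (Nat.dvd_prime Nat.prime_two).1 h1 with h3 | h3
        · exact hm1 h3
        · apply h2m; rw [hm, h3]

/-- Orientation lemma, reverse direction. -/
theorem mem_of_pgBelow {x y : G} (hx : x ≠ 1) (h : pgBelow y x) : y ∈ zpowers x := by
  obtain ⟨hc, hne, hsz⟩ := h
  rcases hc with hc | hc
  · exact hc
  · exfalso
    have hne' : ¬ pgNbEq y x := fun h => hne (pgNbEq_symm h)
    rcases ncard_pgCls_lt_or hx hc hne' with h1 | ⟨h1, h2, h3⟩
    · rcases hsz with h4 | ⟨h4, -⟩ <;> omega
    · rcases hsz with h4 | ⟨-, t, ht, htx, hty⟩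
      · omega
      · have hto := orderOf_eq_two_of_pgIso ht
        have h2x : ¬ 2 ∣ orderOf x := h3.not_two_dvd_nat
        rcases htx with h | h
        · have := orderOf_dvd_of_mem_zpowers h
          rw [hto] at this
          exact h2x this
        · have h5 := orderOf_dvd_of_mem_zpowers h
          rw [hto] at h5
          rcases (Nat.dvd_prime Nat.prime_two).1 h5 with h6 | h6
          · exact hx (orderOf_eq_one_iff.1 h6)
          · apply h2x; rw [h6]

/-- For a top element of a class, the graph-theoretic down-set is the cyclic subgroup. -/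
theorem pgLam_eq_of_top {x : G} (hx : x ≠ 1)
    (htop : ∀ z, z ≠ 1 → pgNbEq x z → z ∈ zpowers x) : pgLam x = (zpowers x : Set G) := by
  ext w
  simp only [pgLam, Set.mem_ofPred_eq, SetLike.mem_coe]
  constructor
  · rintro (rfl | ⟨h1, h2⟩ | ⟨h1, h2⟩)
    · exact one_mem _
    · exact htop w h1 h2
    · exact mem_of_pgBelow hx h2
  · intro hw
    by_cases h1 : w = 1
    · exact Or.inl h1
    · by_cases h2 : pgNbEq x w
      · exact Or.inr (Or.inl ⟨h1, h2⟩)
      · exact Or.inr (Or.inr ⟨h1, pgBelow_of_mem h1 hw h2⟩)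

theorem ncard_pgLam_of_top {x : G} (hx : x ≠ 1)
    (htop : ∀ z, z ≠ 1 → pgNbEq x z → z ∈ zpowers x) : (pgLam x).ncard = orderOf x := by
  rw [pgLam_eq_of_top hx htop, ← Nat.card_zpowers]; rfl

/-- an element whose order is not a prime power is the top of its class, and the other elements of
the class generate the same subgroup -/
theorem zpowers_eq_of_pgNbEq_of_not_prime_pow {x z : G} (hx : x ≠ 1) (hz : z ≠ 1)
    (hnp : ∀ p k : ℕ, p.Prime → orderOf x ≠ p ^ k) (h : pgNbEq x z) : zpowers z = zpowers x := by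
  by_contra hne
  obtain ⟨p, a, b, hp, ha, hb⟩ := prime_pow_of_pgNbEq' hx hz (Ne.symm hne) h
  exact hnp p a hp ha

end finite

end Cfsg.Agent.Helper4.PowGraph
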