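import Cfsg.Agent.Helper4.PowGraphC

/-!
# Power graphs: transport along a graph isomorphism, and the prime graph
-/

set_option autoImplicit false

namespace Cfsg.Agent.Helper4.PowGraph

open Subgroup

section transport

variable {G : Type*} {H : Type*} [Group G] [Group H] (e : G ≃ H)
  (he : ∀ x y : G, pgCmp x y ↔ pgCmp (e x) (e y)) (h1 : e 1 = 1)

include he

theorem pgNbEq_map (x y : G) : pgNbEq (e x) (e y) ↔ pgNbEq x y := by
  unfold pgNbEq
  rw [e.surjective.forall]
  refine forall_congr' fun z => ?_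
  rw [← he, ← he]

include h1

omit he in
theorem map_ne_one_iff (x : G) : e x ≠ 1 ↔ x ≠ 1 := by
  rw [← h1]
  exact e.injective.ne_iff

theorem pgCls_map (x : G) : pgCls (e x) = e '' pgCls x := by
  ext z
  obtain ⟨y, rfl⟩ := e.surjective z
  rw [e.injective.mem_set_image]
  simp only [pgCls, Set.mem_ofPred_eq]
  rw [map_ne_one_iff e h1, pgNbEq_map e he]

theorem ncard_pgCls_map (x : G) : (pgCls (e x)).ncard = (pgCls x).ncard := by
  rw [pgCls_map e he h1, Set.ncard_image_of_injective _ e.injective]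

theorem pgIso_map (t : G) : pgIso (e t) ↔ pgIso t := by
  unfold pgIso
  rw [map_ne_one_iff e h1, e.surjective.forall]
  refine and_congr Iff.rfl (forall_congr' fun s => ?_)
  rw [map_ne_one_iff e h1, pgNbEq_map e he, e.injective.eq_iff]

theorem pgBelow_map (y x : G) : pgBelow (e y) (e x) ↔ pgBelow y x := by
  unfold pgBelow
  rw [← he, pgNbEq_map e he, ncard_pgCls_map e he h1, ncard_pgCls_map e he h1,
    e.surjective.exists]
  refine and_congr Iff.rfl (and_congr Iff.rfl (or_congr Iff.rfl (and_congr Iff.rfl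
    (exists_congr fun t => ?_))))
  rw [pgIso_map e he h1, ← he, ← he]

theorem pgLam_map (x : G) : pgLam (e x) = e '' pgLam x := by
  ext z
  obtain ⟨y, rfl⟩ := e.surjective z
  rw [e.injective.mem_set_image]
  simp only [pgLam, Set.mem_ofPred_eq]
  rw [map_ne_one_iff e h1, pgNbEq_map e he, pgBelow_map e he h1]
  rw [← h1, e.injective.eq_iff]

theorem ncard_pgLam_map (x : G) : (pgLam (e x)).ncard = (pgLam x).ncard := by
  rw [pgLam_map e he h1, Set.ncard_image_of_injective _ e.injective]

end transport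

section main

variable {G : Type*} {H : Type*} [Group G] [Group H] [Finite G] [Finite H]

/-- Main step: with `e 1 = 1`, an element whose order is not a prime power is sent (up to moving
inside its class) to an element of the same order. -/
theorem exists_orderOf_eq_of_iso (e : G ≃ H)
    (he : ∀ x y : G, pgCmp x y ↔ pgCmp (e x) (e y)) (h1 : e 1 = 1) {g : G}
    (hnp : ∀ p k : ℕ, p.Prime → orderOf g ≠ p ^ k) : ∃ h : H, orderOf h = orderOf g := by
  have hg1 : g ≠ 1 := by
    rintro rfl
    exact hnp 2 0 Nat.prime_two (by simp)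
  have hh1 : e g ≠ 1 := (map_ne_one_iff e h1 g).2 hg1
  obtain ⟨y, hy1, hhy, hytop⟩ := exists_top_pgCls hh1
  obtain ⟨g', rfl⟩ := e.surjective y
  have hg'1 : g' ≠ 1 := (map_ne_one_iff e h1 g').1 hy1
  have hgg' : pgNbEq g g' := (pgNbEq_map e he g g').1 hhy
  have hz : zpowers g' = zpowers g :=
    zpowers_eq_of_pgNbEq_of_not_prime_pow hg1 hg'1 hnp hgg'
  have ho : orderOf g' = orderOf g := by
    have h3 : Nat.card (zpowers g') = Nat.card (zpowers g) := by rw [hz]
    rwa [Nat.card_zpowers, Nat.card_zpowers] at h3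
  have hg'top : ∀ z, z ≠ 1 → pgNbEq g' z → z ∈ zpowers g' := by
    intro z hz1 hgz
    have := zpowers_eq_of_pgNbEq_of_not_prime_pow hg'1 hz1 (by rwa [ho]) hgz
    rw [← this]; exact mem_zpowers z
  refine ⟨e g', ?_⟩
  rw [← ncard_pgLam_of_top hy1 hytop, ncard_pgLam_map e he h1, ncard_pgLam_of_top hg'1 hg'top, ho]

omit [Finite H] in
/-- swapping two universal vertices preserves comparability -/
theorem pgCmp_swap_iff [DecidableEq H] {a : H} (ha : ∀ z : H, pgCmp a z) (u v : H) :
    pgCmp (Equiv.swap a 1 u) (Equiv.swap a 1 v) ↔ pgCmp u v := by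
  have huniv : ∀ w : H, (w = a ∨ w = 1) → ∀ z, pgCmp w z := by
    rintro w (rfl | rfl) z
    · exact ha z
    · exact pgCmp_one_left z
  have hsw : ∀ w : H, (w = a ∨ w = 1) → (Equiv.swap a 1 w = a ∨ Equiv.swap a 1 w = 1) := by
    rintro w (rfl | rfl)
    · right; simp
    · left; simp
  by_cases hu : u = a ∨ u = 1
  · exact iff_of_true (huniv _ (hsw u hu) _) (huniv u hu v)
  · by_cases hv : v = a ∨ v = 1
    · exact iff_of_true (pgCmp_comm.1 (huniv _ (hsw v hv) _)) (pgCmp_comm.1 (huniv v hv u))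
    · push Not at hu hv
      rw [Equiv.swap_apply_of_ne_of_ne hu.1 hu.2, Equiv.swap_apply_of_ne_of_ne hv.1 hv.2]

/-- Groups with isomorphic power graphs: elements of non-prime-power order transfer. -/
theorem exists_orderOf_eq_of_powerGraph_iso (e : G ≃ H)
    (he : ∀ x y : G, pgCmp x y ↔ pgCmp (e x) (e y)) {n : ℕ}
    (hnp : ∀ p k : ℕ, p.Prime → n ≠ p ^ k) (hg : ∃ g : G, orderOf g = n) :
    ∃ h : H, orderOf h = n := by
  classical
  obtain ⟨g, rfl⟩ := hg
  have ha : ∀ z : H, pgCmp (e 1) z := by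
    intro z
    obtain ⟨y, rfl⟩ := e.surjective z
    exact (he 1 y).1 (pgCmp_one_left y)
  let e' : G ≃ H := e.trans (Equiv.swap (e 1) 1)
  have he' : ∀ x y : G, pgCmp x y ↔ pgCmp (e' x) (e' y) := by
    intro x y
    rw [he x y]
    exact (pgCmp_swap_iff ha (e x) (e y)).symm
  have h1' : e' 1 = 1 := by
    simp [e']
  exact exists_orderOf_eq_of_iso e' he' h1' hnp

end main

end Cfsg.Agent.Helper4.PowGraph
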