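import Mathlib

set_option autoImplicit false

namespace Cfsg.Agent.Helper4

/-- A core-free subgroup `B` of prime index `p`: `p ∤ |B|` and some element of order `p` is
self-centralizing. -/
theorem exists_selfcentralizing_of_corefree {Q : Type*} [Group Q] [Finite Q] (B : Subgroup Q)
    {p : ℕ} (hp : p.Prime) (hidx : B.index = p) (hcore : B.normalCore = ⊥) :
    ¬ p ∣ Nat.card B ∧ ∃ y : Q, orderOf y = p ∧
      Subgroup.centralizer ({y} : Set Q) = Subgroup.zpowers y := by
  have hpF : Fact p.Prime := ⟨hp⟩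
  have hinj : Function.Injective (MulAction.toPermHom Q (Q ⧸ B)) := by
    rw [← MonoidHom.ker_eq_bot_iff, ← Subgroup.normalCore_eq_ker, hcore]
  have hdvd : Nat.card Q ∣ p.factorial := by
    have := Subgroup.card_dvd_of_injective _ hinj
    rwa [Nat.card_perm, ← Subgroup.index_eq_card, hidx] at this
  have hcardQ : Nat.card Q = Nat.card B * p := by
    rw [← hidx]; exact (Subgroup.card_mul_index B).symm
  have hpB : ¬ p ∣ Nat.card B := by
    rintro ⟨k, hk⟩
    rw [hcardQ, hk, ← Nat.mul_factorial_pred hp.ne_zero] at hdvd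
    have h1 : p * (k * p) ∣ p * (p - 1).factorial := by
      have : p * k * p = p * (k * p) := by ring
      rwa [this] at hdvd
    have h2 : k * p ∣ (p - 1).factorial := Nat.dvd_of_mul_dvd_mul_left hp.pos h1
    have h3 : p ∣ (p - 1).factorial := (Dvd.intro_left k rfl).trans h2
    have h4 := (hp.dvd_factorial).1 h3
    have := hp.pos
    omega
  refine ⟨hpB, ?_⟩
  have hpQ : p ∣ Nat.card Q := by rw [hcardQ]; exact Dvd.intro_left _ rfl
  obtain ⟨y, hy⟩ := exists_prime_orderOf_dvd_card' p hpQ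
  refine ⟨y, hy, ?_⟩
  have hcy : Nat.card (Subgroup.zpowers y) = p := by rw [Nat.card_zpowers, hy]
  have hcompl : (Subgroup.zpowers y).IsComplement' B := by
    apply Subgroup.isComplement'_of_coprime
    · rw [hcy, hcardQ, mul_comm]
    · rw [hcy]; exact (Nat.Prime.coprime_iff_not_dvd hp).2 hpB
  have hcompl' : B.IsComplement' (Subgroup.zpowers y) := hcompl.symm
  have hzc : Subgroup.zpowers y ≤ Subgroup.centralizer ({y} : Set Q) := by
    rw [Subgroup.zpowers_le, Subgroup.mem_centralizer_singleton_iff]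
  apply le_antisymm _ hzc
  intro d hd
  obtain ⟨⟨⟨u, hu⟩, ⟨c, hc⟩⟩, hduc, _⟩ := (Subgroup.isComplement'_def.1 hcompl).existsUnique d
  simp only at hduc
  have hcC : c ∈ Subgroup.centralizer ({y} : Set Q) := by
    have : c = u⁻¹ * d := by rw [← hduc]; group
    rw [this]
    exact Subgroup.mul_mem _ (Subgroup.inv_mem _ (hzc hu)) hd
  have hcy' : Commute c y := by
    rw [Subgroup.mem_centralizer_singleton_iff] at hcC
    exact hcC
  have hc1 : c ∈ B.normalCore := by
    intro g
    obtain ⟨⟨⟨b, hb⟩, ⟨v, hv⟩⟩, hgbv, _⟩ := (Subgroup.isComplement'_def.1 hcompl').existsUnique g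
    simp only at hgbv
    obtain ⟨n, rfl⟩ := Subgroup.mem_zpowers_iff.1 hv
    have hcomm : y ^ n * c = c * y ^ n := ((hcy'.zpow_right n).eq).symm
    have : g * c * g⁻¹ = b * c * b⁻¹ := by
      rw [← hgbv]
      calc b * y ^ n * c * (b * y ^ n)⁻¹ = b * (y ^ n * c) * (y ^ n)⁻¹ * b⁻¹ := by group
        _ = b * (c * y ^ n) * (y ^ n)⁻¹ * b⁻¹ := by rw [hcomm]
        _ = b * c * b⁻¹ := by group
    rw [this]
    exact B.mul_mem (B.mul_mem hb hc) (B.inv_mem hb)
  rw [hcore, Subgroup.mem_bot] at hc1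
  rw [← hduc, hc1, mul_one]
  exact hu

end Cfsg.Agent.Helper4
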