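import Mathlib
import Cfsg.Agent.Helper4.PrimeClassA

set_option autoImplicit false

open scoped commutatorElement

namespace Cfsg.Agent.Helper4

/-- all centralizers normal with cyclic-or-trivial quotient: class at most 2 -/
theorem class_two_of_centralizers_normal {G : Type*} [Group G] [Finite G]
    (h : ∀ x : G, (Subgroup.centralizer ({x} : Set G)).index = 1 ∨
      ((Subgroup.centralizer ({x} : Set G)).index).Prime)
    (hall : ∀ x : G, (Subgroup.centralizer ({x} : Set G)).Normal) :
    Subgroup.upperCentralSeries G 2 = ⊤ := by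
  rw [eq_top_iff]
  intro x _
  rw [show (2 : ℕ) = 1 + 1 from rfl, Subgroup.mem_upperCentralSeries_succ_iff]
  intro y
  rw [Subgroup.upperCentralSeries_one, Subgroup.mem_center_iff]
  intro z
  have hn := hall z
  have hmem : ⁅x, y⁆ ∈ Subgroup.centralizer ({z} : Set G) := by
    rcases h z with h1 | hpr
    · rw [Subgroup.index_eq_one.1 h1]; exact Subgroup.mem_top _
    · have hF : Fact ((Subgroup.centralizer ({z} : Set G)).index).Prime := ⟨hpr⟩
      have hcyc : IsCyclic (G ⧸ Subgroup.centralizer ({z} : Set G)) :=
        isCyclic_of_prime_card (p := (Subgroup.centralizer ({z} : Set G)).index)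
          (Subgroup.index_eq_card _).symm
      rw [← QuotientGroup.eq_one_iff, commutatorElement_def]
      simp only [QuotientGroup.mk_mul, QuotientGroup.mk_inv]
      have hc : ∀ a b : G ⧸ Subgroup.centralizer ({z} : Set G), a * b = b * a :=
        fun a b => Std.Commutative.comm a b
      rw [hc (x : G ⧸ Subgroup.centralizer ({z} : Set G)) (y : G ⧸ _)]
      group
  rw [Subgroup.mem_centralizer_singleton_iff] at hmem
  exact hmem.symm

end Cfsg.Agent.Helper4

namespace Cfsg.Agent.Helper4

/-- the case of a non-normal centralizer -/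
theorem frobenius_pq_of_centralizer_not_normal {G : Type*} [Group G] [Finite G]
    (h : ∀ x : G, (Subgroup.centralizer ({x} : Set G)).index = 1 ∨
      ((Subgroup.centralizer ({x} : Set G)).index).Prime)
    (x : G) (hx : ¬ (Subgroup.centralizer ({x} : Set G)).Normal) :
    ∃ p q : ℕ, p.Prime ∧ q.Prime ∧ p ≠ q ∧ Nat.card (G ⧸ Subgroup.center G) = p * q ∧
      ¬ IsMulCommutative (G ⧸ Subgroup.center G) := by
  obtain ⟨C, hC⟩ : ∃ C : Subgroup G, C = Subgroup.centralizer ({x} : Set G) := ⟨_, rfl⟩
  rw [← hC] at hx
  have hp : (C.index).Prime := by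
    rcases h x with h1 | h1
    · exfalso; apply hx
      rw [← hC] at h1
      rw [Subgroup.index_eq_one.1 h1]; infer_instance
    · rw [hC]; exact h1
  obtain ⟨p, hpdef⟩ : ∃ p, p = C.index := ⟨_, rfl⟩
  rw [← hpdef] at hp
  obtain ⟨N, hN⟩ : ∃ N : Subgroup G, N = C.normalCore := ⟨_, rfl⟩
  have hNn : N.Normal := by rw [hN]; infer_instance
  have hNC : N ≤ C := by rw [hN]; exact C.normalCore_le
  have hker : (QuotientGroup.mk' N).ker ≤ C := by rw [QuotientGroup.ker_mk']; exact hNC
  have hsurj := QuotientGroup.mk'_surjective N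
  obtain ⟨B, hB⟩ : ∃ B : Subgroup (G ⧸ N), B = C.map (QuotientGroup.mk' N) := ⟨_, rfl⟩
  have hBidx : B.index = p := by
    rw [hB, Subgroup.index_map_eq _ hsurj hker, hpdef]
  have hcomap : B.comap (QuotientGroup.mk' N) = C := by
    rw [hB]; exact Subgroup.comap_map_eq_self hker
  have hBcore : B.normalCore = ⊥ := by
    rw [eq_bot_iff]
    intro b hb
    obtain ⟨g, rfl⟩ := hsurj b
    rw [Subgroup.mem_bot, QuotientGroup.mk'_apply, QuotientGroup.eq_one_iff, hN]
    intro a
    have := hb (QuotientGroup.mk' N a)
    rw [← map_inv, ← map_mul, ← map_mul, ← Subgroup.mem_comap, hcomap] at this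
    exact this
  obtain ⟨hpB, y, hy, hcy⟩ := exists_selfcentralizing_of_corefree B hp hBidx hBcore
  have hcardQ : Nat.card (G ⧸ N) = Nat.card B * p := by
    rw [← hBidx]; exact (Subgroup.card_mul_index B).symm
  have hcardzy : Nat.card (Subgroup.zpowers y) = p := by rw [Nat.card_zpowers, hy]
  have hidxy : (Subgroup.centralizer ({y} : Set (G ⧸ N))).index = Nat.card B := by
    have h1 := Subgroup.card_mul_index (Subgroup.centralizer ({y} : Set (G ⧸ N)))
    have hcc : Nat.card (Subgroup.centralizer ({y} : Set (G ⧸ N))) = p := by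
      rw [hcy]; exact hcardzy
    rw [hcc, hcardQ, mul_comm] at h1
    exact Nat.eq_of_mul_eq_mul_right hp.pos h1
  -- centralizers in the quotient
  have hcent : ∀ g : G, (Subgroup.centralizer ({(QuotientGroup.mk' N g)} : Set (G ⧸ N))).index ∣
      (Subgroup.centralizer ({g} : Set G)).index := by
    intro g
    have hle : Subgroup.centralizer ({g} : Set G) ≤
        (Subgroup.centralizer ({(QuotientGroup.mk' N g)} : Set (G ⧸ N))).comap
          (QuotientGroup.mk' N) := by
      intro a ha
      rw [Subgroup.mem_comap, Subgroup.mem_centralizer_singleton_iff]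
      rw [Subgroup.mem_centralizer_singleton_iff] at ha
      rw [← map_mul, ← map_mul, ha]
    have := Subgroup.index_dvd_of_le hle
    rwa [Subgroup.index_comap_of_surjective _ hsurj] at this
  have hBne : Nat.card B ≠ 1 := by
    intro h1
    apply hx
    have hBbot : B = ⊥ := Subgroup.card_eq_one.1 h1
    have hCN : C = N := by
      apply le_antisymm _ hNC
      rw [← hcomap, hBbot, MonoidHom.comap_bot, QuotientGroup.ker_mk']
    rw [hCN]; exact hNn
  obtain ⟨y0, rfl⟩ := hsurj y
  have hq : (Nat.card B).Prime := by
    have hd := hcent y0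
    rw [hidxy] at hd
    rcases h y0 with h1 | h1
    · rw [h1] at hd
      exact absurd (Nat.dvd_one.1 hd) hBne
    · rcases (Nat.dvd_prime h1).1 hd with h2 | h2
      · exact absurd h2 hBne
      · rw [h2]; exact h1
  obtain ⟨q, hqdef⟩ : ∃ q, q = Nat.card B := ⟨_, rfl⟩
  rw [← hqdef] at hq hpB hcardQ hidxy
  have hpq : p ≠ q := by
    rintro rfl
    exact hpB dvd_rfl
  -- the centre of the quotient is trivial
  have hZQ : Subgroup.center (G ⧸ N) = ⊥ := by
    have hle : Subgroup.center (G ⧸ N) ≤ Subgroup.zpowers (QuotientGroup.mk' N y0) := by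
      rw [← hcy]; exact Subgroup.center_le_centralizer _
    have hF : Fact (Nat.card (Subgroup.zpowers (QuotientGroup.mk' N y0))).Prime := ⟨hcardzy ▸ hp⟩
    have hsub : (Subgroup.center (G ⧸ N)).subgroupOf (Subgroup.zpowers (QuotientGroup.mk' N y0))
        = ⊥ ∨ (Subgroup.center (G ⧸ N)).subgroupOf (Subgroup.zpowers (QuotientGroup.mk' N y0))
        = ⊤ := Subgroup.eq_bot_or_eq_top_of_prime_card _
    rcases hsub with h1 | h1
    · rw [Subgroup.subgroupOf_eq_bot] at h1
      rw [eq_bot_iff, ← h1.eq_bot]
      exact le_inf le_rfl hle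
    · exfalso
      rw [Subgroup.subgroupOf_eq_top] at h1
      have hyc : QuotientGroup.mk' N y0 ∈ Subgroup.center (G ⧸ N) :=
        h1 (Subgroup.mem_zpowers _)
      have htop : Subgroup.centralizer ({(QuotientGroup.mk' N y0)} : Set (G ⧸ N)) = ⊤ := by
        rw [eq_top_iff]
        intro a _
        rw [Subgroup.mem_centralizer_singleton_iff]
        exact Subgroup.mem_center_iff.1 hyc a
      rw [htop, Subgroup.index_top] at hidxy
      rw [← hidxy] at hq
      exact Nat.not_prime_one hq
  -- every element outside `N` centralizes `N`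
  have hout : ∀ g : G, g ∉ N → N ≤ Subgroup.centralizer ({g} : Set G) := by
    intro g hg
    have hne : (Subgroup.centralizer ({(QuotientGroup.mk' N g)} : Set (G ⧸ N))).index ≠ 1 := by
      intro h1
      rw [Subgroup.index_eq_one] at h1
      apply hg
      have hgc : QuotientGroup.mk' N g ∈ Subgroup.center (G ⧸ N) := by
        rw [Subgroup.mem_center_iff]
        intro a
        have ha : a ∈ Subgroup.centralizer ({(QuotientGroup.mk' N g)} : Set (G ⧸ N)) := by
          rw [h1]; exact Subgroup.mem_top _
        rw [Subgroup.mem_centralizer_singleton_iff] at ha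
        exact ha
      rw [hZQ, Subgroup.mem_bot, QuotientGroup.mk'_apply, QuotientGroup.eq_one_iff] at hgc
      exact hgc
    have hd := hcent g
    have hle : Subgroup.centralizer ({g} : Set G) ≤
        (Subgroup.centralizer ({(QuotientGroup.mk' N g)} : Set (G ⧸ N))).comap
          (QuotientGroup.mk' N) := by
      intro a ha
      rw [Subgroup.mem_comap, Subgroup.mem_centralizer_singleton_iff]
      rw [Subgroup.mem_centralizer_singleton_iff] at ha
      rw [← map_mul, ← map_mul, ha]
    have hidxeq : ((Subgroup.centralizer ({(QuotientGroup.mk' N g)} : Set (G ⧸ N))).comap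
          (QuotientGroup.mk' N)).index = (Subgroup.centralizer ({g} : Set G)).index := by
      rw [Subgroup.index_comap_of_surjective _ hsurj]
      rcases h g with h1 | h1
      · rw [h1] at hd
        exact absurd (Nat.dvd_one.1 hd) hne
      · rcases (Nat.dvd_prime h1).1 hd with h2 | h2
        · exact absurd h2 hne
        · exact h2
    have hrel := Subgroup.relIndex_mul_index hle
    rw [hidxeq] at hrel
    have hidxne : (Subgroup.centralizer ({g} : Set G)).index ≠ 0 := Subgroup.index_ne_zero_of_finite
    have hrel1 : (Subgroup.centralizer ({g} : Set G)).relIndex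
        ((Subgroup.centralizer ({(QuotientGroup.mk' N g)} : Set (G ⧸ N))).comap
          (QuotientGroup.mk' N)) = 1 := by
      have : (Subgroup.centralizer ({g} : Set G)).relIndex
        ((Subgroup.centralizer ({(QuotientGroup.mk' N g)} : Set (G ⧸ N))).comap
          (QuotientGroup.mk' N)) * (Subgroup.centralizer ({g} : Set G)).index =
          1 * (Subgroup.centralizer ({g} : Set G)).index := by rw [hrel, one_mul]
      exact Nat.eq_of_mul_eq_mul_right (Nat.pos_of_ne_zero hidxne) this
    rw [Subgroup.relIndex_eq_one] at hrel1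
    intro n hn
    apply hrel1
    have hn1 : (QuotientGroup.mk' N) n = 1 := (QuotientGroup.eq_one_iff n).2 hn
    rw [Subgroup.mem_comap, hn1]
    exact Subgroup.one_mem _
  have hNtop : N ≠ ⊤ := by
    intro h1
    apply hx
    have : C = ⊤ := by rw [eq_top_iff, ← h1]; exact hNC
    rw [this]; infer_instance
  obtain ⟨g0, hg0⟩ : ∃ g0 : G, g0 ∉ N := by
    by_contra hcon
    push Not at hcon
    exact hNtop (eq_top_iff.2 fun a _ => hcon a)
  have hNZ : N = Subgroup.center G := by
    apply le_antisymm
    · intro n hn
      rw [Subgroup.mem_center_iff]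
      intro g
      by_cases hg : g ∈ N
      · have h1 : g0 * g ∉ N := by
          intro h2
          apply hg0
          have := N.mul_mem h2 (N.inv_mem hg)
          rwa [mul_inv_cancel_right] at this
        have e1 := hout g0 hg0 hn
        have e2 := hout (g0 * g) h1 hn
        rw [Subgroup.mem_centralizer_singleton_iff] at e1 e2
        -- e1 : g0 * n = n * g0 ; e2 : g0 * g * n = n * (g0 * g)
        have : g0 * (g * n) = g0 * (n * g) := by
          calc g0 * (g * n) = g0 * g * n := (mul_assoc _ _ _).symm
            _ = n * (g0 * g) := e2.symm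
            _ = n * g0 * g := (mul_assoc _ _ _).symm
            _ = g0 * n * g := by rw [e1]
            _ = g0 * (n * g) := mul_assoc _ _ _
        exact mul_left_cancel this
      · have e1 := hout g hg hn
        rw [Subgroup.mem_centralizer_singleton_iff] at e1
        exact e1.symm
    · rw [hN, Subgroup.normal_le_normalCore, hC]
      exact Subgroup.center_le_centralizer _
  have e : G ⧸ N ≃* G ⧸ Subgroup.center G := QuotientGroup.quotientMulEquivOfEq hNZ
  refine ⟨p, q, hp, hq, hpq, ?_, ?_⟩
  · rw [← Nat.card_congr e.toEquiv, hcardQ, mul_comm]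
  · intro hcomm
    have hcomm' : ∀ a b : G ⧸ N, a * b = b * a := by
      intro a b
      apply e.injective
      rw [map_mul, map_mul]
      exact hcomm.is_comm.comm _ _
    have htop : Subgroup.center (G ⧸ N) = ⊤ := by
      rw [eq_top_iff]
      intro a _
      rw [Subgroup.mem_center_iff]
      intro b
      exact hcomm' b a
    rw [hZQ] at htop
    have h1 : Nat.card (G ⧸ N) = 1 := by
      rw [← Subgroup.card_top (G := G ⧸ N), ← htop, Subgroup.card_bot]
    rw [hcardQ] at h1
    have := hp.one_lt
    have hq1 := hq.one_lt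
    nlinarith

end Cfsg.Agent.Helper4
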