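import Mathlib

set_option autoImplicit false

/-!
Permutations of prime order `r` and invariant `k`-subsets: unions of `i` orbits of size `r` and
`j` fixed points.
-/

namespace Cfsg.Agent.Helper4.PrimePermFix

open Equiv Equiv.Perm

variable {α : Type*} [Fintype α] [DecidableEq α]

/-- `s` is mapped into itself by `σ`. -/
def Inv (σ : Perm α) (s : Finset α) : Prop := ∀ y ∈ s, σ y ∈ s

theorem Inv.image_eq {σ : Perm α} {s : Finset α} (h : Inv σ s) : s.image σ = s := by
  apply Finset.eq_of_subset_of_card_le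
  · intro y hy
    obtain ⟨z, hz, rfl⟩ := Finset.mem_image.mp hy
    exact h z hz
  · rw [Finset.card_image_of_injective _ σ.injective]

theorem inv_of_image_eq {σ : Perm α} {s : Finset α} (h : s.image σ = s) : Inv σ s := by
  intro y hy
  rw [← h]
  exact Finset.mem_image_of_mem _ hy

theorem Inv.pow {σ : Perm α} {s : Finset α} (h : Inv σ s) (m : ℕ) : Inv (σ ^ m) s := by
  induction m with
  | zero => intro y hy; simpa using hy
  | succ m ih =>
    intro y hy
    rw [pow_succ', Perm.mul_apply]
    exact h _ (ih y hy)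

theorem Inv.union {σ : Perm α} {s t : Finset α} (hs : Inv σ s) (ht : Inv σ t) : Inv σ (s ∪ t) := by
  intro y hy
  rcases Finset.mem_union.mp hy with h | h
  · exact Finset.mem_union_left _ (hs y h)
  · exact Finset.mem_union_right _ (ht y h)

/-- one orbit of a non-fixed point -/
theorem orbit_step {σ : Perm α} {r : ℕ} (hr : r.Prime) (hσ : orderOf σ = r) {s : Finset α}
    (hs : Inv σ s) {x : α} (hx : x ∈ σ.support) (hxs : x ∉ s) :
    ∃ O : Finset α, O ⊆ σ.support ∧ Inv σ O ∧ O.card = r ∧ Disjoint s O := by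
  have hx' : σ x ≠ x := Perm.mem_support.mp hx
  refine ⟨(σ.cycleOf x).support, Perm.support_cycleOf_le σ x, ?_, ?_, ?_⟩
  · intro y hy
    rw [Perm.mem_support_cycleOf_iff] at hy ⊢
    exact ⟨Perm.sameCycle_apply_right.mpr hy.1, hy.2⟩
  · have hc := Perm.isCycle_cycleOf σ hx'
    have h1 := hc.orderOf
    have h2 := Perm.orderOf_cycleOf_dvd_orderOf σ x
    have h3 := hc.two_le_card_support
    rw [hσ, h1] at h2
    rcases (Nat.dvd_prime hr).mp h2 with h | h
    · omega
    · exact h
  · rw [Finset.disjoint_left]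
    intro y hys hyO
    rw [Perm.mem_support_cycleOf_iff] at hyO
    obtain ⟨i, -, hi⟩ := hyO.1.symm.exists_pow_eq'
    apply hxs
    rw [← hi]
    exact hs.pow i y hys

/-- unions of `i` nontrivial orbits -/
theorem exists_orbits {σ : Perm α} {r : ℕ} (hr : r.Prime) (hσ : orderOf σ = r) :
    ∀ i : ℕ, r * i ≤ σ.support.card → ∃ s : Finset α, s ⊆ σ.support ∧ Inv σ s ∧ s.card = r * i := by
  intro i
  induction i with
  | zero =>
    intro _
    exact ⟨∅, Finset.empty_subset _, fun y hy => absurd hy (Finset.notMem_empty y), by simp⟩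
  | succ i ih =>
    intro hi
    obtain ⟨s, hs1, hs2, hs3⟩ := ih (by rw [Nat.mul_succ] at hi; omega)
    have hlt : s.card < σ.support.card := by
      rw [hs3]
      have := hr.pos
      rw [Nat.mul_succ] at hi
      omega
    obtain ⟨x, hx, hxs⟩ := Finset.exists_mem_notMem_of_card_lt_card hlt
    obtain ⟨O, hO1, hO2, hO3, hO4⟩ := orbit_step hr hσ hs2 hx hxs
    refine ⟨s ∪ O, Finset.union_subset hs1 hO1, hs2.union hO2, ?_⟩
    rw [Finset.card_union_of_disjoint hO4, hs3, hO3, Nat.mul_succ]

/-- invariant sets of size `r i + j` -/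
theorem exists_inv_of_le {σ : Perm α} {r : ℕ} (hr : r.Prime) (hσ : orderOf σ = r) (i j : ℕ)
    (hi : r * i ≤ σ.support.card) (hj : j ≤ Fintype.card α - σ.support.card) :
    ∃ s : Finset α, s.card = r * i + j ∧ s.image σ = s := by
  obtain ⟨s, hs1, hs2, hs3⟩ := exists_orbits hr hσ i hi
  have hc : j ≤ (σ.supportᶜ).card := by rw [Finset.card_compl]; exact hj
  obtain ⟨t, ht1, ht2⟩ := Finset.exists_subset_card_eq hc
  have htinv : Inv σ t := by
    intro y hy
    have h1 := ht1 hy
    rw [Finset.mem_compl, Perm.mem_support, not_not] at h1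
    rw [h1]; exact hy
  have hdisj : Disjoint s t := by
    rw [Finset.disjoint_left]
    intro y hys hyt
    have h1 := ht1 hyt
    rw [Finset.mem_compl] at h1
    exact h1 (hs1 hys)
  refine ⟨s ∪ t, ?_, (hs2.union htinv).image_eq⟩
  rw [Finset.card_union_of_disjoint hdisj, hs3, ht2]

/-- the support of a permutation of prime order `r` has size a positive multiple of `r` -/
theorem card_support_of_prime {σ : Perm α} {r : ℕ} (hr : r.Prime) (hσ : orderOf σ = r) :
    ∃ c : ℕ, 1 ≤ c ∧ σ.support.card = r * c := by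
  obtain ⟨m, hm⟩ := Perm.cycleType_prime_order (σ := σ) (by rw [hσ]; exact hr)
  refine ⟨m + 1, by omega, ?_⟩
  rw [← Perm.sum_cycleType, hm, hσ, Multiset.sum_replicate, smul_eq_mul, mul_comm]

/-- (A): if `k % r ≤ n % r` then every permutation of prime order `r` fixes a `k`-subset. -/
theorem exists_inv_of_mod_le {σ : Perm α} {r : ℕ} (hr : r.Prime) (hσ : orderOf σ = r) (k : ℕ)
    (hk : k ≤ Fintype.card α) (hmod : k % r ≤ Fintype.card α % r) :
    ∃ s : Finset α, s.card = k ∧ s.image σ = s := by
  obtain ⟨c, hc1, hc⟩ := card_support_of_prime hr hσ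
  have hle : σ.support.card ≤ Fintype.card α := Finset.card_le_univ _
  set n := Fintype.card α with hn
  have hrpos := hr.pos
  -- n % r ≤ n - r c
  have h1 : n % r ≤ n - r * c := by
    have : n = r * c + (n - r * c) := by omega
    have h2 : n % r = (n - r * c) % r := by
      conv_lhs => rw [this]
      rw [Nat.mul_add_mod]
    rw [h2]
    exact Nat.mod_le _ _
  by_cases hkc : k / r ≤ c
  · obtain ⟨s, hs1, hs2⟩ := exists_inv_of_le hr hσ (k / r) (k % r)
      (by rw [hc]; exact Nat.mul_le_mul_left _ hkc) (by rw [hc]; omega)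
    refine ⟨s, ?_, hs2⟩
    rw [hs1, Nat.div_add_mod]
  · push_neg at hkc
    have h2 : r * c ≤ k := by
      have h3 : r * (c + 1) ≤ r * (k / r) := Nat.mul_le_mul_left _ hkc
      have h4 : r * (k / r) ≤ k := Nat.mul_div_le k r
      rw [Nat.mul_succ] at h3
      omega
    obtain ⟨s, hs1, hs2⟩ := exists_inv_of_le hr hσ c (k - r * c)
      (by rw [hc]) (by rw [hc]; omega)
    refine ⟨s, ?_, hs2⟩
    rw [hs1]; omega

/-- (B): a permutation with `n / r` cycles of length `r`: invariant `k`-subsets force
`k % r ≤ n % r`. -/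
theorem exists_perm_mod_le {r : ℕ} (hr : r.Prime) (hrn : r ≤ Fintype.card α) :
    ∃ σ : Perm α, orderOf σ = r ∧ ∀ s : Finset α, s.image σ = s →
      s.card % r ≤ Fintype.card α % r := by
  haveI : Fact r.Prime := ⟨hr⟩
  set n := Fintype.card α with hn
  have hrpos := hr.pos
  obtain ⟨σ, hσ⟩ := (Equiv.Perm.exists_with_cycleType_iff (α := α)
    (m := Multiset.replicate (n / r) r)).mpr (by
      constructor
      · rw [Multiset.sum_replicate, smul_eq_mul]
        exact Nat.div_mul_le_self n r
      · intro a ha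
        rw [Multiset.eq_of_mem_replicate ha]
        exact hr.two_le)
  have hdiv : 1 ≤ n / r := (Nat.one_le_div_iff hrpos).mpr hrn
  have hord : orderOf σ = r := by
    rw [← Perm.lcm_cycleType, hσ]
    apply Nat.dvd_antisymm
    · apply Multiset.lcm_dvd.mpr
      intro b hb
      rw [Multiset.eq_of_mem_replicate hb]
    · apply Multiset.dvd_lcm
      rw [Multiset.mem_replicate]
      exact ⟨by omega, rfl⟩
  have hsupp : σ.support.card = n / r * r := by
    rw [← Perm.sum_cycleType, hσ, Multiset.sum_replicate, smul_eq_mul]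
  have hfix : (σ.supportᶜ).card = n % r := by
    rw [Finset.card_compl, hsupp, ← hn]
    have := Nat.div_add_mod n r
    rw [mul_comm] at this
    omega
  refine ⟨σ, hord, ?_⟩
  intro s hs
  have hinv := inv_of_image_eq hs
  have hiff : ∀ x, σ x ∈ s ↔ x ∈ s := by
    intro x
    constructor
    · intro hx
      have h1 := hinv.pow (r - 1) _ hx
      rw [← Perm.mul_apply, ← pow_succ, Nat.sub_add_cancel hr.pos, ← hord, pow_orderOf_eq_one] at h1
      exact h1
    · exact hinv x
  set τ : Perm {x // x ∈ s} := σ.subtypePerm hiff with hτ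
  have hτr : τ ^ r ^ 1 = 1 := by
    rw [pow_one, hτ, Perm.subtypePerm_pow]
    ext x
    rw [Perm.subtypePerm_apply]
    simp only [Perm.coe_one, id_eq]
    rw [← hord, pow_orderOf_eq_one]
    rfl
  have hmod := Perm.card_compl_support_modEq hτr
  rw [Fintype.card_coe] at hmod
  -- fixed points of τ inject into fixed points of σ
  have hle : (τ.supportᶜ).card ≤ (σ.supportᶜ).card := by
    apply Finset.card_le_card_of_injOn (fun x => x.1)
    · intro x hx
      have hx' : x ∈ τ.supportᶜ := hx
      rw [Finset.mem_compl, Perm.mem_support, not_not] at hx'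
      have h2 : σ x.1 = x.1 := by
        have := congrArg Subtype.val hx'
        simpa [hτ] using this
      show x.1 ∈ (σ.supportᶜ : Finset α)
      rw [Finset.mem_compl, Perm.mem_support, not_not]
      exact h2
    · intro x _ y _ hxy
      exact Subtype.ext hxy
  rw [hfix] at hle
  have hlt : n % r < r := Nat.mod_lt _ hrpos
  have h3 : s.card % r = (τ.supportᶜ).card % r := hmod.symm
  rw [h3, Nat.mod_eq_of_lt (by omega)]
  exact hle

/-- number theory: `r ∣ C(n,k)` forces `r ≤ n`. -/
theorem le_of_dvd_choose {n k r : ℕ} (hr : r.Prime) (hkn : k ≤ n) (h : r ∣ n.choose k) : r ≤ n := by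
  have h1 : n.choose k ∣ n.factorial := by
    rw [← Nat.choose_mul_factorial_mul_factorial hkn, mul_assoc]
    exact dvd_mul_right _ _
  exact (Nat.Prime.dvd_factorial hr).mp (h.trans h1)

/-- number theory (one-digit Lucas): if `k < r` and `k ≤ n % r` then `r ∤ C(n,k)`. -/
theorem not_dvd_choose {n k r : ℕ} (hr : r.Prime) (hkr : k < r) (hk : k ≤ n % r) :
    ¬ r ∣ n.choose k := by
  haveI : Fact r.Prime := ⟨hr⟩
  intro h
  have h1 := Choose.choose_modEq_choose_mod_mul_choose_div_nat (n := n) (k := k) (p := r)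
  rw [Nat.mod_eq_of_lt hkr, Nat.div_eq_of_lt hkr, Nat.choose_zero_right, mul_one] at h1
  have h2 : r ∣ (n % r).choose k := (Nat.modEq_zero_iff_dvd.mp
    (h1.symm.trans (Nat.modEq_zero_iff_dvd.mpr h)))
  have h3 := le_of_dvd_choose hr hk h2
  have := Nat.mod_lt n hr.pos
  omega

end Cfsg.Agent.Helper4.PrimePermFix
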