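import Mathlib
import Cfsg.Prelude.Def_HallClasses
import Cfsg.Agent.Helper1.Basic
import Cfsg.Agent.Helper1.SylowInt

set_option autoImplicit false

/-!
Pronormal subgroups: basic toolkit.
-/

namespace Cfsg.Agent.Helper4.Prn

open scoped Pointwise
open Cfsg.Agent.Helper1

variable {G : Type*} [Group G]

/-- `H` and `g H g⁻¹` are conjugate inside their join. -/
def Good (H : Subgroup G) (g : G) : Prop :=
  ∃ x ∈ H ⊔ MulAut.conj g • H, MulAut.conj g • H = MulAut.conj x • H

theorem isPronormal_iff (H : Subgroup G) : Cfsg.IsPronormal H ↔ ∀ g : G, Good H g := Iff.rfl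

theorem conj_mul_smul (a b : G) (H : Subgroup G) :
    MulAut.conj (a * b) • H = MulAut.conj a • MulAut.conj b • H := by
  rw [map_mul, mul_smul]

theorem conj_inv_smul_conj_smul (a : G) (H : Subgroup G) :
    MulAut.conj a⁻¹ • MulAut.conj a • H = H := by
  rw [← conj_mul_smul, inv_mul_cancel, map_one, one_smul]

theorem conj_smul_conj_inv_smul (a : G) (H : Subgroup G) :
    MulAut.conj a • MulAut.conj a⁻¹ • H = H := by
  rw [← conj_mul_smul, mul_inv_cancel, map_one, one_smul]

theorem conj_smul_eq_self_iff {H : Subgroup G} {n : G} :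
    MulAut.conj n • H = H ↔ n ∈ Subgroup.normalizer (H : Set G) := by
  rw [Subgroup.mem_normalizer_iff]
  constructor
  · intro h x
    constructor
    · intro hx
      rw [← h]
      exact conj_mem_conj_smul hx
    · intro hx
      rw [← h, mem_conj_smul] at hx
      simpa [mul_assoc] using hx
  · intro h
    ext x
    rw [mem_conj_smul, h (n⁻¹ * x * n)]
    simp [mul_assoc]

theorem conj_smul_le_sup_of_mem {J K : Subgroup G} (hK : K ≤ J) {j : G} (hj : j ∈ J) :
    MulAut.conj j • K ≤ J := by
  intro x hx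
  rw [mem_conj_smul] at hx
  have := J.mul_mem (J.mul_mem hj (hK hx)) (J.inv_mem hj)
  simpa [mul_assoc] using this

/-- reduction on the left by an element of the join -/
theorem Good.of_left {H : Subgroup G} {g j : G} (hj : j ∈ H ⊔ MulAut.conj g • H)
    (h : Good H (j⁻¹ * g)) : Good H g := by
  obtain ⟨x, hx, hxe⟩ := h
  have hle : H ⊔ MulAut.conj (j⁻¹ * g) • H ≤ H ⊔ MulAut.conj g • H := by
    refine sup_le le_sup_left ?_
    rw [conj_mul_smul]
    exact conj_smul_le_sup_of_mem le_sup_right (Subgroup.inv_mem _ hj)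
  refine ⟨j * x, Subgroup.mul_mem _ hj (hle hx), ?_⟩
  rw [conj_mul_smul j x, ← hxe, ← conj_mul_smul, mul_inv_cancel_left]

/-- reduction on the right by an element of the normalizer -/
theorem Good.of_right {H : Subgroup G} {g n : G} (hn : n ∈ Subgroup.normalizer (H : Set G))
    (h : Good H g) : Good H (g * n) := by
  have e : MulAut.conj (g * n) • H = MulAut.conj g • H := by
    rw [conj_mul_smul, conj_smul_eq_self_iff.2 hn]
  unfold Good
  rw [e]
  exact h

/-- pronormality is invariant under conjugation -/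
theorem isPronormal_conj {H : Subgroup G} (hH : Cfsg.IsPronormal H) (c : G) :
    Cfsg.IsPronormal (MulAut.conj c • H) := by
  rw [isPronormal_iff] at hH ⊢
  intro g
  obtain ⟨x, hx, hxe⟩ := hH (c⁻¹ * g * c)
  refine ⟨c * x * c⁻¹, ?_, ?_⟩
  · have h1 : MulAut.conj c • (H ⊔ MulAut.conj (c⁻¹ * g * c) • H) =
        MulAut.conj c • H ⊔ MulAut.conj g • MulAut.conj c • H := by
      rw [Subgroup.smul_sup, ← conj_mul_smul, ← conj_mul_smul]
      congr 2
      group
    have h2 : c * x * c⁻¹ ∈ MulAut.conj c • (H ⊔ MulAut.conj (c⁻¹ * g * c) • H) :=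
      conj_mem_conj_smul hx
    rw [h1] at h2
    exact h2
  · show MulAut.conj g • MulAut.conj c • H = MulAut.conj (c * x * c⁻¹) • MulAut.conj c • H
    rw [← conj_mul_smul, ← conj_mul_smul]
    have e1 : g * c = c * (c⁻¹ * g * c) := by group
    have e2 : c * x * c⁻¹ * c = c * x := by group
    rw [e1, e2, conj_mul_smul c, conj_mul_smul c, hxe]

/-- relative pronormality -/
def PrnIn (N M : Subgroup G) : Prop :=
  ∀ a ∈ N, ∃ e ∈ M ⊔ MulAut.conj a • M, MulAut.conj a • M = MulAut.conj e • M

theorem PrnIn.of_isPronormal {N M : Subgroup G} (h : Cfsg.IsPronormal M) : PrnIn N M :=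
  fun a _ => (isPronormal_iff M).1 h a

theorem subgroupOf_conj_smul {N M : Subgroup G} (a : N) :
    (MulAut.conj (a : G) • M).subgroupOf N = MulAut.conj a • M.subgroupOf N := by
  ext x
  rw [Subgroup.mem_subgroupOf, mem_conj_smul, mem_conj_smul, Subgroup.mem_subgroupOf]
  simp

theorem prnIn_iff_isPronormal_subgroupOf {N M : Subgroup G} (hM : M ≤ N) :
    PrnIn N M ↔ Cfsg.IsPronormal (M.subgroupOf N) := by
  rw [isPronormal_iff]
  constructor
  · intro h a
    obtain ⟨e, he, hee⟩ := h a a.2
    have hJ : M ⊔ MulAut.conj (a : G) • M ≤ N :=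
      sup_le hM (conj_smul_le_sup_of_mem hM a.2)
    refine ⟨⟨e, hJ he⟩, ?_, ?_⟩
    · rw [← subgroupOf_conj_smul, ← Subgroup.subgroupOf_sup hM (conj_smul_le_sup_of_mem hM a.2)]
      exact he
    · rw [← subgroupOf_conj_smul, ← subgroupOf_conj_smul (N := N) (M := M) ⟨e, hJ he⟩, hee]
  · intro h a ha
    obtain ⟨e, he, hee⟩ := h ⟨a, ha⟩
    refine ⟨(e : G), ?_, ?_⟩
    · rw [← subgroupOf_conj_smul,
        ← Subgroup.subgroupOf_sup hM (conj_smul_le_sup_of_mem hM ha)] at he
      exact he
    · rw [← subgroupOf_conj_smul, ← subgroupOf_conj_smul] at hee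
      have h1 : MulAut.conj a • M ≤ N := conj_smul_le_sup_of_mem hM ha
      have h2 : MulAut.conj (e : G) • M ≤ N := conj_smul_le_sup_of_mem hM e.2
      have := congrArg (Subgroup.map N.subtype) hee
      rwa [Subgroup.subgroupOf_map_subtype, Subgroup.subgroupOf_map_subtype, inf_eq_left.2 h1,
        inf_eq_left.2 h2] at this

/-- image of a pronormal subgroup under a surjective hom is pronormal -/
theorem isPronormal_map {G' : Type*} [Group G'] (f : G →* G') (hf : Function.Surjective f)
    {H : Subgroup G} (hH : Cfsg.IsPronormal H) : Cfsg.IsPronormal (H.map f) := by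
  rw [isPronormal_iff] at hH ⊢
  intro g'
  obtain ⟨g, rfl⟩ := hf g'
  obtain ⟨x, hx, hxe⟩ := hH g
  refine ⟨f x, ?_, ?_⟩
  · show f x ∈ H.map f ⊔ MulAut.conj (f g) • H.map f
    rw [← map_conj_smul, ← Subgroup.map_sup]
    exact Subgroup.mem_map_of_mem f hx
  · show MulAut.conj (f g) • H.map f = MulAut.conj (f x) • H.map f
    rw [← map_conj_smul, ← map_conj_smul, hxe]

/-- pronormality lifts through a quotient by a normal subgroup contained in `H` -/
theorem isPronormal_of_map_mk' (T : Subgroup G) [T.Normal] {H : Subgroup G} (hT : T ≤ H)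
    (hH : Cfsg.IsPronormal (H.map (QuotientGroup.mk' T))) : Cfsg.IsPronormal H := by
  rw [isPronormal_iff] at hH ⊢
  intro g
  obtain ⟨x', hx', hxe⟩ := hH (QuotientGroup.mk' T g)
  have hx'' : x' ∈ (H ⊔ MulAut.conj g • H).map (QuotientGroup.mk' T) := by
    rw [Subgroup.map_sup, map_conj_smul]
    exact hx'
  obtain ⟨x, hx, rfl⟩ := hx''
  refine ⟨x, hx, ?_⟩
  have h1 : (MulAut.conj g • H).map (QuotientGroup.mk' T) =
      (MulAut.conj x • H).map (QuotientGroup.mk' T) := by
    rw [map_conj_smul, map_conj_smul]; exact hxe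
  have h2 := congrArg (Subgroup.comap (QuotientGroup.mk' T)) h1
  rw [Subgroup.comap_map_eq, Subgroup.comap_map_eq, QuotientGroup.ker_mk'] at h2
  have hTg : T ≤ MulAut.conj g • H := by
    intro t ht
    rw [mem_conj_smul]
    exact hT (by
      have := (inferInstance : T.Normal).conj_mem t ht g⁻¹
      simpa using this)
  have hTx : T ≤ MulAut.conj x • H := by
    intro t ht
    rw [mem_conj_smul]
    exact hT (by
      have := (inferInstance : T.Normal).conj_mem t ht x⁻¹
      simpa using this)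
  rwa [sup_eq_left.2 hTg, sup_eq_left.2 hTx] at h2

end Cfsg.Agent.Helper4.Prn
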