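import Mathlib
import Cfsg.Agent.Helper4.PronormalA
import Cfsg.Agent.Helper4.TwoClassA

set_option autoImplicit false

/-!
Pronormality of overgroups of Sylow subgroups in extensions: the core argument.
-/

namespace Cfsg.Agent.Helper4.Prn

open scoped Pointwise
open Cfsg.Agent.Helper1

variable {G : Type*} [Group G]

/-- overgroups of Sylow `p`-subgroups are pronormal -/
def OvP (p : ℕ) (X : Type*) [Group X] : Prop :=
  ∀ K : Subgroup X, (∃ P : Sylow p X, (P : Subgroup X) ≤ K) → Cfsg.IsPronormal K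

theorem exists_sylow_le_iff [Finite G] (p : ℕ) [Fact p.Prime] (K : Subgroup G) :
    (∃ P : Sylow p G, (P : Subgroup G) ≤ K) ↔ ¬ p ∣ K.index :=
  ⟨fun ⟨P, hP⟩ h => P.not_dvd_index (h.trans (Subgroup.index_dvd_of_le hP)),
    Cfsg.Agent.Helper4.TwoClass.exists_sylow_le_of_not_dvd_index p K⟩

/-- two `p`-subgroups of `C` of the same order, of index prime to `p`, are conjugate in `C` -/
theorem relIndex_dvd_relIndex_of_le {T C A : Subgroup G} (h1 : T ≤ C) (h2 : C ≤ A) :
    T.relIndex C ∣ T.relIndex A := by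
  rw [← Subgroup.relIndex_mul_relIndex T C A h1 h2]
  exact dvd_mul_right _ _

theorem smul_mono_right' (a : G) {S T : Subgroup G} (h : S ≤ T) :
    MulAut.conj a • S ≤ MulAut.conj a • T :=
  Subgroup.pointwise_smul_le_pointwise_smul_iff.2 h

theorem exists_conj_of_pgroups [Finite G] {p : ℕ} [Fact p.Prime] {C T1 T2 : Subgroup G}
    (h1 : T1 ≤ C) (h2 : T2 ≤ C) (hp1 : IsPGroup p T1) (hp2 : IsPGroup p T2)
    (hidx : ¬ p ∣ T1.relIndex C) (hcard : Nat.card T2 = Nat.card T1) :
    ∃ c ∈ C, MulAut.conj c • T1 = T2 := by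
  have hidx2 : ¬ p ∣ T2.relIndex C := by
    have e1 := relIndex_mul_card_of_le h1
    have e2 := relIndex_mul_card_of_le h2
    rw [hcard, ← e1] at e2
    have : T2.relIndex C = T1.relIndex C :=
      Nat.eq_of_mul_eq_mul_right Nat.card_pos e2
    rwa [this]
  have q1 : IsPGroup p (T1.subgroupOf C) := hp1.comap_subtype
  have q2 : IsPGroup p (T2.subgroupOf C) := hp2.comap_subtype
  let P1 : Sylow p C := q1.toSylow hidx
  let P2 : Sylow p C := q2.toSylow hidx2
  obtain ⟨k, hk, hk'⟩ := exists_conj_sylow_map C P1 P2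
  refine ⟨k, hk, ?_⟩
  have e1 : (P1 : Subgroup C).map C.subtype = T1 := by
    show (T1.subgroupOf C).map C.subtype = T1
    rw [Subgroup.subgroupOf_map_subtype, inf_eq_left.2 h1]
  have e2 : (P2 : Subgroup C).map C.subtype = T2 := by
    show (T2.subgroupOf C).map C.subtype = T2
    rw [Subgroup.subgroupOf_map_subtype, inf_eq_left.2 h2]
  rwa [e1, e2] at hk'

/-- a Sylow subgroup of `G` containing `T` (Sylow in the normal subgroup `A`) meets `A` in `T`
and normalizes `T` -/
theorem sylow_inf_eq [Finite G] {p : ℕ} [Fact p.Prime] {A T : Subgroup G}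
    (hTA : T ≤ A) (hTidx : ¬ p ∣ T.relIndex A) (S : Sylow p G) (hTS : T ≤ S) :
    (S : Subgroup G) ⊓ A = T := by
  apply le_antisymm _ (le_inf hTS hTA)
  rw [← Subgroup.relIndex_eq_one]
  have h1 : T.relIndex ((S : Subgroup G) ⊓ A) ∣ T.relIndex A :=
    relIndex_dvd_relIndex_of_le (le_inf hTS hTA) inf_le_right
  have hpg : IsPGroup p ((S : Subgroup G) ⊓ A : Subgroup G) := S.2.to_le inf_le_left
  obtain ⟨k, hk⟩ := IsPGroup.iff_card.1 hpg
  have h2 : T.relIndex ((S : Subgroup G) ⊓ A) ∣ p ^ k := by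
    rw [← hk, ← relIndex_mul_card_of_le (le_inf hTS hTA)]
    exact dvd_mul_right _ _
  obtain ⟨j, -, hj⟩ := (Nat.dvd_prime_pow (Fact.out : p.Prime)).1 h2
  rcases Nat.eq_zero_or_pos j with rfl | hjpos
  · rw [hj, pow_zero]
  · exfalso
    apply hTidx
    rw [hj] at h1
    exact (dvd_pow_self p hjpos.ne').trans h1

theorem sylow_le_normalizer [Finite G] {p : ℕ} [Fact p.Prime] {A T : Subgroup G} [A.Normal]
    (hTA : T ≤ A) (hTidx : ¬ p ∣ T.relIndex A) (S : Sylow p G) (hTS : T ≤ S) :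
    (S : Subgroup G) ≤ Subgroup.normalizer (T : Set G) := by
  have := le_normalizer_inf_normal (S : Subgroup G) A
  rwa [sylow_inf_eq hTA hTidx S hTS] at this

/-- the core step: conjugation by an element of `A`. -/
theorem good_of_mem [Finite G] {p : ℕ} [Fact p.Prime] (A : Subgroup G) [A.Normal]
    (T : Subgroup G) (hTp : IsPGroup p T) (hTA : T ≤ A) (hTidx : ¬ p ∣ T.relIndex A)
    (hA' : ∀ C : Subgroup G, C ≤ A → T ≤ C → PrnIn A C)
    (hN' : ∀ M : Subgroup G, M ≤ Subgroup.normalizer (T : Set G) → T ≤ M →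
      (∃ S : Sylow p G, (S : Subgroup G) ≤ M) → PrnIn (Subgroup.normalizer (T : Set G)) M)
    (H : Subgroup G) (S : Sylow p G) (hSH : (S : Subgroup G) ≤ H) (hTS : T ≤ S)
    (a : G) (ha : a ∈ A) : Good H a := by
  have hTH : T ≤ H := hTS.trans hSH
  set C : Subgroup G := H ⊓ A with hC
  have hCA : C ≤ A := inf_le_right
  have hCH : C ≤ H := inf_le_left
  have hTC : T ≤ C := le_inf hTH hTA
  have hHC : H ≤ Subgroup.normalizer (C : Set G) := le_normalizer_inf_normal H A
  have hTidxC : ¬ p ∣ T.relIndex C := fun h =>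
    hTidx (h.trans (relIndex_dvd_relIndex_of_le hTC hCA))
  -- Step 2
  obtain ⟨b, hb, hbe⟩ := hA' C hCA hTC a ha
  have hbJ : b ∈ H ⊔ MulAut.conj a • H :=
    (sup_le_sup hCH (smul_mono_right' _ hCH)) hb
  have hbA : b ∈ A := by
    have : C ⊔ MulAut.conj a • C ≤ A := sup_le hCA (conj_smul_le_sup_of_mem hCA ha)
    exact this hb
  apply Good.of_left hbJ
  set a1 := b⁻¹ * a with ha1
  have ha1A : a1 ∈ A := A.mul_mem (A.inv_mem hbA) ha
  have ha1C : MulAut.conj a1 • C = C := by
    rw [ha1, conj_mul_smul, hbe, conj_inv_smul_conj_smul]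
  -- Step 3
  have hT1 : MulAut.conj a1 • T ≤ C := by
    rw [← ha1C]; exact smul_mono_right' _ hTC
  obtain ⟨c, hc, hce⟩ := exists_conj_of_pgroups hTC hT1 hTp
    (hTp.map (MulAut.conj a1).toMonoidHom) hTidxC (card_conj_smul a1 T)
  apply Good.of_left (le_sup_left (a := H) (hCH hc))
  set a2 := c⁻¹ * a1 with ha2
  have ha2A : a2 ∈ A := A.mul_mem (A.inv_mem (hCA hc)) ha1A
  have ha2T : MulAut.conj a2 • T = T := by
    rw [ha2, conj_mul_smul, ← hce, conj_inv_smul_conj_smul]
  have ha2C : MulAut.conj a2 • C = C := by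
    rw [ha2, conj_mul_smul, ha1C]
    exact conj_smul_eq_self_iff.2 (Subgroup.le_normalizer (Subgroup.inv_mem _ hc))
  -- Step 4
  set N := Subgroup.normalizer (T : Set G) with hN
  have ha2N : a2 ∈ N := conj_smul_eq_self_iff.1 ha2T
  set M : Subgroup G := H ⊓ N with hM
  have hSN : (S : Subgroup G) ≤ N := sylow_le_normalizer hTA hTidx S hTS
  have hTM : T ≤ M := le_inf hTH Subgroup.le_normalizer
  obtain ⟨e, he, hee⟩ := hN' M inf_le_right hTM ⟨S, le_inf hSH hSN⟩ a2 ha2N
  have ha2NC : a2 ∈ Subgroup.normalizer (C : Set G) := conj_smul_eq_self_iff.1 ha2C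
  have heNC : e ∈ Subgroup.normalizer (C : Set G) := by
    have : M ⊔ MulAut.conj a2 • M ≤ Subgroup.normalizer (C : Set G) :=
      sup_le (inf_le_left.trans hHC)
        (conj_smul_le_sup_of_mem (inf_le_left.trans hHC) ha2NC)
    exact this he
  have heC : MulAut.conj e • C = C := conj_smul_eq_self_iff.2 heNC
  refine ⟨e, (sup_le_sup inf_le_left (smul_mono_right' _ inf_le_left)) he, ?_⟩
  symm
  apply Subgroup.eq_of_le_of_card_ge
  · intro y hy
    rw [mem_conj_smul] at hy
    set h := e⁻¹ * y * e with hh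
    -- Frattini
    have hhT : MulAut.conj h • T ≤ C := by
      rw [← conj_smul_eq_self_iff.2 (hHC hy)]
      exact smul_mono_right' _ hTC
    obtain ⟨c', hc', hce'⟩ := exists_conj_of_pgroups hTC hhT hTp
      (hTp.map (MulAut.conj h).toMonoidHom) hTidxC (card_conj_smul h T)
    have hm : c'⁻¹ * h ∈ M := by
      refine Subgroup.mem_inf.2 ⟨H.mul_mem (H.inv_mem (hCH hc')) hy, ?_⟩
      apply conj_smul_eq_self_iff.1
      rw [conj_mul_smul, ← hce', conj_inv_smul_conj_smul]
    have ey : y = (e * c' * e⁻¹) * (e * (c'⁻¹ * h) * e⁻¹) := by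
      rw [hh]; group
    rw [ey]
    apply Subgroup.mul_mem
    · have : e * c' * e⁻¹ ∈ MulAut.conj e • C := conj_mem_conj_smul hc'
      rw [heC, ← ha2C] at this
      exact (smul_mono_right' _ hCH) this
    · have : e * (c'⁻¹ * h) * e⁻¹ ∈ MulAut.conj e • M := conj_mem_conj_smul hm
      rw [← hee] at this
      exact (smul_mono_right' _ inf_le_left) this
  · rw [card_conj_smul, card_conj_smul]

end Cfsg.Agent.Helper4.Prn
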