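import Mathlib
import Cfsg.Agent.Helper4.PronormalB
import Cfsg.Agent.Helper1.Fusion

set_option autoImplicit false

/-!
Pronormality of overgroups of Sylow subgroups in extensions: assembling.
-/

namespace Cfsg.Agent.Helper4.Prn

open scoped Pointwise
open Cfsg.Agent.Helper1

variable {G : Type*} [Group G]

/-- the backward direction, given the reduction to elements of `A`. -/
theorem main_backward [Finite G] {p : ℕ} [Fact p.Prime] (A : Subgroup G) [A.Normal]
    (T : Subgroup G) (hTp : IsPGroup p T) (hTA : T ≤ A) (hTidx : ¬ p ∣ T.relIndex A)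
    (hA' : ∀ C : Subgroup G, C ≤ A → T ≤ C → PrnIn A C)
    (hN' : ∀ M : Subgroup G, M ≤ Subgroup.normalizer (T : Set G) → T ≤ M →
      (∃ S : Sylow p G, (S : Subgroup G) ≤ M) → PrnIn (Subgroup.normalizer (T : Set G)) M)
    (hred : ∀ H : Subgroup G, (∃ S : Sylow p G, (S : Subgroup G) ≤ H) → ∀ g : G,
      ∃ j ∈ H ⊔ MulAut.conj g • H, ∃ n ∈ Subgroup.normalizer (H : Set G), ∃ a ∈ A,
        j⁻¹ * g = a * n)
    (H : Subgroup G) (hH : ∃ S : Sylow p G, (S : Subgroup G) ≤ H) : Cfsg.IsPronormal H := by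
  obtain ⟨S1, hS1⟩ := hH
  obtain ⟨S0, hS0⟩ := hTp.exists_le_sylow
  obtain ⟨g, hg⟩ := MulAction.exists_smul_eq G S1 S0
  -- conjugate `H`
  set H0 := MulAut.conj g • H with hH0
  have hS0H0 : (S0 : Subgroup G) ≤ H0 := by
    rw [← hg, Sylow.coe_subgroup_smul]
    exact smul_mono_right' _ hS1
  have key : Cfsg.IsPronormal H0 := by
    rw [isPronormal_iff]
    intro g'
    obtain ⟨j, hj, n, hn, a, ha, e⟩ := hred H0 ⟨S0, hS0H0⟩ g'
    apply Good.of_left hj
    rw [e]
    exact Good.of_right hn (good_of_mem A T hTp hTA hTidx hA' hN' H0 S0 hS0H0 hS0 a ha)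
  have := isPronormal_conj key g⁻¹
  rwa [hH0, conj_inv_smul_conj_smul] at this

/-- transfer of the hypothesis on `A` -/
theorem prnIn_of_hA {p : ℕ} [Fact p.Prime] (A : Subgroup G)
    (hA : ∀ K : Subgroup ↥A, (∃ P : Sylow p ↥A, (P : Subgroup ↥A) ≤ K) → Cfsg.IsPronormal K)
    (P : Sylow p ↥A) (C : Subgroup G) (hCA : C ≤ A)
    (hTC : (P : Subgroup ↥A).map A.subtype ≤ C) : PrnIn A C := by
  rw [prnIn_iff_isPronormal_subgroupOf hCA]
  apply hA
  exact ⟨P, Subgroup.map_le_iff_le_comap.1 hTC⟩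

/-- transfer of the hypothesis on `N_G(T)/T`, backward direction -/
theorem prnIn_of_quot [Finite G] {p : ℕ} [Fact p.Prime] (N T : Subgroup G)
    [(T.subgroupOf N).Normal]
    (hQ : OvP p (↥N ⧸ T.subgroupOf N)) (M : Subgroup G) (hMN : M ≤ N) (hTM : T ≤ M)
    (hS : ∃ S : Sylow p G, (S : Subgroup G) ≤ M) : PrnIn N M := by
  rw [prnIn_iff_isPronormal_subgroupOf hMN]
  apply isPronormal_of_map_mk' (T.subgroupOf N)
    (Subgroup.subgroupOf_mono N hTM)
  apply hQ
  rw [exists_sylow_le_iff]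
  intro hdvd
  obtain ⟨S, hSM⟩ := hS
  apply S.not_dvd_index
  have h1 : ((M.subgroupOf N).map (QuotientGroup.mk' (T.subgroupOf N))).index ∣
      (M.subgroupOf N).index :=
    Subgroup.index_map_dvd _ (QuotientGroup.mk'_surjective _)
  have h2 : (M.subgroupOf N).index ∣ M.index := by
    show M.relIndex N ∣ M.index
    exact Subgroup.relIndex_dvd_index_of_le hMN
  exact hdvd.trans (h1.trans (h2.trans (Subgroup.index_dvd_of_le hSM)))

/-- transfer, forward direction -/
theorem ovP_quot_of_ovP [Finite G] {p : ℕ} [Fact p.Prime] (N T : Subgroup G)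
    [(T.subgroupOf N).Normal] (hG : OvP p G) (S0 : Sylow p G) (hS0 : (S0 : Subgroup G) ≤ N) :
    OvP p (↥N ⧸ T.subgroupOf N) := by
  intro K hK
  rw [exists_sylow_le_iff] at hK
  set K' : Subgroup ↥N := K.comap (QuotientGroup.mk' (T.subgroupOf N)) with hK'
  set K0 : Subgroup G := K'.map N.subtype with hK0
  have hidx : ¬ p ∣ K0.index := by
    rw [hK0, Subgroup.index_map_subtype, hK',
      Subgroup.index_comap_of_surjective _ (QuotientGroup.mk'_surjective _)]
    intro h
    rcases (Nat.Prime.dvd_mul (Fact.out : p.Prime)).1 h with h | h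
    · exact hK h
    · exact S0.not_dvd_index (h.trans (Subgroup.index_dvd_of_le hS0))
  have h1 : Cfsg.IsPronormal K0 := hG K0 ((exists_sylow_le_iff p K0).2 hidx)
  have hK0N : K0 ≤ N := Subgroup.map_subtype_le _
  have h2 : Cfsg.IsPronormal (K0.subgroupOf N) :=
    (prnIn_iff_isPronormal_subgroupOf hK0N).1 (PrnIn.of_isPronormal h1)
  have e1 : K0.subgroupOf N = K' := by
    rw [hK0]
    exact Subgroup.comap_map_eq_self_of_injective N.subtype_injective _
  rw [e1] at h2
  have h3 := isPronormal_map (QuotientGroup.mk' (T.subgroupOf N))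
    (QuotientGroup.mk'_surjective _) h2
  rwa [hK', Subgroup.map_comap_eq_self_of_surjective (QuotientGroup.mk'_surjective _)] at h3

/-- the data of `T` as a Sylow subgroup of `A` -/
theorem sylow_data [Finite G] {p : ℕ} [Fact p.Prime] (A : Subgroup G) (P : Sylow p ↥A) :
    IsPGroup p ((P : Subgroup ↥A).map A.subtype) ∧ (P : Subgroup ↥A).map A.subtype ≤ A ∧
      ¬ p ∣ ((P : Subgroup ↥A).map A.subtype).relIndex A := by
  refine ⟨P.2.map _, Subgroup.map_subtype_le _, ?_⟩
  have : ((P : Subgroup ↥A).map A.subtype).relIndex A = (P : Subgroup ↥A).index := by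
    rw [Subgroup.relIndex, Subgroup.subgroupOf,
      Subgroup.comap_map_eq_self_of_injective A.subtype_injective]
  rw [this]
  exact P.not_dvd_index

end Cfsg.Agent.Helper4.Prn

namespace Cfsg.Agent.Helper4.Prn

open scoped Pointwise
open Cfsg.Agent.Helper1

variable {G : Type*} [Group G]

/-- turning an element of `K A` into the form required by `main_backward`. -/
theorem hred_aux (A : Subgroup G) [A.Normal] (H : Subgroup G) (g j : G)
    (hj : j ∈ H ⊔ MulAut.conj g • H)
    (h : QuotientGroup.mk' A (j⁻¹ * g) ∈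
      (Subgroup.normalizer (H : Set G)).map (QuotientGroup.mk' A)) :
    ∃ j ∈ H ⊔ MulAut.conj g • H, ∃ n ∈ Subgroup.normalizer (H : Set G), ∃ a ∈ A,
      j⁻¹ * g = a * n := by
  obtain ⟨n, hn, hne⟩ := h
  have ha0 : n⁻¹ * (j⁻¹ * g) ∈ A := by
    rw [← QuotientGroup.eq_one_iff, ← QuotientGroup.mk'_apply, map_mul, map_inv, hne]
    simp
  refine ⟨j, hj, n, hn, n * (n⁻¹ * (j⁻¹ * g)) * n⁻¹, ?_, by group⟩
  exact (inferInstance : A.Normal).conj_mem _ ha0 n

/-- reduction to elements of `A` when the Sylow subgroups of `G/A` are self-normalizing -/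
theorem hred_of_selfNormalizing [Finite G] {p : ℕ} [Fact p.Prime] (A : Subgroup G) [A.Normal]
    (hQ : ∀ P : Sylow p (G ⧸ A), Subgroup.normalizer ((P : Subgroup (G ⧸ A)) : Set (G ⧸ A)) = P)
    (H : Subgroup G) (hH : ∃ S : Sylow p G, (S : Subgroup G) ≤ H) (g : G) :
    ∃ j ∈ H ⊔ MulAut.conj g • H, ∃ n ∈ Subgroup.normalizer (H : Set G), ∃ a ∈ A,
      j⁻¹ * g = a * n := by
  set π := QuotientGroup.mk' A with hπ
  have hidx : ¬ p ∣ (H.map π).index := by
    obtain ⟨S, hS⟩ := hH
    intro h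
    exact S.not_dvd_index ((h.trans (Subgroup.index_map_dvd _
      (QuotientGroup.mk'_surjective A))).trans (Subgroup.index_dvd_of_le hS))
  obtain ⟨Pb, hPb⟩ := (exists_sylow_le_iff p (H.map π)).2 hidx
  set J : Subgroup (G ⧸ A) := H.map π ⊔ MulAut.conj (π g) • H.map π with hJ
  have h1 : (Pb : Subgroup (G ⧸ A)) ≤ J := hPb.trans le_sup_left
  have h2 : ((π g • Pb : Sylow p (G ⧸ A)) : Subgroup (G ⧸ A)) ≤ J := by
    rw [Sylow.coe_subgroup_smul]
    exact (smul_mono_right' _ hPb).trans le_sup_right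
  obtain ⟨c, hc, hce⟩ := sylow_conj_in_subgroup J Pb (π g • Pb) h1 h2
  rw [Sylow.coe_subgroup_smul] at hce
  have hcJ : c ∈ (H ⊔ MulAut.conj g • H).map π := by
    rw [Subgroup.map_sup, map_conj_smul]; exact hc
  obtain ⟨j, hj, rfl⟩ := hcJ
  have h3 : π (j⁻¹ * g) ∈ Subgroup.normalizer ((Pb : Subgroup (G ⧸ A)) : Set (G ⧸ A)) := by
    apply conj_smul_eq_self_iff.1
    rw [map_mul, map_inv, conj_mul_smul, ← hce, conj_inv_smul_conj_smul]
  rw [hQ Pb] at h3
  apply hred_aux A H g j hj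
  exact Subgroup.map_mono Subgroup.le_normalizer (hPb h3)

end Cfsg.Agent.Helper4.Prn

namespace Cfsg.Agent.Helper4.Prn

open scoped Pointwise
open Cfsg.Agent.Helper1

variable {G : Type*} [Group G]

/-- for a pronormal subgroup, the image of the normalizer is the normalizer of the image -/
theorem map_normalizer_of_isPronormal (A : Subgroup G) [A.Normal] {K : Subgroup G}
    (hK : Cfsg.IsPronormal K) :
    (Subgroup.normalizer (K : Set G)).map (QuotientGroup.mk' A) =
      Subgroup.normalizer ((K.map (QuotientGroup.mk' A) : Subgroup (G ⧸ A)) : Set (G ⧸ A)) := by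
  apply le_antisymm (Subgroup.le_normalizer_map _)
  intro y hy
  obtain ⟨g, rfl⟩ := QuotientGroup.mk'_surjective A y
  rw [← conj_smul_eq_self_iff, ← map_conj_smul] at hy
  obtain ⟨x, hx, hxe⟩ := (isPronormal_iff K).1 hK g
  have hxn : x⁻¹ * g ∈ Subgroup.normalizer (K : Set G) := by
    apply conj_smul_eq_self_iff.1
    rw [conj_mul_smul, hxe, conj_inv_smul_conj_smul]
  have hx' : QuotientGroup.mk' A x ∈ K.map (QuotientGroup.mk' A) := by
    have := Subgroup.mem_map_of_mem (QuotientGroup.mk' A) hx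
    rwa [Subgroup.map_sup, hy, sup_idem] at this
  obtain ⟨k, hk, hke⟩ := hx'
  refine ⟨k * (x⁻¹ * g), Subgroup.mul_mem _ (Subgroup.le_normalizer hk) hxn, ?_⟩
  rw [map_mul, hke, ← map_mul]
  congr 1
  group

/-- reduction to elements of `A` when `G/A` has pronormal Sylow overgroups and normalizers
map onto normalizers -/
theorem hred_of_ovP [Finite G] {p : ℕ} [Fact p.Prime] (A : Subgroup G) [A.Normal]
    (hQ : OvP p (G ⧸ A))
    (hii : ∀ K : Subgroup G, (∃ P : Sylow p G, (P : Subgroup G) ≤ K) →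
      (Subgroup.normalizer (K : Set G)).map (QuotientGroup.mk' A) =
        Subgroup.normalizer ((K.map (QuotientGroup.mk' A) : Subgroup (G ⧸ A)) : Set (G ⧸ A)))
    (H : Subgroup G) (hH : ∃ S : Sylow p G, (S : Subgroup G) ≤ H) (g : G) :
    ∃ j ∈ H ⊔ MulAut.conj g • H, ∃ n ∈ Subgroup.normalizer (H : Set G), ∃ a ∈ A,
      j⁻¹ * g = a * n := by
  set π := QuotientGroup.mk' A with hπ
  have hidx : ¬ p ∣ (H.map π).index := by
    obtain ⟨S, hS⟩ := hH
    intro h
    exact S.not_dvd_index ((h.trans (Subgroup.index_map_dvd _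
      (QuotientGroup.mk'_surjective A))).trans (Subgroup.index_dvd_of_le hS))
  have hprn : Cfsg.IsPronormal (H.map π) := hQ _ ((exists_sylow_le_iff p (H.map π)).2 hidx)
  obtain ⟨c, hc, hce⟩ := (isPronormal_iff _).1 hprn (π g)
  have hcJ : c ∈ (H ⊔ MulAut.conj g • H).map π := by
    rw [Subgroup.map_sup, map_conj_smul]; exact hc
  obtain ⟨j, hj, rfl⟩ := hcJ
  have h3 : π (j⁻¹ * g) ∈ Subgroup.normalizer ((H.map π : Subgroup (G ⧸ A)) : Set (G ⧸ A)) := by
    apply conj_smul_eq_self_iff.1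
    rw [map_mul, map_inv, conj_mul_smul, hce, conj_inv_smul_conj_smul]
  rw [← hii H hH] at h3
  exact hred_aux A H g j hj h3

end Cfsg.Agent.Helper4.Prn
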