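import Mathlib
import Cfsg.Agent.Helper4.DicyclicHom

set_option autoImplicit false

namespace Cfsg.Agent.Helper4

/-- `m` is the order of a group on which the quaternion relations are realised by automorphisms -/
def QuatRealizable (m : ℕ) : Prop :=
  ∃ (N : Type) (_ : Group N) (_ : Finite N) (u J : MulAut N), (∀ x, u (u x) = x⁻¹) ∧
    (∀ x, J (J x) = x⁻¹) ∧ (∀ x, u (J (u x)) = J x) ∧ Nat.card N = m

theorem QuatRealizable.mul {m₁ m₂ : ℕ} (h₁ : QuatRealizable m₁) (h₂ : QuatRealizable m₂) :
    QuatRealizable (m₁ * m₂) := by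
  obtain ⟨N₁, _, _, u₁, J₁, hu₁, hJ₁, huJ₁, hc₁⟩ := h₁
  obtain ⟨N₂, _, _, u₂, J₂, hu₂, hJ₂, huJ₂, hc₂⟩ := h₂
  refine ⟨N₁ × N₂, inferInstance, inferInstance, MulEquiv.prodCongr u₁ u₂,
    MulEquiv.prodCongr J₁ J₂, ?_, ?_, ?_, ?_⟩
  · rintro ⟨x, y⟩
    ext
    · exact hu₁ x
    · exact hu₂ y
  · rintro ⟨x, y⟩
    ext
    · exact hJ₁ x
    · exact hJ₂ y
  · rintro ⟨x, y⟩
    ext
    · exact huJ₁ x
    · exact huJ₂ y
  · rw [Nat.card_prod, hc₁, hc₂]

theorem QuatRealizable.prime_sq (q : ℕ) [hq : Fact q.Prime] : QuatRealizable (q * q) := by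
  obtain ⟨s, t, hst⟩ := ZMod.sq_add_sq q (-1)
  have hst' : s * s + t * t = -1 := by rw [← hst]; ring
  obtain ⟨U, hU⟩ : ∃ U : (ZMod q × ZMod q) ≃+ (ZMod q × ZMod q),
      ∀ x y, U (x, y) = (s * x + t * y, t * x - s * y) := by
    refine ⟨{ toFun := fun v => (s * v.1 + t * v.2, t * v.1 - s * v.2)
              invFun := fun v => (-(s * v.1 + t * v.2), -(t * v.1 - s * v.2))
              left_inv := ?_
              right_inv := ?_
              map_add' := ?_ }, fun x y => rfl⟩
    · rintro ⟨x, y⟩
      ext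
      · simp only; linear_combination (-x) * hst'
      · simp only; linear_combination (-y) * hst'
    · rintro ⟨x, y⟩
      ext
      · simp only; linear_combination (-x) * hst'
      · simp only; linear_combination (-y) * hst'
    · rintro ⟨x, y⟩ ⟨x', y'⟩
      ext
      · simp only [Prod.fst_add, Prod.snd_add]; ring
      · simp only [Prod.fst_add, Prod.snd_add]; ring
  obtain ⟨Jm, hJm⟩ : ∃ Jm : (ZMod q × ZMod q) ≃+ (ZMod q × ZMod q),
      ∀ x y, Jm (x, y) = (-y, x) := by
    refine ⟨{ toFun := fun v => (-v.2, v.1)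
              invFun := fun v => (v.2, -v.1)
              left_inv := ?_
              right_inv := ?_
              map_add' := ?_ }, fun x y => rfl⟩
    · rintro ⟨x, y⟩
      ext <;> simp
    · rintro ⟨x, y⟩
      ext <;> simp
    · rintro ⟨x, y⟩ ⟨x', y'⟩
      ext
      · simp only [Prod.fst_add, Prod.snd_add]; ring
      · simp only [Prod.fst_add, Prod.snd_add]
  refine ⟨Multiplicative (ZMod q × ZMod q), inferInstance, inferInstance,
    AddEquiv.toMultiplicative U, AddEquiv.toMultiplicative Jm, ?_, ?_, ?_, ?_⟩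
  · intro v
    obtain ⟨x, y⟩ := v
    change Multiplicative.ofAdd (U (U (x, y))) = Multiplicative.ofAdd (-(x, y))
    congr 1
    rw [hU, hU]
    ext
    · simp only [Prod.fst_neg]; linear_combination x * hst'
    · simp only [Prod.snd_neg]; linear_combination y * hst'
  · intro v
    obtain ⟨x, y⟩ := v
    change Multiplicative.ofAdd (Jm (Jm (x, y))) = Multiplicative.ofAdd (-(x, y))
    congr 1
    rw [hJm, hJm]
    rfl
  · intro v
    obtain ⟨x, y⟩ := v
    change Multiplicative.ofAdd (U (Jm (U (x, y)))) = Multiplicative.ofAdd (Jm (x, y))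
    congr 1
    rw [hU, hJm, hU, hJm]
    ext
    · simp only; linear_combination (y) * hst'
    · simp only; linear_combination (-x) * hst'
  · have : Nat.card (Multiplicative (ZMod q × ZMod q)) = Nat.card (ZMod q × ZMod q) := rfl
    rw [this, Nat.card_prod, Nat.card_zmod]

theorem QuatRealizable.odd_sq : ∀ d : ℕ, Odd d → 1 < d → QuatRealizable (d * d) := by
  intro d
  induction d using Nat.strong_induction_on with
  | _ d ih =>
  intro hodd hd1
  have hq : (d.minFac).Prime := Nat.minFac_prime (by omega)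
  have hqF : Fact (d.minFac).Prime := ⟨hq⟩
  obtain ⟨d', hd'⟩ := Nat.minFac_dvd d
  have hd'pos : 0 < d' := by
    rcases Nat.eq_zero_or_pos d' with h | h
    · rw [h, mul_zero] at hd'; omega
    · exact h
  by_cases h1 : d' = 1
  · rw [h1, mul_one] at hd'
    rw [hd']
    exact QuatRealizable.prime_sq d.minFac
  · have hd'odd : Odd d' := by
      rw [hd'] at hodd
      exact (Nat.odd_mul.1 hodd).2
    have hlt : d' < d := by
      rw [hd']
      have := hq.one_lt
      nlinarith
    have h2 := ih d' hlt hd'odd (by omega)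
    have h3 := QuatRealizable.prime_sq d.minFac
    have h4 := h3.mul h2
    have : d * d = d.minFac * d.minFac * (d' * d') := by
      conv_lhs => rw [hd']
      ring
    rw [this]
    exact h4

end Cfsg.Agent.Helper4
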