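import Mathlib
import Cfsg.Agent.Helper4.QuatFrobA
import Cfsg.Agent.Helper4.FrobeniusSemidirect
import Cfsg.Agent.Helper1.Frobenius

set_option autoImplicit false

namespace Cfsg.Agent.Helper4

open QuaternionGroup in
theorem quaternion_two_sq (k : QuaternionGroup 2) (hk : k ≠ 1) :
    k = a 2 ∨ k * k = a 2 := by
  cases k with
  | a i =>
    rw [a_mul_a]
    have : ∀ i : ZMod (2 * 2), a i ≠ (1 : QuaternionGroup 2) → (a i : QuaternionGroup 2) = a 2 ∨
        (a (i + i) : QuaternionGroup 2) = a 2 := by
      intro i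
      rw [one_def]
      fin_cases i
      · intro h; exact absurd rfl h
      · intro _; right; rfl
      · intro _; left; rfl
      · intro _; right; rfl
    exact this i hk
  | xa i =>
    right
    rw [xa_mul_xa]
    congr 1
    ring

theorem exists_frobenius_quaternion_of_realizable {m : ℕ} (h : QuatRealizable m) (hodd : Odd m)
    (hm : 1 < m) :
    ∃ (L : Type) (_ : Group L) (_ : Finite L) (H : Subgroup L), Cfsg.IsFrobeniusComplement H ∧
      Nonempty (H ≃* QuaternionGroup 2) ∧ Nat.card (Cfsg.frobeniusKernel H) = m := by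
  obtain ⟨N, instG, instF, u, J, hu, hJ, huJ, hc⟩ := h
  have hu4 : u ^ (2 * 2) = 1 := by
    have : u ^ (2 * 2) = (u * u) * (u * u) := by
      rw [pow_mul, pow_two, pow_two]
    rw [this]
    ext x
    rw [MulAut.mul_apply, MulAut.mul_apply, MulAut.mul_apply, hu, hu, inv_inv]
    rfl
  have hJJ : J * J = u ^ 2 := by
    ext x
    rw [pow_two, MulAut.mul_apply, MulAut.mul_apply, hu, hJ]
  have huJu : u * J * u = J := by
    ext x
    rw [MulAut.mul_apply, MulAut.mul_apply, huJ]
  obtain ⟨φ, hφ⟩ : ∃ φ : QuaternionGroup 2 →* MulAut N, φ = dicyclicHom u J hu4 hJJ huJu :=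
    ⟨_, rfl⟩
  have hz : ∀ x : N, φ (QuaternionGroup.a 2) x = x⁻¹ := by
    intro x
    rw [hφ, dicyclicHom_a]
    have : ((2 : ZMod (2 * 2))).val = 2 := rfl
    rw [this, pow_two, MulAut.mul_apply, hu]
  have hfpf : ∀ k : QuaternionGroup 2, k ≠ 1 → ∀ x : N, φ k x = x → x = 1 := by
    intro k hk x hx
    have hinv : x⁻¹ = x := by
      rcases quaternion_two_sq k hk with h1 | h1
      · rw [← hz x, ← h1, hx]
      · rw [← hz x, ← h1, map_mul, MulAut.mul_apply, hx, hx]
    have hxx : x ^ 2 = 1 := by
      rw [pow_two]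
      nth_rewrite 1 [← hinv]
      exact inv_mul_cancel x
    have h1 : orderOf x ∣ 2 := orderOf_dvd_of_pow_eq_one hxx
    have h2 : orderOf x ∣ m := by rw [← hc]; exact orderOf_dvd_natCard x
    have h3 : orderOf x = 1 := by
      rcases (Nat.dvd_prime Nat.prime_two).1 h1 with h | h
      · exact h
      · exfalso
        rw [h] at h2
        rcases hodd with ⟨t, ht⟩
        omega
    exact orderOf_eq_one_iff.1 h3
  have hNnt : Nontrivial N := by
    rw [← Finite.one_lt_card_iff_nontrivial, hc]; exact hm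
  have hQnt : Nontrivial (QuaternionGroup 2) := by
    rw [← Finite.one_lt_card_iff_nontrivial, Nat.card_eq_fintype_card, QuaternionGroup.card]
    norm_num
  have hFrob := isFrobeniusComplement_inr_range φ hfpf
  have hfinL : Finite (N ⋊[φ] QuaternionGroup 2) :=
    Finite.of_equiv _ (SemidirectProduct.equivProd (φ := φ)).symm
  refine ⟨N ⋊[φ] QuaternionGroup 2, inferInstance, hfinL, _, hFrob, ?_, ?_⟩
  · exact ⟨(MonoidHom.ofInjective SemidirectProduct.inr_injective).symm⟩
  · rw [(Cfsg.Agent.Helper1.frobenius_count _ hFrob).1]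
    have h1 := Subgroup.card_mul_index
      ((SemidirectProduct.inr : QuaternionGroup 2 →* N ⋊[φ] QuaternionGroup 2).range)
    have h2 : Nat.card ((SemidirectProduct.inr :
        QuaternionGroup 2 →* N ⋊[φ] QuaternionGroup 2).range) = Nat.card (QuaternionGroup 2) :=
      (Nat.card_congr (MonoidHom.ofInjective SemidirectProduct.inr_injective).toEquiv).symm
    rw [h2, SemidirectProduct.card, hc, mul_comm] at h1
    exact Nat.eq_of_mul_eq_mul_right Nat.card_pos h1

end Cfsg.Agent.Helper4
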