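import Mathlib

set_option autoImplicit false

/-!
# Products over the `N_G(S)`-orbit of a central involution

If all involutions of a Sylow `2`-subgroup `S` are central in `S`, the product of all
`G`-conjugates of a fixed involution `z` lying in `S` is fixed by every fusion map.
-/

namespace Cfsg.Agent.Helper4.QuatProd

open scoped IsMulCommutative

variable {G : Type*} [Group G]

/-- the centre of `S`, as a subgroup of `G` -/
def zs (S : Subgroup G) : Subgroup G := S ⊓ Subgroup.centralizer (S : Set G)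

theorem mem_zs {S : Subgroup G} {x : G} : x ∈ zs S ↔ x ∈ S ∧ ∀ s ∈ S, s * x = x * s := by
  unfold zs
  rw [Subgroup.mem_inf, Subgroup.mem_centralizer_iff]
  rfl

instance zs_comm (S : Subgroup G) : IsMulCommutative (zs S) :=
  ⟨⟨fun a b => Subtype.ext ((mem_zs.mp b.2).2 a (mem_zs.mp a.2).1)⟩⟩

theorem conj_mem_zs {S : Subgroup G} {n : G} (hn : n ∈ Subgroup.normalizer (S : Set G)) {a : G}
    (ha : a ∈ zs S) : n * a * n⁻¹ ∈ zs S := by
  rw [mem_zs] at ha ⊢
  refine ⟨(Subgroup.mem_normalizer_iff.mp hn a).mp ha.1, fun s hs => ?_⟩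
  have h1 : n⁻¹ * s * n ∈ S := (Subgroup.mem_normalizer_iff''.mp hn s).mp hs
  have h2 := ha.2 _ h1
  calc s * (n * a * n⁻¹) = n * (n⁻¹ * s * n * a) * n⁻¹ := by group
    _ = n * (a * (n⁻¹ * s * n)) * n⁻¹ := by rw [h2]
    _ = n * a * n⁻¹ * s := by group

/-- conjugation by an element of `N_G(S)` on the centre of `S` -/
def cj (S : Subgroup G) (n : G) (hn : n ∈ Subgroup.normalizer (S : Set G)) : zs S →* zs S where
  toFun a := ⟨n * a * n⁻¹, conj_mem_zs hn a.2⟩
  map_one' := by apply Subtype.ext; simp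
  map_mul' a b := by apply Subtype.ext; simp

theorem cj_coe (S : Subgroup G) (n : G) (hn : n ∈ Subgroup.normalizer (S : Set G)) (a : zs S) :
    ((cj S n hn a : zs S) : G) = n * a * n⁻¹ := rfl

variable [Finite G]

/-- the conjugates of `z` lying in the centre of `S` -/
noncomputable def orb (S : Subgroup G) (z : G) : Finset (zs S) :=
  (Set.toFinite {t : zs S | IsConj z (t : G)}).toFinset

theorem mem_orb {S : Subgroup G} {z : G} {t : zs S} : t ∈ orb S z ↔ IsConj z (t : G) := by
  unfold orb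
  simp

/-- the product of the conjugates of `z` lying in the centre of `S` -/
noncomputable def orbProd (S : Subgroup G) (z : G) : zs S := ∏ t ∈ orb S z, t

theorem cj_orbProd (S : Subgroup G) (z : G) (n : G) (hn : n ∈ Subgroup.normalizer (S : Set G)) :
    cj S n hn (orbProd S z) = orbProd S z := by
  unfold orbProd
  rw [map_prod]
  refine Finset.prod_nbij' (fun t => cj S n hn t) (fun t => cj S n⁻¹ (inv_mem hn) t)
    ?_ ?_ ?_ ?_ ?_
  · intro t ht
    rw [mem_orb] at ht ⊢
    exact ht.trans (isConj_iff.mpr ⟨n, rfl⟩)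
  · intro t ht
    rw [mem_orb] at ht ⊢
    exact ht.trans (isConj_iff.mpr ⟨n⁻¹, rfl⟩)
  · intro t _
    apply Subtype.ext
    simp only [cj_coe]
    group
  · intro t _
    apply Subtype.ext
    simp only [cj_coe]
    group
  · intro t _
    rfl

theorem sq_of_mem_orb {S : Subgroup G} {z : G} (hz2 : z * z = 1) {t : zs S} (ht : t ∈ orb S z) :
    t ^ 2 = 1 := by
  rw [mem_orb, isConj_iff] at ht
  obtain ⟨c, hc⟩ := ht
  apply Subtype.ext
  rw [Subgroup.coe_pow, ← hc, Subgroup.coe_one, pow_two]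
  calc c * z * c⁻¹ * (c * z * c⁻¹) = c * (z * z) * c⁻¹ := by group
    _ = 1 := by rw [hz2]; group

theorem orbProd_sq (S : Subgroup G) {z : G} (hz2 : z * z = 1) :
    (orbProd S z : G) * (orbProd S z : G) = 1 := by
  have h : (orbProd S z) ^ 2 = 1 := by
    unfold orbProd
    rw [← Finset.prod_pow]
    exact Finset.prod_eq_one (fun t ht => sq_of_mem_orb hz2 ht)
  have h2 := congrArg Subtype.val h
  rwa [Subgroup.coe_pow, Subgroup.coe_one, pow_two] at h2

/-- The orbit product is fixed by all fusion maps when the involutions of `S` are central. -/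
theorem orbProd_isolated (S : Sylow 2 G) {z : G} (hz2 : z * z = 1)
    (hcent : ∀ t ∈ S, t * t = 1 → ∀ s ∈ S, s * t = t * s) (g : G)
    (hg : g * (orbProd (S : Subgroup G) z : G) * g⁻¹ ∈ S) :
    g * (orbProd (S : Subgroup G) z : G) * g⁻¹ = orbProd (S : Subgroup G) z := by
  set p := orbProd (S : Subgroup G) z with hp
  have hpp : (p : G) * (p : G) = 1 := orbProd_sq _ hz2
  have hpc : (p : G) ∈ Subgroup.centralizer ((S : Subgroup G) : Set G) := by
    rw [Subgroup.mem_centralizer_iff]
    exact (mem_zs.mp p.2).2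
  have hyy : g * (p : G) * g⁻¹ * (g * (p : G) * g⁻¹) = 1 := by
    calc g * (p : G) * g⁻¹ * (g * (p : G) * g⁻¹) = g * ((p : G) * (p : G)) * g⁻¹ := by group
      _ = 1 := by rw [hpp]; group
  have hyc : g⁻¹⁻¹ * (p : G) * g⁻¹ ∈ Subgroup.centralizer ((S : Subgroup G) : Set G) := by
    rw [inv_inv, Subgroup.mem_centralizer_iff]
    exact hcent _ hg hyy
  haveI : Fact (Nat.Prime 2) := ⟨Nat.prime_two⟩
  obtain ⟨n, hn, hneq⟩ := S.conj_eq_normalizer_conj_of_mem_centralizer (p : G) g⁻¹ hpc hyc
  rw [inv_inv] at hneq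
  rw [hneq]
  have h1 := cj_orbProd (S : Subgroup G) z n⁻¹ (inv_mem hn)
  have h2 := congrArg Subtype.val h1
  rw [cj_coe, inv_inv] at h2
  exact h2

end Cfsg.Agent.Helper4.QuatProd
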