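import Mathlib
import Cfsg.Agent.Helper4.QuatProdA

set_option autoImplicit false
set_option linter.unusedSectionVars false
set_option linter.style.haveILetI false

/-!
# The orbit product of the involution of a normal quaternion-like subgroup is nontrivial
-/

namespace Cfsg.Agent.Helper4.QuatProd

open scoped IsMulCommutative

variable {G : Type*} [Group G] [Finite G]

/-- `Q` is a normal subgroup of the Sylow `2`-subgroup `S` with unique involution `z`, and all
involutions of `S` are central in `S`. -/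
structure QData (S : Sylow 2 G) (Q : Subgroup G) (z : G) : Prop where
  le : Q ≤ S
  zmem : z ∈ Q
  z2 : z * z = 1
  zne : z ≠ 1
  normal : ∀ s ∈ S, ∀ q ∈ Q, s * q * s⁻¹ ∈ Q
  uniq : ∀ y ∈ Q, y * y = 1 → y ≠ 1 → y = z
  cent : ∀ t ∈ S, t * t = 1 → ∀ s ∈ S, s * t = t * s

variable {S : Sylow 2 G} {Q : Subgroup G} {z : G}

theorem QData.exists_pow_eq (h : QData S Q z) {x : G} (hx : x ∈ Q) (hx1 : x ≠ 1) :
    ∃ k : ℕ, x ^ k = z := by
  classical
  have hex : ∃ j : ℕ, x ^ (2 ^ j) = 1 := by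
    obtain ⟨j, hj⟩ := S.2 ⟨x, h.le hx⟩
    refine ⟨j, ?_⟩
    have := congrArg Subtype.val hj
    simpa using this
  have hj := Nat.find_spec hex
  have hj0 : Nat.find hex ≠ 0 := by
    intro h0
    rw [h0] at hj
    simp at hj
    exact hx1 hj
  obtain ⟨i, hi⟩ := Nat.exists_eq_succ_of_ne_zero hj0
  refine ⟨2 ^ i, ?_⟩
  apply h.uniq _ (Subgroup.pow_mem _ hx _)
  · rw [← pow_add, ← two_mul, ← pow_succ', ← Nat.succ_eq_add_one, ← hi]
    exact hj
  · intro h1
    have := Nat.find_min' hex h1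
    omega

theorem QData.conj_mem_S {n : G} (hn : n ∈ Subgroup.normalizer ((S : Subgroup G) : Set G))
    {s : G} (hs : s ∈ S) : n * s * n⁻¹ ∈ S :=
  (Subgroup.mem_normalizer_iff.mp hn s).mp hs

theorem QData.conj_mem_S' {n : G} (hn : n ∈ Subgroup.normalizer ((S : Subgroup G) : Set G))
    {s : G} (hs : s ∈ S) : n⁻¹ * s * n ∈ S :=
  (Subgroup.mem_normalizer_iff''.mp hn s).mp hs

theorem QData.commute_conj (h : QData S Q z) {n n' : G}
    (hn : n ∈ Subgroup.normalizer ((S : Subgroup G) : Set G))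
    (hn' : n' ∈ Subgroup.normalizer ((S : Subgroup G) : Set G))
    (hne : n * z * n⁻¹ ≠ n' * z * n'⁻¹) {q q' : G} (hq : q ∈ Q) (hq' : q' ∈ Q) :
    (n * q * n⁻¹) * (n' * q' * n'⁻¹) = (n' * q' * n'⁻¹) * (n * q * n⁻¹) := by
  set u := n * q * n⁻¹ with hu
  set v := n' * q' * n'⁻¹ with hv
  have huS : u ∈ S := QData.conj_mem_S hn (h.le hq)
  have hvS : v ∈ S := QData.conj_mem_S hn' (h.le hq')
  by_contra hcon
  set x := u * v * u⁻¹ * v⁻¹ with hx
  have hx1 : x ≠ 1 := by
    intro h1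
    apply hcon
    calc u * v = (u * v * u⁻¹ * v⁻¹) * (v * u) := by group
      _ = v * u := by rw [← hx, h1, one_mul]
  -- `x` lies in both conjugates of `Q`
  have hxQ : n⁻¹ * x * n ∈ Q := by
    have h1 : n⁻¹ * v * n ∈ S := QData.conj_mem_S' hn hvS
    have h2 := h.normal _ h1 _ (Q.inv_mem hq)
    have h3 : n⁻¹ * x * n = q * ((n⁻¹ * v * n) * q⁻¹ * (n⁻¹ * v * n)⁻¹) := by
      rw [hx, hu]; group
    rw [h3]
    exact Q.mul_mem hq h2
  have hxQ' : n'⁻¹ * x * n' ∈ Q := by
    have h1 : n'⁻¹ * u * n' ∈ S := QData.conj_mem_S' hn' huS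
    have h2 := h.normal _ h1 _ hq'
    have h3 : n'⁻¹ * x * n' = ((n'⁻¹ * u * n') * q' * (n'⁻¹ * u * n')⁻¹) * q'⁻¹ := by
      rw [hx, hv]; group
    rw [h3]
    exact Q.mul_mem h2 (Q.inv_mem hq')
  have hne1 : n⁻¹ * x * n ≠ 1 := by
    intro h1
    apply hx1
    calc x = n * (n⁻¹ * x * n) * n⁻¹ := by group
      _ = 1 := by rw [h1]; group
  obtain ⟨k, hk⟩ := h.exists_pow_eq hxQ hne1
  have hk' : x ^ k = n * z * n⁻¹ := by
    rw [← hk]
    have : (n⁻¹ * x * n) ^ k = n⁻¹ * x ^ k * n := by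
      have := conj_pow (a := n⁻¹) (b := x) (i := k)
      rwa [inv_inv] at this
    rw [this]; group
  have hy : n'⁻¹ * x ^ k * n' ∈ Q := by
    have : (n'⁻¹ * x * n') ^ k = n'⁻¹ * x ^ k * n' := by
      have := conj_pow (a := n'⁻¹) (b := x) (i := k)
      rwa [inv_inv] at this
    rw [← this]
    exact Subgroup.pow_mem _ hxQ' _
  have hy2 : n'⁻¹ * x ^ k * n' * (n'⁻¹ * x ^ k * n') = 1 := by
    rw [hk']
    calc n'⁻¹ * (n * z * n⁻¹) * n' * (n'⁻¹ * (n * z * n⁻¹) * n')
        = n'⁻¹ * n * (z * z) * n⁻¹ * n' := by group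
      _ = 1 := by rw [h.z2]; group
  have hy1 : n'⁻¹ * x ^ k * n' ≠ 1 := by
    intro h1
    apply h.zne
    have h2 : x ^ k = 1 := by
      calc x ^ k = n' * (n'⁻¹ * x ^ k * n') * n'⁻¹ := by group
        _ = 1 := by rw [h1]; group
    rw [hk'] at h2
    calc z = n⁻¹ * (n * z * n⁻¹) * n := by group
      _ = 1 := by rw [h2]; group
  have hyz := h.uniq _ hy hy2 hy1
  apply hne
  rw [← hk', ← hyz]
  group

theorem QData.z_mem_zs (h : QData S Q z) : z ∈ zs (S : Subgroup G) :=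
  mem_zs.mpr ⟨h.le h.zmem, h.cent z (h.le h.zmem) h.z2⟩

theorem QData.exists_normalizer_conj (h : QData S Q z) {t : zs (S : Subgroup G)}
    (ht : t ∈ orb (S : Subgroup G) z) :
    ∃ n ∈ Subgroup.normalizer ((S : Subgroup G) : Set G), n * z * n⁻¹ = (t : G) := by
  rw [mem_orb, isConj_iff] at ht
  obtain ⟨g, hg⟩ := ht
  have hzc : z ∈ Subgroup.centralizer ((S : Subgroup G) : Set G) := by
    rw [Subgroup.mem_centralizer_iff]
    exact (mem_zs.mp h.z_mem_zs).2
  have htc : g⁻¹⁻¹ * z * g⁻¹ ∈ Subgroup.centralizer ((S : Subgroup G) : Set G) := by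
    rw [inv_inv, hg, Subgroup.mem_centralizer_iff]
    exact (mem_zs.mp t.2).2
  haveI : Fact (Nat.Prime 2) := ⟨Nat.prime_two⟩
  obtain ⟨n, hn, hneq⟩ := S.conj_eq_normalizer_conj_of_mem_centralizer z g⁻¹ hzc htc
  refine ⟨n⁻¹, inv_mem hn, ?_⟩
  rw [inv_inv, ← hneq, inv_inv, hg]

theorem QData.exists_sqrt (h : QData S Q z) {α : G} (hα : α ∈ Q) (hαz : α * α = z)
    (U : Finset (zs (S : Subgroup G))) (hU : U ⊆ orb (S : Subgroup G) z) :
    ∃ c ∈ S, c * c = ((∏ t ∈ U, t : zs (S : Subgroup G)) : G) ∧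
      ∀ t ∈ orb (S : Subgroup G) z, t ∉ U →
        ∀ n ∈ Subgroup.normalizer ((S : Subgroup G) : Set G), n * z * n⁻¹ = (t : G) →
          ∀ q ∈ Q, c * (n * q * n⁻¹) = (n * q * n⁻¹) * c := by
  classical
  induction U using Finset.induction_on with
  | empty =>
    refine ⟨1, one_mem _, ?_, ?_⟩
    · simp
    · intro t _ _ n _ _ q _
      simp
  | insert t₀ U' ht₀ ih =>
    have hU' : U' ⊆ orb (S : Subgroup G) z := fun t ht => hU (Finset.mem_insert_of_mem ht)
    have ht₀orb : t₀ ∈ orb (S : Subgroup G) z := hU (Finset.mem_insert_self _ _)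
    obtain ⟨c', hc'S, hc'sq, hc'comm⟩ := ih hU'
    obtain ⟨n₀, hn₀, hn₀z⟩ := h.exists_normalizer_conj ht₀orb
    set a := n₀ * α * n₀⁻¹ with ha
    have haS : a ∈ S := QData.conj_mem_S hn₀ (h.le hα)
    have hca : c' * a = a * c' := hc'comm t₀ ht₀orb ht₀ n₀ hn₀ hn₀z α hα
    have haa : a * a = (t₀ : G) := by
      rw [← hn₀z, ← hαz, ha]; group
    refine ⟨c' * a, mul_mem hc'S haS, ?_, ?_⟩
    · rw [Finset.prod_insert ht₀, mul_comm, Subgroup.coe_mul, ← hc'sq, ← haa]
      calc c' * a * (c' * a) = c' * (a * c') * a := by group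
        _ = c' * (c' * a) * a := by rw [hca]
        _ = c' * c' * (a * a) := by group
    · intro t ht htU n hn hnz q hq
      rw [Finset.mem_insert, not_or] at htU
      have h1 := hc'comm t ht htU.2 n hn hnz q hq
      have hne : n₀ * z * n₀⁻¹ ≠ n * z * n⁻¹ := by
        rw [hn₀z, hnz]
        intro heq
        exact htU.1 (Subtype.ext heq.symm)
      have h2 : a * (n * q * n⁻¹) = (n * q * n⁻¹) * a := h.commute_conj hn₀ hn hne hα hq
      calc c' * a * (n * q * n⁻¹) = c' * (a * (n * q * n⁻¹)) := by group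
        _ = c' * ((n * q * n⁻¹) * a) := by rw [h2]
        _ = (c' * (n * q * n⁻¹)) * a := by group
        _ = ((n * q * n⁻¹) * c') * a := by rw [h1]
        _ = n * q * n⁻¹ * (c' * a) := by group

/-- The orbit product is a genuine involution. -/
theorem QData.orbProd_ne_one (h : QData S Q z) {α β : G} (hα : α ∈ Q) (hβ : β ∈ Q)
    (hαz : α * α = z) (hαβ : β * α ≠ α * β) : (orbProd (S : Subgroup G) z : G) ≠ 1 := by
  classical
  intro hp1
  set z' : zs (S : Subgroup G) := ⟨z, h.z_mem_zs⟩ with hz'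
  have hz'orb : z' ∈ orb (S : Subgroup G) z := mem_orb.mpr (IsConj.refl z)
  have hprod : z' * ∏ t ∈ (orb (S : Subgroup G) z).erase z', t = 1 := by
    have h0 := Finset.mul_prod_erase (orb (S : Subgroup G) z) (fun t => t) hz'orb
    rw [h0]
    exact Subtype.ext hp1
  have hP : ((∏ t ∈ (orb (S : Subgroup G) z).erase z', t : zs (S : Subgroup G)) : G) = z := by
    have h1 := congrArg Subtype.val hprod
    rw [Subgroup.coe_mul, Subgroup.coe_one] at h1
    have h2 : (z' : G) = z := rfl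
    rw [h2] at h1
    calc ((∏ t ∈ (orb (S : Subgroup G) z).erase z', t : zs (S : Subgroup G)) : G)
        = (z * z) * ((∏ t ∈ (orb (S : Subgroup G) z).erase z', t : zs (S : Subgroup G)) : G) := by
          rw [h.z2, one_mul]
      _ = z * (z * ((∏ t ∈ (orb (S : Subgroup G) z).erase z', t : zs (S : Subgroup G)) : G)) := by
          group
      _ = z := by rw [h1, mul_one]
  obtain ⟨c, hcS, hcsq, hccomm⟩ := h.exists_sqrt hα hαz ((orb (S : Subgroup G) z).erase z')
    (Finset.erase_subset _ _)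
  rw [hP] at hcsq
  have hcq : ∀ q ∈ Q, c * q = q * c := by
    intro q hq
    have := hccomm z' hz'orb (Finset.notMem_erase _ _) 1 (one_mem _) (by simp [hz']) q hq
    simpa using this
  have hwS : α * c ∈ S := mul_mem (h.le hα) hcS
  have hww : α * c * (α * c) = 1 := by
    calc α * c * (α * c) = α * (c * α) * c := by group
      _ = α * (α * c) * c := by rw [hcq α hα]
      _ = (α * α) * (c * c) := by group
      _ = 1 := by rw [hαz, hcsq, h.z2]
  have h3 := h.cent _ hwS hww β (h.le hβ)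
  apply hαβ
  have h4 : β * α * c = α * β * c := by
    calc β * α * c = β * (α * c) := by group
      _ = α * c * β := h3
      _ = α * (c * β) := by group
      _ = α * (β * c) := by rw [hcq β hβ]
      _ = α * β * c := by group
  exact mul_right_cancel h4

end Cfsg.Agent.Helper4.QuatProd
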