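import Mathlib
import Cfsg.Agent.Helper4.QuatProdB
import Cfsg.Agent.Helper2.BSuzA
import Cfsg.Agent.Helper2.ZStarH

set_option autoImplicit false
set_option linter.unusedSectionVars false
set_option linter.style.haveILetI false

/-!
# Sylow 2-subgroups `Q × R` with `Q` generalized quaternion and involutions of `R` central
-/

namespace Cfsg.Agent.Helper4.QuatProd

open QuaternionGroup

theorem a_k_comm (k : ℕ) [NeZero k] (q : QuaternionGroup k) :
    q * a (k : ZMod (2 * k)) = a (k : ZMod (2 * k)) * q := by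
  have hkk : ((k : ZMod (2 * k)) + k) = 0 := by
    have : ((k + k : ℕ) : ZMod (2 * k)) = 0 := by
      rw [ZMod.natCast_eq_zero_iff]; exact ⟨1, by ring⟩
    rwa [Nat.cast_add] at this
  rcases q with i | i
  · rw [a_mul_a, a_mul_a, add_comm]
  · rw [xa_mul_a, a_mul_xa]
    congr 1
    linear_combination hkk

theorem xa_zero_sq (k : ℕ) :
    (xa 0 : QuaternionGroup k) * xa 0 = a (k : ZMod (2 * k)) := by
  rw [xa_mul_xa]; simp

theorem a_one_xa_ne (k : ℕ) (hk : 2 ≤ k) :
    (a 1 : QuaternionGroup k) * xa 0 ≠ xa 0 * a 1 := by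
  rw [a_mul_xa, xa_mul_a]
  intro h
  have h1 : (0 : ZMod (2 * k)) - 1 = 0 + 1 := by injection h
  have h2 : ((2 : ℕ) : ZMod (2 * k)) = 0 := by
    push_cast
    linear_combination -h1
  rw [ZMod.natCast_eq_zero_iff] at h2
  have := Nat.le_of_dvd (by norm_num) h2
  omega

variable {G : Type*} [Group G]

/-- elements of an internal direct product decompose -/
theorem exists_mul_of_mem {Q R S : Subgroup G} (hQR : Cfsg.IsInternalDirectProduct Q R S)
    {s : G} (hs : s ∈ S) : ∃ a ∈ Q, ∃ b ∈ R, s = a * b := by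
  obtain ⟨_, _, hcomm, _, hsup⟩ := hQR
  rw [← hsup, Subgroup.sup_eq_closure] at hs
  induction hs using Subgroup.closure_induction with
  | mem x hx =>
    rcases hx with hx | hx
    · exact ⟨x, hx, 1, one_mem _, by simp⟩
    · exact ⟨1, one_mem _, x, hx, by simp⟩
  | one => exact ⟨1, one_mem _, 1, one_mem _, by simp⟩
  | mul x y _ _ hx hy =>
    obtain ⟨a, ha, b, hb, rfl⟩ := hx
    obtain ⟨a', ha', b', hb', rfl⟩ := hy
    refine ⟨a * a', mul_mem ha ha', b * b', mul_mem hb hb', ?_⟩
    have := hcomm a' ha' b hb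
    calc a * b * (a' * b') = a * (b * a') * b' := by group
      _ = a * (a' * b) * b' := by rw [this]
      _ = a * a' * (b * b') := by group
  | inv x _ hx =>
    obtain ⟨a, ha, b, hb, rfl⟩ := hx
    refine ⟨a⁻¹, inv_mem ha, b⁻¹, inv_mem hb, ?_⟩
    have := hcomm a ha b hb
    rw [mul_inv_rev]
    have h2 : b⁻¹ * a⁻¹ = (a * b)⁻¹ := by group
    have h3 : a⁻¹ * b⁻¹ = (b * a)⁻¹ := by group
    rw [h2, h3, this]

end Cfsg.Agent.Helper4.QuatProd
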