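import Mathlib
import Cfsg.Agent.Helper4.QuatProdC

set_option autoImplicit false
set_option linter.unusedSectionVars false
set_option linter.style.haveILetI false

namespace Cfsg.Agent.Helper4.QuatProd

open QuaternionGroup

variable {G : Type*} [Group G] [Finite G]

/-- the involution of `Q` -/
noncomputable def zOf {Q : Subgroup G} {k : ℕ} (eQ : ↥Q ≃* QuaternionGroup k) : G :=
  ((eQ.symm (a (k : ZMod (2 * k))) : Q) : G)

theorem zOf_mem {Q : Subgroup G} {k : ℕ} (eQ : ↥Q ≃* QuaternionGroup k) : zOf eQ ∈ Q :=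
  (eQ.symm _).2

theorem orderOf_zOf {Q : Subgroup G} {k : ℕ} [NeZero k] (eQ : ↥Q ≃* QuaternionGroup k) :
    orderOf (zOf eQ) = 2 := by
  unfold zOf
  rw [Subgroup.orderOf_coe, MulEquiv.orderOf_eq, Cfsg.Agent.Helper2.BSuzA.orderOf_a_k]

theorem zOf_comm {Q : Subgroup G} {k : ℕ} [NeZero k] (eQ : ↥Q ≃* QuaternionGroup k) {q : G}
    (hq : q ∈ Q) : q * zOf eQ = zOf eQ * q := by
  have h1 := a_k_comm k (eQ ⟨q, hq⟩)
  have h2 : (⟨q, hq⟩ : Q) * eQ.symm (a (k : ZMod (2 * k))) =
      eQ.symm (a (k : ZMod (2 * k))) * ⟨q, hq⟩ := by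
    apply eQ.injective
    rw [map_mul, map_mul, eQ.apply_symm_apply]
    exact h1
  exact congrArg Subtype.val h2

theorem zOf_uniq {Q : Subgroup G} {k : ℕ} [NeZero k] (eQ : ↥Q ≃* QuaternionGroup k) {y : G}
    (hy : y ∈ Q) (hyy : y * y = 1) (hy1 : y ≠ 1) : y = zOf eQ := by
  have ho : orderOf y = 2 := orderOf_eq_prime (by rw [pow_two]; exact hyy) hy1
  have h1 : orderOf (eQ ⟨y, hy⟩) = 2 := by
    rw [MulEquiv.orderOf_eq, ← Subgroup.orderOf_coe]; exact ho
  have h2 := Cfsg.Agent.Helper2.BSuzA.invol_unique k _ h1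
  have h3 : (⟨y, hy⟩ : Q) = eQ.symm (a (k : ZMod (2 * k))) := by
    rw [← h2, eQ.symm_apply_apply]
  exact congrArg Subtype.val h3

theorem qdata_of_prod (S : Sylow 2 G) (Q R : Subgroup G)
    (hQR : Cfsg.IsInternalDirectProduct Q R (S : Subgroup G))
    (k : ℕ) [NeZero k] (eQ : ↥Q ≃* QuaternionGroup k)
    (hR : ∀ r ∈ R, orderOf r = 2 → ∀ s ∈ R, r * s = s * r) :
    QData S Q (zOf eQ) := by
  have hQS := hQR.1
  have hRS := hQR.2.1
  have hcomm := hQR.2.2.1
  have hinf := hQR.2.2.2.1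
  have hz2 : zOf eQ * zOf eQ = 1 := by
    have := pow_orderOf_eq_one (zOf eQ)
    rwa [orderOf_zOf, pow_two] at this
  have hzne : zOf eQ ≠ 1 := by
    intro h
    have := orderOf_zOf eQ
    rw [h, orderOf_one] at this
    omega
  refine ⟨hQS, zOf_mem eQ, hz2, hzne, ?_, fun y hy hyy hy1 => zOf_uniq eQ hy hyy hy1, ?_⟩
  · intro s hs q hq
    obtain ⟨a', ha', b', hb', rfl⟩ := exists_mul_of_mem hQR hs
    have h1 := hcomm q hq b' hb'
    have h2 : a' * b' * q * (a' * b')⁻¹ = a' * q * a'⁻¹ := by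
      calc a' * b' * q * (a' * b')⁻¹ = a' * (b' * q) * b'⁻¹ * a'⁻¹ := by group
        _ = a' * (q * b') * b'⁻¹ * a'⁻¹ := by rw [h1]
        _ = a' * q * a'⁻¹ := by group
    rw [h2]
    exact mul_mem (mul_mem ha' hq) (inv_mem ha')
  · intro t ht htt s hs
    obtain ⟨a', ha', b', hb', rfl⟩ := exists_mul_of_mem hQR ht
    obtain ⟨c, hc, d, hd, rfl⟩ := exists_mul_of_mem hQR hs
    -- `a' * a' = 1` and `b' * b' = 1`
    have h1 : a' * a' * (b' * b') = 1 := by
      have := hcomm a' ha' b' hb'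
      calc a' * a' * (b' * b') = a' * (a' * b') * b' := by group
        _ = a' * (b' * a') * b' := by rw [this]
        _ = a' * b' * (a' * b') := by group
        _ = 1 := htt
    have h2 : a' * a' ∈ Q ⊓ R := by
      refine Subgroup.mem_inf.mpr ⟨mul_mem ha' ha', ?_⟩
      have : a' * a' = (b' * b')⁻¹ := eq_inv_of_mul_eq_one_left h1
      rw [this]
      exact inv_mem (mul_mem hb' hb')
    rw [hinf, Subgroup.mem_bot] at h2
    have h3 : b' * b' = 1 := by rwa [h2, one_mul] at h1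
    -- `a'` commutes with `c`
    have hac : c * a' = a' * c := by
      by_cases ha1 : a' = 1
      · rw [ha1]; simp
      · rw [zOf_uniq eQ ha' h2 ha1]
        exact zOf_comm eQ hc
    have hbd : d * b' = b' * d := by
      by_cases hb1 : b' = 1
      · rw [hb1]; simp
      · have ho : orderOf b' = 2 := orderOf_eq_prime (by rw [pow_two]; exact h3) hb1
        exact (hR b' hb' ho d hd).symm
    have had : a' * d = d * a' := hcomm a' ha' d hd
    have hcb : c * b' = b' * c := hcomm c hc b' hb'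
    calc c * d * (a' * b') = c * (d * a') * b' := by group
      _ = c * (a' * d) * b' := by rw [had]
      _ = (c * a') * (d * b') := by group
      _ = (a' * c) * (b' * d) := by rw [hac, hbd]
      _ = a' * (c * b') * d := by group
      _ = a' * (b' * c) * d := by rw [hcb]
      _ = a' * b' * (c * d) := by group

/-- A Sylow `2`-subgroup `Q × R` as in the statement contains an isolated involution. -/
theorem exists_isolated (S : Sylow 2 G) (Q R : Subgroup G)
    (hQR : Cfsg.IsInternalDirectProduct Q R (S : Subgroup G))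
    (k : ℕ) (hk : 2 ≤ k) (eQ : ↥Q ≃* QuaternionGroup k)
    (hR : ∀ r ∈ R, orderOf r = 2 → ∀ s ∈ R, r * s = s * r) :
    ∃ p ∈ S, orderOf p = 2 ∧ ∀ g : G, g * p * g⁻¹ ∈ S → g * p * g⁻¹ = p := by
  haveI : NeZero k := ⟨by omega⟩
  have hD := qdata_of_prod S Q R hQR k eQ hR
  set α : G := ((eQ.symm (xa 0) : Q) : G) with hα
  set β : G := ((eQ.symm (a 1) : Q) : G) with hβ
  have hαQ : α ∈ Q := (eQ.symm _).2
  have hβQ : β ∈ Q := (eQ.symm _).2
  have hαz : α * α = zOf eQ := by
    have h1 : eQ.symm (xa 0) * eQ.symm (xa 0) = eQ.symm (a (k : ZMod (2 * k))) := by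
      rw [← map_mul, xa_zero_sq]
    exact congrArg Subtype.val h1
  have hαβ : β * α ≠ α * β := by
    intro h
    have h1 : eQ.symm (a 1) * eQ.symm (xa 0) = eQ.symm (xa 0) * eQ.symm (a 1) :=
      Subtype.ext h
    rw [← map_mul, ← map_mul] at h1
    exact a_one_xa_ne k hk (eQ.symm.injective h1)
  have hp1 := hD.orbProd_ne_one hαQ hβQ hαz hαβ
  refine ⟨(orbProd (S : Subgroup G) (zOf eQ) : G), (mem_zs.mp (orbProd _ _).2).1, ?_, ?_⟩
  · exact orderOf_eq_prime (by rw [pow_two]; exact orbProd_sq _ hD.z2) hp1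
  · intro g hg
    exact orbProd_isolated S hD.z2 hD.cent g hg

end Cfsg.Agent.Helper4.QuatProd
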