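import Mathlib
import Cfsg.Agent.Helper4.DicyclicHom

set_option autoImplicit false

namespace Cfsg.Agent.Helper4

open Quaternion

/-- The quaternion `cos θ + i sin θ`. -/
noncomputable def qRot (θ : ℝ) : ℍ[ℝ] := ⟨Real.cos θ, Real.sin θ, 0, 0⟩

/-- The quaternion `j`. -/
def qJ : ℍ[ℝ] := ⟨0, 0, 1, 0⟩

theorem qRot_re (θ : ℝ) : (qRot θ).re = Real.cos θ := rfl
theorem qRot_imI (θ : ℝ) : (qRot θ).imI = Real.sin θ := rfl
theorem qRot_imJ (θ : ℝ) : (qRot θ).imJ = 0 := rfl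
theorem qRot_imK (θ : ℝ) : (qRot θ).imK = 0 := rfl
theorem qJ_re : qJ.re = 0 := rfl
theorem qJ_imI : qJ.imI = 0 := rfl
theorem qJ_imJ : qJ.imJ = 1 := rfl
theorem qJ_imK : qJ.imK = 0 := rfl

theorem qRot_mul (α β : ℝ) : qRot α * qRot β = qRot (α + β) := by
  apply Quaternion.ext
  · rw [Quaternion.re_mul]
    simp only [qRot_re, qRot_imI, qRot_imJ, qRot_imK, Real.cos_add]; ring
  · rw [Quaternion.imI_mul]
    simp only [qRot_re, qRot_imI, qRot_imJ, qRot_imK, Real.sin_add]; ring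
  · rw [Quaternion.imJ_mul]
    simp only [qRot_re, qRot_imI, qRot_imJ, qRot_imK]; ring
  · rw [Quaternion.imK_mul]
    simp only [qRot_re, qRot_imI, qRot_imJ, qRot_imK]; ring

theorem qRot_zero : qRot 0 = 1 := by
  apply Quaternion.ext
  · rw [qRot_re, Real.cos_zero]; rfl
  · rw [qRot_imI, Real.sin_zero]; rfl
  · rw [qRot_imJ]; rfl
  · rw [qRot_imK]; rfl

theorem qRot_pow (θ : ℝ) (k : ℕ) : qRot θ ^ k = qRot (k * θ) := by
  induction k with
  | zero => simp [qRot_zero]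
  | succ k ih =>
    rw [pow_succ, ih, qRot_mul]
    congr 1
    push_cast
    ring

theorem qJ_mul_qJ : qJ * qJ = qRot Real.pi := by
  apply Quaternion.ext
  · rw [Quaternion.re_mul]
    simp only [qJ_re, qJ_imI, qJ_imJ, qJ_imK, qRot_re, Real.cos_pi]; ring
  · rw [Quaternion.imI_mul]
    simp only [qJ_re, qJ_imI, qJ_imJ, qJ_imK, qRot_imI, Real.sin_pi]; ring
  · rw [Quaternion.imJ_mul]
    simp only [qJ_re, qJ_imI, qJ_imJ, qJ_imK, qRot_imJ]; ring
  · rw [Quaternion.imK_mul]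
    simp only [qJ_re, qJ_imI, qJ_imJ, qJ_imK, qRot_imK]; ring

theorem qRot_mul_qJ_mul_qRot (θ : ℝ) : qRot θ * qJ * qRot θ = qJ := by
  have h := Real.cos_sq_add_sin_sq θ
  apply Quaternion.ext
  · rw [Quaternion.re_mul, Quaternion.re_mul, Quaternion.imI_mul, Quaternion.imJ_mul,
      Quaternion.imK_mul]
    simp only [qJ_re, qJ_imI, qJ_imJ, qJ_imK, qRot_re, qRot_imI, qRot_imJ, qRot_imK]; ring
  · rw [Quaternion.imI_mul, Quaternion.re_mul, Quaternion.imI_mul, Quaternion.imJ_mul,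
      Quaternion.imK_mul]
    simp only [qJ_re, qJ_imI, qJ_imJ, qJ_imK, qRot_re, qRot_imI, qRot_imJ, qRot_imK]; ring
  · rw [Quaternion.imJ_mul, Quaternion.re_mul, Quaternion.imI_mul, Quaternion.imJ_mul,
      Quaternion.imK_mul]
    simp only [qJ_re, qJ_imI, qJ_imJ, qJ_imK, qRot_re, qRot_imI, qRot_imJ, qRot_imK]
    nlinarith [h]
  · rw [Quaternion.imK_mul, Quaternion.re_mul, Quaternion.imI_mul, Quaternion.imJ_mul,
      Quaternion.imK_mul]
    simp only [qJ_re, qJ_imI, qJ_imJ, qJ_imK, qRot_re, qRot_imI, qRot_imJ, qRot_imK]; ring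

theorem qJ_mul_qRot_ne_one (θ : ℝ) : qJ * qRot θ ≠ 1 := by
  intro h
  have h1 : (qJ * qRot θ).re = (1 : ℍ[ℝ]).re := congrArg (fun x : ℍ[ℝ] => x.re) h
  rw [Quaternion.re_mul] at h1
  simp only [qJ_re, qJ_imI, qJ_imJ, qJ_imK, qRot_re, qRot_imI, qRot_imJ, qRot_imK] at h1
  have h2 : (1 : ℍ[ℝ]).re = 1 := rfl
  rw [h2] at h1
  norm_num at h1

theorem qRot_eq_one_iff (θ : ℝ) : qRot θ = 1 ↔ Real.cos θ = 1 := by
  constructor
  · intro h
    have h1 : (qRot θ).re = (1 : ℍ[ℝ]).re := congrArg (fun x : ℍ[ℝ] => x.re) h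
    rw [qRot_re] at h1
    exact h1
  · intro h
    have hs : Real.sin θ = 0 := by
      have h2 := Real.cos_sq_add_sin_sq θ
      rw [h] at h2
      have : Real.sin θ ^ 2 = 0 := by linarith
      exact pow_eq_zero_iff (two_ne_zero) |>.mp this
    apply Quaternion.ext
    · rw [qRot_re, h]; rfl
    · rw [qRot_imI, hs]; rfl
    · rw [qRot_imJ]; rfl
    · rw [qRot_imK]; rfl

theorem qRot_pi_div_pow_ne_one (n : ℕ) (hn : 0 < n) (k : ℕ) (hk0 : 0 < k) (hk : k < 2 * n) :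
    qRot (Real.pi / n) ^ k ≠ 1 := by
  rw [qRot_pow, Ne, qRot_eq_one_iff, Real.cos_eq_one_iff]
  rintro ⟨z, hz⟩
  have hpi : Real.pi ≠ 0 := Real.pi_ne_zero
  have hn' : (n : ℝ) ≠ 0 := by exact_mod_cast hn.ne'
  have h1 : (z : ℝ) * 2 * n = k := by
    field_simp at hz
    linarith
  have h2 : z * 2 * (n : ℤ) = (k : ℤ) := by exact_mod_cast h1
  have hzpos : 0 < z := by
    by_contra hneg
    push Not at hneg
    have : z * 2 * (n : ℤ) ≤ 0 := by
      have : (0 : ℤ) ≤ 2 * (n : ℤ) := by positivity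
      nlinarith
    have hk' : (0 : ℤ) < k := by exact_mod_cast hk0
    omega
  have : (2 : ℤ) * n ≤ z * 2 * (n : ℤ) := by nlinarith
  have hk' : (k : ℤ) < 2 * n := by exact_mod_cast hk
  omega

theorem qRot_pi_div_pow_two_mul (n : ℕ) (hn : 0 < n) : qRot (Real.pi / n) ^ (2 * n) = 1 := by
  have hn' : (n : ℝ) ≠ 0 := by exact_mod_cast hn.ne'
  rw [qRot_pow, qRot_eq_one_iff]
  have : ((2 * n : ℕ) : ℝ) * (Real.pi / n) = 2 * Real.pi := by
    push_cast; field_simp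
  rw [this, Real.cos_two_pi]

theorem qRot_pi_div_pow_self (n : ℕ) (hn : 0 < n) : qRot (Real.pi / n) ^ n = qRot Real.pi := by
  have hn' : (n : ℝ) ≠ 0 := by exact_mod_cast hn.ne'
  rw [qRot_pow]
  congr 1
  field_simp

end Cfsg.Agent.Helper4
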