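import Mathlib
import Cfsg.Agent.Helper8.PerpRepr

/-!
# Some vectors of prescribed norm in a nondegenerate quadratic space of dimension at least five
-/

set_option autoImplicit false

namespace Cfsg.Agent.Helper4.ReflGeom

open Module Cfsg.Agent.Helper8.QuadForm Cfsg.Agent.Helper8.PerpRepr

variable {F : Type*} [Field F] {V : Type*} [AddCommGroup V] [Module F V]

/-- a vector of norm `c` orthogonal to `u` but not to `v`, when `v` is not a multiple of `u` -/
theorem exists_perp_not_perp [Finite F] [FiniteDimensional F V] (h2 : (2 : F) ≠ 0)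
    (Q : QuadraticForm F V) (hQ : Nondeg Q) (h5 : 5 ≤ finrank F V) {u v : V} {c : F}
    (hc : c ≠ 0) (hu : Q u = c)
    (hv : v - (QuadraticMap.polar Q u v / QuadraticMap.polar Q u u) • u ≠ 0) :
    ∃ w, Q w = c ∧ QuadraticMap.polar Q u w = 0 ∧ QuadraticMap.polar Q v w ≠ 0 := by
  have huu : QuadraticMap.polar Q u u ≠ 0 := by
    rw [polar_self', hu]; exact mul_ne_zero h2 hc
  obtain ⟨α, hα⟩ : ∃ α, α = QuadraticMap.polar Q u v / QuadraticMap.polar Q u u := ⟨_, rfl⟩
  obtain ⟨p, hp⟩ : ∃ p, p = v - α • u := ⟨_, rfl⟩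
  rw [← hα, ← hp] at hv
  have hup : QuadraticMap.polar Q u p = 0 := by
    rw [hp, QuadraticMap.polar_sub_right, QuadraticMap.polar_smul_right, smul_eq_mul, hα,
      div_mul_cancel₀ _ huu, sub_self]
  have hvp : v = p + α • u := by rw [hp]; abel
  by_cases hQp : Q p = 0
  · -- singular projection
    have hndW : Nondeg (Q.comp (perpVec Q u).subtype) := by
      rw [nondeg_comp_subtype_iff]
      exact perpVec_nondeg Q hQ huu
    have hpW : p ∈ perpVec Q u := (mem_perpVec Q u p).mpr hup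
    have hp'0 : (⟨p, hpW⟩ : perpVec Q u) ≠ 0 := fun h => hv (congrArg Subtype.val h)
    obtain ⟨f, hf, hpf⟩ := exists_hyperbolic_pair (Q.comp (perpVec Q u).subtype) hndW hp'0 hQp
    have hf' : Q (f : V) = 0 := hf
    have hpf' : QuadraticMap.polar Q p (f : V) = 1 := hpf
    have huf : QuadraticMap.polar Q u (f : V) = 0 := (mem_perpVec Q u _).mp f.2
    refine ⟨(f : V) + c • p, ?_, ?_, ?_⟩
    · rw [QuadraticMap.map_add Q, QuadraticMap.map_smul, hf', hQp, QuadraticMap.polar_smul_right,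
        QuadraticMap.polar_comm Q (f : V) p, hpf']
      simp
    · rw [QuadraticMap.polar_add_right, QuadraticMap.polar_smul_right, huf, hup]
      simp
    · rw [hvp, QuadraticMap.polar_add_left, QuadraticMap.polar_smul_left,
        QuadraticMap.polar_add_right, QuadraticMap.polar_add_right,
        QuadraticMap.polar_smul_right, QuadraticMap.polar_smul_right, hpf', polar_self', hQp, huf,
        hup]
      simp
  · -- nonsingular projection
    obtain ⟨z, hzu, hzv, hz⟩ := exists_perp_repr h2 Q hQ (a := u) (b := v)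
      (by rw [hu]; exact hc) (Or.inl h5) (c - Q p)
    have hpz : QuadraticMap.polar Q p z = 0 := by
      rw [hp, QuadraticMap.polar_sub_left, QuadraticMap.polar_smul_left, hzu, hzv]
      simp
    refine ⟨p + z, ?_, ?_, ?_⟩
    · rw [QuadraticMap.map_add Q, hz, hpz]
      ring
    · rw [QuadraticMap.polar_add_right, hup, hzu, add_zero]
    · rw [QuadraticMap.polar_add_right, hzv, add_zero, hvp, QuadraticMap.polar_add_left,
        QuadraticMap.polar_smul_left, hup, polar_self']
      simp only [smul_zero, add_zero]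
      exact mul_ne_zero h2 hQp

/-- for orthogonal `u`, `v` of norm `c`, another vector of norm `c` orthogonal to `u` but not to
`v` -/
theorem exists_perp_not_perp_of_perp [Finite F] [FiniteDimensional F V] (h2 : (2 : F) ≠ 0)
    (Q : QuadraticForm F V) (hQ : Nondeg Q) (h5 : 5 ≤ finrank F V) {u v : V} {c : F}
    (hc : c ≠ 0) (hu : Q u = c) (hv : Q v = c) (huv : QuadraticMap.polar Q u v = 0) :
    ∃ w, Q w = c ∧ QuadraticMap.polar Q u w = 0 ∧ QuadraticMap.polar Q w v = 2 * c ∧ w ≠ v := by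
  have huu : QuadraticMap.polar Q u u ≠ 0 := by
    rw [polar_self', hu]; exact mul_ne_zero h2 hc
  obtain ⟨z₁, hz₁u, hz₁v, hz₁⟩ := exists_perp_repr h2 Q hQ (a := u) (b := v)
    (by rw [hu]; exact hc) (Or.inl h5) c
  have hndW : Nondeg (Q.comp (perpVec Q u).subtype) := by
    rw [nondeg_comp_subtype_iff]
    exact perpVec_nondeg Q hQ huu
  have hdimW : finrank F (perpVec Q u) + 1 = finrank F V := finrank_perpVec Q huu
  have hvW : v ∈ perpVec Q u := (mem_perpVec Q u v).mpr huv
  have hz₁W : z₁ ∈ perpVec Q u := (mem_perpVec Q u z₁).mpr hz₁u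
  obtain ⟨z₂, hz₂v, hz₂z, hz₂⟩ := exists_perp_repr h2 (Q.comp (perpVec Q u).subtype) hndW
    (a := ⟨v, hvW⟩) (b := ⟨z₁, hz₁W⟩) (by show Q v ≠ 0; rw [hv]; exact hc)
    (Or.inr ⟨by omega, by show QuadraticMap.polar Q v z₁ = 0; exact hz₁v,
      by show Q z₁ ≠ 0; rw [hz₁]; exact hc⟩) (-c)
  have hz₂v' : QuadraticMap.polar Q v (z₂ : V) = 0 := hz₂v
  have hz₂z' : QuadraticMap.polar Q z₁ (z₂ : V) = 0 := hz₂z
  have hz₂' : Q (z₂ : V) = -c := hz₂
  have hz₂u : QuadraticMap.polar Q u (z₂ : V) = 0 := (mem_perpVec Q u _).mp z₂.2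
  refine ⟨v + z₁ + (z₂ : V), ?_, ?_, ?_, ?_⟩
  · rw [QuadraticMap.map_add Q, QuadraticMap.map_add Q, hv, hz₁, hz₂', hz₁v,
      QuadraticMap.polar_add_left, hz₂v', hz₂z']
    ring
  · rw [QuadraticMap.polar_add_right, QuadraticMap.polar_add_right, huv, hz₁u, hz₂u]
    simp
  · rw [QuadraticMap.polar_add_left, QuadraticMap.polar_add_left, polar_self', hv,
      QuadraticMap.polar_comm Q z₁ v, hz₁v, QuadraticMap.polar_comm Q (z₂ : V) v, hz₂v']
    simp
  · intro h
    have h0 : z₁ + (z₂ : V) = 0 := by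
      have : v + (z₁ + (z₂ : V)) = v + 0 := by rw [← add_assoc, h, add_zero]
      exact add_left_cancel this
    have h1 : (z₂ : V) = -z₁ := by
      rw [eq_neg_iff_add_eq_zero, add_comm]; exact h0
    have h3 : Q (z₂ : V) = c := by rw [h1, QuadraticMap.map_neg, hz₁]
    rw [hz₂'] at h3
    apply mul_ne_zero h2 hc
    linear_combination -h3

end Cfsg.Agent.Helper4.ReflGeom
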