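import Mathlib
import Cfsg.Agent.Helper8.ReflF3
import Cfsg.Agent.Helper4.ReflGeom
import Cfsg.Agent.Lead.ThreeTransG
import Cfsg.Agent.Lead.ThreeTransP
import Cfsg.Agent.Lead.ThreeTransW
import Cfsg.Agent.Helper5.ThreeTransB

/-!
# The group generated by the reflections of a fixed norm over the field with three elements

In dimension at least five its commutator subgroup is quasisimple of index at most two and it acts
primitively on its reflections (via the general theory of classes of 3-transpositions).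
-/

set_option autoImplicit false

namespace Cfsg.Agent.Helper4.ReflF3Prim

open Module Cfsg.Agent.Helper8.QuadForm Cfsg.Agent.Helper8.Reflections
  Cfsg.Agent.Helper8.ReflMatrix Cfsg.Agent.Helper8.OmegaOdd Cfsg.Agent.Helper8.ReflF3
  Cfsg.Agent.Helper8.PerpRepr Cfsg.Agent.Lead.TTW

/-- an element commuting with a generating set is central -/
theorem mem_center_of_gen {G : Type*} [Group G] {D : Set G} (hgen : Subgroup.closure D = ⊤)
    {g : G} (h : ∀ d ∈ D, g * d = d * g) : g ∈ Subgroup.center G := by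
  rw [Subgroup.mem_center_iff]
  intro x
  have hx : x ∈ Subgroup.closure D := by rw [hgen]; trivial
  have : x ∈ Subgroup.centralizer {g} := by
    revert hx
    apply (Subgroup.closure_le _).mpr
    intro z hz
    rw [SetLike.mem_coe, Subgroup.mem_centralizer_iff]
    intro w hw
    rw [Set.mem_singleton_iff] at hw
    rw [hw]
    exact h z hz
  rw [Subgroup.mem_centralizer_iff] at this
  exact (this g rfl).symm

/-- a quasisimple normal subgroup of index at most two is the commutator subgroup -/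
theorem eq_commutator_of_index_le_two {G : Type*} [Group G] [Finite G] (L : Subgroup G)
    [L.Normal] (hp : Group.IsPerfect L) (hi : L.index ≤ 2) : L = commutator G := by
  apply le_antisymm
  · have h1 : ⁅L, L⁆ = L := (Subgroup.isPerfect_iff).mp hp
    rw [← h1, commutator_def]
    exact Subgroup.commutator_mono le_top le_top
  · have h0 : L.index ≠ 0 := Subgroup.index_ne_zero_of_finite
    have h12 : L.index = 1 ∨ L.index = 2 := by omega
    rcases h12 with h1 | h2
    · rw [Subgroup.index_eq_one.mp h1]; exact le_top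
    · rw [commutator_def, Subgroup.commutator_le]
      intro a _ b _
      rw [commutatorElement_def]
      have e : a * b * a⁻¹ * b⁻¹ = (a * b) * (a⁻¹ * b⁻¹) := by group
      rw [e, Subgroup.mul_mem_iff_of_index_two h2, Subgroup.mul_mem_iff_of_index_two h2,
        Subgroup.mul_mem_iff_of_index_two h2, inv_mem_iff, inv_mem_iff]

section matrix

variable {ι : Type} [Fintype ι] [DecidableEq ι] (Q : QuadraticForm (ZMod 3) (ι → ZMod 3))

/-- the reflections of norm `c` inside the subgroup they generate -/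
def DD (c : ZMod 3) : Set ↥(Cfsg.reflectionSubgroup ⇑Q c) :=
  {g | (g : ↥(Cfsg.isometryGroup (ZMod 3) ⇑Q)) ∈ Cfsg.reflectionsOfNorm ⇑Q c}

/-- the reflection in a vector of norm `c` as a member of the reflection subgroup -/
noncomputable def T (c : ZMod 3) (v : ι → ZMod 3) (hv : Q v = c) :
    ↥(Cfsg.reflectionSubgroup ⇑Q c) :=
  ⟨reflElt Q v, reflElt_mem Q c hv⟩

theorem T_mem (c : ZMod 3) (v : ι → ZMod 3) (hv : Q v = c) : T Q c v hv ∈ DD Q c :=
  (mem_reflectionsOfNorm Q c _).mpr ⟨v, hv, rfl⟩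

theorem exists_of_mem {c : ZMod 3} {g : ↥(Cfsg.reflectionSubgroup ⇑Q c)} (hg : g ∈ DD Q c) :
    ∃ (v : ι → ZMod 3) (hv : Q v = c), g = T Q c v hv := by
  obtain ⟨v, hv, hgv⟩ := (mem_reflectionsOfNorm Q c _).mp hg
  exact ⟨v, hv, Subtype.ext hgv⟩

theorem T_comm {c : ZMod 3} {u v : ι → ZMod 3} (hu : Q u = c) (hv : Q v = c)
    (huv : QuadraticMap.polar Q u v = 0) : Commute (T Q c u hu) (T Q c v hv) := by
  apply Subtype.ext
  show reflElt Q u * reflElt Q v = reflElt Q v * reflElt Q u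
  have h1 := reflElt_comm Q huv
  have h2 : reflElt Q u * reflElt Q v = (reflElt Q u * reflElt Q v)⁻¹ :=
    eq_inv_of_mul_eq_one_left h1
  rw [mul_inv_rev, reflElt_inv, reflElt_inv] at h2
  exact h2

theorem T_eq_of_comm {c : ZMod 3} (hc : c ≠ 0) {u v : ι → ZMod 3} (hu : Q u = c) (hv : Q v = c)
    (huv : QuadraticMap.polar Q u v ≠ 0) (hcomm : Commute (T Q c u hu) (T Q c v hv)) :
    T Q c u hu = T Q c v hv := by
  apply Subtype.ext
  show reflElt Q u = reflElt Q v
  have hb := reflElt_braid Q hc hu hv huv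
  have hc' : reflElt Q u * reflElt Q v = reflElt Q v * reflElt Q u :=
    congrArg Subtype.val hcomm.eq
  have h1 : reflElt Q u * reflElt Q v * reflElt Q u = reflElt Q v := by
    rw [hc', mul_assoc, reflElt_mul_self, mul_one]
  have h2 : reflElt Q v * reflElt Q u * reflElt Q v = reflElt Q u := by
    rw [← hc', mul_assoc, reflElt_mul_self, mul_one]
  rw [h1, h2] at hb
  exact hb.symm

theorem T_eq_imp {c : ZMod 3} (hc : c ≠ 0) {v w : ι → ZMod 3} (hv : Q v = c) (hw : Q w = c)
    (h : T Q c v hv = T Q c w hw) (x : ι → ZMod 3) :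
    QuadraticMap.polar Q v x • v = QuadraticMap.polar Q w x • w := by
  have h1 : reflElt Q v = reflElt Q w := congrArg Subtype.val h
  have h2 : refl Q v = refl Q w := by
    rw [← isomEquiv_reflElt_val, ← isomEquiv_reflElt_val, h1]
  have h3 := congrArg (fun f : (ι → ZMod 3) ≃ₗ[ZMod 3] (ι → ZMod 3) => f x) h2
  simp only [refl_apply, hv, hw] at h3
  have h4 : (QuadraticMap.polar Q v x / c) • v = (QuadraticMap.polar Q w x / c) • w := by
    have := sub_right_injective h3
    exact this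
  have h5 := congrArg (fun y => c • y) h4
  simp only [smul_smul] at h5
  rwa [mul_div_cancel₀ _ hc, mul_div_cancel₀ _ hc] at h5

theorem T_smul {c : ZMod 3} {u : ι → ZMod 3} {t : ZMod 3} (ht : t ≠ 0) (hu : Q u = c)
    (htu : Q (t • u) = c) : T Q c (t • u) htu = T Q c u hu := by
  apply Subtype.ext
  show reflElt Q (t • u) = reflElt Q u
  apply eq_of_isomEquiv
  rw [isomEquiv_reflElt_val, isomEquiv_reflElt_val, refl_smul Q ht]

theorem T_ne_of_perp {c : ZMod 3} (hc : c ≠ 0) {u w : ι → ZMod 3} (hu : Q u = c) (hw : Q w = c)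
    (huw : QuadraticMap.polar Q u w = 0) : T Q c w hw ≠ T Q c u hu := by
  intro h
  have h1 := T_eq_imp Q hc hw hu h u
  rw [QuadraticMap.polar_comm Q w u, huw, zero_smul, polar_self', hu] at h1
  have h2 : u = 0 := by
    rcases smul_eq_zero.mp h1.symm with h3 | h3
    · exact absurd h3 (mul_ne_zero two_ne hc)
    · exact h3
  rw [h2, map_zero] at hu
  exact hc hu.symm

variable (hQ : (QuadraticMap.polarBilin Q).Nondegenerate) (hn : 5 ≤ Fintype.card ι)

include hQ hn

/-- members commuting with the same members are equal -/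
theorem vclass_trivial {c : ZMod 3} (hc : c ≠ 0) {u v : ι → ZMod 3} (hu : Q u = c) (hv : Q v = c)
    (h : ∀ e ∈ DD Q c, Commute (T Q c v hv) e ↔ Commute (T Q c u hu) e) :
    T Q c v hv = T Q c u hu := by
  have hnd := (nondeg_iff Q).mp hQ
  have hdim : 5 ≤ finrank (ZMod 3) (ι → ZMod 3) := by
    rw [Module.finrank_fintype_fun_eq_card]; exact hn
  by_contra hne
  have h1 : Commute (T Q c u hu) (T Q c v hv) := (h _ (T_mem Q c v hv)).mp (Commute.refl _)
  have huv : QuadraticMap.polar Q u v = 0 := by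
    by_contra huv
    exact hne (T_eq_of_comm Q hc hu hv huv h1).symm
  obtain ⟨w, hw, huw, hwv, hwne⟩ :=
    Cfsg.Agent.Helper4.ReflGeom.exists_perp_not_perp_of_perp two_ne Q hnd hdim hc hu hv huv
  have h2 : Commute (T Q c v hv) (T Q c w hw) :=
    (h _ (T_mem Q c w hw)).mpr (T_comm Q hu hw huw)
  have hvw : QuadraticMap.polar Q v w ≠ 0 := by
    rw [QuadraticMap.polar_comm, hwv]; exact mul_ne_zero two_ne hc
  have h3 := T_eq_of_comm Q hc hv hw hvw h2
  have h4 := T_eq_imp Q hc hv hw h3 v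
  rw [polar_self', hv, hwv] at h4
  apply hwne
  have h5 : (2 * c) • (w - v) = 0 := by rw [smul_sub, h4, sub_self]
  rcases smul_eq_zero.mp h5 with h6 | h6
  · exact absurd h6 (mul_ne_zero two_ne hc)
  · exact sub_eq_zero.mp h6

/-- members with the same proper commuting members are equal -/
theorem wclass_trivial {c : ZMod 3} (hc : c ≠ 0) {u v : ι → ZMod 3} (hu : Q u = c) (hv : Q v = c)
    (h : star (DD Q c) (T Q c u hu) = star (DD Q c) (T Q c v hv)) :
    T Q c v hv = T Q c u hu := by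
  have hnd := (nondeg_iff Q).mp hQ
  have hdim : 5 ≤ finrank (ZMod 3) (ι → ZMod 3) := by
    rw [Module.finrank_fintype_fun_eq_card]; exact hn
  by_contra hne
  have hnc : ¬ Commute (T Q c u hu) (T Q c v hv) :=
    WRel.not_commute (T_mem Q c v hv) h (Ne.symm hne)
  have huv : QuadraticMap.polar Q u v ≠ 0 := fun h0 => hnc (T_comm Q hu hv h0)
  have huu : QuadraticMap.polar Q u u ≠ 0 := by
    rw [polar_self', hu]; exact mul_ne_zero two_ne hc
  have hp : v - (QuadraticMap.polar Q u v / QuadraticMap.polar Q u u) • u ≠ 0 := by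
    intro h0
    have hvu : v = (QuadraticMap.polar Q u v / QuadraticMap.polar Q u u) • u :=
      sub_eq_zero.mp h0
    have hα : QuadraticMap.polar Q u v / QuadraticMap.polar Q u u ≠ 0 := div_ne_zero huv huu
    have hq : Q ((QuadraticMap.polar Q u v / QuadraticMap.polar Q u u) • u) = c := by
      rw [← hvu]; exact hv
    have h1 := T_smul Q hα hu hq
    apply hne
    rw [← h1]
    congr 1
  obtain ⟨w, hw, huw, hvw⟩ :=
    Cfsg.Agent.Helper4.ReflGeom.exists_perp_not_perp two_ne Q hnd hdim hc hu hp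
  have hm : T Q c w hw ∈ star (DD Q c) (T Q c u hu) :=
    ⟨T_mem Q c w hw, T_ne_of_perp Q hc hu hw huw, T_comm Q hu hw huw⟩
  rw [h] at hm
  exact hm.2.1 (T_eq_of_comm Q hc hv hw hvw hm.2.2).symm

theorem exists_two {c : ZMod 3} (hc : c ≠ 0) : ∃ a ∈ DD Q c, ∃ b ∈ DD Q c, a ≠ b := by
  have hnd := (nondeg_iff Q).mp hQ
  have hdim : 5 ≤ finrank (ZMod 3) (ι → ZMod 3) := by
    rw [Module.finrank_fintype_fun_eq_card]; exact hn
  obtain ⟨u, hu⟩ := exists_repr Q hnd (by omega) c
  obtain ⟨w, huw, -, hw⟩ := exists_perp_repr two_ne Q hnd (a := u) (b := u)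
    (by rw [hu]; exact hc) (Or.inl hdim) c
  exact ⟨T Q c w hw, T_mem Q c w hw, T Q c u hu, T_mem Q c u hu, T_ne_of_perp Q hc hu hw huw⟩

theorem connected {c : ZMod 3} (hc : c ≠ 0) : (Cfsg.commutingGraph (DD Q c)).Connected := by
  have hnd := (nondeg_iff Q).mp hQ
  have hdim : 5 ≤ finrank (ZMod 3) (ι → ZMod 3) := by
    rw [Module.finrank_fintype_fun_eq_card]; exact hn
  obtain ⟨a₀, ha₀, -⟩ := exists_two Q hQ hn hc
  haveI : Nonempty (DD Q c) := ⟨⟨a₀, ha₀⟩⟩
  refine ⟨?_⟩
  rintro ⟨a, ha⟩ ⟨b, hb⟩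
  obtain ⟨u, hu, rfl⟩ := exists_of_mem Q ha
  obtain ⟨v, hv, rfl⟩ := exists_of_mem Q hb
  obtain ⟨w, huw, hvw, hw⟩ := exists_perp_repr two_ne Q hnd (a := u) (b := v)
    (by rw [hu]; exact hc) (Or.inl hdim) c
  have h1 : (Cfsg.commutingGraph (DD Q c)).Adj ⟨T Q c u hu, ha⟩ ⟨T Q c w hw, T_mem Q c w hw⟩ := by
    unfold Cfsg.commutingGraph
    rw [SimpleGraph.fromRel_adj]
    refine ⟨?_, Or.inl (T_comm Q hu hw huw)⟩
    intro h
    exact T_ne_of_perp Q hc hu hw huw (congrArg Subtype.val h).symm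
  have h2 : (Cfsg.commutingGraph (DD Q c)).Adj ⟨T Q c w hw, T_mem Q c w hw⟩ ⟨T Q c v hv, hb⟩ := by
    unfold Cfsg.commutingGraph
    rw [SimpleGraph.fromRel_adj]
    refine ⟨?_, Or.inr (T_comm Q hv hw hvw)⟩
    intro h
    exact T_ne_of_perp Q hc hv hw hvw (congrArg Subtype.val h)
  exact h1.reachable.trans h2.reachable

/-- **S5360** for an arbitrary index type. -/
theorem main {c : ZMod 3} (hc : c ≠ 0) :
    Cfsg.IsQuasisimple (commutator ↥(Cfsg.reflectionSubgroup ⇑Q c)) ∧
      (commutator ↥(Cfsg.reflectionSubgroup ⇑Q c)).index ≤ 2 ∧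
      Cfsg.generalizedFittingSubgroup ↥(Cfsg.reflectionSubgroup ⇑Q c) =
        Subgroup.center ↥(Cfsg.reflectionSubgroup ⇑Q c) ⊔
          commutator ↥(Cfsg.reflectionSubgroup ⇑Q c) ∧
      Cfsg.IsPrimitiveUnderConj (DD Q c) := by
  have hD : Cfsg.IsThreeTranspositionClass (DD Q c) :=
    isThreeTranspositionClass Q hQ (by omega) hc
  have hD2 := exists_two Q hQ hn hc
  have hT := tt3_of_class hD
  have hgen : Subgroup.closure (DD Q c) = ⊤ := hD.2.2
  -- O₂ is central
  have h2 : Cfsg.pCore 2 ↥(Cfsg.reflectionSubgroup ⇑Q c) ≤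
      Subgroup.center ↥(Cfsg.reflectionSubgroup ⇑Q c) := by
    intro g hg
    apply mem_center_of_gen hgen
    intro d hd
    obtain ⟨u, hu, rfl⟩ := exists_of_mem Q hd
    have hV := (Cfsg.Agent.Helper5.ThreeTrans.main_S5349 hD hD2 hd).2
    have hm : g * T Q c u hu * g⁻¹ ∈ {v | ∃ g ∈ Cfsg.pCore 2 ↥(Cfsg.reflectionSubgroup ⇑Q c),
        v = g * T Q c u hu * g⁻¹} := ⟨g, hg, rfl⟩
    rw [← hV] at hm
    obtain ⟨hmD, hmc⟩ := hm
    obtain ⟨v, hv, hgv⟩ := exists_of_mem Q hmD
    rw [hgv] at hmc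
    have := vclass_trivial Q hQ hn hc hu hv hmc
    rw [← hgv] at this
    calc g * T Q c u hu = (g * T Q c u hu * g⁻¹) * g := by group
      _ = T Q c u hu * g := by rw [this]
  -- O₃ is central
  have h3 : Cfsg.pCore 3 ↥(Cfsg.reflectionSubgroup ⇑Q c) ≤
      Subgroup.center ↥(Cfsg.reflectionSubgroup ⇑Q c) := by
    intro g hg
    apply mem_center_of_gen hgen
    intro d hd
    obtain ⟨u, hu, rfl⟩ := exists_of_mem Q hd
    have hW := (main_W hT hd).2
    have hm : g * T Q c u hu * g⁻¹ ∈ {w | ∃ g ∈ Cfsg.pCore 3 ↥(Cfsg.reflectionSubgroup ⇑Q c),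
        w = g * T Q c u hu * g⁻¹} := ⟨g, hg, rfl⟩
    rw [← hW] at hm
    obtain ⟨hmD, hmc⟩ := hm
    obtain ⟨v, hv, hgv⟩ := exists_of_mem Q hmD
    rw [hgv] at hmc
    have := wclass_trivial Q hQ hn hc hu hv hmc
    rw [← hgv] at this
    calc g * T Q c u hu = (g * T Q c u hu * g⁻¹) * g := by group
      _ = T Q c u hu * g := by rw [this]
  obtain ⟨L, hLn, hLq, hLF, -⟩ := Cfsg.Agent.Lead.TTG.main_G hD hD2 h2 h3
  haveI := hLn
  obtain ⟨hprim, hidx⟩ := Cfsg.Agent.Lead.TTP.main_P hD hD2 h2 h3 L hLq hLF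
  have hi : L.index ≤ 2 := hidx (connected Q hQ hn hc)
  have hLc : L = commutator ↥(Cfsg.reflectionSubgroup ⇑Q c) :=
    eq_commutator_of_index_le_two L hLq.1 hi
  rw [← hLc]
  exact ⟨hLq, hi, by rw [hLF, sup_comm], hprim hi⟩

end matrix

end Cfsg.Agent.Helper4.ReflF3Prim
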