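import Mathlib

set_option autoImplicit false

namespace Cfsg.Agent.Helper4

open MulAction
open scoped Pointwise

/-- a family of sets permuted by the group and pairwise equal-or-disjoint consists of blocks -/
theorem isBlock_of_family {K Y ι : Type*} [Group K] [MulAction K Y] (P : ι → Set Y)
    (h1 : ∀ (k : K) (i : ι), ∃ j, k • P i = P j)
    (h2 : ∀ i j, (P i ∩ P j).Nonempty → P i = P j) (i : ι) : IsBlock K (P i) := by
  rw [isBlock_iff_smul_eq_or_disjoint]
  intro g
  obtain ⟨j, hj⟩ := h1 g i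
  rw [hj]
  by_cases h : (P j ∩ P i).Nonempty
  · left; exact h2 j i h
  · right
    rw [Set.disjoint_iff_inter_eq_empty]
    exact Set.not_nonempty_iff_eq_empty.1 h

section
variable {G : Type*} [Group G] {X : Type*} [MulAction G X]

theorem regular_inj (N : Subgroup G) (x : X) (hreg : stabilizer N x = ⊥) {n m : G}
    (hn : n ∈ N) (hm : m ∈ N) (h : n • x = m • x) : n = m := by
  have hmem : (⟨m⁻¹ * n, N.mul_mem (N.inv_mem hm) hn⟩ : N) ∈ stabilizer N x := by
    rw [mem_stabilizer_iff]
    show (m⁻¹ * n) • x = x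
    rw [mul_smul, h, inv_smul_smul]
  rw [hreg, Subgroup.mem_bot] at hmem
  have h1 : m⁻¹ * n = 1 := congrArg Subtype.val hmem
  exact (inv_mul_eq_one.1 h1).symm

theorem smul_smul_eq_conj_smul {k n : G} {x : X} (hk : k • x = x) :
    k • (n • x) = (k * n * k⁻¹) • x := by
  have hk' : k⁻¹ • x = x := by rw [inv_smul_eq_iff, hk]
  rw [mul_smul, mul_smul, hk']

theorem sq_eq_one_of_two_preprimitive [Fintype X] (x : X)
    (h2 : IsMultiplyPreprimitive G X 2)
    (N : Subgroup G) [hN : N.Normal] (hreg : ∀ x : X, stabilizer N x = ⊥) :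
    Fintype.card X = 3 ∨ ∀ n ∈ N, n ^ 2 = 1 := by
  classical
  by_contra hcon
  rw [not_or] at hcon
  obtain ⟨hcard, hex⟩ := hcon
  rw [not_forall] at hex
  obtain ⟨n, hex⟩ := hex
  rw [Classical.not_imp] at hex
  obtain ⟨hn, hn2⟩ := hex
  have hn1 : n ≠ 1 := by
    rintro rfl
    exact hn2 (one_pow 2)
  have hs : ({x} : Set X).encard + 1 = ((2 : ℕ) : ℕ∞) := by
    rw [Set.encard_singleton]; rfl
  have hprim : IsPreprimitive (fixingSubgroup G ({x} : Set X))
      (SubMulAction.ofFixingSubgroup G ({x} : Set X)) :=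
    h2.isPreprimitive_ofFixingSubgroup hs
  have hfix : ∀ k : fixingSubgroup G ({x} : Set X), (k : G) • x = x := by
    intro k
    exact (mem_fixingSubgroup_iff G).1 k.2 x rfl
  let P : {m : G // m ∈ N ∧ m ≠ 1} → Set (SubMulAction.ofFixingSubgroup G ({x} : Set X)) :=
    fun m => {y | (y : X) = m.1 • x ∨ (y : X) = m.1⁻¹ • x}
  have hP1 : ∀ (k : fixingSubgroup G ({x} : Set X)) (i : {m : G // m ∈ N ∧ m ≠ 1}),
      ∃ j, k • P i = P j := by
    intro k i
    refine ⟨⟨(k : G) * i.1 * (k : G)⁻¹, hN.conj_mem _ i.2.1 _, ?_⟩, ?_⟩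
    · intro h
      apply i.2.2
      have := congrArg (fun z => (k : G)⁻¹ * z * (k : G)) h
      simpa [mul_assoc] using this
    · ext y
      rw [Set.mem_smul_set_iff_inv_smul_mem]
      show ((k⁻¹ • y : SubMulAction.ofFixingSubgroup G ({x} : Set X)) : X) = i.1 • x ∨
          ((k⁻¹ • y : SubMulAction.ofFixingSubgroup G ({x} : Set X)) : X) = i.1⁻¹ • x ↔
        (y : X) = ((k : G) * i.1 * (k : G)⁻¹) • x ∨ (y : X) = ((k : G) * i.1 * (k : G)⁻¹)⁻¹ • x
      have e1 : ((k⁻¹ • y : SubMulAction.ofFixingSubgroup G ({x} : Set X)) : X) =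
          (k : G)⁻¹ • (y : X) := rfl
      rw [e1, inv_smul_eq_iff, inv_smul_eq_iff, smul_smul_eq_conj_smul (hfix k),
        smul_smul_eq_conj_smul (hfix k)]
      have e2 : ((k : G) * i.1 * (k : G)⁻¹)⁻¹ = (k : G) * i.1⁻¹ * (k : G)⁻¹ := by group
      rw [e2]
  have hP2 : ∀ i j, (P i ∩ P j).Nonempty → P i = P j := by
    rintro i j ⟨y, hyi, hyj⟩
    have hij : i.1 = j.1 ∨ i.1 = j.1⁻¹ := by
      rcases hyi with hi | hi <;> rcases hyj with hj | hj
      · left; exact regular_inj N x (hreg x) i.2.1 j.2.1 (hi.symm.trans hj)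
      · right; exact regular_inj N x (hreg x) i.2.1 (N.inv_mem j.2.1) (hi.symm.trans hj)
      · right
        have := regular_inj N x (hreg x) (N.inv_mem i.2.1) j.2.1 (hi.symm.trans hj)
        rw [← this, inv_inv]
      · left
        have := regular_inj N x (hreg x) (N.inv_mem i.2.1) (N.inv_mem j.2.1) (hi.symm.trans hj)
        exact inv_injective this
    ext z
    show ((z : X) = i.1 • x ∨ (z : X) = i.1⁻¹ • x) ↔ ((z : X) = j.1 • x ∨ (z : X) = j.1⁻¹ • x)
    rcases hij with h | h
    · rw [h]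
    · rw [h, inv_inv]; exact or_comm
  have hblock := isBlock_of_family P hP1 hP2 ⟨n, hn, hn1⟩
  have hnx : n • x ∉ ({x} : Set X) := by
    intro h
    rw [Set.mem_singleton_iff] at h
    apply hn1
    have : n • x = (1 : G) • x := by rw [h, one_smul]
    exact regular_inj N x (hreg x) hn N.one_mem this
  have hnx' : n⁻¹ • x ∉ ({x} : Set X) := by
    intro h
    rw [Set.mem_singleton_iff] at h
    apply hn1
    have : n⁻¹ • x = (1 : G) • x := by rw [h, one_smul]
    have := regular_inj N x (hreg x) (N.inv_mem hn) N.one_mem this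
    exact inv_eq_one.1 this
  let y₁ : SubMulAction.ofFixingSubgroup G ({x} : Set X) := ⟨n • x, hnx⟩
  let y₂ : SubMulAction.ofFixingSubgroup G ({x} : Set X) := ⟨n⁻¹ • x, hnx'⟩
  have hy₁ : y₁ ∈ P ⟨n, hn, hn1⟩ := Or.inl rfl
  have hy₂ : y₂ ∈ P ⟨n, hn, hn1⟩ := Or.inr rfl
  have hne : n • x ≠ n⁻¹ • x := by
    intro h
    have := regular_inj N x (hreg x) hn (N.inv_mem hn) h
    apply hn2
    rw [sq]
    nth_rewrite 1 [this]
    exact inv_mul_cancel n
  rcases hprim.isTrivialBlock_of_isBlock hblock with hsub | huniv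
  · have := hsub hy₁ hy₂
    exact hne (congrArg Subtype.val this)
  · apply hcard
    have huniv' : (Finset.univ : Finset X) = {x, n • x, n⁻¹ • x} := by
      ext z
      simp only [Finset.mem_univ, Finset.mem_insert, Finset.mem_singleton, true_iff]
      by_cases hz : z = x
      · left; exact hz
      · right
        have hzmem : z ∈ SubMulAction.ofFixingSubgroup G ({x} : Set X) := by
          rw [SubMulAction.mem_ofFixingSubgroup_iff]
          exact hz
        have : (⟨z, hzmem⟩ : SubMulAction.ofFixingSubgroup G ({x} : Set X)) ∈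
            P ⟨n, hn, hn1⟩ := by
          rw [huniv]; exact Set.mem_univ _
        exact this
    rw [← Finset.card_univ, huniv']
    rw [Finset.card_eq_three]
    refine ⟨x, n • x, n⁻¹ • x, ?_, ?_, hne, rfl⟩
    · intro h; exact hnx h.symm
    · intro h; exact hnx' h.symm

theorem comm_and_card_of_regular_exponent_two [Fintype X] (x : X)
    (N : Subgroup G) (htrans : IsPretransitive N X) (hreg : ∀ x : X, stabilizer N x = ⊥)
    (hexp : ∀ n ∈ N, n ^ 2 = 1) :
    IsMulCommutative N ∧ ∃ m : ℕ, Fintype.card X = 2 ^ m := by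
  classical
  constructor
  · refine ⟨⟨fun a b => ?_⟩⟩
    have ha : a * a = 1 := by
      have := hexp a a.2; rw [sq] at this; exact Subtype.ext this
    have hb : b * b = 1 := by
      have := hexp b b.2; rw [sq] at this; exact Subtype.ext this
    have hab : (a * b) * (a * b) = 1 := by
      have := hexp (a * b) (a * b).2; rw [sq] at this; exact Subtype.ext this
    calc a * b = a * ((a * b) * (a * b)) * b := by rw [hab, mul_one]
      _ = (a * a) * (b * a) * (b * b) := by group
      _ = b * a := by rw [ha, hb, one_mul, mul_one]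
  · let e : N ≃ X := Equiv.ofBijective (fun n : N => n • x) ⟨by
      intro a b hab
      exact Subtype.ext (regular_inj N x (hreg x) a.2 b.2 hab), by
      intro y
      exact MulAction.exists_smul_eq N x y⟩
    have hfin : Finite N := Finite.of_equiv X e.symm
    have hPG : IsPGroup 2 N := by
      intro g
      refine ⟨1, ?_⟩
      rw [pow_one]
      exact Subtype.ext (hexp g g.2)
    haveI : Fact (Nat.Prime 2) := ⟨Nat.prime_two⟩
    obtain ⟨m, hm⟩ := hPG.exists_card_eq
    refine ⟨m, ?_⟩
    rw [← hm, ← Nat.card_eq_fintype_card]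
    exact (Nat.card_congr e).symm

end

end Cfsg.Agent.Helper4
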