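import Mathlib
import Cfsg.Agent.Helper4.RegularNormalBlocks

set_option autoImplicit false

namespace Cfsg.Agent.Helper4

open MulAction
open scoped Pointwise

section
variable {G : Type*} [Group G] {X : Type*} [MulAction G X]

theorem card_eq_four_of_three_preprimitive [Fintype X] (x : X)
    (h3 : IsMultiplyPreprimitive G X 3)
    (N : Subgroup G) [hN : N.Normal] (hreg : ∀ x : X, stabilizer N x = ⊥)
    (hexp : ∀ n ∈ N, n ^ 2 = 1)
    (n m : G) (hn : n ∈ N) (hm : m ∈ N) (hn1 : n ≠ 1) (hm1 : m ≠ 1) (hmn : m ≠ n) :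
    Fintype.card X = 4 := by
  classical
  have hninv : n⁻¹ = n := by
    have := hexp n hn
    rw [sq] at this
    exact inv_eq_of_mul_eq_one_left this
  have hxn : x ≠ n • x := by
    intro h
    apply hn1
    have : n • x = (1 : G) • x := by rw [← h, one_smul]
    exact regular_inj N x (hreg x) hn N.one_mem this
  have hs : ({x, n • x} : Set X).encard + 1 = ((3 : ℕ) : ℕ∞) := by
    rw [Set.encard_pair hxn]; rfl
  have hprim : IsPreprimitive (fixingSubgroup G ({x, n • x} : Set X))
      (SubMulAction.ofFixingSubgroup G ({x, n • x} : Set X)) :=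
    h3.isPreprimitive_ofFixingSubgroup hs
  have hfix : ∀ k : fixingSubgroup G ({x, n • x} : Set X), (k : G) • x = x := by
    intro k
    exact (mem_fixingSubgroup_iff G).1 k.2 x (Set.mem_insert _ _)
  have hfixn : ∀ k : fixingSubgroup G ({x, n • x} : Set X), (k : G) * n * (k : G)⁻¹ = n := by
    intro k
    have h1 : (k : G) • (n • x) = n • x :=
      (mem_fixingSubgroup_iff G).1 k.2 (n • x) (Set.mem_insert_of_mem _ rfl)
    rw [smul_smul_eq_conj_smul (hfix k)] at h1
    exact regular_inj N x (hreg x) (hN.conj_mem _ hn _) hn h1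
  let P : {i : G // i ∈ N ∧ i ≠ 1 ∧ i ≠ n} →
      Set (SubMulAction.ofFixingSubgroup G ({x, n • x} : Set X)) :=
    fun i => {y | (y : X) = i.1 • x ∨ (y : X) = (i.1 * n) • x}
  have hP1 : ∀ (k : fixingSubgroup G ({x, n • x} : Set X))
      (i : {i : G // i ∈ N ∧ i ≠ 1 ∧ i ≠ n}), ∃ j, k • P i = P j := by
    intro k i
    refine ⟨⟨(k : G) * i.1 * (k : G)⁻¹, hN.conj_mem _ i.2.1 _, ?_, ?_⟩, ?_⟩
    · intro h
      apply i.2.2.1
      have := congrArg (fun z => (k : G)⁻¹ * z * (k : G)) h
      simpa [mul_assoc] using this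
    · intro h
      apply i.2.2.2
      have h' : (k : G) * i.1 * (k : G)⁻¹ = (k : G) * n * (k : G)⁻¹ := h.trans (hfixn k).symm
      exact mul_left_cancel (mul_right_cancel h')
    · ext y
      rw [Set.mem_smul_set_iff_inv_smul_mem]
      show ((k⁻¹ • y : SubMulAction.ofFixingSubgroup G ({x, n • x} : Set X)) : X) = i.1 • x ∨
          ((k⁻¹ • y : SubMulAction.ofFixingSubgroup G ({x, n • x} : Set X)) : X)
            = (i.1 * n) • x ↔
        (y : X) = ((k : G) * i.1 * (k : G)⁻¹) • x ∨
          (y : X) = ((k : G) * i.1 * (k : G)⁻¹ * n) • x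
      have e1 : ((k⁻¹ • y : SubMulAction.ofFixingSubgroup G ({x, n • x} : Set X)) : X) =
          (k : G)⁻¹ • (y : X) := rfl
      rw [e1, inv_smul_eq_iff, inv_smul_eq_iff, smul_smul_eq_conj_smul (hfix k),
        smul_smul_eq_conj_smul (hfix k)]
      have e2 : (k : G) * (i.1 * n) * (k : G)⁻¹ = (k : G) * i.1 * (k : G)⁻¹ * n := by
        calc (k : G) * (i.1 * n) * (k : G)⁻¹
            = ((k : G) * i.1 * (k : G)⁻¹) * ((k : G) * n * (k : G)⁻¹) := by group
          _ = (k : G) * i.1 * (k : G)⁻¹ * n := by rw [hfixn k]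
      rw [e2]
  have hP2 : ∀ i j, (P i ∩ P j).Nonempty → P i = P j := by
    rintro i j ⟨y, hyi, hyj⟩
    have hij : i.1 = j.1 ∨ i.1 = j.1 * n := by
      rcases hyi with hi | hi <;> rcases hyj with hj | hj
      · left; exact regular_inj N x (hreg x) i.2.1 j.2.1 (hi.symm.trans hj)
      · right; exact regular_inj N x (hreg x) i.2.1 (N.mul_mem j.2.1 hn) (hi.symm.trans hj)
      · right
        have := regular_inj N x (hreg x) (N.mul_mem i.2.1 hn) j.2.1 (hi.symm.trans hj)
        rw [← this, mul_assoc]
        have hnn : n * n = 1 := by rw [← sq]; exact hexp n hn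
        rw [hnn, mul_one]
      · left
        have := regular_inj N x (hreg x) (N.mul_mem i.2.1 hn) (N.mul_mem j.2.1 hn)
          (hi.symm.trans hj)
        exact mul_right_cancel this
    ext z
    show ((z : X) = i.1 • x ∨ (z : X) = (i.1 * n) • x) ↔
      ((z : X) = j.1 • x ∨ (z : X) = (j.1 * n) • x)
    rcases hij with h | h
    · rw [h]
    · have hnn : n * n = 1 := by rw [← sq]; exact hexp n hn
      rw [h, mul_assoc, hnn, mul_one]; exact or_comm
  have hblock := isBlock_of_family P hP1 hP2 ⟨m, hm, hm1, hmn⟩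
  have hone : ∀ a : G, a ∈ N → a • x = x → a = 1 := by
    intro a ha h
    have : a • x = (1 : G) • x := by rw [h, one_smul]
    exact regular_inj N x (hreg x) ha N.one_mem this
  have hmx : m • x ∉ ({x, n • x} : Set X) := by
    intro h
    rcases h with h | h
    · exact hm1 (hone m hm h)
    · exact hmn (regular_inj N x (hreg x) hm hn h)
  have hmnx : (m * n) • x ∉ ({x, n • x} : Set X) := by
    intro h
    rcases h with h | h
    · have := hone (m * n) (N.mul_mem hm hn) h
      apply hmn
      rw [← hninv]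
      exact eq_inv_of_mul_eq_one_left this
    · have := regular_inj N x (hreg x) (N.mul_mem hm hn) hn h
      apply hm1
      exact mul_eq_right.1 this
  let y₁ : SubMulAction.ofFixingSubgroup G ({x, n • x} : Set X) := ⟨m • x, hmx⟩
  let y₂ : SubMulAction.ofFixingSubgroup G ({x, n • x} : Set X) := ⟨(m * n) • x, hmnx⟩
  have hy₁ : y₁ ∈ P ⟨m, hm, hm1, hmn⟩ := Or.inl rfl
  have hy₂ : y₂ ∈ P ⟨m, hm, hm1, hmn⟩ := Or.inr rfl
  have hne : m • x ≠ (m * n) • x := by
    intro h
    have := regular_inj N x (hreg x) hm (N.mul_mem hm hn) h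
    apply hn1
    exact (mul_eq_left.1 this.symm)
  rcases hprim.isTrivialBlock_of_isBlock hblock with hsub | huniv
  · have := hsub hy₁ hy₂
    exact absurd (congrArg Subtype.val this) hne
  · have huniv' : (Finset.univ : Finset X) = {x, n • x, m • x, (m * n) • x} := by
      ext z
      simp only [Finset.mem_univ, Finset.mem_insert, Finset.mem_singleton, true_iff]
      by_cases hz : z = x
      · left; exact hz
      by_cases hz' : z = n • x
      · right; left; exact hz'
      · right; right
        have hzmem : z ∈ SubMulAction.ofFixingSubgroup G ({x, n • x} : Set X) := by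
          rw [SubMulAction.mem_ofFixingSubgroup_iff]
          intro h
          rcases h with h | h
          · exact hz h
          · exact hz' h
        have : (⟨z, hzmem⟩ : SubMulAction.ofFixingSubgroup G ({x, n • x} : Set X)) ∈
            P ⟨m, hm, hm1, hmn⟩ := by
          rw [huniv]; exact Set.mem_univ _
        exact this
    rw [← Finset.card_univ, huniv']
    have hxm : x ≠ m • x := fun h => hmx (Or.inl h.symm)
    have hxmn : x ≠ (m * n) • x := fun h => hmnx (Or.inl h.symm)
    have hnm : n • x ≠ m • x := fun h => hmx (Or.inr h.symm)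
    have hnmn : n • x ≠ (m * n) • x := fun h => hmnx (Or.inr h.symm)
    rw [Finset.card_insert_of_notMem, Finset.card_insert_of_notMem,
      Finset.card_insert_of_notMem, Finset.card_singleton]
    · simpa using hne
    · simp only [Finset.mem_insert, Finset.mem_singleton, not_or]
      exact ⟨hnm, hnmn⟩
    · simp only [Finset.mem_insert, Finset.mem_singleton, not_or]
      exact ⟨hxn, hxm, hxmn⟩

end

end Cfsg.Agent.Helper4
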