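import Mathlib
import Cfsg.Prelude.Def_PLocal
import Cfsg.Agent.Helper1.RegularP

set_option autoImplicit false

namespace Cfsg.Agent.Helper4

open Cfsg.Agent.Helper1

universe u

/-- regularity passes to subgroups -/
theorem isRegularPGroup_subgroup {G : Type u} [Group G] {p : ℕ} [Fact p.Prime]
    (hG : Cfsg.IsRegularPGroup p G) (H : Subgroup G) : Cfsg.IsRegularPGroup p H := by
  refine ⟨hG.1.to_subgroup H, ?_⟩
  intro a b n
  obtain ⟨c, hc, hab⟩ := hG.2 (a : G) (b : G) n
  have hcl : Subgroup.closure ({(a : G), (b : G)} : Set G) =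
      (Subgroup.closure ({a, b} : Set H)).map H.subtype := by
    rw [MonoidHom.map_closure, Set.image_pair]
    rfl
  rw [hcl, ← Subgroup.map_commutator, ← map_powerClosure] at hc
  obtain ⟨c', hc', hcc'⟩ := hc
  refine ⟨c', hc', ?_⟩
  apply Subtype.ext
  rw [Subgroup.coe_mul, Subgroup.coe_mul, Subgroup.coe_pow, Subgroup.coe_pow, Subgroup.coe_pow,
    Subgroup.coe_mul]
  rw [hab, ← hcc']
  rfl

/-- the key property of regular `p`-groups -/
def PowEqIff (p : ℕ) (G : Type*) [Group G] : Prop :=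
  ∀ (k : ℕ) (a b : G), a ^ p ^ k = b ^ p ^ k ↔ (a * b⁻¹) ^ p ^ k = 1

/-- if the derived subgroup has exponent dividing `p^k` then `p^k`-th powers are multiplicative -/
theorem mul_pow_of_commutator_exponent {G : Type u} [Group G] {p : ℕ} [Fact p.Prime]
    (hG : Cfsg.IsRegularPGroup p G) (k : ℕ) (hexp : ∀ g ∈ commutator G, g ^ p ^ k = 1) (a b : G) :
    (a * b) ^ p ^ k = a ^ p ^ k * b ^ p ^ k := by
  obtain ⟨c, hc, hab⟩ := hG.2 a b k
  have hle : Cfsg.powerClosure p k ⁅Subgroup.closure ({a, b} : Set G),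
      Subgroup.closure ({a, b} : Set G)⁆ ≤ ⊥ := by
    unfold Cfsg.powerClosure
    rw [Subgroup.closure_le]
    rintro y ⟨x, hx, rfl⟩
    have hx' : x ∈ commutator G := by
      rw [commutator_def]
      exact Subgroup.commutator_mono le_top le_top hx
    show x ^ p ^ k ∈ (⊥ : Subgroup G)
    rw [Subgroup.mem_bot]
    exact hexp x hx'
  have hc1 : c = 1 := by
    have := hle hc
    rwa [Subgroup.mem_bot] at this
  rw [hab, hc1, mul_one]

end Cfsg.Agent.Helper4
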