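import Mathlib
import Cfsg.Agent.Helper4.RegularPA

set_option autoImplicit false

namespace Cfsg.Agent.Helper4

universe u

open scoped commutatorElement

/-- a group generated by two commuting elements is commutative -/
theorem comm_of_closure_pair_eq_top {Q : Type*} [Group Q] (u v : Q) (huv : u * v = v * u)
    (h : Subgroup.closure ({u, v} : Set Q) = ⊤) : ∀ g h : Q, g * h = h * g := by
  have hu : u ∈ Subgroup.center Q := by
    have hle : Subgroup.closure ({u, v} : Set Q) ≤ Subgroup.centralizer ({u} : Set Q) := by
      rw [Subgroup.closure_le]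
      rintro g (rfl | rfl)
      · show g ∈ Subgroup.centralizer ({g} : Set Q)
        rw [Subgroup.mem_centralizer_iff]
        intro h hh
        rw [Set.mem_singleton_iff] at hh
        rw [hh]
      · show g ∈ Subgroup.centralizer ({u} : Set Q)
        rw [Subgroup.mem_centralizer_iff]
        intro h hh
        rw [Set.mem_singleton_iff] at hh
        rw [hh]
        exact huv
    rw [h] at hle
    rw [Subgroup.mem_center_iff]
    intro g
    have := hle (Subgroup.mem_top g)
    rw [Subgroup.mem_centralizer_iff] at this
    exact (this u rfl).symm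
  have hv : v ∈ Subgroup.center Q := by
    have hle : Subgroup.closure ({u, v} : Set Q) ≤ Subgroup.centralizer ({v} : Set Q) := by
      rw [Subgroup.closure_le]
      rintro g (rfl | rfl)
      · show g ∈ Subgroup.centralizer ({v} : Set Q)
        rw [Subgroup.mem_centralizer_iff]
        intro h hh
        rw [Set.mem_singleton_iff] at hh
        rw [hh]
        exact huv.symm
      · show g ∈ Subgroup.centralizer ({g} : Set Q)
        rw [Subgroup.mem_centralizer_iff]
        intro h hh
        rw [Set.mem_singleton_iff] at hh
        rw [hh]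
    rw [h] at hle
    rw [Subgroup.mem_center_iff]
    intro g
    have := hle (Subgroup.mem_top g)
    rw [Subgroup.mem_centralizer_iff] at this
    exact (this v rfl).symm
  have hcen : Subgroup.closure ({u, v} : Set Q) ≤ Subgroup.center Q := by
    rw [Subgroup.closure_le]
    rintro g (rfl | rfl)
    · exact hu
    · exact hv
  rw [h] at hcen
  intro g k
  exact (Subgroup.mem_center_iff.1 (hcen (Subgroup.mem_top k)) g)

/-- the derived subgroup of a 2-generated group is the normal closure of one commutator -/
theorem commutator_le_normalClosure_of_closure_eq_top {G : Type*} [Group G] (x z : G)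
    (hxz : Subgroup.closure ({x, z} : Set G) = ⊤) :
    commutator G ≤ Subgroup.normalClosure {⁅x, z⁆} := by
  obtain ⟨N, hN⟩ : ∃ N : Subgroup G, N = Subgroup.normalClosure {⁅x, z⁆} := ⟨_, rfl⟩
  haveI hNn : N.Normal := by rw [hN]; exact Subgroup.normalClosure_normal
  have hw : ⁅x, z⁆ ∈ N := by rw [hN]; exact Subgroup.subset_normalClosure rfl
  have huv : (QuotientGroup.mk' N x) * (QuotientGroup.mk' N z) =
      (QuotientGroup.mk' N z) * (QuotientGroup.mk' N x) := by
    have h1 : QuotientGroup.mk' N ⁅x, z⁆ = 1 := (QuotientGroup.eq_one_iff _).2 hw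
    rw [map_commutatorElement, commutatorElement_eq_one_iff_mul_comm] at h1
    exact h1
  have hcl : Subgroup.closure ({QuotientGroup.mk' N x, QuotientGroup.mk' N z} : Set (G ⧸ N)) = ⊤ := by
    rw [← Set.image_pair, ← MonoidHom.map_closure, hxz, ← MonoidHom.range_eq_map,
      MonoidHom.range_eq_top]
    exact QuotientGroup.mk'_surjective N
  have hcomm := comm_of_closure_pair_eq_top _ _ huv hcl
  rw [← hN, commutator_def, Subgroup.commutator_le]
  intro g _ h _
  rw [← QuotientGroup.eq_one_iff, ← QuotientGroup.mk'_apply, map_commutatorElement,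
    commutatorElement_eq_one_iff_mul_comm]
  exact hcomm _ _

end Cfsg.Agent.Helper4
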