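import Mathlib
import Cfsg.Agent.Helper4.RegularPB

set_option autoImplicit false

namespace Cfsg.Agent.Helper4

universe u

open scoped commutatorElement

/-- exponent of the derived subgroup in the inductive step -/
theorem commutator_exponent_of_step {G : Type u} [Group G] [Finite G] {p : ℕ} [hp : Fact p.Prime]
    (hG : Cfsg.IsRegularPGroup p G) (ih : ∀ H : Subgroup G, H ≠ ⊤ → PowEqIff p H)
    (k : ℕ) (x z : G) (hxz : Subgroup.closure ({x, z} : Set G) = ⊤)
    (hpow : x ^ p ^ k = (z * x * z⁻¹) ^ p ^ k) :
    ∀ g ∈ commutator G, g ^ p ^ k = 1 := by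
  by_cases hcyc : Subgroup.zpowers x = ⊤
  · -- abelian
    have hbot : commutator G ≤ ⊥ := by
      rw [commutator_def, Subgroup.commutator_le]
      intro g₁ _ g₂ _
      have h1 : g₁ ∈ Subgroup.zpowers x := hcyc ▸ Subgroup.mem_top g₁
      have h2 : g₂ ∈ Subgroup.zpowers x := hcyc ▸ Subgroup.mem_top g₂
      obtain ⟨i, rfl⟩ := Subgroup.mem_zpowers_iff.1 h1
      obtain ⟨j, rfl⟩ := Subgroup.mem_zpowers_iff.1 h2
      rw [Subgroup.mem_bot, commutatorElement_eq_one_iff_commute]
      exact ((Commute.refl x).zpow_left i).zpow_right j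
    intro g hg
    have := hbot hg
    rw [Subgroup.mem_bot] at this
    rw [this, one_pow]
  · obtain ⟨M, hMco, hxM⟩ := (IsCoatomic.eq_top_or_exists_le_coatom (Subgroup.zpowers x)).resolve_left hcyc
    have hnil : Group.IsNilpotent G := hG.1.isNilpotent
    have htf := ((Group.isNilpotent_of_finite_tfae (G := G)).out 0 2).1 hnil
    have hMn : M.Normal := htf M hMco
    have hxM' : x ∈ M := hxM (Subgroup.mem_zpowers x)
    have hcM : z * x * z⁻¹ ∈ M := hMn.conj_mem x hxM' z
    have h1 := (ih M hMco.1 k ⟨x, hxM'⟩ ⟨z * x * z⁻¹, hcM⟩).1 (by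
      apply Subtype.ext
      rw [Subgroup.coe_pow, Subgroup.coe_pow]
      exact hpow)
    have h2 : (x * (z * x * z⁻¹)⁻¹) ^ p ^ k = 1 := by
      have := congrArg Subtype.val h1
      simpa using this
    have hw : ⁅x, z⁆ ^ p ^ k = 1 := by
      have : ⁅x, z⁆ = x * (z * x * z⁻¹)⁻¹ := by
        rw [commutatorElement_def]; group
      rw [this]; exact h2
    haveI : Nontrivial G := by
      by_contra hnt
      rw [not_nontrivial_iff_subsingleton] at hnt
      exact hcyc (Subsingleton.elim _ _)
    haveI : Group.IsSolvable G := inferInstance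
    have hD : commutator G ≠ ⊤ := (Group.IsSolvable.commutator_lt_top_of_nontrivial G).ne
    have ihD := ih (commutator G) hD k
    let S : Subgroup G :=
      { carrier := {g | g ∈ commutator G ∧ g ^ p ^ k = 1}
        mul_mem' := by
          rintro g h ⟨hg, hg1⟩ ⟨hh, hh1⟩
          refine ⟨Subgroup.mul_mem _ hg hh, ?_⟩
          have h3 := (ihD ⟨g, hg⟩ ⟨h⁻¹, Subgroup.inv_mem _ hh⟩).1 (by
            apply Subtype.ext
            rw [Subgroup.coe_pow, Subgroup.coe_pow]
            show g ^ p ^ k = (h⁻¹) ^ p ^ k
            rw [hg1, inv_pow, hh1, inv_one])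
          have := congrArg Subtype.val h3
          simpa using this
        one_mem' := ⟨Subgroup.one_mem _, one_pow _⟩
        inv_mem' := by
          rintro g ⟨hg, hg1⟩
          exact ⟨Subgroup.inv_mem _ hg, by rw [inv_pow, hg1, inv_one]⟩ }
    have hle : Subgroup.normalClosure {⁅x, z⁆} ≤ S := by
      unfold Subgroup.normalClosure
      rw [Subgroup.closure_le]
      intro g hg
      rw [Group.mem_conjugatesOfSet_iff] at hg
      obtain ⟨b, hb, hconj⟩ := hg
      rw [Set.mem_singleton_iff] at hb
      rw [isConj_iff] at hconj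
      obtain ⟨c, rfl⟩ := hconj
      have hbD : b ∈ commutator G := by
        rw [hb, commutator_def]
        exact Subgroup.commutator_mem_commutator (Subgroup.mem_top x) (Subgroup.mem_top z)
      have hDn : (commutator G).Normal := inferInstance
      refine ⟨hDn.conj_mem b hbD c, ?_⟩
      rw [conj_pow, hb, hw, mul_one, mul_inv_cancel]
    intro g hg
    exact (hle (commutator_le_normalClosure_of_closure_eq_top x z hxz hg)).2

/-- the inductive step -/
theorem powEqIff_step {G : Type u} [Group G] [Finite G] {p : ℕ} [hp : Fact p.Prime]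
    (hG : Cfsg.IsRegularPGroup p G) (ih : ∀ H : Subgroup G, H ≠ ⊤ → PowEqIff p H) :
    PowEqIff p G := by
  intro k a b
  by_cases hab : Subgroup.closure ({a, b} : Set G) = ⊤
  · constructor
    · intro h
      have hexp := commutator_exponent_of_step hG ih k a b hab (by
        rw [conj_pow, h, ← pow_succ', pow_succ, mul_inv_cancel_right])
      rw [mul_pow_of_commutator_exponent hG k hexp a b⁻¹, inv_pow, h, mul_inv_cancel]
    · intro h
      have hcl : Subgroup.closure ({a * b⁻¹, b} : Set G) = ⊤ := by
        rw [eq_top_iff, ← hab, Subgroup.closure_le]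
        rintro g (rfl | rfl)
        · have h1 : g * b⁻¹ ∈ Subgroup.closure ({g * b⁻¹, b} : Set G) :=
            Subgroup.subset_closure (by simp)
          have h2 : b ∈ Subgroup.closure ({g * b⁻¹, b} : Set G) :=
            Subgroup.subset_closure (by simp)
          have := Subgroup.mul_mem _ h1 h2
          rwa [inv_mul_cancel_right] at this
        · exact Subgroup.subset_closure (by simp)
      have hexp := commutator_exponent_of_step hG ih k (a * b⁻¹) b hcl (by
        rw [conj_pow, h, mul_one, mul_inv_cancel])
      have := mul_pow_of_commutator_exponent hG k hexp (a * b⁻¹) b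
      rw [inv_mul_cancel_right, h, one_mul] at this
      exact this
  · have haH : a ∈ Subgroup.closure ({a, b} : Set G) := Subgroup.subset_closure (by simp)
    have hbH : b ∈ Subgroup.closure ({a, b} : Set G) := Subgroup.subset_closure (by simp)
    have h1 := ih _ hab k ⟨a, haH⟩ ⟨b, hbH⟩
    constructor
    · intro h
      have := h1.1 (Subtype.ext (by rw [Subgroup.coe_pow, Subgroup.coe_pow]; exact h))
      have h2 := congrArg Subtype.val this
      simpa using h2
    · intro h
      have := h1.2 (Subtype.ext (by
        rw [Subgroup.coe_pow, Subgroup.coe_mul, Subgroup.coe_inv]; exact h))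
      have h2 := congrArg Subtype.val this
      simpa using h2

theorem powEqIff_aux {p : ℕ} [hp : Fact p.Prime] :
    ∀ n : ℕ, ∀ (G : Type u) [Group G] [Finite G], Nat.card G = n → Cfsg.IsRegularPGroup p G →
      PowEqIff p G := by
  intro n
  induction n using Nat.strong_induction_on with
  | _ n ih =>
    intro G _ _ hn hG
    apply powEqIff_step hG
    intro H hH
    apply ih (Nat.card H) _ H rfl (isRegularPGroup_subgroup hG H)
    rw [← hn]
    have hidx : H.index ≠ 1 := fun h => hH (Subgroup.index_eq_one.1 h)
    have hpos : H.index ≠ 0 := Subgroup.index_ne_zero_of_finite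
    have e := Subgroup.card_mul_index H
    have hcp : 0 < Nat.card H := Nat.card_pos
    have h2le : 2 ≤ H.index := by omega
    nlinarith

/-- Hall: in a regular `p`-group `a^q = b^q ↔ (ab⁻¹)^q = 1` for `q = p^k` -/
theorem powEqIff_of_isRegularPGroup {G : Type u} [Group G] [Finite G] {p : ℕ} [hp : Fact p.Prime]
    (hG : Cfsg.IsRegularPGroup p G) : PowEqIff p G :=
  powEqIff_aux _ G rfl hG

end Cfsg.Agent.Helper4
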