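import Mathlib
import Cfsg.Agent.Helper4.RegularPC

set_option autoImplicit false

namespace Cfsg.Agent.Helper4

open Cfsg.Agent.Helper1

universe u

open scoped commutatorElement

/-- products of `p^n`-th powers are `p^n`-th powers -/
def PowSubgroup (p : ℕ) (X : Type*) [Group X] : Prop :=
  ∀ (n : ℕ) (a b : X), ∃ e : X, a ^ p ^ n * b ^ p ^ n = e ^ p ^ n

/-- if powers in `K` are closed under products, `℧_n(K)` consists of powers -/
theorem exists_pow_of_mem_powerClosure {X : Type u} [Group X] {p : ℕ} (K : Subgroup X)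
    (hK : PowSubgroup p K) (n : ℕ) (y : X) (hy : y ∈ Cfsg.powerClosure p n K) :
    ∃ x ∈ K, y = x ^ p ^ n := by
  unfold Cfsg.powerClosure at hy
  induction hy using Subgroup.closure_induction with
  | mem g hg => exact hg
  | one => exact ⟨1, K.one_mem, (one_pow _).symm⟩
  | mul g₁ g₂ _ _ ih₁ ih₂ =>
    obtain ⟨x₁, hx₁, rfl⟩ := ih₁
    obtain ⟨x₂, hx₂, rfl⟩ := ih₂
    obtain ⟨e, he⟩ := hK n ⟨x₁, hx₁⟩ ⟨x₂, hx₂⟩
    refine ⟨e, e.2, ?_⟩
    have := congrArg Subtype.val he
    simpa using this
  | inv g _ ih =>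
    obtain ⟨x, hx, rfl⟩ := ih
    exact ⟨x⁻¹, K.inv_mem hx, by rw [inv_pow]⟩

/-- the derived subgroup lies in every normal maximal subgroup of a solvable group -/
theorem commutator_le_of_normal_coatom {X : Type u} [Group X] [Group.IsSolvable X]
    (M : Subgroup X) [hMn : M.Normal] (hM : IsCoatom M) : commutator X ≤ M := by
  by_contra hle
  have hlt : M < M ⊔ commutator X := by
    apply lt_of_le_of_ne le_sup_left
    intro h
    apply hle
    rw [h]
    exact le_sup_right
  have htop : M ⊔ commutator X = ⊤ := hM.2 _ hlt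
  haveI : Nontrivial (X ⧸ M) := by
    rw [QuotientGroup.nontrivial_iff]
    exact hM.1
  have h1 : (commutator X).map (QuotientGroup.mk' M) = ⊤ := by
    have h2 : (M ⊔ commutator X).map (QuotientGroup.mk' M) = ⊤ := by
      rw [htop, ← MonoidHom.range_eq_map, MonoidHom.range_eq_top]
      exact QuotientGroup.mk'_surjective M
    rw [Subgroup.map_sup, QuotientGroup.map_mk'_self, bot_sup_eq] at h2
    exact h2
  have h3 : (commutator X).map (QuotientGroup.mk' M) = commutator (X ⧸ M) := by
    rw [commutator_def, commutator_def, Subgroup.map_commutator, ← MonoidHom.range_eq_map,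
      MonoidHom.range_eq_top.2 (QuotientGroup.mk'_surjective M)]
  rw [h3] at h1
  exact (Group.IsSolvable.commutator_lt_top_of_nontrivial (X ⧸ M)).ne h1

theorem powSubgroup_step {X : Type u} [Group X] [Finite X] {p : ℕ} [hp : Fact p.Prime]
    (hX : Cfsg.IsRegularPGroup p X) (ih : ∀ K : Subgroup X, K ≠ ⊤ → PowSubgroup p K) :
    PowSubgroup p X := by
  intro n a b
  by_cases hcyc : Subgroup.zpowers (a * b) = ⊤
  · -- abelian
    have ha : a ∈ Subgroup.zpowers (a * b) := hcyc ▸ Subgroup.mem_top a
    have hb : b ∈ Subgroup.zpowers (a * b) := hcyc ▸ Subgroup.mem_top b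
    obtain ⟨i, hi⟩ := Subgroup.mem_zpowers_iff.1 ha
    obtain ⟨j, hj⟩ := Subgroup.mem_zpowers_iff.1 hb
    have hcomm : Commute a b := by
      have h0 : Commute ((a * b) ^ i) ((a * b) ^ j) :=
        ((Commute.refl (a * b)).zpow_left i).zpow_right j
      rw [hi, hj] at h0
      exact h0
    exact ⟨a * b, (hcomm.mul_pow _).symm⟩
  · obtain ⟨M, hMco, habM⟩ :=
      (IsCoatomic.eq_top_or_exists_le_coatom (Subgroup.zpowers (a * b))).resolve_left hcyc
    have hnil : Group.IsNilpotent X := hX.1.isNilpotent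
    have htf := ((Group.isNilpotent_of_finite_tfae (G := X)).out 0 2).1 hnil
    haveI hMn : M.Normal := htf M hMco
    haveI : Group.IsSolvable X := inferInstance
    have hDM : commutator X ≤ M := commutator_le_of_normal_coatom M hMco
    have habM' : a * b ∈ M := habM (Subgroup.mem_zpowers _)
    obtain ⟨c, hc, hab⟩ := hX.2 a b n
    have hcM : c ∈ Cfsg.powerClosure p n M := by
      refine powerClosure_mono p n ?_ hc
      refine le_trans ?_ hDM
      rw [commutator_def]
      exact Subgroup.commutator_mono le_top le_top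
    obtain ⟨d, hdM, hcd⟩ := exists_pow_of_mem_powerClosure M (ih M hMco.1) n c hcM
    obtain ⟨e, he⟩ := ih M hMco.1 n ⟨a * b, habM'⟩ ⟨d⁻¹, M.inv_mem hdM⟩
    refine ⟨e, ?_⟩
    have h1 := congrArg Subtype.val he
    rw [Subgroup.coe_mul, Subgroup.coe_pow, Subgroup.coe_pow, Subgroup.coe_pow] at h1
    rw [← h1]
    show a ^ p ^ n * b ^ p ^ n = (a * b) ^ p ^ n * (d⁻¹) ^ p ^ n
    rw [hab, hcd, inv_pow, mul_inv_cancel_right]

theorem powSubgroup_aux {p : ℕ} [hp : Fact p.Prime] :
    ∀ m : ℕ, ∀ (X : Type u) [Group X] [Finite X], Nat.card X = m → Cfsg.IsRegularPGroup p X →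
      PowSubgroup p X := by
  intro m
  induction m using Nat.strong_induction_on with
  | _ m ih =>
    intro X _ _ hm hX
    apply powSubgroup_step hX
    intro H hH
    apply ih (Nat.card H) _ H rfl (isRegularPGroup_subgroup hX H)
    rw [← hm]
    have hidx : H.index ≠ 1 := fun h => hH (Subgroup.index_eq_one.1 h)
    have hpos : H.index ≠ 0 := Subgroup.index_ne_zero_of_finite
    have e := Subgroup.card_mul_index H
    have hcp : 0 < Nat.card H := Nat.card_pos
    have h2le : 2 ≤ H.index := by omega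
    nlinarith

/-- Hall: in a regular `p`-group the `p^n`-th powers form a subgroup -/
theorem powSubgroup_of_isRegularPGroup {X : Type u} [Group X] [Finite X] {p : ℕ}
    [hp : Fact p.Prime] (hX : Cfsg.IsRegularPGroup p X) : PowSubgroup p X :=
  powSubgroup_aux _ X rfl hX

/-- `℧_n(H)` is the set of `p^n`-th powers of elements of `H` -/
theorem powers_eq_powerClosure {G : Type u} [Group G] [Finite G] {p : ℕ} [hp : Fact p.Prime]
    (hG : Cfsg.IsRegularPGroup p G) (H : Subgroup G) (n : ℕ) :
    {y : G | ∃ x ∈ H, y = x ^ (p ^ n)} = (Cfsg.powerClosure p n H : Set G) := by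
  apply Set.Subset.antisymm
  · intro y hy
    exact Subgroup.subset_closure hy
  · intro y hy
    exact exists_pow_of_mem_powerClosure H
      (powSubgroup_of_isRegularPGroup (isRegularPGroup_subgroup hG H)) n y hy

end Cfsg.Agent.Helper4
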