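import Mathlib
import Cfsg.Agent.Helper4.RegularPD

set_option autoImplicit false

namespace Cfsg.Agent.Helper4

open Cfsg.Agent.Helper1

universe u

open scoped commutatorElement

/-- `℧_n` of a normal subgroup is normal -/
theorem powerClosure_normal {X : Type u} [Group X] (p n : ℕ) (K : Subgroup X) [hK : K.Normal] :
    (Cfsg.powerClosure p n K).Normal := by
  constructor
  intro y hy g
  unfold Cfsg.powerClosure at hy ⊢
  induction hy using Subgroup.closure_induction with
  | mem y hy =>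
    obtain ⟨x, hx, rfl⟩ := hy
    apply Subgroup.subset_closure
    exact ⟨g * x * g⁻¹, hK.conj_mem x hx g, by rw [conj_pow]⟩
  | one => rw [mul_one, mul_inv_cancel]; exact Subgroup.one_mem _
  | mul y₁ y₂ _ _ ih₁ ih₂ =>
    have : g * (y₁ * y₂) * g⁻¹ = (g * y₁ * g⁻¹) * (g * y₂ * g⁻¹) := by group
    rw [this]
    exact Subgroup.mul_mem _ ih₁ ih₂
  | inv y _ ih =>
    have : g * y⁻¹ * g⁻¹ = (g * y * g⁻¹)⁻¹ := by group
    rw [this]
    exact Subgroup.inv_mem _ ih

/-- in a regular `p`-group, `p^n`-th powers commute modulo `℧_n` of the derived subgroup -/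
theorem commutator_pow_pow_mem {X : Type u} [Group X] [Finite X] {p : ℕ} [hp : Fact p.Prime]
    (hX : Cfsg.IsRegularPGroup p X) (n : ℕ) (u v : X) :
    ⁅u ^ p ^ n, v ^ p ^ n⁆ ∈ Cfsg.powerClosure p n (commutator X) := by
  obtain ⟨N, hN⟩ : ∃ N : Subgroup X, N = Cfsg.powerClosure p n (commutator X) := ⟨_, rfl⟩
  haveI hNn : N.Normal := by rw [hN]; exact powerClosure_normal p n _
  rw [← hN]
  have hQ : Cfsg.IsRegularPGroup p (X ⧸ N) := isRegularPGroup_quotient hX N
  have hmap : (commutator X).map (QuotientGroup.mk' N) = commutator (X ⧸ N) := by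
    rw [commutator_def, commutator_def, Subgroup.map_commutator, ← MonoidHom.range_eq_map,
      MonoidHom.range_eq_top.2 (QuotientGroup.mk'_surjective N)]
  have hexp : ∀ g ∈ commutator (X ⧸ N), g ^ p ^ n = 1 := by
    intro g hg
    rw [← hmap] at hg
    obtain ⟨d, hd, rfl⟩ := hg
    rw [← map_pow, QuotientGroup.mk'_apply, QuotientGroup.eq_one_iff, hN]
    exact Subgroup.subset_closure ⟨d, hd, rfl⟩
  have hP := powEqIff_of_isRegularPGroup hQ n
  have hcen : ∀ a b : X ⧸ N, b * a ^ p ^ n = a ^ p ^ n * b := by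
    intro a b
    have h1 := (hP (b * a * b⁻¹) a).2 (by
      have hmem : ⁅b, a⁆ ∈ commutator (X ⧸ N) := by
        rw [commutator_def]
        exact Subgroup.commutator_mem_commutator (Subgroup.mem_top b) (Subgroup.mem_top a)
      have := hexp _ hmem
      rw [commutatorElement_def] at this
      exact this)
    rw [conj_pow] at h1
    calc b * a ^ p ^ n = (b * a ^ p ^ n * b⁻¹) * b := by group
      _ = a ^ p ^ n * b := by rw [h1]
  have h2 := hcen (QuotientGroup.mk' N u) ((QuotientGroup.mk' N v) ^ p ^ n)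
  rw [← QuotientGroup.eq_one_iff, ← QuotientGroup.mk'_apply, map_commutatorElement,
    commutatorElement_eq_one_iff_mul_comm, map_pow, map_pow]
  exact h2.symm

/-- `[℧_n(H), ℧_n(H)] ≤ ℧_n(H')` in a regular `p`-group -/
theorem commutator_powerClosure_le {G : Type u} [Group G] [Finite G] {p : ℕ} [hp : Fact p.Prime]
    (hG : Cfsg.IsRegularPGroup p G) (H : Subgroup G) (n : ℕ) :
    ⁅Cfsg.powerClosure p n H, Cfsg.powerClosure p n H⁆ ≤ Cfsg.powerClosure p n ⁅H, H⁆ := by
  have hH := isRegularPGroup_subgroup hG H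
  rw [Subgroup.commutator_le]
  intro y₁ hy₁ y₂ hy₂
  have hpow := powers_eq_powerClosure hG H n
  have h1 : y₁ ∈ {y : G | ∃ x ∈ H, y = x ^ (p ^ n)} := by rw [hpow]; exact hy₁
  have h2 : y₂ ∈ {y : G | ∃ x ∈ H, y = x ^ (p ^ n)} := by rw [hpow]; exact hy₂
  obtain ⟨x₁, hx₁, rfl⟩ := h1
  obtain ⟨x₂, hx₂, rfl⟩ := h2
  have h3 := commutator_pow_pow_mem hH n ⟨x₁, hx₁⟩ ⟨x₂, hx₂⟩
  have h4 := Subgroup.mem_map_of_mem H.subtype h3
  rw [map_powerClosure, commutator_def, Subgroup.map_commutator, ← MonoidHom.range_eq_map,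
    Subgroup.range_subtype] at h4
  rw [map_commutatorElement] at h4
  exact h4

end Cfsg.Agent.Helper4
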