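import Mathlib
import Cfsg.Agent.Helper4.RegularPE

set_option autoImplicit false

namespace Cfsg.Agent.Helper4

universe u

open scoped commutatorElement

/-- the strong regularity identity at level `k` -/
def StrongAt (p k : ℕ) (G : Type*) [Group G] : Prop :=
  ∀ a b : G, ∃ c ∈ Cfsg.powerClosure p k ⁅Subgroup.closure ({a, b} : Set G),
    Subgroup.closure ({a, b} : Set G)⁆, (a * b) ^ (p ^ k) = a ^ (p ^ k) * b ^ (p ^ k) * c

/-- Kemhadze's weak regularity identity -/
def WeakRegular (p : ℕ) (G : Type*) [Group G] : Prop :=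
  ∀ a b : G, ∃ c ∈ ⁅Subgroup.closure ({a, b} : Set G), Subgroup.closure ({a, b} : Set G)⁆,
    (a * b) ^ p = a ^ p * b ^ p * c ^ p

/-- the power property at level `k` -/
def PowEqAt (p k : ℕ) (G : Type*) [Group G] : Prop :=
  ∀ a b : G, a ^ p ^ k = b ^ p ^ k ↔ (a * b⁻¹) ^ p ^ k = 1

theorem mul_pow_of_commutator_exponent_at {G : Type u} [Group G] {p : ℕ}
    (k : ℕ) (hG : StrongAt p k G) (hexp : ∀ g ∈ commutator G, g ^ p ^ k = 1) (a b : G) :
    (a * b) ^ p ^ k = a ^ p ^ k * b ^ p ^ k := by
  obtain ⟨c, hc, hab⟩ := hG a b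
  have hle : Cfsg.powerClosure p k ⁅Subgroup.closure ({a, b} : Set G),
      Subgroup.closure ({a, b} : Set G)⁆ ≤ ⊥ := by
    unfold Cfsg.powerClosure
    rw [Subgroup.closure_le]
    rintro y ⟨x, hx, rfl⟩
    have hx' : x ∈ commutator G := by
      rw [commutator_def]
      exact Subgroup.commutator_mono le_top le_top hx
    show x ^ p ^ k ∈ (⊥ : Subgroup G)
    rw [Subgroup.mem_bot]
    exact hexp x hx'
  have hc1 : c = 1 := by
    have := hle hc
    rwa [Subgroup.mem_bot] at this
  rw [hab, hc1, mul_one]

/-- exponent of the derived subgroup in the inductive step -/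
theorem commutator_exponent_of_step_at {G : Type u} [Group G] [Finite G] {p : ℕ} [hp : Fact p.Prime]
    (hG : IsPGroup p G) (k : ℕ) (ih : ∀ H : Subgroup G, H ≠ ⊤ → PowEqAt p k H)
    (x z : G) (hxz : Subgroup.closure ({x, z} : Set G) = ⊤)
    (hpow : x ^ p ^ k = (z * x * z⁻¹) ^ p ^ k) :
    ∀ g ∈ commutator G, g ^ p ^ k = 1 := by
  by_cases hcyc : Subgroup.zpowers x = ⊤
  · -- abelian
    have hbot : commutator G ≤ ⊥ := by
      rw [commutator_def, Subgroup.commutator_le]
      intro g₁ _ g₂ _
      have h1 : g₁ ∈ Subgroup.zpowers x := hcyc ▸ Subgroup.mem_top g₁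
      have h2 : g₂ ∈ Subgroup.zpowers x := hcyc ▸ Subgroup.mem_top g₂
      obtain ⟨i, rfl⟩ := Subgroup.mem_zpowers_iff.1 h1
      obtain ⟨j, rfl⟩ := Subgroup.mem_zpowers_iff.1 h2
      rw [Subgroup.mem_bot, commutatorElement_eq_one_iff_commute]
      exact ((Commute.refl x).zpow_left i).zpow_right j
    intro g hg
    have := hbot hg
    rw [Subgroup.mem_bot] at this
    rw [this, one_pow]
  · obtain ⟨M, hMco, hxM⟩ := (IsCoatomic.eq_top_or_exists_le_coatom (Subgroup.zpowers x)).resolve_left hcyc
    have hnil : Group.IsNilpotent G := hG.isNilpotent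
    have htf := ((Group.isNilpotent_of_finite_tfae (G := G)).out 0 2).1 hnil
    have hMn : M.Normal := htf M hMco
    have hxM' : x ∈ M := hxM (Subgroup.mem_zpowers x)
    have hcM : z * x * z⁻¹ ∈ M := hMn.conj_mem x hxM' z
    have h1 := (ih M hMco.1 ⟨x, hxM'⟩ ⟨z * x * z⁻¹, hcM⟩).1 (by
      apply Subtype.ext
      rw [Subgroup.coe_pow, Subgroup.coe_pow]
      exact hpow)
    have h2 : (x * (z * x * z⁻¹)⁻¹) ^ p ^ k = 1 := by
      have := congrArg Subtype.val h1
      simpa using this
    have hw : ⁅x, z⁆ ^ p ^ k = 1 := by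
      have : ⁅x, z⁆ = x * (z * x * z⁻¹)⁻¹ := by
        rw [commutatorElement_def]; group
      rw [this]; exact h2
    haveI : Nontrivial G := by
      by_contra hnt
      rw [not_nontrivial_iff_subsingleton] at hnt
      exact hcyc (Subsingleton.elim _ _)
    haveI : Group.IsSolvable G := inferInstance
    have hD : commutator G ≠ ⊤ := (Group.IsSolvable.commutator_lt_top_of_nontrivial G).ne
    have ihD := ih (commutator G) hD
    let S : Subgroup G :=
      { carrier := {g | g ∈ commutator G ∧ g ^ p ^ k = 1}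
        mul_mem' := by
          rintro g h ⟨hg, hg1⟩ ⟨hh, hh1⟩
          refine ⟨Subgroup.mul_mem _ hg hh, ?_⟩
          have h3 := (ihD ⟨g, hg⟩ ⟨h⁻¹, Subgroup.inv_mem _ hh⟩).1 (by
            apply Subtype.ext
            rw [Subgroup.coe_pow, Subgroup.coe_pow]
            show g ^ p ^ k = (h⁻¹) ^ p ^ k
            rw [hg1, inv_pow, hh1, inv_one])
          have := congrArg Subtype.val h3
          simpa using this
        one_mem' := ⟨Subgroup.one_mem _, one_pow _⟩
        inv_mem' := by
          rintro g ⟨hg, hg1⟩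
          exact ⟨Subgroup.inv_mem _ hg, by rw [inv_pow, hg1, inv_one]⟩ }
    have hle : Subgroup.normalClosure {⁅x, z⁆} ≤ S := by
      unfold Subgroup.normalClosure
      rw [Subgroup.closure_le]
      intro g hg
      rw [Group.mem_conjugatesOfSet_iff] at hg
      obtain ⟨b, hb, hconj⟩ := hg
      rw [Set.mem_singleton_iff] at hb
      rw [isConj_iff] at hconj
      obtain ⟨c, rfl⟩ := hconj
      have hbD : b ∈ commutator G := by
        rw [hb, commutator_def]
        exact Subgroup.commutator_mem_commutator (Subgroup.mem_top x) (Subgroup.mem_top z)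
      have hDn : (commutator G).Normal := inferInstance
      refine ⟨hDn.conj_mem b hbD c, ?_⟩
      rw [conj_pow, hb, hw, mul_one, mul_inv_cancel]
    intro g hg
    exact (hle (commutator_le_normalClosure_of_closure_eq_top x z hxz hg)).2

/-- the inductive step -/
theorem powEqAt_step {G : Type u} [Group G] [Finite G] {p : ℕ} [hp : Fact p.Prime]
    (hG : IsPGroup p G) (k : ℕ) (hS : StrongAt p k G)
    (ih : ∀ H : Subgroup G, H ≠ ⊤ → PowEqAt p k H) :
    PowEqAt p k G := by
  intro a b
  by_cases hab : Subgroup.closure ({a, b} : Set G) = ⊤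
  · constructor
    · intro h
      have hexp := commutator_exponent_of_step_at hG k ih a b hab (by
        rw [conj_pow, h, ← pow_succ', pow_succ, mul_inv_cancel_right])
      rw [mul_pow_of_commutator_exponent_at k hS hexp a b⁻¹, inv_pow, h, mul_inv_cancel]
    · intro h
      have hcl : Subgroup.closure ({a * b⁻¹, b} : Set G) = ⊤ := by
        rw [eq_top_iff, ← hab, Subgroup.closure_le]
        rintro g (rfl | rfl)
        · have h1 : g * b⁻¹ ∈ Subgroup.closure ({g * b⁻¹, b} : Set G) :=
            Subgroup.subset_closure (by simp)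
          have h2 : b ∈ Subgroup.closure ({g * b⁻¹, b} : Set G) :=
            Subgroup.subset_closure (by simp)
          have := Subgroup.mul_mem _ h1 h2
          rwa [inv_mul_cancel_right] at this
        · exact Subgroup.subset_closure (by simp)
      have hexp := commutator_exponent_of_step_at hG k ih (a * b⁻¹) b hcl (by
        rw [conj_pow, h, mul_one, mul_inv_cancel])
      have := mul_pow_of_commutator_exponent_at k hS hexp (a * b⁻¹) b
      rw [inv_mul_cancel_right, h, one_mul] at this
      exact this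
  · have haH : a ∈ Subgroup.closure ({a, b} : Set G) := Subgroup.subset_closure (by simp)
    have hbH : b ∈ Subgroup.closure ({a, b} : Set G) := Subgroup.subset_closure (by simp)
    have h1 := ih _ hab ⟨a, haH⟩ ⟨b, hbH⟩
    constructor
    · intro h
      have := h1.1 (Subtype.ext (by rw [Subgroup.coe_pow, Subgroup.coe_pow]; exact h))
      have h2 := congrArg Subtype.val this
      simpa using h2
    · intro h
      have := h1.2 (Subtype.ext (by
        rw [Subgroup.coe_pow, Subgroup.coe_mul, Subgroup.coe_inv]; exact h))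
      have h2 := congrArg Subtype.val this
      simpa using h2


end Cfsg.Agent.Helper4
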