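import Mathlib
import Cfsg.Agent.Helper4.RegularPF

set_option autoImplicit false

namespace Cfsg.Agent.Helper4

open Cfsg.Agent.Helper1

universe u

open scoped commutatorElement

theorem closure_pair_coe {G : Type u} [Group G] (H : Subgroup G) (a b : H) :
    Subgroup.closure ({(a : G), (b : G)} : Set G) =
      (Subgroup.closure ({a, b} : Set H)).map H.subtype := by
  rw [MonoidHom.map_closure, Set.image_pair]
  rfl

theorem weakRegular_subgroup {G : Type u} [Group G] {p : ℕ} (h : WeakRegular p G)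
    (H : Subgroup G) : WeakRegular p H := by
  intro a b
  obtain ⟨c, hc, hab⟩ := h (a : G) (b : G)
  rw [closure_pair_coe, ← Subgroup.map_commutator] at hc
  obtain ⟨c', hc', hcc'⟩ := hc
  refine ⟨c', hc', ?_⟩
  apply Subtype.ext
  rw [Subgroup.coe_mul, Subgroup.coe_mul, Subgroup.coe_pow, Subgroup.coe_pow, Subgroup.coe_pow,
    Subgroup.coe_pow, Subgroup.coe_mul]
  rw [hab, ← hcc']
  rfl

theorem weakRegular_quotient {G : Type u} [Group G] {p : ℕ} (h : WeakRegular p G)
    (N : Subgroup G) [N.Normal] : WeakRegular p (G ⧸ N) := by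
  intro a b
  obtain ⟨a, rfl⟩ := QuotientGroup.mk_surjective a
  obtain ⟨b, rfl⟩ := QuotientGroup.mk_surjective b
  obtain ⟨c, hc, hab⟩ := h a b
  refine ⟨QuotientGroup.mk' N c, ?_, ?_⟩
  · have h1 := Subgroup.mem_map_of_mem (QuotientGroup.mk' N) hc
    rw [Subgroup.map_commutator, MonoidHom.map_closure, Set.image_pair] at h1
    exact h1
  · have := congrArg (QuotientGroup.mk' N) hab
    simpa using this

theorem strongAt_quotient {G : Type u} [Group G] {p k : ℕ} (h : StrongAt p k G)
    (N : Subgroup G) [N.Normal] : StrongAt p k (G ⧸ N) := by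
  intro a b
  obtain ⟨a, rfl⟩ := QuotientGroup.mk_surjective a
  obtain ⟨b, rfl⟩ := QuotientGroup.mk_surjective b
  obtain ⟨c, hc, hab⟩ := h a b
  refine ⟨QuotientGroup.mk' N c, ?_, ?_⟩
  · have h1 := Subgroup.mem_map_of_mem (QuotientGroup.mk' N) hc
    rw [map_powerClosure, Subgroup.map_commutator, MonoidHom.map_closure, Set.image_pair] at h1
    exact h1
  · have := congrArg (QuotientGroup.mk' N) hab
    simpa using this

/-- the identity in a subgroup gives the identity in the group -/
theorem strongAt_of_subgroup {G : Type u} [Group G] {p : ℕ} [Fact p.Prime] (H : Subgroup G)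
    (hH : Cfsg.IsRegularPGroup p H) (k : ℕ) (a b : G) (ha : a ∈ H) (hb : b ∈ H) :
    ∃ c ∈ Cfsg.powerClosure p k ⁅Subgroup.closure ({a, b} : Set G),
      Subgroup.closure ({a, b} : Set G)⁆, (a * b) ^ (p ^ k) = a ^ (p ^ k) * b ^ (p ^ k) * c := by
  obtain ⟨c', hc', hab⟩ := hH.2 ⟨a, ha⟩ ⟨b, hb⟩ k
  refine ⟨(c' : G), ?_, ?_⟩
  · have h1 := Subgroup.mem_map_of_mem H.subtype hc'
    rw [map_powerClosure, Subgroup.map_commutator, ← closure_pair_coe] at h1
    exact h1
  · have := congrArg Subtype.val hab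
    simpa using this

/-- commutators of a pair commuting modulo `N` lie in `N` -/
theorem commutator_closure_pair_le {G : Type u} [Group G] (N : Subgroup G) [hN : N.Normal]
    (u v : G)
    (huv : (QuotientGroup.mk' N u) * (QuotientGroup.mk' N v) =
      (QuotientGroup.mk' N v) * (QuotientGroup.mk' N u)) :
    ⁅Subgroup.closure ({u, v} : Set G), Subgroup.closure ({u, v} : Set G)⁆ ≤ N := by
  rw [Subgroup.commutator_le]
  intro g₁ hg₁ g₂ hg₂
  have hcomm : ∀ x ∈ ({QuotientGroup.mk' N u, QuotientGroup.mk' N v} : Set (G ⧸ N)),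
      ∀ y ∈ ({QuotientGroup.mk' N u, QuotientGroup.mk' N v} : Set (G ⧸ N)), x * y = y * x := by
    rintro x (rfl | rfl) y (rfl | rfl)
    · rfl
    · exact huv
    · exact huv.symm
    · rfl
  have hK := Subgroup.isMulCommutative_closure hcomm
  have hm : ∀ g ∈ Subgroup.closure ({u, v} : Set G), QuotientGroup.mk' N g ∈
      Subgroup.closure ({QuotientGroup.mk' N u, QuotientGroup.mk' N v} : Set (G ⧸ N)) := by
    intro g hg
    have := Subgroup.mem_map_of_mem (QuotientGroup.mk' N) hg
    rwa [MonoidHom.map_closure, Set.image_pair] at this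
  have h1 := hK.is_comm.comm ⟨_, hm g₁ hg₁⟩ ⟨_, hm g₂ hg₂⟩
  have h2 : QuotientGroup.mk' N g₁ * QuotientGroup.mk' N g₂ =
      QuotientGroup.mk' N g₂ * QuotientGroup.mk' N g₁ := congrArg Subtype.val h1
  rw [← QuotientGroup.eq_one_iff, ← QuotientGroup.mk'_apply, map_commutatorElement,
    commutatorElement_eq_one_iff_mul_comm]
  exact h2

end Cfsg.Agent.Helper4
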