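import Mathlib
import Cfsg.Agent.Helper4.RegularPG

set_option autoImplicit false

namespace Cfsg.Agent.Helper4

open Cfsg.Agent.Helper1

universe u

open scoped commutatorElement

/-- the main step: from level `n` to level `n + 1` for a 2-generated group -/
theorem strongAt_succ_of_closure_eq_top {G : Type u} [Group G] [Finite G] {p : ℕ}
    [hp : Fact p.Prime] (hG : IsPGroup p G) (hw : WeakRegular p G)
    (ih : ∀ (X : Type u) [Group X] [Finite X], Nat.card X < Nat.card G → IsPGroup p X →
      WeakRegular p X → Cfsg.IsRegularPGroup p X)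
    (n : ℕ) (hn : StrongAt p n G) (a b : G)
    (hL : Subgroup.closure ({a, b} : Set G) = ⊤) :
    ∃ c ∈ Cfsg.powerClosure p (n + 1) ⁅Subgroup.closure ({a, b} : Set G),
      Subgroup.closure ({a, b} : Set G)⁆,
      (a * b) ^ (p ^ (n + 1)) = a ^ (p ^ (n + 1)) * b ^ (p ^ (n + 1)) * c := by
  rw [hL, ← commutator_def]
  by_cases hD : commutator G = ⊤
  · -- trivial group
    haveI : Subsingleton G := by
      by_contra hns
      rw [not_subsingleton_iff_nontrivial] at hns
      haveI := hns
      haveI : Group.IsNilpotent G := hG.isNilpotent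
      haveI : Group.IsSolvable G := inferInstance
      exact (Group.IsSolvable.commutator_lt_top_of_nontrivial G).ne hD
    exact ⟨1, Subgroup.one_mem _, Subsingleton.elim _ _⟩
  · have hcardlt : ∀ K : Subgroup G, K ≠ ⊤ → Nat.card K < Nat.card G := by
      intro K hK
      have hidx : K.index ≠ 1 := fun h => hK (Subgroup.index_eq_one.1 h)
      have hpos : K.index ≠ 0 := Subgroup.index_ne_zero_of_finite
      have e := Subgroup.card_mul_index K
      have hcp : 0 < Nat.card K := Nat.card_pos
      have h2le : 2 ≤ K.index := by omega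
      nlinarith
    have hDreg : Cfsg.IsRegularPGroup p (commutator G) :=
      ih _ (hcardlt _ hD) (hG.to_subgroup _) (weakRegular_subgroup hw _)
    obtain ⟨N, hNdef⟩ : ∃ N : Subgroup G, N = Cfsg.powerClosure p n (commutator G) := ⟨_, rfl⟩
    haveI hNn : N.Normal := by rw [hNdef]; exact powerClosure_normal p n _
    -- F
    have hF : ∀ z ∈ N, z ^ p ∈ Cfsg.powerClosure p (n + 1) (commutator G) := by
      intro z hz
      rw [hNdef] at hz
      obtain ⟨e, he, rfl⟩ := exists_pow_of_mem_powerClosure (commutator G)
        (powSubgroup_of_isRegularPGroup hDreg) n z hz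
      rw [← pow_mul, ← pow_succ]
      exact Subgroup.subset_closure ⟨e, he, rfl⟩
    -- the quotient
    have hQS : StrongAt p n (G ⧸ N) := strongAt_quotient hn N
    have hQp : IsPGroup p (G ⧸ N) := hG.to_quotient N
    have hQw : WeakRegular p (G ⧸ N) := weakRegular_quotient hw N
    have hQcard : Nat.card (G ⧸ N) ≤ Nat.card G :=
      Nat.le_of_dvd Nat.card_pos (Subgroup.card_quotient_dvd_card N)
    have hQsub : ∀ K : Subgroup (G ⧸ N), K ≠ ⊤ → PowEqAt p n K := by
      intro K hK
      have hKlt : Nat.card K < Nat.card (G ⧸ N) := by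
        have hidx : K.index ≠ 1 := fun h => hK (Subgroup.index_eq_one.1 h)
        have hpos : K.index ≠ 0 := Subgroup.index_ne_zero_of_finite
        have e := Subgroup.card_mul_index K
        have hcp : 0 < Nat.card K := Nat.card_pos
        have h2le : 2 ≤ K.index := by omega
        nlinarith
      have hKreg : Cfsg.IsRegularPGroup p K :=
        ih K (lt_of_lt_of_le hKlt hQcard) (hQp.to_subgroup K) (weakRegular_subgroup hQw K)
      exact powEqIff_of_isRegularPGroup hKreg n
    have hQP : PowEqAt p n (G ⧸ N) := powEqAt_step hQp n hQS hQsub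
    have hmap : (commutator G).map (QuotientGroup.mk' N) = commutator (G ⧸ N) := by
      rw [commutator_def, commutator_def, Subgroup.map_commutator, ← MonoidHom.range_eq_map,
        MonoidHom.range_eq_top.2 (QuotientGroup.mk'_surjective N)]
    have hexp : ∀ g ∈ commutator (G ⧸ N), g ^ p ^ n = 1 := by
      intro g hg
      rw [← hmap] at hg
      obtain ⟨d, hd, rfl⟩ := hg
      rw [← map_pow, QuotientGroup.mk'_apply, QuotientGroup.eq_one_iff, hNdef]
      exact Subgroup.subset_closure ⟨d, hd, rfl⟩
    have hcen : ∀ x y : G ⧸ N, y * x ^ p ^ n = x ^ p ^ n * y := by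
      intro x y
      have h1 := (hQP (y * x * y⁻¹) x).2 (by
        have hmem : ⁅y, x⁆ ∈ commutator (G ⧸ N) := by
          rw [commutator_def]
          exact Subgroup.commutator_mem_commutator (Subgroup.mem_top y) (Subgroup.mem_top x)
        have := hexp _ hmem
        rw [commutatorElement_def] at this
        exact this)
      rw [conj_pow] at h1
      calc y * x ^ p ^ n = (y * x ^ p ^ n * y⁻¹) * y := by group
        _ = x ^ p ^ n * y := by rw [h1]
    -- the computation
    obtain ⟨c, hc, hab⟩ := hn a b
    rw [hL, ← commutator_def, ← hNdef] at hc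
    obtain ⟨x, hx⟩ : ∃ x : G, x = a ^ p ^ n := ⟨_, rfl⟩
    obtain ⟨y, hy⟩ : ∃ y : G, y = b ^ p ^ n := ⟨_, rfl⟩
    rw [← hx, ← hy] at hab
    obtain ⟨d₁, hd₁, h1⟩ := hw (x * y) c
    obtain ⟨d₂, hd₂, h2⟩ := hw x y
    have hd₁N : d₁ ∈ N := by
      refine commutator_closure_pair_le N (x * y) c ?_ hd₁
      have : QuotientGroup.mk' N c = 1 := (QuotientGroup.eq_one_iff c).2 hc
      rw [this, mul_one, one_mul]
    have hd₂N : d₂ ∈ N := by
      refine commutator_closure_pair_le N x y ?_ hd₂
      rw [hx, hy, map_pow, map_pow]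
      exact (hcen _ _).symm
    refine ⟨d₂ ^ p * c ^ p * d₁ ^ p, ?_, ?_⟩
    · exact Subgroup.mul_mem _ (Subgroup.mul_mem _ (hF d₂ hd₂N) (hF c hc)) (hF d₁ hd₁N)
    · rw [pow_succ, pow_mul, pow_mul, pow_mul, hab, ← hx, ← hy, h1, h2]
      group

theorem strongAt_of_weak_aux {p : ℕ} [hp : Fact p.Prime] :
    ∀ m : ℕ, ∀ (G : Type u) [Group G] [Finite G], Nat.card G = m → IsPGroup p G →
      WeakRegular p G → Cfsg.IsRegularPGroup p G := by
  intro m
  induction m using Nat.strong_induction_on with
  | _ m ih =>
    intro G _ _ hm hG hw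
    have ih' : ∀ (X : Type u) [Group X] [Finite X], Nat.card X < Nat.card G → IsPGroup p X →
        WeakRegular p X → Cfsg.IsRegularPGroup p X := by
      intro X _ _ hlt hX hXw
      exact ih (Nat.card X) (hm ▸ hlt) X rfl hX hXw
    have hall : ∀ n, StrongAt p n G := by
      intro n
      induction n with
      | zero =>
        intro a b
        exact ⟨1, Subgroup.one_mem _, by simp⟩
      | succ n ihn =>
        intro a b
        by_cases hL : Subgroup.closure ({a, b} : Set G) = ⊤
        · exact strongAt_succ_of_closure_eq_top hG hw ih' n ihn a b hL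
        · have hlt : Nat.card (Subgroup.closure ({a, b} : Set G)) < Nat.card G := by
            have hidx : (Subgroup.closure ({a, b} : Set G)).index ≠ 1 :=
              fun h => hL (Subgroup.index_eq_one.1 h)
            have hpos : (Subgroup.closure ({a, b} : Set G)).index ≠ 0 :=
              Subgroup.index_ne_zero_of_finite
            have e := Subgroup.card_mul_index (Subgroup.closure ({a, b} : Set G))
            have hcp : 0 < Nat.card (Subgroup.closure ({a, b} : Set G)) := Nat.card_pos
            have h2le : 2 ≤ (Subgroup.closure ({a, b} : Set G)).index := by omega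
            nlinarith
          have hLreg := ih' _ hlt (hG.to_subgroup _) (weakRegular_subgroup hw _)
          exact strongAt_of_subgroup _ hLreg (n + 1) a b
            (Subgroup.subset_closure (by simp)) (Subgroup.subset_closure (by simp))
    exact ⟨hG, fun a b n => hall n a b⟩

/-- Kemhadze's criterion, the hard direction -/
theorem isRegularPGroup_of_weakRegular {G : Type u} [Group G] [Finite G] {p : ℕ}
    [hp : Fact p.Prime] (hG : IsPGroup p G) (hw : WeakRegular p G) : Cfsg.IsRegularPGroup p G :=
  strongAt_of_weak_aux _ G rfl hG hw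

/-- Kemhadze's criterion, the easy direction -/
theorem weakRegular_of_isRegularPGroup {G : Type u} [Group G] [Finite G] {p : ℕ}
    [hp : Fact p.Prime] (hG : Cfsg.IsRegularPGroup p G) : WeakRegular p G := by
  intro a b
  obtain ⟨c, hc, hab⟩ := hG.2 a b 1
  have hpow := powers_eq_powerClosure hG ⁅Subgroup.closure ({a, b} : Set G),
    Subgroup.closure ({a, b} : Set G)⁆ 1
  have hc' : c ∈ {y : G | ∃ x ∈ ⁅Subgroup.closure ({a, b} : Set G),
      Subgroup.closure ({a, b} : Set G)⁆, y = x ^ (p ^ 1)} := by
    rw [hpow]; exact hc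
  obtain ⟨d, hd, rfl⟩ := hc'
  refine ⟨d, hd, ?_⟩
  rw [pow_one] at hab
  exact hab

end Cfsg.Agent.Helper4
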