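import Mathlib
import Cfsg.Agent.Lead.EssPSq2
import Cfsg.Agent.Helper4.AutOrbA

set_option autoImplicit false

/-!
Groups of type `E ∘ Z`: cyclic centre `Z`, central quotient of order `p²`, and every element a
product of an element of order dividing `p` and a central element (toolkit for S5289).
-/

namespace Cfsg.Agent.Helper4.Rk

open Cfsg.Agent.Lead.EssPSq
open scoped commutatorElement

section loc

variable {P : Type*} [Group P]

theorem pow_mul_of_comm {c x y : P} (hcy : Commute c y) (hyx : y * x = c * x * y) (n : ℕ) :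
    y ^ n * x = c ^ n * x * y ^ n := by
  induction n with
  | zero => simp
  | succ n ih =>
    calc y ^ (n + 1) * x = y ^ n * (y * x) := by rw [pow_succ, mul_assoc]
      _ = y ^ n * (c * x * y) := by rw [hyx]
      _ = (y ^ n * c) * x * y := by simp only [mul_assoc]
      _ = (c * y ^ n) * x * y := by rw [(hcy.pow_right n).eq]
      _ = c * (y ^ n * x) * y := by simp only [mul_assoc]
      _ = c * (c ^ n * x * y ^ n) * y := by rw [ih]
      _ = c ^ (n + 1) * x * y ^ (n + 1) := by rw [pow_succ' c, pow_succ y]; simp only [mul_assoc]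

theorem mul_pow_of_comm {c x y : P} (hcx : Commute c x) (hcy : Commute c y)
    (hyx : y * x = c * x * y) (n : ℕ) : (x * y) ^ n = x ^ n * y ^ n * c ^ (n.choose 2) := by
  induction n with
  | zero => simp
  | succ n ih =>
    have h1 : (n + 1).choose 2 = n + n.choose 2 := by
      rw [Nat.choose_succ_succ, Nat.choose_one_right]
    have hcxy : Commute c (x * y) := hcx.mul_right hcy
    have hbig : Commute c (x ^ (n + 1) * y ^ (n + 1) * c ^ (n.choose 2)) :=
      ((hcx.pow_right _).mul_right (hcy.pow_right _)).mul_right ((Commute.refl c).pow_right _)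
    calc (x * y) ^ (n + 1) = (x * y) ^ n * (x * y) := pow_succ _ _
      _ = x ^ n * y ^ n * c ^ (n.choose 2) * (x * y) := by rw [ih]
      _ = x ^ n * y ^ n * (c ^ (n.choose 2) * (x * y)) := by simp only [mul_assoc]
      _ = x ^ n * y ^ n * ((x * y) * c ^ (n.choose 2)) := by
          rw [(hcxy.pow_left (n.choose 2)).eq]
      _ = x ^ n * (y ^ n * x) * y * c ^ (n.choose 2) := by simp only [mul_assoc]
      _ = x ^ n * (c ^ n * x * y ^ n) * y * c ^ (n.choose 2) := by
          rw [pow_mul_of_comm hcy hyx n]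
      _ = (x ^ n * c ^ n) * x * y ^ n * y * c ^ (n.choose 2) := by simp only [mul_assoc]
      _ = (c ^ n * x ^ n) * x * y ^ n * y * c ^ (n.choose 2) := by
          rw [((hcx.pow_right n).pow_left n).eq]
      _ = c ^ n * (x ^ (n + 1) * y ^ (n + 1) * c ^ (n.choose 2)) := by
          rw [pow_succ x, pow_succ y]; simp only [mul_assoc]
      _ = (x ^ (n + 1) * y ^ (n + 1) * c ^ (n.choose 2)) * c ^ n := by
          rw [(hbig.pow_left n).eq]
      _ = x ^ (n + 1) * y ^ (n + 1) * c ^ ((n + 1).choose 2) := by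
          rw [h1, add_comm n (n.choose 2), pow_add c]; simp only [mul_assoc]

/-- for odd `p`: if `[y, x]` commutes with `x` and `y` and has order dividing `p`, then
`(xy)^p = x^p y^p` -/
theorem mul_pow_prime_of_comm {p : ℕ} (hp : p.Prime) (hp2 : p ≠ 2) {x y : P}
    (hcx : Commute ⁅y, x⁆ x) (hcy : Commute ⁅y, x⁆ y) (hc : ⁅y, x⁆ ^ p = 1) :
    (x * y) ^ p = x ^ p * y ^ p := by
  have hyx : y * x = ⁅y, x⁆ * x * y := by simp [commutatorElement_def]
  rw [mul_pow_of_comm hcx hcy hyx p]
  have hdvd : p ∣ p.choose 2 := by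
    apply hp.dvd_choose_self (by norm_num)
    have := hp.two_le
    omega
  obtain ⟨k, hk⟩ := hdvd
  rw [hk, pow_mul, hc, one_pow, mul_one]

/-- in a finite cyclic group, the elements of order dividing `p` are the powers of any one
nontrivial such element -/
theorem mem_zpowers_of_pow_eq_one {C : Type*} [Group C] [Finite C] [IsCyclic C] {p : ℕ}
    [hp : Fact p.Prime] {c z : C} (hc1 : c ≠ 1) (hc : c ^ p = 1) (hz : z ^ p = 1) :
    z ∈ Subgroup.zpowers c := by
  classical
  haveI : Fintype C := Fintype.ofFinite C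
  have h1 : (Finset.univ.filter (fun a : C => a ^ p = 1)).card ≤ p :=
    IsCyclic.card_pow_eq_one_le hp.out.pos
  have hord : orderOf c = p := orderOf_eq_prime hc hc1
  have h2 : (Finset.univ.filter (fun a : C => a ∈ Subgroup.zpowers c)).card = p := by
    rw [← hord, ← Nat.card_zpowers, Nat.card_eq_fintype_card, Fintype.card_subtype]
  have hsub : Finset.univ.filter (fun a : C => a ∈ Subgroup.zpowers c) ⊆
      Finset.univ.filter (fun a : C => a ^ p = 1) := by
    intro a ha
    rw [Finset.mem_filter] at ha ⊢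
    refine ⟨ha.1, ?_⟩
    obtain ⟨k, rfl⟩ := Subgroup.mem_zpowers_iff.1 ha.2
    rw [← zpow_natCast, ← zpow_mul, mul_comm, zpow_mul, zpow_natCast, hc, one_zpow]
  have heq := Finset.eq_of_subset_of_card_le hsub (by rw [h2]; exact h1)
  have hzS : z ∈ Finset.univ.filter (fun a : C => a ^ p = 1) := by
    rw [Finset.mem_filter]; exact ⟨Finset.mem_univ _, hz⟩
  rw [← heq, Finset.mem_filter] at hzS
  exact hzS.2

end loc

/-- groups of type `E ∘ Z` -/
structure EZT (p : ℕ) (G : Type*) [Group G] : Prop where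
  cyc : IsCyclic (Subgroup.center G)
  card : Nat.card G = p ^ 2 * Nat.card (Subgroup.center G)
  split : ∀ g : G, ∃ e z : G, e ^ p = 1 ∧ z ∈ Subgroup.center G ∧ g = e * z

namespace EZT

variable {G : Type*} [Group G] [Finite G] {p : ℕ} [hp : Fact p.Prime] (h : EZT p G)

include h

theorem card_quot : Nat.card (G ⧸ Subgroup.center G) = p ^ 2 := by
  have h1 := Subgroup.card_eq_card_quotient_mul_card_subgroup (Subgroup.center G)
  rw [h.card] at h1
  have hpos : 0 < Nat.card (Subgroup.center G) := Nat.card_pos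
  exact (Nat.eq_of_mul_eq_mul_right hpos h1).symm

theorem quot_comm (a b : G ⧸ Subgroup.center G) : a * b = b * a :=
  (IsPGroup.isMulCommutative_of_card_eq_prime_sq h.card_quot).is_comm.comm a b

theorem comm_mem_center (a b : G) : ⁅a, b⁆ ∈ Subgroup.center G := by
  rw [← QuotientGroup.eq_one_iff, commutatorElement_def]
  simp only [QuotientGroup.mk_mul, QuotientGroup.mk_inv]
  rw [h.quot_comm (a : G ⧸ Subgroup.center G) b]
  group

theorem commutator_le : commutator G ≤ Subgroup.center G := by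
  rw [commutator_def, Subgroup.commutator_le]
  intro a _ b _
  exact h.comm_mem_center a b

theorem ea : EA p (G ⧸ Subgroup.center G) where
  comm := h.quot_comm
  exp := by
    intro v
    obtain ⟨g, rfl⟩ := QuotientGroup.mk_surjective v
    obtain ⟨e, z, he, hz, rfl⟩ := h.split g
    rw [QuotientGroup.mk_mul, (QuotientGroup.eq_one_iff z).2 hz, mul_one, ← QuotientGroup.mk_pow,
      he]
    rfl
  card := h.card_quot

omit [Finite G] hp h in
theorem comm_mul_central_left (e z b : G) (hz : z ∈ Subgroup.center G) : ⁅e * z, b⁆ = ⁅e, b⁆ := by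
  have hzb : z * b = b * z := (Subgroup.mem_center_iff.1 hz b).symm
  simp only [commutatorElement_def, mul_inv_rev]
  calc e * z * b * (z⁻¹ * e⁻¹) * b⁻¹ = e * (z * b) * z⁻¹ * e⁻¹ * b⁻¹ := by group
    _ = e * (b * z) * z⁻¹ * e⁻¹ * b⁻¹ := by rw [hzb]
    _ = e * b * e⁻¹ * b⁻¹ := by group

omit [Finite G] hp h in
theorem comm_mul_central_right (a e z : G) (hz : z ∈ Subgroup.center G) : ⁅a, e * z⁆ = ⁅a, e⁆ := by
  rw [← commutatorElement_inv, comm_mul_central_left e z a hz, commutatorElement_inv]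

theorem comm_pow (a b : G) : ⁅a, b⁆ ^ p = 1 := by
  obtain ⟨e, z, he, hz, rfl⟩ := h.split a
  rw [comm_mul_central_left e z b hz, ← AutOrb.comm_pow_left h.commutator_le, he]
  simp

theorem mul_pow_p (hp2 : p ≠ 2) (a b : G) : (a * b) ^ p = a ^ p * b ^ p := by
  apply mul_pow_prime_of_comm hp.out hp2
  · exact (Subgroup.mem_center_iff.1 (h.comm_mem_center b a) a).symm
  · exact (Subgroup.mem_center_iff.1 (h.comm_mem_center b a) b).symm
  · exact h.comm_pow b a

theorem exists_noncomm : ∃ a b : G, ⁅a, b⁆ ≠ 1 := by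
  by_contra hcon
  push Not at hcon
  have htop : Subgroup.center G = ⊤ := by
    rw [eq_top_iff]
    intro g _
    rw [Subgroup.mem_center_iff]
    intro k
    have := hcon k g
    rw [commutatorElement_eq_one_iff_mul_comm] at this
    exact this
  have h1 := h.card
  rw [htop, Subgroup.card_top] at h1
  have hpos : 0 < Nat.card G := Nat.card_pos
  have h2 : p ^ 2 = 1 := by
    have : 1 * Nat.card G = p ^ 2 * Nat.card G := by rw [one_mul]; exact h1
    exact (Nat.eq_of_mul_eq_mul_right hpos this).symm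
  have := hp.out.one_lt
  nlinarith

/-- noncommuting elements of order dividing `p` -/
theorem exists_noncomm_exp : ∃ x y : G, x ^ p = 1 ∧ y ^ p = 1 ∧ ⁅x, y⁆ ≠ 1 := by
  obtain ⟨a, b, hab⟩ := h.exists_noncomm
  obtain ⟨x, z₁, hx, hz₁, rfl⟩ := h.split a
  obtain ⟨y, z₂, hy, hz₂, rfl⟩ := h.split b
  rw [comm_mul_central_left x z₁ _ hz₁, comm_mul_central_right x y z₂ hz₂] at hab
  exact ⟨x, y, hx, hy, hab⟩

theorem pow_mem_center (g : G) : g ^ p ∈ Subgroup.center G := by
  rw [← QuotientGroup.eq_one_iff, QuotientGroup.mk_pow]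
  exact h.ea.exp _

/-- two noncommuting elements generate modulo the centre -/
theorem gen {x y : G} (hxy : ⁅x, y⁆ ≠ 1) (g : G) :
    ∃ i j : ℕ, ∃ z ∈ Subgroup.center G, g = x ^ i * y ^ j * z := by
  have hx : (x : G ⧸ Subgroup.center G) ≠ 1 := by
    intro hx1
    rw [QuotientGroup.eq_one_iff] at hx1
    apply hxy
    rw [commutatorElement_eq_one_iff_mul_comm]
    exact (Subgroup.mem_center_iff.1 hx1 y).symm
  have hy : (y : G ⧸ Subgroup.center G) ∉ Subgroup.zpowers (x : G ⧸ Subgroup.center G) := by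
    intro hy1
    obtain ⟨n, hn⟩ := Subgroup.mem_zpowers_iff.1 hy1
    rw [← QuotientGroup.mk_zpow, QuotientGroup.eq] at hn
    apply hxy
    rw [commutatorElement_eq_one_iff_mul_comm]
    have h1 : y = x ^ n * ((x ^ n)⁻¹ * y) := by group
    have h2 := (Subgroup.mem_center_iff.1 hn x)
    have h3 : x * x ^ n = x ^ n * x := ((Commute.refl x).zpow_right n).eq
    rw [h1]
    calc x * (x ^ n * ((x ^ n)⁻¹ * y)) = (x * x ^ n) * ((x ^ n)⁻¹ * y) := by rw [mul_assoc]
      _ = x ^ n * (x * ((x ^ n)⁻¹ * y)) := by rw [h3, mul_assoc]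
      _ = x ^ n * ((x ^ n)⁻¹ * y * x) := by rw [h2]
      _ = x ^ n * ((x ^ n)⁻¹ * y) * x := by simp only [mul_assoc]
  obtain ⟨a, b, hab⟩ := exists_coord h.ea hx hy (g : G ⧸ Subgroup.center G)
  rw [← QuotientGroup.mk_pow, ← QuotientGroup.mk_pow, ← QuotientGroup.mk_mul] at hab
  have h1 := QuotientGroup.eq.1 hab.symm
  refine ⟨a.val, b.val, (x ^ a.val * y ^ b.val)⁻¹ * g, h1, ?_⟩
  group

/-- the elements of order dividing `p` of the centre -/
theorem center_omega {c z : G} (hc : c ∈ Subgroup.center G) (hc1 : c ≠ 1) (hcp : c ^ p = 1)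
    (hz : z ∈ Subgroup.center G) (hzp : z ^ p = 1) : ∃ n : ℕ, z = c ^ n := by
  haveI := h.cyc
  have hc1' : (⟨c, hc⟩ : Subgroup.center G) ≠ 1 := by
    intro h1
    exact hc1 (congrArg Subtype.val h1)
  have hcp' : (⟨c, hc⟩ : Subgroup.center G) ^ p = 1 := Subtype.ext hcp
  have hzp' : (⟨z, hz⟩ : Subgroup.center G) ^ p = 1 := Subtype.ext hzp
  have h1 := mem_zpowers_of_pow_eq_one hc1' hcp' hzp'
  rw [← mem_powers_iff_mem_zpowers] at h1
  obtain ⟨n, hn⟩ := h1
  refine ⟨n, ?_⟩
  have := congrArg Subtype.val hn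
  simpa using this.symm

end EZT

end Cfsg.Agent.Helper4.Rk
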