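import Mathlib
import Cfsg.Prelude.Def_KGroupFacts
import Cfsg.Agent.Helper4.RkA

set_option autoImplicit false

/-!
Groups of type `E ∘ Z`: automorphisms trivial on the centre and on the central quotient are inner;
commutators of automorphisms are trivial on the centre; invariance under isomorphism.
-/

namespace Cfsg.Agent.Helper4.Rk

open Cfsg.Agent.Lead.EssPSq
open scoped commutatorElement

section conj

variable {G : Type*} [Group G]

theorem conj_pow_left_of_central {x y c : G} (hc : c = ⁅x, y⁆) (hcc : c ∈ Subgroup.center G)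
    (b : ℕ) : y ^ b * x * (y ^ b)⁻¹ = x * (c⁻¹) ^ b := by
  have hci : c⁻¹ ∈ Subgroup.center G := Subgroup.inv_mem _ hcc
  have h1 : y * x * y⁻¹ = x * c⁻¹ := by
    rw [(Subgroup.mem_center_iff.1 hci x), hc, commutatorElement_def]
    group
  induction b with
  | zero => simp
  | succ b ih =>
    have hcb : (c⁻¹) ^ b ∈ Subgroup.center G := Subgroup.pow_mem _ hci b
    calc y ^ (b + 1) * x * (y ^ (b + 1))⁻¹ = y * (y ^ b * x * (y ^ b)⁻¹) * y⁻¹ := by
          rw [pow_succ']; group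
      _ = y * (x * (c⁻¹) ^ b) * y⁻¹ := by rw [ih]
      _ = y * x * ((c⁻¹) ^ b * y⁻¹) := by simp only [mul_assoc]
      _ = y * x * (y⁻¹ * (c⁻¹) ^ b) := by rw [(Subgroup.mem_center_iff.1 hcb y⁻¹)]
      _ = (y * x * y⁻¹) * (c⁻¹) ^ b := by simp only [mul_assoc]
      _ = x * (c⁻¹) ^ (b + 1) := by rw [h1, pow_succ', mul_assoc]

theorem conj_pow_right_of_central {x y c : G} (hc : c = ⁅x, y⁆) (hcc : c ∈ Subgroup.center G)
    (a : ℕ) : x ^ a * y * (x ^ a)⁻¹ = y * c ^ a := by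
  have h1 : x * y * x⁻¹ = y * c := by
    rw [(Subgroup.mem_center_iff.1 hcc y), hc, commutatorElement_def]
    group
  induction a with
  | zero => simp
  | succ a ih =>
    have hca : c ^ a ∈ Subgroup.center G := Subgroup.pow_mem _ hcc a
    calc x ^ (a + 1) * y * (x ^ (a + 1))⁻¹ = x * (x ^ a * y * (x ^ a)⁻¹) * x⁻¹ := by
          rw [pow_succ']; group
      _ = x * (y * c ^ a) * x⁻¹ := by rw [ih]
      _ = x * y * (c ^ a * x⁻¹) := by simp only [mul_assoc]
      _ = x * y * (x⁻¹ * c ^ a) := by rw [(Subgroup.mem_center_iff.1 hca x⁻¹)]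
      _ = (x * y * x⁻¹) * c ^ a := by simp only [mul_assoc]
      _ = y * c ^ (a + 1) := by rw [h1, pow_succ', mul_assoc]

/-- automorphisms preserve the centre -/
theorem aut_mem_center (φ : MulAut G) {z : G} (hz : z ∈ Subgroup.center G) :
    φ z ∈ Subgroup.center G := by
  rw [Subgroup.mem_center_iff]
  intro g
  have h1 := Subgroup.mem_center_iff.1 hz (φ⁻¹ g)
  have h2 := congrArg φ h1
  rw [map_mul, map_mul, MulAut.apply_inv_self] at h2
  exact h2

/-- automorphisms commute on a cyclic centre -/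
theorem aut_comm_on_center (hcyc : IsCyclic (Subgroup.center G)) (φ ψ : MulAut G) {z : G}
    (hz : z ∈ Subgroup.center G) : φ (ψ z) = ψ (φ z) := by
  obtain ⟨g₀, hg₀⟩ := hcyc.exists_generator
  have key : ∀ θ : MulAut G, ∃ r : ℤ, ∀ n : ℤ, θ ((g₀ : G) ^ n) = ((g₀ : G) ^ n) ^ r := by
    intro θ
    have h1 : θ (g₀ : G) ∈ Subgroup.center G := aut_mem_center θ g₀.2
    obtain ⟨r, hr⟩ := Subgroup.mem_zpowers_iff.1 (hg₀ ⟨_, h1⟩)
    have hr' : (g₀ : G) ^ r = θ (g₀ : G) := by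
      have := congrArg Subtype.val hr
      simpa using this
    refine ⟨r, fun n => ?_⟩
    rw [map_zpow, ← hr', ← zpow_mul, ← zpow_mul, mul_comm]
  obtain ⟨r, hr⟩ := key φ
  obtain ⟨s, hs⟩ := key ψ
  obtain ⟨n, hn⟩ := Subgroup.mem_zpowers_iff.1 (hg₀ ⟨z, hz⟩)
  have hn' : (g₀ : G) ^ n = z := by
    have := congrArg Subtype.val hn
    simpa using this
  rw [← hn']
  calc φ (ψ ((g₀ : G) ^ n)) = φ ((g₀ : G) ^ (n * s)) := by rw [hs n, ← zpow_mul]
    _ = (g₀ : G) ^ (n * s * r) := by rw [hr (n * s), ← zpow_mul]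
    _ = (g₀ : G) ^ (n * r * s) := by rw [mul_right_comm]
    _ = ψ ((g₀ : G) ^ (n * r)) := by rw [hs (n * r), ← zpow_mul]
    _ = ψ (φ ((g₀ : G) ^ n)) := by rw [hr n, ← zpow_mul]

/-- a commutator of automorphisms acts trivially on a cyclic centre -/
theorem comm_aut_fix_center (hcyc : IsCyclic (Subgroup.center G)) (φ ψ : MulAut G) {z : G}
    (hz : z ∈ Subgroup.center G) : (φ * ψ * φ⁻¹ * ψ⁻¹) z = z := by
  have hw : ψ⁻¹ z ∈ Subgroup.center G := aut_mem_center _ hz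
  have hw2 : φ⁻¹ (ψ⁻¹ z) ∈ Subgroup.center G := aut_mem_center _ hw
  simp only [MulAut.mul_apply]
  rw [aut_comm_on_center hcyc φ ψ hw2, MulAut.apply_inv_self, MulAut.apply_inv_self]

end conj

namespace EZT

variable {G : Type*} [Group G] [Finite G] {p : ℕ} [hp : Fact p.Prime] (h : EZT p G)

include h

/-- an automorphism acting trivially on the central quotient and on the centre is inner -/
theorem inner_of_trivial (hp2 : p ≠ 2) (φ : MulAut G)
    (hV : ∀ g : G, g⁻¹ * φ g ∈ Subgroup.center G)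
    (hZ : ∀ z ∈ Subgroup.center G, φ z = z) : φ ∈ Cfsg.Inn G := by
  obtain ⟨x, y, hx, hy, hxy⟩ := h.exists_noncomm_exp
  set c := ⁅x, y⁆ with hc
  have hcc : c ∈ Subgroup.center G := h.comm_mem_center x y
  have hcp : c ^ p = 1 := h.comm_pow x y
  -- the displacement of an element of order dividing `p` is a power of `c`
  have hdisp : ∀ u : G, u ^ p = 1 → ∃ n : ℕ, φ u = u * c ^ n := by
    intro u hu
    have hw := hV u
    have hwp : (u⁻¹ * φ u) ^ p = 1 := by
      have h1 : φ u = u * (u⁻¹ * φ u) := by group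
      have h2 : (φ u) ^ p = 1 := by rw [← map_pow, hu, map_one]
      rw [h1, (show Commute u (u⁻¹ * φ u) from (Subgroup.mem_center_iff.1 hw u)).mul_pow, hu,
        one_mul] at h2
      exact h2
    obtain ⟨n, hn⟩ := h.center_omega hcc hxy hcp hw hwp
    refine ⟨n, ?_⟩
    rw [← hn, mul_inv_cancel_left]
  obtain ⟨m₁, hm₁⟩ := hdisp x hx
  obtain ⟨m₂, hm₂⟩ := hdisp y hy
  have hcinv : (c⁻¹) ^ (p - 1) = c := by
    have h1 : c ^ (p - 1) * c = 1 := by
      rw [← pow_succ, Nat.sub_add_cancel hp.out.one_lt.le, hcp]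
    rw [inv_pow, inv_eq_iff_eq_inv, eq_inv_iff_mul_eq_one]
    exact h1
  refine ⟨x ^ m₂ * y ^ (m₁ * (p - 1)), ?_⟩
  have hgx : (x ^ m₂ * y ^ (m₁ * (p - 1))) * x * (x ^ m₂ * y ^ (m₁ * (p - 1)))⁻¹ = φ x := by
    have h1 := conj_pow_left_of_central hc hcc (m₁ * (p - 1))
    have hcm : (c⁻¹) ^ (m₁ * (p - 1)) = c ^ m₁ := by
      rw [mul_comm, pow_mul, hcinv]
    rw [hcm] at h1
    have hcm' : c ^ m₁ ∈ Subgroup.center G := Subgroup.pow_mem _ hcc _
    calc (x ^ m₂ * y ^ (m₁ * (p - 1))) * x * (x ^ m₂ * y ^ (m₁ * (p - 1)))⁻¹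
        = x ^ m₂ * (y ^ (m₁ * (p - 1)) * x * (y ^ (m₁ * (p - 1)))⁻¹) * (x ^ m₂)⁻¹ := by group
      _ = x ^ m₂ * (x * c ^ m₁) * (x ^ m₂)⁻¹ := by rw [h1]
      _ = x ^ m₂ * x * (c ^ m₁ * (x ^ m₂)⁻¹) := by simp only [mul_assoc]
      _ = x ^ m₂ * x * ((x ^ m₂)⁻¹ * c ^ m₁) := by
          rw [(Subgroup.mem_center_iff.1 hcm' (x ^ m₂)⁻¹)]
      _ = x ^ m₂ * x * (x ^ m₂)⁻¹ * c ^ m₁ := by simp only [mul_assoc]
      _ = x * c ^ m₁ := by
          have h5 : x ^ m₂ * x * (x ^ m₂)⁻¹ = x := by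
            rw [← pow_succ, pow_succ', mul_assoc, mul_inv_cancel, mul_one]
          rw [h5]
      _ = φ x := hm₁.symm
  have hgy : (x ^ m₂ * y ^ (m₁ * (p - 1))) * y * (x ^ m₂ * y ^ (m₁ * (p - 1)))⁻¹ = φ y := by
    have h1 := conj_pow_right_of_central hc hcc m₂
    calc (x ^ m₂ * y ^ (m₁ * (p - 1))) * y * (x ^ m₂ * y ^ (m₁ * (p - 1)))⁻¹
        = x ^ m₂ * (y ^ (m₁ * (p - 1)) * y * (y ^ (m₁ * (p - 1)))⁻¹) * (x ^ m₂)⁻¹ := by group
      _ = x ^ m₂ * y * (x ^ m₂)⁻¹ := by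
          have h5 : y ^ (m₁ * (p - 1)) * y * (y ^ (m₁ * (p - 1)))⁻¹ = y := by
            rw [← pow_succ, pow_succ', mul_assoc, mul_inv_cancel, mul_one]
          rw [h5]
      _ = y * c ^ m₂ := h1
      _ = φ y := hm₂.symm
  ext g
  obtain ⟨i, j, z, hz, rfl⟩ := h.gen hxy g
  rw [MulAut.conj_apply]
  set g₀ := x ^ m₂ * y ^ (m₁ * (p - 1)) with hg₀
  have hgz : g₀ * z * g₀⁻¹ = z := by
    rw [(Subgroup.mem_center_iff.1 hz g₀), mul_assoc, mul_inv_cancel, mul_one]
  calc g₀ * (x ^ i * y ^ j * z) * g₀⁻¹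
      = (g₀ * x * g₀⁻¹) ^ i * (g₀ * y * g₀⁻¹) ^ j * (g₀ * z * g₀⁻¹) := by
        rw [conj_pow, conj_pow]; group
    _ = φ (x ^ i * y ^ j * z) := by
        rw [hgx, hgy, hgz, map_mul, map_mul, map_pow, map_pow, hZ z hz]

omit [Finite G] hp in
/-- invariance under isomorphism -/
theorem of_mulEquiv {G' : Type*} [Group G'] (e : G ≃* G') : EZT p G' := by
  have hmem : ∀ z : G, z ∈ Subgroup.center G → e z ∈ Subgroup.center G' := by
    intro z hz
    rw [Subgroup.mem_center_iff]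
    intro g
    have h1 := Subgroup.mem_center_iff.1 hz (e.symm g)
    have h2 := congrArg e h1
    rw [map_mul, map_mul, MulEquiv.apply_symm_apply] at h2
    exact h2
  have hmem' : ∀ z : G', z ∈ Subgroup.center G' → e.symm z ∈ Subgroup.center G := by
    intro z hz
    rw [Subgroup.mem_center_iff]
    intro g
    have h1 := Subgroup.mem_center_iff.1 hz (e g)
    have h2 := congrArg e.symm h1
    rw [map_mul, map_mul, MulEquiv.symm_apply_apply] at h2
    exact h2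
  let f : Subgroup.center G ≃* Subgroup.center G' :=
    { toFun := fun z => ⟨e z, hmem z z.2⟩
      invFun := fun z => ⟨e.symm z, hmem' z z.2⟩
      left_inv := fun z => by apply Subtype.ext; simp
      right_inv := fun z => by apply Subtype.ext; simp
      map_mul' := fun a b => by apply Subtype.ext; simp }
  refine ⟨?_, ?_, ?_⟩
  · haveI := h.cyc
    exact isCyclic_of_surjective f.toMonoidHom f.surjective
  · rw [← Nat.card_congr e.toEquiv, ← Nat.card_congr f.toEquiv]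
    exact h.card
  · intro g
    obtain ⟨a, z, ha, hz, hg⟩ := h.split (e.symm g)
    refine ⟨e a, e z, ?_, hmem z hz, ?_⟩
    · rw [← map_pow, ha, map_one]
    · rw [← map_mul, ← hg, MulEquiv.apply_symm_apply]

end EZT

end Cfsg.Agent.Helper4.Rk
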