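import Mathlib
import Cfsg.Agent.Lead.EssPSq5

set_option autoImplicit false

/-!
`p`-groups of automorphisms of an elementary abelian group of order `p²`, and the diagonal element
of `SL₂(p)` in coordinates (toolkit for S5289).
-/

namespace Cfsg.Agent.Helper4.Rk

open Cfsg.Agent.Lead.EssPSq

variable {H : Type*} [Group H] [Finite H] {p : ℕ} [hp : Fact p.Prime]

/-- a `p`-group of automorphisms has a nontrivial common fixed point -/
theorem exists_common_fixed (h : EA p H) (U : Subgroup (MulAut H)) (hU : IsPGroup p U) :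
    ∃ x : H, x ≠ 1 ∧ ∀ σ ∈ U, σ x = x := by
  have hdvd : p ∣ Nat.card H := by rw [h.card]; exact dvd_pow_self p two_ne_zero
  have hfix : (1 : H) ∈ MulAction.fixedPoints U H := by
    intro g
    exact smul_one g
  obtain ⟨b, hb, hb1⟩ := hU.exists_fixed_point_of_prime_dvd_card_of_fixed_point H hdvd hfix
  refine ⟨b, Ne.symm hb1, ?_⟩
  intro σ hσ
  exact hb ⟨σ, hσ⟩

/-- version of `L1` for automorphisms of `p`-power order -/
theorem L1' (h : EA p H) {x y : H} (hx : x ≠ 1) (hy : y ∉ Subgroup.zpowers x) (γ : MulAut H)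
    (k : ℕ) (hγ : γ ^ (p ^ k) = 1) (hγx : γ x = x) : ∃ a : ZMod p, γ y = x ^ a.val * y := by
  obtain ⟨a, b, hab⟩ := exists_coord h hx hy (γ y)
  have key : ∀ n : ℕ, ∃ c : ZMod p, (γ ^ n) y = x ^ c.val * y ^ (b ^ n).val := by
    intro n
    induction n with
    | zero =>
      refine ⟨0, ?_⟩
      rw [pow_zero, pow_zero, pow_val_one, ZMod.val_zero, pow_zero, one_mul]
      rfl
    | succ n ih =>
      obtain ⟨c, hc⟩ := ih
      refine ⟨c + a * b ^ n, ?_⟩
      rw [pow_succ', MulAut.mul_apply, hc, map_mul, map_pow, map_pow, hγx, hab,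
        (show Commute (x ^ a.val) (y ^ b.val) from h.comm _ _).mul_pow, ← pow_val_mul (h.exp x),
        ← pow_val_mul (h.exp y), ← mul_assoc, ← pow_val_add (h.exp x), ← pow_succ']
  obtain ⟨c, hc⟩ := key (p ^ k)
  rw [hγ, ZMod.pow_card_pow] at hc
  have h1 : x ^ (0 : ZMod p).val * y ^ (1 : ZMod p).val = x ^ c.val * y ^ b.val := by
    rw [ZMod.val_zero, pow_zero, one_mul, pow_val_one]
    exact hc
  obtain ⟨-, hb⟩ := coord_inj h hx hy h1
  refine ⟨a, ?_⟩
  rw [hab, ← hb, pow_val_one]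

/-- a unipotent automorphism has order dividing `p` -/
theorem unip_pow_p (h : EA p H) {x y : H} (hx : x ≠ 1) (hy : y ∉ Subgroup.zpowers x)
    (γ : MulAut H) (hγx : γ x = x) {a : ZMod p} (hγy : γ y = x ^ a.val * y) : γ ^ p = 1 := by
  obtain ⟨h1, h2⟩ := pow_formula h γ hγx hγy p
  apply agree h hx hy
  · rw [h1]; rfl
  · rw [h2, ZMod.natCast_self, zero_mul, ZMod.val_zero, pow_zero, one_mul]; rfl

/-- the structure of a `p`-group of automorphisms containing a nontrivial element -/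
theorem pgroup_structure (h : EA p H) (U : Subgroup (MulAut H)) (hU : IsPGroup p U)
    (α : MulAut H) (hα : α ∈ U) (hα1 : α ≠ 1) :
    ∃ (x y : H) (a : ZMod p), x ≠ 1 ∧ y ∉ Subgroup.zpowers x ∧ a ≠ 0 ∧ α x = x ∧
      α y = x ^ a.val * y ∧ α ^ p = 1 ∧
      ∀ σ ∈ U, σ x = x ∧ ∃ i : ZMod p, σ y = x ^ (i * a).val * y ∧ σ = α ^ i.val := by
  obtain ⟨x, hx, hfix⟩ := exists_common_fixed h U hU
  obtain ⟨y, hy⟩ := exists_not_mem h x
  have hpow : ∀ σ ∈ U, ∃ k : ℕ, σ ^ (p ^ k) = 1 := by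
    intro σ hσ
    obtain ⟨k, hk⟩ := hU ⟨σ, hσ⟩
    refine ⟨k, ?_⟩
    have := congrArg Subtype.val hk
    simpa using this
  have hL : ∀ σ ∈ U, ∃ c : ZMod p, σ y = x ^ c.val * y := by
    intro σ hσ
    obtain ⟨k, hk⟩ := hpow σ hσ
    exact L1' h hx hy σ k hk (hfix σ hσ)
  obtain ⟨a, ha⟩ := hL α hα
  have ha0 : a ≠ 0 := by
    rintro rfl
    apply hα1
    apply agree h hx hy
    · rw [hfix α hα]; rfl
    · rw [ha, ZMod.val_zero, pow_zero, one_mul]; rfl
  refine ⟨x, y, a, hx, hy, ha0, hfix α hα, ha, unip_pow_p h hx hy α (hfix α hα) ha, ?_⟩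
  intro σ hσ
  refine ⟨hfix σ hσ, ?_⟩
  obtain ⟨c, hc⟩ := hL σ hσ
  refine ⟨c * a⁻¹, ?_, ?_⟩
  · rw [mul_assoc, inv_mul_cancel₀ ha0, mul_one]; exact hc
  · obtain ⟨h1, h2⟩ := pow_formula h α (hfix α hα) ha (c * a⁻¹).val
    apply agree h hx hy
    · rw [h1, hfix σ hσ]
    · rw [h2, hc, ZMod.natCast_zmod_val, mul_assoc, inv_mul_cancel₀ ha0, mul_one]

/-- fixed points of a nontrivial unipotent automorphism -/
theorem fixed_of_unip (h : EA p H) {x y : H} (hx : x ≠ 1) (hy : y ∉ Subgroup.zpowers x)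
    (γ : MulAut H) (hγx : γ x = x) {a : ZMod p} (ha : a ≠ 0) (hγy : γ y = x ^ a.val * y)
    (g : H) (hg : γ g = g) : g ∈ Subgroup.zpowers x := by
  obtain ⟨i, j, rfl⟩ := exists_coord h hx hy g
  rw [map_mul, map_pow, map_pow, hγx, hγy,
    (show Commute (x ^ a.val) y from h.comm _ _).mul_pow, ← pow_val_mul (h.exp x), ← mul_assoc,
    ← pow_val_add (h.exp x)] at hg
  obtain ⟨h1, -⟩ := coord_inj h hx hy hg
  have hj : j = 0 := by
    have : a * j = 0 := by
      have := h1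
      rw [add_eq_left] at this
      exact this
    rcases mul_eq_zero.1 this with h0 | h0
    · exact absurd h0 ha
    · exact h0
  rw [hj, ZMod.val_zero, pow_zero, mul_one]
  exact Subgroup.pow_mem _ (Subgroup.mem_zpowers x) _

/-- Two subgroups of order `p` of automorphisms generate `SL₂(p)` in the coordinates of a fixed
vector of the first and a fixed vector of the second. -/
theorem sl2_coords (h : EA p H) (A : Subgroup (MulAut H)) (α β : MulAut H) (hα : α ∈ A)
    (hβ : β ∈ A) (hαp : α ^ p = 1) (hβp : β ^ p = 1) (hα1 : α ≠ 1)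
    (hβα : β ∉ Subgroup.zpowers α) :
    ∃ (x y : H) (hx : x ≠ 1) (hy : y ∉ Subgroup.zpowers x), α x = x ∧
      (phi (coordEquiv h hx hy)).range ≤ A := by
  have hβ1 : β ≠ 1 := fun h1 => hβα (h1 ▸ Subgroup.one_mem _)
  obtain ⟨x, hx, hαx⟩ := exists_fixed h α hαp
  obtain ⟨y, hy1, hβy⟩ := exists_fixed h β hβp
  have hy : y ∉ Subgroup.zpowers x := by
    intro hyx
    have hxy : x ∈ Subgroup.zpowers y := by
      by_contra hxy
      exact not_mem_symm h hy1 hx hxy hyx
    have hβx : β x = x := by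
      obtain ⟨n, rfl⟩ := Subgroup.mem_zpowers_iff.1 hxy
      rw [map_zpow, hβy]
    obtain ⟨w, hw⟩ := exists_not_mem h x
    obtain ⟨a, ha⟩ := L1 h hx hw α hαp hαx
    obtain ⟨c, hc⟩ := L1 h hx hw β hβp hβx
    have ha0 : a ≠ 0 := by
      rintro rfl
      apply hα1
      apply agree h hx hw
      · rw [hαx]; rfl
      · rw [ha, ZMod.val_zero, pow_zero, one_mul]; rfl
    apply hβα
    obtain ⟨h1, h2⟩ := pow_formula h α hαx ha (c * a⁻¹).val
    have : β = α ^ (c * a⁻¹).val := by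
      apply agree h hx hw
      · rw [h1, hβx]
      · rw [h2, hc, ZMod.natCast_zmod_val, mul_assoc, inv_mul_cancel₀ ha0, mul_one]
    rw [this]
    exact Subgroup.pow_mem _ (Subgroup.mem_zpowers α) _
  have hxy : x ∉ Subgroup.zpowers y := not_mem_symm h hx hy1 hy
  obtain ⟨a, ha⟩ := L1 h hx hy α hαp hαx
  obtain ⟨c, hc⟩ := L1 h hy1 hxy β hβp hβy
  have ha0 : a ≠ 0 := by
    rintro rfl
    apply hα1
    apply agree h hx hy
    · rw [hαx]; rfl
    · rw [ha, ZMod.val_zero, pow_zero, one_mul]; rfl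
  have hc0 : c ≠ 0 := by
    rintro rfl
    apply hβ1
    apply agree h hx hy
    · rw [hc, ZMod.val_zero, pow_zero, one_mul]; rfl
    · rw [hβy]; rfl
  have htop : A.comap (phi (coordEquiv h hx hy)) = ⊤ := by
    apply sl2_gen
    · intro t
      rw [Subgroup.mem_comap, G1 h hx hy _ (coordEquiv_apply h hx hy) α hαx ha0 ha t]
      exact A.pow_mem hα _
    · intro t
      rw [Subgroup.mem_comap, G2 h hx hy _ (coordEquiv_apply h hx hy) β hβy hc0 hc t]
      exact A.pow_mem hβ _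
  have hle : (phi (coordEquiv h hx hy)).range ≤ A := by
    rintro _ ⟨M, rfl⟩
    have : M ∈ A.comap (phi (coordEquiv h hx hy)) := by rw [htop]; exact Subgroup.mem_top M
    exact this
  exact ⟨x, y, hx, hy, hαx, hle⟩

end Cfsg.Agent.Helper4.Rk
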