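import Mathlib
import Cfsg.Agent.Helper4.RkC

set_option autoImplicit false

/-!
The diagonal element `diag(2, 2⁻¹)` of `SL₂(p)`: action in coordinates, commutator identities.
-/

namespace Cfsg.Agent.Helper4.Rk

open Cfsg.Agent.Lead.EssPSq

variable {p : ℕ} [hp : Fact p.Prime]

theorem two_ne_zero_zmod (hp2 : p ≠ 2) : (2 : ZMod p) ≠ 0 := by
  intro h
  have h1 : ((2 : ℕ) : ZMod p) = 0 := by exact_mod_cast h
  rw [ZMod.natCast_eq_zero_iff] at h1
  exact hp2 ((Nat.prime_dvd_prime_iff_eq hp.out Nat.prime_two).1 h1)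

theorem three_ne_zero_zmod (hp3 : p ≠ 3) : (3 : ZMod p) ≠ 0 := by
  intro h
  have h1 : ((3 : ℕ) : ZMod p) = 0 := by exact_mod_cast h
  rw [ZMod.natCast_eq_zero_iff] at h1
  exact hp3 ((Nat.prime_dvd_prime_iff_eq hp.out Nat.prime_three).1 h1)

/-- the diagonal matrix `diag(2, 2⁻¹)` -/
noncomputable def dg (hp2 : p ≠ 2) : SL2 p :=
  ⟨!![2, 0; 0, 2⁻¹], by
    simp [Matrix.det_fin_two, mul_inv_cancel₀ (two_ne_zero_zmod hp2)]⟩

theorem dg_val (hp2 : p ≠ 2) : (dg hp2).1 = !![2, 0; 0, (2 : ZMod p)⁻¹] := rfl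

/-- `[dg, E12 s] = E12 (3 s)` -/
theorem comm_dg_E12 (hp2 : p ≠ 2) (s : ZMod p) :
    dg hp2 * E12 s * (dg hp2)⁻¹ * (E12 s)⁻¹ = E12 (3 * s) := by
  have h2 := two_ne_zero_zmod hp2
  rw [mul_inv_eq_iff_eq_mul, mul_inv_eq_iff_eq_mul]
  apply Subtype.ext
  simp only [Matrix.SpecialLinearGroup.coe_mul, dg_val, E12_val, Matrix.mul_fin_two]
  ext i j
  fin_cases i <;> fin_cases j
  · simp
  · simp
    field_simp
    ring
  · simp
  · simp

/-- `[dg, E21 s] = E21 (s / 4 - s)` -/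
theorem comm_dg_E21 (hp2 : p ≠ 2) (s : ZMod p) :
    dg hp2 * E21 s * (dg hp2)⁻¹ * (E21 s)⁻¹ = E21 (s * (2⁻¹ * 2⁻¹) - s) := by
  have h2 := two_ne_zero_zmod hp2
  rw [mul_inv_eq_iff_eq_mul, mul_inv_eq_iff_eq_mul]
  apply Subtype.ext
  simp only [Matrix.SpecialLinearGroup.coe_mul, dg_val, E21_val, Matrix.mul_fin_two]
  ext i j
  fin_cases i <;> fin_cases j
  · simp
  · simp
  · simp
    try field_simp
    try ring
  · simp

variable {H : Type*} [Group H] [Finite H]

/-- the action of `dg` on the first coordinate vector -/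
theorem phi_dg_x (hp2 : p ≠ 2) (h : EA p H) {x y : H} (hx : x ≠ 1)
    (hy : y ∉ Subgroup.zpowers x) :
    phi (coordEquiv h hx hy) (dg hp2) x = x ^ 2 := by
  have hex : coordEquiv h hx hy (Multiplicative.ofAdd ![1, 0]) = x := by
    rw [coordEquiv_apply]; simp [pow_val_one]
  have h0 := phi_apply (coordEquiv h hx hy) (dg hp2) ![1, 0]
  rw [hex] at h0
  rw [h0, dg_val]
  have : (!![2, 0; 0, (2 : ZMod p)⁻¹]).mulVec ![1, 0] = ![2, 0] := by
    ext i; fin_cases i <;> simp [Matrix.mulVec, dotProduct, Fin.sum_univ_two]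
  rw [this, coordEquiv_apply]
  simp only [Matrix.cons_val_zero, Matrix.cons_val_one, ZMod.val_zero, pow_zero, mul_one]
  have h2 : ((2 : ℕ) : ZMod p) = 2 := by norm_cast
  rw [← h2, pow_val_natCast (h.exp x)]

/-- the action of `dg` on the second coordinate vector -/
theorem phi_dg_y (hp2 : p ≠ 2) (h : EA p H) {x y : H} (hx : x ≠ 1)
    (hy : y ∉ Subgroup.zpowers x) :
    phi (coordEquiv h hx hy) (dg hp2) y = y ^ ((2 : ZMod p)⁻¹).val := by
  have hey : coordEquiv h hx hy (Multiplicative.ofAdd ![0, 1]) = y := by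
    rw [coordEquiv_apply]; simp [pow_val_one]
  have h0 := phi_apply (coordEquiv h hx hy) (dg hp2) ![0, 1]
  rw [hey] at h0
  rw [h0, dg_val]
  have : (!![2, 0; 0, (2 : ZMod p)⁻¹]).mulVec ![0, 1] = ![0, 2⁻¹] := by
    ext i; fin_cases i <;> simp [Matrix.mulVec, dotProduct, Fin.sum_univ_two]
  rw [this, coordEquiv_apply]
  simp only [Matrix.cons_val_zero, Matrix.cons_val_one, ZMod.val_zero, pow_zero, one_mul]

/-- an automorphism acting like `dg` conjugates a unipotent automorphism to its fourth power -/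
theorem conj_unip (hp2 : p ≠ 2) (h : EA p H) {x y : H} (hx : x ≠ 1)
    (hy : y ∉ Subgroup.zpowers x) (D : MulAut H) (hDx : D x = x ^ 2)
    (hDy : D y = y ^ ((2 : ZMod p)⁻¹).val) (γ : MulAut H) (hγx : γ x = x) {a : ZMod p}
    (hγy : γ y = x ^ a.val * y) : D * γ * D⁻¹ = γ ^ 4 := by
  have h2 := two_ne_zero_zmod hp2
  have hx2 : x = D (x ^ ((2 : ZMod p)⁻¹).val) := by
    rw [map_pow, hDx, ← pow_mul]
    have h3 : ((2 : ℕ) : ZMod p) = 2 := by norm_cast
    have : x ^ (2 * ((2 : ZMod p)⁻¹).val) = x ^ ((2 : ZMod p) * 2⁻¹).val := by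
      rw [ZMod.val_mul, ← pow_eq_pow_mod _ (h.exp x)]
      congr 2
      rw [← h3, ZMod.val_natCast, Nat.mod_eq_of_lt]
      have := hp.out.two_le
      rcases this.lt_or_eq with h4 | h4
      · exact h4
      · exact absurd h4.symm hp2
    rw [this, mul_inv_cancel₀ h2, pow_val_one]
  have hy2 : y = D (y ^ 2) := by
    rw [map_pow, hDy, ← pow_mul]
    have h3 : ((2 : ℕ) : ZMod p) = 2 := by norm_cast
    have : y ^ (((2 : ZMod p)⁻¹).val * 2) = y ^ ((2 : ZMod p)⁻¹ * 2).val := by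
      rw [ZMod.val_mul, ← pow_eq_pow_mod _ (h.exp y)]
      congr 2
      rw [← h3, ZMod.val_natCast, Nat.mod_eq_of_lt]
      have := hp.out.two_le
      rcases this.lt_or_eq with h4 | h4
      · exact h4
      · exact absurd h4.symm hp2
    rw [this, inv_mul_cancel₀ h2, pow_val_one]
  obtain ⟨h41, h42⟩ := pow_formula h γ hγx hγy 4
  apply agree h hx hy
  · rw [h41]
    conv_lhs => rw [hx2]
    rw [MulAut.mul_apply, MulAut.mul_apply, MulAut.inv_apply_self, map_pow, hγx, ← hx2]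
  · rw [h42]
    conv_lhs => rw [hy2]
    rw [MulAut.mul_apply, MulAut.mul_apply, MulAut.inv_apply_self, map_pow, hγy,
      (show Commute (x ^ a.val) y from h.comm _ _).mul_pow, map_mul, ← hy2, map_pow, map_pow, hDx,
      ← pow_mul, ← pow_mul]
    congr 1
    rw [← pow_val_natCast (h.exp x) (2 * (a.val * 2))]
    congr 2
    push_cast
    rw [ZMod.natCast_zmod_val]
    ring

end Cfsg.Agent.Helper4.Rk
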