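import Mathlib
import Cfsg.Agent.Helper4.RkB
import Cfsg.Agent.Helper4.RkD

set_option autoImplicit false

/-!
Groups of type `E ∘ Z`: a group of automorphisms whose Sylow `p`-subgroup (containing the inner
automorphisms) is not normal contains an element normalizing that Sylow subgroup, trivial on the
centre and acting as `diag(2, 2⁻¹)` on the central quotient.
-/

namespace Cfsg.Agent.Helper4.Rk

open Cfsg.Agent.Lead.EssPSq
open scoped commutatorElement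

section quot

variable {G : Type*} [Group G]

theorem map_center_eq (α : MulAut G) :
    (Subgroup.center G).map (α : G ≃* G).toMonoidHom = Subgroup.center G :=
  Subgroup.characteristic_iff_map_eq.1 Subgroup.centerCharacteristic α

/-- the automorphism induced on the central quotient -/
noncomputable def quotAut (α : MulAut G) : MulAut (G ⧸ Subgroup.center G) :=
  QuotientGroup.congr (Subgroup.center G) (Subgroup.center G) α (map_center_eq α)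

theorem quotAut_mk (α : MulAut G) (g : G) :
    quotAut α (g : G ⧸ Subgroup.center G) = ((α g : G) : G ⧸ Subgroup.center G) := rfl

/-- the action on the central quotient -/
noncomputable def quotHom : MulAut G →* MulAut (G ⧸ Subgroup.center G) where
  toFun := quotAut
  map_one' := by
    ext v
    obtain ⟨g, rfl⟩ := QuotientGroup.mk_surjective v
    rfl
  map_mul' α β := by
    ext v
    obtain ⟨g, rfl⟩ := QuotientGroup.mk_surjective v
    rfl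

theorem quotHom_mk (α : MulAut G) (g : G) :
    quotHom α (g : G ⧸ Subgroup.center G) = ((α g : G) : G ⧸ Subgroup.center G) := rfl

theorem quotHom_eq_one_iff (α : MulAut G) :
    quotHom α = 1 ↔ ∀ g : G, g⁻¹ * α g ∈ Subgroup.center G := by
  constructor
  · intro h g
    have h1 := congrArg (fun f : MulAut (G ⧸ Subgroup.center G) => f (g : G ⧸ Subgroup.center G)) h
    simp only [quotHom_mk, MulAut.one_apply] at h1
    exact QuotientGroup.eq.1 h1.symm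
  · intro h
    ext v
    obtain ⟨g, rfl⟩ := QuotientGroup.mk_surjective v
    rw [quotHom_mk, MulAut.one_apply]
    exact (QuotientGroup.eq.2 (h g)).symm

end quot

section main

variable {G : Type*} [Group G] [Finite G] {p : ℕ} [hp : Fact p.Prime]

/-- An element of `A` whose action on the central quotient normalizes that of the Sylow
`p`-subgroup `T` normalizes `T`. -/
theorem normalizes_of_quot (h : EZT p G) (hp2 : p ≠ 2) (A T : Subgroup (MulAut G)) (hTA : T ≤ A)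
    (hT : IsPGroup p T) (hInn : Cfsg.Inn G ≤ T)
    (hmax : ∀ T' : Subgroup (MulAut G), T ≤ T' → T' ≤ A → IsPGroup p T' → T' ≤ T)
    (β : MulAut G) (hβ : β ∈ A)
    (hq : ∀ τ ∈ T, ∃ τ' ∈ T, quotHom (β * τ * β⁻¹) = quotHom τ') :
    ∀ τ ∈ T, β * τ * β⁻¹ ∈ T := by
  set Tβ : Subgroup (MulAut G) := T.map (MulAut.conj β).toMonoidHom with hTβ
  have hmemTβ : ∀ τ ∈ T, β * τ * β⁻¹ ∈ Tβ := by
    intro τ hτ
    exact ⟨τ, hτ, rfl⟩
  have hTβp : IsPGroup p Tβ := hT.map _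
  have hTβA : Tβ ≤ A := by
    rintro _ ⟨τ, hτ, rfl⟩
    exact A.mul_mem (A.mul_mem hβ (hTA hτ)) (A.inv_mem hβ)
  have hnorm : Tβ ≤ Subgroup.normalizer (T : Set (MulAut G)) := by
    rw [Subgroup.le_normalizer_iff]
    rintro _ ⟨τ, hτ, rfl⟩ τ₂ hτ₂
    obtain ⟨τ', hτ', hq'⟩ := hq τ hτ
    have hσ : (MulAut.conj β).toMonoidHom τ = β * τ * β⁻¹ := rfl
    rw [hσ]
    set σ := β * τ * β⁻¹ with hσdef
    set k := τ'⁻¹ * σ with hk
    have hk1 : quotHom k = 1 := by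
      rw [hk, map_mul, map_inv, hq', inv_mul_cancel]
    -- `[k, τ₂]` is inner
    have hinn : k * τ₂ * k⁻¹ * τ₂⁻¹ ∈ Cfsg.Inn G := by
      apply h.inner_of_trivial hp2
      · rw [← quotHom_eq_one_iff]
        rw [map_mul, map_mul, map_mul, map_inv, hk1]
        simp
      · intro z hz
        exact comm_aut_fix_center h.cyc k τ₂ hz
    have h1 : k * τ₂ * k⁻¹ ∈ T := by
      have : k * τ₂ * k⁻¹ = (k * τ₂ * k⁻¹ * τ₂⁻¹) * τ₂ := by group
      rw [this]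
      exact T.mul_mem (hInn hinn) hτ₂
    have h2 : σ * τ₂ * σ⁻¹ = τ' * (k * τ₂ * k⁻¹) * τ'⁻¹ := by
      rw [hk]; group
    rw [h2]
    exact T.mul_mem (T.mul_mem hτ' h1) (T.inv_mem hτ')
  have hsup : IsPGroup p (T ⊔ Tβ : Subgroup (MulAut G)) :=
    IsPGroup.to_sup_of_normal_left' hT hTβp hnorm
  have hle := hmax (T ⊔ Tβ) le_sup_left (sup_le hTA hTβA) hsup
  intro τ hτ
  exact hle (le_sup_right (a := T) (hmemTβ τ hτ))

/-- The main production lemma. -/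
theorem exists_diag (h : EZT p G) (hp2 : p ≠ 2) (hp3 : p ≠ 3) (A T : Subgroup (MulAut G))
    (hTA : T ≤ A) (hT : IsPGroup p T) (hInn : Cfsg.Inn G ≤ T)
    (hmax : ∀ T' : Subgroup (MulAut G), T ≤ T' → T' ≤ A → IsPGroup p T' → T' ≤ T)
    (hnn : ∃ β ∈ A, ∃ τ ∈ T, β * τ * β⁻¹ ∉ T) :
    ∃ n ∈ A, ∃ y : G, ∃ z ∈ Subgroup.center G, (∀ τ ∈ T, n * τ * n⁻¹ ∈ T) ∧
      (∀ w ∈ Subgroup.center G, n w = w) ∧ (∃ τ ∈ T, y⁻¹ * τ y ∉ Subgroup.center G) ∧
      n y = y ^ ((2 : ZMod p)⁻¹).val * z := by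
  obtain ⟨β, hβ, hβn⟩ := hnn
  -- an element of `T` whose conjugate acts on the quotient unlike any element of `T`
  have h1 : ∃ τ ∈ T, ∀ τ' ∈ T, quotHom (β * τ * β⁻¹) ≠ quotHom τ' := by
    by_contra hcon
    push Not at hcon
    obtain ⟨τ, hτ, hτn⟩ := hβn
    exact hτn (normalizes_of_quot h hp2 A T hTA hT hInn hmax β hβ hcon τ hτ)
  obtain ⟨τ, hτ, hτq⟩ := h1
  have hEA := h.ea
  set ρ : MulAut G →* MulAut (G ⧸ Subgroup.center G) := quotHom with hρ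
  set U : Subgroup (MulAut (G ⧸ Subgroup.center G)) := T.map ρ with hU
  set B : Subgroup (MulAut (G ⧸ Subgroup.center G)) := A.map ρ with hB
  have hUp : IsPGroup p U := hT.map ρ
  set α := ρ τ with hα
  have hαU : α ∈ U := ⟨τ, hτ, rfl⟩
  have hα1 : α ≠ 1 := by
    intro h1
    apply hτq 1 T.one_mem
    rw [map_mul, map_mul, map_inv, ← hα, h1, map_one]
    simp
  obtain ⟨x₀, y₀, a₀, -, -, -, -, -, hαp, hstr⟩ := pgroup_structure hEA U hUp α hαU hα1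
  have hUpow : ∀ σ ∈ U, ∃ i : ℕ, σ = α ^ i := by
    intro σ hσ
    obtain ⟨-, i, -, hi⟩ := hstr σ hσ
    exact ⟨i.val, hi⟩
  set α' := ρ (β * τ * β⁻¹) with hα'
  have hα'eq : α' = ρ β * α * (ρ β)⁻¹ := by
    rw [hα', map_mul, map_mul, map_inv]
  have hα'p : α' ^ p = 1 := by
    rw [hα'eq, conj_pow, hαp, mul_one, mul_inv_cancel]
  have hα'B : α' ∈ B := ⟨_, A.mul_mem (A.mul_mem hβ (hTA hτ)) (A.inv_mem hβ), rfl⟩
  have hαB : α ∈ B := ⟨τ, hTA hτ, rfl⟩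
  have hα'n : α' ∉ Subgroup.zpowers α := by
    intro hmem
    obtain ⟨k, hk⟩ := Subgroup.mem_zpowers_iff.1 hmem
    apply hτq (τ ^ k) (T.zpow_mem hτ k)
    rw [map_zpow]
    exact hk.symm
  obtain ⟨x₁, y₁, hx₁, hy₁, hαx₁, hle⟩ :=
    sl2_coords hEA B α α' hαB hα'B hαp hα'p hα1 hα'n
  obtain ⟨a₁, ha₁⟩ := L1 hEA hx₁ hy₁ α hαp hαx₁
  set e := coordEquiv hEA hx₁ hy₁ with he
  have hlift : ∀ M : SL2 p, ∃ β' ∈ A, ρ β' = phi e M := by
    intro M
    obtain ⟨β', hβ', hβ'e⟩ := hle ⟨M, rfl⟩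
    exact ⟨β', hβ', hβ'e⟩
  -- the subgroup of matrices realized by elements of `A` trivial on the centre
  let T' : Subgroup (SL2 p) :=
    { carrier := {M | ∃ β' ∈ A, (∀ w ∈ Subgroup.center G, β' w = w) ∧ ρ β' = phi e M}
      one_mem' := ⟨1, A.one_mem, fun _ _ => rfl, by rw [map_one, map_one]⟩
      mul_mem' := by
        rintro M₁ M₂ ⟨β₁, hβ₁, hf₁, hr₁⟩ ⟨β₂, hβ₂, hf₂, hr₂⟩
        refine ⟨β₁ * β₂, A.mul_mem hβ₁ hβ₂, ?_, by rw [map_mul, map_mul, hr₁, hr₂]⟩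
        intro w hw
        rw [MulAut.mul_apply, hf₂ w hw, hf₁ w hw]
      inv_mem' := by
        rintro M ⟨β₁, hβ₁, hf₁, hr₁⟩
        refine ⟨β₁⁻¹, A.inv_mem hβ₁, ?_, by rw [map_inv, map_inv, hr₁]⟩
        intro w hw
        have := hf₁ w hw
        calc β₁⁻¹ w = β₁⁻¹ (β₁ w) := by rw [this]
          _ = w := MulAut.inv_apply_self _ _ _ }
  have hcomm : ∀ M₁ M₂ : SL2 p, M₁ * M₂ * M₁⁻¹ * M₂⁻¹ ∈ T' := by
    intro M₁ M₂
    obtain ⟨β₁, hβ₁, hr₁⟩ := hlift M₁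
    obtain ⟨β₂, hβ₂, hr₂⟩ := hlift M₂
    refine ⟨β₁ * β₂ * β₁⁻¹ * β₂⁻¹,
      A.mul_mem (A.mul_mem (A.mul_mem hβ₁ hβ₂) (A.inv_mem hβ₁)) (A.inv_mem hβ₂), ?_, ?_⟩
    · intro w hw
      exact comm_aut_fix_center h.cyc β₁ β₂ hw
    · rw [map_mul, map_mul, map_mul, map_inv, map_inv, hr₁, hr₂, map_mul, map_mul, map_mul,
        map_inv, map_inv]
  have h3 := three_ne_zero_zmod (p := p) hp3
  have h2 := two_ne_zero_zmod (p := p) hp2
  have hT'top : T' = ⊤ := by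
    apply sl2_gen
    · intro t
      have := hcomm (dg hp2) (E12 (3⁻¹ * t))
      rw [comm_dg_E12, ← mul_assoc, mul_inv_cancel₀ h3, one_mul] at this
      exact this
    · intro t
      have hne : ((2 : ZMod p)⁻¹ * 2⁻¹ - 1) ≠ 0 := by
        intro h0
        apply h3
        have h4 : (2 : ZMod p)⁻¹ * 2⁻¹ = 1 := sub_eq_zero.1 h0
        have h5 : (1 : ZMod p) = 2 * 2 := by
          calc (1 : ZMod p) = (2 * 2⁻¹) * (2 * 2⁻¹) := by rw [mul_inv_cancel₀ h2, one_mul]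
            _ = 2 * 2 * (2⁻¹ * 2⁻¹) := by ring
            _ = 2 * 2 := by rw [h4, mul_one]
        have h6 : (3 : ZMod p) = 2 * 2 - 1 := by ring
        rw [h6, ← h5, sub_self]
      have := hcomm (dg hp2) (E21 (t * ((2 : ZMod p)⁻¹ * 2⁻¹ - 1)⁻¹))
      rw [comm_dg_E21] at this
      have hs : t * ((2 : ZMod p)⁻¹ * 2⁻¹ - 1)⁻¹ * (2⁻¹ * 2⁻¹) -
          t * ((2 : ZMod p)⁻¹ * 2⁻¹ - 1)⁻¹ = t := by
        have : t * ((2 : ZMod p)⁻¹ * 2⁻¹ - 1)⁻¹ * (2⁻¹ * 2⁻¹) -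
          t * ((2 : ZMod p)⁻¹ * 2⁻¹ - 1)⁻¹ =
            t * (((2 : ZMod p)⁻¹ * 2⁻¹ - 1)⁻¹ * ((2 : ZMod p)⁻¹ * 2⁻¹ - 1)) := by ring
        rw [this, inv_mul_cancel₀ hne, mul_one]
      rw [hs] at this
      exact this
  have hdgT' : dg hp2 ∈ T' := by rw [hT'top]; exact Subgroup.mem_top _
  obtain ⟨n, hnA, hnZ, hnρ⟩ := hdgT'
  have hDx : ρ n x₁ = x₁ ^ 2 := by rw [hnρ]; exact phi_dg_x hp2 hEA hx₁ hy₁
  have hDy : ρ n y₁ = y₁ ^ ((2 : ZMod p)⁻¹).val := by rw [hnρ]; exact phi_dg_y hp2 hEA hx₁ hy₁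
  have hconj : ρ n * α * (ρ n)⁻¹ = α ^ 4 := conj_unip hp2 hEA hx₁ hy₁ (ρ n) hDx hDy α hαx₁ ha₁
  -- `n` normalizes `T`
  have hnT : ∀ τ₂ ∈ T, n * τ₂ * n⁻¹ ∈ T := by
    apply normalizes_of_quot h hp2 A T hTA hT hInn hmax n hnA
    intro τ₂ hτ₂
    obtain ⟨i, hi⟩ := hUpow (ρ τ₂) ⟨τ₂, hτ₂, rfl⟩
    refine ⟨(τ ^ 4) ^ i, T.pow_mem (T.pow_mem hτ 4) i, ?_⟩
    rw [map_mul, map_mul, map_inv, hi, ← conj_pow, hconj, map_pow, map_pow]
  obtain ⟨y, rfl⟩ := QuotientGroup.mk_surjective y₁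
  have hny : ((n y : G) : G ⧸ Subgroup.center G) =
      ((y ^ ((2 : ZMod p)⁻¹).val : G) : G ⧸ Subgroup.center G) := by
    rw [QuotientGroup.mk_pow, ← hDy]
    rfl
  have hz := QuotientGroup.eq.1 hny.symm
  refine ⟨n, hnA, y, (y ^ ((2 : ZMod p)⁻¹).val)⁻¹ * n y, hz, hnT, hnZ, ⟨τ, hτ, ?_⟩, by group⟩
  intro hcen
  apply hα1
  apply agree hEA hx₁ hy₁
  · rw [hαx₁]; rfl
  · rw [MulAut.one_apply]
    show ρ τ (y : G ⧸ Subgroup.center G) = (y : G ⧸ Subgroup.center G)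
    rw [hρ, quotHom_mk]
    exact (QuotientGroup.eq.2 hcen).symm

end main

end Cfsg.Agent.Helper4.Rk
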