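import Mathlib
import Cfsg.Prelude.Def_CaseTheorems
import Cfsg.Agent.Helper1.NormalEA2
import Cfsg.Agent.Helper4.RkE

set_option autoImplicit false

/-!
The configuration `Q ⊴ N` with `Q` of type `E ∘ Z` and self-centralizing in the `p`-group `N` of
rank at most two: elementwise facts and the kernel of the action on `Q / Z(Q)`.
-/

namespace Cfsg.Agent.Helper4.Rk

open Cfsg.Agent.Lead.EssPSq
open scoped commutatorElement

/-- A normal subgroup of order `p` of a finite `p`-group is central. -/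
theorem normal_card_prime_central {G : Type*} [Group G] [Finite G] (p : ℕ) [hp : Fact p.Prime]
    (hG : IsPGroup p G) (N : Subgroup G) [hN : N.Normal] (hc : Nat.card N = p) :
    ∀ n ∈ N, ∀ g : G, g * n = n * g := by
  have hcyc : IsCyclic N := isCyclic_of_prime_card hc
  let φ : G →* MulAut N := MulAut.conjNormal
  have hφ : ∀ (g : G) (n : N), ((φ g n : N) : G) = g * n * g⁻¹ := fun g n => rfl
  have hcardAut : Nat.card (MulAut N) = p - 1 := by
    rw [IsCyclic.card_mulAut, hc, Nat.totient_prime hp.out]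
  have htriv : ∀ g : G, φ g = 1 := by
    intro g
    obtain ⟨k, hk⟩ := hG g
    have h1 : (φ g) ^ (p ^ k) = 1 := by rw [← map_pow, hk, map_one]
    have h2 : (φ g) ^ (p - 1) = 1 := by
      rw [← hcardAut]; exact pow_card_eq_one'
    have h3 : orderOf (φ g) ∣ Nat.gcd (p ^ k) (p - 1) :=
      Nat.dvd_gcd (orderOf_dvd_of_pow_eq_one h1) (orderOf_dvd_of_pow_eq_one h2)
    have h4 : Nat.gcd (p ^ k) (p - 1) = 1 := by
      apply Nat.Coprime.pow_left
      rw [Nat.Prime.coprime_iff_not_dvd hp.out]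
      intro hd
      have := Nat.le_of_dvd (by have := hp.out.two_le; omega) hd
      have := hp.out.two_le
      omega
    rw [h4, Nat.dvd_one, orderOf_eq_one_iff] at h3
    exact h3
  intro n hn g
  have h1 := hφ g ⟨n, hn⟩
  rw [htriv g] at h1
  have h2 : n = g * n * g⁻¹ := h1
  calc g * n = (g * n * g⁻¹) * g := by group
    _ = n * g := by rw [← h2]

theorem coe_commElt {N : Type*} [Group N] (Q : Subgroup N) (a b : Q) :
    ((⁅a, b⁆ : Q) : N) = ⁅(a : N), (b : N)⁆ := rfl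

/-- The configuration. -/
structure YC (p : ℕ) (N : Type*) [Group N] where
  Q : Subgroup N
  pg : IsPGroup p N
  rk : Cfsg.PRankLE p 2 N
  nQ : Q.Normal
  cent : Subgroup.centralizer (Q : Set N) ≤ Q
  ez : EZT p ↥Q

namespace YC

variable {N : Type*} [Group N] [Finite N] {p : ℕ} [hp : Fact p.Prime] (c : YC p N)

/-- the centre of `Q` -/
def Z : Subgroup N := Subgroup.centralizer (c.Q : Set N)

omit [Finite N] hp in
theorem mem_Z_iff (z : N) : z ∈ c.Z ↔ ∀ q ∈ c.Q, q * z = z * q := Iff.rfl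

omit [Finite N] hp in
theorem Z_le_Q : c.Z ≤ c.Q := c.cent

omit [Finite N] hp in
theorem Z_normal : c.Z.Normal := by
  haveI := c.nQ
  exact Subgroup.normal_centralizer

omit [Finite N] hp in
theorem mem_center_iff (q : c.Q) : q ∈ Subgroup.center c.Q ↔ (q : N) ∈ c.Z := by
  rw [Subgroup.mem_center_iff, mem_Z_iff]
  constructor
  · intro h a ha
    exact congrArg Subtype.val (h ⟨a, ha⟩)
  · intro h a
    exact Subtype.ext (h a a.2)

omit [Finite N] hp in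
theorem Z_comm {z a : N} (hz : z ∈ c.Z) (ha : a ∈ c.Q) : z * a = a * z := ((c.mem_Z_iff z).1 hz a ha).symm

theorem comm_mem {a b : N} (ha : a ∈ c.Q) (hb : b ∈ c.Q) : ⁅a, b⁆ ∈ c.Z := by
  have := c.ez.comm_mem_center ⟨a, ha⟩ ⟨b, hb⟩
  rw [mem_center_iff, coe_commElt] at this
  exact this

theorem comm_pow {a b : N} (ha : a ∈ c.Q) (hb : b ∈ c.Q) : ⁅a, b⁆ ^ p = 1 := by
  have := congrArg Subtype.val (c.ez.comm_pow ⟨a, ha⟩ ⟨b, hb⟩)
  simpa [coe_commElt] using this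

theorem mul_pow_p (hp2 : p ≠ 2) {a b : N} (ha : a ∈ c.Q) (hb : b ∈ c.Q) :
    (a * b) ^ p = a ^ p * b ^ p := by
  have := congrArg Subtype.val (c.ez.mul_pow_p hp2 ⟨a, ha⟩ ⟨b, hb⟩)
  simpa using this

theorem pow_mem_Z {q : N} (hq : q ∈ c.Q) : q ^ p ∈ c.Z := by
  have := c.ez.pow_mem_center ⟨q, hq⟩
  rw [mem_center_iff] at this
  simpa using this

theorem gen {x y g : N} (hx : x ∈ c.Q) (hy : y ∈ c.Q) (hxy : ⁅x, y⁆ ≠ 1) (hg : g ∈ c.Q) :
    ∃ i j : ℕ, ∃ z ∈ c.Z, g = x ^ i * y ^ j * z := by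
  have hxy' : ⁅(⟨x, hx⟩ : c.Q), (⟨y, hy⟩ : c.Q)⁆ ≠ 1 := by
    intro h
    apply hxy
    have := congrArg Subtype.val h
    simpa [coe_commElt] using this
  obtain ⟨i, j, z, hz, hgz⟩ := c.ez.gen hxy' ⟨g, hg⟩
  refine ⟨i, j, z, (c.mem_center_iff z).1 hz, ?_⟩
  have := congrArg Subtype.val hgz
  simpa using this

theorem omega {c₀ z : N} (hc : c₀ ∈ c.Z) (hc1 : c₀ ≠ 1) (hcp : c₀ ^ p = 1) (hz : z ∈ c.Z)
    (hzp : z ^ p = 1) : ∃ n : ℕ, z = c₀ ^ n := by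
  have hc' : (⟨c₀, c.Z_le_Q hc⟩ : c.Q) ∈ Subgroup.center c.Q := (c.mem_center_iff _).2 hc
  have hz' : (⟨z, c.Z_le_Q hz⟩ : c.Q) ∈ Subgroup.center c.Q := (c.mem_center_iff _).2 hz
  have hc1' : (⟨c₀, c.Z_le_Q hc⟩ : c.Q) ≠ 1 := fun h => hc1 (congrArg Subtype.val h)
  obtain ⟨n, hn⟩ := c.ez.center_omega hc' hc1' (Subtype.ext hcp) hz' (Subtype.ext hzp)
  refine ⟨n, ?_⟩
  have := congrArg Subtype.val hn
  simpa using this

omit [Finite N] hp in
theorem split {q : N} (hq : q ∈ c.Q) : ∃ e ∈ c.Q, ∃ z ∈ c.Z, e ^ p = 1 ∧ q = e * z := by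
  obtain ⟨e, z, he, hz, hqe⟩ := c.ez.split ⟨q, hq⟩
  refine ⟨e, e.2, z, (c.mem_center_iff z).1 hz, ?_, ?_⟩
  · have := congrArg Subtype.val he
    simpa using this
  · have := congrArg Subtype.val hqe
    simpa using this

theorem exists_noncomm_exp : ∃ x ∈ c.Q, ∃ y ∈ c.Q, x ^ p = 1 ∧ y ^ p = 1 ∧ ⁅x, y⁆ ≠ 1 := by
  obtain ⟨x, y, hx, hy, hxy⟩ := c.ez.exists_noncomm_exp
  refine ⟨x, x.2, y, y.2, ?_, ?_, ?_⟩
  · have := congrArg Subtype.val hx
    simpa using this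
  · have := congrArg Subtype.val hy
    simpa using this
  · intro h
    apply hxy
    apply Subtype.ext
    rw [coe_commElt]
    exact h

theorem comm_mul_right {a b d : N} (ha : a ∈ c.Q) (hb : b ∈ c.Q) (hd : d ∈ c.Q) :
    ⁅a, b * d⁆ = ⁅a, b⁆ * ⁅a, d⁆ := by
  have := congrArg Subtype.val
    (AutOrb.comm_mul_right c.ez.commutator_le ⟨a, ha⟩ ⟨b, hb⟩ ⟨d, hd⟩)
  simpa [coe_commElt] using this

theorem comm_mul_left {a b d : N} (ha : a ∈ c.Q) (hb : b ∈ c.Q) (hd : d ∈ c.Q) :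
    ⁅a * b, d⁆ = ⁅a, d⁆ * ⁅b, d⁆ := by
  have h1 := c.comm_mul_right hd ha hb
  have h2 : ⁅a * b, d⁆ = (⁅d, a * b⁆)⁻¹ := (commutatorElement_inv d (a * b)).symm
  rw [h2, h1, mul_inv_rev, commutatorElement_inv, commutatorElement_inv]
  exact c.Z_comm (c.comm_mem hb hd) (c.Z_le_Q (c.comm_mem ha hd))

theorem comm_pow_right {a b : N} (ha : a ∈ c.Q) (hb : b ∈ c.Q) (n : ℕ) :
    ⁅a, b ^ n⁆ = ⁅a, b⁆ ^ n := by
  have := congrArg Subtype.val (AutOrb.comm_pow_right c.ez.commutator_le ⟨a, ha⟩ ⟨b, hb⟩ n)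
  simpa [coe_commElt] using this

theorem comm_pow_left {a b : N} (ha : a ∈ c.Q) (hb : b ∈ c.Q) (n : ℕ) :
    ⁅a ^ n, b⁆ = ⁅a, b⁆ ^ n := by
  have := congrArg Subtype.val (AutOrb.comm_pow_left c.ez.commutator_le ⟨a, ha⟩ ⟨b, hb⟩ n)
  simpa [coe_commElt] using this

omit [Finite N] hp in
theorem comm_Z_left {z a : N} (hz : z ∈ c.Z) (ha : a ∈ c.Q) : ⁅z, a⁆ = 1 := by
  rw [commutatorElement_eq_one_iff_mul_comm]
  exact c.Z_comm hz ha

omit [Finite N] hp in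
theorem comm_Z_right {z a : N} (hz : z ∈ c.Z) (ha : a ∈ c.Q) : ⁅a, z⁆ = 1 := by
  rw [commutatorElement_eq_one_iff_mul_comm]
  exact (c.Z_comm hz ha).symm

/-- conjugation of `x` by a power of `y` -/
theorem conj_pow_y {x y : N} (hx : x ∈ c.Q) (hy : y ∈ c.Q) (b : ℕ) :
    y ^ b * x * (y ^ b)⁻¹ = x * (⁅x, y⁆⁻¹) ^ b := by
  have hcen : (⁅(⟨x, hx⟩ : c.Q), (⟨y, hy⟩ : c.Q)⁆) ∈ Subgroup.center c.Q :=
    c.ez.comm_mem_center _ _
  have := congrArg Subtype.val (conj_pow_left_of_central rfl hcen b)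
  simpa [coe_commElt] using this

/-- conjugation of `y` by a power of `x` -/
theorem conj_pow_x {x y : N} (hx : x ∈ c.Q) (hy : y ∈ c.Q) (a : ℕ) :
    x ^ a * y * (x ^ a)⁻¹ = y * ⁅x, y⁆ ^ a := by
  have hcen : (⁅(⟨x, hx⟩ : c.Q), (⟨y, hy⟩ : c.Q)⁆) ∈ Subgroup.center c.Q :=
    c.ez.comm_mem_center _ _
  have := congrArg Subtype.val (conj_pow_right_of_central rfl hcen a)
  simpa [coe_commElt] using this

end YC

end Cfsg.Agent.Helper4.Rk
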