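import Mathlib
import Cfsg.Agent.Helper4.RkF

set_option autoImplicit false

/-!
The configuration `Q ⊴ N`: the kernel of the action of `N` on `Q / Z(Q)` is `Q` (rank argument).
-/

namespace Cfsg.Agent.Helper4.Rk

open Cfsg.Agent.Lead.EssPSq
open scoped commutatorElement

/-- A commuting set of elements of order dividing `p` generating a group properly containing a
subgroup of order at least `p²` contradicts rank two. -/
theorem rank_contra {N : Type*} [Group N] [Finite N] {p : ℕ} (hrk : Cfsg.PRankLE p 2 N)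
    (k : Set N) (hcomm : ∀ a ∈ k, ∀ b ∈ k, a * b = b * a) (hexp : ∀ a ∈ k, a ^ p = 1)
    (A₀ : Subgroup N) (hA₀ : A₀ ≤ Subgroup.closure k) (hcard : p ^ 2 ≤ Nat.card A₀) (x : N)
    (hx : x ∈ Subgroup.closure k) (hxA : x ∉ A₀) : False := by
  have hab : IsMulCommutative (Subgroup.closure k) := Subgroup.isMulCommutative_closure hcomm
  have hcm : ∀ a ∈ Subgroup.closure k, ∀ b ∈ Subgroup.closure k, a * b = b * a := by
    intro a ha b hb
    have := hab.is_comm.comm ⟨a, ha⟩ ⟨b, hb⟩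
    exact congrArg Subtype.val this
  have hex : ∀ a ∈ Subgroup.closure k, a ^ p = 1 := by
    intro a ha
    induction ha using Subgroup.closure_induction with
    | mem a ha => exact hexp a ha
    | one => exact one_pow p
    | mul a b ha hb iha ihb =>
      rw [(show Commute a b from hcm a ha b hb).mul_pow, iha, ihb, one_mul]
    | inv a _ iha => rw [inv_pow, iha, inv_one]
  have h1 := hrk (Subgroup.closure k) hab hex
  have h2 := Subgroup.eq_of_le_of_card_ge hA₀ (h1.trans hcard)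
  rw [← h2] at hx
  exact hxA hx

namespace YC

variable {N : Type*} [Group N] [Finite N] {p : ℕ} [hp : Fact p.Prime] (c : YC p N)

/-- the displacement of an element of order dividing `p` under an element acting trivially on
`Q / Z` -/
theorem disp_of_trivial {g x y : N} (hx : x ∈ c.Q) (hy : y ∈ c.Q) (hxy : ⁅x, y⁆ ≠ 1)
    {u : N} (hu : u ∈ c.Q) (hup : u ^ p = 1) (hgu : ⁅g, u⁆ ∈ c.Z) :
    ∃ n : ℕ, g * u * g⁻¹ = u * ⁅x, y⁆ ^ n := by
  have hw : g * u * g⁻¹ = u * ⁅g, u⁆ := by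
    rw [← c.Z_comm hgu hu, commutatorElement_def]
    group
  have hwp : ⁅g, u⁆ ^ p = 1 := by
    have h1 : (g * u * g⁻¹) ^ p = 1 := by rw [conj_pow, hup, mul_one, mul_inv_cancel]
    rw [hw, (show Commute u ⁅g, u⁆ from (c.Z_comm hgu hu).symm).mul_pow, hup, one_mul] at h1
    exact h1
  obtain ⟨n, hn⟩ := c.omega (c.comm_mem hx hy) hxy (c.comm_pow hx hy) hgu hwp
  exact ⟨n, by rw [hw, hn]⟩

/-- an element of `Q` inducing prescribed central displacements on `x` and `y` -/
theorem exists_inner {x y : N} (hx : x ∈ c.Q) (hy : y ∈ c.Q) (m₁ m₂ : ℕ) :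
    ∃ e ∈ c.Q, e * x * e⁻¹ = x * ⁅x, y⁆ ^ m₁ ∧ e * y * e⁻¹ = y * ⁅x, y⁆ ^ m₂ := by
  set cc := ⁅x, y⁆ with hcc
  have hccZ : cc ∈ c.Z := c.comm_mem hx hy
  have hccp : cc ^ p = 1 := c.comm_pow hx hy
  have hcinv : (cc⁻¹) ^ (p - 1) = cc := by
    have h1 : cc ^ (p - 1) * cc = 1 := by
      rw [← pow_succ, Nat.sub_add_cancel hp.out.one_lt.le, hccp]
    rw [inv_pow, inv_eq_iff_eq_inv, eq_inv_iff_mul_eq_one]
    exact h1
  refine ⟨x ^ m₂ * y ^ (m₁ * (p - 1)), c.Q.mul_mem (c.Q.pow_mem hx _) (c.Q.pow_mem hy _), ?_, ?_⟩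
  · have h1 := c.conj_pow_y hx hy (m₁ * (p - 1))
    have hcm : (cc⁻¹) ^ (m₁ * (p - 1)) = cc ^ m₁ := by
      rw [mul_comm, pow_mul, hcinv]
    rw [← hcc, hcm] at h1
    have hcm' : cc ^ m₁ ∈ c.Z := c.Z.pow_mem hccZ _
    calc (x ^ m₂ * y ^ (m₁ * (p - 1))) * x * (x ^ m₂ * y ^ (m₁ * (p - 1)))⁻¹
        = x ^ m₂ * (y ^ (m₁ * (p - 1)) * x * (y ^ (m₁ * (p - 1)))⁻¹) * (x ^ m₂)⁻¹ := by group
      _ = x ^ m₂ * (x * cc ^ m₁) * (x ^ m₂)⁻¹ := by rw [h1]
      _ = x ^ m₂ * x * (cc ^ m₁ * (x ^ m₂)⁻¹) := by simp only [mul_assoc]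
      _ = x ^ m₂ * x * ((x ^ m₂)⁻¹ * cc ^ m₁) := by
          rw [c.Z_comm hcm' (c.Q.inv_mem (c.Q.pow_mem hx m₂))]
      _ = x ^ m₂ * x * (x ^ m₂)⁻¹ * cc ^ m₁ := by simp only [mul_assoc]
      _ = x * cc ^ m₁ := by
          have h5 : x ^ m₂ * x * (x ^ m₂)⁻¹ = x := by
            rw [← pow_succ, pow_succ', mul_assoc, mul_inv_cancel, mul_one]
          rw [h5]
  · have h1 := c.conj_pow_x hx hy m₂
    calc (x ^ m₂ * y ^ (m₁ * (p - 1))) * y * (x ^ m₂ * y ^ (m₁ * (p - 1)))⁻¹
        = x ^ m₂ * (y ^ (m₁ * (p - 1)) * y * (y ^ (m₁ * (p - 1)))⁻¹) * (x ^ m₂)⁻¹ := by group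
      _ = x ^ m₂ * y * (x ^ m₂)⁻¹ := by
          have h5 : y ^ (m₁ * (p - 1)) * y * (y ^ (m₁ * (p - 1)))⁻¹ = y := by
            rw [← pow_succ, pow_succ', mul_assoc, mul_inv_cancel, mul_one]
          rw [h5]
      _ = y * cc ^ m₂ := h1

/-- an element commuting with two noncommuting elements of `Q` and with `Z` lies in `Z` -/
theorem mem_Z_of_comm {x y g : N} (hx : x ∈ c.Q) (hy : y ∈ c.Q) (hxy : ⁅x, y⁆ ≠ 1)
    (hgx : g * x = x * g) (hgy : g * y = y * g) (hgZ : ∀ z ∈ c.Z, g * z = z * g) : g ∈ c.Z := by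
  rw [mem_Z_iff]
  intro q hq
  obtain ⟨i, j, z, hz, rfl⟩ := c.gen hx hy hxy hq
  have h1 : Commute g (x ^ i * y ^ j * z) :=
    (((show Commute g x from hgx).pow_right i).mul_right
      ((show Commute g y from hgy).pow_right j)).mul_right (hgZ z hz)
  exact h1.eq.symm

/-- The kernel of the action of `N` on `Q / Z` is `Q`. -/
theorem mem_Q_of_trivial (hp2 : p ≠ 2) {g : N} (hg : ∀ q ∈ c.Q, ⁅g, q⁆ ∈ c.Z) : g ∈ c.Q := by
  obtain ⟨x, hx, y, hy, hxp, hyp, hxy⟩ := c.exists_noncomm_exp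
  obtain ⟨m₁, hm₁⟩ := c.disp_of_trivial hx hy hxy hx hxp (hg x hx)
  obtain ⟨m₂, hm₂⟩ := c.disp_of_trivial hx hy hxy hy hyp (hg y hy)
  obtain ⟨e, heQ, hex, hey⟩ := c.exists_inner hx hy m₁ m₂
  set g' := e⁻¹ * g with hg'
  have hg'x : g' * x = x * g' := by
    have h1 : g' * x * g'⁻¹ = x := by
      calc g' * x * g'⁻¹ = e⁻¹ * (g * x * g⁻¹) * e := by rw [hg']; group
        _ = e⁻¹ * (e * x * e⁻¹) * e := by rw [hm₁, hex]
        _ = x := by group
    calc g' * x = (g' * x * g'⁻¹) * g' := by group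
      _ = x * g' := by rw [h1]
  have hg'y : g' * y = y * g' := by
    have h1 : g' * y * g'⁻¹ = y := by
      calc g' * y * g'⁻¹ = e⁻¹ * (g * y * g⁻¹) * e := by rw [hg']; group
        _ = e⁻¹ * (e * y * e⁻¹) * e := by rw [hm₂, hey]
        _ = y := by group
    calc g' * y = (g' * y * g'⁻¹) * g' := by group
      _ = y * g' := by rw [h1]
  -- the group generated by `g'` and `Z` is cyclic
  set D : Subgroup N := Subgroup.zpowers g' ⊔ c.Z with hD
  have hDx : ∀ d ∈ D, d * x = x * d := by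
    have : D ≤ Subgroup.centralizer ({x} : Set N) := by
      rw [hD, sup_le_iff]
      constructor
      · rw [Subgroup.zpowers_le, Subgroup.mem_centralizer_iff]
        intro h hh
        rw [Set.mem_singleton_iff] at hh
        rw [hh]; exact hg'x.symm
      · intro z hz
        rw [Subgroup.mem_centralizer_iff]
        intro h hh
        rw [Set.mem_singleton_iff] at hh
        rw [hh]; exact (c.Z_comm hz hx).symm
    intro d hd
    have := this hd
    rw [Subgroup.mem_centralizer_iff] at this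
    exact (this x rfl).symm
  have hDy : ∀ d ∈ D, d * y = y * d := by
    have : D ≤ Subgroup.centralizer ({y} : Set N) := by
      rw [hD, sup_le_iff]
      constructor
      · rw [Subgroup.zpowers_le, Subgroup.mem_centralizer_iff]
        intro h hh
        rw [Set.mem_singleton_iff] at hh
        rw [hh]; exact hg'y.symm
      · intro z hz
        rw [Subgroup.mem_centralizer_iff]
        intro h hh
        rw [Set.mem_singleton_iff] at hh
        rw [hh]; exact (c.Z_comm hz hy).symm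
    intro d hd
    have := this hd
    rw [Subgroup.mem_centralizer_iff] at this
    exact (this y rfl).symm
  have hxD : x ∉ D := by
    intro hxD
    apply hxy
    rw [commutatorElement_eq_one_iff_mul_comm]
    exact hDy x hxD
  have hcyc : IsCyclic D := by
    by_contra hnc
    obtain ⟨A, -, ⟨hAab, hAexp⟩, hAcard⟩ :=
      Cfsg.Agent.Helper1.exists_normal_elementary_p2_top hp2 (c.pg.to_subgroup D) hnc
    set A' : Subgroup N := A.map D.subtype with hA'
    have hA'D : A' ≤ D := by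
      rintro _ ⟨a, -, rfl⟩
      exact a.2
    have hA'card : Nat.card A' = p ^ 2 := by
      rw [hA', Subgroup.card_map_of_injective D.subtype_injective, hAcard]
    have hA'comm : ∀ a ∈ A', ∀ b ∈ A', a * b = b * a := by
      rintro _ ⟨a, ha, rfl⟩ _ ⟨b, hb, rfl⟩
      have := hAab.is_comm.comm ⟨a, ha⟩ ⟨b, hb⟩
      have h2 := congrArg Subtype.val this
      exact congrArg Subtype.val h2
    have hA'exp : ∀ a ∈ A', a ^ p = 1 := by
      rintro _ ⟨a, ha, rfl⟩
      have := hAexp a ha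
      exact congrArg Subtype.val this
    apply rank_contra c.rk ((A' : Set N) ∪ {x}) ?_ ?_ A' ?_ hA'card.ge x ?_ ?_
    · intro a ha b hb
      rcases ha with ha | ha <;> rcases hb with hb | hb
      · exact hA'comm a ha b hb
      · rw [Set.mem_singleton_iff] at hb
        rw [hb]; exact hDx a (hA'D ha)
      · rw [Set.mem_singleton_iff] at ha
        rw [ha]; exact (hDx b (hA'D hb)).symm
      · rw [Set.mem_singleton_iff] at ha hb
        rw [ha, hb]
    · intro a ha
      rcases ha with ha | ha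
      · exact hA'exp a ha
      · rw [Set.mem_singleton_iff] at ha
        rw [ha]; exact hxp
    · intro a ha
      exact Subgroup.subset_closure (Or.inl ha)
    · exact Subgroup.subset_closure (Or.inr rfl)
    · intro hxA
      exact hxD (hA'D hxA)
  have hg'D : g' ∈ D := (le_sup_left : Subgroup.zpowers g' ≤ D) (Subgroup.mem_zpowers g')
  have hg'Z : ∀ z ∈ c.Z, g' * z = z * g' := by
    intro z hz
    have hzD : z ∈ D := (le_sup_right : c.Z ≤ D) hz
    have := hcyc.commGroup.mul_comm ⟨g', hg'D⟩ ⟨z, hzD⟩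
    exact congrArg Subtype.val this
  have hg'mem : g' ∈ c.Z := c.mem_Z_of_comm hx hy hxy hg'x hg'y hg'Z
  have : g = e * g' := by rw [hg']; group
  rw [this]
  exact c.Q.mul_mem heQ (c.Z_le_Q hg'mem)

end YC

end Cfsg.Agent.Helper4.Rk
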