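import Mathlib
import Cfsg.Agent.Helper4.RkG

set_option autoImplicit false

/-!
The configuration `Q ⊴ N`: the action of `N` on `V = Q / Z(Q)`; `N / Q` has order `p` and fixes a
unique line of `V`.
-/

namespace Cfsg.Agent.Helper4.Rk

open Cfsg.Agent.Lead.EssPSq
open scoped commutatorElement

/-- restriction of an automorphism to an invariant subgroup -/
def resAut {N : Type*} [Group N] (Q : Subgroup N) (δ : MulAut N) (h : ∀ q, δ q ∈ Q ↔ q ∈ Q) :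
    MulAut Q where
  toFun q := ⟨δ q, (h q).2 q.2⟩
  invFun q := ⟨δ⁻¹ q, by
    have := h (δ⁻¹ q)
    rw [MulAut.apply_inv_self] at this
    exact this.1 q.2⟩
  left_inv q := by apply Subtype.ext; simp
  right_inv q := by apply Subtype.ext; simp
  map_mul' a b := by apply Subtype.ext; simp

theorem resAut_apply {N : Type*} [Group N] (Q : Subgroup N) (δ : MulAut N)
    (h : ∀ q, δ q ∈ Q ↔ q ∈ Q) (q : Q) : ((resAut Q δ h q : Q) : N) = δ q := rfl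

namespace YC

variable {N : Type*} [Group N] [Finite N] {p : ℕ} [hp : Fact p.Prime] (c : YC p N)

/-- the action of `N` on `Q / Z(Q)` -/
noncomputable def kap : N →* MulAut (c.Q ⧸ Subgroup.center c.Q) :=
  haveI := c.nQ
  quotHom.comp MulAut.conjNormal

omit [Finite N] hp in
theorem kap_mk (g : N) (q : c.Q) :
    c.kap g (q : c.Q ⧸ Subgroup.center c.Q) =
      ((⟨g * q * g⁻¹, c.nQ.conj_mem q q.2 g⟩ : c.Q) : c.Q ⧸ Subgroup.center c.Q) := rfl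

omit [Finite N] hp in
theorem mk_eq_mk_iff (a b : c.Q) :
    (a : c.Q ⧸ Subgroup.center c.Q) = (b : c.Q ⧸ Subgroup.center c.Q) ↔
      (a : N)⁻¹ * (b : N) ∈ c.Z := by
  rw [QuotientGroup.eq, mem_center_iff]
  rfl

omit [Finite N] hp in
theorem mk_eq_one_iff (a : c.Q) :
    (a : c.Q ⧸ Subgroup.center c.Q) = 1 ↔ (a : N) ∈ c.Z := by
  rw [QuotientGroup.eq_one_iff, mem_center_iff]

omit [Finite N] hp in
/-- `⁅g, q⁆ ∈ Z` in terms of the other displacement -/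
theorem comm_mem_Z_iff (g q : N) : ⁅g, q⁆ ∈ c.Z ↔ q⁻¹ * (g * q * g⁻¹) ∈ c.Z := by
  haveI := c.Z_normal
  have h1 : q⁻¹ * (g * q * g⁻¹) = q⁻¹ * ⁅g, q⁆ * q⁻¹⁻¹ := by
    rw [commutatorElement_def]; group
  rw [h1]
  constructor
  · intro h
    exact c.Z_normal.conj_mem _ h _
  · intro h
    have := c.Z_normal.conj_mem _ h q
    have h2 : q * (q⁻¹ * ⁅g, q⁆ * q⁻¹⁻¹) * q⁻¹ = ⁅g, q⁆ := by group
    rwa [h2] at this

omit [Finite N] hp in
theorem kap_fix_iff (g : N) (q : c.Q) :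
    c.kap g (q : c.Q ⧸ Subgroup.center c.Q) = (q : c.Q ⧸ Subgroup.center c.Q) ↔
      ⁅g, (q : N)⁆ ∈ c.Z := by
  rw [kap_mk, eq_comm, mk_eq_mk_iff, comm_mem_Z_iff]

theorem kap_eq_one_iff (hp2 : p ≠ 2) (g : N) : c.kap g = 1 ↔ g ∈ c.Q := by
  constructor
  · intro h
    apply c.mem_Q_of_trivial hp2
    intro q hq
    rw [← c.kap_fix_iff g ⟨q, hq⟩, h]
    rfl
  · intro hg
    ext v
    obtain ⟨q, rfl⟩ := QuotientGroup.mk_surjective v
    rw [MulAut.one_apply, kap_fix_iff]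
    exact c.comm_mem hg q.2

theorem isPGroup_range : IsPGroup p c.kap.range :=
  c.pg.of_surjective c.kap.rangeRestrict c.kap.rangeRestrict_surjective

/-- every element of `N` is a power of a given element outside `Q`, modulo `Q` -/
theorem exists_pow_mod (hp2 : p ≠ 2) {s : N} (hs : s ∉ c.Q) (g : N) :
    ∃ i : ℕ, g * (s ^ i)⁻¹ ∈ c.Q := by
  have hs1 : c.kap s ≠ 1 := fun h => hs ((c.kap_eq_one_iff hp2 s).1 h)
  obtain ⟨x, y, a, -, -, -, -, -, -, hstr⟩ :=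
    pgroup_structure c.ez.ea c.kap.range c.isPGroup_range (c.kap s) ⟨s, rfl⟩ hs1
  obtain ⟨-, i, -, hi⟩ := hstr (c.kap g) ⟨g, rfl⟩
  refine ⟨i.val, ?_⟩
  rw [← c.kap_eq_one_iff hp2, map_mul, map_inv, map_pow, hi, mul_inv_cancel]

/-- `N / Q` has exponent `p` -/
theorem pow_p_mem (hp2 : p ≠ 2) (s : N) : s ^ p ∈ c.Q := by
  by_cases hs : s ∈ c.Q
  · exact c.Q.pow_mem hs p
  · have hs1 : c.kap s ≠ 1 := fun h => hs ((c.kap_eq_one_iff hp2 s).1 h)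
    obtain ⟨x, y, a, -, -, -, -, -, hp', -⟩ :=
      pgroup_structure c.ez.ea c.kap.range c.isPGroup_range (c.kap s) ⟨s, rfl⟩ hs1
    rw [← c.kap_eq_one_iff hp2, map_pow, hp']

/-- the line of `Q / Z` fixed by `N` -/
theorem exists_fixed_line (hp2 : p ≠ 2) (hQtop : c.Q ≠ ⊤) :
    ∃ x ∈ c.Q, x ^ p = 1 ∧ x ∉ c.Z ∧ (∀ g : N, ⁅g, x⁆ ∈ c.Z) ∧
      ∀ l ∈ c.Q, (∀ g : N, ⁅g, l⁆ ∈ c.Z) → ∃ j : ℕ, ∃ z ∈ c.Z, l = x ^ j * z := by
  obtain ⟨t, ht⟩ : ∃ t : N, t ∉ c.Q := by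
    by_contra hcon
    push Not at hcon
    exact hQtop (eq_top_iff.2 fun g _ => hcon g)
  have ht1 : c.kap t ≠ 1 := fun h => ht ((c.kap_eq_one_iff hp2 t).1 h)
  obtain ⟨xb, yb, a, hxb, hyb, ha, hαx, hαy, -, hstr⟩ :=
    pgroup_structure c.ez.ea c.kap.range c.isPGroup_range (c.kap t) ⟨t, rfl⟩ ht1
  obtain ⟨x₀, rfl⟩ := QuotientGroup.mk_surjective xb
  obtain ⟨e, z, he, hz, hx₀⟩ := c.ez.split x₀
  have hmk : (x₀ : c.Q ⧸ Subgroup.center c.Q) = (e : c.Q ⧸ Subgroup.center c.Q) := by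
    rw [hx₀, QuotientGroup.mk_mul, (QuotientGroup.eq_one_iff z).2 hz, mul_one]
  rw [hmk] at hxb hyb hαx hαy hstr
  refine ⟨(e : N), e.2, ?_, ?_, ?_, ?_⟩
  · have := congrArg Subtype.val he
    simpa using this
  · intro hmem
    exact hxb ((c.mk_eq_one_iff e).2 hmem)
  · intro g
    rw [← c.kap_fix_iff g e]
    exact (hstr (c.kap g) ⟨g, rfl⟩).1
  · intro l hl hfix
    have h1 : c.kap t ((⟨l, hl⟩ : c.Q) : c.Q ⧸ Subgroup.center c.Q) =
        ((⟨l, hl⟩ : c.Q) : c.Q ⧸ Subgroup.center c.Q) := by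
      rw [c.kap_fix_iff]
      exact hfix t
    have h2 := fixed_of_unip c.ez.ea hxb hyb (c.kap t) hαx ha hαy _ h1
    rw [← mem_powers_iff_mem_zpowers] at h2
    obtain ⟨j, hj⟩ := h2
    refine ⟨j, ((e : N) ^ j)⁻¹ * l, ?_, by group⟩
    have h3 : ((e ^ j : c.Q) : c.Q ⧸ Subgroup.center c.Q) =
        ((⟨l, hl⟩ : c.Q) : c.Q ⧸ Subgroup.center c.Q) := by
      rw [QuotientGroup.mk_pow]; exact hj
    have := (c.mk_eq_mk_iff _ _).1 h3
    simpa using this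

end YC

end Cfsg.Agent.Helper4.Rk
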