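import Mathlib
import Cfsg.Agent.Helper4.RkH

set_option autoImplicit false

/-!
The configuration `Q ⊴ N` with an automorphism `δ` of `N` preserving `Q`: the eigenvalue relation
on `Q / Z(Q)` and elementwise preparations.
-/

namespace Cfsg.Agent.Helper4.Rk

open Cfsg.Agent.Lead.EssPSq
open scoped commutatorElement

/-- exponents of an element of order `p` outside a subgroup are determined modulo `p` -/
theorem natCast_eq_of_pow_mem {G : Type*} [Group G] {p : ℕ} [hp : Fact p.Prime] (Z : Subgroup G)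
    {x : G} (hxp : x ^ p = 1) (hxZ : x ∉ Z) {m n : ℕ} (h : (x ^ n)⁻¹ * x ^ m ∈ Z) :
    (m : ZMod p) = n := by
  by_contra hne
  apply hxZ
  have hi : ((m : ZMod p) - n) ≠ 0 := sub_ne_zero.2 hne
  apply mem_of_pow_val_mem hxp hi Z
  have : x ^ ((m : ZMod p) - n).val = (x ^ n)⁻¹ * x ^ m := by
    rw [eq_inv_mul_iff_mul_eq, ← pow_val_natCast hxp n, ← pow_val_add hxp, add_sub_cancel,
      pow_val_natCast hxp]
  rw [this]
  exact h

/-- the eigenvalue relation -/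
theorem vrel {H : Type*} [Group H] [Finite H] {p : ℕ} [hp : Fact p.Prime] (h : EA p H) {x y : H}
    (hx : x ≠ 1) (hy : y ∉ Subgroup.zpowers x) (α D : MulAut H) (hαx : α x = x) {a : ZMod p}
    (ha : a ≠ 0) (hαy : α y = x ^ a.val * y) (b k μ : ℕ) (hDx : D x = x ^ b) (hDy : D y = y ^ k)
    (hDα : D * α = α ^ μ * D) : (b : ZMod p) = μ * k := by
  have h1 : (D * α) y = (α ^ μ * D) y := by rw [hDα]
  rw [MulAut.mul_apply, MulAut.mul_apply, hαy, map_mul, map_pow, hDx, hDy, map_pow,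
    (pow_formula h α hαx hαy μ).2,
    (show Commute (x ^ ((μ : ZMod p) * a).val) y from h.comm _ _).mul_pow] at h1
  have h2 : (x ^ b) ^ a.val = (x ^ ((μ : ZMod p) * a).val) ^ k := mul_right_cancel h1
  have hxp := h.exp x
  have h3 : x ^ ((b : ZMod p) * a).val * y ^ (0 : ZMod p).val =
      x ^ ((μ : ZMod p) * a * k).val * y ^ (0 : ZMod p).val := by
    rw [ZMod.val_zero, pow_zero, mul_one, mul_one, pow_val_mul hxp, pow_val_natCast hxp, h2,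
      pow_val_mul hxp (μ * a) k, pow_val_natCast (h.exp _)]
  obtain ⟨h4, -⟩ := coord_inj h hx hy h3
  have h5 : (b : ZMod p) * a = (μ * k) * a := by rw [h4]; ring
  exact mul_right_cancel₀ ha h5

namespace YC

variable {N : Type*} [Group N] [Finite N] {p : ℕ} [hp : Fact p.Prime] (c : YC p N)

omit [Finite N] hp in
/-- an automorphism preserving `Q` preserves `Z` -/
theorem aut_Z (δ : MulAut N) (hδQ : ∀ q, δ q ∈ c.Q ↔ q ∈ c.Q) {z : N} (hz : z ∈ c.Z) :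
    δ z ∈ c.Z := by
  rw [mem_Z_iff]
  intro q hq
  have hq' : δ⁻¹ q ∈ c.Q := by
    rw [← hδQ, MulAut.apply_inv_self]; exact hq
  have h1 := (c.mem_Z_iff z).1 hz _ hq'
  have h2 := congrArg δ h1
  rw [map_mul, map_mul, MulAut.apply_inv_self] at h2
  exact h2

omit [Finite N] hp in
theorem aut_fixed (δ : MulAut N) (hδQ : ∀ q, δ q ∈ c.Q ↔ q ∈ c.Q) {l : N}
    (hl : ∀ g : N, ⁅g, l⁆ ∈ c.Z) (g : N) : ⁅g, δ l⁆ ∈ c.Z := by
  have h1 := c.aut_Z δ hδQ (hl (δ⁻¹ g))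
  rw [map_commutatorElement, MulAut.apply_inv_self] at h1
  exact h1

omit [Finite N] hp in
/-- the induced automorphism of `Q / Z(Q)` intertwines the action of `N` -/
theorem kap_aut (δ : MulAut N) (hδQ : ∀ q, δ q ∈ c.Q ↔ q ∈ c.Q) (g : N) :
    quotHom (resAut c.Q δ hδQ) * c.kap g = c.kap (δ g) * quotHom (resAut c.Q δ hδQ) := by
  ext v
  obtain ⟨q, rfl⟩ := QuotientGroup.mk_surjective v
  rw [MulAut.mul_apply, MulAut.mul_apply, kap_mk, quotHom_mk, quotHom_mk, kap_mk]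
  congr 1
  apply Subtype.ext
  simp [resAut_apply]

theorem kap_aut_pow (hp2 : p ≠ 2) (δ : MulAut N) {t : N} {μ : ℕ}
    (hμ : δ t * (t ^ μ)⁻¹ ∈ c.Q) : c.kap (δ t) = c.kap t ^ μ := by
  have h1 := (c.kap_eq_one_iff hp2 _).2 hμ
  rw [map_mul, map_inv, map_pow, mul_inv_eq_one] at h1
  exact h1

/-- coordinates of `Q` modulo `Z` -/
theorem coords {x y : N} (hx : x ∈ c.Q) (hy : y ∈ c.Q)
    (hxb : ((⟨x, hx⟩ : c.Q) : c.Q ⧸ Subgroup.center c.Q) ≠ 1)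
    (hyb : ((⟨y, hy⟩ : c.Q) : c.Q ⧸ Subgroup.center c.Q) ∉
      Subgroup.zpowers ((⟨x, hx⟩ : c.Q) : c.Q ⧸ Subgroup.center c.Q)) {q : N} (hq : q ∈ c.Q) :
    ∃ i j : ℕ, ∃ z ∈ c.Z, q = x ^ i * y ^ j * z := by
  obtain ⟨i, j, hij⟩ := exists_coord c.ez.ea hxb hyb ((⟨q, hq⟩ : c.Q) : c.Q ⧸ Subgroup.center c.Q)
  rw [← QuotientGroup.mk_pow, ← QuotientGroup.mk_pow, ← QuotientGroup.mk_mul, eq_comm,
    mk_eq_mk_iff] at hij
  refine ⟨i.val, j.val, _, hij, ?_⟩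
  simp only [Subgroup.coe_mul, Subgroup.coe_pow]
  group

/-- independent elements of `Q / Z` do not commute -/
theorem comm_ne_one {x y : N} (hx : x ∈ c.Q) (hy : y ∈ c.Q)
    (hxb : ((⟨x, hx⟩ : c.Q) : c.Q ⧸ Subgroup.center c.Q) ≠ 1)
    (hyb : ((⟨y, hy⟩ : c.Q) : c.Q ⧸ Subgroup.center c.Q) ∉
      Subgroup.zpowers ((⟨x, hx⟩ : c.Q) : c.Q ⧸ Subgroup.center c.Q)) : ⁅x, y⁆ ≠ 1 := by
  intro hcomm
  rw [commutatorElement_eq_one_iff_mul_comm] at hcomm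
  obtain ⟨x', hx', y', hy', -, -, hne⟩ := c.exists_noncomm_exp
  apply hne
  rw [commutatorElement_eq_one_iff_mul_comm]
  obtain ⟨i₁, j₁, z₁, hz₁, rfl⟩ := c.coords hx hy hxb hyb hx'
  obtain ⟨i₂, j₂, z₂, hz₂, rfl⟩ := c.coords hx hy hxb hyb hy'
  have hxy : Commute x y := hcomm
  have hxz : ∀ z ∈ c.Z, Commute x z := fun z hz => (c.Z_comm hz hx).symm
  have hyz : ∀ z ∈ c.Z, Commute y z := fun z hz => (c.Z_comm hz hy).symm
  have hzz : Commute z₁ z₂ := c.Z_comm hz₁ (c.Z_le_Q hz₂)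
  have key : ∀ u : N, Commute x u → Commute y u → Commute z₁ u →
      Commute (x ^ i₁ * y ^ j₁ * z₁) u := fun u h1 h2 h3 =>
    ((h1.pow_left i₁).mul_left (h2.pow_left j₁)).mul_left h3
  exact (((key x (Commute.refl x) hxy.symm (hxz z₁ hz₁).symm).pow_right i₂).mul_right
    ((key y hxy (Commute.refl y) (hyz z₁ hz₁).symm).pow_right j₂)).mul_right
    (key z₂ (hxz z₂ hz₂) (hyz z₂ hz₂) hzz)

/-- the eigenvalue relation in `N` -/
theorem vdata (hp2 : p ≠ 2) (δ : MulAut N) (hδQ : ∀ q, δ q ∈ c.Q ↔ q ∈ c.Q)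
    {x y t z_b z₀ : N} (hx : x ∈ c.Q) (hxZ : x ∉ c.Z) (hxfix : ∀ g : N, ⁅g, x⁆ ∈ c.Z)
    (hy : y ∈ c.Q) (hyL : ∃ g : N, ⁅g, y⁆ ∉ c.Z) (ht : t ∉ c.Q) {b k μ : ℕ}
    (hz_b : z_b ∈ c.Z) (hz₀ : z₀ ∈ c.Z) (hδx : δ x = x ^ b * z_b) (hδy : δ y = y ^ k * z₀)
    (hμ : δ t * (t ^ μ)⁻¹ ∈ c.Q) :
    (b : ZMod p) = μ * k ∧ (b : ZMod p) ≠ 0 ∧ ⁅x, y⁆ ≠ 1 := by
  have h : EA p (c.Q ⧸ Subgroup.center c.Q) := c.ez.ea
  have hxb : ((⟨x, hx⟩ : c.Q) : c.Q ⧸ Subgroup.center c.Q) ≠ 1 := by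
    rw [Ne, mk_eq_one_iff]; exact hxZ
  have hfixall : ∀ g : N, c.kap g ((⟨x, hx⟩ : c.Q) : c.Q ⧸ Subgroup.center c.Q) =
      ((⟨x, hx⟩ : c.Q) : c.Q ⧸ Subgroup.center c.Q) := fun g =>
    (c.kap_fix_iff g ⟨x, hx⟩).2 (hxfix g)
  have hyb : ((⟨y, hy⟩ : c.Q) : c.Q ⧸ Subgroup.center c.Q) ∉
      Subgroup.zpowers ((⟨x, hx⟩ : c.Q) : c.Q ⧸ Subgroup.center c.Q) := by
    intro hmem
    obtain ⟨g, hg⟩ := hyL
    apply hg
    have h1 := (c.kap_fix_iff g ⟨y, hy⟩).1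
    apply h1
    obtain ⟨n, hn⟩ := Subgroup.mem_zpowers_iff.1 hmem
    rw [← hn, map_zpow, hfixall]
  have hαp : c.kap t ^ p = 1 := by
    rw [← map_pow, kap_eq_one_iff c hp2]; exact c.pow_p_mem hp2 t
  obtain ⟨a, ha⟩ := L1' h hxb hyb (c.kap t) 1 (by rwa [pow_one]) (hfixall t)
  have ha0 : a ≠ 0 := by
    rintro rfl
    apply ht
    rw [← kap_eq_one_iff c hp2]
    apply agree h hxb hyb
    · rw [hfixall]; rfl
    · rw [ha, ZMod.val_zero, pow_zero, one_mul]; rfl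
  have hDx : quotHom (resAut c.Q δ hδQ) ((⟨x, hx⟩ : c.Q) : c.Q ⧸ Subgroup.center c.Q) =
      ((⟨x, hx⟩ : c.Q) : c.Q ⧸ Subgroup.center c.Q) ^ b := by
    rw [quotHom_mk, ← QuotientGroup.mk_pow, mk_eq_mk_iff]
    have : ((resAut c.Q δ hδQ ⟨x, hx⟩ : c.Q) : N)⁻¹ * (((⟨x, hx⟩ : c.Q) ^ b : c.Q) : N) = z_b⁻¹ := by
      rw [resAut_apply]
      simp only [Subgroup.coe_pow]
      rw [hδx]; group
    rw [this]
    exact c.Z.inv_mem hz_b
  have hDy : quotHom (resAut c.Q δ hδQ) ((⟨y, hy⟩ : c.Q) : c.Q ⧸ Subgroup.center c.Q) =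
      ((⟨y, hy⟩ : c.Q) : c.Q ⧸ Subgroup.center c.Q) ^ k := by
    rw [quotHom_mk, ← QuotientGroup.mk_pow, mk_eq_mk_iff]
    have : ((resAut c.Q δ hδQ ⟨y, hy⟩ : c.Q) : N)⁻¹ * (((⟨y, hy⟩ : c.Q) ^ k : c.Q) : N) = z₀⁻¹ := by
      rw [resAut_apply]
      simp only [Subgroup.coe_pow]
      rw [hδy]; group
    rw [this]
    exact c.Z.inv_mem hz₀
  have hDα : quotHom (resAut c.Q δ hδQ) * c.kap t = c.kap t ^ μ * quotHom (resAut c.Q δ hδQ) := by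
    rw [← c.kap_aut_pow hp2 δ hμ]
    exact c.kap_aut δ hδQ t
  have hrel := vrel h hxb hyb (c.kap t) _ (hfixall t) ha0 ha b k μ hDx hDy hDα
  refine ⟨hrel, ?_, c.comm_ne_one hx hy hxb hyb⟩
  intro hb0
  apply hxb
  have h1 : ((⟨x, hx⟩ : c.Q) : c.Q ⧸ Subgroup.center c.Q) ^ b = 1 := by
    rw [← pow_val_natCast (h.exp _) b, hb0, ZMod.val_zero, pow_zero]
  rw [← hDx] at h1
  exact (map_eq_one_iff _ (MulEquiv.injective _)).1 h1

end YC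

end Cfsg.Agent.Helper4.Rk
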