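import Mathlib
import Cfsg.Agent.Helper4.RkI

set_option autoImplicit false

/-!
The configuration `Q ⊴ N` with an automorphism `δ`: the centralizer of the fixed line.
-/

namespace Cfsg.Agent.Helper4.Rk

open Cfsg.Agent.Lead.EssPSq
open scoped commutatorElement

namespace YC

variable {N : Type*} [Group N] [Finite N] {p : ℕ} [hp : Fact p.Prime] (c : YC p N)

/-- an element outside `Q` commuting with the fixed line -/
theorem exists_comm_x {x y : N} (hx : x ∈ c.Q) (hy : y ∈ c.Q) (hxy : ⁅x, y⁆ ≠ 1)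
    (hxp : x ^ p = 1) (hxfix : ∀ g : N, ⁅g, x⁆ ∈ c.Z) {t₀ : N} (ht₀ : t₀ ∉ c.Q) :
    ∃ t : N, t ∉ c.Q ∧ t * x = x * t := by
  obtain ⟨n, hn⟩ := c.disp_of_trivial hx hy hxy hx hxp (hxfix t₀)
  obtain ⟨e, heQ, hex, -⟩ := c.exists_inner hx hy n 0
  refine ⟨e⁻¹ * t₀, ?_, ?_⟩
  · intro h
    apply ht₀
    have : t₀ = e * (e⁻¹ * t₀) := by group
    rw [this]; exact c.Q.mul_mem heQ h
  · have h1 : (e⁻¹ * t₀) * x * (e⁻¹ * t₀)⁻¹ = x := by
      calc (e⁻¹ * t₀) * x * (e⁻¹ * t₀)⁻¹ = e⁻¹ * (t₀ * x * t₀⁻¹) * e := by group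
        _ = e⁻¹ * (e * x * e⁻¹) * e := by rw [hn, hex]
        _ = x := by group
    calc (e⁻¹ * t₀) * x = ((e⁻¹ * t₀) * x * (e⁻¹ * t₀)⁻¹) * (e⁻¹ * t₀) := by group
      _ = x * (e⁻¹ * t₀) := by rw [h1]

/-- the centralizer of `x` in `Q` -/
theorem cent_x {x y q : N} (hx : x ∈ c.Q) (hy : y ∈ c.Q) (hxy : ⁅x, y⁆ ≠ 1) (hq : q ∈ c.Q)
    (hqx : q * x = x * q) : ∃ i : ℕ, ∃ z ∈ c.Z, q = x ^ i * z := by
  obtain ⟨i, j, z, hz, rfl⟩ := c.gen hx hy hxy hq
  have h1 : ⁅x, x ^ i * y ^ j * z⁆ = ⁅x, y⁆ ^ j := by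
    rw [c.comm_mul_right hx (c.Q.mul_mem (c.Q.pow_mem hx i) (c.Q.pow_mem hy j)) (c.Z_le_Q hz),
      c.comm_Z_right hz hx, mul_one, c.comm_mul_right hx (c.Q.pow_mem hx i) (c.Q.pow_mem hy j),
      c.comm_pow_right hx hx, commutatorElement_self, one_pow, one_mul, c.comm_pow_right hx hy]
  have h2 : ⁅x, x ^ i * y ^ j * z⁆ = 1 := by
    rw [commutatorElement_eq_one_iff_mul_comm]; exact hqx.symm
  rw [h1] at h2
  have h3 : orderOf ⁅x, y⁆ = p := orderOf_eq_prime (c.comm_pow hx hy) hxy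
  have h4 : p ∣ j := by rw [← h3]; exact orderOf_dvd_of_pow_eq_one h2
  obtain ⟨m, rfl⟩ := h4
  refine ⟨i, y ^ (p * m) * z, c.Z.mul_mem ?_ hz, by rw [mul_assoc]⟩
  rw [pow_mul]
  exact c.Z.pow_mem (c.pow_mem_Z hy) m

/-- elements of order `p` centralizing the fixed line lie in `Q` -/
theorem mem_Q_of_cent_x (hZc : ∀ z ∈ c.Z, ∀ g : N, g * z = z * g) {x y v : N} (hx : x ∈ c.Q)
    (hy : y ∈ c.Q) (hxy : ⁅x, y⁆ ≠ 1) (hxp : x ^ p = 1) (hxZ : x ∉ c.Z) (hvx : v * x = x * v)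
    (hvp : v ^ p = 1) : v ∈ c.Q := by
  by_contra hv
  have hccZ : ⁅x, y⁆ ∈ c.Z := c.comm_mem hx hy
  have hccp : ⁅x, y⁆ ^ p = 1 := c.comm_pow hx hy
  have hA₀Q : Subgroup.closure ({x, ⁅x, y⁆} : Set N) ≤ c.Q := by
    rw [Subgroup.closure_le]
    intro a ha
    rcases ha with ha | ha
    · rw [ha]; exact hx
    · rw [Set.mem_singleton_iff] at ha
      rw [ha]; exact c.Z_le_Q hccZ
  have hcard : p ^ 2 ≤ Nat.card (Subgroup.closure ({x, ⁅x, y⁆} : Set N)) := by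
    have hle : Subgroup.zpowers ⁅x, y⁆ ≤ Subgroup.closure ({x, ⁅x, y⁆} : Set N) := by
      rw [Subgroup.zpowers_le]
      exact Subgroup.subset_closure (Or.inr rfl)
    have hcz : Nat.card (Subgroup.zpowers ⁅x, y⁆) = p := by
      rw [Nat.card_zpowers]; exact orderOf_eq_prime hccp hxy
    have hxmem : x ∈ Subgroup.closure ({x, ⁅x, y⁆} : Set N) :=
      Subgroup.subset_closure (Or.inl rfl)
    have hxnot : x ∉ Subgroup.zpowers ⁅x, y⁆ := by
      intro hmem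
      apply hxZ
      have : Subgroup.zpowers ⁅x, y⁆ ≤ c.Z := by
        rw [Subgroup.zpowers_le]; exact hccZ
      exact this hmem
    have hlt : p < Nat.card (Subgroup.closure ({x, ⁅x, y⁆} : Set N)) := by
      by_contra hge
      push Not at hge
      rw [← hcz] at hge
      have := Subgroup.eq_of_le_of_card_ge hle hge
      rw [← this] at hxmem
      exact hxnot hxmem
    obtain ⟨n, hn⟩ := (c.pg.to_subgroup (Subgroup.closure ({x, ⁅x, y⁆} : Set N))).exists_card_eq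
    rw [hn] at hlt ⊢
    have h1 : 1 < n := by
      by_contra h1
      push Not at h1
      have := Nat.pow_le_pow_right hp.out.pos h1
      rw [pow_one] at this
      omega
    exact Nat.pow_le_pow_right hp.out.pos h1
  apply rank_contra c.rk ({x, ⁅x, y⁆, v} : Set N) ?_ ?_
    (Subgroup.closure ({x, ⁅x, y⁆} : Set N)) ?_ hcard v ?_ ?_
  · have h12 : x * ⁅x, y⁆ = ⁅x, y⁆ * x := (c.Z_comm hccZ hx).symm
    have h13 : x * v = v * x := hvx.symm
    have h23 : ⁅x, y⁆ * v = v * ⁅x, y⁆ := (hZc _ hccZ v).symm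
    intro a ha b hb
    simp only [Set.mem_insert_iff, Set.mem_singleton_iff] at ha hb
    rcases ha with ha | ha | ha <;> rcases hb with hb | hb | hb <;> rw [ha, hb]
    · exact h12
    · exact h13
    · exact h12.symm
    · exact h23
    · exact h13.symm
    · exact h23.symm
  · intro a ha
    simp only [Set.mem_insert_iff, Set.mem_singleton_iff] at ha
    rcases ha with ha | ha | ha <;> rw [ha]
    · exact hxp
    · exact hccp
    · exact hvp
  · apply Subgroup.closure_mono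
    intro a ha
    rcases ha with ha | ha
    · exact Or.inl ha
    · exact Or.inr (Or.inl ha)
  · exact Subgroup.subset_closure (Or.inr (Or.inr rfl))
  · intro hvA
    exact hv (hA₀Q hvA)

/-- the action of `δ` on the commutator -/
theorem aut_comm (δ : MulAut N) {x y z_b z₀ : N} (hx : x ∈ c.Q) (hy : y ∈ c.Q) {b k : ℕ}
    (hz_b : z_b ∈ c.Z) (hz₀ : z₀ ∈ c.Z) (hδx : δ x = x ^ b * z_b) (hδy : δ y = y ^ k * z₀) :
    δ ⁅x, y⁆ = ⁅x, y⁆ ^ (b * k) := by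
  rw [map_commutatorElement, hδx, hδy,
    c.comm_mul_left (c.Q.pow_mem hx b) (c.Z_le_Q hz_b)
      (c.Q.mul_mem (c.Q.pow_mem hy k) (c.Z_le_Q hz₀)),
    c.comm_Z_left hz_b (c.Q.mul_mem (c.Q.pow_mem hy k) (c.Z_le_Q hz₀)), mul_one,
    c.comm_mul_right (c.Q.pow_mem hx b) (c.Q.pow_mem hy k) (c.Z_le_Q hz₀),
    c.comm_Z_right hz₀ (c.Q.pow_mem hx b), mul_one, c.comm_pow_left hx (c.Q.pow_mem hy k),
    c.comm_pow_right hx hy, ← pow_mul, mul_comm]

/-- if `δ` is trivial on `Z` and moves some element outside `Q` modulo `Q`, then `Z` is central -/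
theorem Z_central_A (hp2 : p ≠ 2) (δ : MulAut N) (hδZ : ∀ z ∈ c.Z, δ z = z) {s : N}
    (hs : s⁻¹ * δ s ∉ c.Q) : ∀ z ∈ c.Z, ∀ g : N, g * z = z * g := by
  haveI := c.Z_normal
  have hs' : ∀ z ∈ c.Z, Commute (s⁻¹ * δ s) z := by
    intro z hz
    have h1 : s * z * s⁻¹ ∈ c.Z := c.Z_normal.conj_mem z hz s
    have h2 := hδZ _ h1
    rw [map_mul, map_mul, map_inv, hδZ z hz] at h2
    show s⁻¹ * δ s * z = z * (s⁻¹ * δ s)
    calc s⁻¹ * δ s * z = s⁻¹ * (δ s * z * (δ s)⁻¹) * δ s := by group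
      _ = s⁻¹ * (s * z * s⁻¹) * δ s := by rw [h2]
      _ = z * (s⁻¹ * δ s) := by group
  intro z hz g
  obtain ⟨i, hi⟩ := c.exists_pow_mod hp2 hs g
  have h3 : Commute (g * ((s⁻¹ * δ s) ^ i)⁻¹) z := (c.Z_comm hz hi).symm
  have h4 : g = (g * ((s⁻¹ * δ s) ^ i)⁻¹) * (s⁻¹ * δ s) ^ i := by group
  rw [h4]
  exact (h3.mul_left ((hs' z hz).pow_left i)).eq

end YC

end Cfsg.Agent.Helper4.Rk
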