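import Mathlib
import Cfsg.Agent.Helper4.RkJ

set_option autoImplicit false

/-!
The configuration `Q ⊴ N` with an automorphism `δ`: the main eigenvalue restriction.
-/

namespace Cfsg.Agent.Helper4.Rk

open Cfsg.Agent.Lead.EssPSq
open scoped commutatorElement

namespace YC

variable {N : Type*} [Group N] [Finite N] {p : ℕ} [hp : Fact p.Prime] (c : YC p N)

/-- analysis of the `p`-th power of an element outside `Q` centralizing the fixed line -/
theorem tpow_analysis (hp2 : p ≠ 2) (hZc : ∀ z ∈ c.Z, ∀ g : N, g * z = z * g) (δ : MulAut N)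
    (hδQ : ∀ q, δ q ∈ c.Q ↔ q ∈ c.Q) {x y t z_b : N} (hx : x ∈ c.Q) (hy : y ∈ c.Q)
    (hxy : ⁅x, y⁆ ≠ 1) (hxp : x ^ p = 1) (hxZ : x ∉ c.Z) (ht : t ∉ c.Q) (htx : t * x = x * t)
    {b μ : ℕ} (hz_b : z_b ∈ c.Z) (hδx : δ x = x ^ b * z_b) (hb : (b : ZMod p) ≠ 0)
    (hμ : δ t * (t ^ μ)⁻¹ ∈ c.Q) :
    (b : ZMod p) = μ ∨
      ∃ z ∈ c.Z, ∃ z' ∈ c.Z, z ≠ 1 ∧ t ^ p = z ∧ δ z = z' ^ p * z ^ μ := by
  have hT : t ^ p ∈ c.Q := c.pow_p_mem hp2 t
  have hTx : t ^ p * x = x * t ^ p := ((show Commute t x from htx).pow_left p).eq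
  obtain ⟨i, z, hz, hTe⟩ := c.cent_x hx hy hxy hT hTx
  have hδtx : δ t * x = x * δ t := by
    have h1 : Commute (δ t) (δ x) := by
      have := congrArg δ htx
      rw [map_mul, map_mul] at this
      exact this
    rw [hδx] at h1
    have h2 : Commute (δ t) (x ^ b) := by
      have h3 : Commute (δ t) z_b := hZc z_b hz_b (δ t)
      have : x ^ b = (x ^ b * z_b) * z_b⁻¹ := by group
      rw [this]; exact h1.mul_right h3.inv_right
    have h4 : x = (x ^ b) ^ ((b : ZMod p)⁻¹).val := by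
      rw [← pow_val_natCast hxp b, ← pow_val_mul hxp, mul_inv_cancel₀ hb, pow_val_one]
    rw [h4]; exact (h2.pow_right _).eq
  have hq'x : (δ t * (t ^ μ)⁻¹) * x = x * (δ t * (t ^ μ)⁻¹) :=
    ((show Commute (δ t) x from hδtx).mul_left
      ((show Commute t x from htx).pow_left μ).inv_left).eq
  obtain ⟨a', z', hz', hq'e⟩ := c.cent_x hx hy hxy hμ hq'x
  have hδt : δ t = x ^ a' * z' * t ^ μ := by rw [← hq'e]; group
  have hxt : Commute x t := (show Commute t x from htx).symm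
  have hz't : Commute z' t := (show Commute t z' from hZc z' hz' t).symm
  have hxz' : Commute x z' := hZc z' hz' x
  have h5 : (δ t) ^ p = z' ^ p * (t ^ p) ^ μ := by
    rw [hδt, ((hxt.pow_pow a' μ).mul_left (hz't.pow_right μ)).mul_pow, (hxz'.pow_left a').mul_pow,
      ← pow_mul, mul_comm a' p, pow_mul, hxp, one_pow, one_mul, ← pow_mul, mul_comm μ p, pow_mul]
  have h6 : δ (t ^ p) = (x ^ b) ^ i * z_b ^ i * δ z := by
    rw [hTe, map_mul, map_pow, hδx, (show Commute (x ^ b) z_b from hZc z_b hz_b (x ^ b)).mul_pow]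
  have h7 : (x ^ b) ^ i * z_b ^ i * δ z = z' ^ p * (x ^ i * z) ^ μ := by
    rw [← h6, map_pow, h5, hTe]
  have h8 : (x ^ i * z) ^ μ = (x ^ i) ^ μ * z ^ μ :=
    (show Commute (x ^ i) z from hZc z hz (x ^ i)).mul_pow μ
  have hδz : δ z ∈ c.Z := c.aut_Z δ hδQ hz
  have hmem : (x ^ (i * μ))⁻¹ * x ^ (b * i) ∈ c.Z := by
    have hE : x ^ (b * i) * (z_b ^ i * δ z) = x ^ (i * μ) * (z' ^ p * z ^ μ) := by
      have hc1 : Commute (z' ^ p) (x ^ (i * μ)) :=
        (show Commute (x ^ (i * μ)) (z' ^ p) from hZc _ (c.Z.pow_mem hz' p) _).symm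
      calc x ^ (b * i) * (z_b ^ i * δ z) = (x ^ b) ^ i * z_b ^ i * δ z := by
            rw [pow_mul, mul_assoc]
        _ = z' ^ p * (x ^ i * z) ^ μ := h7
        _ = z' ^ p * (x ^ (i * μ) * z ^ μ) := by rw [h8, ← pow_mul]
        _ = x ^ (i * μ) * (z' ^ p * z ^ μ) := by
            rw [← mul_assoc, hc1.eq, mul_assoc]
    have : (x ^ (i * μ))⁻¹ * x ^ (b * i) = (z' ^ p * z ^ μ) * (z_b ^ i * δ z)⁻¹ := by
      calc (x ^ (i * μ))⁻¹ * x ^ (b * i)
          = (x ^ (i * μ))⁻¹ * (x ^ (b * i) * (z_b ^ i * δ z)) * (z_b ^ i * δ z)⁻¹ := by group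
        _ = (x ^ (i * μ))⁻¹ * (x ^ (i * μ) * (z' ^ p * z ^ μ)) * (z_b ^ i * δ z)⁻¹ := by rw [hE]
        _ = (z' ^ p * z ^ μ) * (z_b ^ i * δ z)⁻¹ := by group
    rw [this]
    exact c.Z.mul_mem (c.Z.mul_mem (c.Z.pow_mem hz' p) (c.Z.pow_mem hz μ))
      (c.Z.inv_mem (c.Z.mul_mem (c.Z.pow_mem hz_b i) hδz))
  have h9 := natCast_eq_of_pow_mem c.Z hxp hxZ hmem
  by_cases hi : (i : ZMod p) = 0
  · right
    have hxi : x ^ i = 1 := by rw [← pow_val_natCast hxp i, hi, ZMod.val_zero, pow_zero]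
    have hzbp : z_b ^ p = 1 := by
      have h1 : (δ x) ^ p = 1 := by rw [← map_pow, hxp, map_one]
      rw [hδx, (show Commute (x ^ b) z_b from hZc z_b hz_b (x ^ b)).mul_pow, ← pow_mul,
        mul_comm b p, pow_mul, hxp, one_pow, one_mul] at h1
      exact h1
    have hzbi : z_b ^ i = 1 := by
      obtain ⟨m, rfl⟩ := (ZMod.natCast_eq_zero_iff i p).1 hi
      rw [pow_mul, hzbp, one_pow]
    refine ⟨z, hz, z', hz', ?_, ?_, ?_⟩
    · intro hz1
      apply ht
      apply c.mem_Q_of_cent_x hZc hx hy hxy hxp hxZ htx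
      rw [hTe, hxi, hz1, one_mul]
    · rw [hTe, hxi, one_mul]
    · have h10 := h7
      rw [← pow_mul, mul_comm b i, pow_mul, hxi, one_pow, hzbi, one_mul, one_mul, one_mul] at h10
      exact h10
  · left
    push_cast at h9
    have h10 : (b : ZMod p) * i = μ * i := by rw [h9]; ring
    exact mul_right_cancel₀ hi h10

/-- **The main eigenvalue restriction.** -/
theorem ymain (hp2 : p ≠ 2) (δ : MulAut N) (hδQ : ∀ q, δ q ∈ c.Q ↔ q ∈ c.Q)
    (hcase : Nat.card c.Z = p ∨ ∀ z ∈ c.Z, δ z = z)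
    {y : N} (hy : y ∈ c.Q) (hyL : ∃ g : N, ⁅g, y⁆ ∉ c.Z) (k : ℕ) {z₀ : N} (hz₀ : z₀ ∈ c.Z)
    (hδy : δ y = y ^ k * z₀) : ((k : ZMod p)) ^ 2 = 1 := by
  have hQtop : c.Q ≠ ⊤ := by
    intro htop
    obtain ⟨g, hg⟩ := hyL
    apply hg
    exact c.comm_mem (by rw [htop]; exact Subgroup.mem_top g) hy
  obtain ⟨x, hx, hxp, hxZ, hxfix, hline⟩ := c.exists_fixed_line hp2 hQtop
  obtain ⟨b, z_b, hz_b, hδx⟩ := hline (δ x) ((hδQ x).2 hx) (c.aut_fixed δ hδQ hxfix)
  obtain ⟨t₀, ht₀⟩ : ∃ t : N, t ∉ c.Q := by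
    by_contra hcon
    push Not at hcon
    exact hQtop (eq_top_iff.2 fun g _ => hcon g)
  -- a first use of the eigenvalue relation, to know that `x` and `y` do not commute
  obtain ⟨μ₀, hμ₀⟩ := c.exists_pow_mod hp2 ht₀ (δ t₀)
  obtain ⟨-, -, hxy⟩ := c.vdata hp2 δ hδQ hx hxZ hxfix hy hyL ht₀ hz_b hz₀ hδx hδy hμ₀
  obtain ⟨t, ht, htx⟩ := c.exists_comm_x hx hy hxy hxp hxfix ht₀
  obtain ⟨μ, hμ⟩ := c.exists_pow_mod hp2 ht (δ t)
  obtain ⟨hrel, hb0, -⟩ := c.vdata hp2 δ hδQ hx hxZ hxfix hy hyL ht hz_b hz₀ hδx hδy hμ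
  have hμ0 : (μ : ZMod p) ≠ 0 := by
    intro h0
    rw [h0, zero_mul] at hrel
    exact hb0 hrel
  have hcc := c.aut_comm δ hx hy hz_b hz₀ hδx hδy
  have hccZ : ⁅x, y⁆ ∈ c.Z := c.comm_mem hx hy
  have hccp : ⁅x, y⁆ ^ p = 1 := c.comm_pow hx hy
  have hbot : ∀ g : N, g ≠ 1 → g ∉ (⊥ : Subgroup N) := fun g hg hmem =>
    hg (Subgroup.mem_bot.1 hmem)
  rcases hcase with hcard | hδZ
  · -- `Z` has order `p`
    haveI := c.Z_normal
    have hZc : ∀ z ∈ c.Z, ∀ g : N, g * z = z * g := by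
      intro z hz g
      exact normal_card_prime_central p c.pg c.Z hcard z hz g
    have hZp : ∀ z ∈ c.Z, z ^ p = 1 := by
      intro z hz
      have h1 : (⟨z, hz⟩ : c.Z) ^ Nat.card c.Z = 1 := pow_card_eq_one'
      rw [hcard] at h1
      exact congrArg Subtype.val h1
    rcases c.tpow_analysis hp2 hZc δ hδQ hx hy hxy hxp hxZ ht htx hz_b hδx hb0 hμ with
      h1 | ⟨z, hz, z', hz', hz1, -, hδz⟩
    · rw [h1] at hrel
      have h2 : (k : ZMod p) = 1 := by
        have : (μ : ZMod p) * 1 = μ * k := by rw [mul_one]; exact hrel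
        exact (mul_left_cancel₀ hμ0 this).symm
      rw [h2, one_pow]
    · rw [hZp z' hz', one_mul] at hδz
      obtain ⟨n, hn⟩ := c.omega hccZ hxy hccp hz (hZp z hz)
      have h2 : δ z = z ^ (b * k) := by
        rw [hn, map_pow, hcc, ← pow_mul, ← pow_mul, mul_comm]
      rw [h2] at hδz
      have h3 : (z ^ μ)⁻¹ * z ^ (b * k) ∈ (⊥ : Subgroup N) := by
        rw [hδz, inv_mul_cancel]; exact Subgroup.one_mem _
      have h4 := natCast_eq_of_pow_mem ⊥ (hZp z hz) (hbot z hz1) h3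
      push_cast at h4
      rw [hrel] at h4
      have h5 : (μ : ZMod p) * ((k : ZMod p) ^ 2) = μ * 1 := by
        calc (μ : ZMod p) * ((k : ZMod p) ^ 2) = μ * k * k := by ring
          _ = μ := h4
          _ = μ * 1 := (mul_one _).symm
      exact mul_left_cancel₀ hμ0 h5
  · -- `δ` is trivial on `Z`
    have hbk : ((b : ZMod p)) * k = 1 := by
      have h1 : (⁅x, y⁆ ^ 1)⁻¹ * ⁅x, y⁆ ^ (b * k) ∈ (⊥ : Subgroup N) := by
        rw [← hcc, hδZ _ hccZ, pow_one, inv_mul_cancel]; exact Subgroup.one_mem _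
      have h2 := natCast_eq_of_pow_mem ⊥ hccp (hbot _ hxy) h1
      push_cast at h2
      exact h2
    by_cases hμ1 : (μ : ZMod p) = 1
    · rw [hμ1, one_mul] at hrel
      rw [hrel] at hbk
      rw [pow_two]; exact hbk
    · exfalso
      -- `t⁻¹ * δ t ∉ Q`
      have hs : t⁻¹ * δ t ∉ c.Q := by
        intro hmem
        apply hμ1
        have h1 := (c.kap_eq_one_iff hp2 _).2 hmem
        rw [map_mul, map_inv, c.kap_aut_pow hp2 δ hμ] at h1
        have hαp : c.kap t ^ p = 1 := by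
          rw [← map_pow, kap_eq_one_iff c hp2]; exact c.pow_p_mem hp2 t
        have hα1 : c.kap t ∉ (⊥ : Subgroup (MulAut (c.Q ⧸ Subgroup.center c.Q))) := by
          intro hmem'
          exact ht ((c.kap_eq_one_iff hp2 t).1 (Subgroup.mem_bot.1 hmem'))
        have h2 : (c.kap t ^ 1)⁻¹ * c.kap t ^ μ ∈
            (⊥ : Subgroup (MulAut (c.Q ⧸ Subgroup.center c.Q))) := by
          rw [pow_one, h1]; exact Subgroup.one_mem _
        have h3 := natCast_eq_of_pow_mem ⊥ hαp hα1 h2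
        push_cast at h3
        exact h3
      have hZc := c.Z_central_A hp2 δ hδZ hs
      rcases c.tpow_analysis hp2 hZc δ hδQ hx hy hxy hxp hxZ ht htx hz_b hδx hb0 hμ with
        h1 | ⟨z, hz, z', hz', hz1, hTz, hδz⟩
      · rw [h1] at hrel
        have h2 : (k : ZMod p) = 1 := by
          have : (μ : ZMod p) * 1 = μ * k := by rw [mul_one]; exact hrel
          exact (mul_left_cancel₀ hμ0 this).symm
        rw [h2, mul_one] at hbk
        rw [hbk] at h1
        exact hμ1 h1.symm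
      · rw [hδZ z hz] at hδz
        -- `z` is a `p`-th power in `Z`
        have hμpos : μ ≠ 0 := by
          rintro rfl
          exact hμ0 (by simp)
        obtain ⟨m, rfl⟩ := Nat.exists_eq_succ_of_ne_zero hμpos
        have h1 : z ^ m = (z'⁻¹) ^ p := by
          have h2 : z' ^ p * z ^ m = 1 := by
            have h3 : z = (z' ^ p * z ^ m) * z := by
              rw [mul_assoc, ← pow_succ]; exact hδz
            exact (mul_eq_right.1 h3.symm)
          rw [inv_pow]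
          exact eq_inv_of_mul_eq_one_right h2
        have hm0 : (m : ZMod p) ≠ 0 := by
          intro h0
          apply hμ1
          push_cast
          rw [h0, zero_add]
        have hcop : Nat.Coprime m (orderOf z) := by
          obtain ⟨s, hs⟩ := IsPGroup.iff_orderOf.1 c.pg z
          rw [hs]
          apply Nat.Coprime.pow_right
          apply Nat.Coprime.symm
          rw [Nat.Prime.coprime_iff_not_dvd hp.out]
          intro hd
          exact hm0 ((ZMod.natCast_eq_zero_iff m p).2 hd)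
        obtain ⟨e, he⟩ := exists_pow_eq_self_of_coprime hcop
        have hw : (z'⁻¹) ^ e ∈ c.Z := c.Z.pow_mem (c.Z.inv_mem hz') e
        have hwp : ((z'⁻¹) ^ e) ^ p = z := by
          rw [← pow_mul, mul_comm, pow_mul, ← h1, he]
        have htw : Commute t ((z'⁻¹) ^ e)⁻¹ :=
          (show Commute t ((z'⁻¹) ^ e) from hZc _ hw t).inv_right
        have hvp : (t * ((z'⁻¹) ^ e)⁻¹) ^ p = 1 := by
          rw [htw.mul_pow, hTz, inv_pow, hwp, mul_inv_cancel]
        have hvx : (t * ((z'⁻¹) ^ e)⁻¹) * x = x * (t * ((z'⁻¹) ^ e)⁻¹) := by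
          have h2 : Commute ((z'⁻¹) ^ e)⁻¹ x :=
            (show Commute x ((z'⁻¹) ^ e) from hZc _ hw x).symm.inv_left
          exact ((show Commute t x from htx).mul_left h2).eq
        have hvQ := c.mem_Q_of_cent_x hZc hx hy hxy hxp hxZ hvx hvp
        apply ht
        have h3 : t = (t * ((z'⁻¹) ^ e)⁻¹) * (z'⁻¹) ^ e := by group
        rw [h3]
        exact c.Q.mul_mem hvQ (c.Z_le_Q hw)

end YC

end Cfsg.Agent.Helper4.Rk
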