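import Mathlib
import Cfsg.Agent.Helper4.P4A
import Cfsg.Agent.Helper4.FrattiniQuotient
import Cfsg.Agent.Helper1.AutPlumbing

set_option autoImplicit false

/-!
A `p`-group with Frattini quotient of order at most `p²` and a characteristic subgroup of index `p`:
every group of automorphisms has a normal Sylow `p`-subgroup.
-/

namespace Cfsg.Agent.Helper4.Rk

open Cfsg.Agent.Lead.CharChain Cfsg.Agent.Helper4.P4A

variable {p : ℕ} [hp : Fact p.Prime] {H : Type*} [Group H] [Finite H]

/-- abstract form: a `p`-group of automorphisms containing all automorphisms of `p`-power order -/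
theorem pCore_ne_bot_of_contains (C : Subgroup (MulAut H)) (hCp : IsPGroup p C)
    (hC : ∀ (α : MulAut H) (k : ℕ), α ^ (p ^ k) = 1 → α ∈ C)
    (Γ : Subgroup (MulAut H)) (N₀ : Subgroup Γ) [N₀.Normal] (hdvd : p ∣ Nat.card (Γ ⧸ N₀)) :
    Cfsg.pCore p (Γ ⧸ N₀) ≠ ⊥ := by
  intro hbot
  let P : Subgroup Γ := C.subgroupOf Γ
  have hPp : IsPGroup p P := hCp.comap_of_injective Γ.subtype Γ.subtype_injective
  have hPn : P.Normal := by
    refine ⟨fun q hq γ => ?_⟩
    obtain ⟨k, hk⟩ := hPp ⟨q, hq⟩
    have hk' : q ^ (p ^ k) = 1 := congrArg Subtype.val hk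
    change ((γ * q * γ⁻¹ : Γ) : MulAut H) ∈ C
    apply hC _ k
    have : (γ * q * γ⁻¹) ^ (p ^ k) = 1 := by
      rw [conj_pow, hk', mul_one, mul_inv_cancel]
    exact_mod_cast congrArg Subtype.val this
  have hmap_le : P.map (QuotientGroup.mk' N₀) ≤ Cfsg.pCore p (Γ ⧸ N₀) :=
    Cfsg.Agent.Helper4.le_pCore _ (hPn.map _ (QuotientGroup.mk'_surjective N₀))
      (hPp.map (QuotientGroup.mk' N₀))
  rw [hbot, le_bot_iff] at hmap_le
  haveI : Finite (Γ ⧸ N₀) := inferInstance
  obtain ⟨x, hx⟩ := exists_prime_orderOf_dvd_card' p hdvd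
  obtain ⟨γ, rfl⟩ := QuotientGroup.mk_surjective x
  haveI : Finite Γ := inferInstance
  have hpos : 0 < orderOf γ := orderOf_pos γ
  obtain ⟨a, m, hm', hm⟩ := Nat.exists_eq_pow_mul_and_not_dvd hpos.ne' p hp.out.ne_one
  have hδ : (γ ^ m) ^ (p ^ a) = 1 := by
    rw [← pow_mul, mul_comm, ← hm, pow_orderOf_eq_one]
  have hδC : ((γ ^ m : Γ) : MulAut H) ∈ C := by
    apply hC _ a
    exact_mod_cast congrArg Subtype.val hδ
  have hδP : γ ^ m ∈ P := hδC
  have h1 : QuotientGroup.mk' N₀ (γ ^ m) ∈ P.map (QuotientGroup.mk' N₀) :=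
    Subgroup.mem_map_of_mem _ hδP
  rw [hmap_le, Subgroup.mem_bot, map_pow] at h1
  have h2 : orderOf ((QuotientGroup.mk' N₀) γ) ∣ m := orderOf_dvd_of_pow_eq_one h1
  have h3 : orderOf ((QuotientGroup.mk' N₀) γ) = p := hx
  rw [h3] at h2
  exact hm' h2

/-- the chain `Φ(H) ≤ M ≤ H` -/
def chain3 (M : Subgroup H) : ℕ → Subgroup H
  | 0 => frattini H
  | 1 => M
  | _ => ⊤

/-- an automorphism trivial modulo the Frattini subgroup has `p`-power order -/
theorem pow_eq_one_of_trivial_mod_frattini (hH : IsPGroup p H) (β : MulAut H)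
    (hβ : ∀ x : H, x⁻¹ * β x ∈ frattini H) : ∃ k : ℕ, β ^ (p ^ k) = 1 := by
  have hpos : 0 < orderOf β := orderOf_pos β
  obtain ⟨a, m, hm', hm⟩ := Nat.exists_eq_pow_mul_and_not_dvd hpos.ne' p hp.out.ne_one
  refine ⟨a, ?_⟩
  have hq : Cfsg.Agent.Helper1.AutPlumbing.quotAut (frattini H) frattini_characteristic β = 1 := by
    ext v
    obtain ⟨x, rfl⟩ := QuotientGroup.mk_surjective v
    rw [MulAut.one_apply]
    exact (QuotientGroup.eq.2 (hβ x)).symm
  apply Cfsg.Agent.Helper1.AutPlumbing.eq_one_of_trivial_mod_frattini hH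
  · have h1 : (β ^ (p ^ a)) ^ m = 1 := by
      rw [← pow_mul, ← hm, pow_orderOf_eq_one]
    have h2 : orderOf (β ^ (p ^ a)) ∣ m := orderOf_dvd_of_pow_eq_one h1
    apply Nat.Coprime.coprime_dvd_left h2
    exact ((Nat.Prime.coprime_iff_not_dvd hp.out).2 hm').symm
  · intro x
    have h1 : Cfsg.Agent.Helper1.AutPlumbing.quotAut (frattini H) frattini_characteristic
        (β ^ (p ^ a)) = 1 := by rw [map_pow, hq, one_pow]
    have h2 := congrArg (fun f : MulAut (H ⧸ frattini H) => f (QuotientGroup.mk x)) h1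
    simp only [Cfsg.Agent.Helper1.AutPlumbing.quotAut_mk, MulAut.one_apply] at h2
    exact QuotientGroup.eq.1 h2.symm

/-- **The criterion.** -/
theorem pCore_ne_bot_of_char_index_p (hH : IsPGroup p H) (M : Subgroup H) [hM : M.Characteristic]
    (hidx : M.index = p) (hΦ : (frattini H).index ∣ p ^ 2)
    (Γ : Subgroup (MulAut H)) (N₀ : Subgroup Γ) [N₀.Normal] (hdvd : p ∣ Nat.card (Γ ⧸ N₀)) :
    Cfsg.pCore p (Γ ⧸ N₀) ≠ ⊥ := by
  have hpM : M.index.Prime := by rw [hidx]; exact hp.out
  have hΦM : frattini H ≤ M :=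
    frattini_le_coatom (Cfsg.Agent.Helper1.isCoatom_of_index_prime hpM)
  have hMinv : ∀ (α : MulAut H), ∀ x ∈ M, α x ∈ M := by
    intro α x hx
    exact (Subgroup.characteristic_iff_le_comap.1 hM) α hx
  have hΦinv : ∀ (α : MulAut H), ∀ x ∈ frattini H, α x ∈ frattini H := by
    intro α x hx
    exact (Subgroup.characteristic_iff_le_comap.1 frattini_characteristic) α hx
  have hmono : ∀ i < 2, chain3 M i ≤ chain3 M (i + 1) := by
    intro i hi
    interval_cases i
    · exact hΦM
    · exact le_top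
  apply pCore_ne_bot_of_contains (chainStab 2 (chain3 M) hmono) ?_ ?_ Γ N₀ hdvd
  · -- the stabilizer of the chain is a `p`-group
    intro α
    have hα := (mem_chainStab 2 (chain3 M) hmono _).1 α.2
    have h1 : ∀ x : H, x⁻¹ * (α : MulAut H) x ∈ M := fun x =>
      hα 1 (by norm_num) x (Subgroup.mem_top x)
    have h0 : ∀ x ∈ M, x⁻¹ * (α : MulAut H) x ∈ frattini H := fun x hx =>
      hα 0 (by norm_num) x hx
    set q := Cfsg.Agent.Helper1.AutPlumbing.quotAut (frattini H) frattini_characteristic with hq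
    have h2 : ∀ x : H, x⁻¹ * ((α : MulAut H) ^ p) x ∈ frattini H := by
      intro x
      set m := x⁻¹ * (α : MulAut H) x with hm
      have hx : q (α : MulAut H) (QuotientGroup.mk x) =
          (QuotientGroup.mk x : H ⧸ frattini H) * QuotientGroup.mk m := by
        rw [hq, Cfsg.Agent.Helper1.AutPlumbing.quotAut_mk, ← QuotientGroup.mk_mul, hm]
        congr 1
        group
      have hmfix : q (α : MulAut H) (QuotientGroup.mk m) = (QuotientGroup.mk m : H ⧸ frattini H) := by
        rw [hq, Cfsg.Agent.Helper1.AutPlumbing.quotAut_mk]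
        exact (QuotientGroup.eq.2 (h0 m (h1 x))).symm
      have h3 := pow_apply_of_fixed (q (α : MulAut H)) _ _ hx hmfix p
      have h4 : (QuotientGroup.mk m : H ⧸ frattini H) ^ p = 1 := by
        rw [← QuotientGroup.mk_pow, QuotientGroup.eq_one_iff]
        exact Cfsg.Agent.Helper4.pgroup_pow_mem_frattini hH m
      rw [h4, mul_one, ← map_pow, hq, Cfsg.Agent.Helper1.AutPlumbing.quotAut_mk] at h3
      exact QuotientGroup.eq.1 h3.symm
    obtain ⟨k, hk⟩ := pow_eq_one_of_trivial_mod_frattini hH _ h2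
    refine ⟨k + 1, ?_⟩
    apply Subtype.ext
    rw [Subgroup.coe_pow, Subgroup.coe_one, pow_succ', pow_mul]
    exact hk
  · -- it contains all automorphisms of `p`-power order
    intro α k hα
    rw [mem_chainStab]
    intro i hi
    haveI : M.Normal := inferInstance
    interval_cases i
    · intro x hx
      show x⁻¹ * α x ∈ frattini H
      have hrel : (frattini H).relIndex M * M.index = (frattini H).index :=
        Subgroup.relIndex_mul_index hΦM
      rw [hidx] at hrel
      have hdvd' : (frattini H).relIndex M ∣ p := by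
        have h1 : (frattini H).relIndex M * p ∣ p * p := by
          rw [hrel, ← sq]; exact hΦ
        exact Nat.dvd_of_mul_dvd_mul_right hp.out.pos h1
      rcases (Nat.dvd_prime hp.out).1 hdvd' with h1 | h1
      · have hle : M ≤ frattini H := Subgroup.relIndex_eq_one.1 h1
        exact hle (M.mul_mem (M.inv_mem hx) (hMinv α x hx))
      · haveI : ((frattini H).subgroupOf M).Normal := inferInstance
        have hcard : Nat.card (↥M ⧸ (frattini H).subgroupOf M) = p := by
          rw [← Subgroup.index_eq_card]; exact h1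
        exact section_trivial α k hα (frattini H) M (hMinv α) (hΦinv α) hcard x hx
    · intro x hx
      show x⁻¹ * α x ∈ M
      haveI : (M.subgroupOf (⊤ : Subgroup H)).Normal := inferInstance
      have hcard : Nat.card (↥(⊤ : Subgroup H) ⧸ M.subgroupOf (⊤ : Subgroup H)) = p := by
        rw [← Subgroup.index_eq_card]
        have : (M.subgroupOf (⊤ : Subgroup H)).index = M.relIndex ⊤ := rfl
        rw [this, Subgroup.relIndex_top_right, hidx]
      exact section_trivial α k hα M ⊤ (fun y _ => Subgroup.mem_top _) (hMinv α) hcard x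
        (Subgroup.mem_top x)

end Cfsg.Agent.Helper4.Rk
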