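import Mathlib
import Cfsg.Agent.Helper4.BlkJ
import Cfsg.Agent.Helper4.FrattiniQuotient

set_option autoImplicit false

/-!
Groups of the form (c) in Blackburn's theorem: the Frattini quotient has order dividing `p²` and the
centralizer of the derived subgroup is a characteristic subgroup of index `p`.
-/

namespace Cfsg.Agent.Helper4.Rk

open Cfsg.Agent.Helper4.Blk
open scoped commutatorElement

universe u

/-- the subgroup generated by two commuting elements -/
theorem card_closure_pair_dvd {Q : Type*} [Group Q] [Finite Q] {a b : Q} (hab : Commute a b) :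
    Nat.card (Subgroup.closure ({a, b} : Set Q)) ∣ orderOf a * orderOf b := by
  have hcomm : ∀ (m : Subgroup.zpowers a) (n : Subgroup.zpowers b),
      Commute ((Subgroup.zpowers a).subtype m) ((Subgroup.zpowers b).subtype n) := by
    rintro ⟨m, hm⟩ ⟨n, hn⟩
    obtain ⟨i, rfl⟩ := Subgroup.mem_zpowers_iff.1 hm
    obtain ⟨j, rfl⟩ := Subgroup.mem_zpowers_iff.1 hn
    exact (hab.zpow_zpow i j)
  have hr := MonoidHom.noncommCoprod_range (Subgroup.zpowers a).subtype (Subgroup.zpowers b).subtype
    hcomm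
  rw [Subgroup.range_subtype, Subgroup.range_subtype] at hr
  have hcl : Subgroup.closure ({a, b} : Set Q) = Subgroup.zpowers a ⊔ Subgroup.zpowers b := by
    apply le_antisymm
    · rw [Subgroup.closure_le]
      rintro g (rfl | hg)
      · exact (le_sup_left : Subgroup.zpowers g ≤ _) (Subgroup.mem_zpowers g)
      · rw [Set.mem_singleton_iff] at hg
        rw [hg]
        exact (le_sup_right : Subgroup.zpowers b ≤ _) (Subgroup.mem_zpowers b)
    · rw [sup_le_iff, Subgroup.zpowers_le, Subgroup.zpowers_le]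
      exact ⟨Subgroup.subset_closure (by simp), Subgroup.subset_closure (by simp)⟩
  rw [hcl, ← hr]
  have h1 := Subgroup.card_range_dvd
    (MonoidHom.noncommCoprod (Subgroup.zpowers a).subtype (Subgroup.zpowers b).subtype hcomm)
  rw [Nat.card_prod, Nat.card_zpowers, Nat.card_zpowers] at h1
  exact h1

/-- a two-generator `p`-group has Frattini quotient of order dividing `p²` -/
theorem frattini_index_dvd_of_two_gen {Q : Type*} [Group Q] [Finite Q] {p : ℕ} [hp : Fact p.Prime]
    (hQ : IsPGroup p Q) {a b : Q} (hgen : Subgroup.closure ({a, b} : Set Q) = ⊤) :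
    (frattini Q).index ∣ p ^ 2 := by
  have hcomm : Commute ((a : Q) : Q ⧸ frattini Q) ((b : Q) : Q ⧸ frattini Q) := by
    show ((a : Q) : Q ⧸ frattini Q) * (b : Q ⧸ frattini Q) = (b : Q ⧸ frattini Q) * (a : Q ⧸ frattini Q)
    rw [← QuotientGroup.mk_mul, ← QuotientGroup.mk_mul, QuotientGroup.eq]
    have h1 := pgroup_commutator_mem_frattini hQ b⁻¹ a⁻¹
    have h2 : (a * b)⁻¹ * (b * a) = b⁻¹ * a⁻¹ * b⁻¹⁻¹ * a⁻¹⁻¹ := by group
    rw [h2]
    exact h1
  have h1 := card_closure_pair_dvd hcomm
  have himg : ({((a : Q) : Q ⧸ frattini Q), ((b : Q) : Q ⧸ frattini Q)} : Set (Q ⧸ frattini Q)) =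
      (QuotientGroup.mk' (frattini Q)) '' ({a, b} : Set Q) := by
    rw [Set.image_pair]; rfl
  rw [himg, ← MonoidHom.map_closure, hgen, Subgroup.map_top_of_surjective _
    (QuotientGroup.mk'_surjective _), Subgroup.card_top] at h1
  rw [Subgroup.index_eq_card]
  have ha : orderOf ((a : Q) : Q ⧸ frattini Q) ∣ p := by
    apply orderOf_dvd_of_pow_eq_one
    rw [← QuotientGroup.mk_pow, QuotientGroup.eq_one_iff]
    exact pgroup_pow_mem_frattini hQ a
  have hb : orderOf ((b : Q) : Q ⧸ frattini Q) ∣ p := by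
    apply orderOf_dvd_of_pow_eq_one
    rw [← QuotientGroup.mk_pow, QuotientGroup.eq_one_iff]
    exact pgroup_pow_mem_frattini hQ b
  rw [sq]
  exact h1.trans (Nat.mul_dvd_mul ha hb)


/-- A group of the form (c): the Frattini quotient and a characteristic subgroup of index `p`. -/
theorem formC_char {G : Type u} [Group G] [Finite G] {p : ℕ} [hp : Fact p.Prime] {n : ℕ}
    (hG : Nat.card G = p ^ n) (h : FormC p n G) :
    (frattini G).index ∣ p ^ 2 ∧ ∃ M : Subgroup G, M.Characteristic ∧ M.index = p := by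
  obtain ⟨h4, s, x, y, z, hs, hgen, hxp, hyp, hzp, hyz, hxy, hxz⟩ := h
  have hPG : IsPGroup p G := IsPGroup.of_card hG
  have hycomm : y = ⁅x⁻¹, z⁆ := by
    rw [commutatorElement_def, inv_inv, hxz]; group
  have hgen2 : Subgroup.closure ({x, z} : Set G) = ⊤ := by
    rw [eq_top_iff, ← hgen, Subgroup.closure_le]
    have hxm : x ∈ Subgroup.closure ({x, z} : Set G) := Subgroup.subset_closure (by simp)
    have hzm : z ∈ Subgroup.closure ({x, z} : Set G) := Subgroup.subset_closure (by simp)
    intro g hg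
    simp only [Set.mem_insert_iff, Set.mem_singleton_iff] at hg
    rcases hg with rfl | rfl | rfl
    · exact hxm
    · rw [hycomm, commutatorElement_def]
      exact Subgroup.mul_mem _ (Subgroup.mul_mem _ (Subgroup.mul_mem _ (Subgroup.inv_mem _ hxm) hzm)
        (Subgroup.inv_mem _ (Subgroup.inv_mem _ hxm))) (Subgroup.inv_mem _ hzm)
    · exact hzm
  refine ⟨frattini_index_dvd_of_two_gen hPG hgen2, ?_⟩
  set B : Subgroup G := Subgroup.closure ({y, z} : Set G) with hB
  have hyB : y ∈ B := Subgroup.subset_closure (by simp)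
  have hzB : z ∈ B := Subgroup.subset_closure (by simp)
  have hBcomm : IsMulCommutative B := by
    apply Subgroup.isMulCommutative_closure
    intro a ha b hb
    simp only [Set.mem_insert_iff, Set.mem_singleton_iff] at ha hb
    rcases ha with rfl | rfl <;> rcases hb with rfl | rfl
    · rfl
    · exact hyz
    · exact hyz.symm
    · rfl
  have hBc : ∀ a ∈ B, ∀ b ∈ B, a * b = b * a := by
    intro a ha b hb
    exact congrArg Subtype.val (hBcomm.is_comm.comm ⟨a, ha⟩ ⟨b, hb⟩)
  -- conjugation by `x⁻¹` preserves `B`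
  have hxinv : ∀ b ∈ B, x⁻¹ * b * x ∈ B := by
    have hle : B ≤ B.comap (MulAut.conj x⁻¹).toMonoidHom := by
      rw [hB, Subgroup.closure_le]
      intro g hg
      simp only [Set.mem_insert_iff, Set.mem_singleton_iff] at hg
      rw [SetLike.mem_coe, Subgroup.mem_comap]
      show MulAut.conj x⁻¹ g ∈ Subgroup.closure ({y, z} : Set G)
      rw [MulAut.conj_apply, inv_inv]
      rcases hg with rfl | rfl
      · rw [hxy]
        exact B.mul_mem hyB (B.pow_mem hzB _)
      · rw [hxz]
        exact B.mul_mem hyB hzB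
    intro b hb
    have := hle hb
    rw [Subgroup.mem_comap] at this
    have h2 : (MulAut.conj x⁻¹).toMonoidHom b = x⁻¹ * b * x := by
      show MulAut.conj x⁻¹ b = _
      rw [MulAut.conj_apply, inv_inv]
    rwa [h2] at this
  have hxpow : ∀ k : ℕ, ∀ b ∈ B, (x⁻¹) ^ k * b * ((x⁻¹) ^ k)⁻¹ ∈ B := by
    intro k
    induction k with
    | zero => intro b hb; simpa using hb
    | succ k ih =>
      intro b hb
      have h1 := hxinv _ (ih b hb)
      have h2 : (x⁻¹) ^ (k + 1) * b * ((x⁻¹) ^ (k + 1))⁻¹ =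
          x⁻¹ * ((x⁻¹) ^ k * b * ((x⁻¹) ^ k)⁻¹) * x := by
        rw [pow_succ']; group
      rw [h2]; exact h1
  have hxconj : ∀ b ∈ B, x * b * x⁻¹ ∈ B := by
    intro b hb
    have h1 : x = (x⁻¹) ^ (p - 1) := by
      rw [inv_pow, eq_inv_iff_mul_eq_one, ← pow_succ', Nat.sub_add_cancel hp.out.one_lt.le, hxp]
    have h2 := hxpow (p - 1) b hb
    rw [← h1] at h2
    exact h2
  -- `B` is normal
  have hnorm : ∀ g : G, (∀ b ∈ B, g * b * g⁻¹ ∈ B) ∧ (∀ b ∈ B, g⁻¹ * b * g ∈ B) := by
    intro g
    have hg : g ∈ Subgroup.closure ({x, y, z} : Set G) := by rw [hgen]; exact Subgroup.mem_top g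
    induction hg using Subgroup.closure_induction with
    | mem g hg =>
      simp only [Set.mem_insert_iff, Set.mem_singleton_iff] at hg
      rcases hg with rfl | rfl | rfl
      · exact ⟨hxconj, hxinv⟩
      · exact ⟨fun b hb => B.mul_mem (B.mul_mem hyB hb) (B.inv_mem hyB),
          fun b hb => B.mul_mem (B.mul_mem (B.inv_mem hyB) hb) hyB⟩
      · exact ⟨fun b hb => B.mul_mem (B.mul_mem hzB hb) (B.inv_mem hzB),
          fun b hb => B.mul_mem (B.mul_mem (B.inv_mem hzB) hb) hzB⟩
    | one => exact ⟨fun b hb => by simpa using hb, fun b hb => by simpa using hb⟩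
    | mul g h _ _ ihg ihh =>
      constructor
      · intro b hb
        have := ihg.1 _ (ihh.1 b hb)
        have h2 : g * h * b * (g * h)⁻¹ = g * (h * b * h⁻¹) * g⁻¹ := by group
        rw [h2]; exact this
      · intro b hb
        have := ihh.2 _ (ihg.2 b hb)
        have h2 : (g * h)⁻¹ * b * (g * h) = h⁻¹ * (g⁻¹ * b * g) * h := by group
        rw [h2]; exact this
    | inv g _ ih =>
      constructor
      · intro b hb
        have := ih.2 b hb
        rwa [inv_inv]
      · intro b hb
        have := ih.1 b hb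
        rwa [inv_inv]
  haveI hBn : B.Normal := ⟨fun b hb g => (hnorm g).1 b hb⟩
  -- the quotient by `B` is generated by the image of `x`
  have hquot : ∀ v : G ⧸ B, v ∈ Subgroup.zpowers ((x : G) : G ⧸ B) := by
    have h1 : (Subgroup.closure ({x, y, z} : Set G)).map (QuotientGroup.mk' B) = ⊤ := by
      rw [hgen, Subgroup.map_top_of_surjective _ (QuotientGroup.mk'_surjective _)]
    rw [MonoidHom.map_closure] at h1
    have h2 : Subgroup.closure ((QuotientGroup.mk' B) '' ({x, y, z} : Set G)) ≤
        Subgroup.zpowers ((x : G) : G ⧸ B) := by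
      rw [Subgroup.closure_le]
      rintro _ ⟨g, hg, rfl⟩
      simp only [Set.mem_insert_iff, Set.mem_singleton_iff] at hg
      rcases hg with rfl | rfl | rfl
      · exact Subgroup.mem_zpowers _
      · have : (QuotientGroup.mk' B) g = 1 := (QuotientGroup.eq_one_iff g).2 hyB
        rw [SetLike.mem_coe, this]; exact Subgroup.one_mem _
      · have : (QuotientGroup.mk' B) g = 1 := (QuotientGroup.eq_one_iff g).2 hzB
        rw [SetLike.mem_coe, this]; exact Subgroup.one_mem _
    intro v
    apply h2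
    rw [h1]; exact Subgroup.mem_top v
  have hBidx : B.index ∣ p := by
    rw [Subgroup.index_eq_card]
    have h1 : Subgroup.zpowers ((x : G) : G ⧸ B) = ⊤ := eq_top_iff.2 fun v _ => hquot v
    have h2 : Nat.card (G ⧸ B) = orderOf ((x : G) : G ⧸ B) := by
      rw [← Nat.card_zpowers, h1, Subgroup.card_top]
    rw [h2]
    apply orderOf_dvd_of_pow_eq_one
    rw [← QuotientGroup.mk_pow, hxp]; rfl
  have hcommB : commutator G ≤ B := by
    apply Subgroup.Normal.quotient_commutative_iff_commutator_le.1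
    refine ⟨⟨fun a b => ?_⟩⟩
    obtain ⟨i, rfl⟩ := Subgroup.mem_zpowers_iff.1 (hquot a)
    obtain ⟨j, rfl⟩ := Subgroup.mem_zpowers_iff.1 (hquot b)
    exact (Commute.refl _).zpow_zpow i j
  have hycm : y ∈ commutator G := by
    rw [hycomm]
    exact Subgroup.commutator_mem_commutator (Subgroup.mem_top _) (Subgroup.mem_top _)
  -- `w ≠ 1`
  have hps : ¬ p ∣ s := by
    intro hd
    rcases hs with rfl | hs
    · exact hp.out.one_lt.ne' (Nat.dvd_one.1 hd)
    · apply hs
      rw [(ZMod.natCast_eq_zero_iff s p).2 hd]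
      exact ⟨0, by simp⟩
  have hw1 : z ^ (s * p ^ (n - 3)) ≠ 1 := by
    intro hw
    have ho1 : orderOf z ∣ s * p ^ (n - 3) := orderOf_dvd_of_pow_eq_one hw
    have ho2 : orderOf z ∣ p ^ (n - 2) := orderOf_dvd_of_pow_eq_one hzp
    obtain ⟨j, -, hj⟩ := (Nat.dvd_prime_pow hp.out).1 ho2
    have ho3 : orderOf z ∣ p ^ (n - 3) := by
      apply Nat.Coprime.dvd_of_dvd_mul_left _ ho1
      rw [hj]
      apply Nat.Coprime.pow_left
      exact (Nat.Prime.coprime_iff_not_dvd hp.out).2 hps
    have hcB : Nat.card B ∣ p * p ^ (n - 3) := by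
      have h1 := card_closure_pair_dvd (show Commute y z from hyz)
      exact h1.trans (Nat.mul_dvd_mul (orderOf_dvd_of_pow_eq_one hyp) ho3)
    have hcG : Nat.card G ∣ p * (p * p ^ (n - 3)) := by
      rw [← B.index_mul_card]
      exact Nat.mul_dvd_mul hBidx hcB
    rw [hG] at hcG
    have h5 : p * (p * p ^ (n - 3)) = p ^ (n - 1) := by
      obtain ⟨m, rfl⟩ : ∃ m, n = m + 4 := ⟨n - 4, by omega⟩
      have e1 : m + 4 - 3 = m + 1 := by omega
      have e2 : m + 4 - 1 = m + 3 := by omega
      rw [e1, e2]; ring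
    rw [h5, Nat.pow_dvd_pow_iff_le_right hp.out.one_lt] at hcG
    omega
  refine ⟨Subgroup.centralizer (commutator G : Set G), inferInstance, ?_⟩
  have hBM : B ≤ Subgroup.centralizer (commutator G : Set G) := by
    intro b hb
    rw [Subgroup.mem_centralizer_iff]
    intro c hc
    exact hBc c (hcommB hc) b hb
  have hxM : x ∉ Subgroup.centralizer (commutator G : Set G) := by
    intro hx
    rw [Subgroup.mem_centralizer_iff] at hx
    have h1 := hx y hycm
    apply hw1
    have h2 : x⁻¹ * y * x = y := by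
      rw [mul_assoc, h1, ← mul_assoc, inv_mul_cancel, one_mul]
    rw [hxy] at h2
    exact mul_eq_left.1 h2
  have hdvd : (Subgroup.centralizer (commutator G : Set G)).index ∣ p :=
    (Subgroup.index_dvd_of_le hBM).trans hBidx
  rcases (Nat.dvd_prime hp.out).1 hdvd with h1 | h1
  · exfalso
    apply hxM
    rw [Subgroup.index_eq_one.1 h1]
    exact Subgroup.mem_top x
  · exact h1

end Cfsg.Agent.Helper4.Rk
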