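import Mathlib
import Cfsg.Agent.Helper4.RkM
import Cfsg.Agent.Helper4.RkA

set_option autoImplicit false

/-!
Groups of the form (b) in Blackburn's theorem are of type `E ∘ Z`.
-/

namespace Cfsg.Agent.Helper4.Rk

open Cfsg.Agent.Helper4.Blk
open scoped commutatorElement

universe u

/-- A group of the form (b) is of type `E ∘ Z`. -/
theorem formB_ezt {G : Type u} [Group G] [Finite G] {p : ℕ} [hp : Fact p.Prime] (hp2 : p ≠ 2)
    {n : ℕ} (hG : Nat.card G = p ^ n) (h : FormB p n G) : EZT p G := by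
  obtain ⟨h3, x, y, z, hgen, hxp, hyp, hzp, hxz, hyz, hxy⟩ := h
  have hPG : IsPGroup p G := IsPGroup.of_card hG
  have hzall : ∀ g : G, g * z = z * g := by
    intro g
    have hg : g ∈ Subgroup.closure ({x, y, z} : Set G) := by rw [hgen]; exact Subgroup.mem_top g
    induction hg using Subgroup.closure_induction with
    | mem g hg =>
      simp only [Set.mem_insert_iff, Set.mem_singleton_iff] at hg
      rcases hg with rfl | rfl | rfl
      · exact hxz
      · exact hyz
      · rfl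
    | one => simp
    | mul a b _ _ ha hb => rw [mul_assoc, hb, ← mul_assoc, ha, mul_assoc]
    | inv a _ ha => exact (show Commute a z from ha).inv_left.eq
  have hzc : z ∈ Subgroup.center G := by
    rw [Subgroup.mem_center_iff]
    intro g
    exact hzall g
  set Zz : Subgroup G := Subgroup.zpowers z with hZz
  have hZzc : Zz ≤ Subgroup.center G := by
    rw [hZz, Subgroup.zpowers_le]; exact hzc
  haveI hZn : Zz.Normal := by
    refine ⟨fun a ha g => ?_⟩
    have h1 := Subgroup.mem_center_iff.1 (hZzc ha) g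
    have h2 : g * a * g⁻¹ = a := by rw [h1, mul_assoc, mul_inv_cancel, mul_one]
    rw [h2]; exact ha
  have hzZ : z ∈ Zz := Subgroup.mem_zpowers z
  -- the quotient by `Zz`
  have hcomm : Commute ((x : G) : G ⧸ Zz) ((y : G) : G ⧸ Zz) := by
    show ((x : G) : G ⧸ Zz) * (y : G ⧸ Zz) = (y : G ⧸ Zz) * (x : G ⧸ Zz)
    rw [← QuotientGroup.mk_mul, ← QuotientGroup.mk_mul, QuotientGroup.eq]
    have h1 : (x * y)⁻¹ * (y * x) = y⁻¹ * (x⁻¹ * y * x) := by group
    rw [h1, hxy, ← mul_assoc, inv_mul_cancel, one_mul]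
    exact Zz.pow_mem hzZ _
  have hqtop : Subgroup.closure ({((x : G) : G ⧸ Zz), ((y : G) : G ⧸ Zz)} : Set (G ⧸ Zz)) = ⊤ := by
    have h1 : (Subgroup.closure ({x, y, z} : Set G)).map (QuotientGroup.mk' Zz) = ⊤ := by
      rw [hgen, Subgroup.map_top_of_surjective _ (QuotientGroup.mk'_surjective _)]
    rw [MonoidHom.map_closure] at h1
    rw [eq_top_iff, ← h1, Subgroup.closure_le]
    rintro _ ⟨g, hg, rfl⟩
    simp only [Set.mem_insert_iff, Set.mem_singleton_iff] at hg
    rcases hg with rfl | rfl | rfl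
    · exact Subgroup.subset_closure (by simp)
    · exact Subgroup.subset_closure (by simp)
    · have : (QuotientGroup.mk' Zz) g = 1 := (QuotientGroup.eq_one_iff g).2 hzZ
      rw [SetLike.mem_coe, this]; exact Subgroup.one_mem _
  have hqcard : Nat.card (G ⧸ Zz) ∣ p * p := by
    have h1 := card_closure_pair_dvd hcomm
    rw [hqtop, Subgroup.card_top] at h1
    have ha : orderOf ((x : G) : G ⧸ Zz) ∣ p := by
      apply orderOf_dvd_of_pow_eq_one
      rw [← QuotientGroup.mk_pow, hxp]; rfl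
    have hb : orderOf ((y : G) : G ⧸ Zz) ∣ p := by
      apply orderOf_dvd_of_pow_eq_one
      rw [← QuotientGroup.mk_pow, hyp]; rfl
    exact h1.trans (Nat.mul_dvd_mul ha hb)
  -- orders
  have hoz : orderOf z ∣ p ^ (n - 2) := orderOf_dvd_of_pow_eq_one hzp
  have hcardeq : Nat.card (G ⧸ Zz) * orderOf z = p ^ n := by
    rw [← hG, ← Nat.card_zpowers, Subgroup.card_eq_card_quotient_mul_card_subgroup Zz]
  have hqcard' : Nat.card (G ⧸ Zz) ∣ p ^ 2 := by rw [sq]; exact hqcard
  obtain ⟨a, ha2, ha⟩ := (Nat.dvd_prime_pow hp.out).1 hqcard'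
  obtain ⟨b, hb2, hb⟩ := (Nat.dvd_prime_pow hp.out).1 hoz
  have hab : a + b = n := by
    rw [ha, hb, ← pow_add] at hcardeq
    exact Nat.pow_right_injective hp.out.two_le hcardeq
  have ha' : a = 2 := by omega
  have hb' : b = n - 2 := by omega
  rw [hb'] at hb
  rw [ha'] at ha
  -- `w ≠ 1`
  have hw1 : z ^ p ^ (n - 3) ≠ 1 := by
    intro hw
    have h1 : orderOf z ∣ p ^ (n - 3) := orderOf_dvd_of_pow_eq_one hw
    rw [hb, Nat.pow_dvd_pow_iff_le_right hp.out.one_lt] at h1
    omega
  have hnc : ¬ (∀ a b : G, a * b = b * a) := by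
    intro hc
    apply hw1
    have h1 : x⁻¹ * y * x = y := by rw [mul_assoc, hc y x, ← mul_assoc, inv_mul_cancel, one_mul]
    rw [hxy] at h1
    exact mul_eq_left.1 h1
  -- the centre
  have hcenter : Subgroup.center G = Zz := by
    symm
    apply Subgroup.eq_of_le_of_card_ge hZzc
    obtain ⟨k, hk⟩ := (hPG.to_subgroup (Subgroup.center G)).exists_card_eq
    rw [hk, hZz, Nat.card_zpowers, hb]
    apply Nat.pow_le_pow_right hp.out.pos
    by_contra hlt
    push Not at hlt
    apply hnc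
    have hidx : (Subgroup.center G).index * p ^ k = p ^ n := by
      rw [← hk, ← hG]; exact (Subgroup.center G).index_mul_card
    have hidx2 : (Subgroup.center G).index ∣ p := by
      have h1 : p ^ n = p ^ (n - k) * p ^ k := by
        rw [← pow_add]
        congr 1
        have : k ≤ n := by
          have := Subgroup.card_le_card_group (Subgroup.center G)
          rw [hk, hG] at this
          exact (Nat.pow_le_pow_iff_right hp.out.one_lt).1 this
        omega
      rw [h1] at hidx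
      have h2 := Nat.eq_of_mul_eq_mul_right (pow_pos hp.out.pos k) hidx
      rw [h2]
      have : n - k ≤ 1 := by omega
      calc p ^ (n - k) ∣ p ^ 1 := pow_dvd_pow p this
        _ = p := pow_one p
    haveI : IsCyclic (G ⧸ Subgroup.center G) := by
      apply isCyclic_of_card_dvd_prime (p := p)
      rw [← Subgroup.index_eq_card]; exact hidx2
    intro a b
    exact commutative_of_cyclic_center_quotient (QuotientGroup.mk' (Subgroup.center G))
      (by rw [QuotientGroup.ker_mk']) a b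
  have key : ∀ u : G ⧸ Zz, ∃ i j : ℤ, u = ((x : G) : G ⧸ Zz) ^ i * ((y : G) : G ⧸ Zz) ^ j := by
    intro u
    have hu : u ∈ Subgroup.closure
        ({((x : G) : G ⧸ Zz), ((y : G) : G ⧸ Zz)} : Set (G ⧸ Zz)) := by
      rw [hqtop]; exact Subgroup.mem_top u
    induction hu using Subgroup.closure_induction with
    | mem g hg =>
      simp only [Set.mem_insert_iff, Set.mem_singleton_iff] at hg
      rcases hg with rfl | rfl
      · exact ⟨1, 0, by simp⟩
      · exact ⟨0, 1, by simp⟩
    | one => exact ⟨0, 0, by simp⟩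
    | mul g h _ _ ihg ihh =>
      obtain ⟨i, j, rfl⟩ := ihg
      obtain ⟨i', j', rfl⟩ := ihh
      refine ⟨i + i', j + j', ?_⟩
      rw [zpow_add, zpow_add]
      have h1 : Commute (((y : G) : G ⧸ Zz) ^ j) (((x : G) : G ⧸ Zz) ^ i') :=
        (hcomm.zpow_zpow i' j).symm
      calc ((x : G) : G ⧸ Zz) ^ i * ((y : G) : G ⧸ Zz) ^ j *
            (((x : G) : G ⧸ Zz) ^ i' * ((y : G) : G ⧸ Zz) ^ j')
          = ((x : G) : G ⧸ Zz) ^ i * (((y : G) : G ⧸ Zz) ^ j * ((x : G) : G ⧸ Zz) ^ i') *
              ((y : G) : G ⧸ Zz) ^ j' := by simp only [mul_assoc]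
        _ = ((x : G) : G ⧸ Zz) ^ i * (((x : G) : G ⧸ Zz) ^ i' * ((y : G) : G ⧸ Zz) ^ j) *
              ((y : G) : G ⧸ Zz) ^ j' := by rw [h1.eq]
        _ = _ := by simp only [mul_assoc]
    | inv g _ ih =>
      obtain ⟨i, j, rfl⟩ := ih
      refine ⟨-i, -j, ?_⟩
      rw [mul_inv_rev, zpow_neg, zpow_neg]
      exact ((hcomm.zpow_zpow i j).inv_inv).symm.eq
  have hcomle : commutator G ≤ Subgroup.center G := by
    rw [hcenter]
    apply Subgroup.Normal.quotient_commutative_iff_commutator_le.1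
    refine ⟨⟨fun u v => ?_⟩⟩
    obtain ⟨i, j, rfl⟩ := key u
    obtain ⟨i', j', rfl⟩ := key v
    have c1 : Commute (((x : G) : G ⧸ Zz) ^ i * ((y : G) : G ⧸ Zz) ^ j)
        (((x : G) : G ⧸ Zz) ^ i') :=
      ((Commute.refl _).zpow_zpow i i').mul_left (hcomm.zpow_zpow i' j).symm
    have c2 : Commute (((x : G) : G ⧸ Zz) ^ i * ((y : G) : G ⧸ Zz) ^ j)
        (((y : G) : G ⧸ Zz) ^ j') :=
      (hcomm.zpow_zpow i j').mul_left ((Commute.refl _).zpow_zpow j j')
    exact (c1.mul_right c2).eq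
  refine ⟨?_, ?_, ?_⟩
  · rw [hcenter, hZz]
    infer_instance
  · rw [hcenter, hZz, Nat.card_zpowers, hb, hG, ← pow_add]
    congr 1
    omega
  · intro g
    obtain ⟨i, j, hij⟩ := key (g : G ⧸ Zz)
    rw [← QuotientGroup.mk_zpow, ← QuotientGroup.mk_zpow, ← QuotientGroup.mk_mul, eq_comm,
      QuotientGroup.eq] at hij
    refine ⟨x ^ i * y ^ j, (x ^ i * y ^ j)⁻¹ * g, ?_, ?_, by group⟩
    · have hap : (x ^ i) ^ p = 1 := by
        rw [← zpow_natCast, ← zpow_mul, mul_comm, zpow_mul, zpow_natCast, hxp, one_zpow]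
      have hbp : (y ^ j) ^ p = 1 := by
        rw [← zpow_natCast, ← zpow_mul, mul_comm, zpow_mul, zpow_natCast, hyp, one_zpow]
      have hcx : Commute ⁅y ^ j, x ^ i⁆ (x ^ i) := AutOrb.comm_comm hcomle _ _ _
      have hcy : Commute ⁅y ^ j, x ^ i⁆ (y ^ j) := AutOrb.comm_comm hcomle _ _ _
      have hc : ⁅y ^ j, x ^ i⁆ ^ p = 1 := by
        rw [← AutOrb.comm_pow_left hcomle, hbp, commutatorElement_one_left]
      rw [mul_pow_prime_of_comm hp.out hp2 hcx hcy hc, hap, hbp, one_mul]
    · rw [hcenter]; exact hij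

end Cfsg.Agent.Helper4.Rk
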