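import Mathlib
import Cfsg.Agent.Lead.MetaD
import Cfsg.Agent.Helper3.MetaActD
import Cfsg.Agent.Helper4.MetacyclicA
import Cfsg.Agent.Helper1.AutPlumbing

set_option autoImplicit false

/-!
A nonabelian metacyclic `p`-group (`p` odd) is not "radical with a nontrivial `p`-element outside":
the abstract contradiction used for essential subgroups.
-/

namespace Cfsg.Agent.Helper4.Rk

open Cfsg.Agent.Lead.Meta Cfsg.Agent.Helper3.MetaAct

universe u

theorem frattini_map_equiv' {A B : Type*} [Group A] [Group B] (e : A ≃* B) :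
    (frattini A).map (e : A →* B) = frattini B := by
  apply le_antisymm
  · rw [Subgroup.map_le_iff_le_comap]
    exact frattini_le_comap_frattini_of_surjective (φ := (e : A →* B)) e.surjective
  · intro x hx
    have h1 := frattini_le_comap_frattini_of_surjective (φ := (e.symm : B →* A))
      e.symm.surjective hx
    rw [Subgroup.mem_comap] at h1
    exact ⟨e.symm x, h1, e.apply_symm_apply x⟩

theorem frat_top {Q : Type*} [Group Q] : frat (⊤ : Subgroup Q) = frattini Q := by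
  have h1 := frattini_map_equiv' (Subgroup.topEquiv (G := Q))
  rw [← h1]
  rfl

theorem metacyclic_contra {Q : Type u} [Group Q] [Finite Q] {p : ℕ} [hp : Fact p.Prime]
    (hp2 : p ≠ 2) (hQ : IsPGroup p Q) (hm : Cfsg.IsMetacyclic Q) (hnc : ∃ a b : Q, a * b ≠ b * a)
    (A I : Subgroup (MulAut Q))
    (hrad : ∀ N : Subgroup (MulAut Q), N ≤ A → (∀ a ∈ A, ∀ n ∈ N, a * n * a⁻¹ ∈ N) →
      IsPGroup p N → N ≤ I)
    {δ : MulAut Q} (hδA : δ ∈ A) (hδI : δ ∉ I)
    (hδp : ∀ x : Q, x⁻¹ * (δ ^ p) x ∈ frattini Q) : False := by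
  have hM : ∀ α ∈ A, ∀ x, α x ∈ (⊤ : Subgroup Q) ↔ x ∈ (⊤ : Subgroup Q) := fun _ _ _ =>
    ⟨fun _ => Subgroup.mem_top _, fun _ => Subgroup.mem_top _⟩
  have hidx : (frattini ↥(⊤ : Subgroup Q)).index ∣ p ^ 2 := by
    have h1 := Subgroup.index_map_equiv (H := frattini ↥(⊤ : Subgroup Q))
      (Subgroup.topEquiv (G := Q))
    rw [frattini_map_equiv'] at h1
    rw [← h1]
    exact Cfsg.Agent.Helper4.metacyclic_frattini_index_dvd hQ hm
  have hδC : δ ∈ Csub (⊤ : Subgroup Q) A := ⟨hδA, fun _ => Subgroup.mem_top _⟩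
  have hδpK : δ ^ p ∈ Ksub (⊤ : Subgroup Q) A := by
    refine ⟨⟨A.pow_mem hδA p, fun _ => Subgroup.mem_top _⟩, fun m _ => ?_⟩
    rw [frat_top]; exact hδp m
  obtain ⟨t, htC, htinv⟩ := exists_inverting hp2 hQ ⊤ A hM I hrad hidx hδC hδI hδpK
  have htinv' : ∀ m : Q, m * t m ∈ frattini Q := by
    intro m
    have := htinv m (Subgroup.mem_top m)
    rwa [frat_top] at this
  set q := Cfsg.Agent.Helper1.AutPlumbing.quotAut (frattini Q) frattini_characteristic with hq
  have hqt : ∀ v : Q ⧸ frattini Q, q t v = v⁻¹ := by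
    intro v
    obtain ⟨x, rfl⟩ := QuotientGroup.mk_surjective v
    rw [hq, Cfsg.Agent.Helper1.AutPlumbing.quotAut_mk, ← QuotientGroup.mk_inv, eq_comm,
      QuotientGroup.eq, inv_inv]
    exact htinv' x
  have hqt2 : (q t) ^ 2 = 1 := by
    ext v
    rw [sq, MulAut.mul_apply, hqt, hqt, inv_inv, MulAut.one_apply]
  have hpos : 0 < orderOf t := orderOf_pos t
  obtain ⟨a, m', hm', hmo⟩ := Nat.exists_eq_pow_mul_and_not_dvd hpos.ne' p hp.out.ne_one
  have hodd : Odd (p ^ a) := (hp.out.odd_of_ne_two hp2).pow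
  obtain ⟨j, hj⟩ := hodd
  have hqt' : q (t ^ (p ^ a)) = q t := by
    rw [map_pow, hj, pow_succ, pow_mul, hqt2, one_pow, one_mul]
  set t' := t ^ (p ^ a) with ht'
  have hinv' : ∀ x : Q, x * t' x ∈ frattini Q := by
    intro x
    have h1 := hqt (QuotientGroup.mk x)
    rw [← hqt', hq, Cfsg.Agent.Helper1.AutPlumbing.quotAut_mk, ← QuotientGroup.mk_inv, eq_comm,
      QuotientGroup.eq, inv_inv] at h1
    exact h1
  set B : Subgroup (MulAut Q) := Subgroup.zpowers t' with hB
  have hcop : (Nat.card B).Coprime p := by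
    rw [hB, Nat.card_zpowers]
    have h1 : t' ^ m' = 1 := by
      rw [ht', ← pow_mul, ← hmo, pow_orderOf_eq_one]
    have h2 : orderOf t' ∣ m' := orderOf_dvd_of_pow_eq_one h1
    apply Nat.Coprime.coprime_dvd_left h2
    exact ((Nat.Prime.coprime_iff_not_dvd hp.out).2 hm').symm
  have htop : commSub B.subtype = ⊤ := by
    apply frattini_nongenerating
    rw [eq_top_iff]
    intro x _
    set L := commSub B.subtype ⊔ frattini Q with hL
    have h1 : x * (t' x)⁻¹ ∈ L :=
      (le_sup_left : commSub B.subtype ≤ L)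
        (mem_commSub B.subtype ⟨t', Subgroup.mem_zpowers t'⟩ x)
    have h2 : t' x * x ∈ L := by
      apply (le_sup_right : frattini Q ≤ L)
      have h3 : t' x * x = x⁻¹ * (x * t' x) * x⁻¹⁻¹ := by group
      rw [h3]
      exact (inferInstance : (frattini Q).Normal).conj_mem _ (hinv' x) _
    have h4 : x ^ 2 ∈ L := by
      have : x ^ 2 = (x * (t' x)⁻¹) * (t' x * x) := by rw [sq]; group
      rw [this]; exact L.mul_mem h1 h2
    have h5 : x ^ p ∈ L :=
      (le_sup_right : frattini Q ≤ L) (Cfsg.Agent.Helper4.pgroup_pow_mem_frattini hQ x)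
    obtain ⟨k, hk⟩ := hp.out.odd_of_ne_two hp2
    have h6 : x = ((x ^ 2) ^ k)⁻¹ * x ^ p := by
      rw [hk, ← pow_mul, pow_succ]; group
    rw [h6]
    exact L.mul_mem (L.inv_mem (L.pow_mem h4 k)) h5
  obtain ⟨a₀, b₀, hab⟩ := hnc
  exact hab (abelian_of_commSub_top hp2 hQ hm B.subtype hcop htop a₀ b₀)

end Cfsg.Agent.Helper4.Rk
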