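import Mathlib
import Cfsg.Prelude.Def_FusionSystem
import Cfsg.Agent.Lead.FusionSat3
import Cfsg.Agent.Lead.FusionNormalCrit
import Cfsg.Agent.Lead.FusionAlperin
import Cfsg.Agent.Helper4.RkK

set_option autoImplicit false

/-!
Fusion systems on `p`-groups of rank two: the configuration `Q ⊴ N_S(Q)` for a subgroup `Q` of type
`E ∘ Z` with `C_S(Q) ≤ Q`.
-/

namespace Cfsg.Agent.Helper4.Rk

open Cfsg Cfsg.FusionSystem Cfsg.Agent.Lead
open scoped commutatorElement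

variable {Ω : Type*} [Group Ω] {S : Subgroup Ω}

/-- the rank hypothesis for subgroups of `S` -/
theorem prank_of_hrank3 {p : ℕ}
    (hrank3 : ∀ E : Subgroup Ω, E ≤ S → Cfsg.IsElementaryAbelian p E → Nat.card E ≤ p ^ 2)
    {K : Subgroup Ω} (hK : K ≤ S) : Cfsg.PRankLE p 2 ↥K := by
  intro A hAc hAe
  have hE : A.map K.subtype ≤ S := by
    rintro _ ⟨a, -, rfl⟩
    exact hK a.2
  have h1 := hrank3 (A.map K.subtype) hE ⟨?_, ?_⟩
  · rwa [Subgroup.card_map_of_injective K.subtype_injective] at h1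
  · refine ⟨⟨fun a b => ?_⟩⟩
    obtain ⟨a, ha⟩ := a
    obtain ⟨b, hb⟩ := b
    obtain ⟨a', ha', rfl⟩ := ha
    obtain ⟨b', hb', rfl⟩ := hb
    apply Subtype.ext
    have h2 := hAc.is_comm.comm ⟨a', ha'⟩ ⟨b', hb'⟩
    have h3 := congrArg Subtype.val h2
    have h4 := congrArg Subtype.val h3
    exact h4
  · rintro _ ⟨a, ha, rfl⟩
    have h2 := hAe a ha
    have h3 := congrArg Subtype.val h2
    simpa using h3

/-- the configuration attached to `Q` -/
def ycOf {p : ℕ} (hS : IsPGroup p S)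
    (hrank3 : ∀ E : Subgroup Ω, E ≤ S → Cfsg.IsElementaryAbelian p E → Nat.card E ≤ p ^ 2)
    {Q : Subgroup Ω} (hQS : Q ≤ S) (hez : EZT p ↥Q) (hcent : centralizerIn S Q ≤ Q) :
    YC p ↥(normalizerIn S Q) where
  Q := Q.subgroupOf (normalizerIn S Q)
  pg := hS.to_le inf_le_left
  rk := prank_of_hrank3 hrank3 inf_le_left
  nQ := (Subgroup.normal_subgroupOf_iff_le_normalizer (Fusion.le_normalizerIn hQS)).2 inf_le_right
  cent := by
    intro g hg
    rw [Subgroup.mem_subgroupOf]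
    apply hcent
    refine Subgroup.mem_inf.2 ⟨(Subgroup.mem_inf.1 g.2).1, ?_⟩
    rw [Subgroup.mem_centralizer_iff]
    intro q hq
    have := (Subgroup.mem_centralizer_iff.1 hg) ⟨q, Fusion.le_normalizerIn hQS hq⟩
      (Subgroup.mem_subgroupOf.2 hq)
    exact congrArg Subtype.val this
  ez := hez.of_mulEquiv (Subgroup.subgroupOfEquivOfLe (Fusion.le_normalizerIn hQS)).symm

section

variable {p : ℕ} (hS : IsPGroup p S)
  (hrank3 : ∀ E : Subgroup Ω, E ≤ S → Cfsg.IsElementaryAbelian p E → Nat.card E ≤ p ^ 2)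
  {Q : Subgroup Ω} (hQS : Q ≤ S) (hez : EZT p ↥Q) (hcent : centralizerIn S Q ≤ Q)

theorem ycOf_mem_Q (g : ↥(normalizerIn S Q)) :
    g ∈ (ycOf hS hrank3 hQS hez hcent).Q ↔ (g : Ω) ∈ Q := Iff.rfl

theorem ycOf_mem_Z_iff (w : ↥(normalizerIn S Q)) :
    w ∈ (ycOf hS hrank3 hQS hez hcent).Z ↔
      ∃ h : (w : Ω) ∈ Q, (⟨(w : Ω), h⟩ : Q) ∈ Subgroup.center ↥Q := by
  constructor
  · intro hw
    have hwQ : (w : Ω) ∈ Q := (ycOf hS hrank3 hQS hez hcent).Z_le_Q hw
    refine ⟨hwQ, ?_⟩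
    rw [Subgroup.mem_center_iff]
    intro q
    have h1 := ((ycOf hS hrank3 hQS hez hcent).mem_Z_iff w).1 hw
      ⟨q.1, Fusion.le_normalizerIn hQS q.2⟩ q.2
    apply Subtype.ext
    have h2 := congrArg Subtype.val h1
    exact h2
  · rintro ⟨hwQ, hc⟩
    rw [YC.mem_Z_iff]
    intro q hq
    have h1 := Subgroup.mem_center_iff.1 hc ⟨(q : Ω), hq⟩
    apply Subtype.ext
    have h2 := congrArg Subtype.val h1
    exact h2

end

end Cfsg.Agent.Helper4.Rk
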