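import Mathlib
import Cfsg.Agent.Helper4.RkP

set_option autoImplicit false

/-!
Fusion systems on `p`-groups of rank two, `p ≥ 5`: a receptive subgroup `Q` of type `E ∘ Z` with
`C_S(Q) ≤ Q` whose `Aut_S(Q)` is a maximal `p`-subgroup of `Aut_F(Q)` has `Aut_S(Q)` normal in
`Aut_F(Q)`.
-/

namespace Cfsg.Agent.Helper4.Rk

open Cfsg Cfsg.FusionSystem Cfsg.Agent.Lead
open scoped commutatorElement

variable {Ω : Type*} [Group Ω] {S : Subgroup Ω}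

/-- `(1/2)² ≠ 1` modulo `p ≥ 5` -/
theorem half_sq_ne_one {p : ℕ} [hp : Fact p.Prime] (hp5 : 5 ≤ p) :
    ((((2 : ZMod p)⁻¹).val : ℕ) : ZMod p) ^ 2 ≠ 1 := by
  have hp2 : p ≠ 2 := by omega
  have hp3 : p ≠ 3 := by omega
  have h2 := two_ne_zero_zmod (p := p) hp2
  have h3 := three_ne_zero_zmod (p := p) hp3
  rw [ZMod.natCast_zmod_val]
  intro h
  apply h3
  have h5 : (1 : ZMod p) = 2 * 2 := by
    calc (1 : ZMod p) = (2 * 2⁻¹) * (2 * 2⁻¹) := by rw [mul_inv_cancel₀ h2, one_mul]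
      _ = 2 * 2 * ((2 : ZMod p)⁻¹ ^ 2) := by ring
      _ = 2 * 2 := by rw [h, mul_one]
  have h6 : (3 : ZMod p) = 2 * 2 - 1 := by ring
  rw [h6, ← h5, sub_self]

/-- an extension of an automorphism of `Q` to `N_S(Q)` preserves `Q` -/
theorem ext_preserves {Q : Subgroup Ω} (hQS : Q ≤ S) (n : MulAut Q)
    (γ : MulAut ↥(normalizerIn S Q))
    (hγ : ∀ x : Q, ((γ ⟨x.1, Fusion.le_normalizerIn hQS x.2⟩ : ↥(normalizerIn S Q)) : Ω) = n x)
    (q : ↥(normalizerIn S Q)) : ((γ q : ↥(normalizerIn S Q)) : Ω) ∈ Q ↔ (q : Ω) ∈ Q := by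
  constructor
  · intro h
    set x' : Q := n⁻¹ ⟨_, h⟩ with hx'
    have h1 := hγ x'
    rw [hx', MulAut.apply_inv_self] at h1
    have h2 : γ ⟨x'.1, Fusion.le_normalizerIn hQS x'.2⟩ = γ q := Subtype.ext h1
    have h3 := γ.injective h2
    rw [← h3]
    exact x'.2
  · intro h
    have h1 := hγ ⟨q.1, h⟩
    have h2 : (⟨q.1, Fusion.le_normalizerIn hQS h⟩ : ↥(normalizerIn S Q)) = q := Subtype.ext rfl
    rw [h2] at h1
    rw [h1]
    exact (n ⟨q.1, h⟩).2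

theorem lemmaX [Finite S] {p : ℕ} [hp : Fact p.Prime] (hp5 : 5 ≤ p) (hS : IsPGroup p S)
    (F : FusionSystem S)
    (hrank3 : ∀ E : Subgroup Ω, E ≤ S → Cfsg.IsElementaryAbelian p E → Nat.card E ≤ p ^ 2)
    {Q : Subgroup Ω} (hrec : F.IsReceptive Q) (hez : EZT p ↥Q) (hcent : centralizerIn S Q ≤ Q)
    (hmax : ∀ T' : Subgroup (MulAut Q), autInducedBy S Q ≤ T' → T' ≤ F.autGroup Q →
      IsPGroup p T' → T' ≤ autInducedBy S Q)
    (hnn : ∃ β ∈ F.autGroup Q, ∃ τ ∈ autInducedBy S Q, β * τ * β⁻¹ ∉ autInducedBy S Q) :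
    False := by
  have hQS := hrec.1
  haveI : Finite Q := Fusion.finite_of_le hQS
  haveI : Finite ↥(normalizerIn S Q) := Fusion.finite_of_le (inf_le_left : normalizerIn S Q ≤ S)
  have hp2 : p ≠ 2 := by omega
  have hp3 : p ≠ 3 := by omega
  obtain ⟨n, hnA, y, z, hz, hnorm, hnZ, ⟨τ, hτT, hτy⟩, hny⟩ :=
    exists_diag hez hp2 hp3 (F.autGroup Q) (autInducedBy S Q)
      (Fusion.autInducedBy_le_autGroup F hQS) (Fusion.isPGroup_autInducedBy p hS Q)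
      (Fusion.inn_le_autInducedBy hQS) hmax hnn
  obtain ⟨γ, -, hγ⟩ := Fusion.exists_aut_normalizerIn_extension F hrec n hnA hnorm
  set c := ycOf hS hrank3 hQS hez hcent with hc
  have hδQ : ∀ q, γ q ∈ c.Q ↔ q ∈ c.Q := fun q => ext_preserves hQS n γ hγ q
  have hcaseA : ∀ w ∈ c.Z, γ w = w := by
    intro w hw
    obtain ⟨hwQ, hwc⟩ := (ycOf_mem_Z_iff hS hrank3 hQS hez hcent w).1 hw
    apply Subtype.ext
    have h1 := hγ ⟨w.1, hwQ⟩
    have h2 : (⟨w.1, Fusion.le_normalizerIn hQS hwQ⟩ : ↥(normalizerIn S Q)) = w := Subtype.ext rfl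
    rw [h2] at h1
    rw [h1, hnZ _ hwc]
  -- the element `y`
  set y' : ↥(normalizerIn S Q) := ⟨y.1, Fusion.le_normalizerIn hQS y.2⟩ with hy'
  have hy'Q : y' ∈ c.Q := y.2
  set z' : ↥(normalizerIn S Q) := ⟨z.1, Fusion.le_normalizerIn hQS z.2⟩ with hz'
  have hz'Z : z' ∈ c.Z := (ycOf_mem_Z_iff hS hrank3 hQS hez hcent z').2 ⟨z.2, hz⟩
  have hδy : γ y' = y' ^ ((2 : ZMod p)⁻¹).val * z' := by
    apply Subtype.ext
    rw [hγ y, hny]
    rfl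
  have hyL : ∃ g : ↥(normalizerIn S Q), ⁅g, y'⁆ ∉ c.Z := by
    obtain ⟨g, hgS, hg⟩ := (mem_autInducedBy_iff S Q τ).1 hτT
    have hgN : g ∈ Subgroup.normalizer (Q : Set Ω) := by
      apply mem_normalizer_of_conj_mem_of_finite
      intro x hx
      rw [← hg ⟨x, hx⟩]
      exact (τ ⟨x, hx⟩).2
    refine ⟨⟨g, Subgroup.mem_inf.2 ⟨hgS, hgN⟩⟩, ?_⟩
    intro hmem
    apply hτy
    rw [c.comm_mem_Z_iff] at hmem
    obtain ⟨h1, h2⟩ := (ycOf_mem_Z_iff hS hrank3 hQS hez hcent _).1 hmem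
    have h3 : (⟨_, h1⟩ : Q) = y⁻¹ * τ y := by
      apply Subtype.ext
      show (y : Ω)⁻¹ * (g * (y : Ω) * g⁻¹) = (y : Ω)⁻¹ * ((τ y : Q) : Ω)
      rw [hg y]
    rw [← h3]
    exact h2
  have hfin := c.ymain hp2 γ hδQ (Or.inr hcaseA) hy'Q hyL _ hz'Z hδy
  exact half_sq_ne_one hp5 hfin

end Cfsg.Agent.Helper4.Rk
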