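import Mathlib
import Cfsg.Agent.Lead.PCubeExtra
import Cfsg.Agent.Helper4.RkH

set_option autoImplicit false

/-!
A `p`-group `N` with a self-centralizing normal elementary abelian subgroup `P` of order `p²` and an
automorphism acting on `P` as `diag(2, 2⁻¹)`: `N` has exponent `p` and order `p³`.
-/

namespace Cfsg.Agent.Helper4.Rk

open Cfsg.Agent.Lead.EssPSq
open scoped commutatorElement

/-- the configuration -/
structure N0C (p : ℕ) (N : Type*) [Group N] where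
  P : Subgroup N
  nP : P.Normal
  pg : IsPGroup p N
  ea : EA p ↥P
  cent : Subgroup.centralizer (P : Set N) ≤ P
  x : ↥P
  y : ↥P
  hx : x ≠ 1
  hy : y ∉ Subgroup.zpowers x
  hfix : ∀ g : N, g * (x : N) = (x : N) * g

namespace N0C

variable {N : Type*} [Group N] [Finite N] {p : ℕ} [hp : Fact p.Prime] (c : N0C p N)

/-- the conjugation action on `P` -/
def kp : N →* MulAut ↥c.P :=
  haveI := c.nP
  MulAut.conjNormal

omit [Finite N] hp in
theorem kp_apply (g : N) (v : ↥c.P) : ((c.kp g v : ↥c.P) : N) = g * v * g⁻¹ := rfl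

omit [Finite N] hp in
theorem kp_x (g : N) : c.kp g c.x = c.x := by
  apply Subtype.ext
  rw [kp_apply, c.hfix g, mul_assoc, mul_inv_cancel, mul_one]

omit [Finite N] hp in
theorem mem_of_kp_eq_one {g : N} (h : c.kp g = 1) : g ∈ c.P := by
  apply c.cent
  rw [Subgroup.mem_centralizer_iff]
  intro v hv
  have h1 : c.kp g ⟨v, hv⟩ = ⟨v, hv⟩ := by rw [h]; rfl
  have h2 := congrArg Subtype.val h1
  rw [kp_apply] at h2
  have h3 : g * v = v * g := by
    calc g * v = (g * v * g⁻¹) * g := by group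
      _ = v * g := by rw [h2]
  exact h3.symm

omit [Finite N] hp in
theorem kp_eq_one_of_mem {g : N} (h : g ∈ c.P) : c.kp g = 1 := by
  ext v
  rw [MulAut.one_apply, kp_apply]
  have h1 := c.ea.comm ⟨g, h⟩ v
  have h2 : g * (v : N) = (v : N) * g := congrArg Subtype.val h1
  rw [h2, mul_assoc, mul_inv_cancel, mul_one]

theorem unip (g : N) : ∃ a : ZMod p, c.kp g c.y = c.x ^ a.val * c.y := by
  obtain ⟨k, hk⟩ := c.pg g
  exact L1' c.ea c.hx c.hy (c.kp g) k (by rw [← map_pow, hk, map_one]) (c.kp_x g)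

theorem disp (g : N) (v : ↥c.P) : ∃ k : ZMod p, c.kp g v = c.x ^ k.val * v := by
  obtain ⟨a, ha⟩ := c.unip g
  obtain ⟨i, j, rfl⟩ := exists_coord c.ea c.hx c.hy v
  refine ⟨a * j, ?_⟩
  rw [map_mul, map_pow, map_pow, c.kp_x, ha,
    (show Commute (c.x ^ a.val) c.y from c.ea.comm _ _).mul_pow, ← pow_val_mul (c.ea.exp c.x),
    ← mul_assoc, ← mul_assoc, c.ea.comm (c.x ^ i.val) (c.x ^ (a * j).val)]

theorem kp_pow_p (g : N) : c.kp g ^ p = 1 := by
  obtain ⟨a, ha⟩ := c.unip g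
  exact unip_pow_p c.ea c.hx c.hy (c.kp g) (c.kp_x g) ha

theorem pow_p_mem (g : N) : g ^ p ∈ c.P := by
  apply c.mem_of_kp_eq_one
  rw [map_pow, c.kp_pow_p]

theorem unip_ne_zero {g : N} (hg : g ∉ c.P) {a : ZMod p} (ha : c.kp g c.y = c.x ^ a.val * c.y) :
    a ≠ 0 := by
  rintro rfl
  apply hg
  apply c.mem_of_kp_eq_one
  apply agree c.ea c.hx c.hy
  · rw [c.kp_x]; rfl
  · rw [ha, ZMod.val_zero, pow_zero, one_mul]; rfl

theorem pow_p_eq {g : N} (hg : g ∉ c.P) : ∃ j : ℕ, g ^ p = (c.x : N) ^ j := by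
  obtain ⟨a, ha⟩ := c.unip g
  have ha0 := c.unip_ne_zero hg ha
  have h1 : c.kp g ⟨g ^ p, c.pow_p_mem g⟩ = ⟨g ^ p, c.pow_p_mem g⟩ := by
    apply Subtype.ext
    rw [kp_apply]
    show g * g ^ p * g⁻¹ = g ^ p
    rw [← pow_succ', pow_succ, mul_assoc, mul_inv_cancel, mul_one]
  have h2 := fixed_of_unip c.ea c.hx c.hy (c.kp g) (c.kp_x g) ha0 ha _ h1
  rw [← mem_powers_iff_mem_zpowers] at h2
  obtain ⟨j, hj⟩ := h2
  refine ⟨j, ?_⟩
  have := congrArg Subtype.val hj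
  simpa using this.symm

/-- the quotient `N / P` is generated by any element outside `P` -/
theorem exists_pow_mod {t : N} (ht : t ∉ c.P) (g : N) : ∃ i : ℕ, g * (t ^ i)⁻¹ ∈ c.P := by
  obtain ⟨a, ha⟩ := c.unip t
  have ha0 := c.unip_ne_zero ht ha
  obtain ⟨b, hb⟩ := c.unip g
  refine ⟨(b * a⁻¹).val, ?_⟩
  apply c.mem_of_kp_eq_one
  rw [map_mul, map_inv, map_pow, mul_inv_eq_one]
  obtain ⟨h1, h2⟩ := pow_formula c.ea (c.kp t) (c.kp_x t) ha (b * a⁻¹).val
  apply agree c.ea c.hx c.hy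
  · rw [h1, c.kp_x]
  · rw [h2, hb, ZMod.natCast_zmod_val, mul_assoc, inv_mul_cancel₀ ha0, mul_one]

/-- the order of `N` -/
theorem card_eq {t : N} (ht : t ∉ c.P) : Nat.card N = p ^ 3 := by
  haveI := c.nP
  have hquot : ∀ v : N ⧸ c.P, v ∈ Subgroup.zpowers ((t : N) : N ⧸ c.P) := by
    intro v
    obtain ⟨g, rfl⟩ := QuotientGroup.mk_surjective v
    obtain ⟨i, hi⟩ := c.exists_pow_mod ht g
    rw [Subgroup.mem_zpowers_iff]
    refine ⟨i, ?_⟩
    rw [zpow_natCast, ← QuotientGroup.mk_pow, QuotientGroup.eq]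
    have h1 : (t ^ i)⁻¹ * g = (t ^ i)⁻¹ * (g * (t ^ i)⁻¹) * (t ^ i)⁻¹⁻¹ := by group
    rw [h1]
    exact c.nP.conj_mem _ hi _
  have h1 : Subgroup.zpowers ((t : N) : N ⧸ c.P) = ⊤ := eq_top_iff.2 fun v _ => hquot v
  have h2 : Nat.card (N ⧸ c.P) = orderOf ((t : N) : N ⧸ c.P) := by
    rw [← Nat.card_zpowers, h1, Subgroup.card_top]
  have h3 : orderOf ((t : N) : N ⧸ c.P) = p := by
    apply orderOf_eq_prime
    · rw [← QuotientGroup.mk_pow, QuotientGroup.eq_one_iff]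
      exact c.pow_p_mem t
    · rw [Ne, QuotientGroup.eq_one_iff]
      exact ht
  rw [Subgroup.card_eq_card_quotient_mul_card_subgroup c.P, h2, h3, c.ea.card]
  ring

omit [Finite N] hp in
/-- `D * κ g = κ (γ g) * D` -/
theorem kp_aut (γ : MulAut N) (hγP : ∀ q, γ q ∈ c.P ↔ q ∈ c.P) (g : N) :
    resAut c.P γ hγP * c.kp g = c.kp (γ g) * resAut c.P γ hγP := by
  ext v
  rw [MulAut.mul_apply, MulAut.mul_apply, kp_apply, resAut_apply, resAut_apply, kp_apply]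
  simp

/-- `N` has exponent `p` -/
theorem pow_p_eq_one (hp2 : p ≠ 2) (γ : MulAut N) (hγP : ∀ q, γ q ∈ c.P ↔ q ∈ c.P)
    (hDx : γ (c.x : N) = (c.x : N) ^ 2)
    (hDy : γ (c.y : N) = (c.y : N) ^ ((2 : ZMod p)⁻¹).val) (g : N) : g ^ p = 1 := by
  by_cases hg : g ∈ c.P
  · have := congrArg Subtype.val (c.ea.exp ⟨g, hg⟩)
    simpa using this
  set D := resAut c.P γ hγP with hD
  have hDx' : D c.x = c.x ^ 2 := by
    apply Subtype.ext
    rw [hD, resAut_apply, hDx]; rfl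
  have hDy' : D c.y = c.y ^ ((2 : ZMod p)⁻¹).val := by
    apply Subtype.ext
    rw [hD, resAut_apply, hDy]; rfl
  obtain ⟨a, ha⟩ := c.unip g
  have hconj := conj_unip hp2 c.ea c.hx c.hy D hDx' hDy' (c.kp g) (c.kp_x g) ha
  have hconj2 : D * c.kp g * D⁻¹ = c.kp (γ g) := by
    rw [hD, c.kp_aut γ hγP g, mul_assoc, mul_inv_cancel, mul_one]
  have hu : (g ^ 4)⁻¹ * γ g ∈ c.P := by
    apply c.mem_of_kp_eq_one
    rw [map_mul, map_inv, map_pow, ← hconj2, hconj, inv_mul_cancel]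
  set u := (g ^ 4)⁻¹ * γ g with hudef
  have hγg : γ g = g ^ 4 * u := by rw [hudef]; group
  -- `g ^ p` is a power of `x`
  obtain ⟨j, hj⟩ := c.pow_p_eq hg
  have h1 : γ (g ^ p) = (g ^ p) ^ 2 := by
    rw [hj, map_pow, hDx, ← pow_mul, ← pow_mul, mul_comm]
  -- the commutator `⁅u, g ^ 4⁆` is a power of `x`
  obtain ⟨k, hk⟩ := c.disp (g ^ 4) ⟨u⁻¹, c.P.inv_mem hu⟩
  have hk' : g ^ 4 * u⁻¹ * (g ^ 4)⁻¹ = (c.x : N) ^ k.val * u⁻¹ := by
    have := congrArg Subtype.val hk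
    rw [kp_apply] at this
    simpa using this
  have hcomm : ⁅u, g ^ 4⁆ = (c.x : N) ^ k.val := by
    rw [commutatorElement_def]
    have hc1 : Commute u ((c.x : N) ^ k.val) := by
      have := c.ea.comm ⟨u, hu⟩ (c.x ^ k.val)
      have h2 := congrArg Subtype.val this
      show u * (c.x : N) ^ k.val = (c.x : N) ^ k.val * u
      simpa using h2
    calc u * g ^ 4 * u⁻¹ * (g ^ 4)⁻¹ = u * (g ^ 4 * u⁻¹ * (g ^ 4)⁻¹) := by group
      _ = u * ((c.x : N) ^ k.val * u⁻¹) := by rw [hk']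
      _ = (u * (c.x : N) ^ k.val) * u⁻¹ := by group
      _ = ((c.x : N) ^ k.val * u) * u⁻¹ := by rw [hc1.eq]
      _ = (c.x : N) ^ k.val := by group
  have hxcen : ∀ h : N, Commute ((c.x : N) ^ k.val) h := fun h =>
    ((show Commute h (c.x : N) from c.hfix h).pow_right k.val).symm
  have hxp : (c.x : N) ^ p = 1 := by
    have := congrArg Subtype.val (c.ea.exp c.x)
    simpa using this
  have hup : u ^ p = 1 := by
    have := congrArg Subtype.val (c.ea.exp ⟨u, hu⟩)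
    simpa using this
  have h2 : (g ^ 4 * u) ^ p = (g ^ 4) ^ p * u ^ p := by
    apply mul_pow_prime_of_comm hp.out hp2
    · rw [hcomm]; exact hxcen _
    · rw [hcomm]; exact hxcen _
    · rw [hcomm, ← pow_mul, mul_comm, pow_mul, hxp, one_pow]
  have h3 : (g ^ p) ^ 2 = (g ^ p) ^ 4 := by
    rw [← h1, map_pow, hγg, h2, hup, mul_one, ← pow_mul, ← pow_mul, mul_comm]
  have h4 : (g ^ p) ^ 2 = 1 := by
    have : (g ^ p) ^ 2 * 1 = (g ^ p) ^ 2 * (g ^ p) ^ 2 := by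
      rw [mul_one, ← pow_add]; exact h3
    exact (mul_left_cancel this).symm
  have h5 : (g ^ p) ^ p = 1 := by
    have := congrArg Subtype.val (c.ea.exp ⟨g ^ p, c.pow_p_mem g⟩)
    simpa using this
  have h6 : orderOf (g ^ p) ∣ Nat.gcd 2 p :=
    Nat.dvd_gcd (orderOf_dvd_of_pow_eq_one h4) (orderOf_dvd_of_pow_eq_one h5)
  have h7 : Nat.gcd 2 p = 1 := by
    rw [Nat.coprime_primes Nat.prime_two hp.out |>.mpr (Ne.symm hp2)]
  rw [h7, Nat.dvd_one, orderOf_eq_one_iff] at h6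
  exact h6

/-- `N` is of type `E ∘ Z` (extraspecial of order `p³` and exponent `p`) -/
theorem ezt {t : N} (ht : t ∉ c.P) (hexp : ∀ g : N, g ^ p = 1) :
    EZT p N ∧ Nat.card (Subgroup.center N) = p := by
  have hcard := c.card_eq ht
  have hnc : ∃ a b : N, a * b ≠ b * a := by
    obtain ⟨a, ha⟩ := c.unip t
    have ha0 := c.unip_ne_zero ht ha
    refine ⟨t, c.y, fun h => ?_⟩
    apply ha0
    have h1 : c.kp t c.y = c.y := by
      apply Subtype.ext
      rw [kp_apply, h, mul_assoc, mul_inv_cancel, mul_one]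
    rw [ha] at h1
    have h2 : c.x ^ a.val * c.y ^ (1 : ZMod p).val = c.x ^ (0 : ZMod p).val * c.y ^ (1 : ZMod p).val := by
      rw [pow_val_one, ZMod.val_zero, pow_zero, one_mul]; exact h1
    exact (coord_inj c.ea c.hx c.hy h2).1
  have hcen := Cfsg.Agent.Lead.PCubeExtra.card_center_of_card_cube hcard hnc
  refine ⟨⟨?_, ?_, ?_⟩, hcen⟩
  · exact isCyclic_of_prime_card hcen
  · rw [hcen, hcard]; ring
  · intro g
    exact ⟨g, 1, hexp g, Subgroup.one_mem _, (mul_one g).symm⟩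

end N0C

end Cfsg.Agent.Helper4.Rk
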