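import Mathlib
import Cfsg.Agent.Lead.FusionResistant
import Cfsg.Agent.Lead.FusionSat2
import Cfsg.Agent.Helper4.RkQ
import Cfsg.Agent.Helper4.RkR

set_option autoImplicit false

/-!
Fusion systems on `p`-groups of rank two, `p ≥ 5`: an essential subgroup is not elementary abelian
of order `p²` (part 1: the diagonal automorphism and its extension to the normalizer).
-/

namespace Cfsg.Agent.Helper4.Rk

open Cfsg Cfsg.FusionSystem Cfsg.Agent.Lead Cfsg.Agent.Lead.EssPSq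
open scoped commutatorElement

variable {Ω : Type*} [Group Ω] {S : Subgroup Ω}

theorem EA_of_mulEquiv {p : ℕ} {H H' : Type*} [Group H] [Group H'] (h : EA p H) (e : H ≃* H') :
    EA p H' where
  comm a b := by
    have h1 := h.comm (e.symm a) (e.symm b)
    have h2 := congrArg e h1
    rwa [map_mul, map_mul, MulEquiv.apply_symm_apply, MulEquiv.apply_symm_apply] at h2
  exp a := by
    have h1 := h.exp (e.symm a)
    have h2 := congrArg e h1
    rwa [map_pow, MulEquiv.apply_symm_apply, map_one] at h2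
  card := by rw [← Nat.card_congr e.toEquiv, h.card]

/-- Part 1: the data attached to an elementary abelian essential subgroup of order `p²`. -/
theorem abelian_data [Finite S] {p : ℕ} [hp : Fact p.Prime] (hp2 : p ≠ 2) (hS : IsPGroup p S)
    (F : FusionSystem S) (hF : F.IsSaturated p) {P : Subgroup Ω} (hess : F.IsEssential p P)
    (hEA : EA p ↥P) :
    ∃ (x y : ↥P) (δ₀ : MulAut ↥P) (γ₀ : MulAut ↥(normalizerIn S P)) (t : Ω),
      x ≠ 1 ∧ y ∉ Subgroup.zpowers x ∧ γ₀ ∈ F.autGroup (normalizerIn S P) ∧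
      (∀ v : ↥P, ((γ₀ ⟨v.1, Fusion.le_normalizerIn hess.1.1 v.2⟩ : ↥(normalizerIn S P)) : Ω) =
        δ₀ v) ∧
      δ₀ x = x ^ 2 ∧ δ₀ y = y ^ ((2 : ZMod p)⁻¹).val ∧
      (∀ g ∈ normalizerIn S P, g * (x : Ω) = (x : Ω) * g) ∧
      t ∈ normalizerIn S P ∧ t ∉ P := by
  have hc := hess.1
  have hfn := hess.2.1
  have hPS := hc.1
  haveI : Finite P := Fusion.finite_of_le hPS
  obtain ⟨hfc, hfa⟩ := Fusion.fullyCentralized_fullyAutomized_of_fullyNormalized p hS F hF hfn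
  have hrecP := Fusion.receptive_of_fullyCentralized p hS F hF hfc
  have hTA := Fusion.autInducedBy_le_autGroup F hPS
  have hT := Fusion.isPGroup_autInducedBy p hS P
  -- `T` is not normal in `A`
  have hnn : ∃ β ∈ F.autGroup P, ∃ τ ∈ autInducedBy S P, β * τ * β⁻¹ ∉ autInducedBy S P := by
    by_contra hcon
    push Not at hcon
    obtain ⟨R, hR⟩ := hfa.2
    apply Fusion.not_isEssential_of_normal_sylow p hS F R ?_ hess
    rw [hR]
    refine ⟨fun n hn g => ?_⟩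
    rw [Subgroup.mem_subgroupOf] at hn ⊢
    exact hcon g.1 g.2 n.1 hn
  obtain ⟨β, hβA, α, hαT, hβα⟩ := hnn
  have hα1 : α ≠ 1 := by
    rintro rfl
    apply hβα
    rw [mul_one, mul_inv_cancel]
    exact Subgroup.one_mem _
  obtain ⟨x₀, y₀, a₀, -, -, -, -, -, hαp, hstr⟩ :=
    pgroup_structure hEA (autInducedBy S P) hT α hαT hα1
  have hβ₁A : β * α * β⁻¹ ∈ F.autGroup P :=
    Subgroup.mul_mem _ (Subgroup.mul_mem _ hβA (hTA hαT)) (Subgroup.inv_mem _ hβA)
  have hβ₁p : (β * α * β⁻¹) ^ p = 1 := by rw [conj_pow, hαp, mul_one, mul_inv_cancel]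
  have hβ₁n : β * α * β⁻¹ ∉ Subgroup.zpowers α := by
    intro hmem
    apply hβα
    have : Subgroup.zpowers α ≤ autInducedBy S P := by
      rw [Subgroup.zpowers_le]; exact hαT
    exact this hmem
  obtain ⟨x, y, hx, hy, hαx, hle⟩ :=
    sl2_coords hEA (F.autGroup P) α (β * α * β⁻¹) (hTA hαT) hβ₁A hαp hβ₁p hα1 hβ₁n
  set δ₀ := phi (coordEquiv hEA hx hy) (dg hp2) with hδ₀
  have hδ₀A : δ₀ ∈ F.autGroup P := hle ⟨dg hp2, rfl⟩
  have hδ₀x : δ₀ x = x ^ 2 := phi_dg_x hp2 hEA hx hy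
  have hδ₀y : δ₀ y = y ^ ((2 : ZMod p)⁻¹).val := phi_dg_y hp2 hEA hx hy
  obtain ⟨a, ha⟩ := L1 hEA hx hy α hαp hαx
  have hconj : δ₀ * α * δ₀⁻¹ = α ^ 4 := conj_unip hp2 hEA hx hy δ₀ hδ₀x hδ₀y α hαx ha
  have hnormT : ∀ u ∈ autInducedBy S P, δ₀ * u * δ₀⁻¹ ∈ autInducedBy S P := by
    intro u hu
    obtain ⟨-, i, -, hi⟩ := hstr u hu
    rw [hi, ← conj_pow, hconj]
    exact Subgroup.pow_mem _ (Subgroup.pow_mem _ hαT 4) _
  obtain ⟨γ₀, hγ₀A, hγ₀⟩ := Fusion.exists_aut_normalizerIn_extension F hrecP δ₀ hδ₀A hnormT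
  -- every element of `N_S(P)` fixes `x`
  have hfix : ∀ g ∈ normalizerIn S P, g * (x : Ω) = (x : Ω) * g := by
    intro g hg
    have hgN : g ∈ Subgroup.normalizer (P : Set Ω) := (Subgroup.mem_inf.1 hg).2
    have h1 := Fusion.conjAutHom_mem_autInducedBy (S := S) P ⟨g, hgN⟩ (Subgroup.mem_inf.1 hg).1
    obtain ⟨-, i, -, hi⟩ := hstr _ h1
    have h2 : conjAutHom P ⟨g, hgN⟩ x = x := by
      rw [hi]
      exact (pow_formula hEA α hαx ha i.val).1
    have h3 := congrArg Subtype.val h2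
    rw [conjAutHom_apply] at h3
    calc g * (x : Ω) = (g * (x : Ω) * g⁻¹) * g := by group
      _ = (x : Ω) * g := by rw [h3]
  -- an element outside `P`
  obtain ⟨t, htS, ht⟩ := (mem_autInducedBy_iff S P α).1 hαT
  have htN : t ∈ Subgroup.normalizer (P : Set Ω) := by
    apply mem_normalizer_of_conj_mem_of_finite
    intro v hv
    rw [← ht ⟨v, hv⟩]
    exact (α ⟨v, hv⟩).2
  have htP : t ∉ P := by
    intro htP
    apply hα1
    ext v
    rw [MulAut.one_apply, ht v]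
    have h1 := hEA.comm ⟨t, htP⟩ v
    have h2 : t * (v : Ω) = (v : Ω) * t := congrArg Subtype.val h1
    rw [h2, mul_assoc, mul_inv_cancel, mul_one]
  exact ⟨x, y, δ₀, γ₀, t, hx, hy, hγ₀A, hγ₀, hδ₀x, hδ₀y, hfix, Subgroup.mem_inf.2 ⟨htS, htN⟩, htP⟩

end Cfsg.Agent.Helper4.Rk
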