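import Mathlib
import Cfsg.Agent.Helper4.RkS
import Cfsg.Agent.Lead.CharChain

set_option autoImplicit false

/-!
Fusion systems on `p`-groups of rank two, `p ≥ 5`: overgroups of centric subgroups are fully
centralized; `Aut_S(Q)` is a maximal `p`-subgroup of `Aut(Q)` for extraspecial `Q < S`.
-/

namespace Cfsg.Agent.Helper4.Rk

open Cfsg Cfsg.FusionSystem Cfsg.Agent.Lead Cfsg.Agent.Lead.EssPSq
open scoped commutatorElement

variable {Ω : Type*} [Group Ω] {S : Subgroup Ω}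

theorem fullyCentralized_of_centric_sub [Finite S] (F : FusionSystem S) {P N : Subgroup Ω}
    (hc : F.IsCentric P) (hPN : P ≤ N) (hNS : N ≤ S) : F.IsFullyCentralized N := by
  refine ⟨hNS, ?_⟩
  rintro Q' ⟨φ, hφ, hr⟩
  haveI : Finite N := Fusion.finite_of_le hNS
  haveI : Finite ↥(centralizerIn S N) :=
    Fusion.finite_of_le (inf_le_left : centralizerIn S N ≤ S)
  have hinj := F.injective_of_mem hφ
  have hψ := Fusion.restrict_mem F hφ hPN
  have hconj : F.IsConj P (φ.comp (Subgroup.inclusion hPN)).range := ⟨_, hψ, rfl⟩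
  have hcP'' := hc.2 _ hconj
  have hP''Q' : (φ.comp (Subgroup.inclusion hPN)).range ≤ Q' := by
    rw [← hr]
    rintro _ ⟨v, rfl⟩
    exact ⟨_, rfl⟩
  have hCQ' : centralizerIn S Q' ≤ Q' := by
    intro c hc'
    apply hP''Q'
    apply hcP''
    refine Subgroup.mem_inf.2 ⟨(Subgroup.mem_inf.1 hc').1, ?_⟩
    exact Subgroup.centralizer_le hP''Q' (Subgroup.mem_inf.1 hc').2
  have hCle : centralizerIn S Q' ≤ (Subgroup.center ↥N).map φ := by
    intro c hc'
    have hcQ' := hCQ' hc'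
    rw [← hr] at hcQ'
    obtain ⟨g, rfl⟩ := hcQ'
    refine ⟨g, ?_, rfl⟩
    rw [SetLike.mem_coe, Subgroup.mem_center_iff]
    intro h
    apply hinj
    rw [map_mul, map_mul]
    exact Subgroup.mem_centralizer_iff.1 (Subgroup.mem_inf.1 hc').2 (φ h)
      (by rw [← hr]; exact ⟨h, rfl⟩)
  have hle2 : (Subgroup.center ↥N).map N.subtype ≤ centralizerIn S N := by
    rintro _ ⟨z, hz, rfl⟩
    refine Subgroup.mem_inf.2 ⟨hNS z.2, ?_⟩
    rw [Subgroup.mem_centralizer_iff]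
    intro h hh
    have := Subgroup.mem_center_iff.1 hz ⟨h, hh⟩
    exact congrArg Subtype.val this
  haveI : Finite ↥((Subgroup.center ↥N).map φ) :=
    Finite.of_surjective (fun z : Subgroup.center ↥N =>
      (⟨φ z, ⟨z, z.2, rfl⟩⟩ : ↥((Subgroup.center ↥N).map φ)))
      (by rintro ⟨_, ⟨z, hz, rfl⟩⟩; exact ⟨⟨z, hz⟩, rfl⟩)
  calc Nat.card (centralizerIn S Q') ≤ Nat.card ((Subgroup.center ↥N).map φ) :=
        Subgroup.card_le_of_le hCle
    _ = Nat.card (Subgroup.center ↥N) := Subgroup.card_map_of_injective hinj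
    _ = Nat.card ((Subgroup.center ↥N).map N.subtype) :=
        (Subgroup.card_map_of_injective N.subtype_injective).symm
    _ ≤ Nat.card (centralizerIn S N) := Subgroup.card_le_of_le hle2

theorem hmax_of_ezt [Finite S] {p : ℕ} [hp : Fact p.Prime] (hp2 : p ≠ 2) (hS : IsPGroup p S)
    (hrank3 : ∀ E : Subgroup Ω, E ≤ S → Cfsg.IsElementaryAbelian p E → Nat.card E ≤ p ^ 2)
    {Q : Subgroup Ω} (hQS : Q ≤ S) (hez : EZT p ↥Q) (hcen : Nat.card (Subgroup.center ↥Q) = p)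
    (hcent : centralizerIn S Q ≤ Q) (hne : Q ≠ S) :
    ∀ T' : Subgroup (MulAut Q), autInducedBy S Q ≤ T' → IsPGroup p T' →
      T' ≤ autInducedBy S Q := by
  intro T' hUT' hT'p φ hφ
  haveI : Finite Q := Fusion.finite_of_le hQS
  haveI : Finite ↥(normalizerIn S Q) := Fusion.finite_of_le (inf_le_left : normalizerIn S Q ≤ S)
  set c := ycOf hS hrank3 hQS hez hcent with hc
  obtain ⟨r, hrR, hrQ⟩ := Fusion.exists_mem_normalizerIn_not_mem hS hQS hne
  have hrN : r ∈ Subgroup.normalizer (Q : Set Ω) := (Subgroup.mem_inf.1 hrR).2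
  set cr : MulAut Q := conjAutHom Q ⟨r, hrN⟩ with hcr
  have hcrU : cr ∈ autInducedBy S Q :=
    Fusion.conjAutHom_mem_autInducedBy Q ⟨r, hrN⟩ (Subgroup.mem_inf.1 hrR).1
  have hκ1 : quotHom cr ≠ 1 := by
    intro h
    rw [quotHom_eq_one_iff] at h
    apply hrQ
    have h0 : (⟨r, hrR⟩ : ↥(normalizerIn S Q)) ∈ c.Q := by
      apply c.mem_Q_of_trivial hp2
      intro q hq
      rw [c.comm_mem_Z_iff, hc, ycOf_mem_Z_iff]
      have h1 := h ⟨q.1, hq⟩
      exact ⟨((⟨q.1, hq⟩ : Q)⁻¹ * cr ⟨q.1, hq⟩ : Q).2, h1⟩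
    exact h0
  set W := T'.map (quotHom : MulAut Q →* MulAut (Q ⧸ Subgroup.center Q)) with hW
  have hWp : IsPGroup p W := hT'p.map _
  obtain ⟨x₀, y₀, a₀, -, -, -, -, -, -, hstr⟩ :=
    pgroup_structure hez.ea W hWp (quotHom cr) ⟨cr, hUT' hcrU, rfl⟩ hκ1
  obtain ⟨-, i, -, hi⟩ := hstr (quotHom φ) ⟨φ, hφ, rfl⟩
  set φ' := φ * (cr ^ i.val)⁻¹ with hφ'
  have hφ'T' : φ' ∈ T' := T'.mul_mem hφ (T'.inv_mem (T'.pow_mem (hUT' hcrU) _))
  have hφ'q : quotHom φ' = 1 := by rw [hφ', map_mul, map_inv, map_pow, hi, mul_inv_cancel]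
  have hV := (quotHom_eq_one_iff φ').1 hφ'q
  obtain ⟨k, hk⟩ := hT'p ⟨φ', hφ'T'⟩
  have hk' : φ' ^ (p ^ k) = 1 := by
    have := congrArg Subtype.val hk
    simpa using this
  have hZ : ∀ z ∈ Subgroup.center Q, φ' z = z := by
    intro z hz
    haveI : ((⊥ : Subgroup Q).subgroupOf (Subgroup.center Q)).Normal := inferInstance
    have hidx : Nat.card (↥(Subgroup.center Q) ⧸
        (⊥ : Subgroup Q).subgroupOf (Subgroup.center Q)) = p := by
      rw [← Subgroup.index_eq_card]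
      have : ((⊥ : Subgroup Q).subgroupOf (Subgroup.center Q)).index =
          (⊥ : Subgroup Q).relIndex (Subgroup.center Q) := rfl
      rw [this, Subgroup.relIndex_bot_left, hcen]
    have h1 := Cfsg.Agent.Lead.CharChain.section_trivial φ' k hk' ⊥ (Subgroup.center Q)
      (fun w hw => aut_mem_center φ' hw)
      (fun w hw => by rw [Subgroup.mem_bot] at hw ⊢; rw [hw, map_one]) hidx z hz
    rw [Subgroup.mem_bot, inv_mul_eq_one] at h1
    exact h1.symm
  have hInn := hez.inner_of_trivial hp2 φ' hV hZ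
  have h5 : φ = φ' * cr ^ i.val := by rw [hφ']; group
  rw [h5]
  exact Subgroup.mul_mem _ (Fusion.inn_le_autInducedBy hQS hInn) (Subgroup.pow_mem _ hcrU _)

end Cfsg.Agent.Helper4.Rk
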