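import Mathlib
import Cfsg.Agent.Helper4.RkT

set_option autoImplicit false

/-!
Fusion systems on `p`-groups of rank two, `p ≥ 5`: an essential subgroup is not elementary abelian
of order `p²` (part 2).
-/

namespace Cfsg.Agent.Helper4.Rk

open Cfsg Cfsg.FusionSystem Cfsg.Agent.Lead Cfsg.Agent.Lead.EssPSq
open scoped commutatorElement

variable {Ω : Type*} [Group Ω] {S : Subgroup Ω}


section

variable {p : ℕ} (hS : IsPGroup p S)
  (hrank3 : ∀ E : Subgroup Ω, E ≤ S → Cfsg.IsElementaryAbelian p E → Nat.card E ≤ p ^ 2)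
  {Q : Subgroup Ω} (hQS : Q ≤ S) (hez : EZT p ↥Q) (hcent : centralizerIn S Q ≤ Q)

theorem ycOf_Z_coe_mem {w : ↥(normalizerIn S Q)} (hw : w ∈ (ycOf hS hrank3 hQS hez hcent).Z) :
    (w : Ω) ∈ Q := by
  obtain ⟨h, _⟩ := (ycOf_mem_Z_iff hS hrank3 hQS hez hcent w).1 hw
  exact h

theorem ycOf_Z_center {w : ↥(normalizerIn S Q)} (hw : w ∈ (ycOf hS hrank3 hQS hez hcent).Z) :
    (⟨(w : Ω), ycOf_Z_coe_mem hS hrank3 hQS hez hcent hw⟩ : Q) ∈ Subgroup.center ↥Q := by
  obtain ⟨_, h⟩ := (ycOf_mem_Z_iff hS hrank3 hQS hez hcent w).1 hw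
  exact h

theorem ycOf_card_Z [Finite S] :
    Nat.card (ycOf hS hrank3 hQS hez hcent).Z = Nat.card (Subgroup.center ↥Q) := by
  apply Nat.card_congr
  exact
    { toFun := fun w => ⟨⟨w.1.1, ycOf_Z_coe_mem hS hrank3 hQS hez hcent w.2⟩,
        ycOf_Z_center hS hrank3 hQS hez hcent w.2⟩
      invFun := fun z => ⟨⟨z.1.1, Fusion.le_normalizerIn hQS z.1.2⟩,
        (ycOf_mem_Z_iff hS hrank3 hQS hez hcent _).2 ⟨z.1.2, z.2⟩⟩
      left_inv := fun w => Subtype.ext (Subtype.ext rfl)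
      right_inv := fun z => Subtype.ext (Subtype.ext rfl) }

end

theorem abelian_contra [Finite S] {p : ℕ} [hp : Fact p.Prime] (hp5 : 5 ≤ p) (hS : IsPGroup p S)
    (F : FusionSystem S) (hF : F.IsSaturated p)
    (hrank3 : ∀ E : Subgroup Ω, E ≤ S → Cfsg.IsElementaryAbelian p E → Nat.card E ≤ p ^ 2)
    (hnotE : ¬ (Nat.card S = p ^ 3 ∧ Monoid.exponent ↥S = p))
    {P : Subgroup Ω} (hess : F.IsEssential p P) (hEA : EA p ↥P) : False := by
  have hp2 : p ≠ 2 := by omega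
  obtain ⟨x, y, δ₀, γ₀, t, hx, hy, hγ₀A, hγ₀, hδ₀x, hδ₀y, hfix, htN, htP⟩ :=
    abelian_data hp2 hS F hF hess hEA
  have hc := hess.1
  have hPS := hc.1
  have hPN₀ : P ≤ normalizerIn S P := Fusion.le_normalizerIn hPS
  have hN₀S : normalizerIn S P ≤ S := inf_le_left
  haveI : Finite P := Fusion.finite_of_le hPS
  haveI : Finite ↥(normalizerIn S P) := Fusion.finite_of_le hN₀S
  let e : ↥P ≃* ↥(P.subgroupOf (normalizerIn S P)) := (Subgroup.subgroupOfEquivOfLe hPN₀).symm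
  have hecoe : ∀ v : ↥P, (((e v : ↥(P.subgroupOf (normalizerIn S P))) : ↥(normalizerIn S P)) : Ω) =
      (v : Ω) := fun v => rfl
  let c₀ : N0C p ↥(normalizerIn S P) :=
    { P := P.subgroupOf (normalizerIn S P)
      nP := (Subgroup.normal_subgroupOf_iff_le_normalizer hPN₀).2 inf_le_right
      pg := hS.to_le hN₀S
      ea := EA_of_mulEquiv hEA e
      cent := by
        intro g hg
        rw [Subgroup.mem_subgroupOf]
        apply hc.2 P (Fusion.isConj_refl F hPS)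
        refine Subgroup.mem_inf.2 ⟨(Subgroup.mem_inf.1 g.2).1, ?_⟩
        rw [Subgroup.mem_centralizer_iff]
        intro q hq
        have := (Subgroup.mem_centralizer_iff.1 hg) ⟨q, hPN₀ hq⟩ (Subgroup.mem_subgroupOf.2 hq)
        exact congrArg Subtype.val this
      x := e x
      y := e y
      hx := fun h => hx (by simpa using h)
      hy := by
        intro hmem
        obtain ⟨n, hn⟩ := Subgroup.mem_zpowers_iff.1 hmem
        apply hy
        rw [Subgroup.mem_zpowers_iff]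
        exact ⟨n, e.injective (by rw [map_zpow]; exact hn)⟩
      hfix := by
        intro g
        apply Subtype.ext
        exact hfix g.1 g.2 }
  set t' : ↥(normalizerIn S P) := ⟨t, htN⟩ with ht'
  have ht'P : t' ∉ c₀.P := htP
  have hγP : ∀ q, γ₀ q ∈ c₀.P ↔ q ∈ c₀.P := fun q => ext_preserves hPS δ₀ γ₀ hγ₀ q
  have hDx : γ₀ ((c₀.x : c₀.P) : ↥(normalizerIn S P)) =
      ((c₀.x : c₀.P) : ↥(normalizerIn S P)) ^ 2 := by
    apply Subtype.ext
    have h1 := hγ₀ x
    rw [hδ₀x] at h1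
    exact h1
  have hDy : γ₀ ((c₀.y : c₀.P) : ↥(normalizerIn S P)) =
      ((c₀.y : c₀.P) : ↥(normalizerIn S P)) ^ ((2 : ZMod p)⁻¹).val := by
    apply Subtype.ext
    have h1 := hγ₀ y
    rw [hδ₀y] at h1
    exact h1
  have hexp := c₀.pow_p_eq_one hp2 γ₀ hγP hDx hDy
  obtain ⟨hezN₀, hcenN₀⟩ := c₀.ezt ht'P hexp
  have hcardN₀ := c₀.card_eq ht'P
  -- `N_S(P) ≠ S`
  have hne : normalizerIn S P ≠ S := by
    intro h
    apply hnotE
    have hexpS : ∀ g : ↥S, g ^ p = 1 := by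
      intro g
      have hg : (g : Ω) ∈ normalizerIn S P := by rw [h]; exact g.2
      have h1 := hexp ⟨g.1, hg⟩
      apply Subtype.ext
      have h2 := congrArg Subtype.val h1
      simpa using h2
    have hcS : Nat.card ↥S = p ^ 3 := by
      rw [← hcardN₀, h]
    refine ⟨hcS, ?_⟩
    have hdvd : Monoid.exponent ↥S ∣ p := Monoid.exponent_dvd_of_forall_pow_eq_one hexpS
    rcases (Nat.dvd_prime hp.out).1 hdvd with h1 | h1
    · exfalso
      rw [Monoid.exp_eq_one_iff] at h1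
      have h2 : Nat.card ↥S = 1 := Nat.card_unique
      rw [hcS] at h2
      have := Nat.one_lt_pow (n := 3) (by norm_num) hp.out.one_lt
      omega
    · exact h1
  have hcentN₀ : centralizerIn S (normalizerIn S P) ≤ normalizerIn S P := by
    intro g hg
    apply hPN₀
    apply hc.2 P (Fusion.isConj_refl F hPS)
    refine Subgroup.mem_inf.2 ⟨(Subgroup.mem_inf.1 hg).1, ?_⟩
    exact Subgroup.centralizer_le hPN₀ (Subgroup.mem_inf.1 hg).2
  have hfcN₀ := fullyCentralized_of_centric_sub F hc hPN₀ hN₀S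
  have hrecN₀ := Fusion.receptive_of_fullyCentralized p hS F hF hfcN₀
  have hmaxU := hmax_of_ezt hp2 hS hrank3 hN₀S hezN₀ hcenN₀ hcentN₀ hne
  by_cases hnn : ∃ β ∈ F.autGroup (normalizerIn S P), ∃ τ ∈ autInducedBy S (normalizerIn S P),
      β * τ * β⁻¹ ∉ autInducedBy S (normalizerIn S P)
  · exact lemmaX hp5 hS F hrank3 hrecN₀ hezN₀ hcentN₀ (fun T' h1 _ h3 => hmaxU T' h1 h3) hnn
  push Not at hnn
  obtain ⟨γ₁, -, hγ₁⟩ := Fusion.exists_aut_normalizerIn_extension F hrecN₀ γ₀ hγ₀A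
    (fun u hu => hnn γ₀ hγ₀A u hu)
  haveI : Finite ↥(normalizerIn S (normalizerIn S P)) :=
    Fusion.finite_of_le (inf_le_left : normalizerIn S (normalizerIn S P) ≤ S)
  set c := ycOf hS hrank3 hN₀S hezN₀ hcentN₀ with hcdef
  have hδQ : ∀ q, γ₁ q ∈ c.Q ↔ q ∈ c.Q := fun q => ext_preserves hN₀S γ₀ γ₁ hγ₁ q
  have hcardZ : Nat.card c.Z = p := by
    rw [hcdef, ycOf_card_Z, hcenN₀]
  set y'' : ↥(normalizerIn S (normalizerIn S P)) :=
    ⟨y.1, Fusion.le_normalizerIn hN₀S (hPN₀ y.2)⟩ with hy''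
  have hy''Q : y'' ∈ c.Q := hPN₀ y.2
  have hδy : γ₁ y'' = y'' ^ ((2 : ZMod p)⁻¹).val * 1 := by
    rw [mul_one]
    apply Subtype.ext
    have h1 := hγ₁ ⟨y.1, hPN₀ y.2⟩
    have h2 := hγ₀ y
    rw [hδ₀y] at h2
    rw [h1, h2]
    rfl
  have hyL : ∃ g : ↥(normalizerIn S (normalizerIn S P)), ⁅g, y''⁆ ∉ c.Z := by
    by_contra hall
    push Not at hall
    have hcenP : ∀ z : ↥(normalizerIn S P), z ∈ Subgroup.center ↥(normalizerIn S P) →
        (z : Ω) ∈ P := by
      intro z hz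
      apply hc.2 P (Fusion.isConj_refl F hPS)
      refine Subgroup.mem_inf.2 ⟨hN₀S z.2, ?_⟩
      rw [Subgroup.mem_centralizer_iff]
      intro q hq
      have := Subgroup.mem_center_iff.1 hz ⟨q, hPN₀ hq⟩
      exact congrArg Subtype.val this
    have hRle : normalizerIn S (normalizerIn S P) ≤ normalizerIn S P := by
      intro g hg
      refine Subgroup.mem_inf.2 ⟨(Subgroup.mem_inf.1 hg).1, ?_⟩
      apply mem_normalizer_of_conj_mem_of_finite
      intro v hv
      obtain ⟨i, j, hij⟩ := exists_coord hEA hx hy ⟨v, hv⟩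
      have hv' : v = (x : Ω) ^ i.val * (y : Ω) ^ j.val := by
        have := congrArg Subtype.val hij
        simpa using this
      have hgN : g ∈ Subgroup.normalizer ((normalizerIn S P : Subgroup Ω) : Set Ω) :=
        (Subgroup.mem_inf.1 hg).2
      have hgx : g * (x : Ω) * g⁻¹ ∈ P := by
        have hxc : ((c₀.x : c₀.P) : ↥(normalizerIn S P)) ∈
            Subgroup.center ↥(normalizerIn S P) := by
          rw [Subgroup.mem_center_iff]
          intro h
          exact c₀.hfix h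
        have h1 := aut_mem_center (conjAutHom (normalizerIn S P) ⟨g, hgN⟩) hxc
        exact hcenP _ h1
      have hgy : g * (y : Ω) * g⁻¹ ∈ P := by
        have h1 := hall ⟨g, hg⟩
        have h2 := ycOf_Z_center hS hrank3 hN₀S hezN₀ hcentN₀ h1
        have h3 := hcenP _ h2
        have h4 : g * (y : Ω) * g⁻¹ = (g * (y : Ω) * g⁻¹ * (y : Ω)⁻¹) * (y : Ω) := by group
        rw [h4]
        exact P.mul_mem h3 y.2
      have h5 : g * ((x : Ω) ^ i.val * (y : Ω) ^ j.val) * g⁻¹ =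
          (g * (x : Ω) * g⁻¹) ^ i.val * (g * (y : Ω) * g⁻¹) ^ j.val := by
        rw [conj_pow, conj_pow]; group
      rw [hv', h5]
      exact P.mul_mem (P.pow_mem hgx _) (P.pow_mem hgy _)
    have h1 := Fusion.card_lt_card_normalizerIn hS hN₀S hne
    have h2 := Subgroup.card_le_of_le hRle
    omega
  have hfin := c.ymain hp2 γ₁ hδQ (Or.inl hcardZ) hy''Q hyL _ (Subgroup.one_mem _) hδy
  exact half_sq_ne_one hp5 hfin

end Cfsg.Agent.Helper4.Rk
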