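import Mathlib
import Cfsg.Agent.Lead.StronglyEmbedded
import Cfsg.Agent.Lead.EssAbG
import Cfsg.Agent.Helper4.BlkM
import Cfsg.Agent.Helper4.RkU
import Cfsg.Agent.Helper4.RkL
import Cfsg.Agent.Helper4.RkN
import Cfsg.Agent.Helper4.RkO

set_option autoImplicit false

/-!
Fusion systems on `p`-groups of rank two, `p ≥ 5`: there are no essential subgroups unless `S` is
extraspecial of order `p³` and exponent `p`.
-/

namespace Cfsg.Agent.Helper4.Rk

open Cfsg Cfsg.FusionSystem Cfsg.Agent.Lead Cfsg.Agent.Lead.EssPSq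
open scoped commutatorElement

variable {Ω : Type*} [Group Ω] {S : Subgroup Ω}

/-- in a `p`-group, an element outside a subgroup has a `p`-power power outside whose `p`-th power
is inside -/
theorem exists_pow_prime_mem {G : Type*} [Group G] (Q : Subgroup G) {x : G} (hx : x ∉ Q) {p k : ℕ}
    (hk : x ^ (p ^ k) ∈ Q) : ∃ j : ℕ, x ^ (p ^ j) ∉ Q ∧ (x ^ (p ^ j)) ^ p ∈ Q := by
  classical
  have hex : ∃ k : ℕ, x ^ (p ^ k) ∈ Q := ⟨k, hk⟩
  set k₀ := Nat.find hex with hk₀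
  have hk₀spec : x ^ (p ^ k₀) ∈ Q := Nat.find_spec hex
  have hk₀pos : k₀ ≠ 0 := by
    intro h
    rw [h, pow_zero, pow_one] at hk₀spec
    exact hx hk₀spec
  obtain ⟨j, hj⟩ := Nat.exists_eq_succ_of_ne_zero hk₀pos
  refine ⟨j, ?_, ?_⟩
  · intro h
    have := Nat.find_min hex (m := j) (by omega)
    exact this h
  · rw [← pow_mul, ← pow_succ]
    have h1 : j + 1 = k₀ := hj.symm
    rw [h1]
    exact hk₀spec

/-- basic facts on an essential subgroup of a saturated fusion system -/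
theorem essential_facts [Finite S] {p : ℕ} [hp : Fact p.Prime] (hS : IsPGroup p S)
    (F : FusionSystem S) (hF : F.IsSaturated p) {P : Subgroup Ω} (hess : F.IsEssential p P) :
    F.IsReceptive P ∧
    (∃ β ∈ F.autGroup P, ∃ τ ∈ autInducedBy S P, β * τ * β⁻¹ ∉ autInducedBy S P) ∧
    (∀ T' : Subgroup (MulAut P), autInducedBy S P ≤ T' → T' ≤ F.autGroup P →
      IsPGroup p T' → T' ≤ autInducedBy S P) ∧ P ≠ S := by
  have hc := hess.1
  have hfn := hess.2.1
  have hPS := hc.1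
  haveI : Finite P := Fusion.finite_of_le hPS
  obtain ⟨hfc, hfa⟩ := Fusion.fullyCentralized_fullyAutomized_of_fullyNormalized p hS F hF hfn
  have hrecP := Fusion.receptive_of_fullyCentralized p hS F hF hfc
  obtain ⟨R, hR⟩ := hfa.2
  have hnn : ∃ β ∈ F.autGroup P, ∃ τ ∈ autInducedBy S P, β * τ * β⁻¹ ∉ autInducedBy S P := by
    by_contra hcon
    push Not at hcon
    apply Fusion.not_isEssential_of_normal_sylow p hS F R ?_ hess
    rw [hR]
    refine ⟨fun n hn g => ?_⟩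
    rw [Subgroup.mem_subgroupOf] at hn ⊢
    exact hcon g.1 g.2 n.1 hn
  refine ⟨hrecP, hnn, ?_, ?_⟩
  · intro T' hTT' hT'A hT'p
    have h1 : IsPGroup p (T'.subgroupOf (F.autGroup P)) := hT'p.comap_subtype
    have h2 : (R : Subgroup (F.autGroup P)) ≤ T'.subgroupOf (F.autGroup P) := by
      rw [hR]
      exact Subgroup.subgroupOf_mono _ hTT'
    have h3 := R.is_maximal' h1 h2
    intro φ hφ
    have h4 : (⟨φ, hT'A hφ⟩ : F.autGroup P) ∈ T'.subgroupOf (F.autGroup P) :=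
      Subgroup.mem_subgroupOf.2 hφ
    rw [h3, hR, Subgroup.mem_subgroupOf] at h4
    exact h4
  · rintro rfl
    obtain ⟨β, hβA, τ, hτT, hβτ⟩ := hnn
    apply hβτ
    obtain ⟨g, hgS, hg⟩ := (mem_autInducedBy_iff P P τ).1 hτT
    rw [mem_autInducedBy_iff]
    refine ⟨((β ⟨g, hgS⟩ : P) : Ω), (β ⟨g, hgS⟩).2, fun v => ?_⟩
    have h1 : τ (β⁻¹ v) = ⟨g, hgS⟩ * β⁻¹ v * ⟨g, hgS⟩⁻¹ := by
      apply Subtype.ext
      rw [hg]; rfl
    rw [MulAut.mul_apply, MulAut.mul_apply, h1, map_mul, map_mul, map_inv, MulAut.apply_inv_self]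
    rfl

end Cfsg.Agent.Helper4.Rk
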