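import Mathlib
import Cfsg.Agent.Helper4.RkV
import Cfsg.Agent.Lead.MetaF

set_option autoImplicit false

/-!
Fusion systems on `p`-groups of rank two, `p ≥ 5`: there are no essential subgroups unless `S` is
extraspecial of order `p³` and exponent `p`.
-/

namespace Cfsg.Agent.Helper4.Rk

open Cfsg Cfsg.FusionSystem Cfsg.Agent.Lead Cfsg.Agent.Lead.EssPSq
open scoped commutatorElement

variable {Ω : Type*} [Group Ω] {S : Subgroup Ω}

theorem no_essential [Finite S] {p : ℕ} [hp : Fact p.Prime] (hp5 : 5 ≤ p) (hS : IsPGroup p S)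
    (F : FusionSystem S) (hF : F.IsSaturated p)
    (hrank3 : ∀ E : Subgroup Ω, E ≤ S → Cfsg.IsElementaryAbelian p E → Nat.card E ≤ p ^ 2)
    (hnotE : ¬ (Nat.card S = p ^ 3 ∧ Monoid.exponent ↥S = p))
    {P : Subgroup Ω} (hess : F.IsEssential p P) : False := by
  have hp2 : p ≠ 2 := by omega
  have hc := hess.1
  have hPS := hc.1
  haveI : Finite P := Fusion.finite_of_le hPS
  have hPp : IsPGroup p ↥P := hS.to_le hPS
  obtain ⟨n, hn⟩ := hPp.exists_card_eq
  have hrk : Cfsg.PRankLE p 2 ↥P := prank_of_hrank3 hrank3 hPS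
  obtain ⟨hrecP, hnn, hmax, hne⟩ := essential_facts hS F hF hess
  have hcentP : centralizerIn S P ≤ P := hc.2 P (Fusion.isConj_refl F hPS)
  rcases Cfsg.Agent.Helper4.Blk.blackburn hp2 n hn hrk with hm | hB | hC | h3
  · -- metacyclic
    by_cases hab : ∀ a b : ↥P, a * b = b * a
    · have hidx := Cfsg.Agent.Helper4.metacyclic_frattini_index_dvd hPp hm
      have hidx' : (frattini ↥P).index ≤ p ^ 2 :=
        Nat.le_of_dvd (pow_pos hp.out.pos 2) hidx
      rcases Cfsg.Agent.Lead.EssAb.essential_ab p hS F P hess ⟨⟨hab⟩⟩ hidx' with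
        ⟨hEA, hcard⟩ | ⟨hp3, -⟩
      · refine abelian_contra hp5 hS F hF hrank3 hnotE hess ⟨hab, ?_, hcard⟩
        intro a
        have := hEA.2 a.1 a.2
        apply Subtype.ext
        simpa using this
      · omega
    · push Not at hab
      obtain ⟨g, hgR, hgP⟩ := Fusion.exists_mem_normalizerIn_not_mem hS hPS hne
      obtain ⟨k, hk⟩ := hS ⟨g, (Subgroup.mem_inf.1 hgR).1⟩
      have hk' : g ^ (p ^ k) ∈ P := by
        have h1 := congrArg Subtype.val hk
        rw [Subgroup.coe_pow] at h1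
        rw [show g ^ p ^ k = 1 from h1]
        exact P.one_mem
      obtain ⟨j, hj1, hj2⟩ := exists_pow_prime_mem P hgP hk'
      set d := g ^ (p ^ j) with hd
      have hdS : d ∈ S := S.pow_mem (Subgroup.mem_inf.1 hgR).1 _
      have hdN : d ∈ Subgroup.normalizer (P : Set Ω) :=
        Subgroup.pow_mem _ (Subgroup.mem_inf.1 hgR).2 _
      have hrad := Cfsg.Agent.Lead.Meta.hrad_of_isRadical p F
        (Fusion.isRadical_of_isEssential p hS F hess)
      have hδA : conjAutHom P ⟨d, hdN⟩ ∈ F.autGroup P :=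
        Fusion.autInducedBy_le_autGroup F hPS (Fusion.conjAutHom_mem_autInducedBy P ⟨d, hdN⟩ hdS)
      have hδI : conjAutHom P ⟨d, hdN⟩ ∉ Inn ↥P := fun h =>
        hj1 (Fusion.mem_of_conjAutHom_mem_inn F hc d hdS hdN h)
      apply metacyclic_contra hp2 hPp hm hab (F.autGroup P) (Inn ↥P) hrad hδA hδI
      intro v
      have h1 : (conjAutHom P ⟨d, hdN⟩ ^ p) v = ⟨d ^ p, hj2⟩ * v * ⟨d ^ p, hj2⟩⁻¹ := by
        rw [← map_pow]
        apply Subtype.ext
        rw [conjAutHom_apply]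
        rfl
      rw [h1]
      have h2 := Cfsg.Agent.Helper4.pgroup_commutator_mem_frattini hPp v⁻¹ (⟨d ^ p, hj2⟩ : P)
      have h3 : v⁻¹ * (⟨d ^ p, hj2⟩ * v * ⟨d ^ p, hj2⟩⁻¹) =
          v⁻¹ * ⟨d ^ p, hj2⟩ * v⁻¹⁻¹ * ⟨d ^ p, hj2⟩⁻¹ := by group
      rw [h3]
      exact h2
  · -- form (b)
    have hezP := formB_ezt hp2 hn hB
    exact lemmaX hp5 hS F hrank3 hrecP hezP hcentP hmax hnn
  · -- form (c)
    obtain ⟨hΦ, M, hMchar, hMidx⟩ := formC_char hn hC
    obtain ⟨hnormal, E, hE⟩ := hess.2.2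
    haveI := hnormal
    have hpX := hE.1
    have hcoreX := Cfsg.Agent.Lead.pCore_eq_bot_of_stronglyPEmbedded p E hE
    haveI := hMchar
    exact pCore_ne_bot_of_char_index_p hPp M hMidx hΦ (F.autGroup P)
      ((Inn ↥P).subgroupOf (F.autGroup P)) hpX hcoreX
  · omega

end Cfsg.Agent.Helper4.Rk
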