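import Cfsg.Agent.Helper4.RuVCJu0
import Cfsg.Agent.Helper4.RuVCJu1
import Cfsg.Agent.Helper4.RuVCJu2
import Cfsg.Agent.Helper4.RuVCJu3
import Cfsg.Agent.Helper4.RuVCJu4
import Cfsg.Agent.Helper4.RuVCJu5
import Cfsg.Agent.Helper4.RuVCJu6
import Cfsg.Agent.Helper4.RuVCJu7
import Cfsg.Agent.Helper4.RuVCJu8
import Cfsg.Agent.Helper4.RuVCJu9
import Cfsg.Agent.Helper4.RuVCJu10
import Cfsg.Agent.Helper4.RuVCJu11
import Cfsg.Agent.Helper4.RuVCJu12
import Cfsg.Agent.Helper4.RuVCJu13
import Cfsg.Agent.Helper4.RuVCJu14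
import Cfsg.Agent.Helper4.RuVCJu15
import Cfsg.Agent.Helper4.RuVCJu16
import Cfsg.Agent.Helper4.RuVCJu17
import Cfsg.Agent.Helper4.RuVCJu18
import Cfsg.Agent.Helper4.RuVCJu19
import Cfsg.Agent.Helper4.RuVCJu20
import Cfsg.Agent.Helper4.RuVCJu21
import Cfsg.Agent.Helper4.RuVCJu22
import Cfsg.Agent.Helper4.RuVCJu23
import Cfsg.Agent.Helper4.RuVCJu24
import Cfsg.Agent.Helper4.RuVCJu25
import Cfsg.Agent.Helper4.RuVCJu26
import Cfsg.Agent.Helper4.RuVCJu27
import Cfsg.Agent.Helper4.RuVCJu28
import Cfsg.Agent.Helper4.RuVCJu29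
import Cfsg.Agent.Helper4.RuVCJu30
import Cfsg.Agent.Helper4.RuVCJu31
import Cfsg.Agent.Helper4.RuVCJu32
import Cfsg.Agent.Helper4.RuVCJu33
import Cfsg.Agent.Helper4.RuVCJu34
import Cfsg.Agent.Helper4.RuVCJu35
import Cfsg.Agent.Helper4.RuVCJu36
import Cfsg.Agent.Helper4.RuVCJu37
import Cfsg.Agent.Helper4.RuVCJu38
import Cfsg.Agent.Helper4.RuVCJu39
import Cfsg.Agent.Helper4.RuVCJu40
import Cfsg.Agent.Helper4.RuVCJu41
import Cfsg.Agent.Helper4.RuVCJu42
import Cfsg.Agent.Helper4.RuVCJu43
import Cfsg.Agent.Helper4.RuVCJu44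
import Cfsg.Agent.Helper4.RuVCJu45
import Cfsg.Agent.Helper4.RuVCJu46
import Cfsg.Agent.Helper4.RuVCJu47
import Cfsg.Agent.Helper4.RuVCJu48
import Cfsg.Agent.Helper4.RuVCJu49
import Cfsg.Agent.Helper4.RuVCJu50
import Cfsg.Agent.Helper4.RuVCJu51
import Cfsg.Agent.Helper4.RuVCJu52
import Cfsg.Agent.Helper4.RuVCJu53
import Cfsg.Agent.Helper4.RuVCJu54
import Cfsg.Agent.Helper4.RuVCJu55
import Cfsg.Agent.Helper4.RuVCJu56
import Cfsg.Agent.Helper4.RuVCJu57
import Cfsg.Agent.Helper4.RuVCTb0
import Cfsg.Agent.Helper4.RuVCTb1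
import Cfsg.Agent.Helper4.RuVCTb2
import Cfsg.Agent.Helper4.RuVCTb3
import Cfsg.Agent.Helper4.RuVCTb4

/-! generated labelled Todd-Coxeter certificate, summary: RuVC -/

set_option autoImplicit false
set_option maxRecDepth 1000000

namespace Cfsg.Agent.Helper4.RuVC
open Cfsg.Agent.Helper4.LTW

theorem upto_0 : ∀ j, j < 0 → ∃ r, checkFact cert j r = true := fun j hj => absurd hj (by omega)

theorem upto_1 : ∀ j, j < 4000 → ∃ r, checkFact cert j r = true :=
  upto_step cert upto_0 ju_0 4000 len_0 chk_0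

theorem upto_2 : ∀ j, j < 8000 → ∃ r, checkFact cert j r = true :=
  upto_step cert upto_1 ju_1 4000 len_1 chk_1

theorem upto_3 : ∀ j, j < 12000 → ∃ r, checkFact cert j r = true :=
  upto_step cert upto_2 ju_2 4000 len_2 chk_2

theorem upto_4 : ∀ j, j < 16000 → ∃ r, checkFact cert j r = true :=
  upto_step cert upto_3 ju_3 4000 len_3 chk_3

theorem upto_5 : ∀ j, j < 20000 → ∃ r, checkFact cert j r = true :=
  upto_step cert upto_4 ju_4 4000 len_4 chk_4

theorem upto_6 : ∀ j, j < 24000 → ∃ r, checkFact cert j r = true :=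
  upto_step cert upto_5 ju_5 4000 len_5 chk_5

theorem upto_7 : ∀ j, j < 28000 → ∃ r, checkFact cert j r = true :=
  upto_step cert upto_6 ju_6 4000 len_6 chk_6

theorem upto_8 : ∀ j, j < 32000 → ∃ r, checkFact cert j r = true :=
  upto_step cert upto_7 ju_7 4000 len_7 chk_7

theorem upto_9 : ∀ j, j < 36000 → ∃ r, checkFact cert j r = true :=
  upto_step cert upto_8 ju_8 4000 len_8 chk_8

theorem upto_10 : ∀ j, j < 39213 → ∃ r, checkFact cert j r = true :=
  upto_step cert upto_9 ju_9 3213 len_9 chk_9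

theorem upto_11 : ∀ j, j < 42081 → ∃ r, checkFact cert j r = true :=
  upto_step cert upto_10 ju_10 2868 len_10 chk_10

theorem upto_12 : ∀ j, j < 45084 → ∃ r, checkFact cert j r = true :=
  upto_step cert upto_11 ju_11 3003 len_11 chk_11

theorem upto_13 : ∀ j, j < 48024 → ∃ r, checkFact cert j r = true :=
  upto_step cert upto_12 ju_12 2940 len_12 chk_12

theorem upto_14 : ∀ j, j < 50815 → ∃ r, checkFact cert j r = true :=
  upto_step cert upto_13 ju_13 2791 len_13 chk_13

theorem upto_15 : ∀ j, j < 53325 → ∃ r, checkFact cert j r = true :=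
  upto_step cert upto_14 ju_14 2510 len_14 chk_14

theorem upto_16 : ∀ j, j < 55973 → ∃ r, checkFact cert j r = true :=
  upto_step cert upto_15 ju_15 2648 len_15 chk_15

theorem upto_17 : ∀ j, j < 58748 → ∃ r, checkFact cert j r = true :=
  upto_step cert upto_16 ju_16 2775 len_16 chk_16

theorem upto_18 : ∀ j, j < 61445 → ∃ r, checkFact cert j r = true :=
  upto_step cert upto_17 ju_17 2697 len_17 chk_17

theorem upto_19 : ∀ j, j < 64141 → ∃ r, checkFact cert j r = true :=
  upto_step cert upto_18 ju_18 2696 len_18 chk_18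

theorem upto_20 : ∀ j, j < 66936 → ∃ r, checkFact cert j r = true :=
  upto_step cert upto_19 ju_19 2795 len_19 chk_19

theorem upto_21 : ∀ j, j < 69602 → ∃ r, checkFact cert j r = true :=
  upto_step cert upto_20 ju_20 2666 len_20 chk_20

theorem upto_22 : ∀ j, j < 72241 → ∃ r, checkFact cert j r = true :=
  upto_step cert upto_21 ju_21 2639 len_21 chk_21

theorem upto_23 : ∀ j, j < 74853 → ∃ r, checkFact cert j r = true :=
  upto_step cert upto_22 ju_22 2612 len_22 chk_22

theorem upto_24 : ∀ j, j < 77405 → ∃ r, checkFact cert j r = true :=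
  upto_step cert upto_23 ju_23 2552 len_23 chk_23

theorem upto_25 : ∀ j, j < 79973 → ∃ r, checkFact cert j r = true :=
  upto_step cert upto_24 ju_24 2568 len_24 chk_24

theorem upto_26 : ∀ j, j < 82447 → ∃ r, checkFact cert j r = true :=
  upto_step cert upto_25 ju_25 2474 len_25 chk_25

theorem upto_27 : ∀ j, j < 85021 → ∃ r, checkFact cert j r = true :=
  upto_step cert upto_26 ju_26 2574 len_26 chk_26

theorem upto_28 : ∀ j, j < 87499 → ∃ r, checkFact cert j r = true :=
  upto_step cert upto_27 ju_27 2478 len_27 chk_27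

theorem upto_29 : ∀ j, j < 89633 → ∃ r, checkFact cert j r = true :=
  upto_step cert upto_28 ju_28 2134 len_28 chk_28

theorem upto_30 : ∀ j, j < 91267 → ∃ r, checkFact cert j r = true :=
  upto_step cert upto_29 ju_29 1634 len_29 chk_29

theorem upto_31 : ∀ j, j < 92443 → ∃ r, checkFact cert j r = true :=
  upto_step cert upto_30 ju_30 1176 len_30 chk_30

theorem upto_32 : ∀ j, j < 93367 → ∃ r, checkFact cert j r = true :=
  upto_step cert upto_31 ju_31 924 len_31 chk_31

theorem upto_33 : ∀ j, j < 94751 → ∃ r, checkFact cert j r = true :=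
  upto_step cert upto_32 ju_32 1384 len_32 chk_32

theorem upto_34 : ∀ j, j < 96377 → ∃ r, checkFact cert j r = true :=
  upto_step cert upto_33 ju_33 1626 len_33 chk_33

theorem upto_35 : ∀ j, j < 98121 → ∃ r, checkFact cert j r = true :=
  upto_step cert upto_34 ju_34 1744 len_34 chk_34

theorem upto_36 : ∀ j, j < 99768 → ∃ r, checkFact cert j r = true :=
  upto_step cert upto_35 ju_35 1647 len_35 chk_35

theorem upto_37 : ∀ j, j < 101437 → ∃ r, checkFact cert j r = true :=
  upto_step cert upto_36 ju_36 1669 len_36 chk_36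

theorem upto_38 : ∀ j, j < 102910 → ∃ r, checkFact cert j r = true :=
  upto_step cert upto_37 ju_37 1473 len_37 chk_37

theorem upto_39 : ∀ j, j < 104267 → ∃ r, checkFact cert j r = true :=
  upto_step cert upto_38 ju_38 1357 len_38 chk_38

theorem upto_40 : ∀ j, j < 105481 → ∃ r, checkFact cert j r = true :=
  upto_step cert upto_39 ju_39 1214 len_39 chk_39

theorem upto_41 : ∀ j, j < 106570 → ∃ r, checkFact cert j r = true :=
  upto_step cert upto_40 ju_40 1089 len_40 chk_40

theorem upto_42 : ∀ j, j < 108121 → ∃ r, checkFact cert j r = true :=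
  upto_step cert upto_41 ju_41 1551 len_41 chk_41

theorem upto_43 : ∀ j, j < 109644 → ∃ r, checkFact cert j r = true :=
  upto_step cert upto_42 ju_42 1523 len_42 chk_42

theorem upto_44 : ∀ j, j < 111075 → ∃ r, checkFact cert j r = true :=
  upto_step cert upto_43 ju_43 1431 len_43 chk_43

theorem upto_45 : ∀ j, j < 112290 → ∃ r, checkFact cert j r = true :=
  upto_step cert upto_44 ju_44 1215 len_44 chk_44

theorem upto_46 : ∀ j, j < 113368 → ∃ r, checkFact cert j r = true :=
  upto_step cert upto_45 ju_45 1078 len_45 chk_45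

theorem upto_47 : ∀ j, j < 114290 → ∃ r, checkFact cert j r = true :=
  upto_step cert upto_46 ju_46 922 len_46 chk_46

theorem upto_48 : ∀ j, j < 115280 → ∃ r, checkFact cert j r = true :=
  upto_step cert upto_47 ju_47 990 len_47 chk_47

theorem upto_49 : ∀ j, j < 116185 → ∃ r, checkFact cert j r = true :=
  upto_step cert upto_48 ju_48 905 len_48 chk_48

theorem upto_50 : ∀ j, j < 117083 → ∃ r, checkFact cert j r = true :=
  upto_step cert upto_49 ju_49 898 len_49 chk_49

theorem upto_51 : ∀ j, j < 117957 → ∃ r, checkFact cert j r = true :=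
  upto_step cert upto_50 ju_50 874 len_50 chk_50

theorem upto_52 : ∀ j, j < 118822 → ∃ r, checkFact cert j r = true :=
  upto_step cert upto_51 ju_51 865 len_51 chk_51

theorem upto_53 : ∀ j, j < 119681 → ∃ r, checkFact cert j r = true :=
  upto_step cert upto_52 ju_52 859 len_52 chk_52

theorem upto_54 : ∀ j, j < 120528 → ∃ r, checkFact cert j r = true :=
  upto_step cert upto_53 ju_53 847 len_53 chk_53

theorem upto_55 : ∀ j, j < 121367 → ∃ r, checkFact cert j r = true :=
  upto_step cert upto_54 ju_54 839 len_54 chk_54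

theorem upto_56 : ∀ j, j < 122211 → ∃ r, checkFact cert j r = true :=
  upto_step cert upto_55 ju_55 844 len_55 chk_55

theorem upto_57 : ∀ j, j < 123043 → ∃ r, checkFact cert j r = true :=
  upto_step cert upto_56 ju_56 832 len_56 chk_56

theorem upto_58 : ∀ j, j < 123333 → ∃ r, checkFact cert j r = true :=
  upto_step cert upto_57 ju_57 290 len_57 chk_57

theorem hchk : ∀ j, j < cert.nf → ∃ r, checkFact cert j r = true := upto_58

theorem rowsto_0 : ∀ n, n < 0 → ∀ x, x < cert.k → tabEntryOK cert tab n x = true :=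
  fun n hn => absurd hn (by omega)

theorem rowsto_1 : ∀ n, n < 2000 → ∀ x, x < cert.k → tabEntryOK cert tab n x = true :=
  rows_step cert tab rowsto_0 2000 rows_0

theorem rowsto_2 : ∀ n, n < 4000 → ∀ x, x < cert.k → tabEntryOK cert tab n x = true :=
  rows_step cert tab rowsto_1 2000 rows_1

theorem rowsto_3 : ∀ n, n < 6000 → ∀ x, x < cert.k → tabEntryOK cert tab n x = true :=
  rows_step cert tab rowsto_2 2000 rows_2

theorem rowsto_4 : ∀ n, n < 8000 → ∀ x, x < cert.k → tabEntryOK cert tab n x = true :=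
  rows_step cert tab rowsto_3 2000 rows_3

theorem rowsto_5 : ∀ n, n < 8120 → ∀ x, x < cert.k → tabEntryOK cert tab n x = true :=
  rows_step cert tab rowsto_4 120 rows_4

theorem hT : ∀ n, n < tab.N → ∀ x, x < cert.k → tabEntryOK cert tab n x = true := rowsto_5

theorem hjs : ∀ j ∈ js, relFactOK cert j = true := by decide +kernel

theorem h0 : ordOK cert js cs0 3 2 = true := by decide +kernel

theorem hgs : ∀ i, i < 8 → genOK cert js (css.getD i []) i 3 (as_.getD i 0) = true := by decide +kernel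

end Cfsg.Agent.Helper4.RuVC
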