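import Cfsg.Agent.Helper4.RuVMDat

/-! generated permutation model, checks: RuVM -/

set_option autoImplicit false
set_option Elab.async false
set_option maxRecDepth 1000000

namespace Cfsg.Agent.Helper4.RuVM
open Cfsg.Agent.Helper5.TC Cfsg.Agent.Helper5.TCI Cfsg.Agent.Helper5.LP

theorem fixc_6_0 : fixPtsF W_6 16240 0 = true := by decide +kernel

theorem fixc_5_0 : fixPtsF W_5 16240 0 = true := by decide +kernel

theorem fixc_22_0 : fixPtsF W_22 16240 0 = true := by decide +kernel

theorem fixc_63_0 : fixPtsF W_63 16240 0 = true := by decide +kernel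

theorem fixc_68_0 : fixPtsF W_68 16240 0 = true := by decide +kernel

theorem fixc_40_0 : fixPtsF W_40 16240 0 = true := by decide +kernel

theorem fixc_46_0 : fixPtsF W_46 16240 0 = true := by decide +kernel

theorem fixc_52_0 : fixPtsF W_52 16240 0 = true := by decide +kernel

theorem fixc_58_0 : fixPtsF W_58 16240 0 = true := by decide +kernel

theorem fixc_33_0 : fixPtsF W_33 16240 0 = true := by decide +kernel

theorem fixc_29_0 : fixPtsF W_29 16240 0 = true := by decide +kernel

theorem fixc_23_0 : fixPtsF W_23 16240 0 = true := by decide +kernel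

theorem invc_5_0 : invRowFI mT 16240 5 4 16240 0 = true := by decide +kernel

end Cfsg.Agent.Helper4.RuVM
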