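import Cfsg.Agent.Helper4.RuVMDat

/-! generated permutation model, checks: RuVM -/

set_option autoImplicit false
set_option Elab.async false
set_option maxRecDepth 1000000

namespace Cfsg.Agent.Helper4.RuVM
open Cfsg.Agent.Helper5.TC Cfsg.Agent.Helper5.TCI Cfsg.Agent.Helper5.LP

theorem fixc_7_0 : fixPtsF W_7 16240 0 = true := by decide +kernel

theorem fixc_13_0 : fixPtsF W_13 16240 0 = true := by decide +kernel

theorem fixc_26_0 : fixPtsF W_26 16240 0 = true := by decide +kernel

theorem fixc_64_0 : fixPtsF W_64 16240 0 = true := by decide +kernel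

theorem fixc_69_0 : fixPtsF W_69 16240 0 = true := by decide +kernel

theorem fixc_41_0 : fixPtsF W_41 16240 0 = true := by decide +kernel

theorem fixc_47_0 : fixPtsF W_47 16240 0 = true := by decide +kernel

theorem fixc_53_0 : fixPtsF W_53 16240 0 = true := by decide +kernel

theorem fixc_59_0 : fixPtsF W_59 16240 0 = true := by decide +kernel

theorem fixc_17_0 : fixPtsF W_17 16240 0 = true := by decide +kernel

theorem fixc_24_0 : fixPtsF W_24 16240 0 = true := by decide +kernel

theorem fixc_1_0 : fixPtsF W_1 16240 0 = true := by decide +kernel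

theorem invc_1_0 : invRowFI mT 16240 1 0 16240 0 = true := by decide +kernel

theorem invc_7_0 : invRowFI mT 16240 7 6 16240 0 = true := by decide +kernel

end Cfsg.Agent.Helper4.RuVM
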