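import Cfsg.Agent.Helper4.RuVMDat

/-! generated permutation model, checks: RuVM -/

set_option autoImplicit false
set_option Elab.async false
set_option maxRecDepth 1000000

namespace Cfsg.Agent.Helper4.RuVM
open Cfsg.Agent.Helper5.TC Cfsg.Agent.Helper5.TCI Cfsg.Agent.Helper5.LP

theorem fixc_10_0 : fixPtsF W_10 16240 0 = true := by decide +kernel

theorem fixc_14_0 : fixPtsF W_14 16240 0 = true := by decide +kernel

theorem fixc_19_0 : fixPtsF W_19 16240 0 = true := by decide +kernel

theorem fixc_21_0 : fixPtsF W_21 16240 0 = true := by decide +kernel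

theorem fixc_25_0 : fixPtsF W_25 16240 0 = true := by decide +kernel

theorem fixc_38_0 : fixPtsF W_38 16240 0 = true := by decide +kernel

theorem fixc_44_0 : fixPtsF W_44 16240 0 = true := by decide +kernel

theorem fixc_50_0 : fixPtsF W_50 16240 0 = true := by decide +kernel

theorem fixc_56_0 : fixPtsF W_56 16240 0 = true := by decide +kernel

theorem fixc_62_0 : fixPtsF W_62 16240 0 = true := by decide +kernel

theorem fixc_31_0 : fixPtsF W_31 16240 0 = true := by decide +kernel

theorem invc_0_0 : invRowFI mT 16240 0 1 16240 0 = true := by decide +kernel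

theorem invc_2_0 : invRowFI mT 16240 2 3 16240 0 = true := by decide +kernel

theorem invc_8_0 : invRowFI mT 16240 8 9 16240 0 = true := by decide +kernel

end Cfsg.Agent.Helper4.RuVM
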