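import Cfsg.Agent.Helper4.RuVMDat

/-! generated permutation model, checks: RuVM -/

set_option autoImplicit false
set_option Elab.async false
set_option maxRecDepth 1000000

namespace Cfsg.Agent.Helper4.RuVM
open Cfsg.Agent.Helper5.TC Cfsg.Agent.Helper5.TCI Cfsg.Agent.Helper5.LP

theorem fixc_11_0 : fixPtsF W_11 16240 0 = true := by decide +kernel

theorem fixc_9_0 : fixPtsF W_9 16240 0 = true := by decide +kernel

theorem fixc_8_0 : fixPtsF W_8 16240 0 = true := by decide +kernel

theorem fixc_66_0 : fixPtsF W_66 16240 0 = true := by decide +kernel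

theorem fixc_36_0 : fixPtsF W_36 16240 0 = true := by decide +kernel

theorem fixc_42_0 : fixPtsF W_42 16240 0 = true := by decide +kernel

theorem fixc_48_0 : fixPtsF W_48 16240 0 = true := by decide +kernel

theorem fixc_54_0 : fixPtsF W_54 16240 0 = true := by decide +kernel

theorem fixc_60_0 : fixPtsF W_60 16240 0 = true := by decide +kernel

theorem fixc_18_0 : fixPtsF W_18 16240 0 = true := by decide +kernel

theorem fixc_28_0 : fixPtsF W_28 16240 0 = true := by decide +kernel

theorem fixc_2_0 : fixPtsF W_2 16240 0 = true := by decide +kernel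

theorem invc_3_0 : invRowFI mT 16240 3 2 16240 0 = true := by decide +kernel

theorem invc_9_0 : invRowFI mT 16240 9 8 16240 0 = true := by decide +kernel

end Cfsg.Agent.Helper4.RuVM
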