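import Cfsg.Agent.Helper4.RuVMDat

/-! generated permutation model, checks: RuVM -/

set_option autoImplicit false
set_option Elab.async false
set_option maxRecDepth 1000000

namespace Cfsg.Agent.Helper4.RuVM
open Cfsg.Agent.Helper5.TC Cfsg.Agent.Helper5.TCI Cfsg.Agent.Helper5.LP

theorem fixc_16_0 : fixPtsF W_16 16240 0 = true := by decide +kernel

theorem fixc_12_0 : fixPtsF W_12 16240 0 = true := by decide +kernel

theorem fixc_4_0 : fixPtsF W_4 16240 0 = true := by decide +kernel

theorem fixc_65_0 : fixPtsF W_65 16240 0 = true := by decide +kernel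

theorem fixc_35_0 : fixPtsF W_35 16240 0 = true := by decide +kernel

theorem fixc_39_0 : fixPtsF W_39 16240 0 = true := by decide +kernel

theorem fixc_45_0 : fixPtsF W_45 16240 0 = true := by decide +kernel

theorem fixc_51_0 : fixPtsF W_51 16240 0 = true := by decide +kernel

theorem fixc_57_0 : fixPtsF W_57 16240 0 = true := by decide +kernel

theorem fixc_34_0 : fixPtsF W_34 16240 0 = true := by decide +kernel

theorem fixc_30_0 : fixPtsF W_30 16240 0 = true := by decide +kernel

theorem fixc_27_0 : fixPtsF W_27 16240 0 = true := by decide +kernel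

theorem invc_6_0 : invRowFI mT 16240 6 7 16240 0 = true := by decide +kernel

end Cfsg.Agent.Helper4.RuVM
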