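import Cfsg.Agent.Helper4.RuVMCk0
import Cfsg.Agent.Helper4.RuVMCk1
import Cfsg.Agent.Helper4.RuVMCk2
import Cfsg.Agent.Helper4.RuVMCk3
import Cfsg.Agent.Helper4.RuVMCk4
import Cfsg.Agent.Helper4.RuVMCk5

/-! generated permutation model, summary: RuVM -/

set_option autoImplicit false
set_option maxRecDepth 1000000

namespace Cfsg.Agent.Helper4.RuVM
open Cfsg.Agent.Helper5.TC Cfsg.Agent.Helper5.TCI Cfsg.Agent.Helper5.LP Cfsg.Agent.Helper5.StemP
  Cfsg.Agent.Helper4.ShM

theorem inv_0 : ∀ v, v < 16240 → mT 0 v < 16240 ∧ mT 1 (mT 0 v) = v :=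
  (inv_step (fun v hv => absurd hv (by omega)) 16240 invc_0_0)

theorem inv_1 : ∀ v, v < 16240 → mT 1 v < 16240 ∧ mT 0 (mT 1 v) = v :=
  (inv_step (fun v hv => absurd hv (by omega)) 16240 invc_1_0)

theorem inv_2 : ∀ v, v < 16240 → mT 2 v < 16240 ∧ mT 3 (mT 2 v) = v :=
  (inv_step (fun v hv => absurd hv (by omega)) 16240 invc_2_0)

theorem inv_3 : ∀ v, v < 16240 → mT 3 v < 16240 ∧ mT 2 (mT 3 v) = v :=
  (inv_step (fun v hv => absurd hv (by omega)) 16240 invc_3_0)

theorem inv_4 : ∀ v, v < 16240 → mT 4 v < 16240 ∧ mT 5 (mT 4 v) = v :=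
  (inv_step (fun v hv => absurd hv (by omega)) 16240 invc_4_0)

theorem inv_5 : ∀ v, v < 16240 → mT 5 v < 16240 ∧ mT 4 (mT 5 v) = v :=
  (inv_step (fun v hv => absurd hv (by omega)) 16240 invc_5_0)

theorem inv_6 : ∀ v, v < 16240 → mT 6 v < 16240 ∧ mT 7 (mT 6 v) = v :=
  (inv_step (fun v hv => absurd hv (by omega)) 16240 invc_6_0)

theorem inv_7 : ∀ v, v < 16240 → mT 7 v < 16240 ∧ mT 6 (mT 7 v) = v :=
  (inv_step (fun v hv => absurd hv (by omega)) 16240 invc_7_0)

theorem inv_8 : ∀ v, v < 16240 → mT 8 v < 16240 ∧ mT 9 (mT 8 v) = v :=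
  (inv_step (fun v hv => absurd hv (by omega)) 16240 invc_8_0)

theorem inv_9 : ∀ v, v < 16240 → mT 9 v < 16240 ∧ mT 8 (mT 9 v) = v :=
  (inv_step (fun v hv => absurd hv (by omega)) 16240 invc_9_0)

theorem tableOK : TableOKI (2 * (4 + 1)) 16240 linv mT := by
  intro x hx v hv
  have hx' : x < 10 := hx
  interval_cases x
  · exact inv_0 v hv
  · exact inv_1 v hv
  · exact inv_2 v hv
  · exact inv_3 v hv
  · exact inv_4 v hv
  · exact inv_5 v hv
  · exact inv_6 v hv
  · exact inv_7 v hv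
  · exact inv_8 v hv
  · exact inv_9 v hv

theorem actw_0 : ∀ v, actL mT w_0 v = W_0 v := by
  intro v
  simp (maxSteps := 100000000) only [w_0, actL, W_0, forceL_eq]
  rfl

theorem fixW_0 : ∀ v, v < 16240 → W_0 v = v :=
  (fixW_step (fun v hv => absurd hv (by omega)) 16240 fixc_0_0)

theorem fix_0 : ∀ v, v < 16240 → actL mT w_0 v = v := fun v hv => by
  rw [actw_0]
  exact fixW_0 v hv

theorem actw_1 : ∀ v, actL mT w_1 v = W_1 v := by
  intro v
  simp (maxSteps := 100000000) only [w_1, actL, W_1, forceL_eq]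
  rfl

theorem fixW_1 : ∀ v, v < 16240 → W_1 v = v :=
  (fixW_step (fun v hv => absurd hv (by omega)) 16240 fixc_1_0)

theorem fix_1 : ∀ v, v < 16240 → actL mT w_1 v = v := fun v hv => by
  rw [actw_1]
  exact fixW_1 v hv

theorem actw_2 : ∀ v, actL mT w_2 v = W_2 v := by
  intro v
  simp (maxSteps := 100000000) only [w_2, actL, W_2, forceL_eq]
  rfl

theorem fixW_2 : ∀ v, v < 16240 → W_2 v = v :=
  (fixW_step (fun v hv => absurd hv (by omega)) 16240 fixc_2_0)

theorem fix_2 : ∀ v, v < 16240 → actL mT w_2 v = v := fun v hv => by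
  rw [actw_2]
  exact fixW_2 v hv

theorem actw_3 : ∀ v, actL mT w_3 v = W_3 v := by
  intro v
  simp (maxSteps := 100000000) only [w_3, actL, W_3, forceL_eq]
  rfl

theorem fixW_3 : ∀ v, v < 16240 → W_3 v = v :=
  (fixW_step (fun v hv => absurd hv (by omega)) 16240 fixc_3_0)

theorem fix_3 : ∀ v, v < 16240 → actL mT w_3 v = v := fun v hv => by
  rw [actw_3]
  exact fixW_3 v hv

theorem actw_4 : ∀ v, actL mT w_4 v = W_4 v := by
  intro v
  simp (maxSteps := 100000000) only [w_4, actL, W_4, forceL_eq]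
  rfl

theorem fixW_4 : ∀ v, v < 16240 → W_4 v = v :=
  (fixW_step (fun v hv => absurd hv (by omega)) 16240 fixc_4_0)

theorem fix_4 : ∀ v, v < 16240 → actL mT w_4 v = v := fun v hv => by
  rw [actw_4]
  exact fixW_4 v hv

theorem actw_5 : ∀ v, actL mT w_5 v = W_5 v := by
  intro v
  simp (maxSteps := 100000000) only [w_5, actL, W_5, forceL_eq]
  rfl

theorem fixW_5 : ∀ v, v < 16240 → W_5 v = v :=
  (fixW_step (fun v hv => absurd hv (by omega)) 16240 fixc_5_0)

theorem fix_5 : ∀ v, v < 16240 → actL mT w_5 v = v := fun v hv => by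
  rw [actw_5]
  exact fixW_5 v hv

theorem actw_6 : ∀ v, actL mT w_6 v = W_6 v := by
  intro v
  simp (maxSteps := 100000000) only [w_6, actL, W_6, forceL_eq]
  rfl

theorem fixW_6 : ∀ v, v < 16240 → W_6 v = v :=
  (fixW_step (fun v hv => absurd hv (by omega)) 16240 fixc_6_0)

theorem fix_6 : ∀ v, v < 16240 → actL mT w_6 v = v := fun v hv => by
  rw [actw_6]
  exact fixW_6 v hv

theorem actw_7 : ∀ v, actL mT w_7 v = W_7 v := by
  intro v
  simp (maxSteps := 100000000) only [w_7, actL, W_7, forceL_eq]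
  rfl

theorem fixW_7 : ∀ v, v < 16240 → W_7 v = v :=
  (fixW_step (fun v hv => absurd hv (by omega)) 16240 fixc_7_0)

theorem fix_7 : ∀ v, v < 16240 → actL mT w_7 v = v := fun v hv => by
  rw [actw_7]
  exact fixW_7 v hv

theorem actw_8 : ∀ v, actL mT w_8 v = W_8 v := by
  intro v
  simp (maxSteps := 100000000) only [w_8, actL, W_8, forceL_eq]
  rfl

theorem fixW_8 : ∀ v, v < 16240 → W_8 v = v :=
  (fixW_step (fun v hv => absurd hv (by omega)) 16240 fixc_8_0)

theorem fix_8 : ∀ v, v < 16240 → actL mT w_8 v = v := fun v hv => by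
  rw [actw_8]
  exact fixW_8 v hv

theorem actw_9 : ∀ v, actL mT w_9 v = W_9 v := by
  intro v
  simp (maxSteps := 100000000) only [w_9, actL, W_9, forceL_eq]
  rfl

theorem fixW_9 : ∀ v, v < 16240 → W_9 v = v :=
  (fixW_step (fun v hv => absurd hv (by omega)) 16240 fixc_9_0)

theorem fix_9 : ∀ v, v < 16240 → actL mT w_9 v = v := fun v hv => by
  rw [actw_9]
  exact fixW_9 v hv

theorem actw_10 : ∀ v, actL mT w_10 v = W_10 v := by
  intro v
  simp (maxSteps := 100000000) only [w_10, actL, W_10, forceL_eq]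
  rfl

theorem fixW_10 : ∀ v, v < 16240 → W_10 v = v :=
  (fixW_step (fun v hv => absurd hv (by omega)) 16240 fixc_10_0)

theorem fix_10 : ∀ v, v < 16240 → actL mT w_10 v = v := fun v hv => by
  rw [actw_10]
  exact fixW_10 v hv

theorem actw_11 : ∀ v, actL mT w_11 v = W_11 v := by
  intro v
  simp (maxSteps := 100000000) only [w_11, actL, W_11, forceL_eq]
  rfl

theorem fixW_11 : ∀ v, v < 16240 → W_11 v = v :=
  (fixW_step (fun v hv => absurd hv (by omega)) 16240 fixc_11_0)

theorem fix_11 : ∀ v, v < 16240 → actL mT w_11 v = v := fun v hv => by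
  rw [actw_11]
  exact fixW_11 v hv

theorem actw_12 : ∀ v, actL mT w_12 v = W_12 v := by
  intro v
  simp (maxSteps := 100000000) only [w_12, actL, W_12, forceL_eq]
  rfl

theorem fixW_12 : ∀ v, v < 16240 → W_12 v = v :=
  (fixW_step (fun v hv => absurd hv (by omega)) 16240 fixc_12_0)

theorem fix_12 : ∀ v, v < 16240 → actL mT w_12 v = v := fun v hv => by
  rw [actw_12]
  exact fixW_12 v hv

theorem actw_13 : ∀ v, actL mT w_13 v = W_13 v := by
  intro v
  simp (maxSteps := 100000000) only [w_13, actL, W_13, forceL_eq]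
  rfl

theorem fixW_13 : ∀ v, v < 16240 → W_13 v = v :=
  (fixW_step (fun v hv => absurd hv (by omega)) 16240 fixc_13_0)

theorem fix_13 : ∀ v, v < 16240 → actL mT w_13 v = v := fun v hv => by
  rw [actw_13]
  exact fixW_13 v hv

theorem actw_14 : ∀ v, actL mT w_14 v = W_14 v := by
  intro v
  simp (maxSteps := 100000000) only [w_14, actL, W_14, forceL_eq]
  rfl

theorem fixW_14 : ∀ v, v < 16240 → W_14 v = v :=
  (fixW_step (fun v hv => absurd hv (by omega)) 16240 fixc_14_0)

theorem fix_14 : ∀ v, v < 16240 → actL mT w_14 v = v := fun v hv => by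
  rw [actw_14]
  exact fixW_14 v hv

theorem actw_15 : ∀ v, actL mT w_15 v = W_15 v := by
  intro v
  simp (maxSteps := 100000000) only [w_15, actL, W_15, forceL_eq]
  rfl

theorem fixW_15 : ∀ v, v < 16240 → W_15 v = v :=
  (fixW_step (fun v hv => absurd hv (by omega)) 16240 fixc_15_0)

theorem fix_15 : ∀ v, v < 16240 → actL mT w_15 v = v := fun v hv => by
  rw [actw_15]
  exact fixW_15 v hv

theorem actw_16 : ∀ v, actL mT w_16 v = W_16 v := by
  intro v
  simp (maxSteps := 100000000) only [w_16, actL, W_16, forceL_eq]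
  rfl

theorem fixW_16 : ∀ v, v < 16240 → W_16 v = v :=
  (fixW_step (fun v hv => absurd hv (by omega)) 16240 fixc_16_0)

theorem fix_16 : ∀ v, v < 16240 → actL mT w_16 v = v := fun v hv => by
  rw [actw_16]
  exact fixW_16 v hv

theorem actw_17 : ∀ v, actL mT w_17 v = W_17 v := by
  intro v
  simp (maxSteps := 100000000) only [w_17, actL, W_17, forceL_eq]
  rfl

theorem fixW_17 : ∀ v, v < 16240 → W_17 v = v :=
  (fixW_step (fun v hv => absurd hv (by omega)) 16240 fixc_17_0)

theorem fix_17 : ∀ v, v < 16240 → actL mT w_17 v = v := fun v hv => by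
  rw [actw_17]
  exact fixW_17 v hv

theorem actw_18 : ∀ v, actL mT w_18 v = W_18 v := by
  intro v
  simp (maxSteps := 100000000) only [w_18, actL, W_18, forceL_eq]
  rfl

theorem fixW_18 : ∀ v, v < 16240 → W_18 v = v :=
  (fixW_step (fun v hv => absurd hv (by omega)) 16240 fixc_18_0)

theorem fix_18 : ∀ v, v < 16240 → actL mT w_18 v = v := fun v hv => by
  rw [actw_18]
  exact fixW_18 v hv

theorem actw_19 : ∀ v, actL mT w_19 v = W_19 v := by
  intro v
  simp (maxSteps := 100000000) only [w_19, actL, W_19, forceL_eq]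
  rfl

theorem fixW_19 : ∀ v, v < 16240 → W_19 v = v :=
  (fixW_step (fun v hv => absurd hv (by omega)) 16240 fixc_19_0)

theorem fix_19 : ∀ v, v < 16240 → actL mT w_19 v = v := fun v hv => by
  rw [actw_19]
  exact fixW_19 v hv

theorem actw_20 : ∀ v, actL mT w_20 v = W_20 v := by
  intro v
  simp (maxSteps := 100000000) only [w_20, actL, W_20, forceL_eq]
  rfl

theorem fixW_20 : ∀ v, v < 16240 → W_20 v = v :=
  (fixW_step (fun v hv => absurd hv (by omega)) 16240 fixc_20_0)

theorem fix_20 : ∀ v, v < 16240 → actL mT w_20 v = v := fun v hv => by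
  rw [actw_20]
  exact fixW_20 v hv

theorem actw_21 : ∀ v, actL mT w_21 v = W_21 v := by
  intro v
  simp (maxSteps := 100000000) only [w_21, actL, W_21, forceL_eq]
  rfl

theorem fixW_21 : ∀ v, v < 16240 → W_21 v = v :=
  (fixW_step (fun v hv => absurd hv (by omega)) 16240 fixc_21_0)

theorem fix_21 : ∀ v, v < 16240 → actL mT w_21 v = v := fun v hv => by
  rw [actw_21]
  exact fixW_21 v hv

theorem actw_22 : ∀ v, actL mT w_22 v = W_22 v := by
  intro v
  simp (maxSteps := 100000000) only [w_22, actL, W_22, forceL_eq]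
  rfl

theorem fixW_22 : ∀ v, v < 16240 → W_22 v = v :=
  (fixW_step (fun v hv => absurd hv (by omega)) 16240 fixc_22_0)

theorem fix_22 : ∀ v, v < 16240 → actL mT w_22 v = v := fun v hv => by
  rw [actw_22]
  exact fixW_22 v hv

theorem actw_23 : ∀ v, actL mT w_23 v = W_23 v := by
  intro v
  simp (maxSteps := 100000000) only [w_23, actL, W_23, forceL_eq]
  rfl

theorem fixW_23 : ∀ v, v < 16240 → W_23 v = v :=
  (fixW_step (fun v hv => absurd hv (by omega)) 16240 fixc_23_0)

theorem fix_23 : ∀ v, v < 16240 → actL mT w_23 v = v := fun v hv => by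
  rw [actw_23]
  exact fixW_23 v hv

theorem actw_24 : ∀ v, actL mT w_24 v = W_24 v := by
  intro v
  simp (maxSteps := 100000000) only [w_24, actL, W_24, forceL_eq]
  rfl

theorem fixW_24 : ∀ v, v < 16240 → W_24 v = v :=
  (fixW_step (fun v hv => absurd hv (by omega)) 16240 fixc_24_0)

theorem fix_24 : ∀ v, v < 16240 → actL mT w_24 v = v := fun v hv => by
  rw [actw_24]
  exact fixW_24 v hv

theorem actw_25 : ∀ v, actL mT w_25 v = W_25 v := by
  intro v
  simp (maxSteps := 100000000) only [w_25, actL, W_25, forceL_eq]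
  rfl

theorem fixW_25 : ∀ v, v < 16240 → W_25 v = v :=
  (fixW_step (fun v hv => absurd hv (by omega)) 16240 fixc_25_0)

theorem fix_25 : ∀ v, v < 16240 → actL mT w_25 v = v := fun v hv => by
  rw [actw_25]
  exact fixW_25 v hv

theorem actw_26 : ∀ v, actL mT w_26 v = W_26 v := by
  intro v
  simp (maxSteps := 100000000) only [w_26, actL, W_26, forceL_eq]
  rfl

theorem fixW_26 : ∀ v, v < 16240 → W_26 v = v :=
  (fixW_step (fun v hv => absurd hv (by omega)) 16240 fixc_26_0)

theorem fix_26 : ∀ v, v < 16240 → actL mT w_26 v = v := fun v hv => by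
  rw [actw_26]
  exact fixW_26 v hv

theorem actw_27 : ∀ v, actL mT w_27 v = W_27 v := by
  intro v
  simp (maxSteps := 100000000) only [w_27, actL, W_27, forceL_eq]
  rfl

theorem fixW_27 : ∀ v, v < 16240 → W_27 v = v :=
  (fixW_step (fun v hv => absurd hv (by omega)) 16240 fixc_27_0)

theorem fix_27 : ∀ v, v < 16240 → actL mT w_27 v = v := fun v hv => by
  rw [actw_27]
  exact fixW_27 v hv

theorem actw_28 : ∀ v, actL mT w_28 v = W_28 v := by
  intro v
  simp (maxSteps := 100000000) only [w_28, actL, W_28, forceL_eq]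
  rfl

theorem fixW_28 : ∀ v, v < 16240 → W_28 v = v :=
  (fixW_step (fun v hv => absurd hv (by omega)) 16240 fixc_28_0)

theorem fix_28 : ∀ v, v < 16240 → actL mT w_28 v = v := fun v hv => by
  rw [actw_28]
  exact fixW_28 v hv

theorem actw_29 : ∀ v, actL mT w_29 v = W_29 v := by
  intro v
  simp (maxSteps := 100000000) only [w_29, actL, W_29, forceL_eq]
  rfl

theorem fixW_29 : ∀ v, v < 16240 → W_29 v = v :=
  (fixW_step (fun v hv => absurd hv (by omega)) 16240 fixc_29_0)

theorem fix_29 : ∀ v, v < 16240 → actL mT w_29 v = v := fun v hv => by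
  rw [actw_29]
  exact fixW_29 v hv

theorem actw_30 : ∀ v, actL mT w_30 v = W_30 v := by
  intro v
  simp (maxSteps := 100000000) only [w_30, actL, W_30, forceL_eq]
  rfl

theorem fixW_30 : ∀ v, v < 16240 → W_30 v = v :=
  (fixW_step (fun v hv => absurd hv (by omega)) 16240 fixc_30_0)

theorem fix_30 : ∀ v, v < 16240 → actL mT w_30 v = v := fun v hv => by
  rw [actw_30]
  exact fixW_30 v hv

theorem actw_31 : ∀ v, actL mT w_31 v = W_31 v := by
  intro v
  simp (maxSteps := 100000000) only [w_31, actL, W_31, forceL_eq]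
  rfl

theorem fixW_31 : ∀ v, v < 16240 → W_31 v = v :=
  (fixW_step (fun v hv => absurd hv (by omega)) 16240 fixc_31_0)

theorem fix_31 : ∀ v, v < 16240 → actL mT w_31 v = v := fun v hv => by
  rw [actw_31]
  exact fixW_31 v hv

theorem actw_32 : ∀ v, actL mT w_32 v = W_32 v := by
  intro v
  simp (maxSteps := 100000000) only [w_32, actL, W_32, forceL_eq]
  rfl

theorem fixW_32 : ∀ v, v < 16240 → W_32 v = v :=
  (fixW_step (fun v hv => absurd hv (by omega)) 16240 fixc_32_0)

theorem fix_32 : ∀ v, v < 16240 → actL mT w_32 v = v := fun v hv => by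
  rw [actw_32]
  exact fixW_32 v hv

theorem actw_33 : ∀ v, actL mT w_33 v = W_33 v := by
  intro v
  simp (maxSteps := 100000000) only [w_33, actL, W_33, forceL_eq]
  rfl

theorem fixW_33 : ∀ v, v < 16240 → W_33 v = v :=
  (fixW_step (fun v hv => absurd hv (by omega)) 16240 fixc_33_0)

theorem fix_33 : ∀ v, v < 16240 → actL mT w_33 v = v := fun v hv => by
  rw [actw_33]
  exact fixW_33 v hv

theorem actw_34 : ∀ v, actL mT w_34 v = W_34 v := by
  intro v
  simp (maxSteps := 100000000) only [w_34, actL, W_34, forceL_eq]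
  rfl

theorem fixW_34 : ∀ v, v < 16240 → W_34 v = v :=
  (fixW_step (fun v hv => absurd hv (by omega)) 16240 fixc_34_0)

theorem fix_34 : ∀ v, v < 16240 → actL mT w_34 v = v := fun v hv => by
  rw [actw_34]
  exact fixW_34 v hv

theorem actw_35 : ∀ v, actL mT w_35 v = W_35 v := by
  intro v
  simp (maxSteps := 100000000) only [w_35, actL, W_35, forceL_eq]
  rfl

theorem fixW_35 : ∀ v, v < 16240 → W_35 v = v :=
  (fixW_step (fun v hv => absurd hv (by omega)) 16240 fixc_35_0)

theorem fix_35 : ∀ v, v < 16240 → actL mT w_35 v = v := fun v hv => by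
  rw [actw_35]
  exact fixW_35 v hv

theorem actw_36 : ∀ v, actL mT w_36 v = W_36 v := by
  intro v
  simp (maxSteps := 100000000) only [w_36, actL, W_36, forceL_eq]
  rfl

theorem fixW_36 : ∀ v, v < 16240 → W_36 v = v :=
  (fixW_step (fun v hv => absurd hv (by omega)) 16240 fixc_36_0)

theorem fix_36 : ∀ v, v < 16240 → actL mT w_36 v = v := fun v hv => by
  rw [actw_36]
  exact fixW_36 v hv

theorem actw_37 : ∀ v, actL mT w_37 v = W_37 v := by
  intro v
  simp (maxSteps := 100000000) only [w_37, actL, W_37, forceL_eq]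
  rfl

theorem fixW_37 : ∀ v, v < 16240 → W_37 v = v :=
  (fixW_step (fun v hv => absurd hv (by omega)) 16240 fixc_37_0)

theorem fix_37 : ∀ v, v < 16240 → actL mT w_37 v = v := fun v hv => by
  rw [actw_37]
  exact fixW_37 v hv

theorem actw_38 : ∀ v, actL mT w_38 v = W_38 v := by
  intro v
  simp (maxSteps := 100000000) only [w_38, actL, W_38, forceL_eq]
  rfl

theorem fixW_38 : ∀ v, v < 16240 → W_38 v = v :=
  (fixW_step (fun v hv => absurd hv (by omega)) 16240 fixc_38_0)

theorem fix_38 : ∀ v, v < 16240 → actL mT w_38 v = v := fun v hv => by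
  rw [actw_38]
  exact fixW_38 v hv

theorem actw_39 : ∀ v, actL mT w_39 v = W_39 v := by
  intro v
  simp (maxSteps := 100000000) only [w_39, actL, W_39, forceL_eq]
  rfl

theorem fixW_39 : ∀ v, v < 16240 → W_39 v = v :=
  (fixW_step (fun v hv => absurd hv (by omega)) 16240 fixc_39_0)

theorem fix_39 : ∀ v, v < 16240 → actL mT w_39 v = v := fun v hv => by
  rw [actw_39]
  exact fixW_39 v hv

theorem actw_40 : ∀ v, actL mT w_40 v = W_40 v := by
  intro v
  simp (maxSteps := 100000000) only [w_40, actL, W_40, forceL_eq]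
  rfl

theorem fixW_40 : ∀ v, v < 16240 → W_40 v = v :=
  (fixW_step (fun v hv => absurd hv (by omega)) 16240 fixc_40_0)

theorem fix_40 : ∀ v, v < 16240 → actL mT w_40 v = v := fun v hv => by
  rw [actw_40]
  exact fixW_40 v hv

theorem actw_41 : ∀ v, actL mT w_41 v = W_41 v := by
  intro v
  simp (maxSteps := 100000000) only [w_41, actL, W_41, forceL_eq]
  rfl

theorem fixW_41 : ∀ v, v < 16240 → W_41 v = v :=
  (fixW_step (fun v hv => absurd hv (by omega)) 16240 fixc_41_0)

theorem fix_41 : ∀ v, v < 16240 → actL mT w_41 v = v := fun v hv => by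
  rw [actw_41]
  exact fixW_41 v hv

theorem actw_42 : ∀ v, actL mT w_42 v = W_42 v := by
  intro v
  simp (maxSteps := 100000000) only [w_42, actL, W_42, forceL_eq]
  rfl

theorem fixW_42 : ∀ v, v < 16240 → W_42 v = v :=
  (fixW_step (fun v hv => absurd hv (by omega)) 16240 fixc_42_0)

theorem fix_42 : ∀ v, v < 16240 → actL mT w_42 v = v := fun v hv => by
  rw [actw_42]
  exact fixW_42 v hv

theorem actw_43 : ∀ v, actL mT w_43 v = W_43 v := by
  intro v
  simp (maxSteps := 100000000) only [w_43, actL, W_43, forceL_eq]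
  rfl

theorem fixW_43 : ∀ v, v < 16240 → W_43 v = v :=
  (fixW_step (fun v hv => absurd hv (by omega)) 16240 fixc_43_0)

theorem fix_43 : ∀ v, v < 16240 → actL mT w_43 v = v := fun v hv => by
  rw [actw_43]
  exact fixW_43 v hv

theorem actw_44 : ∀ v, actL mT w_44 v = W_44 v := by
  intro v
  simp (maxSteps := 100000000) only [w_44, actL, W_44, forceL_eq]
  rfl

theorem fixW_44 : ∀ v, v < 16240 → W_44 v = v :=
  (fixW_step (fun v hv => absurd hv (by omega)) 16240 fixc_44_0)

theorem fix_44 : ∀ v, v < 16240 → actL mT w_44 v = v := fun v hv => by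
  rw [actw_44]
  exact fixW_44 v hv

theorem actw_45 : ∀ v, actL mT w_45 v = W_45 v := by
  intro v
  simp (maxSteps := 100000000) only [w_45, actL, W_45, forceL_eq]
  rfl

theorem fixW_45 : ∀ v, v < 16240 → W_45 v = v :=
  (fixW_step (fun v hv => absurd hv (by omega)) 16240 fixc_45_0)

theorem fix_45 : ∀ v, v < 16240 → actL mT w_45 v = v := fun v hv => by
  rw [actw_45]
  exact fixW_45 v hv

theorem actw_46 : ∀ v, actL mT w_46 v = W_46 v := by
  intro v
  simp (maxSteps := 100000000) only [w_46, actL, W_46, forceL_eq]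
  rfl

theorem fixW_46 : ∀ v, v < 16240 → W_46 v = v :=
  (fixW_step (fun v hv => absurd hv (by omega)) 16240 fixc_46_0)

theorem fix_46 : ∀ v, v < 16240 → actL mT w_46 v = v := fun v hv => by
  rw [actw_46]
  exact fixW_46 v hv

theorem actw_47 : ∀ v, actL mT w_47 v = W_47 v := by
  intro v
  simp (maxSteps := 100000000) only [w_47, actL, W_47, forceL_eq]
  rfl

theorem fixW_47 : ∀ v, v < 16240 → W_47 v = v :=
  (fixW_step (fun v hv => absurd hv (by omega)) 16240 fixc_47_0)

theorem fix_47 : ∀ v, v < 16240 → actL mT w_47 v = v := fun v hv => by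
  rw [actw_47]
  exact fixW_47 v hv

theorem actw_48 : ∀ v, actL mT w_48 v = W_48 v := by
  intro v
  simp (maxSteps := 100000000) only [w_48, actL, W_48, forceL_eq]
  rfl

theorem fixW_48 : ∀ v, v < 16240 → W_48 v = v :=
  (fixW_step (fun v hv => absurd hv (by omega)) 16240 fixc_48_0)

theorem fix_48 : ∀ v, v < 16240 → actL mT w_48 v = v := fun v hv => by
  rw [actw_48]
  exact fixW_48 v hv

theorem actw_49 : ∀ v, actL mT w_49 v = W_49 v := by
  intro v
  simp (maxSteps := 100000000) only [w_49, actL, W_49, forceL_eq]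
  rfl

theorem fixW_49 : ∀ v, v < 16240 → W_49 v = v :=
  (fixW_step (fun v hv => absurd hv (by omega)) 16240 fixc_49_0)

theorem fix_49 : ∀ v, v < 16240 → actL mT w_49 v = v := fun v hv => by
  rw [actw_49]
  exact fixW_49 v hv

theorem actw_50 : ∀ v, actL mT w_50 v = W_50 v := by
  intro v
  simp (maxSteps := 100000000) only [w_50, actL, W_50, forceL_eq]
  rfl

theorem fixW_50 : ∀ v, v < 16240 → W_50 v = v :=
  (fixW_step (fun v hv => absurd hv (by omega)) 16240 fixc_50_0)

theorem fix_50 : ∀ v, v < 16240 → actL mT w_50 v = v := fun v hv => by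
  rw [actw_50]
  exact fixW_50 v hv

theorem actw_51 : ∀ v, actL mT w_51 v = W_51 v := by
  intro v
  simp (maxSteps := 100000000) only [w_51, actL, W_51, forceL_eq]
  rfl

theorem fixW_51 : ∀ v, v < 16240 → W_51 v = v :=
  (fixW_step (fun v hv => absurd hv (by omega)) 16240 fixc_51_0)

theorem fix_51 : ∀ v, v < 16240 → actL mT w_51 v = v := fun v hv => by
  rw [actw_51]
  exact fixW_51 v hv

theorem actw_52 : ∀ v, actL mT w_52 v = W_52 v := by
  intro v
  simp (maxSteps := 100000000) only [w_52, actL, W_52, forceL_eq]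
  rfl

theorem fixW_52 : ∀ v, v < 16240 → W_52 v = v :=
  (fixW_step (fun v hv => absurd hv (by omega)) 16240 fixc_52_0)

theorem fix_52 : ∀ v, v < 16240 → actL mT w_52 v = v := fun v hv => by
  rw [actw_52]
  exact fixW_52 v hv

theorem actw_53 : ∀ v, actL mT w_53 v = W_53 v := by
  intro v
  simp (maxSteps := 100000000) only [w_53, actL, W_53, forceL_eq]
  rfl

theorem fixW_53 : ∀ v, v < 16240 → W_53 v = v :=
  (fixW_step (fun v hv => absurd hv (by omega)) 16240 fixc_53_0)

theorem fix_53 : ∀ v, v < 16240 → actL mT w_53 v = v := fun v hv => by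
  rw [actw_53]
  exact fixW_53 v hv

theorem actw_54 : ∀ v, actL mT w_54 v = W_54 v := by
  intro v
  simp (maxSteps := 100000000) only [w_54, actL, W_54, forceL_eq]
  rfl

theorem fixW_54 : ∀ v, v < 16240 → W_54 v = v :=
  (fixW_step (fun v hv => absurd hv (by omega)) 16240 fixc_54_0)

theorem fix_54 : ∀ v, v < 16240 → actL mT w_54 v = v := fun v hv => by
  rw [actw_54]
  exact fixW_54 v hv

theorem actw_55 : ∀ v, actL mT w_55 v = W_55 v := by
  intro v
  simp (maxSteps := 100000000) only [w_55, actL, W_55, forceL_eq]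
  rfl

theorem fixW_55 : ∀ v, v < 16240 → W_55 v = v :=
  (fixW_step (fun v hv => absurd hv (by omega)) 16240 fixc_55_0)

theorem fix_55 : ∀ v, v < 16240 → actL mT w_55 v = v := fun v hv => by
  rw [actw_55]
  exact fixW_55 v hv

theorem actw_56 : ∀ v, actL mT w_56 v = W_56 v := by
  intro v
  simp (maxSteps := 100000000) only [w_56, actL, W_56, forceL_eq]
  rfl

theorem fixW_56 : ∀ v, v < 16240 → W_56 v = v :=
  (fixW_step (fun v hv => absurd hv (by omega)) 16240 fixc_56_0)

theorem fix_56 : ∀ v, v < 16240 → actL mT w_56 v = v := fun v hv => by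
  rw [actw_56]
  exact fixW_56 v hv

theorem actw_57 : ∀ v, actL mT w_57 v = W_57 v := by
  intro v
  simp (maxSteps := 100000000) only [w_57, actL, W_57, forceL_eq]
  rfl

theorem fixW_57 : ∀ v, v < 16240 → W_57 v = v :=
  (fixW_step (fun v hv => absurd hv (by omega)) 16240 fixc_57_0)

theorem fix_57 : ∀ v, v < 16240 → actL mT w_57 v = v := fun v hv => by
  rw [actw_57]
  exact fixW_57 v hv

theorem actw_58 : ∀ v, actL mT w_58 v = W_58 v := by
  intro v
  simp (maxSteps := 100000000) only [w_58, actL, W_58, forceL_eq]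
  rfl

theorem fixW_58 : ∀ v, v < 16240 → W_58 v = v :=
  (fixW_step (fun v hv => absurd hv (by omega)) 16240 fixc_58_0)

theorem fix_58 : ∀ v, v < 16240 → actL mT w_58 v = v := fun v hv => by
  rw [actw_58]
  exact fixW_58 v hv

theorem actw_59 : ∀ v, actL mT w_59 v = W_59 v := by
  intro v
  simp (maxSteps := 100000000) only [w_59, actL, W_59, forceL_eq]
  rfl

theorem fixW_59 : ∀ v, v < 16240 → W_59 v = v :=
  (fixW_step (fun v hv => absurd hv (by omega)) 16240 fixc_59_0)

theorem fix_59 : ∀ v, v < 16240 → actL mT w_59 v = v := fun v hv => by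
  rw [actw_59]
  exact fixW_59 v hv

theorem actw_60 : ∀ v, actL mT w_60 v = W_60 v := by
  intro v
  simp (maxSteps := 100000000) only [w_60, actL, W_60, forceL_eq]
  rfl

theorem fixW_60 : ∀ v, v < 16240 → W_60 v = v :=
  (fixW_step (fun v hv => absurd hv (by omega)) 16240 fixc_60_0)

theorem fix_60 : ∀ v, v < 16240 → actL mT w_60 v = v := fun v hv => by
  rw [actw_60]
  exact fixW_60 v hv

theorem actw_61 : ∀ v, actL mT w_61 v = W_61 v := by
  intro v
  simp (maxSteps := 100000000) only [w_61, actL, W_61, forceL_eq]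
  rfl

theorem fixW_61 : ∀ v, v < 16240 → W_61 v = v :=
  (fixW_step (fun v hv => absurd hv (by omega)) 16240 fixc_61_0)

theorem fix_61 : ∀ v, v < 16240 → actL mT w_61 v = v := fun v hv => by
  rw [actw_61]
  exact fixW_61 v hv

theorem actw_62 : ∀ v, actL mT w_62 v = W_62 v := by
  intro v
  simp (maxSteps := 100000000) only [w_62, actL, W_62, forceL_eq]
  rfl

theorem fixW_62 : ∀ v, v < 16240 → W_62 v = v :=
  (fixW_step (fun v hv => absurd hv (by omega)) 16240 fixc_62_0)

theorem fix_62 : ∀ v, v < 16240 → actL mT w_62 v = v := fun v hv => by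
  rw [actw_62]
  exact fixW_62 v hv

theorem actw_63 : ∀ v, actL mT w_63 v = W_63 v := by
  intro v
  simp (maxSteps := 100000000) only [w_63, actL, W_63, forceL_eq]
  rfl

theorem fixW_63 : ∀ v, v < 16240 → W_63 v = v :=
  (fixW_step (fun v hv => absurd hv (by omega)) 16240 fixc_63_0)

theorem fix_63 : ∀ v, v < 16240 → actL mT w_63 v = v := fun v hv => by
  rw [actw_63]
  exact fixW_63 v hv

theorem actw_64 : ∀ v, actL mT w_64 v = W_64 v := by
  intro v
  simp (maxSteps := 100000000) only [w_64, actL, W_64, forceL_eq]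
  rfl

theorem fixW_64 : ∀ v, v < 16240 → W_64 v = v :=
  (fixW_step (fun v hv => absurd hv (by omega)) 16240 fixc_64_0)

theorem fix_64 : ∀ v, v < 16240 → actL mT w_64 v = v := fun v hv => by
  rw [actw_64]
  exact fixW_64 v hv

theorem actw_65 : ∀ v, actL mT w_65 v = W_65 v := by
  intro v
  simp (maxSteps := 100000000) only [w_65, actL, W_65, forceL_eq]
  rfl

theorem fixW_65 : ∀ v, v < 16240 → W_65 v = v :=
  (fixW_step (fun v hv => absurd hv (by omega)) 16240 fixc_65_0)

theorem fix_65 : ∀ v, v < 16240 → actL mT w_65 v = v := fun v hv => by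
  rw [actw_65]
  exact fixW_65 v hv

theorem actw_66 : ∀ v, actL mT w_66 v = W_66 v := by
  intro v
  simp (maxSteps := 100000000) only [w_66, actL, W_66, forceL_eq]
  rfl

theorem fixW_66 : ∀ v, v < 16240 → W_66 v = v :=
  (fixW_step (fun v hv => absurd hv (by omega)) 16240 fixc_66_0)

theorem fix_66 : ∀ v, v < 16240 → actL mT w_66 v = v := fun v hv => by
  rw [actw_66]
  exact fixW_66 v hv

theorem actw_67 : ∀ v, actL mT w_67 v = W_67 v := by
  intro v
  simp (maxSteps := 100000000) only [w_67, actL, W_67, forceL_eq]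
  rfl

theorem fixW_67 : ∀ v, v < 16240 → W_67 v = v :=
  (fixW_step (fun v hv => absurd hv (by omega)) 16240 fixc_67_0)

theorem fix_67 : ∀ v, v < 16240 → actL mT w_67 v = v := fun v hv => by
  rw [actw_67]
  exact fixW_67 v hv

theorem actw_68 : ∀ v, actL mT w_68 v = W_68 v := by
  intro v
  simp (maxSteps := 100000000) only [w_68, actL, W_68, forceL_eq]
  rfl

theorem fixW_68 : ∀ v, v < 16240 → W_68 v = v :=
  (fixW_step (fun v hv => absurd hv (by omega)) 16240 fixc_68_0)

theorem fix_68 : ∀ v, v < 16240 → actL mT w_68 v = v := fun v hv => by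
  rw [actw_68]
  exact fixW_68 v hv

theorem actw_69 : ∀ v, actL mT w_69 v = W_69 v := by
  intro v
  simp (maxSteps := 100000000) only [w_69, actL, W_69, forceL_eq]
  rfl

theorem fixW_69 : ∀ v, v < 16240 → W_69 v = v :=
  (fixW_step (fun v hv => absurd hv (by omega)) 16240 fixc_69_0)

theorem fix_69 : ∀ v, v < 16240 → actL mT w_69 v = v := fun v hv => by
  rw [actw_69]
  exact fixW_69 v hv

theorem actw_70 : ∀ v, actL mT w_70 v = W_70 v := by
  intro v
  simp (maxSteps := 100000000) only [w_70, actL, W_70, forceL_eq]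
  rfl

theorem fixW_70 : ∀ v, v < 16240 → W_70 v = v :=
  (fixW_step (fun v hv => absurd hv (by omega)) 16240 fixc_70_0)

theorem fix_70 : ∀ v, v < 16240 → actL mT w_70 v = v := fun v hv => by
  rw [actw_70]
  exact fixW_70 v hv

theorem actw_71 : ∀ v, actL mT w_71 v = W_71 v := by
  intro v
  simp (maxSteps := 100000000) only [w_71, actL, W_71, forceL_eq]
  rfl

theorem fixW_71 : ∀ v, v < 16240 → W_71 v = v :=
  (fixW_step (fun v hv => absurd hv (by omega)) 16240 fixc_71_0)

theorem fix_71 : ∀ v, v < 16240 → actL mT w_71 v = v := fun v hv => by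
  rw [actw_71]
  exact fixW_71 v hv

theorem hcomm : ∀ i, i < 4 → ∀ v, v < 16240 → actL mT [2 * i, 2 * 4, 2 * i + 1, 2 * 4 + 1] v = v := by
  intro i hi
  interval_cases i
  · exact fix_0
  · exact fix_1
  · exact fix_2
  · exact fix_3

theorem hcent : ∀ r ∈ cw, ∃ k, ∀ v, v < 16240 → actL mT (r ++ List.replicate k (2 * 4)) v = v := by
  intro r hr
  simp only [cw, List.mem_cons, List.not_mem_nil, or_false] at hr
  rcases hr with rfl | rfl | rfl | rfl | rfl | rfl | rfl | rfl | rfl | rfl | rfl | rfl | rfl | rfl | rfl | rfl | rfl | rfl | rfl | rfl | rfl | rfl | rfl | rfl | rfl | rfl | rfl | rfl | rfl | rfl | rfl | rfl | rfl | rfl | rfl | rfl | rfl | rfl | rfl | rfl | rfl | rfl | rfl | rfl | rfl | rfl | rfl | rfl | rfl | rfl | rfl | rfl | rfl | rfl | rfl | rfl | rfl | rfl | rfl | rfl | rfl | rfl | rfl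
  · exact ⟨0, fix_4⟩
  · exact ⟨0, fix_5⟩
  · exact ⟨0, fix_6⟩
  · exact ⟨1, fix_7⟩
  · exact ⟨0, fix_8⟩
  · exact ⟨0, fix_9⟩
  · exact ⟨0, fix_10⟩
  · exact ⟨0, fix_11⟩
  · exact ⟨0, fix_12⟩
  · exact ⟨0, fix_13⟩
  · exact ⟨0, fix_14⟩
  · exact ⟨0, fix_15⟩
  · exact ⟨0, fix_16⟩
  · exact ⟨0, fix_17⟩
  · exact ⟨0, fix_18⟩
  · exact ⟨0, fix_19⟩
  · exact ⟨0, fix_20⟩
  · exact ⟨0, fix_21⟩
  · exact ⟨0, fix_22⟩
  · exact ⟨0, fix_23⟩
  · exact ⟨0, fix_24⟩
  · exact ⟨0, fix_25⟩
  · exact ⟨0, fix_26⟩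
  · exact ⟨0, fix_27⟩
  · exact ⟨0, fix_28⟩
  · exact ⟨0, fix_29⟩
  · exact ⟨0, fix_30⟩
  · exact ⟨0, fix_31⟩
  · exact ⟨0, fix_32⟩
  · exact ⟨0, fix_33⟩
  · exact ⟨0, fix_34⟩
  · exact ⟨0, fix_35⟩
  · exact ⟨0, fix_36⟩
  · exact ⟨0, fix_37⟩
  · exact ⟨0, fix_38⟩
  · exact ⟨0, fix_39⟩
  · exact ⟨0, fix_40⟩
  · exact ⟨0, fix_41⟩
  · exact ⟨0, fix_42⟩
  · exact ⟨0, fix_43⟩
  · exact ⟨0, fix_44⟩
  · exact ⟨0, fix_45⟩
  · exact ⟨0, fix_46⟩
  · exact ⟨0, fix_47⟩
  · exact ⟨0, fix_48⟩
  · exact ⟨0, fix_49⟩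
  · exact ⟨0, fix_50⟩
  · exact ⟨0, fix_51⟩
  · exact ⟨0, fix_52⟩
  · exact ⟨0, fix_53⟩
  · exact ⟨0, fix_54⟩
  · exact ⟨0, fix_55⟩
  · exact ⟨0, fix_56⟩
  · exact ⟨0, fix_57⟩
  · exact ⟨0, fix_58⟩
  · exact ⟨0, fix_59⟩
  · exact ⟨0, fix_60⟩
  · exact ⟨0, fix_61⟩
  · exact ⟨0, fix_62⟩
  · exact ⟨0, fix_63⟩
  · exact ⟨0, fix_64⟩
  · exact ⟨0, fix_65⟩
  · exact ⟨0, fix_66⟩

theorem hpow : ∀ i, i < 4 → ∀ v, v < 16240 → actL mT (List.replicate (mml.getD i 0) (2 * i)) v = v := by
  intro i hi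
  interval_cases i
  · exact fix_67
  · exact fix_68
  · exact fix_69
  · exact fix_70

theorem hsh : ∀ v, v < 16240 → actL mT (List.replicate 2 (2 * 4)) v = v := fix_71

end Cfsg.Agent.Helper4.RuVM
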