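import Mathlib

/-!
# A presentation of the Rudvalis group over the Tits group: the words

Letters `0, …, 5` are `a, a⁻¹, b, b⁻¹, c, c⁻¹` (three elements of order 13 generating the Tits group,
those of `Cfsg.Agent.Helper5.TitX`), letters `6, 7` are `t, t⁻¹`, where `t` has order 29.
-/

set_option autoImplicit false

namespace Cfsg.Agent.Helper4.RuV

/-- the orders of the generators. -/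
def mV (i : ℕ) : ℕ := bif Nat.blt i 3 then 13 else 29

/-- the central words of the subgroup `⟨a, b⟩` of order 5616. -/
def CU : List (List ℕ) := [[0, 3, 0, 3],
  [0, 0, 3, 3, 0, 0, 3, 3],
  [0, 2, 0, 2, 0, 2, 0, 2, 0, 2, 0, 2],
  [0, 0, 0, 0, 2, 0, 0, 0, 0, 2, 0, 0, 0, 0, 2]]

/-- the eight further central words of the Tits group. -/
def C8 : List (List ℕ) := [[5, 0, 0, 2, 1, 1, 1, 3, 0, 4, 3, 1, 1, 1, 3, 3, 3, 3, 3],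
  [5, 0, 0, 0, 0, 2, 2, 2, 0, 0, 4, 1, 2, 2, 0, 0, 0, 0, 3, 1, 1],
  [4, 4, 0, 4, 4, 0, 4, 4, 0],
  [5, 5, 1, 5, 5, 1, 5, 5, 1],
  [4, 4, 1, 5, 2, 0, 2, 4, 2, 0, 0, 0, 0, 2],
  [5, 2, 0, 5, 2, 1, 3, 4, 4, 0, 0, 3, 3, 3],
  [5, 2, 1, 3, 4, 4, 3, 3, 4, 0, 0, 0, 3, 1],
  [4, 1, 3, 1, 3, 4, 1, 3, 3, 4, 2, 0, 0, 2, 0]]

/-- forty redundant short words, trivial in the Tits group. -/
def SR : List (List ℕ) := [[0, 3, 0, 3],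
  [0, 0, 3, 1, 2, 0, 3, 3],
  [0, 0, 3, 1, 2, 2, 1, 3],
  [0, 0, 3, 3, 0, 2, 1, 3],
  [2, 5, 2, 5, 2, 5, 2, 5],
  [0, 4, 4, 0, 4, 4, 0, 4, 4],
  [0, 3, 0, 5, 2, 5, 2, 5, 2, 5],
  [0, 3, 5, 5, 1, 5, 5, 1, 5, 5, 3],
  [0, 0, 0, 3, 1, 1, 2, 0, 0, 3, 3, 3],
  [0, 0, 0, 3, 1, 1, 2, 0, 2, 1, 3, 3],
  [0, 0, 0, 3, 1, 1, 2, 2, 0, 3, 1, 3],
  [0, 0, 0, 3, 1, 1, 2, 2, 2, 1, 1, 3],
  [0, 0, 0, 3, 1, 3, 0, 2, 2, 1, 1, 3],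
  [0, 0, 0, 3, 3, 1, 2, 0, 2, 1, 1, 3],
  [0, 0, 0, 3, 3, 1, 2, 2, 2, 1, 3, 3],
  [0, 0, 0, 3, 3, 3, 0, 0, 2, 1, 1, 3],
  [0, 0, 3, 4, 0, 3, 5, 1, 4, 2, 1, 5],
  [0, 0, 3, 4, 2, 1, 5, 1, 4, 0, 3, 5],
  [0, 0, 3, 4, 2, 1, 5, 1, 4, 2, 1, 5],
  [0, 2, 0, 2, 0, 2, 0, 2, 0, 2, 0, 2],
  [0, 2, 1, 4, 0, 3, 5, 1, 4, 0, 3, 5],
  [0, 2, 1, 4, 0, 3, 5, 1, 4, 2, 1, 5],
  [0, 2, 1, 4, 2, 1, 5, 1, 4, 0, 3, 5],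
  [0, 3, 3, 4, 0, 3, 5, 2, 4, 2, 1, 5],
  [0, 3, 3, 4, 2, 1, 5, 2, 4, 0, 3, 5],
  [0, 3, 3, 4, 2, 1, 5, 2, 4, 2, 1, 5],
  [0, 3, 4, 0, 3, 5, 0, 3, 4, 2, 1, 5],
  [0, 3, 4, 0, 3, 5, 2, 1, 4, 0, 3, 5],
  [0, 3, 4, 0, 3, 5, 2, 1, 4, 2, 1, 5],
  [0, 3, 4, 0, 3, 5, 3, 4, 2, 1, 5, 2],
  [0, 3, 4, 2, 1, 5, 3, 4, 0, 3, 5, 2],
  [0, 3, 4, 2, 1, 5, 3, 4, 2, 1, 5, 2],
  [0, 3, 5, 1, 2, 4, 0, 3, 5, 3, 0, 4],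
  [0, 3, 5, 1, 2, 4, 2, 1, 5, 1, 2, 4],
  [0, 3, 5, 1, 2, 4, 2, 1, 5, 3, 0, 4],
  [0, 5, 2, 5, 3, 4, 0, 5, 2, 5, 3, 4],
  [0, 0, 0, 0, 0, 0, 0, 0, 0, 0, 0, 0, 0],
  [0, 0, 0, 4, 3, 1, 3, 5, 0, 4, 3, 4, 2],
  [2, 2, 2, 2, 2, 2, 2, 2, 2, 2, 2, 2, 2],
  [4, 4, 4, 4, 4, 4, 4, 4, 4, 4, 4, 4, 4]]

/-- the labelled central words with `t`. -/
def EX : List (List ℕ) := [[6, 3, 4, 3, 4, 7, 2, 0, 4, 4, 3, 4, 0, 5, 0, 0],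
  [6, 0, 2, 0, 3, 3, 1, 7, 2, 5, 0, 5, 0, 2, 4, 1, 4, 1, 2, 4],
  [6, 0, 6, 2, 2, 0, 5, 1, 1, 7, 0, 5, 2, 2, 5, 0, 4, 0, 0, 4, 0],
  [7, 0, 6, 5, 1, 1, 4, 0, 7, 5, 3, 1, 5, 3, 5, 2, 2, 4, 4, 2],
  [7, 0, 6, 5, 2, 6, 4, 1, 4, 4, 3, 5, 2, 0, 2, 4, 0],
  [7, 1, 7, 1, 3, 5, 1, 1, 6, 3, 5, 3, 0, 0, 4, 2, 2, 4, 4],
  [6, 4, 6, 4, 4, 0, 2, 0, 7, 5, 5, 2, 2, 1, 1, 3, 0, 4, 0, 5, 1],
  [6, 4, 7, 1, 5, 3, 1, 3, 0, 7, 0, 0, 2, 2, 4, 2, 5, 0, 4, 3, 1]]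

/-- the central words `t s' t⁻¹ s⁻¹` with `s`, `s'` of order 13; their values are 1. -/
def XX : List (List ℕ) := [[6, 3, 1, 1, 1, 2, 4, 1, 7, 3, 3, 4, 1, 5, 0, 4, 4, 2, 2],
  [6, 1, 1, 3, 4, 2, 2, 4, 7, 5, 3, 0, 4, 0, 2, 5, 5, 0, 3, 3],
  [6, 2, 5, 5, 1, 3, 0, 4, 7, 5, 2, 4, 2, 4, 3, 3, 3, 4, 2, 4]]

/-- the words `s'` of the words of `XX`. -/
def XS : List (List ℕ) := [[3, 1, 1, 1, 2, 4, 1],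
  [1, 1, 3, 4, 2, 2, 4],
  [2, 5, 5, 1, 3, 0, 4]]

/-- the second halves `s` of the words of `XX`. -/
def XB : List (List ℕ) := [[3, 3, 5, 5, 1, 4, 0, 5, 2, 2],
  [2, 2, 1, 4, 4, 3, 1, 5, 1, 2, 4],
  [5, 3, 5, 2, 2, 2, 5, 3, 5, 3, 4]]

/-- no central words for the cyclic group. -/
def CL1 : List (List ℕ) := []

/-- the central words of the subgroup `⟨a, b⟩`. -/
def CL2 : List (List ℕ) := CU ++ CL1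

/-- the central words of the Tits group, those of `Cfsg.Agent.Helper5.TitX.CC`. -/
def CL3 : List (List ℕ) := C8 ++ CL2

/-- the central words of the Tits group with the redundant ones. -/
def CLS : List (List ℕ) := CL3 ++ SR

/-- the thirteenth powers of the words `s'` and `s`. -/
def XP : List (List ℕ) := (XS ++ XB).map fun s => (List.replicate 13 s).flatten

/-- the word of the generator `u` of Helper2 in `a, b, c, t`. -/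
def uW : List ℕ := [2, 5, 2, 4, 0, 0, 4, 4, 0, 0, 6, 1, 4, 7, 1, 3, 6]

/-- all the central words. -/
def CCV : List (List ℕ) := (EX ++ XX) ++ CLS

end Cfsg.Agent.Helper4.RuV
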