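import Mathlib
import Cfsg.Agent.Helper4.RuVDef
import Cfsg.Agent.Helper2.RuM.Stage

/-!
# A presentation of the Rudvalis group over the Tits group: the generators

The generators `a, b, c` and `t = y ^ 2` in the permutation group on 4060 points of
`Cfsg.Agent.Helper2.RuM`; words in them are translated to words in the letters of Helper2.
-/

set_option autoImplicit false

noncomputable section

namespace Cfsg.Agent.Helper4.RuV

open Cfsg Cfsg.Agent.Helper5.StemP Cfsg.Agent.Helper5.LP Cfsg.Agent.Helper2.RuM
  Cfsg.Agent.Helper2.Tw Cfsg.Agent.Helper9.OutG Cfsg.Agent.Helper9.J3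

/-- the translation of a letter. -/
def trl (c : ℕ) : List ℕ := bif Nat.blt c 6 then [c] else bif Nat.beq c 6 then [8, 8] else [9, 9]

/-- the translation of a word. -/
def trW (w : List ℕ) : List ℕ := List.rec [] (fun c _ ih => trl c ++ ih) w

theorem trW_nil : trW [] = [] := rfl

theorem trW_cons (c : ℕ) (w : List ℕ) : trW (c :: w) = trl c ++ trW w := rfl

/-- the generators `a, b, c, t`. -/
def gV (i : ℕ) : PP := if i < 3 then g i else g 4 ^ 2

theorem lval_gV : ∀ c, c < 8 → lval gV c = ((trl c).map (lval g)).prod := by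
  intro c hc
  interval_cases c
  · show lval gV 0 = ([0].map (lval g)).prod
    simp [lval, gV]
  · show lval gV 1 = ([1].map (lval g)).prod
    simp [lval, gV]
  · show lval gV 2 = ([2].map (lval g)).prod
    simp [lval, gV]
  · show lval gV 3 = ([3].map (lval g)).prod
    simp [lval, gV]
  · show lval gV 4 = ([4].map (lval g)).prod
    simp [lval, gV]
  · show lval gV 5 = ([5].map (lval g)).prod
    simp [lval, gV]
  · show lval gV 6 = ([8, 8].map (lval g)).prod
    simp [lval, gV, pow_two]
  · show lval gV 7 = ([9, 9].map (lval g)).prod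
    simp [lval, gV, pow_two]

theorem prod_gV : ∀ w : List ℕ, (∀ c ∈ w, c < 8) →
    (w.map (lval gV)).prod = ((trW w).map (lval g)).prod
  | [], _ => rfl
  | c :: w, h => by
    rw [List.map_cons, List.prod_cons, trW_cons, List.map_append, List.prod_append,
      lval_gV c (h c List.mem_cons_self),
      prod_gV w (fun c hc => h c (List.mem_cons_of_mem _ hc))]

theorem trl_lt : ∀ c, c < 8 → ∀ x ∈ trl c, x < 10 := by decide

theorem trW_lt : ∀ w : List ℕ, (∀ c ∈ w, c < 8) → ∀ x ∈ trW w, x < 10
  | [], _ => by intro x hx; exact absurd hx List.not_mem_nil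
  | c :: w, h => by
    intro x hx
    rw [trW_cons] at hx
    rcases List.mem_append.mp hx with hx | hx
    · exact trl_lt c (h c List.mem_cons_self) x hx
    · exact trW_lt w (fun c hc => h c (List.mem_cons_of_mem _ hc)) x hx

/-- a word is trivial if its translation acts trivially. -/
theorem prod_gV_eq_one {w : List ℕ} (hw : ∀ c ∈ w, c < 8) (h : relChk (trW w) = true) :
    (w.map (lval gV)).prod = 1 := by
  rw [prod_gV w hw, word_perm _ (trW_lt w hw)]
  exact permW_eq_one h

/-- all words of the list have letters below 8 and translations acting trivially. -/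
def relsChkV (l : List (List ℕ)) : Bool :=
  List.rec true (fun w _ ih => andB (andB (ltW w 8) (relChk (trW w))) ih) l

theorem relsChkV_cons (w : List ℕ) (l : List (List ℕ)) :
    relsChkV (w :: l) = andB (andB (ltW w 8) (relChk (trW w))) (relsChkV l) := rfl

theorem relsChkV_true {l : List (List ℕ)} (h : relsChkV l = true) :
    ∀ w ∈ l, (∀ c ∈ w, c < 8) ∧ (w.map (lval gV)).prod = 1 := by
  induction l with
  | nil => intro w hw; exact absurd hw List.not_mem_nil
  | cons v l ih =>
    rw [relsChkV_cons] at h
    obtain ⟨h1, h2⟩ := andB_true h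
    obtain ⟨h3, h4⟩ := andB_true h1
    intro w hw
    rcases List.mem_cons.1 hw with rfl | hw
    · exact ⟨ltW_true h3, prod_gV_eq_one (ltW_true h3) h4⟩
    · exact ih h2 w hw

theorem gV_pow : ∀ i, i < 4 → gV i ^ mV i = 1 := by
  intro i hi
  interval_cases i
  · exact g_pow 0 (by norm_num)
  · exact g_pow 1 (by norm_num)
  · exact g_pow 2 (by norm_num)
  · have h := g_pow 4 (by norm_num)
    show (g 4 ^ 2) ^ 29 = 1
    have h' : g 4 ^ 29 = 1 := h
    rw [← pow_mul, mul_comm, pow_mul, h', one_pow]

end Cfsg.Agent.Helper4.RuV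

end
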