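import Mathlib
import Cfsg.Agent.Helper4.RuVGen

/-! A presentation of the Rudvalis group over the Tits group: the words act trivially on the 4060
points, part A. -/

set_option autoImplicit false
set_option Elab.async false

namespace Cfsg.Agent.Helper4.RuV

open Cfsg.Agent.Helper2.RuM

set_option maxRecDepth 1000000 in
theorem relEX_ok : relsChkV EX = true := by decide +kernel

set_option maxRecDepth 1000000 in
theorem relXX_ok : relsChkV XX = true := by decide +kernel

set_option maxRecDepth 1000000 in
theorem relCU_ok : relsChkV CU = true := by decide +kernel

set_option maxRecDepth 1000000 in
theorem relC8_ok : relsChkV C8 = true := by decide +kernel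

end Cfsg.Agent.Helper4.RuV
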