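import Mathlib
import Cfsg.Agent.Helper4.RuVGen

/-! A presentation of the Rudvalis group over the Tits group: the words act trivially on the 4060
points, part B. -/

set_option autoImplicit false
set_option Elab.async false

namespace Cfsg.Agent.Helper4.RuV

open Cfsg.Agent.Helper2.RuM

set_option maxRecDepth 1000000 in
theorem relSR_ok : relsChkV SR = true := by decide +kernel

end Cfsg.Agent.Helper4.RuV
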