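import Mathlib
import Cfsg.Agent.Helper4.RuVDef
import Cfsg.Agent.Helper4.TowerX
import Cfsg.Agent.Helper4.RuVADat
import Cfsg.Agent.Helper4.RuVBDat
import Cfsg.Agent.Helper4.RuVCDat

/-!
# The covering group of exponent 60 of the Rudvalis group: the loop words of the certificates

The loop words of the three certificates are rotations of the relators of the covering
presentations; the check of the last certificate is cut into blocks.
-/

set_option autoImplicit false
set_option Elab.async false

namespace Cfsg.Agent.Helper4.RuV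

open Cfsg Cfsg.Agent.Helper5.StemP Cfsg.Agent.Helper5.LP Cfsg.Agent.Helper4.LTW

set_option maxRecDepth 1000000 in
theorem wordOK_A : ∀ wi, wi < RuVA.cert.nrel →
    wordOK2 (coverRels 2 mV (CU ++ CL1) (CU ++ CL1) 60) (CU ++ CL1) CU.length (RuVA.cert.W wi)
      (RuVA.cert.δ wi) (RuVA.origs.getD wi 0) = true := by decide +kernel

set_option maxRecDepth 1000000 in
theorem wordOK_B : ∀ wi, wi < RuVB.cert.nrel →
    wordOK2 (coverRels 3 mV (C8 ++ CL2) (C8 ++ CL2) 60) (C8 ++ CL2) C8.length (RuVB.cert.W wi)
      (RuVB.cert.δ wi) (RuVB.origs.getD wi 0) = true := by decide +kernel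

/-- the check of a loop word of the last certificate. -/
def wokC (wi : ℕ) : Bool :=
  wordOK2 (coverRels 4 mV ((EX ++ XX) ++ CLS) ((EX ++ XX) ++ CLS) 60) ((EX ++ XX) ++ CLS) EX.length
    (RuVC.cert.W wi) (RuVC.cert.δ wi) (RuVC.origs.getD wi 0)

set_option maxRecDepth 1000000 in
theorem wokC_0 : ∀ i, i < 80 → wokC (0 + i) = true := by decide +kernel

set_option maxRecDepth 1000000 in
theorem wokC_1 : ∀ i, i < 80 → wokC (80 + i) = true := by decide +kernel

set_option maxRecDepth 1000000 in
theorem wokC_2 : ∀ i, i < 80 → wokC (160 + i) = true := by decide +kernel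

set_option maxRecDepth 1000000 in
theorem wokC_3 : ∀ i, i < 80 → wokC (240 + i) = true := by decide +kernel

set_option maxRecDepth 1000000 in
theorem wokC_4 : ∀ i, i < 80 → wokC (320 + i) = true := by decide +kernel

set_option maxRecDepth 1000000 in
theorem wokC_5 : ∀ i, i < 80 → wokC (400 + i) = true := by decide +kernel

set_option maxRecDepth 1000000 in
theorem wokC_6 : ∀ i, i < 80 → wokC (480 + i) = true := by decide +kernel

set_option maxRecDepth 1000000 in
theorem wokC_7 : ∀ i, i < 80 → wokC (560 + i) = true := by decide +kernel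

set_option maxRecDepth 1000000 in
theorem wokC_8 : ∀ i, i < 80 → wokC (640 + i) = true := by decide +kernel

set_option maxRecDepth 1000000 in
theorem wokC_9 : ∀ i, i < 11 → wokC (720 + i) = true := by decide +kernel

theorem wordOK_C : ∀ wi, wi < RuVC.cert.nrel →
    wordOK2 (coverRels 4 mV ((EX ++ XX) ++ CLS) ((EX ++ XX) ++ CLS) 60) ((EX ++ XX) ++ CLS)
      EX.length (RuVC.cert.W wi) (RuVC.cert.δ wi) (RuVC.origs.getD wi 0) = true := by
  intro wi h
  have h' : wi < 731 := h
  change wokC wi = true
  obtain ⟨k, i, hi, rfl⟩ : ∃ k i, i < 80 ∧ wi = 80 * k + i :=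
    ⟨wi / 80, wi % 80, Nat.mod_lt _ (by norm_num), (Nat.div_add_mod wi 80).symm⟩
  have hk : k < 10 := by omega
  interval_cases k
  · exact wokC_0 i (by omega)
  · exact wokC_1 i (by omega)
  · exact wokC_2 i (by omega)
  · exact wokC_3 i (by omega)
  · exact wokC_4 i (by omega)
  · exact wokC_5 i (by omega)
  · exact wokC_6 i (by omega)
  · exact wokC_7 i (by omega)
  · exact wokC_8 i (by omega)
  · exact wokC_9 i (by omega)

end Cfsg.Agent.Helper4.RuV
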