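import Mathlib
import Cfsg.Agent.Helper4.RuVDef
import Cfsg.Agent.Helper4.RuVGen
import Cfsg.Agent.Helper2.RuM.Main
import Cfsg.Agent.Helper4.RuVRelA
import Cfsg.Agent.Helper4.RuVRelB
import Cfsg.Agent.Helper4.RuVRelC
import Cfsg.Agent.Helper4.TowerX
import Cfsg.Agent.Helper4.RuVWok
import Cfsg.Agent.Helper4.RuVASum
import Cfsg.Agent.Helper4.RuVBSum
import Cfsg.Agent.Helper4.RuVCSum

/-!
# The covering group of exponent 60 of the Rudvalis group has at most twice its order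

Three labelled Todd–Coxeter certificates of exponent 60: the subgroup `⟨a, b⟩` over `⟨a⟩` (432
cosets), the Tits group over `⟨a, b⟩` (3200 cosets), the Rudvalis group over the Tits group (8120
cosets, label group of order 2).  The last step has three central words `t s' t⁻¹ s⁻¹` with `s`,
`s'` of order 13 in the Tits group, whose values are 1 since 13 is prime to 60.
-/

set_option autoImplicit false

namespace Cfsg.Agent.Helper4.RuV

open Cfsg Cfsg.Agent.Helper5.StemP Cfsg.Agent.Helper5.LP Cfsg.Agent.Helper4.LTW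
  Cfsg.Agent.Helper2.RuM Cfsg.Agent.Helper2.Tw

theorem card1 : Finite (CovG 1 mV CL1 CL1 60) ∧ Nat.card (CovG 1 mV CL1 CL1 60) ≤ 13 :=
  Cfsg.Agent.Helper4.Tower.base mV 60 (by decide)

theorem CL1_lt : ∀ r ∈ CL1, ∀ c ∈ r, c < 2 * 1 := by decide

theorem CU_lt : ∀ r ∈ CU, ∀ c ∈ r, c < 2 * 2 := by decide

theorem words_lt_A : ∀ wi, ∀ c ∈ RuVA.cert.W wi, c < 2 * 2 := by
  intro wi c hc
  have h : ∀ w ∈ RuVA.words, ∀ c ∈ w, c < 4 := by decide +kernel
  change c ∈ RuVA.words.getD wi [] at hc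
  by_cases hwi : wi < RuVA.words.length
  · rw [List.getD_eq_getElem _ _ hwi] at hc
    exact h _ (List.getElem_mem hwi) c hc
  · rw [List.getD_eq_default _ _ (by omega)] at hc
    simp at hc

theorem hsubW_A : ∀ wi, RuVA.cert.nrel ≤ wi → wi < RuVA.cert.nw →
    ∃ c, c < 2 * 1 ∧ RuVA.cert.W wi = [c] := by
  intro wi h1 h2
  have h1' : 20 ≤ wi := h1
  have h2' : wi < 21 := h2
  interval_cases wi
  · exact ⟨0, by norm_num, by decide +kernel⟩

theorem card2 : Finite (CovG 2 mV CL2 CL2 60) ∧ Nat.card (CovG 2 mV CL2 CL2 60) ≤ 5616 := by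
  have h := TowerW.step 1 2 mV CL1 CU 60 (by norm_num) CL1_lt CU_lt (by norm_num) (by decide)
    13 card1 RuVA.cert rfl rfl rfl words_lt_A
    (fun wi => RuVA.origs.getD wi 0) wordOK_A hsubW_A RuVA.hchk RuVA.tab (by decide +kernel)
    (by decide) RuVA.hT RuVA.js RuVA.hjs 0 1 (by norm_num) (by norm_num) RuVA.cs0 RuVA.h0
    (fun i => RuVA.as_.getD i 0) (fun i => RuVA.css.getD i []) RuVA.hgs
  have hN : RuVA.tab.N = 432 := rfl
  rw [hN] at h
  exact ⟨h.1, h.2.trans (by decide)⟩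

theorem CL2_lt : ∀ r ∈ CL2, ∀ c ∈ r, c < 2 * 2 := by decide

theorem C8_lt : ∀ r ∈ C8, ∀ c ∈ r, c < 2 * 3 := by decide

theorem words_lt_B : ∀ wi, ∀ c ∈ RuVB.cert.W wi, c < 2 * 3 := by
  intro wi c hc
  have h : ∀ w ∈ RuVB.words, ∀ c ∈ w, c < 6 := by decide +kernel
  change c ∈ RuVB.words.getD wi [] at hc
  by_cases hwi : wi < RuVB.words.length
  · rw [List.getD_eq_getElem _ _ hwi] at hc
    exact h _ (List.getElem_mem hwi) c hc
  · rw [List.getD_eq_default _ _ (by omega)] at hc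
    simp at hc

theorem hsubW_B : ∀ wi, RuVB.cert.nrel ≤ wi → wi < RuVB.cert.nw →
    ∃ c, c < 2 * 2 ∧ RuVB.cert.W wi = [c] := by
  intro wi h1 h2
  have h1' : 126 ≤ wi := h1
  have h2' : wi < 128 := h2
  interval_cases wi
  · exact ⟨0, by norm_num, by decide +kernel⟩
  · exact ⟨2, by norm_num, by decide +kernel⟩

theorem card3 : Finite (CovG 3 mV CL3 CL3 60) ∧ Nat.card (CovG 3 mV CL3 CL3 60) ≤ 17971200 := by
  have h := TowerW.step 2 3 mV CL2 C8 60 (by norm_num) CL2_lt C8_lt (by norm_num) (by decide)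
    5616 card2 RuVB.cert rfl rfl rfl words_lt_B
    (fun wi => RuVB.origs.getD wi 0) wordOK_B hsubW_B RuVB.hchk RuVB.tab (by decide +kernel)
    (by decide) RuVB.hT RuVB.js RuVB.hjs 0 1 (by norm_num) (by norm_num) RuVB.cs0 RuVB.h0
    (fun i => RuVB.as_.getD i 0) (fun i => RuVB.css.getD i []) RuVB.hgs
  have hN : RuVB.tab.N = 3200 := rfl
  rw [hN] at h
  exact ⟨h.1, h.2.trans (by decide)⟩

/-! ### the redundant words -/

theorem CLS_lt : ∀ r ∈ CLS, ∀ c ∈ r, c < 2 * 3 := by decide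

theorem card3S : Finite (CovG 3 mV CLS CLS 60) ∧ Nat.card (CovG 3 mV CLS CLS 60) ≤ 17971200 :=
  TowerX.covG_mono 3 mV CL3 CLS 60 (fun _ hr => List.mem_append_left _ hr) CLS_lt 17971200 card3

/-! ### the stage of the Tits group in the permutation group on 4060 points -/

theorem CLS_rel : ∀ r ∈ CLS, (r.map (lval gV)).prod = 1 := by
  intro r hr
  unfold CLS CL3 CL2 CL1 at hr
  rw [List.append_nil] at hr
  rcases List.mem_append.mp hr with h | h
  · rcases List.mem_append.mp h with h | h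
    · exact (relsChkV_true relC8_ok r h).2
    · exact (relsChkV_true relCU_ok r h).2
  · exact (relsChkV_true relSR_ok r h).2

/-- the stage of the Tits group. -/
theorem stageV3 : Stage gV mV 3 CLS where
  lt := CLS_lt
  rel := CLS_rel
  pow := fun i hi => gV_pow i (by omega)

theorem gV_eq_g : ∀ c, c < 6 → lval gV c = lval g c := by
  intro c hc
  interval_cases c <;> simp [lval, gV]

theorem prod_gV_eq_g : ∀ l : List ℕ, (∀ c ∈ l, c < 6) →
    (l.map (lval gV)).prod = (l.map (lval g)).prod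
  | [], _ => rfl
  | c :: l, h => by
    rw [List.map_cons, List.prod_cons, List.map_cons, List.prod_cons,
      gV_eq_g c (h c List.mem_cons_self),
      prod_gV_eq_g l (fun c hc => h c (List.mem_cons_of_mem _ hc))]

theorem RT_le_range : RT ≤ (stageV3.pi 60).range := by
  intro σ hσ
  obtain ⟨l, hl, rfl⟩ := RT_word σ hσ
  refine ⟨ev (2 * 3) (coverRels 3 mV CLS CLS 60) l, ?_⟩
  rw [stageV3.pi_ev 60 l hl, prod_gV_eq_g l hl, word_perm l (fun c hc => by have := hl c hc; omega)]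

theorem boundV3 : stageV3.Bound 60 17971200 := by
  refine ⟨card3S.1, card3S.2, ?_⟩
  have h := Subgroup.card_le_of_le RT_le_range
  rw [simple_RT.2] at h
  exact h

/-- a word in `a, b, c` which is trivial in the Tits group is trivial in its covering group. -/
theorem ev3_eq_one (r : List ℕ) (hr : ∀ c ∈ r, c < 2 * 3) (h : (r.map (lval gV)).prod = 1) :
    ev (2 * 3) (coverRels 3 mV CLS CLS 60) r = 1 :=
  stageV3.ev_eq_one boundV3 r hr h

/-! ### the last step -/

theorem EXX_lt : ∀ r ∈ EX ++ XX, ∀ c ∈ r, c < 2 * 4 := by decide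

theorem CCV_lt : ∀ r ∈ (EX ++ XX) ++ CLS, ∀ c ∈ r, c < 2 * 4 := by decide

/-- the value of a word in the covering group of the last step. -/
noncomputable abbrev ev4 (l : List ℕ) : CovG 4 mV ((EX ++ XX) ++ CLS) ((EX ++ XX) ++ CLS) 60 :=
  ev (2 * 4) (coverRels 4 mV ((EX ++ XX) ++ CLS) ((EX ++ XX) ++ CLS) 60) l

theorem ev4_eq_one (r : List ℕ) (hr : ∀ c ∈ r, c < 2 * 3) (h : (r.map (lval gV)).prod = 1) :
    ev4 r = 1 := by
  have h1 := Tower.phiT_ev 3 4 mV CLS (EX ++ XX) 60 (by norm_num) CLS_lt r hr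
  rw [ev3_eq_one r hr h, map_one] at h1
  exact h1.symm

set_option maxRecDepth 1000000 in
theorem XP_lt : ∀ r ∈ XP, ∀ c ∈ r, c < 2 * 3 := by decide +kernel

theorem ev4_pow13 (s : List ℕ) (hs : s ∈ XS ++ XB) : ev4 s ^ 13 = 1 := by
  have hmem : (List.replicate 13 s).flatten ∈ XP := List.mem_map_of_mem hs
  rw [ev4, ev_pow]
  exact ev4_eq_one _ (XP_lt _ hmem) (relsChkV_true relXP_ok _ hmem).2

theorem ev4_conj_pow13 (s : List ℕ) (hs : s ∈ XS ++ XB) : ev4 ([6] ++ s ++ [7]) ^ 13 = 1 := by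
  have h7 : ev4 [7] = (ev4 [6])⁻¹ := ev_odd 4 mV _ _ 60 (i := 3) (by norm_num)
  rw [ev4, ev_append, ev_append]
  change (ev4 [6] * ev4 s * ev4 [7]) ^ 13 = 1
  rw [h7, conj_pow, ev4_pow13 s hs, mul_one, mul_inv_cancel]

theorem XX_eq : XX = [([6] ++ XS.getD 0 [] ++ [7]) ++ winv (XB.getD 0 []),
    ([6] ++ XS.getD 1 [] ++ [7]) ++ winv (XB.getD 1 []),
    ([6] ++ XS.getD 2 [] ++ [7]) ++ winv (XB.getD 2 [])] := by decide

theorem XX_one : ∀ r ∈ XX, ev4 r = 1 := by
  intro r hr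
  rw [XX_eq] at hr
  have key : ∀ i, i < 3 →
      ev4 (([6] ++ XS.getD i [] ++ [7]) ++ winv (XB.getD i [])) = 1 := by
    intro i hi
    have hS : XS.getD i [] ∈ XS ++ XB := by interval_cases i <;> decide
    have hB : XB.getD i [] ∈ XS ++ XB := by interval_cases i <;> decide
    have hXB : ∀ c ∈ XB.getD i [], c < 2 * 4 := by interval_cases i <;> decide
    have hXA : ∀ c ∈ [6] ++ XS.getD i [] ++ [7], c < 2 * 4 := by interval_cases i <;> decide
    have hmem : ([6] ++ XS.getD i [] ++ [7]) ++ winv (XB.getD i []) ∈ (EX ++ XX) ++ CLS := by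
      interval_cases i <;> decide
    exact TowerX.ev_eq_one_of_pow 4 mV ((EX ++ XX) ++ CLS) 60 _ _ hXA hXB hmem 13 (by decide)
      (ev4_conj_pow13 _ hS) (ev4_pow13 _ hB)
  simp only [List.mem_cons, List.not_mem_nil, or_false] at hr
  rcases hr with rfl | rfl | rfl
  · exact key 0 (by norm_num)
  · exact key 1 (by norm_num)
  · exact key 2 (by norm_num)

theorem words_lt_C : ∀ wi, ∀ c ∈ RuVC.cert.W wi, c < 2 * 4 := by
  intro wi c hc
  have h : ∀ w ∈ RuVC.words, ∀ c ∈ w, c < 8 := by decide +kernel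
  change c ∈ RuVC.words.getD wi [] at hc
  by_cases hwi : wi < RuVC.words.length
  · rw [List.getD_eq_getElem _ _ hwi] at hc
    exact h _ (List.getElem_mem hwi) c hc
  · rw [List.getD_eq_default _ _ (by omega)] at hc
    simp at hc

theorem hsubW_C : ∀ wi, RuVC.cert.nrel ≤ wi → wi < RuVC.cert.nw →
    ∃ c, c < 2 * 3 ∧ RuVC.cert.W wi = [c] := by
  intro wi h1 h2
  have h1' : 731 ≤ wi := h1
  have h2' : wi < 734 := h2
  interval_cases wi
  · exact ⟨0, by norm_num, by decide +kernel⟩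
  · exact ⟨2, by norm_num, by decide +kernel⟩
  · exact ⟨4, by norm_num, by decide +kernel⟩

/-- **the covering group of exponent 60 has at most twice the order of the Rudvalis group.** -/
theorem card4 : Finite (CovG 4 mV CCV CCV 60) ∧
    Nat.card (CovG 4 mV CCV CCV 60) ≤ 2 * 145926144000 := by
  have h := TowerX.step_range_x 3 4 mV CLS EX XX 60 (by norm_num) CLS_lt EXX_lt (by norm_num)
    (by decide) XX_one card3S.1 RuVC.cert rfl rfl rfl words_lt_C
    (fun wi => RuVC.origs.getD wi 0) wordOK_C hsubW_C RuVC.hchk RuVC.tab (by decide +kernel)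
    (by decide) RuVC.hT RuVC.js RuVC.hjs 3 2 (by norm_num) (by norm_num) RuVC.cs0 RuVC.h0
    (fun i => RuVC.as_.getD i 0) (fun i => RuVC.css.getD i []) RuVC.hgs
  have hN : RuVC.tab.N = 8120 := rfl
  rw [hN] at h
  have : Finite (CovG 3 mV CLS CLS 60) := card3S.1
  have hK : Nat.card (Tower.phiT 3 4 mV CLS (EX ++ XX) 60 (by norm_num) CLS_lt).range ≤ 17971200 :=
    (Nat.card_le_card_of_surjective _ (MonoidHom.rangeRestrict_surjective _)).trans card3S.2
  refine ⟨h.1, h.2.trans ?_⟩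
  calc Nat.card (Tower.phiT 3 4 mV CLS (EX ++ XX) 60 (by norm_num) CLS_lt).range * 8120 * 2
      ≤ 17971200 * 8120 * 2 := Nat.mul_le_mul_right _ (Nat.mul_le_mul_right _ hK)
    _ = 2 * 145926144000 := by norm_num

end Cfsg.Agent.Helper4.RuV
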