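import Mathlib
import Cfsg.Agent.Helper4.RuVTow
import Cfsg.Agent.Helper4.RuVMSum
import Cfsg.Agent.Helper4.ShiftModel
import Cfsg.Agent.Helper4.StemDvd
import Cfsg.Agent.Helper5.LPE
import Cfsg.Agent.Helper5.StemPL
import Cfsg.Agent.Helper5.StemPH
import Cfsg.Agent.Helper5.StemPM
import Cfsg.Agent.Helper5.StemPK
import Cfsg.Agent.Helper5.StemPI

/-!
# The Schur multiplier of the Rudvalis group is cyclic of order 2

For the group `HRu` of permutations of 4060 points of `Cfsg.Agent.Helper2.RuM`.  The covering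
group of exponent 60 on the generators `a, b, c, t` (orders 13, 13, 13, 29) has order at most
`2 * |Ru|` and acts on 16240 points with a central word as a shift of order 2; the primes 7, 13, 29
divide the order only once.
-/

set_option autoImplicit false

noncomputable section

namespace Cfsg.Agent.Helper4.RuV

open Cfsg Cfsg.Agent.Helper5.StemP Cfsg.Agent.Helper5.LP Cfsg.Agent.Helper5.TC
  Cfsg.Agent.Helper5.TCI Cfsg.Agent.Helper4.ShM Cfsg.Agent.Helper2.RuM Cfsg.Agent.Helper2.Tw

/-! ### the generators in the subgroup -/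

theorem g_mem : ∀ i, i < 5 → g i ∈ HRu := by
  intro i hi
  refine ⟨evR [2 * i], ?_⟩
  rw [stageR.pi_ev 1 [2 * i] (by
    intro c hc
    rw [List.mem_singleton] at hc
    omega)]
  simp [lval_even]

theorem gV_mem (i : ℕ) : gV i ∈ HRu := by
  unfold gV
  split_ifs with h
  · exact g_mem i (by omega)
  · exact HRu.pow_mem (g_mem 4 (by norm_num)) 2

/-- the generators `a, b, c, t` in the subgroup. -/
def gH (i : ℕ) : HRu := ⟨gV i, gV_mem i⟩

theorem lval_gH (c : ℕ) : ((lval gH c : HRu) : PP) = lval gV c := by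
  unfold lval
  split_ifs <;> rfl

theorem prod_gH (l : List ℕ) : (((l.map (lval gH)).prod : HRu) : PP) = (l.map (lval gV)).prod := by
  induction l with
  | nil => rfl
  | cons c l ih => rw [List.map_cons, List.prod_cons, Subgroup.coe_mul, lval_gH, ih, List.map_cons,
      List.prod_cons]

theorem gH_pow : ∀ i, i < 4 → gH i ^ mV i = 1 := by
  intro i hi
  apply Subtype.ext
  rw [Subgroup.coe_pow, Subgroup.coe_one]
  exact gV_pow i hi

theorem CCV_rel : ∀ r ∈ CCV, (r.map (lval gV)).prod = 1 := by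
  intro r hr
  unfold CCV at hr
  rcases List.mem_append.mp hr with h | h
  · rcases List.mem_append.mp h with h | h
    · exact (relsChkV_true relEX_ok r h).2
    · exact (relsChkV_true relXX_ok r h).2
  · exact CLS_rel r h

theorem CCV2_lt : ∀ r ∈ CCV ++ CCV, ∀ c ∈ r, c < 2 * 4 := by
  intro r hr
  rcases List.mem_append.mp hr with h | h <;> exact CCV_lt r h

theorem CCV2_rel : ∀ r ∈ CCV ++ CCV, (r.map (lval gH)).prod = 1 := by
  intro r hr
  apply Subtype.ext
  rw [prod_gH, Subgroup.coe_one]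
  rcases List.mem_append.mp hr with h | h <;> exact CCV_rel r h

/-! ### the generators generate -/

theorem g4_eq : g 4 = gV 3 ^ 15 := by
  have h := permW_eq_one relY_ok
  rw [← word_perm _ (by decide)] at h
  have e1 : ([9] ++ trW (List.replicate 15 6)).map (lval g) =
      [(g 4)⁻¹] ++ (trW (List.replicate 15 6)).map (lval g) := by
    rw [List.map_append]
    simp [lval]
  rw [e1, List.prod_append, ← prod_gV (List.replicate 15 6) (by decide), List.map_replicate,
    List.prod_replicate] at h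
  have e2 : lval gV 6 = gV 3 := by simp [lval]
  rw [e2] at h
  simp only [List.prod_cons, List.prod_nil, mul_one] at h
  exact (inv_mul_eq_one.mp h)

theorem g3_eq : g 3 = (uW.map (lval gV)).prod := by
  have h := permW_eq_one relU_ok
  rw [← word_perm _ (by decide)] at h
  have e1 : ([7] ++ trW uW).map (lval g) = [(g 3)⁻¹] ++ (trW uW).map (lval g) := by
    rw [List.map_append]
    simp [lval]
  rw [e1, List.prod_append, ← prod_gV uW (by decide)] at h
  simp only [List.prod_cons, List.prod_nil, mul_one] at h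
  exact (inv_mul_eq_one.mp h)

theorem uW_lt : ∀ c ∈ uW, c < 8 := by decide

theorem HRu_le_closure : HRu ≤ Subgroup.closure {y : PP | ∃ i, i < 4 ∧ y = gV i} := by
  have hgV : ∀ i, i < 4 → gV i ∈ Subgroup.closure {y : PP | ∃ i, i < 4 ∧ y = gV i} :=
    fun i hi => Subgroup.subset_closure ⟨i, hi, rfl⟩
  have hl : ∀ c, c < 8 → lval gV c ∈ Subgroup.closure {y : PP | ∃ i, i < 4 ∧ y = gV i} := by
    intro c hc
    unfold lval
    split_ifs
    · exact hgV _ (by omega)
    · exact inv_mem (hgV _ (by omega))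
  have hg : ∀ i, i < 5 → g i ∈ Subgroup.closure {y : PP | ∃ i, i < 4 ∧ y = gV i} := by
    intro i hi
    interval_cases i
    · exact hgV 0 (by norm_num)
    · exact hgV 1 (by norm_num)
    · exact hgV 2 (by norm_num)
    · rw [g3_eq]
      apply Subgroup.list_prod_mem
      intro x hx
      obtain ⟨c, hc, rfl⟩ := List.mem_map.mp hx
      exact hl c (uW_lt c hc)
    · rw [g4_eq]
      exact Subgroup.pow_mem _ (hgV 3 (by norm_num)) 15
  intro σ hσ
  obtain ⟨x, rfl⟩ := hσ
  have hx : x ∈ Subgroup.closure {x : GR | ∃ i, i < 5 ∧ x = cgen 5 mm relsR relsR 1 i} := by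
    rw [closure_cgen]
    exact Subgroup.mem_top x
  induction hx using Subgroup.closure_induction with
  | mem y hy =>
    obtain ⟨i, hi, rfl⟩ := hy
    unfold cgen
    rw [stageR.pi_ev 1 [2 * i] (by
      intro c hc
      rw [List.mem_singleton] at hc
      omega)]
    simpa [lval_even] using hg i hi
  | one => rw [map_one]; exact Subgroup.one_mem _
  | mul y z _ _ hy hz => rw [map_mul]; exact Subgroup.mul_mem _ hy hz
  | inv y _ hy => rw [map_inv]; exact Subgroup.inv_mem _ hy

theorem gH_closure : Subgroup.closure {y : HRu | ∃ i, i < 4 ∧ y = gH i} = ⊤ := by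
  rw [eq_top_iff]
  intro x _
  have hx : (x : PP) ∈ Subgroup.closure {y : PP | ∃ i, i < 4 ∧ y = gV i} := HRu_le_closure x.2
  have key : ∀ y : PP, y ∈ Subgroup.closure {y : PP | ∃ i, i < 4 ∧ y = gV i} →
      ∃ hy : y ∈ HRu, (⟨y, hy⟩ : HRu) ∈ Subgroup.closure {y : HRu | ∃ i, i < 4 ∧ y = gH i} := by
    intro y hy
    induction hy using Subgroup.closure_induction with
    | mem y hy =>
      obtain ⟨i, hi, rfl⟩ := hy
      exact ⟨gV_mem i, Subgroup.subset_closure ⟨i, hi, rfl⟩⟩
    | one => exact ⟨HRu.one_mem, Subgroup.one_mem _⟩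
    | mul y z _ _ hy hz =>
      obtain ⟨h1, h2⟩ := hy
      obtain ⟨h3, h4⟩ := hz
      exact ⟨HRu.mul_mem h1 h3, Subgroup.mul_mem _ h2 h4⟩
    | inv y _ hy =>
      obtain ⟨h1, h2⟩ := hy
      exact ⟨HRu.inv_mem h1, Subgroup.inv_mem _ h2⟩
  obtain ⟨_, h2⟩ := key x hx
  exact h2

/-! ### the covering group -/

/-- the covering group of exponent 60. -/
abbrev FV : Type := CovG 4 mV CCV CCV 60

instance finFV : Finite FV := card4.1

/-- the covering homomorphism. -/
def piV : FV →* HRu := coverHomU 4 mV CCV CCV 60 CCV2_lt gH gH_pow CCV2_rel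

theorem piV_surj : Function.Surjective piV :=
  coverHomU_surjective 4 mV CCV CCV 60 CCV2_lt gH gH_pow CCV2_rel gH_closure

theorem card_kerV_le : Nat.card piV.ker ≤ 2 := by
  have hmul := card_eq_card_mul_ker piV piV_surj
  have h := card4.2
  rw [hmul, card_HRu, mul_comm] at h
  exact Nat.le_of_mul_le_mul_right h (by norm_num)

theorem card_FV_dvd : Nat.card FV ∣ Nat.card HRu * 2 := by
  rw [card_eq_card_mul_ker piV piV_surj]
  apply Nat.mul_dvd_mul_left
  have h := card_kerV_le
  have hpos : 0 < Nat.card piV.ker := Nat.card_pos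
  interval_cases Nat.card piV.ker <;> decide

/-! ### the model on 16240 points -/

theorem cwV_eq : RuVM.cw = CCV := by decide +kernel

theorem modelV : ∃ ρ : FV →* Equiv.Perm (Fin 16240),
    ActsOn ρ (ev (2 * 4) (coverRels 4 mV CCV CCV 60)) (2 * 4) RuVM.mT := by
  refine exists_model 4 mV CCV 60 16240 RuVM.mT RuVM.tableOK CCV_lt RuVM.hcomm ?_ ?_ 2
    RuVM.hsh (by norm_num)
  · intro r hr
    exact RuVM.hcent r (by rw [cwV_eq]; exact hr)
  · intro i hi
    have h := RuVM.hpow i hi
    interval_cases i <;> exact h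

/-- the central word of order 2. -/
def zwV : List ℕ := EX.getD 3 []

theorem zwV_mem : zwV ∈ CCV := by decide

set_option maxRecDepth 1000000 in
theorem moveV : actL RuVM.mT zwV 0 ≠ 0 := by decide +kernel

theorem zV_ne : ev (2 * 4) (coverRels 4 mV CCV CCV 60) zwV ≠ 1 := by
  obtain ⟨ρ, hA⟩ := modelV
  exact ne_one_of_move hA zwV (CCV_lt zwV zwV_mem) 0 (by norm_num) moveV

/-! ### the bound for all stem extensions -/

theorem card_HRu_eq2 : Nat.card HRu = 2 ^ 14 * 8906625 := by rw [card_HRu]; norm_num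
theorem card_HRu_eq3 : Nat.card HRu = 3 ^ 3 * 5404672000 := by rw [card_HRu]; norm_num
theorem card_HRu_eq5 : Nat.card HRu = 5 ^ 3 * 1167409152 := by rw [card_HRu]; norm_num

theorem mV_cop (q : ℕ) (hq : Nat.Coprime 13 q ∧ Nat.Coprime 29 q) :
    ∀ i, i < 4 → gH i ^ mV i = 1 ∧ (mV i).Coprime q := by
  intro i hi
  refine ⟨gH_pow i hi, ?_⟩
  interval_cases i
  · exact hq.1
  · exact hq.1
  · exact hq.1
  · exact hq.2

/-- **the kernel of a finite stem extension of the Rudvalis group has order dividing 2.** -/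
theorem card_ker_dvd (Γ : Type) [Group Γ] [Finite Γ] (σ : Γ →* HRu)
    (hσ : Cfsg.IsStemExtension σ) : Nat.card σ.ker ∣ 2 := by
  have hc := hσ.2.1
  have : Finite (LPG (2 * 4) (coverRels 4 mV CCV CCV 60)) := card4.1
  have hcard : Nat.card (LPG (2 * 4) (coverRels 4 mV CCV CCV 60)) ∣ Nat.card HRu * 2 :=
    card_FV_dvd
  have h2 : Nat.card (qmap σ hc 8906625).ker ∣ 2 :=
    card_qmap_ker_dvd_of_pow_dvd σ hσ hc 2 Nat.prime_two 14 2 8906625 60 (by norm_num)
      card_HRu_eq2 4 mV CCV CCV CCV2_lt gH gH_closure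
      (mV_cop (2 ^ 14) ⟨by norm_num, by norm_num⟩) CCV2_rel 2 hcard (by decide)
  have h3 : Nat.card (qmap σ hc 5404672000).ker ∣ 2 :=
    card_qmap_ker_dvd_of_pow_dvd σ hσ hc 3 Nat.prime_three 3 1 5404672000 60 (by norm_num)
      card_HRu_eq3 4 mV CCV CCV CCV2_lt gH gH_closure
      (mV_cop (3 ^ 3) ⟨by norm_num, by norm_num⟩) CCV2_rel 2 hcard (by decide)
  have h5 : Nat.card (qmap σ hc 1167409152).ker ∣ 2 :=
    card_qmap_ker_dvd_of_pow_dvd σ hσ hc 5 Nat.prime_five 3 1 1167409152 60 (by norm_num)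
      card_HRu_eq5 4 mV CCV CCV CCV2_lt gH gH_closure
      (mV_cop (5 ^ 3) ⟨by norm_num, by norm_num⟩) CCV2_rel 2 hcard (by decide)
  have h3' : Nat.card (qmap σ hc 5404672000).ker = 1 := by
    have hn2 : ¬ 2 ∣ Nat.card (qmap σ hc 5404672000).ker := by
      apply StemDvd.not_dvd_card_of_pow 3 2 3 Nat.prime_three Nat.prime_two (by decide)
      intro y
      have := qmap_ker_pow σ hσ hc (s := 3 ^ 3) (t := 5404672000) card_HRu_eq3 y.1 y.2
      exact Subtype.ext this
    have hle : Nat.card (qmap σ hc 5404672000).ker ≤ 2 := Nat.le_of_dvd (by norm_num) h3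
    have hpos : 0 < Nat.card (qmap σ hc 5404672000).ker := Nat.card_pos
    interval_cases hcd : Nat.card (qmap σ hc 5404672000).ker
    · rfl
    · exact absurd (dvd_refl 2) hn2
  have h5' : Nat.card (qmap σ hc 1167409152).ker = 1 := by
    have hn2 : ¬ 2 ∣ Nat.card (qmap σ hc 1167409152).ker := by
      apply StemDvd.not_dvd_card_of_pow 5 2 3 Nat.prime_five Nat.prime_two (by decide)
      intro y
      have := qmap_ker_pow σ hσ hc (s := 5 ^ 3) (t := 1167409152) card_HRu_eq5 y.1 y.2
      exact Subtype.ext this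
    have hle : Nat.card (qmap σ hc 1167409152).ker ≤ 2 := Nat.le_of_dvd (by norm_num) h5
    have hpos : 0 < Nat.card (qmap σ hc 1167409152).ker := Nat.card_pos
    interval_cases hcd : Nat.card (qmap σ hc 1167409152).ker
    · rfl
    · exact absurd (dvd_refl 2) hn2
  have h7 : ∀ z ∈ σ.ker, z ^ Nat.gcd (Nat.gcd 8906625 5404672000) 1167409152 = 1 → z = 1 := by
    intro z hz hz1
    have e2639 : Nat.gcd (Nat.gcd 8906625 5404672000) 1167409152 = 7 * (13 * 29) := by decide
    rw [e2639] at hz1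
    refine eq_one_of_pow_eq_one σ hσ (7 * (13 * 29)) ?_ z hz hz1
    intro q hq hqd
    rw [card_HRu]
    rcases (Nat.Prime.dvd_mul hq).mp hqd with h | h
    · rw [(Nat.prime_dvd_prime_iff_eq hq (by norm_num)).mp h]
      decide
    · rcases (Nat.Prime.dvd_mul hq).mp h with h | h
      · rw [(Nat.prime_dvd_prime_iff_eq hq (by norm_num)).mp h]
        decide
      · rw [(Nat.prime_dvd_prime_iff_eq hq (by norm_num)).mp h]
        decide
  have h8 := StemDvd.card_ker_dvd_mul3 σ hc 8906625 5404672000 1167409152 h7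
  rw [h3', h5', mul_one, mul_one] at h8
  exact h8.trans h2

/-- **The Schur multiplier of the Rudvalis group is cyclic of order 2.** -/
theorem main : Cfsg.HasCyclicSchurMultiplier HRu 2 := by
  refine hasCyclic_of_coverRels 2 Nat.prime_two.squarefree card_ker_dvd 4 mV CCV CCV 60 CCV2_lt gH
    gH_closure gH_pow CCV2_rel card_FV_dvd [zwV] ?_ ?_ 377 ?_ (by decide)
  · intro w hw
    rw [List.mem_singleton] at hw
    rw [hw]
    exact zwV_mem
  · intro p hp hpd
    have hp2 : p = 2 := (Nat.prime_dvd_prime_iff_eq hp Nat.prime_two).mp hpd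
    rw [hp2, Nat.div_self (by norm_num), pow_one]
    simp only [List.flatten_cons, List.flatten_nil, List.append_nil]
    exact zV_ne
  · intro i hi
    interval_cases i <;> decide

end Cfsg.Agent.Helper4.RuV

end
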