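import Cfsg.Agent.Helper4.RuVMDat

/-! generated permutation model, checks: RuVM -/

set_option autoImplicit false
set_option Elab.async false
set_option maxRecDepth 1000000

namespace Cfsg.Agent.Helper4.RuVM
open Cfsg.Agent.Helper5.TC Cfsg.Agent.Helper5.TCI Cfsg.Agent.Helper5.LP

theorem fixc_70_0 : fixPtsF W_70 16240 0 = true := by decide +kernel

theorem fixc_15_0 : fixPtsF W_15 16240 0 = true := by decide +kernel

theorem fixc_20_0 : fixPtsF W_20 16240 0 = true := by decide +kernel

theorem fixc_67_0 : fixPtsF W_67 16240 0 = true := by decide +kernel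

theorem fixc_37_0 : fixPtsF W_37 16240 0 = true := by decide +kernel

theorem fixc_43_0 : fixPtsF W_43 16240 0 = true := by decide +kernel

theorem fixc_49_0 : fixPtsF W_49 16240 0 = true := by decide +kernel

theorem fixc_55_0 : fixPtsF W_55 16240 0 = true := by decide +kernel

theorem fixc_61_0 : fixPtsF W_61 16240 0 = true := by decide +kernel

theorem fixc_32_0 : fixPtsF W_32 16240 0 = true := by decide +kernel

theorem fixc_0_0 : fixPtsF W_0 16240 0 = true := by decide +kernel

theorem fixc_3_0 : fixPtsF W_3 16240 0 = true := by decide +kernel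

theorem invc_4_0 : invRowFI mT 16240 4 5 16240 0 = true := by decide +kernel

theorem fixc_71_0 : fixPtsF W_71 16240 0 = true := by decide +kernel

end Cfsg.Agent.Helper4.RuVM
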