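import Mathlib

/-!
# S4017 support (helper4): the induction frame

The hypotheses of S4017 pass to subgroups; hence in a counterexample of least order every proper
subgroup of order divisible by `q` is a `{p, q}`-group.
-/

namespace Cfsg.Agent.Helper4.S4017

/-- the hypothesis package of S4017 for a group `G`. -/
def Hyp (p q : ℕ) (G : Type*) [Group G] : Prop :=
  (∀ H : Subgroup G, H ≠ ⊤ → ¬ IsPGroup q H → q ∣ Nat.card H → p ∣ Nat.card H) ∧
    (q ^ (Nat.card G).factorization q - 1 < p ∨
      (p = q ^ (Nat.card G).factorization q - 1 ∧ ∀ P : Sylow p G, IsMulCommutative P))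

/-- the conclusion of S4017 for a group `G`. -/
def Concl (p q : ℕ) (G : Type*) [Group G] : Prop :=
  ∀ r : ℕ, r.Prime → r ∣ Nat.card G → r = p ∨ r = q

theorem isPGroup_map_subtype_iff {G : Type*} [Group G] (q : ℕ) (H : Subgroup G) (K : Subgroup H) :
    IsPGroup q (K.map H.subtype) ↔ IsPGroup q K := by
  constructor
  · intro h
    exact h.of_injective (K.equivMapOfInjective H.subtype H.subtype_injective).toMonoidHom
      (K.equivMapOfInjective H.subtype H.subtype_injective).injective
  · intro h
    exact h.map H.subtype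

theorem card_map_subtype {G : Type*} [Group G] (H : Subgroup G) (K : Subgroup H) :
    Nat.card (K.map H.subtype) = Nat.card K :=
  (Nat.card_congr (K.equivMapOfInjective H.subtype H.subtype_injective).toEquiv).symm

theorem map_subtype_ne_top {G : Type*} [Group G] (H : Subgroup G) (K : Subgroup H) (hK : K ≠ ⊤) :
    K.map H.subtype ≠ ⊤ := by
  intro h
  apply hK
  rw [eq_top_iff]
  intro x _
  have hx : (x : G) ∈ K.map H.subtype := by rw [h]; trivial
  obtain ⟨y, hy, hyx⟩ := hx
  have : y = x := Subtype.ext hyx
  rw [← this]; exact hy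

/-- the hypotheses of S4017 pass to subgroups. -/
theorem Hyp.subgroup {G : Type*} [Group G] [Finite G] {p q : ℕ} [Fact p.Prime] (hq : q.Prime)
    (h : Hyp p q G) (H : Subgroup G) : Hyp p q H := by
  obtain ⟨hmix, hlarge⟩ := h
  refine ⟨?_, ?_⟩
  · intro K hK hKq hqK
    have := hmix (K.map H.subtype) (map_subtype_ne_top H K hK)
      (fun h' => hKq ((isPGroup_map_subtype_iff q H K).mp h'))
      (by rw [card_map_subtype]; exact hqK)
    rwa [card_map_subtype] at this
  · have hdvd : Nat.card H ∣ Nat.card G := Subgroup.card_subgroup_dvd_card H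
    have hGpos : Nat.card G ≠ 0 := Nat.card_pos.ne'
    have hle : (Nat.card H).factorization q ≤ (Nat.card G).factorization q :=
      (Nat.factorization_le_iff_dvd Nat.card_pos.ne' hGpos).mpr hdvd q
    have hpow : q ^ (Nat.card H).factorization q ≤ q ^ (Nat.card G).factorization q :=
      Nat.pow_le_pow_right hq.pos hle
    rcases Nat.lt_or_ge ((Nat.card H).factorization q) ((Nat.card G).factorization q) with hlt | hge
    · left
      have h1 : q ^ (Nat.card H).factorization q < q ^ (Nat.card G).factorization q :=
        Nat.pow_lt_pow_right hq.one_lt hlt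
      have h2 : 1 ≤ q ^ (Nat.card H).factorization q := Nat.one_le_pow _ _ hq.pos
      rcases hlarge with h3 | ⟨h3, _⟩ <;> omega
    · have heq : (Nat.card H).factorization q = (Nat.card G).factorization q := le_antisymm hle hge
      rcases hlarge with h3 | ⟨h3, hab⟩
      · left; rw [heq]; exact h3
      · right
        refine ⟨by rw [heq]; exact h3, ?_⟩
        intro P
        have hP' : IsPGroup p ((P : Subgroup H).map H.subtype) := P.isPGroup'.map _
        obtain ⟨S, hS⟩ := hP'.exists_le_sylow
        have hcomm := hab S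
        refine ⟨⟨fun a b => ?_⟩⟩
        have ha : (a : H).1 ∈ (S : Subgroup G) := hS ⟨a.1, a.2, rfl⟩
        have hb : (b : H).1 ∈ (S : Subgroup G) := hS ⟨b.1, b.2, rfl⟩
        have h4 := hcomm.1.1 ⟨_, ha⟩ ⟨_, hb⟩
        have h5 : (a : H).1 * (b : H).1 = (b : H).1 * (a : H).1 := congrArg Subtype.val h4
        apply Subtype.ext
        apply Subtype.ext
        exact h5

/-- In a counterexample of least order, every proper subgroup of order divisible by `q` is a
`{p, q}`-group. `IH` is the induction hypothesis (S4017 for all groups of smaller order in the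
same universe). -/
theorem proper_pq {G : Type*} [Group G] [Finite G] {p q : ℕ} [Fact p.Prime] (hq : q.Prime)
    (hpq : p ≠ q) (hG : Hyp p q G)
    (IH : ∀ (H : Subgroup G), Nat.card H < Nat.card G → Hyp p q H → p ∣ Nat.card H →
      q ∣ Nat.card H → Concl p q H)
    (H : Subgroup G) (hH : H ≠ ⊤) (hqH : q ∣ Nat.card H) : Concl p q H := by
  have hlt : Nat.card H < Nat.card G := by
    rcases lt_or_eq_of_le (Subgroup.card_le_card_group H) with h | h
    · exact h
    · exact absurd (Subgroup.card_eq_iff_eq_top H |>.mp h) hH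
  by_cases hHq : IsPGroup q H
  · intro r hr hrH
    right
    haveI : Fact q.Prime := ⟨hq⟩
    obtain ⟨n, hn⟩ := IsPGroup.iff_card.mp hHq
    rw [hn] at hrH
    exact (Nat.prime_dvd_prime_iff_eq hr hq).mp (hr.dvd_of_dvd_pow hrH)
  · have hpH : p ∣ Nat.card H := hG.1 H hH hHq hqH
    exact IH H hlt (hG.subgroup hq H) hpH hqH

end Cfsg.Agent.Helper4.S4017
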