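import Mathlib
import Cfsg.Agent.Helper7.S4017Defs

set_option autoImplicit false

/-!
# S4017, piece (P1): the first bundle of derived facts `FactsA` for a minimal counterexample
-/

namespace Cfsg.Agent.Helper7.S4017

universe u

variable {G : Type u} [Group G] [Finite G] {p a : ℕ}

/-- two Sylow subgroups are conjugate, elementwise form. -/
theorem h4_sylow_conj {q : ℕ} [Fact q.Prime] (P P' : Sylow q G) :
    ∃ g : G, ∀ x : G, x ∈ P' ↔ g⁻¹ * x * g ∈ P := by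
  obtain ⟨g, hg⟩ := MulAction.exists_smul_eq G P P'
  refine ⟨g, fun x => ?_⟩
  rw [← hg]
  show x ∈ ((g • P : Sylow q G) : Subgroup G) ↔ _
  rw [Sylow.coe_subgroup_smul, Subgroup.mem_pointwise_smul_iff_inv_smul_mem]
  simp only [MulAut.smul_def, MulAut.conj_inv_apply]
  exact Iff.rfl

theorem h4_card_sylow2 (h : MinCE G p a) (Q : Sylow 2 G) : Nat.card Q = 2 ^ a := by
  haveI : Fact (Nat.Prime 2) := ⟨Nat.prime_two⟩
  rw [Sylow.card_eq_multiplicity Q, h.h2]

theorem h4_three_le (h : MinCE G p a) : 3 ≤ p := by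
  have h1 : 2 ^ 2 ≤ 2 ^ a := Nat.pow_le_pow_right (by norm_num) h.ha
  have := h.hpa
  omega

theorem h4_sylow2_ne_bot (h : MinCE G p a) (Q : Sylow 2 G) : (Q : Subgroup G) ≠ ⊥ := by
  intro hQ
  have h1 := h4_card_sylow2 h Q
  rw [hQ, Subgroup.card_bot] at h1
  have h2 : 2 ^ 2 ≤ 2 ^ a := Nat.pow_le_pow_right (by norm_num) h.ha
  omega

theorem h4_sylow2_ne_top (h : MinCE G p a) (Q : Sylow 2 G) : (Q : Subgroup G) ≠ ⊤ := by
  intro hQ
  have h1 := h4_card_sylow2 h Q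
  rw [hQ, Subgroup.card_top] at h1
  obtain ⟨r, hr, hr2, _, hrG⟩ := h.hr
  rw [h1] at hrG
  have := (Nat.prime_dvd_prime_iff_eq hr Nat.prime_two).mp (hr.dvd_of_dvd_pow hrG)
  exact hr2 this

theorem h4_sylow2_exp (h : MinCE G p a) (Q' : Sylow 2 G) : ∀ x ∈ Q', x * x = 1 := by
  haveI : Fact (Nat.Prime 2) := ⟨Nat.prime_two⟩
  obtain ⟨Q, y, _, _, hexp, _⟩ := h.hQ
  obtain ⟨g, hg⟩ := h4_sylow_conj Q Q'
  intro x hx
  have h1 := hexp _ ((hg x).mp hx)
  have h2 : g⁻¹ * (x * x) * g = 1 := by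
    rw [← h1]; group
  have h3 : x * x = g * (g⁻¹ * (x * x) * g) * g⁻¹ := by group
  rw [h3, h2]; group

theorem h4_two_exp (h : MinCE G p a) (T : Subgroup G) (hT : IsPGroup 2 T) :
    ∀ x ∈ T, x * x = 1 := by
  obtain ⟨Q', hQ'⟩ := hT.exists_le_sylow
  intro x hx
  exact h4_sylow2_exp h Q' x (hQ' hx)

theorem h4_inv_mem_sylow {t : G} (ht : IsInv t) : ∃ Q' : Sylow 2 G, t ∈ Q' := by
  have hord : orderOf t = 2 := by
    haveI : Fact (Nat.Prime 2) := ⟨Nat.prime_two⟩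
    apply orderOf_eq_prime
    · rw [pow_two]; exact ht.2
    · exact ht.1
  have hp : IsPGroup 2 (Subgroup.zpowers t) := by
    apply IsPGroup.of_card (n := 1)
    rw [Nat.card_zpowers, hord, pow_one]
  obtain ⟨Q', hQ'⟩ := hp.exists_le_sylow
  exact ⟨Q', hQ' (Subgroup.mem_zpowers t)⟩

theorem h4_inv_conj (h : MinCE G p a) (s t : G) (hs : IsInv s) (ht : IsInv t) :
    ∃ g : G, g * s * g⁻¹ = t := by
  haveI : Fact (Nat.Prime 2) := ⟨Nat.prime_two⟩
  obtain ⟨Q, y, _, _, _, htr⟩ := h.hQ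
  obtain ⟨Qs, hsQ⟩ := h4_inv_mem_sylow hs
  obtain ⟨Qt, htQ⟩ := h4_inv_mem_sylow ht
  obtain ⟨gs, hgs⟩ := h4_sylow_conj Q Qs
  obtain ⟨gt, hgt⟩ := h4_sylow_conj Q Qt
  have hs' := (hgs s).mp hsQ
  have ht' := (hgt t).mp htQ
  have hs1 : gs⁻¹ * s * gs ≠ 1 := by
    intro h1
    apply hs.1
    have : s = gs * (gs⁻¹ * s * gs) * gs⁻¹ := by group
    rw [this, h1]; group
  have ht1 : gt⁻¹ * t * gt ≠ 1 := by
    intro h1
    apply ht.1
    have : t = gt * (gt⁻¹ * t * gt) * gt⁻¹ := by group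
    rw [this, h1]; group
  obtain ⟨j, hj⟩ := htr _ hs' hs1 _ ht' ht1
  refine ⟨gt * y ^ j * gs⁻¹, ?_⟩
  have : gt * y ^ j * gs⁻¹ * s * (gt * y ^ j * gs⁻¹)⁻¹ =
      gt * (y ^ j * (gs⁻¹ * s * gs) * (y ^ j)⁻¹) * gt⁻¹ := by group
  rw [this, hj]; group

theorem h4_norm_ne_top (h : MinCE G p a) (X : Subgroup G) (hX : X ≠ ⊥) (hX' : X ≠ ⊤) :
    Subgroup.normalizer (X : Set G) ≠ ⊤ := by
  intro hN
  have hn : X.Normal := Subgroup.normalizer_eq_top_iff.mp hN
  rcases h.hsimple X hn with h1 | h1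
  · exact hX h1
  · exact hX' h1

theorem h4_cent_ne_top (h : MinCE G p a) (x : G) (hx : x ≠ 1) : Cent x ≠ ⊤ := by
  haveI : Fact (Nat.Prime 2) := ⟨Nat.prime_two⟩
  intro hC
  have hcomm : ∀ g : G, g * x = x * g := by
    intro g
    have hg : g ∈ Cent x := by rw [hC]; trivial
    unfold Cent at hg
    rw [Subgroup.mem_centralizer_iff] at hg
    exact (hg x rfl).symm
  have hxc : x ∈ Subgroup.center G := by
    rw [Subgroup.mem_center_iff]
    exact hcomm
  rcases h.hsimple (Subgroup.center G) inferInstance with h1 | h1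
  · rw [h1, Subgroup.mem_bot] at hxc
    exact hx hxc
  · obtain ⟨Q, _⟩ := h.hQ
    have hQn : (Q : Subgroup G).Normal := by
      constructor
      intro n hn g
      have hg : n ∈ Subgroup.center G := by rw [h1]; trivial
      rw [Subgroup.mem_center_iff] at hg
      have : g * n * g⁻¹ = n := by rw [hg g]; group
      rw [this]; exact hn
    rcases h.hsimple _ hQn with h2 | h2
    · exact h4_sylow2_ne_bot h Q h2
    · exact h4_sylow2_ne_top h Q h2

/-- a group of exponent 2 is commutative (subgroup form). -/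
theorem h4_comm_of_exp_two (T : Subgroup G) (hT : ∀ x ∈ T, x * x = 1) :
    ∀ x ∈ T, ∀ y ∈ T, x * y = y * x := by
  intro x hx y hy
  have h1 := hT _ (mul_mem hx hy)
  have h2 := hT x hx
  have h3 := hT y hy
  have hx' : x⁻¹ = x := inv_eq_of_mul_eq_one_right h2
  have hy' : y⁻¹ = y := inv_eq_of_mul_eq_one_right h3
  have h4 : (x * y)⁻¹ = x * y := inv_eq_of_mul_eq_one_right h1
  rw [mul_inv_rev, hx', hy'] at h4
  exact h4.symm

theorem h4_syl2_fix (h : MinCE G p a) (Q : Sylow 2 G) (z : G)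
    (hz : z ∈ Subgroup.normalizer ((Q : Subgroup G) : Set G)) (t : G) (ht : t ∈ Q) (ht1 : t ≠ 1)
    (hzt : z * t * z⁻¹ = t) : ∀ x ∈ Q, z * x * z⁻¹ = x := by
  haveI : Fact p.Prime := ⟨h.hp⟩
  haveI : Fact (Nat.Prime 2) := ⟨Nat.prime_two⟩
  have hN : Subgroup.normalizer ((Q : Subgroup G) : Set G) ≠ ⊤ :=
    h4_norm_ne_top h _ (h4_sylow2_ne_bot h Q) (h4_sylow2_ne_top h Q)
  have hQN : (Q : Subgroup G) ≤ Subgroup.normalizer ((Q : Subgroup G) : Set G) :=
    Subgroup.le_normalizer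
  have h2N : 2 ∣ Nat.card (Subgroup.normalizer ((Q : Subgroup G) : Set G)) := by
    have h1 : Nat.card (Q : Subgroup G) ∣ Nat.card (Subgroup.normalizer ((Q : Subgroup G) : Set G)) :=
      Subgroup.card_dvd_of_le hQN
    rw [h4_card_sylow2 h Q] at h1
    exact dvd_trans (dvd_pow_self 2 (by have := h.ha; omega)) h1
  have hprimes := h.hH1 _ hN h2N
  have hopos : orderOf z ≠ 0 := (orderOf_pos z).ne'
  have hoN : orderOf z ∣ Nat.card (Subgroup.normalizer ((Q : Subgroup G) : Set G)) :=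
    Subgroup.orderOf_dvd_natCard _ hz
  obtain ⟨j, hj⟩ : ∃ j, j = (orderOf z).factorization p := ⟨_, rfl⟩
  have hdiv : p ^ j ∣ orderOf z := by rw [hj]; exact Nat.ordProj_dvd _ p
  obtain ⟨o', ho'⟩ := hdiv
  have ho'pos : o' ≠ 0 := by
    rintro rfl
    rw [mul_zero] at ho'
    exact hopos ho'
  have ho'2 : ∃ k, o' = 2 ^ k := by
    refine ⟨_, Nat.eq_prime_pow_of_unique_prime_dvd ho'pos ?_⟩
    intro d hd hdo'
    have hdo : d ∣ orderOf z := by rw [ho']; exact dvd_mul_of_dvd_right hdo' _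
    rcases hprimes d hd (dvd_trans hdo hoN) with h1 | h1
    · exact h1
    · exfalso
      have h2 : o' = orderOf z / p ^ j := by
        rw [ho', Nat.mul_div_cancel_left _ (pow_pos h.hp.pos j)]
      rw [h2, h1, hj] at hdo'
      exact Nat.not_dvd_ordCompl h.hp hopos hdo'
  obtain ⟨k, hk⟩ := ho'2
  have hg2 : (z ^ (p ^ j)) ^ (2 ^ k) = 1 := by
    rw [← pow_mul, ← hk, ← ho']; exact pow_orderOf_eq_one z
  have hgN : z ^ (p ^ j) ∈ Subgroup.normalizer ((Q : Subgroup G) : Set G) := pow_mem hz _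
  have hgQ : z ^ (p ^ j) ∈ Q := by
    have hpg : IsPGroup 2 (Subgroup.zpowers (z ^ (p ^ j))) := by
      have hdvd : orderOf (z ^ (p ^ j)) ∣ 2 ^ k := orderOf_dvd_of_pow_eq_one hg2
      obtain ⟨m, _, hm⟩ := (Nat.dvd_prime_pow Nat.prime_two).mp hdvd
      apply IsPGroup.of_card (n := m)
      rw [Nat.card_zpowers, hm]
    have hle : Subgroup.zpowers (z ^ (p ^ j)) ≤ Subgroup.normalizer ((Q : Subgroup G) : Set G) := by
      rw [Subgroup.zpowers_le]; exact hgN
    have hsup : IsPGroup 2 ↥(Subgroup.zpowers (z ^ (p ^ j)) ⊔ (Q : Subgroup G)) :=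
      IsPGroup.to_sup_of_normal_right' hpg Q.isPGroup' hle
    have hmax := Q.is_maximal' hsup le_sup_right
    have hmem : z ^ (p ^ j) ∈ Subgroup.zpowers (z ^ (p ^ j)) ⊔ (Q : Subgroup G) :=
      Subgroup.mem_sup_left (Subgroup.mem_zpowers _)
    rw [hmax] at hmem
    exact hmem
  have hQcomm := h4_comm_of_exp_two (Q : Subgroup G) (h4_sylow2_exp h Q)
  have hgfix : ∀ x ∈ Q, z ^ (p ^ j) * x * (z ^ (p ^ j))⁻¹ = x := by
    intro x hx
    rw [hQcomm _ hgQ x hx]; group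
  -- the permutation of `Q` induced by `z`
  have hzmem : ∀ x, x ∈ (Q : Subgroup G) ↔ z * x * z⁻¹ ∈ (Q : Subgroup G) :=
    fun x => Subgroup.mem_normalizer_iff.mp hz x
  let σ : Equiv.Perm ↥(Q : Subgroup G) :=
    { toFun := fun x => ⟨z * x.1 * z⁻¹, (hzmem x.1).mp x.2⟩
      invFun := fun x => ⟨z⁻¹ * x.1 * z, by
        apply (hzmem (z⁻¹ * x.1 * z)).mpr
        have : z * (z⁻¹ * x.1 * z) * z⁻¹ = x.1 := by group
        rw [this]; exact x.2⟩
      left_inv := fun x => by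
        apply Subtype.ext
        show z⁻¹ * (z * x.1 * z⁻¹) * z = x.1
        group
      right_inv := fun x => by
        apply Subtype.ext
        show z * (z⁻¹ * x.1 * z) * z⁻¹ = x.1
        group }
  have hσpow : ∀ (n : ℕ) (x : ↥(Q : Subgroup G)), ((σ ^ n) x).1 = z ^ n * x.1 * (z ^ n)⁻¹ := by
    intro n
    induction n with
    | zero => intro x; simp
    | succ n ih =>
      intro x
      rw [pow_succ', Equiv.Perm.mul_apply]
      show z * ((σ ^ n) x).1 * z⁻¹ = _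
      rw [ih x, pow_succ']
      group
  have hσ : σ ^ (p ^ j) = 1 := by
    ext x
    rw [hσpow, Equiv.Perm.one_apply]
    exact hgfix x.1 x.2
  have hH : IsPGroup p (Subgroup.zpowers σ) := by
    rintro ⟨τ, hτ⟩
    refine ⟨j, ?_⟩
    obtain ⟨n, rfl⟩ := Subgroup.mem_zpowers_iff.mp hτ
    apply Subtype.ext
    show (σ ^ n) ^ (p ^ j) = 1
    rw [← zpow_natCast, ← zpow_mul, mul_comm, zpow_mul, zpow_natCast, hσ, one_zpow]
  have key := hH.card_modEq_card_fixedPoints ↥(Q : Subgroup G)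
  have hfix_iff : ∀ x : ↥(Q : Subgroup G),
      x ∈ MulAction.fixedPoints (Subgroup.zpowers σ) ↥(Q : Subgroup G) ↔ σ x = x := by
    intro x
    rw [MulAction.mem_fixedPoints]
    constructor
    · intro hx
      exact hx ⟨σ, Subgroup.mem_zpowers σ⟩
    · rintro hx ⟨τ, hτ⟩
      obtain ⟨n, rfl⟩ := Subgroup.mem_zpowers_iff.mp hτ
      exact Equiv.Perm.zpow_apply_eq_self_of_apply_eq_self hx n
  intro x hx
  by_contra hne
  have hnotfix : (⟨x, hx⟩ : ↥(Q : Subgroup G)) ∉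
      MulAction.fixedPoints (Subgroup.zpowers σ) ↥(Q : Subgroup G) := by
    rw [hfix_iff]
    intro h1
    exact hne (congrArg Subtype.val h1)
  have hlt : Nat.card ↥(MulAction.fixedPoints (Subgroup.zpowers σ) ↥(Q : Subgroup G)) <
      Nat.card ↥(Q : Subgroup G) := Finite.card_subtype_lt hnotfix
  have h1fix : (1 : ↥(Q : Subgroup G)) ∈
      MulAction.fixedPoints (Subgroup.zpowers σ) ↥(Q : Subgroup G) := by
    rw [hfix_iff]
    apply Subtype.ext
    show z * 1 * z⁻¹ = 1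
    group
  have htfix : (⟨t, ht⟩ : ↥(Q : Subgroup G)) ∈
      MulAction.fixedPoints (Subgroup.zpowers σ) ↥(Q : Subgroup G) := by
    rw [hfix_iff]
    apply Subtype.ext
    exact hzt
  have hnt : Nontrivial ↥(MulAction.fixedPoints (Subgroup.zpowers σ) ↥(Q : Subgroup G)) := by
    refine ⟨⟨⟨1, h1fix⟩, ⟨⟨t, ht⟩, htfix⟩, ?_⟩⟩
    intro h1
    apply ht1
    have h2 := congrArg (fun y => (y.1 : ↥(Q : Subgroup G)).1) h1
    exact h2.symm
  have hge : 1 < Nat.card ↥(MulAction.fixedPoints (Subgroup.zpowers σ) ↥(Q : Subgroup G)) :=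
    Finite.one_lt_card
  rw [h4_card_sylow2 h Q, ← h.hpa] at hlt key
  have hdvd : p ∣ (p + 1) -
      Nat.card ↥(MulAction.fixedPoints (Subgroup.zpowers σ) ↥(Q : Subgroup G)) :=
    (Nat.modEq_iff_dvd' hlt.le).mp key.symm
  have hpos : 0 < (p + 1) -
      Nat.card ↥(MulAction.fixedPoints (Subgroup.zpowers σ) ↥(Q : Subgroup G)) := by omega
  have := Nat.le_of_dvd hpos hdvd
  omega

/-- (P1) the first bundle of derived facts. -/
theorem factsA (h : MinCE G p a) : FactsA G p a where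
  two_exp := h4_two_exp h
  inv_conj := h4_inv_conj h
  norm_ne_top := h4_norm_ne_top h
  cent_ne_top := h4_cent_ne_top h
  syl2_fix := fun Q z hz t ht ht1 hzt => h4_syl2_fix h Q z hz t ht ht1 hzt

end Cfsg.Agent.Helper7.S4017
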