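import Mathlib
import Cfsg.Agent.Helper7.S4017Defs
import Cfsg.Agent.Helper4.S4017_FactsA

set_option autoImplicit false

/-!
# S4017, piece (P2): the second bundle of derived facts `FactsB` for a minimal counterexample
(the structure of involution centralizers, via Burnside's transfer theorem)
-/

namespace Cfsg.Agent.Helper7.S4017

universe u

variable {G : Type u} [Group G] [Finite G] {p a : ℕ}

omit [Finite G] in
/-- membership in `Cent t`. -/
theorem h4_mem_cent {t x : G} : x ∈ Cent t ↔ x * t = t * x := by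
  unfold Cent
  rw [Subgroup.mem_centralizer_iff]
  constructor
  · intro h; exact (h t rfl).symm
  · intro h y hy
    rw [Set.mem_singleton_iff] at hy
    subst hy
    exact h.symm

/-- the structure of the centralizer of an involution: a normal `p`-subgroup `K` of index `2 ^ a`
containing every `p`-element. -/
theorem h4_cent_struct (h : MinCE G p a) (fa : FactsA G p a) (t : G) (ht : IsInv t) :
    ∃ K : Subgroup (Cent t), IsPGroup p K ∧ Nat.card (Cent t) = 2 ^ a * Nat.card K ∧
      ∀ x : Cent t, IsPElt p (x : G) → x ∈ K := by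
  haveI : Fact (Nat.Prime 2) := ⟨Nat.prime_two⟩
  haveI : Fact p.Prime := ⟨h.hp⟩
  obtain ⟨Q', htQ'⟩ := h4_inv_mem_sylow ht
  have hQcomm := h4_comm_of_exp_two (Q' : Subgroup G) (h4_sylow2_exp h Q')
  have hQH : (Q' : Subgroup G) ≤ Cent t := by
    intro x hx
    rw [h4_mem_cent]
    exact hQcomm x hx t htQ'
  obtain ⟨P, hP⟩ : ∃ P : Sylow 2 (Cent t), P = Q'.subtype hQH := ⟨_, rfl⟩
  have hmemP : ∀ x : Cent t, x ∈ P ↔ (x : G) ∈ Q' := by
    intro x
    rw [hP]
    show x ∈ ((Q'.subtype hQH : Sylow 2 (Cent t)) : Subgroup (Cent t)) ↔ _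
    rw [Sylow.coe_subtype, Subgroup.mem_subgroupOf]
    exact Iff.rfl
  have hPcard : Nat.card P = 2 ^ a := by
    have h1 : Nat.card (P : Subgroup (Cent t)) = Nat.card ((Q' : Subgroup G).subgroupOf (Cent t)) := by
      rw [hP, Sylow.coe_subtype]
    have h2 : Nat.card ((Q' : Subgroup G).subgroupOf (Cent t)) = Nat.card (Q' : Subgroup G) :=
      Nat.card_congr (Subgroup.subgroupOfEquivOfLe hQH).toEquiv
    exact h1.trans (h2.trans (h4_card_sylow2 h Q'))
  have hNC : Subgroup.normalizer ((P : Subgroup (Cent t)) : Set (Cent t)) ≤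
      Subgroup.centralizer ((P : Subgroup (Cent t)) : Set (Cent t)) := by
    intro z hz
    rw [Subgroup.mem_normalizer_iff] at hz
    have hzN : (z : G) ∈ Subgroup.normalizer ((Q' : Subgroup G) : Set G) := by
      rw [Subgroup.mem_normalizer_iff]
      intro y
      constructor
      · intro hy
        have h1 := (hz ⟨y, hQH hy⟩).mp ((hmemP _).mpr hy)
        exact (hmemP _).mp h1
      · intro hy
        have hyC : y ∈ Cent t := by
          have h1 : y = (z : G)⁻¹ * ((z : G) * y * (z : G)⁻¹) * (z : G) := by group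
          rw [h1]
          exact mul_mem (mul_mem (inv_mem z.2) (hQH hy)) z.2
        have h1 : z * ⟨y, hyC⟩ * z⁻¹ ∈ P := (hmemP _).mpr hy
        exact (hmemP _).mp ((hz ⟨y, hyC⟩).mpr h1)
    have hzt : (z : G) * t * (z : G)⁻¹ = t := by
      have h1 := h4_mem_cent.mp z.2
      rw [h1]; group
    have hfix := fa.syl2_fix Q' (z : G) hzN t htQ' ht.1 hzt
    rw [Subgroup.mem_centralizer_iff]
    intro x hx
    have h1 := hfix (x : G) ((hmemP x).mp hx)
    apply Subtype.ext
    show (x : G) * (z : G) = (z : G) * (x : G)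
    calc (x : G) * (z : G) = ((z : G) * (x : G) * (z : G)⁻¹) * (z : G) := by rw [h1]
      _ = (z : G) * (x : G) := by group
  have hcompl := MonoidHom.ker_transferSylow_isComplement' P hNC
  have hnd := MonoidHom.not_dvd_card_ker_transferSylow P hNC
  have hcard := hcompl.card_mul_card
  refine ⟨(MonoidHom.transferSylow P hNC).ker, ?_, ?_, ?_⟩
  · -- `K` is a `p`-group
    have hCne : Cent t ≠ ⊤ := fa.cent_ne_top t ht.1
    have h2C : 2 ∣ Nat.card (Cent t) := by
      rw [← hcard, hPcard]
      exact dvd_mul_of_dvd_right (dvd_pow_self 2 (by have := h.ha; omega)) _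
    have hprimes := h.hH1 _ hCne h2C
    have hKpos : Nat.card (MonoidHom.transferSylow P hNC).ker ≠ 0 := Nat.card_pos.ne'
    have hK : Nat.card (MonoidHom.transferSylow P hNC).ker =
        p ^ (Nat.card (MonoidHom.transferSylow P hNC).ker).primeFactorsList.length := by
      apply Nat.eq_prime_pow_of_unique_prime_dvd hKpos
      intro d hd hdK
      have hdC : d ∣ Nat.card (Cent t) := by
        rw [← hcard]; exact dvd_mul_of_dvd_left hdK _
      rcases hprimes d hd hdC with h1 | h1
      · exfalso; rw [h1] at hdK; exact hnd hdK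
      · exact h1
    exact IsPGroup.of_card hK
  · rw [← hcard, hPcard, mul_comm]
  · intro x hx
    obtain ⟨k, hk⟩ := hx
    rw [MonoidHom.mem_ker]
    have h1 : orderOf (MonoidHom.transferSylow P hNC x) ∣ p ^ k := by
      rw [← hk, Subgroup.orderOf_coe x]
      exact orderOf_map_dvd _ x
    have h2 : orderOf (MonoidHom.transferSylow P hNC x) ∣ 2 ^ a := by
      rw [← hPcard]
      exact orderOf_dvd_natCard _
    have hcop : Nat.Coprime (p ^ k) (2 ^ a) := by
      apply Nat.Coprime.pow
      rw [Nat.coprime_primes h.hp Nat.prime_two]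
      have := h4_three_le h
      omega
    have h3 : orderOf (MonoidHom.transferSylow P hNC x) = 1 :=
      Nat.eq_one_of_dvd_coprimes hcop h1 h2
    exact orderOf_eq_one_iff.mp h3

omit [Finite G] in
/-- `Dsub p t` is the image of the normal `p`-complement of `Cent t`. -/
theorem h4_dsub_eq (hp : p.Prime) (t : G) (K : Subgroup (Cent t)) (hK : IsPGroup p K)
    (hall : ∀ x : Cent t, IsPElt p (x : G) → x ∈ K) :
    Dsub p t = K.map (Cent t).subtype := by
  haveI : Fact p.Prime := ⟨hp⟩
  apply le_antisymm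
  · unfold Dsub
    rw [Subgroup.closure_le]
    rintro x ⟨hxC, hxp⟩
    exact ⟨⟨x, hxC⟩, hall ⟨x, hxC⟩ hxp, rfl⟩
  · rintro y ⟨x, hxK, rfl⟩
    apply Subgroup.subset_closure
    refine ⟨x.2, ?_⟩
    obtain ⟨k, hk⟩ := (IsPGroup.iff_orderOf.mp hK) ⟨x, hxK⟩
    refine ⟨k, ?_⟩
    rw [← hk]
    show orderOf ((x : Cent t) : G) = orderOf (⟨x, hxK⟩ : K)
    rw [Subgroup.orderOf_coe, ← Subgroup.orderOf_coe (⟨x, hxK⟩ : K)]

/-- (P2) the second bundle of derived facts. -/
theorem factsB (h : MinCE G p a) (fa : FactsA G p a) : FactsB G p a where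
  dsub_pgroup := by
    intro t ht
    obtain ⟨K, hK, _, hall⟩ := h4_cent_struct h fa t ht
    rw [h4_dsub_eq h.hp t K hK hall]
    exact hK.map _
  cent_card := by
    intro t ht
    obtain ⟨K, hK, hcard, hall⟩ := h4_cent_struct h fa t ht
    rw [h4_dsub_eq h.hp t K hK hall, hcard,
      Subgroup.card_map_of_injective (Subgroup.subtype_injective _)]

end Cfsg.Agent.Helper7.S4017
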