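import Mathlib
import Cfsg.Agent.Helper7.S4017Defs

set_option autoImplicit false

/-!
# S4017, a sub-lemma of piece (P4): `p` divides the number of involutions when every involution
centralizer is a 2-group of order `2 ^ a`
-/

namespace Cfsg.Agent.Helper7.S4017

universe u

variable {G : Type u} [Group G] [Finite G] {p a : ℕ}

omit [Finite G] in
/-- conjugates of involutions are involutions. -/
theorem h4_isInv_conj {z : G} (hz : IsInv z) (g : G) : IsInv (g * z * g⁻¹) := by
  refine ⟨?_, ?_⟩
  · intro h1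
    apply hz.1
    have : z = g⁻¹ * (g * z * g⁻¹) * g := by group
    rw [this, h1]; group
  · have : g * z * g⁻¹ * (g * z * g⁻¹) = g * (z * z) * g⁻¹ := by group
    rw [this, hz.2]; group

theorem p_dvd_card_inv (hp : p.Prime) (hp2 : p ≠ 2) (hpG : p ∣ Nat.card G)
    (hc : ∀ z : G, IsInv z → Nat.card (Cent z) = 2 ^ a) :
    p ∣ Set.ncard {z : G | IsInv z} := by
  haveI : Fact p.Prime := ⟨hp⟩
  obtain ⟨x, hx⟩ := exists_prime_orderOf_dvd_card' p hpG
  have hH : IsPGroup p (Subgroup.zpowers x) := by
    apply IsPGroup.of_card (n := 1)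
    rw [Nat.card_zpowers, hx, pow_one]
  letI act : MulAction (Subgroup.zpowers x) ↥{z : G | IsInv z} :=
    { smul := fun g z => ⟨(g : G) * z.1 * (g : G)⁻¹, h4_isInv_conj z.2 (g : G)⟩
      one_smul := fun z => by
        apply Subtype.ext
        show ((1 : Subgroup.zpowers x) : G) * z.1 * ((1 : Subgroup.zpowers x) : G)⁻¹ = z.1
        simp
      mul_smul := fun g g' z => by
        apply Subtype.ext
        show ((g * g' : Subgroup.zpowers x) : G) * z.1 * ((g * g' : Subgroup.zpowers x) : G)⁻¹ =
          (g : G) * ((g' : G) * z.1 * (g' : G)⁻¹) * (g : G)⁻¹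
        rw [Subgroup.coe_mul]
        group }
  have hsmul : ∀ (g : Subgroup.zpowers x) (z : ↥{z : G | IsInv z}),
      (g • z).1 = (g : G) * z.1 * (g : G)⁻¹ := fun _ _ => rfl
  have key := hH.card_modEq_card_fixedPoints ↥{z : G | IsInv z}
  have hempty : IsEmpty ↥(MulAction.fixedPoints (Subgroup.zpowers x) ↥{z : G | IsInv z}) := by
    constructor
    rintro ⟨z, hz⟩
    rw [MulAction.mem_fixedPoints] at hz
    have h1 := hz ⟨x, Subgroup.mem_zpowers x⟩
    have h2 : x * z.1 * x⁻¹ = z.1 := by
      have := congrArg Subtype.val h1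
      rw [hsmul] at this
      exact this
    have hxC : x ∈ Cent z.1 := by
      unfold Cent
      rw [Subgroup.mem_centralizer_iff]
      intro y hy
      rw [Set.mem_singleton_iff] at hy
      subst hy
      calc z.1 * x = (x * z.1 * x⁻¹) * x := by rw [h2]
        _ = x * z.1 := by group
    have h3 : orderOf x ∣ Nat.card (Cent z.1) := Subgroup.orderOf_dvd_natCard _ hxC
    rw [hx, hc z.1 z.2] at h3
    have h4 := (Nat.prime_dvd_prime_iff_eq hp Nat.prime_two).mp (hp.dvd_of_dvd_pow h3)
    exact hp2 h4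
  have h0 : Nat.card ↥(MulAction.fixedPoints (Subgroup.zpowers x) ↥{z : G | IsInv z}) = 0 :=
    Nat.card_of_isEmpty
  rw [h0] at key
  rw [← Nat.card_coe_set_eq]
  exact (Nat.modEq_zero_iff_dvd).mp key

end Cfsg.Agent.Helper7.S4017
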