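import Mathlib

/-!
# Subgroups of index six in the symmetric group of degree six, part B

Explicit permutations of `Fin 6`: the translation `c0`, the multiplication `m0` and the
inversion `t0` of the projective line over the field with five elements, with the
finite checks that are needed to pin down the transitive subgroups of index six.
-/

set_option autoImplicit false

namespace Cfsg.Agent.Helper4.S6Index

open Equiv

/-- `x ↦ x + 1` on the projective line over `𝔽₅` (with `5` standing for `∞`). -/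
def c0 : Perm (Fin 6) := ⟨![1, 2, 3, 4, 0, 5], ![4, 0, 1, 2, 3, 5], by decide, by decide⟩

/-- `x ↦ 2 x` on the projective line over `𝔽₅`. -/
def m0 : Perm (Fin 6) := ⟨![0, 2, 4, 1, 3, 5], ![0, 3, 1, 4, 2, 5], by decide, by decide⟩

/-- `x ↦ 1 / x` on the projective line over `𝔽₅`. -/
def t0 : Perm (Fin 6) := ⟨![5, 1, 3, 2, 4, 0], ![5, 1, 3, 2, 4, 0], by decide, by decide⟩

/-- The affine group `x ↦ a x + b`, as a list. -/
def B0list : List (Perm (Fin 6)) :=
  (List.finRange 5).flatMap fun i => (List.finRange 4).map fun j => c0 ^ (i : ℕ) * m0 ^ (j : ℕ)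

/-- The projective group, as a list: the affine group and its second double coset. -/
def H2list : List (Perm (Fin 6)) :=
  B0list ++ (List.finRange 5).flatMap fun i => B0list.map fun b => c0 ^ (i : ℕ) * t0 * b

theorem c0_five : c0 5 = 5 := by decide
theorem m0_five : m0 5 = 5 := by decide
theorem m0_zero : m0 0 = 0 := by decide
theorem t0_five : t0 5 = 0 := by decide

theorem c0_pow_five : c0 ^ 5 = 1 := by decide +kernel
theorem c0_ne_one : c0 ≠ 1 := by decide +kernel

theorem length_B0list : B0list.length = 20 := by decide +kernel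
theorem nodup_B0list : B0list.Nodup := by decide +kernel

theorem normalizer_sub : ∀ g : Perm (Fin 6), g 5 = 5 →
    g * c0 * g⁻¹ ∈ [c0, c0 ^ 2, c0 ^ 3, c0 ^ 4] → g ∈ B0list := by decide +kernel

theorem c0_trans : ∀ x y : Fin 6, x ≠ 5 → y ≠ 5 → ∃ i : Fin 5, (c0 ^ (i : ℕ)) x = y := by
  decide +kernel

theorem m0_trans : ∀ w : Fin 6, w ≠ 0 → w ≠ 5 → ∃ j : Fin 4, (m0 ^ (j : ℕ)) w = 1 := by
  decide +kernel

theorem B0_fix_two : ∀ b ∈ B0list, b 0 = 0 → b 1 = 1 → b = 1 := by decide +kernel

theorem B0_fix_one : ∀ b ∈ B0list, b 0 = 0 → b ∈ [1, m0, m0 ^ 2, m0 ^ 3] := by decide +kernel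

theorem t_lemma : ∀ t : Perm (Fin 6), t 5 = 0 → t 0 = 5 → t 1 = 1 → t * t = 1 →
    t * m0 * t⁻¹ ∈ [1, m0, m0 ^ 2, m0 ^ 3] → t = t0 ∨ t = swap 0 5 := by decide +kernel

theorem swap_excl : swap (0 : Fin 6) 5 * (c0 * swap (0 : Fin 6) 5 * c0⁻¹) * swap (0 : Fin 6) 5
    ∉ B0list := by decide +kernel

theorem swap_excl_five : (swap (0 : Fin 6) 5 * (c0 * swap (0 : Fin 6) 5 * c0⁻¹) *
    swap (0 : Fin 6) 5) 5 = 5 := by decide +kernel

end Cfsg.Agent.Helper4.S6Index
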