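import Cfsg.Agent.Helper4.S6IndexA
import Cfsg.Agent.Helper4.S6IndexB
import Cfsg.Agent.Helper5.ProdCard

/-!
# Subgroups of index six in the symmetric group of degree six, part C

The projective group `H2 = ⟨c0, m0, t0⟩` has order `120`, and a subgroup of index six of
`Perm (Fin 6)` that contains the five-cycle `c0` is the stabiliser of `5` or is `H2`.
-/

set_option autoImplicit false

namespace Cfsg.Agent.Helper4.S6Index

open Equiv
open scoped Pointwise

theorem length_H2list : H2list.length = 120 := by decide +kernel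

theorem nodup_H2list : H2list.Nodup := by decide +kernel

theorem H2list_closed :
    ∀ s ∈ [c0, m0, t0, c0⁻¹, m0⁻¹, t0⁻¹], ∀ x ∈ H2list, s * x ∈ H2list := by
  decide +kernel

theorem one_mem_H2list : (1 : Perm (Fin 6)) ∈ H2list := by decide +kernel

theorem m0_mem_B0list : m0 ∈ B0list := by decide +kernel

theorem c0_pow_fix : ∀ i : Fin 5, (c0 ^ (i : ℕ)) 5 = 5 := by decide +kernel

theorem m0_pow_fix : ∀ j : Fin 4, (m0 ^ (j : ℕ)) 5 = 5 ∧ (m0 ^ (j : ℕ)) 0 = 0 := by
  decide +kernel

/-- The projective group on the six points of the projective line over `𝔽₅`. -/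
def H2 : Subgroup (Perm (Fin 6)) := Subgroup.closure {c0, m0, t0}

theorem c0_mem_H2 : c0 ∈ H2 := Subgroup.subset_closure (by simp)

theorem m0_mem_H2 : m0 ∈ H2 := Subgroup.subset_closure (by simp)

theorem t0_mem_H2 : t0 ∈ H2 := Subgroup.subset_closure (by simp)

theorem mem_of_mem_B0list {K : Subgroup (Perm (Fin 6))} (hc : c0 ∈ K) (hm : m0 ∈ K)
    {g : Perm (Fin 6)} (h : g ∈ B0list) : g ∈ K := by
  unfold B0list at h
  rw [List.mem_flatMap] at h
  obtain ⟨i, -, h⟩ := h
  rw [List.mem_map] at h
  obtain ⟨j, -, rfl⟩ := h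
  exact K.mul_mem (K.pow_mem hc _) (K.pow_mem hm _)

theorem mem_of_mem_H2list {K : Subgroup (Perm (Fin 6))} (hc : c0 ∈ K) (hm : m0 ∈ K)
    (ht : t0 ∈ K) {g : Perm (Fin 6)} (h : g ∈ H2list) : g ∈ K := by
  unfold H2list at h
  rw [List.mem_append] at h
  rcases h with h | h
  · exact mem_of_mem_B0list hc hm h
  · rw [List.mem_flatMap] at h
    obtain ⟨i, -, h⟩ := h
    rw [List.mem_map] at h
    obtain ⟨b, hb, rfl⟩ := h
    exact K.mul_mem (K.mul_mem (K.pow_mem hc _) ht) (mem_of_mem_B0list hc hm hb)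

theorem mem_H2_iff {g : Perm (Fin 6)} : g ∈ H2 ↔ g ∈ H2list := by
  constructor
  · intro h
    have key : ∀ x ∈ H2list, g * x ∈ H2list := by
      unfold H2 at h
      induction h using Subgroup.closure_induction'' with
      | mem s hs =>
        apply H2list_closed
        rcases hs with rfl | rfl | rfl <;> simp
      | inv_mem s hs =>
        apply H2list_closed
        rcases hs with rfl | rfl | rfl <;> simp
      | one => intro x hx; rwa [one_mul]
      | mul a b _ _ ha hb => intro x hx; rw [mul_assoc]; exact ha _ (hb _ hx)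
    have := key 1 one_mem_H2list
    rwa [mul_one] at this
  · exact mem_of_mem_H2list c0_mem_H2 m0_mem_H2 t0_mem_H2

theorem card_H2 : Nat.card H2 = 120 := by
  have h : (H2 : Set (Perm (Fin 6))) = ↑H2list.toFinset := by
    ext g
    simp [mem_H2_iff]
  have h2 : Nat.card H2 = (H2 : Set (Perm (Fin 6))).ncard := Nat.card_coe_set_eq _
  rw [h2, h, Set.ncard_coe_finset, List.toFinset_card_of_nodup nodup_H2list, length_H2list]

theorem index_H2 : H2.index = 6 := index_six_of_card H2 card_H2

theorem card_stabilizer (a : Fin 6) :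
    Nat.card (MulAction.stabilizer (Perm (Fin 6)) a) = 120 := by
  obtain ⟨e⟩ := nonempty_stabilizer_equiv_fin a 5 (by simp)
  rw [Nat.card_congr e.toEquiv, Nat.card_eq_fintype_card, Fintype.card_perm, Fintype.card_fin]
  rfl

theorem orderOf_c0 : orderOf c0 = 5 := by
  haveI : Fact (Nat.Prime 5) := ⟨by norm_num⟩
  exact orderOf_eq_prime c0_pow_five c0_ne_one

/-- A subgroup of index six that contains the five-cycle `c0` is the stabiliser of `5`
or the projective group `H2`. -/
theorem eq_stabilizer_or_eq_H2 (K : Subgroup (Perm (Fin 6))) (hK : K.index = 6) (hc : c0 ∈ K) :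
    K = MulAction.stabilizer (Perm (Fin 6)) (5 : Fin 6) ∨ K = H2 := by
  classical
  have hcard := card_of_index_six K hK
  by_cases hfix : ∀ k ∈ K, k 5 = 5
  · left
    apply Subgroup.eq_of_le_of_card_ge
    · intro k hk
      rw [MulAction.mem_stabilizer_iff, Perm.smul_def]
      exact hfix k hk
    · rw [card_stabilizer, hcard]
  · right
    push Not at hfix
    obtain ⟨k0, hk0, hk05⟩ := hfix
    have htrans : ∀ y : Fin 6, ∃ k ∈ K, k 5 = y := by
      intro y
      by_cases hy : y = 5
      · exact ⟨1, K.one_mem, by simp [hy]⟩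
      · obtain ⟨i, hi⟩ := c0_trans (k0 5) y hk05 hy
        exact ⟨c0 ^ (i : ℕ) * k0, K.mul_mem (K.pow_mem hc _) hk0, by simpa using hi⟩
    set Stab : Subgroup (Perm (Fin 6)) := MulAction.stabilizer (Perm (Fin 6)) (5 : Fin 6)
      with hStab
    have hStabmem : ∀ g : Perm (Fin 6), g ∈ Stab ↔ g 5 = 5 := by
      intro g
      rw [hStab, MulAction.mem_stabilizer_iff, Perm.smul_def]
    set K5 : Subgroup (Perm (Fin 6)) := K ⊓ Stab with hK5
    have hK5mem : ∀ g : Perm (Fin 6), g ∈ K5 ↔ g ∈ K ∧ g 5 = 5 := by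
      intro g
      rw [hK5, Subgroup.mem_inf, hStabmem]
    have hprod : ((K : Set (Perm (Fin 6))) * (Stab : Set (Perm (Fin 6)))) = Set.univ := by
      apply Set.eq_univ_of_forall
      intro g
      obtain ⟨k, hk, hk5⟩ := htrans (g 5)
      refine Set.mem_mul.2 ⟨k, hk, k⁻¹ * g, ?_, by group⟩
      show k⁻¹ * g ∈ Stab
      rw [hStabmem, Perm.mul_apply, Perm.inv_eq_iff_eq]
      exact hk5.symm
    have hK5card : Nat.card K5 = 20 := by
      have h := Cfsg.Agent.Helper5.card_mul_set_mul_card_inf K Stab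
      rw [hprod, Nat.card_congr (Equiv.Set.univ _), card_perm_six, hcard, hStab,
        card_stabilizer] at h
      rw [hK5, hStab]
      omega
    set C : Subgroup (Perm (Fin 6)) := Subgroup.zpowers c0 with hC
    have hCcard : Nat.card C = 5 := by
      rw [hC, Nat.card_zpowers, orderOf_c0]
    have hc0K5 : c0 ∈ K5 := (hK5mem c0).2 ⟨hc, c0_five⟩
    have hCK5 : C ≤ K5 := by
      rw [hC, Subgroup.zpowers_le]; exact hc0K5
    have hnorm : ∀ g ∈ K5, g * c0 * g⁻¹ ∈ C := by
      intro g hg
      set C' : Subgroup (Perm (Fin 6)) := C.map (MulAut.conj g).toMonoidHom with hC'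
      have hC'card : Nat.card C' = 5 := by
        rw [hC', Subgroup.card_map_of_injective (MulAut.conj g).injective]; exact hCcard
      have hC'K5 : C' ≤ K5 := by
        rintro _ ⟨x, hx, rfl⟩
        exact K5.mul_mem (K5.mul_mem hg (hCK5 hx)) (K5.inv_mem hg)
      have hsub : ((C : Set (Perm (Fin 6))) * (C' : Set (Perm (Fin 6)))) ⊆
          (K5 : Set (Perm (Fin 6))) := by
        rintro _ ⟨a, ha, b, hb, rfl⟩
        exact K5.mul_mem (hCK5 ha) (hC'K5 hb)
      have hle : Nat.card ((C : Set (Perm (Fin 6))) * (C' : Set (Perm (Fin 6))) :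
          Set (Perm (Fin 6))) ≤ 20 := by
        rw [← hK5card]
        exact Nat.card_mono (Set.toFinite _) hsub
      have h := Cfsg.Agent.Helper5.card_mul_set_mul_card_inf C C'
      rw [hCcard, hC'card] at h
      have hdvd : Nat.card (C ⊓ C' : Subgroup (Perm (Fin 6))) ∣ 5 := by
        rw [← hC'card]; exact Subgroup.card_dvd_of_le inf_le_right
      have h5 : Nat.card (C ⊓ C' : Subgroup (Perm (Fin 6))) = 5 := by
        rcases (Nat.dvd_prime (by norm_num)).1 hdvd with h1 | h1
        · rw [h1] at h; omega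
        · exact h1
      have heq : C ⊓ C' = C' :=
        Subgroup.eq_of_le_of_card_ge inf_le_right (by rw [h5, hC'card])
      have hmem : g * c0 * g⁻¹ ∈ C' := ⟨c0, Subgroup.mem_zpowers c0, rfl⟩
      rw [← heq] at hmem
      exact hmem.1
    have hK5sub : ∀ g ∈ K5, g ∈ B0list := by
      intro g hg
      apply normalizer_sub g ((hK5mem g).1 hg).2
      have h1 := hnorm g hg
      rw [hC, mem_zpowers_iff_mem_range_orderOf, orderOf_c0] at h1
      simp only [Finset.mem_image, Finset.mem_range] at h1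
      obtain ⟨i, hi, hi'⟩ := h1
      have hne : g * c0 * g⁻¹ ≠ 1 := by
        intro h
        apply c0_ne_one
        have h2 : c0 = g⁻¹ * (g * c0 * g⁻¹) * g := by group
        rw [h2, h]; group
      interval_cases i
      · exfalso; apply hne; rw [← hi']; simp
      · simp [← hi']
      · simp [← hi']
      · simp [← hi']
      · simp [← hi']
    have hB0sub : ∀ b ∈ B0list, b ∈ K5 := by
      have hsub : (K5 : Set (Perm (Fin 6))) ⊆ ↑B0list.toFinset := by
        intro g hg
        simpa using hK5sub g hg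
      have hncard : (K5 : Set (Perm (Fin 6))).ncard = 20 := by
        rw [← hK5card]; exact (Nat.card_coe_set_eq _).symm
      have hEq := Set.eq_of_subset_of_ncard_le hsub (by
        rw [Set.ncard_coe_finset, List.toFinset_card_of_nodup nodup_B0list, length_B0list,
          hncard]) (Finset.finite_toSet _)
      intro b hb
      have : b ∈ (↑B0list.toFinset : Set (Perm (Fin 6))) := by simpa using hb
      rw [← hEq] at this
      exact this
    have hm0K : m0 ∈ K := ((hK5mem m0).1 (hB0sub m0 m0_mem_B0list)).1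
    -- an element of `K` that swaps `0` and `5` and fixes `1`
    obtain ⟨k, hk, hk5⟩ := htrans 0
    have hz : k⁻¹ 5 ≠ 5 := by
      intro h
      have h1 : k 5 = 5 := by
        rw [Perm.inv_eq_iff_eq] at h
        exact h.symm
      rw [hk5] at h1
      exact absurd h1 (by decide)
    obtain ⟨i, hi⟩ := c0_trans (k⁻¹ 5) 0 hz (by decide)
    set t' : Perm (Fin 6) := c0 ^ (i : ℕ) * k⁻¹ with ht'
    have ht'K : t' ∈ K := K.mul_mem (K.pow_mem hc _) (K.inv_mem hk)
    have ht'5 : t' 5 = 0 := by rw [ht', Perm.mul_apply]; exact hi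
    have ht'0 : t' 0 = 5 := by
      have hk0 : k⁻¹ 0 = 5 := by rw [Perm.inv_eq_iff_eq]; exact hk5.symm
      rw [ht', Perm.mul_apply, hk0]
      exact c0_pow_fix i
    have hw0 : t' 1 ≠ 0 := by
      intro h
      rw [← ht'5] at h
      exact absurd (t'.injective h) (by decide)
    have hw5 : t' 1 ≠ 5 := by
      intro h
      rw [← ht'0] at h
      exact absurd (t'.injective h) (by decide)
    obtain ⟨j, hj⟩ := m0_trans (t' 1) hw0 hw5
    set t : Perm (Fin 6) := m0 ^ (j : ℕ) * t' with ht
    have htK : t ∈ K := K.mul_mem (K.pow_mem hm0K _) ht'K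
    have ht5 : t 5 = 0 := by
      rw [ht, Perm.mul_apply, ht'5]; exact (m0_pow_fix j).2
    have ht0 : t 0 = 5 := by
      rw [ht, Perm.mul_apply, ht'0]; exact (m0_pow_fix j).1
    have ht1 : t 1 = 1 := by
      rw [ht, Perm.mul_apply]; exact hj
    have htt : t * t = 1 := by
      apply B0_fix_two
      · apply hK5sub
        rw [hK5mem]
        exact ⟨K.mul_mem htK htK, by rw [Perm.mul_apply, ht5, ht0]⟩
      · rw [Perm.mul_apply, ht0, ht5]
      · rw [Perm.mul_apply, ht1, ht1]
    have htinv5 : t⁻¹ 5 = 0 := by rw [Perm.inv_eq_iff_eq]; exact ht0.symm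
    have htinv0 : t⁻¹ 0 = 5 := by rw [Perm.inv_eq_iff_eq]; exact ht5.symm
    have htm : t * m0 * t⁻¹ ∈ [1, m0, m0 ^ 2, m0 ^ 3] := by
      apply B0_fix_one
      · apply hK5sub
        rw [hK5mem]
        refine ⟨K.mul_mem (K.mul_mem htK hm0K) (K.inv_mem htK), ?_⟩
        rw [Perm.mul_apply, Perm.mul_apply, htinv5, m0_zero, ht0]
      · rw [Perm.mul_apply, Perm.mul_apply, htinv0, m0_five, ht5]
    have ht0K : t0 ∈ K := by
      rcases t_lemma t ht5 ht0 ht1 htt htm with h | h
      · rw [← h]; exact htK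
      · exfalso
        apply swap_excl
        apply hK5sub
        rw [hK5mem]
        refine ⟨?_, swap_excl_five⟩
        rw [← h]
        exact K.mul_mem (K.mul_mem htK (K.mul_mem (K.mul_mem hc htK) (K.inv_mem hc))) htK
    symm
    apply Subgroup.eq_of_le_of_card_ge
    · unfold H2
      rw [Subgroup.closure_le]
      rintro x (rfl | rfl | rfl)
      · exact hc
      · exact hm0K
      · exact ht0K
    · rw [card_H2, hcard]

end Cfsg.Agent.Helper4.S6Index
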