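import Cfsg.Agent.Helper4.S6IndexC

/-!
# Subgroups of index six in the symmetric group of degree six, part D

Classification up to conjugacy, self-normalisation and the count `12`.
-/

set_option autoImplicit false

namespace Cfsg.Agent.Helper4.S6Index

open Equiv
open scoped Pointwise

section general

variable {G : Type*} [Group G]

theorem mem_map_conj {g x : G} {H : Subgroup G} :
    x ∈ H.map (MulAut.conj g).toMonoidHom ↔ g⁻¹ * x * g ∈ H := by
  constructor
  · rintro ⟨y, hy, rfl⟩
    have : g⁻¹ * (MulAut.conj g).toMonoidHom y * g = y := by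
      show g⁻¹ * (g * y * g⁻¹) * g = y
      group
    rw [this]; exact hy
  · intro h
    refine ⟨g⁻¹ * x * g, h, ?_⟩
    show g * (g⁻¹ * x * g) * g⁻¹ = x
    group

theorem map_conj_map_conj (g h : G) (H : Subgroup G) :
    (H.map (MulAut.conj h).toMonoidHom).map (MulAut.conj g).toMonoidHom =
      H.map (MulAut.conj (g * h)).toMonoidHom := by
  ext x
  rw [mem_map_conj, mem_map_conj, mem_map_conj]
  have : h⁻¹ * (g⁻¹ * x * g) * h = (g * h)⁻¹ * x * (g * h) := by group
  rw [this]

theorem map_conj_one (H : Subgroup G) : H.map (MulAut.conj (1 : G)).toMonoidHom = H := by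
  ext x
  rw [mem_map_conj]
  simp

theorem card_map_conj (g : G) (H : Subgroup G) :
    Nat.card (H.map (MulAut.conj g).toMonoidHom) = Nat.card H :=
  Subgroup.card_map_of_injective (MulAut.conj g).injective

theorem smul_eq_map_conj (g : G) (H : Subgroup G) :
    MulAut.conj g • H = H.map (MulAut.conj g).toMonoidHom := by
  ext x
  rw [mem_map_conj, Subgroup.mem_pointwise_smul_iff_inv_smul_mem, MulAut.smul_def,
    MulAut.conj_inv_apply]

end general

theorem cycleType_of_orderOf_five (σ : Perm (Fin 6)) (h : orderOf σ = 5) : σ.cycleType = {5} := by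
  have hc : σ.IsCycle :=
    Perm.isCycle_of_prime_order' (by rw [h]; norm_num) (by rw [h]; simp)
  rw [hc.cycleType, ← hc.orderOf, h]

theorem exists_conj_c0 (H : Subgroup (Perm (Fin 6))) (hH : H.index = 6) :
    ∃ g : Perm (Fin 6), c0 ∈ H.map (MulAut.conj g).toMonoidHom := by
  have hcard := card_of_index_six H hH
  haveI : Fact (Nat.Prime 5) := ⟨by norm_num⟩
  obtain ⟨h, hh⟩ := exists_prime_orderOf_dvd_card' (G := H) 5 (by rw [hcard]; norm_num)
  have h1 : orderOf (h : Perm (Fin 6)) = 5 := by rw [Subgroup.orderOf_coe]; exact hh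
  have h2 : IsConj (h : Perm (Fin 6)) c0 := by
    rw [Perm.isConj_iff_cycleType_eq, cycleType_of_orderOf_five _ h1,
      cycleType_of_orderOf_five _ orderOf_c0]
  obtain ⟨g, hg⟩ := isConj_iff.1 h2
  exact ⟨g, (h : Perm (Fin 6)), h.2, hg⟩

theorem index_map_conj (g : Perm (Fin 6)) (H : Subgroup (Perm (Fin 6))) (hH : H.index = 6) :
    (H.map (MulAut.conj g).toMonoidHom).index = 6 := by
  apply index_six_of_card
  rw [card_map_conj]
  exact card_of_index_six H hH

/-- Every subgroup of index six is conjugate to the stabiliser of `5` or to `H2`. -/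
theorem classify (H : Subgroup (Perm (Fin 6))) (hH : H.index = 6) :
    ∃ g : Perm (Fin 6),
      (MulAction.stabilizer (Perm (Fin 6)) (5 : Fin 6)).map (MulAut.conj g).toMonoidHom = H ∨
      H2.map (MulAut.conj g).toMonoidHom = H := by
  obtain ⟨g, hg⟩ := exists_conj_c0 H hH
  have hback : (H.map (MulAut.conj g).toMonoidHom).map (MulAut.conj g⁻¹).toMonoidHom = H := by
    rw [map_conj_map_conj, inv_mul_cancel, map_conj_one]
  refine ⟨g⁻¹, ?_⟩
  rcases eq_stabilizer_or_eq_H2 _ (index_map_conj g H hH) hg with h | h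
  · left; rw [← h]; exact hback
  · right; rw [← h]; exact hback

theorem H2_moves : ∀ a : Fin 6, ∃ h ∈ H2list, h a ≠ a := by decide +kernel

theorem H2_ne_stabilizer (a : Fin 6) : H2 ≠ MulAction.stabilizer (Perm (Fin 6)) a := by
  intro h
  obtain ⟨x, hx, hxa⟩ := H2_moves a
  have : x ∈ H2 := mem_H2_iff.2 hx
  rw [h, MulAction.mem_stabilizer_iff, Perm.smul_def] at this
  exact hxa this

theorem map_conj_H2_ne_stabilizer (g : Perm (Fin 6)) (a : Fin 6) :
    H2.map (MulAut.conj g).toMonoidHom ≠ MulAction.stabilizer (Perm (Fin 6)) a := by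
  intro h
  have h1 : H2 = (MulAction.stabilizer (Perm (Fin 6)) a).map (MulAut.conj g⁻¹).toMonoidHom := by
    rw [← h, map_conj_map_conj, inv_mul_cancel, map_conj_one]
  rw [← MulAction.stabilizer_smul_eq_stabilizer_map_conj] at h1
  exact H2_ne_stabilizer _ h1

theorem stabilizer_injective :
    Function.Injective (fun a : Fin 6 => MulAction.stabilizer (Perm (Fin 6)) a) := by
  intro a b hab
  by_contra hne
  have hc : ∀ a b : Fin 6, ∃ c : Fin 6, c ≠ a ∧ c ≠ b := by decide
  obtain ⟨c, hca, hcb⟩ := hc a b
  have h1 : swap b c ∈ MulAction.stabilizer (Perm (Fin 6)) a := by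
    rw [MulAction.mem_stabilizer_iff, Perm.smul_def]
    exact swap_apply_of_ne_of_ne hne (Ne.symm hca)
  have hab' : MulAction.stabilizer (Perm (Fin 6)) a = MulAction.stabilizer (Perm (Fin 6)) b := hab
  rw [hab', MulAction.mem_stabilizer_iff, Perm.smul_def, swap_apply_left] at h1
  exact hcb h1

/-- A subgroup of index six is its own normaliser. -/
theorem eq_of_normalizes (H N : Subgroup (Perm (Fin 6))) (hH : H.index = 6) (hle : H ≤ N)
    (hn : ∀ g ∈ N, ∀ x ∈ H, g * x * g⁻¹ ∈ H) : N = H := by
  have hcard := card_of_index_six H hH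
  have hdvd : N.index ∣ 6 := by
    have := Subgroup.index_dvd_of_le hle
    rwa [hH] at this
  have hNcard := N.index_mul_card
  rw [card_perm_six] at hNcard
  by_cases h6 : N.index = 6
  · symm
    apply Subgroup.eq_of_le_of_card_ge hle
    rw [h6] at hNcard
    omega
  exfalso
  -- the core of `N` has index dividing `6`
  have hfac' : ∀ k : ℕ, k ∣ 6 → k ≠ 6 → k.factorial ∣ 6 := by
    intro k hk hk6
    have hle6 : k ≤ 6 := Nat.le_of_dvd (by norm_num) hk
    interval_cases k <;>
      first | (exfalso; revert hk; decide) | (exfalso; exact hk6 rfl) | decide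
  have hfac : (N.index).factorial ∣ 6 := hfac' _ hdvd h6
  have hcore : N.normalCore.index ∣ 6 := by
    refine dvd_trans ?_ hfac
    rw [Subgroup.normalCore_eq_ker, Subgroup.index_ker, Subgroup.index_eq_card, ← Nat.card_perm]
    exact Subgroup.card_subgroup_dvd_card (MulAction.toPermHom (Perm (Fin 6)) (Perm (Fin 6) ⧸ N)).range
  have hcorecard := N.normalCore.index_mul_card
  rw [card_perm_six] at hcorecard
  have hcore120 : 120 ≤ Nat.card N.normalCore := by
    have : N.normalCore.index ≤ 6 := Nat.le_of_dvd (by norm_num) hcore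
    nlinarith
  have hne : N.normalCore ≠ ⊥ := by
    intro h
    rw [h, Subgroup.card_bot] at hcore120
    omega
  have hA : alternatingGroup (Fin 6) ≤ N :=
    le_trans (alt_le_of_normal N.normalCore hne) (Subgroup.normalCore_le N)
  -- `H ⊓ A₆` is normal in `A₆`
  haveI hsimple : IsSimpleGroup (alternatingGroup (Fin 6)) :=
    alternatingGroup.isSimpleGroup (by simp)
  haveI hnormal : (H.subgroupOf (alternatingGroup (Fin 6))).Normal := by
    constructor
    intro n hn' g
    rw [Subgroup.mem_subgroupOf] at hn' ⊢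
    exact hn g (hA g.2) n hn'
  rcases hnormal.eq_bot_or_eq_top with h | h
  · rw [Subgroup.subgroupOf_eq_bot] at h
    have h1 := Cfsg.Agent.Helper5.card_mul_set_mul_card_inf H (alternatingGroup (Fin 6))
    rw [disjoint_iff.1 h, Subgroup.card_bot, hcard, card_alt_six, mul_one] at h1
    have h2 : Nat.card ((H : Set (Perm (Fin 6))) * (alternatingGroup (Fin 6) : Set (Perm (Fin 6))) :
        Set (Perm (Fin 6))) ≤ Nat.card (Perm (Fin 6)) := Finite.card_subtype_le _
    rw [h1, card_perm_six] at h2
    omega
  · rw [Subgroup.subgroupOf_eq_top] at h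
    have := Subgroup.card_le_of_le h
    rw [card_alt_six, hcard] at this
    omega

/-- There are exactly twelve subgroups of index six. -/
theorem card_index_six : Nat.card {H : Subgroup (Perm (Fin 6)) // H.index = 6} = 12 := by
  classical
  letI act : MulAction (Perm (Fin 6)) (Subgroup (Perm (Fin 6))) :=
    MulAction.compHom _ (MulAut.conj : Perm (Fin 6) →* MulAut (Perm (Fin 6)))
  have hsmul : ∀ (g : Perm (Fin 6)) (K : Subgroup (Perm (Fin 6))),
      g • K = K.map (MulAut.conj g).toMonoidHom := fun g K => smul_eq_map_conj g K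
  have hS : {H : Subgroup (Perm (Fin 6)) | H.index = 6} =
      Set.range (fun a : Fin 6 => MulAction.stabilizer (Perm (Fin 6)) a) ∪
        MulAction.orbit (Perm (Fin 6)) H2 := by
    ext H
    rw [Set.mem_ofPred_eq, Set.mem_union, Set.mem_range, MulAction.mem_orbit_iff]
    constructor
    · intro hH
      obtain ⟨g, hg | hg⟩ := classify H hH
      · left
        refine ⟨g • (5 : Fin 6), ?_⟩
        rw [← hg]
        exact MulAction.stabilizer_smul_eq_stabilizer_map_conj g (5 : Fin 6)
      · right
        exact ⟨g, by rw [hsmul]; exact hg⟩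
    · rintro (⟨a, rfl⟩ | ⟨g, rfl⟩)
      · exact index_six_of_card _ (card_stabilizer a)
      · rw [hsmul]; exact index_map_conj g H2 index_H2
  have hdisj : Disjoint (Set.range (fun a : Fin 6 => MulAction.stabilizer (Perm (Fin 6)) a))
      (MulAction.orbit (Perm (Fin 6)) H2) := by
    rw [Set.disjoint_left]
    rintro _ ⟨a, rfl⟩ ⟨g, hg⟩
    have hg' : g • H2 = MulAction.stabilizer (Perm (Fin 6)) a := hg
    rw [hsmul] at hg'
    exact map_conj_H2_ne_stabilizer g a hg'
  have hA : (Set.range (fun a : Fin 6 => MulAction.stabilizer (Perm (Fin 6)) a)).ncard = 6 := by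
    rw [← Set.image_univ, Set.ncard_image_of_injective _ stabilizer_injective, Set.ncard_univ]
    simp
  have hstab : MulAction.stabilizer (Perm (Fin 6)) H2 = H2 := by
    apply eq_of_normalizes H2 _ index_H2
    · intro h hh
      rw [MulAction.mem_stabilizer_iff, hsmul]
      ext x
      rw [mem_map_conj]
      constructor
      · intro hx
        have : x = h * (h⁻¹ * x * h) * h⁻¹ := by group
        rw [this]
        exact H2.mul_mem (H2.mul_mem hh hx) (H2.inv_mem hh)
      · intro hx
        exact H2.mul_mem (H2.mul_mem (H2.inv_mem hh) hx) hh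
    · intro g hg x hx
      rw [MulAction.mem_stabilizer_iff, hsmul] at hg
      rw [← hg, mem_map_conj]
      have : g⁻¹ * (g * x * g⁻¹) * g = x := by group
      rw [this]; exact hx
  have hB : (MulAction.orbit (Perm (Fin 6)) H2).ncard = 6 := by
    rw [← MulAction.index_stabilizer, hstab, index_H2]
  show Nat.card ↑{H : Subgroup (Perm (Fin 6)) | H.index = 6} = 12
  rw [Nat.card_coe_set_eq, hS, Set.ncard_union_eq hdisj (Set.toFinite _) (Set.toFinite _), hA, hB]

end Cfsg.Agent.Helper4.S6Index
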