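import Cfsg.Agent.Helper4.S6IndexD

/-!
# Subgroups of index six in the symmetric group of degree six, part E

Transport of the classification to the symmetric group of an arbitrary six-element type.
-/

set_option autoImplicit false

namespace Cfsg.Agent.Helper4.S6Index

open Equiv

theorem map_conj_map_equiv {G G' : Type*} [Group G] [Group G'] (ψ : G ≃* G') (g : G)
    (H : Subgroup G) :
    (H.map (MulAut.conj g).toMonoidHom).map ψ.toMonoidHom =
      (H.map ψ.toMonoidHom).map (MulAut.conj (ψ g)).toMonoidHom := by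
  rw [Subgroup.map_map, Subgroup.map_map]
  congr 1
  ext x
  simp

theorem map_symm_map {G G' : Type*} [Group G] [Group G'] (ψ : G ≃* G') (H : Subgroup G') :
    (H.map ψ.symm.toMonoidHom).map ψ.toMonoidHom = H := by
  rw [Subgroup.map_map]
  convert Subgroup.map_id H
  ext x
  simp

theorem exists_two_classes {Ω : Type*} [Fintype Ω] [DecidableEq Ω] (h6 : Fintype.card Ω = 6) :
    ∃ H₁ H₂ : Subgroup (Perm Ω), H₁.index = 6 ∧ H₂.index = 6 ∧
      (¬ ∃ g : Perm Ω, Subgroup.map (MulAut.conj g).toMonoidHom H₁ = H₂) ∧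
      ∀ H : Subgroup (Perm Ω), H.index = 6 →
        ∃ g : Perm Ω, Subgroup.map (MulAut.conj g).toMonoidHom H₁ = H ∨
          Subgroup.map (MulAut.conj g).toMonoidHom H₂ = H := by
  let e : Fin 6 ≃ Ω := (Fintype.equivFinOfCardEq h6).symm
  let ψ : Perm (Fin 6) ≃* Perm Ω := e.permCongrHom
  have hidx : ∀ K : Subgroup (Perm (Fin 6)), (K.map ψ.toMonoidHom).index = K.index :=
    fun K => Subgroup.index_map_equiv K ψ
  have hidx' : ∀ K : Subgroup (Perm Ω), (K.map ψ.symm.toMonoidHom).index = K.index :=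
    fun K => Subgroup.index_map_equiv K ψ.symm
  have hinj : Function.Injective (Subgroup.map ψ.toMonoidHom) :=
    Subgroup.map_injective ψ.injective
  refine ⟨(MulAction.stabilizer (Perm (Fin 6)) (5 : Fin 6)).map ψ.toMonoidHom,
    H2.map ψ.toMonoidHom, ?_, ?_, ?_, ?_⟩
  · rw [hidx]; exact index_six_of_card _ (card_stabilizer 5)
  · rw [hidx]; exact index_H2
  · rintro ⟨g, hg⟩
    obtain ⟨g', rfl⟩ := ψ.surjective g
    rw [← map_conj_map_equiv] at hg
    have h1 := hinj hg
    rw [← MulAction.stabilizer_smul_eq_stabilizer_map_conj] at h1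
    exact H2_ne_stabilizer _ h1.symm
  · intro H hH
    obtain ⟨g', hg'⟩ := classify (H.map ψ.symm.toMonoidHom) (by rw [hidx']; exact hH)
    refine ⟨ψ g', ?_⟩
    rw [← map_conj_map_equiv, ← map_conj_map_equiv]
    rcases hg' with h | h
    · left; rw [h, map_symm_map]
    · right; rw [h, map_symm_map]

end Cfsg.Agent.Helper4.S6Index
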