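import Mathlib
import Cfsg.Prelude.Def_Solvable
import Cfsg.Agent.Helper4.FrobeniusSemidirect

set_option autoImplicit false

/-!
`SL(2,3)` is a Frobenius complement: it embeds in `SL(2,5)` (explicit table) and so acts
fixed-point-freely on `(ZMod 5)²`.
-/

namespace Cfsg.Agent.Helper4.SL23Frob

/-- lookup table for an embedding SL(2,3) → SL(2,5) -/
def tab : Fin 3 → Fin 3 → Fin 3 → Fin 3 → Matrix (Fin 2) (Fin 2) (ZMod 5) :=
  ![![![![!![0, 0; 0, 0], !![0, 0; 0, 0], !![0, 0; 0, 0]], ![!![0, 0; 0, 0], !![0, 0; 0, 0], !![0, 0; 0, 0]], ![!![0, 0; 0, 0], !![0, 0; 0, 0], !![0, 0; 0, 0]]], ![![!![0, 0; 0, 0], !![0, 0; 0, 0], !![0, 0; 0, 0]], ![!![0, 0; 0, 0], !![0, 0; 0, 0], !![0, 0; 0, 0]], ![!![0, 4; 1, 0], !![2, 4; 3, 4], !![3, 2; 1, 1]]], ![![!![0, 0; 0, 0], !![0, 0; 0, 0], !![0, 0; 0, 0]], ![!![0, 1; 4, 0], !![2, 3; 4, 4], !![3, 1; 2, 1]], ![!![0, 0; 0, 0], !![0, 0; 0, 0], !![0, 0; 0, 0]]]], ![![![!![0,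 0; 0, 0], !![1, 0; 0, 1], !![0, 0; 0, 0]], ![!![0, 0; 0, 0], !![1, 2; 1, 3], !![0, 0; 0, 0]], ![!![0, 0; 0, 0], !![3, 3; 4, 1], !![0, 0; 0, 0]]], ![![!![0, 0; 0, 0], !![1, 1; 2, 3], !![0, 0; 0, 0]], ![!![0, 0; 0, 0], !![0, 0; 0, 0], !![0, 2; 2, 0]], ![!![4, 2; 1, 2], !![0, 0; 0, 0], !![0, 0; 0, 0]]], ![![!![0, 0; 0, 0], !![3, 4; 3, 1], !![0, 0; 0, 0]], ![!![4, 1; 2, 2], !![0, 0; 0, 0], !![0, 0; 0, 0]], ![!![0, 0; 0, 0], !![0, 0; 0, 0], !![3, 0; 0, 2]]]], ![![![!![0, 0; 0, 0], !![0, 0; 0, 0], !![4, 0; 0, 4]], ![!![0, 0; 0, 0], !![0, 0; 0, 0], !![2, 2; 1, 4]], ![!![0, 0; 0, 0], !![0, 0; 0, 0], !![4, 3; 4, 2]]], ![![!![0, 0; 0, 0], !![0, 0; 0, 0], !![2, 1; 2, 4]], ![!![0, 0; 0, 0], !![2, 0; 0, 3], !![0, 0; 0, 0]], ![!![1, 4; 3, 3], !![0, 0; 0, 0], !![0, 0; 0, 0]]], ![![!![0, 0; 0, 0], !![0, 0; 0, 0], !![4, 4; 3, 2]], ![!![1, 3; 4, 3], !![0, 0; 0, 0], !![0, 0; 0, 0]], ![!![0, 0; 0, 0], !![0, 3; 3, 0], !![0,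 0; 0, 0]]]]]

/-- the embedding, as a map to matrices -/
def emb (A : Matrix.SpecialLinearGroup (Fin 2) (ZMod 3)) : Matrix (Fin 2) (Fin 2) (ZMod 5) :=
  tab (A.1 0 0) (A.1 0 1) (A.1 1 0) (A.1 1 1)

theorem emb_mul : ∀ A B : Matrix.SpecialLinearGroup (Fin 2) (ZMod 3),
    emb (A * B) = emb A * emb B := by
  decide +kernel

theorem emb_one : emb 1 = 1 := by
  decide +kernel

theorem emb_fpf : ∀ A : Matrix.SpecialLinearGroup (Fin 2) (ZMod 3), A ≠ 1 →
    ∀ v : Fin 2 → ZMod 5, (emb A).mulVec v = v → v = 0 := by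
  decide +kernel

/-- the vector group -/
abbrev V5 : Type := Multiplicative (Fin 2 → ZMod 5)

/-- the action of SL(2,3) on (ZMod 5)² through the embedding -/
@[reducible] def act : MulDistribMulAction (Matrix.SpecialLinearGroup (Fin 2) (ZMod 3)) V5 where
  smul A v := Multiplicative.ofAdd ((emb A).mulVec (Multiplicative.toAdd v))
  one_smul v := by
    change Multiplicative.ofAdd ((emb 1).mulVec (Multiplicative.toAdd v)) = v
    rw [emb_one, Matrix.one_mulVec]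
    rfl
  mul_smul A B v := by
    change Multiplicative.ofAdd ((emb (A * B)).mulVec (Multiplicative.toAdd v)) =
      Multiplicative.ofAdd ((emb A).mulVec ((emb B).mulVec (Multiplicative.toAdd v)))
    rw [emb_mul, Matrix.mulVec_mulVec]
  smul_mul A v w := by
    change Multiplicative.ofAdd ((emb A).mulVec (Multiplicative.toAdd v + Multiplicative.toAdd w)) =
      Multiplicative.ofAdd ((emb A).mulVec (Multiplicative.toAdd v)) *
        Multiplicative.ofAdd ((emb A).mulVec (Multiplicative.toAdd w))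
    rw [Matrix.mulVec_add]
    rfl
  smul_one A := by
    change Multiplicative.ofAdd ((emb A).mulVec 0) = 1
    rw [Matrix.mulVec_zero]
    rfl

/-- the homomorphism to automorphisms -/
def phi : Matrix.SpecialLinearGroup (Fin 2) (ZMod 3) →* MulAut V5 :=
  letI := act
  MulDistribMulAction.toMulAut _ _

theorem phi_apply (A : Matrix.SpecialLinearGroup (Fin 2) (ZMod 3)) (v : V5) :
    phi A v = Multiplicative.ofAdd ((emb A).mulVec (Multiplicative.toAdd v)) := rfl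

instance instNontrivialSL23 : Nontrivial (Matrix.SpecialLinearGroup (Fin 2) (ZMod 3)) := by
  refine ⟨⟨1, ⟨!![1, 1; 0, 1], by decide⟩, ?_⟩⟩
  intro h
  have h2 := congrArg (fun M : Matrix.SpecialLinearGroup (Fin 2) (ZMod 3) => M.1 0 1) h
  revert h2
  simp

instance instNontrivialV5 : Nontrivial V5 := by
  haveI : Fact (1 < 5) := ⟨by norm_num⟩
  exact inferInstanceAs (Nontrivial (Multiplicative (Fin 2 → ZMod 5)))

theorem isFrobeniusComplement :
    Cfsg.IsFrobeniusComplement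
      ((SemidirectProduct.inr : Matrix.SpecialLinearGroup (Fin 2) (ZMod 3) →* V5 ⋊[phi] _).range) := by
  apply Cfsg.Agent.Helper4.isFrobeniusComplement_inr_range
  intro A hA v hv
  rw [phi_apply] at hv
  have h1 : (emb A).mulVec (Multiplicative.toAdd v) = Multiplicative.toAdd v := by
    have := congrArg Multiplicative.toAdd hv
    simpa using this
  have h2 := emb_fpf A hA _ h1
  have := congrArg Multiplicative.ofAdd h2
  simpa using this

end Cfsg.Agent.Helper4.SL23Frob
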