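import Mathlib
import Cfsg.Prelude.Def_GeometricClasses
import Cfsg.Agent.Helper7.ExSpB

set_option autoImplicit false

/-! Row S5981, the exceptional case `n = r ∈ {3, 5}`, `(q - 1)_r = r` (helper4): part A.
An element `x` of `SL_r(F)` with `x ^ r` scalar satisfies `x ^ r = 1`, and is diagonalisable. -/

namespace Cfsg.Agent.Helper4.SLOExc

open Matrix Module Polynomial

variable {F : Type*} [Field F]

/-- if `(q - 1)_r = r` then an element of order `r` of `F` is no `r`-th power. -/
theorem not_pow_of_val [Fintype F] (r : ℕ) [hr : Fact r.Prime]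
    (hv : padicValNat r (Fintype.card F - 1) = 1) {z : F} (hzr : z ^ r = 1) (hz1 : z ≠ 1)
    (b : F) : b ^ r ≠ z := by
  intro hb
  have hb0 : b ≠ 0 := by
    rintro rfl
    rw [zero_pow hr.out.ne_zero] at hb
    rw [← hb, zero_pow hr.out.ne_zero] at hzr
    exact zero_ne_one hzr
  have h1 : b ^ (r ^ 2) = 1 := by rw [pow_two, pow_mul, hb, hzr]
  have h2 : orderOf b ∣ r ^ 2 := orderOf_dvd_of_pow_eq_one h1
  have h3 : ¬ orderOf b ∣ r := by
    intro h
    apply hz1
    rw [← hb]
    exact orderOf_dvd_iff_pow_eq_one.mp h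
  obtain ⟨m, hm, hom⟩ := (Nat.dvd_prime_pow hr.out).mp h2
  have hm2 : m = 2 := by
    interval_cases m
    · exfalso; apply h3; rw [hom, pow_zero]; exact one_dvd _
    · exfalso; apply h3; rw [hom, pow_one]
    · rfl
  have h4 : orderOf b ∣ Fintype.card F - 1 :=
    orderOf_dvd_of_pow_eq_one (FiniteField.pow_card_sub_one_eq_one b hb0)
  rw [hom, hm2] at h4
  have hq1 : Fintype.card F - 1 ≠ 0 := by
    have := Fintype.one_lt_card (α := F)
    omega
  have := (padicValNat_dvd_iff_le hq1).mp h4
  omega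

/-- a matrix of determinant one of odd prime degree `r` whose `r`-th power is the scalar `z`:
if `(q - 1)_r = r` then `z = 1`. -/
theorem scalar_eq_one [Fintype F] (r : ℕ) [hr : Fact r.Prime] (hodd : Odd r)
    (hv : padicValNat r (Fintype.card F - 1) = 1)
    (M : Matrix (Fin r) (Fin r) F) (hdet : M.det = 1) (z : F)
    (hz : M ^ r = z • (1 : Matrix (Fin r) (Fin r) F)) : z = 1 := by
  have hzr : z ^ r = 1 := by
    have h := congrArg Matrix.det hz
    rw [Matrix.det_pow, hdet, one_pow, Matrix.det_smul, Matrix.det_one, mul_one,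
      Fintype.card_fin] at h
    exact h.symm
  by_contra hz1
  have hirr : Irreducible (X ^ r - C z : F[X]) :=
    X_pow_sub_C_irreducible_of_prime hr.out (not_pow_of_val r hv hzr hz1)
  have haeval : aeval M (X ^ r - C z : F[X]) = 0 := by
    rw [map_sub, map_pow, aeval_X, aeval_C, hz, Algebra.algebraMap_eq_smul_one, sub_self]
  have hmon : (X ^ r - C z : F[X]).Monic := monic_X_pow_sub_C z hr.out.ne_zero
  have hmin : minpoly F M ∣ X ^ r - C z := minpoly.dvd F M haeval
  have hint : IsIntegral F M := Matrix.isIntegral M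
  have hmineq : minpoly F M = X ^ r - C z := by
    obtain ⟨q, hq⟩ := hmin
    rcases hirr.isUnit_or_isUnit hq with h | h
    · exact absurd h (minpoly.not_isUnit F M)
    · apply eq_of_monic_of_associated (minpoly.monic hint) hmon
      rw [hq]
      exact (associated_mul_unit_right _ _ h)
  have hchar : M.charpoly = X ^ r - C z := by
    have hd := Matrix.minpoly_dvd_charpoly M
    rw [hmineq] at hd
    apply Polynomial.eq_of_monic_of_dvd_of_natDegree_le hmon (Matrix.charpoly_monic M) hd
    rw [Matrix.charpoly_natDegree_eq_dim, Fintype.card_fin, natDegree_X_pow_sub_C]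
  have hdet' := Matrix.det_eq_sign_charpoly_coeff M
  rw [hchar, hdet, Fintype.card_fin, hodd.neg_one_pow, coeff_sub, coeff_X_pow, coeff_C_zero,
    if_neg (Ne.symm hr.out.ne_zero)] at hdet'
  apply hz1
  rw [hdet']
  ring

/-- a primitive `r`-th root of unity. -/
theorem exists_root [Fintype F] (r : ℕ) [hr : Fact r.Prime] (hrq : r ∣ Fintype.card F - 1) :
    ∃ ω : F, ω ^ r = 1 ∧ ω ≠ 1 := by
  classical
  obtain ⟨u, hu⟩ := exists_prime_orderOf_dvd_card (G := Fˣ) r (by rw [Fintype.card_units]; exact hrq)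
  refine ⟨(u : F), ?_, ?_⟩
  · rw [← Units.val_pow_eq_pow_val, ← hu, pow_orderOf_eq_one, Units.val_one]
  · intro h
    have h1 : u = 1 := Units.ext h
    rw [h1, orderOf_one] at hu
    exact hr.out.one_lt.ne hu

/-- an operator with `T ^ r = 1` over a field with a primitive `r`-th root of unity has a basis
of eigenvectors. -/
theorem exists_eigenbasis {n r : ℕ} (hr : r.Prime) {ω : F} (hω : ω ^ r = 1) (hω1 : ω ≠ 1)
    (T : Module.End F (Fin n → F)) (hT : T ^ r = 1) :
    ∃ (v : Basis (Fin n) F (Fin n → F)) (μ : Fin n → F),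
      (∀ i, T (v i) = μ i • v i) ∧ ∀ i, μ i ^ r = 1 := by
  classical
  have htop : ⨆ μ, Module.End.eigenspace T μ = ⊤ := by
    rw [eq_top_iff]
    refine (Cfsg.Agent.Helper7.ExSp.le_iSup_inf_eig hr hT hω hω1 ⊤ (fun _ _ => trivial)).trans ?_
    apply iSup₂_le
    intro k _
    exact inf_le_right.trans (le_iSup (fun μ => Module.End.eigenspace T μ) (ω ^ k))
  have hind := T.eigenspaces_iSupIndep
  have hint := DirectSum.isInternal_submodule_of_iSupIndep_of_iSup_eq_top hind htop
  let b := hint.collectedBasis (fun μ => Module.finBasis F (T.eigenspace μ))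
  have : Finite (Σ μ : F, Fin (finrank F (T.eigenspace μ))) := Module.Finite.finite_basis b
  let _ : Fintype (Σ μ : F, Fin (finrank F (T.eigenspace μ))) := Fintype.ofFinite _
  have hb : ∀ i, T (b i) = i.1 • b i := by
    rintro ⟨μ, k⟩
    have hmem : b ⟨μ, k⟩ ∈ T.eigenspace μ :=
      hint.collectedBasis_mem (fun μ => Module.finBasis F (T.eigenspace μ)) ⟨μ, k⟩
    exact Module.End.mem_eigenspace_iff.mp hmem
  have hcard : Fintype.card (Σ μ : F, Fin (finrank F (T.eigenspace μ))) = n := by
    rw [← Module.finrank_eq_card_basis b, Module.finrank_fin_fun]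
  let e := Fintype.equivFinOfCardEq hcard
  refine ⟨b.reindex e, fun i => (e.symm i).1, fun i => ?_, fun i => ?_⟩
  · rw [Basis.reindex_apply]
    exact hb _
  · have hpow : ∀ k : ℕ, (T ^ k) (b (e.symm i)) = (e.symm i).1 ^ k • b (e.symm i) := by
      intro k
      induction k with
      | zero => simp
      | succ k ih =>
        rw [pow_succ', Module.End.mul_apply, ih, map_smul, hb, smul_smul, pow_succ]
    have h1 := hpow r
    rw [hT, Module.End.one_apply] at h1
    have hne : b (e.symm i) ≠ 0 := b.ne_zero _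
    have h2 : ((e.symm i).1 ^ r - 1) • b (e.symm i) = 0 := by
      rw [sub_smul, one_smul, ← h1, sub_self]
    rcases smul_eq_zero.mp h2 with h | h
    · exact sub_eq_zero.mp h
    · exact absurd h hne

/-- the determinant of an operator that is diagonal in a basis. -/
theorem det_of_eigenbasis {n : ℕ} (T : Module.End F (Fin n → F)) (v : Basis (Fin n) F (Fin n → F))
    (μ : Fin n → F) (hv : ∀ i, T (v i) = μ i • v i) : LinearMap.det T = ∏ i, μ i := by
  have h : LinearMap.toMatrix v v T = Matrix.diagonal μ := by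
    ext i j
    rw [LinearMap.toMatrix_apply, hv j, map_smul, Basis.repr_self, Finsupp.smul_apply,
      Finsupp.single_apply, Matrix.diagonal_apply, smul_eq_mul]
    by_cases hij : i = j
    · rw [if_pos hij, if_pos hij.symm, mul_one, hij]
    · rw [if_neg hij, if_neg (Ne.symm hij), mul_zero]
  rw [← LinearMap.det_toMatrix v, h, Matrix.det_diagonal]

/-- an operator that is a scalar on a basis is that scalar. -/
theorem eq_smul_of_eigenbasis {n : ℕ} (M : Matrix (Fin n) (Fin n) F)
    (v : Basis (Fin n) F (Fin n → F)) (c : F) (hv : ∀ i, M *ᵥ v i = c • v i) :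
    M = c • (1 : Matrix (Fin n) (Fin n) F) := by
  apply Matrix.toLin'.injective
  apply v.ext
  intro i
  rw [Matrix.toLin'_apply, hv, map_smul, Matrix.toLin'_one, LinearMap.smul_apply,
    LinearMap.id_apply]

/-- conjugating an operator with an eigenbasis `v` to an operator with a prescribed eigenbasis `b`,
by a matrix of determinant one. -/
theorem exists_conj {n : ℕ} (hn : 0 < n) (x : GL (Fin n) F) (v b : Basis (Fin n) F (Fin n → F))
    (μ : Fin n → F) (hv : ∀ i, (x : Matrix (Fin n) (Fin n) F) *ᵥ v i = μ i • v i) :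
    ∃ g : GL (Fin n) F, g ∈ Cfsg.Geo.specialLinear (Fin n) F ∧
      ∀ i, ((g⁻¹ * x * g : GL (Fin n) F) : Matrix (Fin n) (Fin n) F) *ᵥ b i = μ i • b i := by
  classical
  set i0 : Fin n := ⟨0, hn⟩ with hi0
  have hδ : IsUnit (b.det v) := b.isUnit_det v
  set δ : F := b.det v with hδdef
  have hδ0 : δ ≠ 0 := hδ.ne_zero
  set t : Fin n → F := Function.update (fun _ => (1 : F)) i0 δ⁻¹ with ht
  have hprod : ∏ i, t i = δ⁻¹ := by
    rw [ht, Finset.prod_update_of_mem (Finset.mem_univ i0)]
    simp
  set G : (Fin n → F) →ₗ[F] (Fin n → F) := b.constr ℕ (fun i => t i • v i) with hG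
  have hGb : ∀ i, G (b i) = t i • v i := fun i => b.constr_basis ℕ _ i
  have hdetG : LinearMap.det G = 1 := by
    have h3 : b.det (fun i => t i • v i) = (∏ i, t i) • b.det v :=
      (b.det.toMultilinearMap).map_smul_univ t v
    rw [← LinearMap.det_toMatrix b, hG, ← Basis.toMatrix_eq_toMatrix_constr, ← Basis.det_apply,
      h3, hprod, smul_eq_mul, ← hδdef, inv_mul_cancel₀ hδ0]
  set M : Matrix (Fin n) (Fin n) F := LinearMap.toMatrix' G with hM
  have hdetM : M.det = 1 := by
    rw [hM, LinearMap.det_toMatrix']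
    exact hdetG
  set g : GL (Fin n) F := Matrix.GeneralLinearGroup.mk'' M (by rw [hdetM]; exact isUnit_one) with hg
  have hgM : (g : Matrix (Fin n) (Fin n) F) = M := rfl
  have hgb : ∀ i, (g : Matrix (Fin n) (Fin n) F) *ᵥ b i = t i • v i := by
    intro i
    rw [hgM, hM, LinearMap.toMatrix'_mulVec]
    exact hGb i
  refine ⟨g, ?_, fun i => ?_⟩
  · show g ∈ (Matrix.GeneralLinearGroup.det).ker
    rw [MonoidHom.mem_ker]
    apply Units.ext
    rw [Matrix.GeneralLinearGroup.val_det_apply, hgM, hdetM, Units.val_one]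
  · have h1 : ((g⁻¹ : GL (Fin n) F) : Matrix (Fin n) (Fin n) F) *ᵥ
        ((g : Matrix (Fin n) (Fin n) F) *ᵥ b i) = b i := by
      rw [mulVec_mulVec, ← Units.val_mul, inv_mul_cancel, Units.val_one, one_mulVec]
    rw [Units.val_mul, Units.val_mul, ← mulVec_mulVec, ← mulVec_mulVec, hgb, mulVec_smul, hv,
      smul_comm, ← hgb, mulVec_smul, h1]

end Cfsg.Agent.Helper4.SLOExc
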