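import Mathlib
import Cfsg.Prelude.Def_GeometricClasses
import Cfsg.Agent.Helper1.SLOA
import Cfsg.Agent.Helper8.OrRSimOdd
import Cfsg.Agent.Helper4.SLOExcA

set_option autoImplicit false

/-! Row S5981, the exceptional case `n = r ∈ {3, 5}`, `(q - 1)_r = r` (helper4): part B.
A diagonalisable element of `SL_{2k+1}(F)` whose eigenvalues pair up as `λ_i λ_i' = λ_0 ^ 2` is
conjugate in `SL` to a similarity of any given nondegenerate quadratic form. -/

namespace Cfsg.Agent.Helper4.SLOExc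

open Matrix Module Cfsg.Geo Cfsg.Agent.Helper8.QuadForm Cfsg.Agent.Helper1.SLO

variable {F : Type*} [Field F]

/-- the diagonalisable element with paired eigenvalues. -/
theorem conj_of_eigen [Fintype F] {n k : ℕ} (hnk : n = 2 * k + 1) {Q : (Fin n → F) → F}
    (hQ : IsNondegenerateQuadraticForm Q) (x : GL (Fin n) F)
    (v : Basis (Fin n) F (Fin n → F)) (μ : Fin n → F) (hμ0 : ∀ i, μ i ≠ 0)
    (hv : ∀ i, (x : Matrix (Fin n) (Fin n) F) *ᵥ v i = μ i • v i)
    (σ : (Fin k ⊕ Fin k) ⊕ Unit ≃ Fin n)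
    (hσ : ∀ i : Fin k, μ (σ (Sum.inl (Sum.inl i))) * μ (σ (Sum.inl (Sum.inr i))) =
      μ (σ (Sum.inr ())) ^ 2) :
    ∃ g ∈ specialLinear (Fin n) F, g⁻¹ * x * g ∈ quadSimilarityGroup Q := by
  classical
  have hV : finrank F (Fin n → F) = 2 * k + 1 := by rw [Module.finrank_fin_fun, hnk]
  set Qf := bundleQ Q hQ with hQf
  have hnd : Nondeg Qf := bundleQ_nondeg Q hQ
  obtain ⟨e, f, W, hhyp, hperp, hWdim, hWnd⟩ := exists_hyp_family k Qf hnd 1 le_rfl hV
  obtain ⟨d, hdW, hdd, hd⟩ := ne_zero_of_line Qf hWdim hWnd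
  obtain ⟨b, hb⟩ := Cfsg.Agent.Helper8.OrR.exists_odd_basis Qf hhyp hV (hperp d hdW) hdd
  set c : F := μ (σ (Sum.inr ())) ^ 2 with hc
  have hc0 : c ≠ 0 := pow_ne_zero 2 (hμ0 _)
  obtain ⟨h1, h2, h3⟩ := hhyp
  have hp := hperp d hdW
  obtain ⟨y, hy, hyb⟩ := exists_similarity Qf hnd b (fun j => μ (σ j) • b j) hc0
    (by
      intro j
      rw [hb, QuadraticMap.map_smul]
      rcases j with (i | i) | i
      · simp only [Sum.elim_inl]
        rw [(h1 i).1, smul_zero, mul_zero]
      · simp only [Sum.elim_inl, Sum.elim_inr]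
        rw [(h1 i).2, smul_zero, mul_zero]
      · simp only [Sum.elim_inr]
        rw [smul_eq_mul, hc, pow_two])
    (by
      intro i j
      rw [hb, QuadraticMap.polar_smul_left, QuadraticMap.polar_smul_right, smul_eq_mul,
        smul_eq_mul]
      rcases i with (i | i) | i <;> rcases j with (j | j) | j <;>
        simp only [Sum.elim_inl, Sum.elim_inr]
      · rw [(h3 i j).1, mul_zero, mul_zero, mul_zero]
      · rw [h2 i j]
        by_cases hij : i = j
        · rw [if_pos hij, mul_one, mul_one, ← hij, hσ i]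
        · rw [if_neg hij, mul_zero, mul_zero, mul_zero]
      · rw [(hp i).1, mul_zero, mul_zero, mul_zero]
      · rw [QuadraticMap.polar_comm, h2 j i]
        by_cases hij : j = i
        · rw [if_pos hij, mul_one, mul_one, hij, mul_comm, hσ i]
        · rw [if_neg hij, mul_zero, mul_zero, mul_zero]
      · rw [(h3 i j).2, mul_zero, mul_zero, mul_zero]
      · rw [(hp i).2, mul_zero, mul_zero, mul_zero]
      · rw [QuadraticMap.polar_comm, (hp j).1, mul_zero, mul_zero, mul_zero]
      · rw [QuadraticMap.polar_comm, (hp j).2, mul_zero, mul_zero, mul_zero]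
      · rw [← mul_assoc, hc, pow_two])
  have hn : 0 < n := by omega
  obtain ⟨g, hg, hgb⟩ := exists_conj hn x v (b.reindex σ) μ hv
  refine ⟨g, hg, Units.mk0 c hc0, fun w => ?_⟩
  have hyw : ((g⁻¹ * x * g : GL (Fin n) F) : Matrix (Fin n) (Fin n) F) *ᵥ w = y w := by
    have hlin : Matrix.toLin' ((g⁻¹ * x * g : GL (Fin n) F) : Matrix (Fin n) (Fin n) F) =
        (y : (Fin n → F) →ₗ[F] (Fin n → F)) := by
      apply (b.reindex σ).ext
      intro i
      rw [Matrix.toLin'_apply, hgb i, Basis.reindex_apply, LinearEquiv.coe_coe, hyb,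
        Equiv.apply_symm_apply]
    have := LinearMap.congr_fun hlin w
    rw [Matrix.toLin'_apply] at this
    exact this
  rw [hyw, Units.val_mk0]
  exact hy w

end Cfsg.Agent.Helper4.SLOExc
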