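import Mathlib
import Cfsg.Prelude.Def_GeometricClasses
import Cfsg.Agent.Helper4.SLOExcB

set_option autoImplicit false

/-! Row S5981, the exceptional case `n = r ∈ {3, 5}`, `(q - 1)_r = r` (helper4): part C,
the statement `conj_of_exc` asked for by helper1 (piece B of msg 2676). -/

namespace Cfsg.Agent.Helper4.SLOExc

open Matrix Module Cfsg.Geo

variable {F : Type*} [Field F]

/-- the pairing property of the eigenvalues. -/
def Pairing (k n : ℕ) (μ : Fin n → F) : Prop :=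
  ∃ σ : (Fin k ⊕ Fin k) ⊕ Unit ≃ Fin n, ∀ i : Fin k,
    μ (σ (Sum.inl (Sum.inl i))) * μ (σ (Sum.inl (Sum.inr i))) = μ (σ (Sum.inr ())) ^ 2

/-- the general argument, given the pairing property. -/
theorem conj_aux [Fintype F] (r : ℕ) [hr : Fact r.Prime] (k : ℕ) (hrk : r = 2 * k + 1)
    (hv : padicValNat r (Fintype.card F - 1) = 1) {Q : (Fin r → F) → F}
    (hQ : IsNondegenerateQuadraticForm Q)
    (x : GL (Fin r) F) (hx : x ∈ specialLinear (Fin r) F) (z : F)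
    (hz : ((x ^ r : GL (Fin r) F) : Matrix (Fin r) (Fin r) F) = z • (1 : Matrix (Fin r) (Fin r) F))
    (hns : ∀ z : F, (x : Matrix (Fin r) (Fin r) F) ≠ z • (1 : Matrix (Fin r) (Fin r) F))
    (hpair : ∀ μ : Fin r → F, (∀ i, μ i ^ r = 1) → ∏ i, μ i = 1 → (∃ i j, μ i ≠ μ j) →
      Pairing k r μ) :
    ∃ g ∈ specialLinear (Fin r) F, g⁻¹ * x * g ∈ quadSimilarityGroup Q := by
  have hodd : Odd r := ⟨k, hrk⟩
  have hdet : (x : Matrix (Fin r) (Fin r) F).det = 1 := by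
    have h1 : Matrix.GeneralLinearGroup.det x = 1 := MonoidHom.mem_ker.mp hx
    have h2 := congrArg Units.val h1
    rw [Matrix.GeneralLinearGroup.val_det_apply, Units.val_one] at h2
    exact h2
  rw [Units.val_pow_eq_pow_val] at hz
  have hz1 : z = 1 := scalar_eq_one r hodd hv _ hdet z hz
  rw [hz1, one_smul] at hz
  have hrq : r ∣ Fintype.card F - 1 := dvd_of_one_le_padicValNat (by rw [hv])
  obtain ⟨ω, hω, hω1⟩ := exists_root (F := F) r hrq
  have hT : (Matrix.toLin' (x : Matrix (Fin r) (Fin r) F)) ^ r = 1 := by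
    rw [← Matrix.toLin'_pow, hz, Matrix.toLin'_one]
    rfl
  obtain ⟨v, μ, hvμ, hμr⟩ := exists_eigenbasis hr.out hω hω1 _ hT
  have hvμ' : ∀ i, (x : Matrix (Fin r) (Fin r) F) *ᵥ v i = μ i • v i := by
    intro i
    rw [← Matrix.toLin'_apply]
    exact hvμ i
  have hμ0 : ∀ i, μ i ≠ 0 := by
    intro i h0
    have := hμr i
    rw [h0, zero_pow hr.out.ne_zero] at this
    exact zero_ne_one this
  have hprod : ∏ i, μ i = 1 := by
    rw [← det_of_eigenbasis _ v μ hvμ, LinearMap.det_toLin', hdet]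
  have hne : ∃ i j, μ i ≠ μ j := by
    by_contra hcon
    push Not at hcon
    apply hns (μ ⟨0, hr.out.pos⟩)
    apply eq_smul_of_eigenbasis _ v
    intro i
    rw [hvμ' i, hcon i ⟨0, hr.out.pos⟩]
  obtain ⟨σ, hσ⟩ := hpair μ hμr hprod hne
  exact conj_of_eigen hrk hQ x v μ hμ0 hvμ' σ hσ

/-- the pairing property in degree three. -/
theorem pairing_three (μ : Fin 3 → F) (hμ : ∀ i, μ i ^ 3 = 1) (hprod : ∏ i, μ i = 1) :
    Pairing 1 3 μ := by
  have hcard : Fintype.card ((Fin 1 ⊕ Fin 1) ⊕ Unit) = 3 := by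
    simp
  refine ⟨Fintype.equivFinOfCardEq hcard, fun i => ?_⟩
  set σ := Fintype.equivFinOfCardEq hcard with hσ
  have h1 : ∏ j, μ (σ j) = 1 := by
    rw [Equiv.prod_comp σ μ, hprod]
  rw [Fintype.prod_sum_type, Fintype.prod_sum_type, Fin.prod_univ_one, Fin.prod_univ_one,
    Fintype.prod_unique] at h1
  have hi : i = 0 := Subsingleton.elim _ _
  rw [hi]
  have h3 := hμ (σ (Sum.inr ()))
  have hd : (default : Unit) = () := rfl
  rw [hd] at h1
  linear_combination (-(μ (σ (Sum.inl (Sum.inl 0))) * μ (σ (Sum.inl (Sum.inr 0))))) * h3 +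
    μ (σ (Sum.inr ())) ^ 2 * h1

set_option maxRecDepth 100000 in
/-- the combinatorial fact in degree five. -/
theorem comb_five : ∀ a : Fin 5 → Fin 5, (5 ∣ ∑ i, (a i : ℕ)) → (∃ i j, a i ≠ a j) →
    ∃ σ : Equiv.Perm (Fin 5), 5 ∣ ((a (σ 0) : ℕ) + a (σ 1) + 3 * a (σ 4)) ∧
      5 ∣ ((a (σ 2) : ℕ) + a (σ 3) + 3 * a (σ 4)) := by
  decide +kernel

/-- the standard labelling of five points. -/
def tau : (Fin 2 ⊕ Fin 2) ⊕ Unit ≃ Fin 5 where
  toFun := Sum.elim (Sum.elim ![0, 2] ![1, 3]) (fun _ => 4)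
  invFun := ![Sum.inl (Sum.inl 0), Sum.inl (Sum.inr 0), Sum.inl (Sum.inl 1), Sum.inl (Sum.inr 1),
    Sum.inr ()]
  left_inv := by decide
  right_inv := by decide

/-- the pairing property in degree five. -/
theorem pairing_five {ω : F} (hω : ω ^ 5 = 1) (hω1 : ω ≠ 1) (μ : Fin 5 → F)
    (hμ : ∀ i, μ i ^ 5 = 1) (hprod : ∏ i, μ i = 1) (hne : ∃ i j, μ i ≠ μ j) :
    Pairing 2 5 μ := by
  have : Fact (Nat.Prime 5) := ⟨by norm_num⟩
  have hprim : IsPrimitiveRoot ω 5 := by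
    have := IsPrimitiveRoot.orderOf ω
    rwa [orderOf_eq_prime hω hω1] at this
  choose a ha5 haμ using fun i => hprim.eq_pow_of_pow_eq_one (hμ i)
  have hsum : 5 ∣ ∑ i, a i := by
    rw [← hprim.pow_eq_one_iff_dvd, ← Finset.prod_pow_eq_pow_sum]
    rw [← hprod]
    exact Finset.prod_congr rfl (fun i _ => haμ i)
  obtain ⟨i, j, hij⟩ := hne
  obtain ⟨σ, h1, h2⟩ := comb_five (fun i => ⟨a i, ha5 i⟩) hsum
    ⟨i, j, fun h => hij (by rw [← haμ i, ← haμ j, (Fin.mk.inj h : a i = a j)])⟩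
  simp only at h1 h2
  have key : ∀ i0 i1 i4 : Fin 5, 5 ∣ a i0 + a i1 + 3 * a i4 → μ i0 * μ i1 = μ i4 ^ 2 := by
    intro i0 i1 i4 h
    have e1 : μ i0 * μ i1 * μ i4 ^ 3 = 1 := by
      rw [← haμ i0, ← haμ i1, ← haμ i4, ← pow_mul, ← pow_add, ← pow_add, mul_comm (a i4) 3]
      exact (hprim.pow_eq_one_iff_dvd _).mpr h
    have e2 := hμ i4
    linear_combination (-(μ i0 * μ i1)) * e2 + μ i4 ^ 2 * e1
  refine ⟨tau.trans σ, fun i => ?_⟩
  fin_cases i
  · exact key _ _ _ h1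
  · exact key _ _ _ h2

/-- **Piece B of row S5981**: the exceptional case `n = r ∈ {3, 5}` with `(q - 1)_r = r`. -/
theorem conj_of_exc [Fintype F] (h2 : (2 : F) ≠ 0) (r : ℕ) [hr : Fact r.Prime]
    (hr35 : r = 3 ∨ r = 5)
    (hv : padicValNat r (Fintype.card F - 1) = 1) {Q : (Fin r → F) → F}
    (hQ : IsNondegenerateQuadraticForm Q)
    (x : GL (Fin r) F) (hx : x ∈ specialLinear (Fin r) F) (z : F)
    (hz : ((x ^ r : GL (Fin r) F) : Matrix (Fin r) (Fin r) F) = z • (1 : Matrix (Fin r) (Fin r) F))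
    (hns : ∀ z : F, (x : Matrix (Fin r) (Fin r) F) ≠ z • (1 : Matrix (Fin r) (Fin r) F)) :
    ∃ g ∈ specialLinear (Fin r) F, g⁻¹ * x * g ∈ quadSimilarityGroup Q := by
  rcases hr35 with rfl | rfl
  · exact conj_aux 3 1 rfl hv hQ x hx z hz hns (fun μ hμ hprod _ => pairing_three μ hμ hprod)
  · have hrq : 5 ∣ Fintype.card F - 1 := dvd_of_one_le_padicValNat (by rw [hv])
    obtain ⟨ω, hω, hω1⟩ := exists_root (F := F) 5 hrq
    exact conj_aux 5 2 rfl hv hQ x hx z hz hns (fun μ hμ hprod hne =>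
      pairing_five hω hω1 μ hμ hprod hne)

end Cfsg.Agent.Helper4.SLOExc
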