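import Mathlib
import Cfsg.Agent.Helper5.SaDefs

set_option autoImplicit false
set_option linter.unusedVariables false
set_option linter.unusedSectionVars false

/-! S4025 piece C (helper4): orders of `AΓL_1`, `AGL_1` over `GaloisField p n`, and the order of a group of
semilinear maps `v ↦ a σ v` divides `(p^n - 1) n`. -/

namespace Cfsg.Agent.Helper5.Sa

section general

variable {F : Type*} [Field F]

/-- the permutation `x ↦ a * φ x + b`. -/
def h4_saPerm (a : Fˣ) (b : F) (φ : F ≃+* F) : Equiv.Perm F :=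
  φ.toEquiv.trans ((Units.mulLeft a).trans (Equiv.addRight b))

theorem h4_saPerm_apply (a : Fˣ) (b : F) (φ : F ≃+* F) (x : F) :
    h4_saPerm a b φ x = (a : F) * φ x + b := rfl

theorem h4_saPerm_mem (a : Fˣ) (b : F) (φ : F ≃+* F) :
    h4_saPerm a b φ ∈ Cfsg.semiaffineGroup F :=
  ⟨a, b, φ, fun x => rfl⟩

theorem h4_saPerm_inj {a a' : Fˣ} {b b' : F} {φ φ' : F ≃+* F}
    (h : h4_saPerm a b φ = h4_saPerm a' b' φ') : a = a' ∧ b = b' ∧ φ = φ' := by
  have h0 := congrArg (fun σ : Equiv.Perm F => σ 0) h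
  simp only [h4_saPerm_apply, map_zero, mul_zero, zero_add] at h0
  have h1 := congrArg (fun σ : Equiv.Perm F => σ 1) h
  simp only [h4_saPerm_apply, map_one, mul_one, h0] at h1
  have ha : a = a' := Units.ext (add_right_cancel h1)
  refine ⟨ha, h0, ?_⟩
  ext x
  have hx := congrArg (fun σ : Equiv.Perm F => σ x) h
  simp only [h4_saPerm_apply, h0, ha] at hx
  have := add_right_cancel hx
  exact mul_left_cancel₀ a'.ne_zero this

theorem h4_card_semiaffine [Finite F] :
    Nat.card (Cfsg.semiaffineGroup F) = Nat.card F * (Nat.card F - 1) * Nat.card (F ≃+* F) := by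
  have e : (Fˣ × F × (F ≃+* F)) ≃ Cfsg.semiaffineGroup F := by
    refine Equiv.ofBijective (fun t => ⟨h4_saPerm t.1 t.2.1 t.2.2, h4_saPerm_mem _ _ _⟩) ⟨?_, ?_⟩
    · rintro ⟨a, b, φ⟩ ⟨a', b', φ'⟩ h
      have h' : h4_saPerm a b φ = h4_saPerm a' b' φ' := congrArg Subtype.val h
      obtain ⟨h1, h2, h3⟩ := h4_saPerm_inj h'
      rw [h1, h2, h3]
    · rintro ⟨σ, a, b, φ, hσ⟩
      refine ⟨⟨a, b, φ⟩, ?_⟩
      apply Subtype.ext
      ext x
      exact (hσ x).symm
  rw [← Nat.card_congr e, Nat.card_prod, Nat.card_prod, Nat.card_units]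
  ring

/-- the permutation `x ↦ a * x + b`. -/
def h4_affPerm (a : Fˣ) (b : F) : Equiv.Perm F :=
  (Units.mulLeft a).trans (Equiv.addRight b)

theorem h4_affPerm_apply (a : Fˣ) (b : F) (x : F) :
    h4_affPerm a b x = (a : F) * x + b := rfl

theorem h4_card_affine [Finite F] :
    Nat.card (Cfsg.affineGroup F) = Nat.card F * (Nat.card F - 1) := by
  have e : (Fˣ × F) ≃ Cfsg.affineGroup F := by
    refine Equiv.ofBijective (fun t => ⟨h4_affPerm t.1 t.2, ⟨t.1, t.2, fun x => rfl⟩⟩) ⟨?_, ?_⟩
    · rintro ⟨a, b⟩ ⟨a', b'⟩ h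
      have h' : h4_affPerm a b = h4_affPerm a' b' := congrArg Subtype.val h
      have h0 := congrArg (fun σ : Equiv.Perm F => σ 0) h'
      simp only [h4_affPerm_apply, mul_zero, zero_add] at h0
      have h1 := congrArg (fun σ : Equiv.Perm F => σ 1) h'
      simp only [h4_affPerm_apply, mul_one, h0] at h1
      have ha : a = a' := Units.ext (add_right_cancel h1)
      rw [ha, h0]
    · rintro ⟨σ, a, b, hσ⟩
      refine ⟨⟨a, b⟩, ?_⟩
      apply Subtype.ext
      ext x
      exact (hσ x).symm
  rw [← Nat.card_congr e, Nat.card_prod, Nat.card_units]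
  ring

/-- the stabiliser of `0` in the semiaffine group has order `(|F| - 1) * |Aut F|`. -/
theorem h4_card_stab_zero [Finite F] :
    Nat.card (MulAction.stabilizer (Cfsg.semiaffineGroup F) (0 : F)) =
      (Nat.card F - 1) * Nat.card (F ≃+* F) := by
  classical
  have horb : MulAction.orbit (Cfsg.semiaffineGroup F) (0 : F) = Set.univ := by
    apply Set.eq_univ_of_forall
    intro b
    refine ⟨⟨h4_saPerm 1 b (RingEquiv.refl F), h4_saPerm_mem _ _ _⟩, ?_⟩
    show h4_saPerm 1 b (RingEquiv.refl F) 0 = b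
    simp [h4_saPerm_apply]
  have h0 := MulAction.index_stabilizer (Cfsg.semiaffineGroup F) (0 : F)
  rw [horb, Set.ncard_univ] at h0
  have h1 := Subgroup.card_mul_index (MulAction.stabilizer (Cfsg.semiaffineGroup F) (0 : F))
  rw [h0, h4_card_semiaffine] at h1
  have hpos : 0 < Nat.card F := Nat.card_pos
  have : Nat.card F * Nat.card (MulAction.stabilizer (Cfsg.semiaffineGroup F) (0 : F)) =
      Nat.card F * ((Nat.card F - 1) * Nat.card (F ≃+* F)) := by
    rw [mul_comm, h1]; ring
  exact Nat.eq_of_mul_eq_mul_left hpos this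

end general

/-- ring automorphisms of a field of characteristic `p` are `ZMod p`-algebra automorphisms. -/
theorem h4_card_ringAut (p n : ℕ) [Fact p.Prime] (hn : n ≠ 0) :
    Nat.card (GaloisField p n ≃+* GaloisField p n) = n := by
  have e : (GaloisField p n ≃+* GaloisField p n) ≃ (GaloisField p n ≃ₐ[ZMod p] GaloisField p n) := by
    refine ⟨fun φ => AlgEquiv.ofRingEquiv (f := φ) ?_, fun ψ => ψ.toRingEquiv, ?_, ?_⟩
    · intro r
      have hr : ((r.val : ℕ) : ZMod p) = r := ZMod.natCast_zmod_val r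
      rw [← hr, map_natCast, map_natCast]
    · intro φ
      ext x
      rfl
    · intro ψ
      ext x
      rfl
  rw [Nat.card_congr e, IsGalois.card_aut_eq_finrank, GaloisField.finrank p hn]

theorem card_semiaffineGroup (p n : ℕ) [Fact p.Prime] (hn : n ≠ 0) :
    Nat.card (Cfsg.semiaffineGroup (GaloisField p n)) = p ^ n * (p ^ n - 1) * n := by
  rw [h4_card_semiaffine, GaloisField.card p n hn, h4_card_ringAut p n hn]

theorem card_affineGroup (p n : ℕ) [Fact p.Prime] (hn : n ≠ 0) :
    Nat.card (Cfsg.affineGroup (GaloisField p n)) = p ^ n * (p ^ n - 1) := by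
  rw [h4_card_affine, GaloisField.card p n hn]

theorem card_dvd_semilinear (p n : ℕ) [Fact p.Prime] (hn : n ≠ 0) {V : Type*} [AddCommGroup V]
    [Module (ZMod p) V] [Finite V]
    (A : Subgroup (V ≃ₗ[ZMod p] V)) (e : V ≃+ GaloisField p n)
    (he : ∀ g ∈ A, ∃ (a : GaloisField p n) (σ : GaloisField p n ≃+* GaloisField p n),
      ∀ v : V, e (g v) = a * σ (e v)) :
    Nat.card A ∣ (p ^ n - 1) * n := by
  classical
  -- the permutation of the field induced by `g`
  let ψ₀ : (V ≃ₗ[ZMod p] V) →* Equiv.Perm (GaloisField p n) :=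
    { toFun := fun g => (e.symm.toEquiv.trans g.toEquiv).trans e.toEquiv
      map_one' := by
        ext x
        simp
      map_mul' := by
        intro g h
        ext x
        simp [LinearEquiv.mul_apply] }
  have hψ₀ : ∀ (g : V ≃ₗ[ZMod p] V) (x : GaloisField p n), ψ₀ g x = e (g (e.symm x)) :=
    fun g x => rfl
  have hmem : ∀ g ∈ A, ψ₀ g ∈ Cfsg.semiaffineGroup (GaloisField p n) := by
    intro g hg
    obtain ⟨a, σ, h⟩ := he g hg
    have ha : a ≠ 0 := by
      rintro rfl
      have h1 := h (e.symm 1)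
      have h2 := h 0
      rw [zero_mul] at h1 h2
      have : g (e.symm 1) = g 0 := e.injective (h1.trans h2.symm)
      have := g.injective this
      have h3 : (1 : GaloisField p n) = 0 := by
        have := congrArg e this
        simpa using this
      exact one_ne_zero h3
    refine ⟨Units.mk0 a ha, 0, σ, fun x => ?_⟩
    rw [hψ₀, h, AddEquiv.apply_symm_apply, add_zero, Units.val_mk0]
  -- the homomorphism into the stabiliser of `0`
  let ψ : A →* MulAction.stabilizer (Cfsg.semiaffineGroup (GaloisField p n)) (0 : GaloisField p n) :=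
    { toFun := fun g => ⟨⟨ψ₀ g.1, hmem g.1 g.2⟩, by
        rw [MulAction.mem_stabilizer_iff]
        show ψ₀ g.1 0 = 0
        rw [hψ₀]
        simp⟩
      map_one' := by
        apply Subtype.ext
        apply Subtype.ext
        exact map_one ψ₀
      map_mul' := by
        intro g h
        apply Subtype.ext
        apply Subtype.ext
        exact map_mul ψ₀ g.1 h.1 }
  have hinj : Function.Injective ψ := by
    intro g h hgh
    have h1 : ψ₀ g.1 = ψ₀ h.1 := congrArg (fun t => (t.1.1 : Equiv.Perm (GaloisField p n))) hgh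
    apply Subtype.ext
    ext v
    have h2 := congrArg (fun σ : Equiv.Perm (GaloisField p n) => σ (e v)) h1
    simp only [hψ₀, AddEquiv.symm_apply_apply] at h2
    exact e.injective h2
  have := Subgroup.card_dvd_of_injective ψ hinj
  rw [h4_card_stab_zero, GaloisField.card p n hn, h4_card_ringAut p n hn] at this
  exact this

end Cfsg.Agent.Helper5.Sa
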