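import Mathlib
import Cfsg.Agent.Helper5.SaDefs

set_option autoImplicit false
set_option linter.unusedVariables false
set_option linter.unusedSectionVars false

/-! S4025 piece G (helper4): `|X / O_{p'}(X)| = |Q| * |ρ₀(X)|`, and `tildeA ρ₀ = ρ₀(X)` for `p = 2`. -/

namespace Cfsg.Agent.Helper5.Sa

section

variable {X : Type*} [Group X] (Q : Subgroup X) [Q.Normal]

theorem h4_cj_one (q : Q) : cj Q 1 q = q := by
  apply Subtype.ext
  simp

theorem h4_cj_mul_left (x y : X) (q : Q) : cj Q (x * y) q = cj Q x (cj Q y q) := by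
  apply Subtype.ext
  simp only [coe_cj]
  group

theorem h4_cj_one_right (x : X) : cj Q x 1 = 1 := by
  apply Subtype.ext
  simp

/-- conjugation as a homomorphism into `Perm Q`. -/
def h4_cjHom : X →* Equiv.Perm Q where
  toFun x :=
    { toFun := cj Q x
      invFun := cj Q x⁻¹
      left_inv := fun q => by rw [← h4_cj_mul_left, inv_mul_cancel, h4_cj_one]
      right_inv := fun q => by rw [← h4_cj_mul_left, mul_inv_cancel, h4_cj_one] }
  map_one' := by
    ext q
    simp [h4_cj_one]
  map_mul' x y := by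
    ext q
    simp [h4_cj_mul_left]

theorem h4_cjHom_apply (x : X) (q : Q) : h4_cjHom Q x q = cj Q x q := rfl

end

theorem card_quot {X : Type*} [Group X] [Finite X] {p : ℕ} [Fact p.Prime] (Q : Subgroup X)
    [Q.Normal] (β : X →* Equiv.Perm Q)
    (hβ : ∀ x : X, ∃ b : Q, ∀ q : Q,
        β x q = b * cj Q x q)
    (hβt : ∀ a q : Q, β (a : X) q = a * q)
    (hker : β.ker = Cfsg.pPrimeCore p X)
    {V : Type*} [AddCommGroup V] [Module (ZMod p) V] (φ : ↥Q ≃ V)
    (ρ₀ : X →* (V ≃ₗ[ZMod p] V))
    (hρ₀ : ∀ (x : X) (q : Q),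
      ρ₀ x (φ q) = φ (cj Q x q)) :
    Nat.card (X ⧸ Cfsg.pPrimeCore p X) = Nat.card Q * Nat.card ρ₀.range := by
  classical
  -- Step 1: the quotient is the range of β
  have h1 : Nat.card (X ⧸ Cfsg.pPrimeCore p X) = Nat.card β.range := by
    rw [← hker]
    exact Nat.card_congr (QuotientGroup.quotientKerEquivRange β).toEquiv
  -- Step 2: orbit-stabiliser for the action of β.range on Q
  have horb : MulAction.orbit β.range (1 : Q) = Set.univ := by
    apply Set.eq_univ_of_forall
    intro a
    refine ⟨⟨β (a : X), a, rfl⟩, ?_⟩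
    show β (a : X) 1 = a
    rw [hβt, mul_one]
  have h2 : Nat.card β.range =
      Nat.card Q * Nat.card (MulAction.stabilizer β.range (1 : Q)) := by
    have h0 := MulAction.index_stabilizer β.range (1 : Q)
    rw [horb, Set.ncard_univ] at h0
    have := Subgroup.card_mul_index (MulAction.stabilizer β.range (1 : Q))
    rw [h0] at this
    rw [← this, mul_comm]
  -- Step 3: the stabiliser is the range of conjugation
  have h3 : Nat.card (MulAction.stabilizer β.range (1 : Q)) = Nat.card (h4_cjHom Q).range := by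
    have e : MulAction.stabilizer β.range (1 : Q) ≃ (h4_cjHom Q).range := by
      refine Equiv.ofBijective (fun s => ⟨s.1.1, ?_⟩) ⟨?_, ?_⟩
      · obtain ⟨⟨σ, x, rfl⟩, hs⟩ := s
        obtain ⟨b, hb⟩ := hβ x
        have hfix : β x 1 = 1 := hs
        have hb1 : b = 1 := by
          have := hb 1
          rw [hfix, h4_cj_one_right, mul_one] at this
          exact this.symm
        refine ⟨x, ?_⟩
        ext q
        show ((h4_cjHom Q x q : Q) : X) = ((β x q : Q) : X)
        rw [hb q, hb1, one_mul, h4_cjHom_apply]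
      · intro s t hst
        apply Subtype.ext
        apply Subtype.ext
        have := congrArg Subtype.val hst
        exact this
      · rintro ⟨σ, x, rfl⟩
        obtain ⟨b, hb⟩ := hβ x
        have hkey : β ((b⁻¹ : Q) : X) * β x = h4_cjHom Q x := by
          ext q
          show ((β ((b⁻¹ : Q) : X) (β x q) : Q) : X) = ((h4_cjHom Q x q : Q) : X)
          rw [hβt, hb q, inv_mul_cancel_left, h4_cjHom_apply]
        have hmem : h4_cjHom Q x ∈ β.range := ⟨((b⁻¹ : Q) : X) * x, by rw [map_mul, hkey]⟩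
        refine ⟨⟨⟨h4_cjHom Q x, hmem⟩, ?_⟩, rfl⟩
        rw [MulAction.mem_stabilizer_iff]
        show h4_cjHom Q x 1 = 1
        rw [h4_cjHom_apply, h4_cj_one_right]
    exact Nat.card_congr e
  -- Step 4: the two ranges have the same order
  have hkereq : (h4_cjHom Q).ker = ρ₀.ker := by
    ext x
    rw [MonoidHom.mem_ker, MonoidHom.mem_ker]
    constructor
    · intro hx
      ext v
      obtain ⟨q, rfl⟩ := φ.surjective v
      rw [hρ₀, ← h4_cjHom_apply, hx]
      rfl
    · intro hx
      ext q
      have := hρ₀ x q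
      rw [hx] at this
      have h' : φ q = φ (cj Q x q) := this
      have := φ.injective h'
      show ((h4_cjHom Q x q : Q) : X) = (((1 : Equiv.Perm Q) q : Q) : X)
      rw [h4_cjHom_apply, ← this]
      rfl
  have h4 : Nat.card (h4_cjHom Q).range = Nat.card ρ₀.range := by
    rw [← Nat.card_congr (QuotientGroup.quotientKerEquivRange (h4_cjHom Q)).toEquiv,
      ← Nat.card_congr (QuotientGroup.quotientKerEquivRange ρ₀).toEquiv, hkereq]
  rw [h1, h2, h3, h4]

theorem card_tildeA_two {X : Type*} [Group X] {V : Type*} [AddCommGroup V] [Module (ZMod 2) V]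
    (ρ₀ : X →* (V ≃ₗ[ZMod 2] V)) : Nat.card (tildeA ρ₀) = Nat.card ρ₀.range := by
  have hone : ∀ c : (ZMod 2)ˣ, ((c : (ZMod 2)ˣ) : ZMod 2) = 1 := by
    intro c
    have h := c.ne_zero
    generalize ((c : (ZMod 2)ˣ) : ZMod 2) = z at h
    revert z
    decide
  have : tildeA ρ₀ = ρ₀.range := by
    ext g
    rw [mem_tildeA, MonoidHom.mem_range]
    constructor
    · rintro ⟨x, c, h⟩
      refine ⟨x, ?_⟩
      ext v
      rw [h v, hone c, one_smul]
    · rintro ⟨x, rfl⟩
      exact ⟨x, 1, fun v => by simp⟩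
  rw [this]

end Cfsg.Agent.Helper5.Sa
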