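import Mathlib
import Cfsg.Agent.Helper5.SaDefs

set_option autoImplicit false
set_option linter.unusedVariables false

/-! S4025 piece N3 (helper4; SPARE — helper2 owns N3 as `arith` in Helper2/Sa_Arith; this copy is renamed `h4_arith` to avoid a name clash): the arithmetic `(p^(n-1) - 1) ∣ n (p^2 - 1)` forces `n = 3` or `(n,p) = (5,2)`. -/

namespace Cfsg.Agent.Helper5.Sa

theorem h4_pow_gt (p : ℕ) (hp : 2 ≤ p) : ∀ n : ℕ, 6 ≤ n → n * p ^ 2 < p ^ (n - 1) := by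
  intro n hn
  induction n, hn using Nat.le_induction with
  | base =>
    have h3 : 8 ≤ p ^ 3 := by
      calc 8 = 2 ^ 3 := by norm_num
        _ ≤ p ^ 3 := Nat.pow_le_pow_left hp 3
    have : p ^ (6 - 1) = p ^ 3 * p ^ 2 := by norm_num [← pow_add]
    rw [this]
    have hpos : 0 < p ^ 2 := by positivity
    nlinarith
  | succ n hn ih =>
    have h1 : p ^ (n + 1 - 1) = p * p ^ (n - 1) := by
      have : n + 1 - 1 = (n - 1) + 1 := by omega
      rw [this, pow_succ, mul_comm]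
    rw [h1]
    have hpos : 0 < p ^ 2 := by positivity
    calc (n + 1) * p ^ 2 ≤ 2 * (n * p ^ 2) := by nlinarith
      _ < 2 * p ^ (n - 1) := by omega
      _ ≤ p * p ^ (n - 1) := Nat.mul_le_mul_right _ hp

theorem h4_key (p n : ℕ) (hp : 2 ≤ p) (hn : 3 ≤ n)
    (h : (p ^ (n - 1) - 1) ∣ n * (p ^ 2 - 1)) : n = 3 ∨ (n = 5 ∧ p = 2) := by
  obtain ⟨k, rfl⟩ : ∃ k, p = k + 2 := ⟨p - 2, by omega⟩
  have hsq : (k + 2) ^ 2 - 1 = (k + 1) * (k + 3) := by
    apply Nat.sub_eq_of_eq_add; ring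
  have hpos : 0 < n * ((k + 2) ^ 2 - 1) := by
    rw [hsq]; positivity
  by_cases h6 : 6 ≤ n
  · exfalso
    have hle := Nat.le_of_dvd hpos h
    have hgt := h4_pow_gt (k + 2) hp n h6
    have h2 : n * ((k + 2) ^ 2 - 1) < n * (k + 2) ^ 2 := by
      apply Nat.mul_lt_mul_of_pos_left _ (by omega)
      have : 0 < (k + 2) ^ 2 := by positivity
      omega
    omega
  · have hn' : n = 3 ∨ n = 4 ∨ n = 5 := by omega
    rcases hn' with rfl | rfl | rfl
    · left; rfl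
    · exfalso
      have h3 : (k + 2) ^ (4 - 1) - 1 = (k + 1) * ((k + 2) ^ 2 + (k + 2) + 1) := by
        apply Nat.sub_eq_of_eq_add; norm_num; ring
      rw [h3, hsq] at h
      have h4 : (k + 1) * ((k + 2) ^ 2 + (k + 2) + 1) ∣ (k + 1) * (4 * (k + 3)) := by
        have : 4 * ((k + 1) * (k + 3)) = (k + 1) * (4 * (k + 3)) := by ring
        rwa [this] at h
      have h5 := Nat.dvd_of_mul_dvd_mul_left (by omega : 0 < k + 1) h4
      have h6' := Nat.le_of_dvd (by omega) h5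
      have hk : k ≤ 1 := by nlinarith
      interval_cases k
      · norm_num at h5
      · norm_num at h5
    · right
      refine ⟨rfl, ?_⟩
      have h3 : (k + 2) ^ (5 - 1) - 1 = ((k + 1) * (k + 3)) * ((k + 2) ^ 2 + 1) := by
        apply Nat.sub_eq_of_eq_add; norm_num; ring
      rw [h3, hsq] at h
      have h4 : ((k + 1) * (k + 3)) * ((k + 2) ^ 2 + 1) ∣ ((k + 1) * (k + 3)) * 5 := by
        have : 5 * ((k + 1) * (k + 3)) = ((k + 1) * (k + 3)) * 5 := by ring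
        rwa [this] at h
      have h5 := Nat.dvd_of_mul_dvd_mul_left (by positivity : 0 < (k + 1) * (k + 3)) h4
      have h6' := Nat.le_of_dvd (by omega) h5
      have hk : k = 0 := by nlinarith
      omega

theorem h4_arith (p n N₂ : ℕ) (hp : p.Prime) (hn : 3 ≤ n)
    (h1 : N₂ * ((p ^ 2 - 1) * (p ^ 2 - p)) = (p ^ n - 1) * (p ^ n - p))
    (h2 : N₂ * (p - 1) ∣ (p ^ n - 1) * n) : n = 3 ∨ (n = 5 ∧ p = 2) := by
  have hp2 : 2 ≤ p := hp.two_le
  apply h4_key p n hp2 hn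
  have hppos : 0 < p := by omega
  have ha : 0 < p ^ n - 1 := by
    have : 2 ^ n ≤ p ^ n := Nat.pow_le_pow_left hp2 n
    have : 2 ≤ 2 ^ n := by
      calc 2 = 2 ^ 1 := by norm_num
        _ ≤ 2 ^ n := Nat.pow_le_pow_right (by norm_num) (by omega)
    omega
  have e1 : p ^ n - p = p * (p ^ (n - 1) - 1) := by
    have : p ^ n = p * p ^ (n - 1) := by
      have : n = (n - 1) + 1 := by omega
      conv_lhs => rw [this, pow_succ, mul_comm]
    rw [this, Nat.mul_sub, mul_one]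
  have e2 : p ^ 2 - p = p * (p - 1) := by
    rw [Nat.mul_sub, mul_one, sq]
  rw [e1, e2] at h1
  -- cancel p
  have h1' : N₂ * ((p ^ 2 - 1) * (p - 1)) = (p ^ n - 1) * (p ^ (n - 1) - 1) := by
    have : p * (N₂ * ((p ^ 2 - 1) * (p - 1))) = p * ((p ^ n - 1) * (p ^ (n - 1) - 1)) := by
      calc p * (N₂ * ((p ^ 2 - 1) * (p - 1))) = N₂ * ((p ^ 2 - 1) * (p * (p - 1))) := by ring
        _ = (p ^ n - 1) * (p * (p ^ (n - 1) - 1)) := h1
        _ = p * ((p ^ n - 1) * (p ^ (n - 1) - 1)) := by ring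
    exact Nat.eq_of_mul_eq_mul_left hppos this
  have h3 : (p ^ n - 1) * (p ^ (n - 1) - 1) ∣ (p ^ n - 1) * (n * (p ^ 2 - 1)) := by
    rw [← h1']
    have := Nat.mul_dvd_mul_right h2 (p ^ 2 - 1)
    calc N₂ * ((p ^ 2 - 1) * (p - 1)) = N₂ * (p - 1) * (p ^ 2 - 1) := by ring
      _ ∣ (p ^ n - 1) * n * (p ^ 2 - 1) := this
      _ = (p ^ n - 1) * (n * (p ^ 2 - 1)) := by ring
  exact Nat.dvd_of_mul_dvd_mul_left ha h3

end Cfsg.Agent.Helper5.Sa
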