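import Mathlib
import Cfsg.Prelude.Def_SolvableStructure
import Cfsg.Agent.Helper1.FrobPCompl
import Cfsg.Agent.Helper1.CNGroup

set_option autoImplicit false

namespace Cfsg.Agent.Helper4

universe u

section

variable {G : Type u} [Group G]

theorem isNilpotent_of_le' {A B : Subgroup G} (h : A ≤ B) (hB : Group.IsNilpotent B) :
    Group.IsNilpotent A := by
  have : Group.IsNilpotent (A.subgroupOf B) := inferInstance
  exact Group.nilpotent_of_mulEquiv (Subgroup.subgroupOfEquivOfLe h)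

theorem isNilpotent_of_comm (M : Subgroup G) (h : ∀ a ∈ M, ∀ b ∈ M, a * b = b * a) :
    Group.IsNilpotent M := by
  let inst : CommGroup M :=
    { (inferInstance : Group M) with
      mul_comm := fun a b => Subtype.ext (h a.1 a.2 b.1 b.2) }
  exact @CommGroup.isNilpotent M inst

/-- the key closure property -/
theorem nilpotent_of_proper_of_dvd [Finite G] (p : ℕ)
    (hH : ∀ M : Subgroup G, IsCoatom M → p ∣ Nat.card M → Group.IsNilpotent M)
    (T : Subgroup G) (hT : T ≠ ⊤) (hp : p ∣ Nat.card T) : Group.IsNilpotent T := by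
  obtain ⟨L, hL, hTL⟩ := (eq_top_or_exists_le_coatom T).resolve_left hT
  exact isNilpotent_of_le' hTL (hH L hL (hp.trans (Subgroup.card_dvd_of_le hTL)))

theorem pLocalCentral_of_hyp [Finite G] (p : ℕ) [hp : Fact p.Prime]
    (hH : ∀ M : Subgroup G, IsCoatom M → p ∣ Nat.card M → Group.IsNilpotent M)
    (M : Subgroup G) (hMn : ¬ Group.IsNilpotent M) (hMp : ¬ p ∣ Nat.card M) :
    Cfsg.Agent.Helper1.PLocalCentral p G := by
  intro Q hQ g hg hcop
  by_cases hQb : Q = ⊥
  · subst hQb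
    rw [Subgroup.mem_centralizer_iff]
    intro h hh
    rw [Subgroup.coe_bot, Set.mem_singleton_iff] at hh
    subst hh
    rw [one_mul, mul_one]
  obtain ⟨k, hk⟩ := (IsPGroup.iff_card).1 hQ
  have hk0 : k ≠ 0 := by
    intro h0
    rw [h0, pow_zero] at hk
    exact hQb (Subgroup.card_eq_one.1 hk)
  have hpQ : p ∣ Nat.card Q := by rw [hk]; exact dvd_pow_self p hk0
  obtain ⟨T, hT⟩ : ∃ T, T = Q ⊔ Subgroup.zpowers g := ⟨_, rfl⟩
  have hQT : Q ≤ T := by rw [hT]; exact le_sup_left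
  have hgT : g ∈ T := by rw [hT]; exact Subgroup.mem_sup_right (Subgroup.mem_zpowers g)
  by_cases hTtop : T = ⊤
  · exfalso
    apply hMn
    have hgn : Subgroup.zpowers g ≤ Subgroup.normalizer (Q : Set G) := by
      rw [Subgroup.zpowers_le]; exact hg
    have hnorm : Subgroup.normalizer (Q : Set G) = ⊤ := by
      rw [eq_top_iff, ← hTtop, hT]
      exact sup_le Subgroup.le_normalizer hgn
    have hQn : Q.Normal := Subgroup.normalizer_eq_top_iff.1 hnorm
    have hMQ : M ⊓ Q = ⊥ := by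
      apply Disjoint.eq_bot
      apply Subgroup.disjoint_of_coprime_natCard
      rw [hk]
      exact Nat.Coprime.pow_right _ ((Nat.Prime.coprime_iff_not_dvd hp.out).2 hMp).symm
    apply isNilpotent_of_comm
    intro a ha b hb
    have hrep : ∀ x : G, ∃ j : ℤ, (QuotientGroup.mk x : G ⧸ Q) = (QuotientGroup.mk g : G ⧸ Q) ^ j := by
      intro x
      have hx : x ∈ Q ⊔ Subgroup.zpowers g := by rw [← hT, hTtop]; exact Subgroup.mem_top x
      obtain ⟨n, hn, c, hc, rfl⟩ := Cfsg.Agent.Helper1.mem_sup_of_le_normalizer hgn hx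
      obtain ⟨j, rfl⟩ := Subgroup.mem_zpowers_iff.1 hc
      refine ⟨j, ?_⟩
      rw [QuotientGroup.mk_mul, (QuotientGroup.eq_one_iff n).2 hn, one_mul, QuotientGroup.mk_zpow]
    obtain ⟨i, hi⟩ := hrep a
    obtain ⟨j, hj⟩ := hrep b
    have hcomm : (QuotientGroup.mk (a * b * a⁻¹ * b⁻¹) : G ⧸ Q) = 1 := by
      rw [QuotientGroup.mk_mul, QuotientGroup.mk_mul, QuotientGroup.mk_mul, QuotientGroup.mk_inv,
        QuotientGroup.mk_inv, hi, hj, ← zpow_add, ← zpow_neg, ← zpow_add, ← zpow_neg, ← zpow_add]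
      have : i + j + -i + -j = 0 := by ring
      rw [this, zpow_zero]
    have h1 : a * b * a⁻¹ * b⁻¹ ∈ Q := (QuotientGroup.eq_one_iff _).1 hcomm
    have h2 : a * b * a⁻¹ * b⁻¹ ∈ M :=
      M.mul_mem (M.mul_mem (M.mul_mem ha hb) (M.inv_mem ha)) (M.inv_mem hb)
    have h3 : a * b * a⁻¹ * b⁻¹ ∈ M ⊓ Q := ⟨h2, h1⟩
    rw [hMQ, Subgroup.mem_bot] at h3
    calc a * b = (a * b * a⁻¹ * b⁻¹) * (b * a) := by group
      _ = b * a := by rw [h3, one_mul]
  · have hTn := nilpotent_of_proper_of_dvd p hH T hTtop (hpQ.trans (Subgroup.card_dvd_of_le hQT))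
    rw [Subgroup.mem_centralizer_iff]
    intro h hh
    obtain ⟨j, hj⟩ := hQ ⟨h, hh⟩
    have hj' : h ^ p ^ j = 1 := by
      have := congrArg Subtype.val hj
      rwa [Subgroup.coe_pow] at this
    obtain ⟨i, _, hi⟩ := (Nat.dvd_prime_pow hp.out).1 (orderOf_dvd_of_pow_eq_one hj')
    have hco : (orderOf h).Coprime (orderOf g) := by
      rw [hi]
      exact (Nat.Coprime.pow_right i hcop).symm
    exact Cfsg.Agent.Helper1.commute_of_coprime_orderOf_of_mem hTn (hQT hh) hgT hco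

end

end Cfsg.Agent.Helper4
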