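import Mathlib
import Cfsg.Agent.Helper4.SchmidtPA

set_option autoImplicit false

open scoped Pointwise

namespace Cfsg.Agent.Helper4

universe u

section

variable {G : Type u} [Group G]

/-- an element of order `p` centralizes the normal non-nilpotent `p'`-subgroup of index `p` -/
theorem centralizes_of_hyp [Finite G] (p : ℕ) [hp : Fact p.Prime]
    (hKP : ∀ T : Subgroup G, T ≠ ⊤ → p ∣ Nat.card T → Group.IsNilpotent T)
    (K : Subgroup G) [hKnorm : K.Normal] (hKn : ¬ Group.IsNilpotent K) (hKp : ¬ p ∣ Nat.card K)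
    (y : G) (hy : orderOf y = p) (hcard : Nat.card G = p * Nat.card K) :
    ∀ k ∈ K, k * y = y * k := by
  obtain ⟨C, hC⟩ : ∃ C : Subgroup G, C = K ⊓ Subgroup.centralizer ({y} : Set G) := ⟨_, rfl⟩
  have hCK : C ≤ K := by rw [hC]; exact inf_le_left
  have hKpos : 0 < Nat.card K := Nat.card_pos
  have hindex : K.index = p := by
    have h1 := K.card_mul_index
    rw [hcard, mul_comm p] at h1
    exact Nat.eq_of_mul_eq_mul_left hKpos h1
  have hfact : (Nat.card G).factorization p = 1 := by
    rw [hcard, Nat.factorization_mul hp.out.ne_zero hKpos.ne', Finsupp.add_apply,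
      hp.out.factorization_self, Nat.factorization_eq_zero_of_not_dvd hKp]
  have hdvd : Nat.card K ∣ Nat.card C := by
    rw [Nat.dvd_iff_prime_pow_dvd_dvd]
    intro q j hq hqj
    have hqF : Fact q.Prime := ⟨hq⟩
    obtain ⟨S⟩ : Nonempty (Sylow q K) := inferInstance
    obtain ⟨S', hS'⟩ : ∃ S' : Subgroup G, S' = (S : Subgroup K).map K.subtype := ⟨_, rfl⟩
    have hS'K : S' ≤ K := by rw [hS']; exact Subgroup.map_subtype_le _
    have hcardS' : Nat.card S' = Nat.card (S : Subgroup K) := by
      rw [hS']; exact Subgroup.card_map_of_injective K.subtype_injective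
    have hqjS : q ^ j ∣ Nat.card S' := by
      rw [hcardS']; exact S.pow_dvd_card_of_pow_dvd_card hqj
    have hfrat : Subgroup.normalizer (S' : Set G) ⊔ K = ⊤ := by
      rw [hS']; exact Sylow.normalizer_sup_eq_top S
    -- p divides the order of the normalizer
    have hpN : p ∣ Nat.card (Subgroup.normalizer (S' : Set G)) := by
      have hsurj : Function.Surjective
          ((QuotientGroup.mk' K).comp (Subgroup.normalizer (S' : Set G)).subtype) := by
        intro x
        obtain ⟨g, rfl⟩ := QuotientGroup.mk_surjective x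
        have hg : g ∈ K ⊔ Subgroup.normalizer (S' : Set G) := by
          rw [sup_comm, hfrat]; exact Subgroup.mem_top g
        have hA : Subgroup.normalizer (S' : Set G) ≤ Subgroup.normalizer (K : Set G) := by
          rw [Subgroup.normalizer_eq_top_iff.2 hKnorm]; exact le_top
        obtain ⟨k, hk, n, hn, rfl⟩ := Cfsg.Agent.Helper1.mem_sup_of_le_normalizer hA hg
        refine ⟨⟨n, hn⟩, ?_⟩
        show (QuotientGroup.mk n : G ⧸ K) = QuotientGroup.mk (k * n)
        rw [QuotientGroup.mk_mul, (QuotientGroup.eq_one_iff k).2 hk, one_mul]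
      have h1 := Subgroup.card_dvd_of_surjective _ hsurj
      rwa [← Subgroup.index_eq_card, hindex] at h1
    obtain ⟨x, hx⟩ := exists_prime_orderOf_dvd_card' p hpN
    obtain ⟨y', hy'⟩ : ∃ y' : G, y' = (x : G) := ⟨_, rfl⟩
    have hy'ord : orderOf y' = p := by rw [hy', Subgroup.orderOf_coe, hx]
    have hy'n : Subgroup.zpowers y' ≤ Subgroup.normalizer (S' : Set G) := by
      rw [Subgroup.zpowers_le, hy']; exact x.2
    have hcopS : p.Coprime (Nat.card S') :=
      (Nat.Prime.coprime_iff_not_dvd hp.out).2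
        (fun h => hKp (h.trans (Subgroup.card_dvd_of_le hS'K)))
    have hdisj : Subgroup.zpowers y' ⊓ S' = ⊥ := by
      apply Disjoint.eq_bot
      apply Subgroup.disjoint_of_coprime_natCard
      rw [Nat.card_zpowers, hy'ord]
      exact hcopS
    obtain ⟨T, hT⟩ : ∃ T : Subgroup G, T = S' ⊔ Subgroup.zpowers y' := ⟨_, rfl⟩
    have hcardT : Nat.card T = p * Nat.card S' := by
      rw [hT, Cfsg.Agent.Helper1.card_sup_of_le_normalizer hy'n hdisj, Nat.card_zpowers, hy'ord]
    have hTtop : T ≠ ⊤ := by
      intro htop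
      apply hKn
      have h1 : Nat.card T = Nat.card G := by rw [htop, Subgroup.card_top]
      rw [hcardT, hcard] at h1
      have h2 : Nat.card S' = Nat.card K := Nat.eq_of_mul_eq_mul_left hp.out.pos h1
      have h3 : Nat.card K = q ^ (Nat.card K).factorization q := by
        have h4 := S.card_eq_multiplicity
        rw [← hcardS', h2] at h4
        exact h4
      exact (IsPGroup.of_card h3).isNilpotent
    have hTn : Group.IsNilpotent T := hKP T hTtop (by rw [hcardT]; exact dvd_mul_right p _)
    have hcomm : ∀ s ∈ S', s * y' = y' * s := by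
      intro s hs
      apply Cfsg.Agent.Helper1.commute_of_coprime_orderOf_of_mem hTn
      · rw [hT]; exact Subgroup.mem_sup_left hs
      · rw [hT]; exact Subgroup.mem_sup_right (Subgroup.mem_zpowers y')
      · rw [hy'ord]
        exact (hcopS.coprime_dvd_right (Subgroup.orderOf_dvd_natCard S' hs)).symm
    -- conjugate y' into ⟨y⟩
    obtain ⟨P, hP⟩ : ∃ P : Sylow p G, (P : Subgroup G) = Subgroup.zpowers y :=
      ⟨Sylow.ofCard (Subgroup.zpowers y) (by rw [Nat.card_zpowers, hy, hfact, pow_one]), rfl⟩
    obtain ⟨P', hP'⟩ : ∃ P' : Sylow p G, (P' : Subgroup G) = Subgroup.zpowers y' :=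
      ⟨Sylow.ofCard (Subgroup.zpowers y') (by rw [Nat.card_zpowers, hy'ord, hfact, pow_one]), rfl⟩
    obtain ⟨g, hg⟩ := MulAction.exists_smul_eq G P' P
    have hg' : MulAut.conj g • Subgroup.zpowers y' = Subgroup.zpowers y := by
      have h5 : ((g • P' : Sylow p G) : Subgroup G) = (P : Subgroup G) := by rw [hg]
      rw [Sylow.smul_def, Sylow.pointwise_smul_def, hP, hP'] at h5
      exact h5
    have hymem : y ∈ MulAut.conj g • Subgroup.zpowers y' := by
      rw [hg']; exact Subgroup.mem_zpowers y
    obtain ⟨w, hw, hwy⟩ := (Subgroup.mem_smul_pointwise_iff_exists _ _ _).1 hymem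
    obtain ⟨i, rfl⟩ := Subgroup.mem_zpowers_iff.1 hw
    rw [MulAut.smul_def, MulAut.conj_apply] at hwy
    -- the conjugate Sylow subgroup
    obtain ⟨S'', hS''⟩ : ∃ S'' : Subgroup G, S'' = S'.map (MulAut.conj g).toMonoidHom := ⟨_, rfl⟩
    have hcardS'' : Nat.card S'' = Nat.card S' := by
      rw [hS'']; exact Subgroup.card_map_of_injective (MulAut.conj g).injective
    have hS''C : S'' ≤ C := by
      rw [hS'', hC]
      rintro t ⟨s, hs, rfl⟩
      refine ⟨?_, ?_⟩
      · show g * s * g⁻¹ ∈ K
        exact hKnorm.conj_mem s (hS'K hs) g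
      · show (MulAut.conj g) s ∈ Subgroup.centralizer ({y} : Set G)
        rw [Subgroup.mem_centralizer_singleton_iff, MulAut.conj_apply]
        have h1 : s * y' ^ i = y' ^ i * s := by
          have : Commute s y' := hcomm s hs
          exact (this.zpow_right i).eq
        rw [← hwy]
        calc g * s * g⁻¹ * (g * y' ^ i * g⁻¹) = g * (s * y' ^ i) * g⁻¹ := by group
          _ = g * (y' ^ i * s) * g⁻¹ := by rw [h1]
          _ = g * y' ^ i * g⁻¹ * (g * s * g⁻¹) := by group
    exact hqjS.trans (by rw [← hcardS'']; exact Subgroup.card_dvd_of_le hS''C)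
  have hCeq : C = K := Subgroup.eq_of_le_of_card_ge hCK (Nat.le_of_dvd Nat.card_pos hdvd)
  intro k hk
  have : k ∈ C := by rw [hCeq]; exact hk
  rw [hC] at this
  exact Subgroup.mem_centralizer_singleton_iff.1 this.2

end

end Cfsg.Agent.Helper4
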