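import Mathlib
import Cfsg.Agent.Helper4.SchmidtPB

set_option autoImplicit false

namespace Cfsg.Agent.Helper4

universe u

section

variable {G : Type u} [Group G]

theorem schmidtP_forward [Finite G] (p : ℕ) [hp : Fact p.Prime] (hpG : p ∣ Nat.card G)
    (hH : ∀ M : Subgroup G, IsCoatom M → p ∣ Nat.card M → Group.IsNilpotent M)
    (hnn : ¬ Group.IsNilpotent G) (hnm : ¬ Cfsg.IsMinimalNonNilpotent G) :
    ∃ Z K : Subgroup G, Z.Normal ∧ K.Normal ∧ Z ⊓ K = ⊥ ∧ Z ⊔ K = ⊤ ∧ Nat.card Z = p ∧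
      Cfsg.IsMinimalNonNilpotent K ∧ ¬ p ∣ Nat.card K := by
  have hex : ∃ H₀ : Subgroup G, H₀ ≠ ⊤ ∧ ¬ Group.IsNilpotent H₀ := by
    by_contra hno
    push Not at hno
    exact hnm ⟨hnn, hno⟩
  obtain ⟨H₀, hH₀top, hH₀n⟩ := hex
  obtain ⟨M, hM, hH₀M⟩ := (eq_top_or_exists_le_coatom H₀).resolve_left hH₀top
  have hMn : ¬ Group.IsNilpotent M := fun h => hH₀n (isNilpotent_of_le' hH₀M h)
  have hMp : ¬ p ∣ Nat.card M := fun h => hMn (hH M hM h)
  have hKP : ∀ T : Subgroup G, T ≠ ⊤ → p ∣ Nat.card T → Group.IsNilpotent T :=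
    fun T hT hpT => nilpotent_of_proper_of_dvd p hH T hT hpT
  have hPLC := pLocalCentral_of_hyp p hH M hMn hMp
  obtain ⟨P, K, hKnorm, hcompl⟩ := Cfsg.Agent.Helper1.frobenius_pcomplement hPLC
  have hcc := hcompl.card_mul_card
  have hpP : p ∣ Nat.card (P : Subgroup G) := P.dvd_card_of_dvd_card hpG
  have hidx : K.index = Nat.card (P : Subgroup G) := by
    have h1 := K.card_mul_index
    rw [← hcc] at h1
    exact Nat.eq_of_mul_eq_mul_left Nat.card_pos h1
  obtain ⟨a, ha⟩ := (IsPGroup.iff_card).1 P.2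
  have hcopM : p.Coprime (Nat.card M) := (Nat.Prime.coprime_iff_not_dvd hp.out).2 hMp
  have hMK : M ≤ K := by
    apply Cfsg.Agent.Helper1.le_of_coprime_card_index
    rw [hidx, ha]
    exact (hcopM.symm).pow_right a
  have hKtop : K ≠ ⊤ := by
    intro h
    rw [h, Subgroup.index_top] at hidx
    rw [← hidx] at hpP
    exact hp.out.one_lt.ne' (Nat.dvd_one.1 hpP)
  have hMeq : M = K := by
    rcases eq_or_lt_of_le hMK with h | h
    · exact h
    · exact absurd (hM.2 K h) hKtop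
  have hKco : IsCoatom K := by rw [← hMeq]; exact hM
  have hKn : ¬ Group.IsNilpotent K := by rw [← hMeq]; exact hMn
  have hKp : ¬ p ∣ Nat.card K := by rw [← hMeq]; exact hMp
  obtain ⟨x, hx⟩ := exists_prime_orderOf_dvd_card' p hpP
  obtain ⟨y, hyx⟩ : ∃ y : G, y = (x : G) := ⟨_, rfl⟩
  have hy : orderOf y = p := by rw [hyx, Subgroup.orderOf_coe, hx]
  obtain ⟨Z, hZ⟩ : ∃ Z : Subgroup G, Z = Subgroup.zpowers y := ⟨_, rfl⟩
  have hcardZ : Nat.card Z = p := by rw [hZ, Nat.card_zpowers, hy]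
  have hdisj : Z ⊓ K = ⊥ := by
    apply Disjoint.eq_bot
    apply Subgroup.disjoint_of_coprime_natCard
    rw [hcardZ]
    exact (Nat.Prime.coprime_iff_not_dvd hp.out).2 hKp
  have hnormK : Z ≤ Subgroup.normalizer (K : Set G) := by
    rw [Subgroup.normalizer_eq_top_iff.2 hKnorm]; exact le_top
  have hcardsup : Nat.card (K ⊔ Z : Subgroup G) = p * Nat.card K := by
    rw [Cfsg.Agent.Helper1.card_sup_of_le_normalizer hnormK hdisj, hcardZ]
  have hy1 : y ≠ 1 := by
    intro h1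
    rw [h1, orderOf_one] at hy
    exact hp.out.one_lt.ne' hy.symm
  have hyZ : y ∈ Z := by rw [hZ]; exact Subgroup.mem_zpowers y
  have hlt : K < K ⊔ Z := by
    refine lt_of_le_of_ne le_sup_left ?_
    intro h
    have hZK : Z ≤ K := by rw [h]; exact le_sup_right
    have : y ∈ Z ⊓ K := ⟨hyZ, hZK hyZ⟩
    rw [hdisj, Subgroup.mem_bot] at this
    exact hy1 this
  have hsup : K ⊔ Z = ⊤ := hKco.2 _ hlt
  have hcardG : Nat.card G = p * Nat.card K := by
    rw [← Subgroup.card_top (G := G), ← hsup, hcardsup]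
  have hcent := centralizes_of_hyp p hKP K hKn hKp y hy hcardG
  have hcentZ : ∀ k ∈ K, ∀ z ∈ Z, k * z = z * k := by
    intro k hk z hz
    rw [hZ] at hz
    obtain ⟨i, rfl⟩ := Subgroup.mem_zpowers_iff.1 hz
    have : Commute k y := hcent k hk
    exact (this.zpow_right i).eq
  have hrep : ∀ g : G, ∃ k ∈ K, ∃ z ∈ Z, g = k * z := by
    intro g
    have hg : g ∈ K ⊔ Z := by rw [hsup]; exact Subgroup.mem_top g
    exact Cfsg.Agent.Helper1.mem_sup_of_le_normalizer hnormK hg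
  have hZnorm : Z.Normal := by
    constructor
    intro n hn g
    obtain ⟨k, hk, z, hz, rfl⟩ := hrep g
    have h1 : k * z * n * (k * z)⁻¹ = k * (z * n * z⁻¹) * k⁻¹ := by group
    have h2 : z * n * z⁻¹ ∈ Z := Z.mul_mem (Z.mul_mem hz hn) (Z.inv_mem hz)
    have h3 := hcentZ k hk _ h2
    rw [h1, h3, mul_assoc, mul_inv_cancel, mul_one]
    exact h2
  refine ⟨Z, K, hZnorm, hKnorm, hdisj, by rw [sup_comm]; exact hsup, hcardZ, ⟨hKn, ?_⟩, hKp⟩
  -- proper subgroups of K are nilpotent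
  intro H hHtop
  obtain ⟨H', hH'⟩ : ∃ H' : Subgroup G, H' = H.map K.subtype := ⟨_, rfl⟩
  have hH'K : H' ≤ K := by rw [hH']; exact Subgroup.map_subtype_le _
  have hcardH' : Nat.card H' = Nat.card H := by
    rw [hH']; exact Subgroup.card_map_of_injective K.subtype_injective
  have hcardlt : Nat.card H' < Nat.card K := by
    rw [hcardH']
    have hle : Nat.card H ≤ Nat.card K := Subgroup.card_le_card_group H
    rcases Nat.lt_or_ge (Nat.card H) (Nat.card K) with h | h
    · exact h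
    · exact absurd (Subgroup.eq_top_of_le_card H h) hHtop
  have hZcent : Z ≤ Subgroup.centralizer (H' : Set G) := by
    intro z hz
    rw [Subgroup.mem_centralizer_iff]
    intro h hh
    exact hcentZ h (hH'K hh) z hz
  have hZnH : Z ≤ Subgroup.normalizer (H' : Set G) :=
    hZcent.trans (Subgroup.centralizer_le_normalizer _)
  have hdisjH : Z ⊓ H' = ⊥ := by
    rw [eq_bot_iff, ← hdisj]
    exact inf_le_inf_left Z hH'K
  obtain ⟨T, hT⟩ : ∃ T : Subgroup G, T = H' ⊔ Z := ⟨_, rfl⟩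
  have hcardT : Nat.card T = p * Nat.card H' := by
    rw [hT, Cfsg.Agent.Helper1.card_sup_of_le_normalizer hZnH hdisjH, hcardZ]
  have hTtop : T ≠ ⊤ := by
    intro h
    have h1 : Nat.card T = Nat.card G := by rw [h, Subgroup.card_top]
    rw [hcardT, hcardG] at h1
    have := Nat.eq_of_mul_eq_mul_left hp.out.pos h1
    omega
  have hTn : Group.IsNilpotent T := hKP T hTtop (by rw [hcardT]; exact dvd_mul_right p _)
  have hH'n : Group.IsNilpotent H' := isNilpotent_of_le' (by rw [hT]; exact le_sup_left) hTn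
  have e : H ≃* H' := by
    rw [hH']
    exact Subgroup.equivMapOfInjective H K.subtype K.subtype_injective
  exact Group.nilpotent_of_mulEquiv e.symm

theorem schmidtP_backward_prod [Finite G] (p : ℕ) [hp : Fact p.Prime] (Z K : Subgroup G)
    [hZn : Z.Normal] [hKn : K.Normal]
    (hdisj : Z ⊓ K = ⊥) (hsup : Z ⊔ K = ⊤) (hZ : Nat.card Z = p)
    (hK : Cfsg.IsMinimalNonNilpotent K) (hKp : ¬ p ∣ Nat.card K)
    (M : Subgroup G) (hM : IsCoatom M) (hpM : p ∣ Nat.card M) : Group.IsNilpotent M := by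
  have hKnormZ : K ≤ Subgroup.normalizer (Z : Set G) := by
    rw [Subgroup.normalizer_eq_top_iff.2 hZn]; exact le_top
  have hdisj' : K ⊓ Z = ⊥ := by rw [inf_comm]; exact hdisj
  have hcardG : Nat.card G = Nat.card K * Nat.card Z := by
    rw [← Subgroup.card_top (G := G), ← hsup,
      Cfsg.Agent.Helper1.card_sup_of_le_normalizer hKnormZ hdisj']
  have hidxZ : Z.index = Nat.card K := by
    have h1 := Z.card_mul_index
    rw [hcardG, mul_comm] at h1
    exact Nat.eq_of_mul_eq_mul_right Nat.card_pos h1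
  obtain ⟨x, hx⟩ := exists_prime_orderOf_dvd_card' p hpM
  obtain ⟨y, hyx⟩ : ∃ y : G, y = (x : G) := ⟨_, rfl⟩
  have hy : orderOf y = p := by rw [hyx, Subgroup.orderOf_coe, hx]
  have hyM : y ∈ M := by rw [hyx]; exact x.2
  have hyZle : Subgroup.zpowers y ≤ Z := by
    apply Cfsg.Agent.Helper1.le_of_coprime_card_index
    rw [Nat.card_zpowers, hy, hidxZ]
    exact (Nat.Prime.coprime_iff_not_dvd hp.out).2 hKp
  have hZeq : Subgroup.zpowers y = Z :=
    Subgroup.eq_of_le_of_card_ge hyZle (by rw [Nat.card_zpowers, hy, hZ])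
  have hZM : Z ≤ M := by
    rw [← hZeq, Subgroup.zpowers_le]; exact hyM
  have hKM : ¬ K ≤ M := by
    intro h
    apply hM.1
    rw [eq_top_iff, ← hsup]
    exact sup_le hZM h
  have hMKn : Group.IsNilpotent (M ⊓ K : Subgroup G) := by
    have h1 : M.subgroupOf K ≠ ⊤ := by
      intro h
      exact hKM (Subgroup.subgroupOf_eq_top.1 h)
    have h2 := hK.2 (M.subgroupOf K) h1
    have e : (M ⊓ K).subgroupOf K ≃* (M ⊓ K : Subgroup G) :=
      Subgroup.subgroupOfEquivOfLe inf_le_right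
    rw [Subgroup.inf_subgroupOf_right] at e
    exact Group.nilpotent_of_mulEquiv e
  have hZnil : Group.IsNilpotent Z := (IsPGroup.of_card (n := 1) (by rw [hZ, pow_one])).isNilpotent
  have hcomm : ∀ z ∈ Z, ∀ k ∈ K, z * k = k * z := by
    intro z hz k hk
    exact (Subgroup.commute_of_normal_of_disjoint Z K hZn hKn (disjoint_iff.2 hdisj) z k hz hk).eq
  obtain ⟨φ, hφ⟩ : ∃ φ : Z × (M ⊓ K : Subgroup G) →* M,
      ∀ a : Z × (M ⊓ K : Subgroup G), ((φ a : M) : G) = (a.1 : G) * (a.2 : G) := by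
    refine ⟨MonoidHom.noncommCoprod (Subgroup.inclusion hZM)
      (Subgroup.inclusion (inf_le_left : M ⊓ K ≤ M)) ?_, ?_⟩
    · intro z k
      apply Subtype.ext
      exact hcomm z.1 z.2 k.1 k.2.2
    · intro a
      rfl
  have hφs : Function.Surjective φ := by
    intro m
    have hm : (m : G) ∈ Z ⊔ K := by rw [hsup]; exact Subgroup.mem_top _
    obtain ⟨z, hz, k, hk, hmzk⟩ := Cfsg.Agent.Helper1.mem_sup_of_le_normalizer hKnormZ hm
    have hkM : k ∈ M := by
      have : k = z⁻¹ * (m : G) := by rw [hmzk]; group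
      rw [this]
      exact M.mul_mem (M.inv_mem (hZM hz)) m.2
    refine ⟨(⟨z, hz⟩, ⟨k, hkM, hk⟩), ?_⟩
    apply Subtype.ext
    rw [hφ, hmzk]
  exact Group.nilpotent_of_surjective φ hφs

end

end Cfsg.Agent.Helper4
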