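import Mathlib.Algebra.MonoidAlgebra.Basic
import Mathlib.Algebra.CharP.Algebra
import Mathlib.Algebra.CharP.Lemmas
import Mathlib.Data.ZMod.Basic
import Mathlib.GroupTheory.Perm.Basic

set_option autoImplicit false
set_option linter.unusedSectionVars false

namespace Cfsg.Agent.Helper4.SchurRing

open MonoidAlgebra

variable {A : Type*} [CommGroup A] [Fintype A] [DecidableEq A]

/-- The key property of the point stabilizer acting on the regular abelian subgroup. -/
structure Key (Γ : Set (Equiv.Perm A)) : Prop where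
  fix : ∀ γ ∈ Γ, γ 1 = 1
  key : ∀ γ ∈ Γ, ∀ x z : A, ∃ γ' ∈ Γ, γ' (x⁻¹ * z) = (γ x)⁻¹ * γ z

/-- Elements of the group algebra whose coefficients are constant on `Γ`-orbits. -/
def InvAlg {R : Type*} [CommSemiring R] (Γ : Set (Equiv.Perm A)) (a : MonoidAlgebra R A) : Prop :=
  ∀ γ ∈ Γ, ∀ c : A, a.coeff (γ c) = a.coeff c

lemma invAlg_mul {R : Type*} [CommSemiring R] {Γ : Set (Equiv.Perm A)} (hΓ : Key Γ)
    {a b : MonoidAlgebra R A} (ha : InvAlg Γ a) (hb : InvAlg Γ b) : InvAlg Γ (a * b) := by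
  intro γ hγ z
  rw [coeff_mul_apply_left, coeff_mul_apply_left]
  rw [Finsupp.sum_fintype _ _ (by intro i; simp), Finsupp.sum_fintype _ _ (by intro i; simp)]
  rw [← Equiv.sum_comp γ]
  apply Finset.sum_congr rfl
  intro x _
  rw [ha γ hγ x]
  obtain ⟨γ', hγ', h1⟩ := hΓ.key γ hγ x z
  rw [← h1, hb γ' hγ']

lemma invAlg_one {R : Type*} [CommSemiring R] {Γ : Set (Equiv.Perm A)} (hΓ : Key Γ) :
    InvAlg Γ (1 : MonoidAlgebra R A) := by
  intro γ hγ c
  rw [one_def, coeff_single, Finsupp.single_apply, Finsupp.single_apply]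
  have h1 := hΓ.fix γ hγ
  by_cases hc : c = 1
  · rw [hc, h1]
  · have : γ c ≠ 1 := by
      intro h
      apply hc
      apply γ.injective
      rw [h, h1]
    rw [if_neg (Ne.symm hc), if_neg (Ne.symm this)]

lemma invAlg_pow {R : Type*} [CommSemiring R] {Γ : Set (Equiv.Perm A)} (hΓ : Key Γ)
    {a : MonoidAlgebra R A} (ha : InvAlg Γ a) (n : ℕ) : InvAlg Γ (a ^ n) := by
  induction n with
  | zero => rw [pow_zero]; exact invAlg_one hΓ
  | succ n ih => rw [pow_succ]; exact invAlg_mul hΓ ih ha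

/-- The indicator of an invariant finite set. -/
lemma invAlg_indicator {R : Type*} [CommSemiring R] {Γ : Set (Equiv.Perm A)} (T : Finset A)
    (hT : ∀ γ ∈ Γ, ∀ t, t ∈ T ↔ γ t ∈ T) :
    InvAlg Γ (∑ t ∈ T, single t (1 : R)) := by
  intro γ hγ c
  rw [coeff_sum]
  simp only [coeff_single, Finset.sum_apply', Finsupp.single_apply]
  rw [Finset.sum_ite_eq' T (γ c), Finset.sum_ite_eq' T c]
  by_cases hc : c ∈ T
  · rw [if_pos hc, if_pos ((hT γ hγ c).1 hc)]
  · rw [if_neg hc, if_neg (fun h => hc ((hT γ hγ c).2 h))]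

/-- Schur's lemma on `p`-th powers. -/
theorem frob {Γ : Set (Equiv.Perm A)} (hΓ : Key Γ) (T : Finset A)
    (hT : ∀ γ ∈ Γ, ∀ t, t ∈ T ↔ γ t ∈ T) (p : ℕ) [hp : Fact p.Prime] :
    ∀ γ ∈ Γ, ∀ y : A, (((T.filter (fun t => t ^ p = γ y)).card : ℕ) : ZMod p)
      = (((T.filter (fun t => t ^ p = y)).card : ℕ) : ZMod p) := by
  have hchar : CharP (MonoidAlgebra (ZMod p) A) p := by
    apply charP_of_injective_algebraMap (R := ZMod p)
    intro x y h
    have := congrArg (fun z : MonoidAlgebra (ZMod p) A => z.coeff 1) h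
    simpa using this
  have hexp : ExpChar (MonoidAlgebra (ZMod p) A) p := ExpChar.prime hp.out
  have hcoef : ∀ y : A, ((∑ t ∈ T, single t (1 : ZMod p)) ^ p : MonoidAlgebra (ZMod p) A).coeff y
      = ((T.filter (fun t => t ^ p = y)).card : ZMod p) := by
    intro y
    rw [sum_pow_char]
    simp only [single_pow, one_pow]
    rw [coeff_sum]
    simp [Finsupp.single_apply]
  have hinv := invAlg_pow hΓ (invAlg_indicator (R := ZMod p) T hT) p
  intro γ hγ y
  rw [← hcoef, ← hcoef]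
  exact hinv γ hγ y

end Cfsg.Agent.Helper4.SchurRing
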