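import Cfsg.Agent.Helper4.SchurRingA
import Mathlib.GroupTheory.SpecificGroups.Cyclic
import Mathlib.GroupTheory.Perm.Cycle.Type
import Mathlib.Algebra.Pointwise.Stabilizer
import Mathlib.Data.Nat.Factorization.PrimePow

set_option autoImplicit false
set_option linter.unusedSectionVars false

namespace Cfsg.Agent.Helper4.SchurRing

open MonoidAlgebra

variable {A : Type*} [CommGroup A] [Fintype A] [DecidableEq A]

/-- Invariance of a set under a group of permutations. -/
def SInv (Γ : Subgroup (Equiv.Perm A)) (S : Set A) : Prop := ∀ γ ∈ Γ, ∀ t, t ∈ S → γ t ∈ S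

lemma SInv.iff {Γ : Subgroup (Equiv.Perm A)} {S : Set A} (h : SInv Γ S) :
    ∀ γ ∈ Γ, ∀ t, t ∈ S ↔ γ t ∈ S := by
  intro γ hγ t
  refine ⟨h γ hγ t, fun ht => ?_⟩
  have := h γ⁻¹ (Γ.inv_mem hγ) _ ht
  simpa using this

lemma sinv_closure {Γ : Subgroup (Equiv.Perm A)} (hK : Key (Γ : Set (Equiv.Perm A)))
    {S : Set A} (hS : SInv Γ S) : SInv Γ (Subgroup.closure S : Set A) := by
  intro γ hγ t ht
  have key : ∀ w ∈ Subgroup.closure S, ∀ γ ∈ Γ, γ w ∈ Subgroup.closure S := by
    intro w hw
    induction hw using Subgroup.closure_induction with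
    | mem x hx => intro γ hγ; exact Subgroup.subset_closure (hS γ hγ x hx)
    | one => intro γ hγ; rw [hK.fix γ hγ]; exact Subgroup.one_mem _
    | mul a b ha hb iha ihb =>
      intro γ hγ
      obtain ⟨γ', hγ', h1⟩ := hK.key γ hγ a (a * b)
      have h2 : γ (a * b) = γ a * γ' b := by
        rw [inv_mul_cancel_left] at h1
        rw [h1, mul_inv_cancel_left]
      rw [h2]
      exact Subgroup.mul_mem _ (iha γ hγ) (ihb γ' hγ')
    | inv a ha iha =>
      intro γ hγ
      obtain ⟨γ', hγ', h1⟩ := hK.key γ hγ a⁻¹ 1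
      rw [inv_inv, mul_one, hK.fix γ hγ, mul_one] at h1
      have h2 : γ a⁻¹ = (γ' a)⁻¹ := by rw [h1, inv_inv]
      rw [h2]
      exact Subgroup.inv_mem _ (iha γ' hγ')
  exact key t ht γ hγ

/-- The primitivity hypothesis: only trivial invariant subgroups. -/
def Prim (Γ : Subgroup (Equiv.Perm A)) : Prop :=
  ∀ K : Subgroup A, SInv Γ (K : Set A) → K = ⊥ ∨ K = ⊤

lemma range_pow_ne_top (p : ℕ) [hp : Fact p.Prime] (hpn : p ∣ Fintype.card A) :
    (powMonoidHom p : A →* A).range ≠ ⊤ := by
  intro h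
  obtain ⟨x, hx⟩ := exists_prime_orderOf_dvd_card (G := A) p hpn
  have hsurj : Function.Surjective (powMonoidHom p : A →* A) := MonoidHom.range_eq_top.1 h
  have hinj : Function.Injective (powMonoidHom p : A →* A) :=
    Finite.injective_iff_surjective.2 hsurj
  have h1 : (powMonoidHom p : A →* A) x = (powMonoidHom p : A →* A) 1 := by
    simp only [powMonoidHom_apply, one_pow]
    rw [← hx]; exact pow_orderOf_eq_one x
  have h2 := hinj h1
  rw [h2, orderOf_one] at hx
  exact hp.out.one_lt.ne hx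

lemma L3 {Γ : Subgroup (Equiv.Perm A)} (hK : Key (Γ : Set (Equiv.Perm A))) (hP : Prim Γ)
    (T : Finset A) (hT : SInv Γ (T : Set A)) (p : ℕ) [hp : Fact p.Prime]
    (hpn : p ∣ Fintype.card A) (y : A) (hy : y ≠ 1) :
    p ∣ (T.filter (fun t => t ^ p = y)).card := by
  by_contra hnd
  let U : Set A := {y | ¬ p ∣ (T.filter (fun t => t ^ p = y)).card}
  have hTiff : ∀ γ ∈ (Γ : Set (Equiv.Perm A)), ∀ t, t ∈ T ↔ γ t ∈ T := by
    intro γ hγ t
    have := hT.iff γ hγ t
    simpa using this
  have hU : SInv Γ U := by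
    intro γ hγ z hz
    have h1 := frob hK T hTiff p γ hγ z
    show ¬ p ∣ (T.filter (fun t => t ^ p = γ z)).card
    intro h2
    apply hz
    rw [← ZMod.natCast_eq_zero_iff] at h2 ⊢
    rw [← h1]; exact h2
  have hcl := sinv_closure hK hU
  have hle : Subgroup.closure U ≤ (powMonoidHom p : A →* A).range := by
    rw [Subgroup.closure_le]
    intro z hz
    have hz' : ¬ p ∣ (T.filter (fun t => t ^ p = z)).card := hz
    have hne : (T.filter (fun t => t ^ p = z)).Nonempty := by
      rw [Finset.nonempty_iff_ne_empty]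
      intro h0
      rw [h0] at hz'
      exact hz' (by simp)
    obtain ⟨t, ht⟩ := hne
    rw [Finset.mem_filter] at ht
    exact ⟨t, ht.2⟩
  rcases hP _ hcl with h | h
  · have : y ∈ Subgroup.closure U := Subgroup.subset_closure hnd
    rw [h, Subgroup.mem_bot] at this
    exact hy this
  · rw [h, top_le_iff] at hle
    exact range_pow_ne_top p hpn hle

lemma L4 [IsCyclic A] {Γ : Subgroup (Equiv.Perm A)} (hK : Key (Γ : Set (Equiv.Perm A)))
    (hP : Prim Γ) (T : Finset A) (hT : SInv Γ (T : Set A)) (p : ℕ) [hp : Fact p.Prime]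
    (hpn : p ∣ Fintype.card A) (x : A) (hxT : x ∈ T) (hx : x ^ p ≠ 1) (u : A) (hu : u ^ p = 1) :
    x * u ∈ T := by
  have h3 := L3 hK hP T hT p hpn (x ^ p) hx
  have hxm : x ∈ T.filter (fun t => t ^ p = x ^ p) := by
    rw [Finset.mem_filter]; exact ⟨hxT, rfl⟩
  have hpos : 0 < (T.filter (fun t => t ^ p = x ^ p)).card := Finset.card_pos.2 ⟨x, hxm⟩
  have hge : p ≤ (T.filter (fun t => t ^ p = x ^ p)).card := Nat.le_of_dvd hpos h3
  have hsub : T.filter (fun t => t ^ p = x ^ p) ⊆ Finset.univ.filter (fun t : A => t ^ p = x ^ p) := by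
    intro t ht
    rw [Finset.mem_filter] at ht ⊢
    exact ⟨Finset.mem_univ _, ht.2⟩
  have hF : (Finset.univ.filter (fun t : A => t ^ p = x ^ p)).card ≤ p := by
    have h1 : Finset.univ.filter (fun t : A => t ^ p = x ^ p)
        ⊆ (Finset.univ.filter (fun a : A => a ^ p = 1)).image (fun a => x * a) := by
      intro t ht
      rw [Finset.mem_filter] at ht
      rw [Finset.mem_image]
      refine ⟨x⁻¹ * t, ?_, by rw [mul_inv_cancel_left]⟩
      rw [Finset.mem_filter]
      refine ⟨Finset.mem_univ _, ?_⟩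
      rw [mul_pow, ht.2, inv_pow, inv_mul_cancel]
    calc (Finset.univ.filter (fun t : A => t ^ p = x ^ p)).card
        ≤ ((Finset.univ.filter (fun a : A => a ^ p = 1)).image (fun a => x * a)).card :=
          Finset.card_le_card h1
      _ ≤ (Finset.univ.filter (fun a : A => a ^ p = 1)).card := Finset.card_image_le
      _ ≤ p := IsCyclic.card_pow_eq_one_le hp.out.pos
  have heq := Finset.eq_of_subset_of_card_le hsub (hF.trans hge)
  have hm : x * u ∈ Finset.univ.filter (fun t : A => t ^ p = x ^ p) := by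
    rw [Finset.mem_filter]
    refine ⟨Finset.mem_univ _, ?_⟩
    rw [mul_pow, hu, mul_one]
  rw [← heq, Finset.mem_filter] at hm
  exact hm.1

end Cfsg.Agent.Helper4.SchurRing
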