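import Cfsg.Agent.Helper4.SchurRingB

set_option autoImplicit false
set_option linter.unusedSectionVars false

namespace Cfsg.Agent.Helper4.SchurRing

open MonoidAlgebra
open scoped Pointwise

variable {A : Type*} [CommGroup A] [Fintype A] [DecidableEq A]

lemma sinv_inv {Γ : Subgroup (Equiv.Perm A)} (hK : Key (Γ : Set (Equiv.Perm A)))
    (T : Finset A) (hT : SInv Γ (T : Set A)) :
    SInv Γ ((T.image (fun t => t⁻¹) : Finset A) : Set A) := by
  intro γ hγ s hs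
  rw [Finset.mem_coe, Finset.mem_image] at hs
  obtain ⟨t, ht, rfl⟩ := hs
  obtain ⟨γ', hγ', h1⟩ := hK.key γ hγ t⁻¹ 1
  rw [inv_inv, mul_one, hK.fix γ hγ, mul_one] at h1
  rw [Finset.mem_coe, Finset.mem_image]
  refine ⟨γ' t, ?_, by rw [h1, inv_inv]⟩
  have := hT γ' hγ' t (by simpa using ht)
  simpa using this

lemma coeff_ind {R : Type*} [CommSemiring R] (T : Finset A) (c : A) :
    (∑ t ∈ T, single t (1 : R) : MonoidAlgebra R A).coeff c = if c ∈ T then 1 else 0 := by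
  rw [coeff_sum]
  simp only [coeff_single, Finset.sum_apply', Finsupp.single_apply]
  rw [Finset.sum_ite_eq' T c]

lemma coeff_ind_mul (T T' : Finset A) (z : A) :
    ((∑ t ∈ T, single t (1 : ℕ)) * (∑ t ∈ T', single t (1 : ℕ)) : MonoidAlgebra ℕ A).coeff z
      = (T.filter (fun x => x⁻¹ * z ∈ T')).card := by
  rw [coeff_mul_apply_left, Finsupp.sum_fintype _ _ (by intro i; simp)]
  simp only [coeff_ind]
  rw [Finset.card_filter]
  simp only [ite_mul, one_mul, zero_mul]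
  rw [Finset.sum_ite_mem]
  simp

lemma stab_sinv {Γ : Subgroup (Equiv.Perm A)} (hK : Key (Γ : Set (Equiv.Perm A)))
    (T : Finset A) (hT : SInv Γ (T : Set A)) :
    SInv Γ ((MulAction.stabilizer A T : Subgroup A) : Set A) := by
  have hTiff : ∀ γ ∈ (Γ : Set (Equiv.Perm A)), ∀ t, t ∈ T ↔ γ t ∈ T := by
    intro γ hγ t
    have := hT.iff γ hγ t
    simpa using this
  have hT'iff : ∀ γ ∈ (Γ : Set (Equiv.Perm A)), ∀ t,
      t ∈ T.image (fun t => t⁻¹) ↔ γ t ∈ T.image (fun t => t⁻¹) := by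
    intro γ hγ t
    have := (sinv_inv hK T hT).iff γ hγ t
    simpa only [Finset.mem_coe] using this
  have hf := invAlg_mul hK (invAlg_indicator (R := ℕ) T hTiff)
    (invAlg_indicator (R := ℕ) (T.image (fun t => t⁻¹)) hT'iff)
  have hchar : ∀ z : A, z ∈ MulAction.stabilizer A T ↔
      ((∑ t ∈ T, single t (1 : ℕ)) * (∑ t ∈ T.image (fun t => t⁻¹), single t (1 : ℕ)) :
        MonoidAlgebra ℕ A).coeff z = T.card := by
    intro z
    rw [coeff_ind_mul, Finset.card_filter_eq_iff, ← Subgroup.inv_mem_iff,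
      MulAction.mem_stabilizer_finset']
    constructor
    · intro h x hx
      rw [Finset.mem_image]
      refine ⟨z⁻¹ * x, ?_, by rw [mul_inv_rev, inv_inv]⟩
      have := h hx
      rwa [smul_eq_mul] at this
    · intro h x hx
      have := h x hx
      rw [Finset.mem_image] at this
      obtain ⟨t, ht, hte⟩ := this
      rw [smul_eq_mul]
      have : z⁻¹ * x = t := by
        rw [← inv_inv t, hte, mul_inv_rev, inv_inv]
      rw [this]; exact ht
  intro γ hγ z hz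
  rw [SetLike.mem_coe, hchar] at hz ⊢
  rw [hf γ hγ z]; exact hz

lemma L5 {Γ : Subgroup (Equiv.Perm A)} (hK : Key (Γ : Set (Equiv.Perm A))) (hP : Prim Γ)
    (T : Finset A) (hT : SInv Γ (T : Set A)) (hne : T.Nonempty) (h1 : (1 : A) ∉ T) :
    MulAction.stabilizer A T = ⊥ := by
  rcases hP _ (stab_sinv hK T hT) with h | h
  · exact h
  · exfalso
    obtain ⟨t, ht⟩ := hne
    have : t⁻¹ ∈ MulAction.stabilizer A T := by rw [h]; exact Subgroup.mem_top _
    rw [MulAction.mem_stabilizer_finset'] at this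
    have h2 := this ht
    rw [smul_eq_mul, inv_mul_cancel] at h2
    exact h1 h2

lemma L5' [IsCyclic A] {Γ : Subgroup (Equiv.Perm A)} (hK : Key (Γ : Set (Equiv.Perm A)))
    (hP : Prim Γ) (T : Finset A) (hT : SInv Γ (T : Set A)) (hne : T.Nonempty) (h1 : (1 : A) ∉ T)
    (p : ℕ) [hp : Fact p.Prime] (hpn : p ∣ Fintype.card A) :
    ∃ t ∈ T, t ^ p = 1 := by
  by_contra hcon
  push Not at hcon
  obtain ⟨u, hu⟩ := exists_prime_orderOf_dvd_card (G := A) p hpn
  have hup : u ^ p = 1 := by rw [← hu]; exact pow_orderOf_eq_one u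
  have hmem : u ∈ MulAction.stabilizer A T := by
    rw [MulAction.mem_stabilizer_finset']
    intro t ht
    rw [smul_eq_mul, mul_comm]
    exact L4 hK hP T hT p hpn t ht (hcon t ht) u hup
  rw [L5 hK hP T hT hne h1, Subgroup.mem_bot] at hmem
  rw [hmem, orderOf_one] at hu
  exact hp.out.one_lt.ne hu

lemma eq_one_of_pow_pow {a : A} {p q : ℕ} (hpq : Nat.Coprime p q) (hp : a ^ p = 1)
    (hq : a ^ q = 1) : a = 1 := by
  have h1 := orderOf_dvd_of_pow_eq_one hp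
  have h2 := orderOf_dvd_of_pow_eq_one hq
  have h3 := Nat.dvd_gcd h1 h2
  rw [hpq.gcd_eq_one, Nat.dvd_one] at h3
  exact orderOf_eq_one_iff.1 h3

lemma L6 [IsCyclic A] {Γ : Subgroup (Equiv.Perm A)} (hK : Key (Γ : Set (Equiv.Perm A)))
    (hP : Prim Γ) (T : Finset A) (hT : SInv Γ (T : Set A)) (hne : T.Nonempty) (h1 : (1 : A) ∉ T)
    (p q : ℕ) [hp : Fact p.Prime] [hq : Fact q.Prime] (hpq : p ≠ q)
    (hpn : p ∣ Fintype.card A) (hqn : q ∣ Fintype.card A) (u : A) (hu : u ^ p = 1) (hu1 : u ≠ 1) :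
    u ∈ T := by
  have hcop : Nat.Coprime p q := (Nat.coprime_primes hp.out hq.out).2 hpq
  obtain ⟨x, hxT, hxq⟩ := L5' hK hP T hT hne h1 q hqn
  have hx1 : x ≠ 1 := fun h => h1 (h ▸ hxT)
  have hxp : x ^ p ≠ 1 := fun h => hx1 (eq_one_of_pow_pow hcop h hxq)
  have h2 : x * u ∈ T := L4 hK hP T hT p hpn x hxT hxp u hu
  have h3 : (x * u) ^ q ≠ 1 := by
    rw [mul_pow, hxq, one_mul]
    intro h
    exact hu1 (eq_one_of_pow_pow hcop hu h)
  have h4 := L4 hK hP T hT q hqn (x * u) h2 h3 x⁻¹ (by rw [inv_pow, hxq, inv_one])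
  rwa [mul_comm x u, mul_inv_cancel_right] at h4

theorem main [IsCyclic A] {Γ : Subgroup (Equiv.Perm A)} (hK : Key (Γ : Set (Equiv.Perm A)))
    (hP : Prim Γ) (hn : ¬ IsPrimePow (Fintype.card A)) (h2 : 2 ≤ Fintype.card A) :
    ∀ x y : A, x ≠ 1 → y ≠ 1 → ∃ γ ∈ Γ, γ x = y := by
  classical
  have hp1 : Fintype.card A ≠ 1 := by omega
  obtain ⟨p, hp, hpn⟩ := Nat.exists_prime_and_dvd hp1
  rw [isPrimePow_iff_unique_prime_dvd] at hn
  have : ∃ q, q.Prime ∧ q ∣ Fintype.card A ∧ q ≠ p := by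
    by_contra hcon
    push Not at hcon
    exact hn ⟨p, ⟨hp, hpn⟩, fun q hq => hcon q hq.1 hq.2⟩
  obtain ⟨q, hq, hqn, hqp⟩ := this
  have : Fact p.Prime := ⟨hp⟩
  have : Fact q.Prime := ⟨hq⟩
  obtain ⟨u, hu⟩ := exists_prime_orderOf_dvd_card (G := A) p hpn
  have hup : u ^ p = 1 := by rw [← hu]; exact pow_orderOf_eq_one u
  have hu1 : u ≠ 1 := by
    intro h
    rw [h, orderOf_one] at hu
    exact hp.one_lt.ne hu
  have horb : ∀ x : A, x ≠ 1 → ∃ γ ∈ Γ, γ x = u := by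
    intro x hx
    let T : Finset A := Finset.univ.filter (fun t => ∃ γ ∈ Γ, γ x = t)
    have hT : SInv Γ (T : Set A) := by
      intro γ hγ t ht
      rw [Finset.mem_coe, Finset.mem_filter] at ht ⊢
      obtain ⟨γ₁, hγ₁, rfl⟩ := ht.2
      exact ⟨Finset.mem_univ _, γ * γ₁, Γ.mul_mem hγ hγ₁, rfl⟩
    have hne : T.Nonempty := ⟨x, by
      rw [Finset.mem_filter]
      exact ⟨Finset.mem_univ _, 1, Γ.one_mem, rfl⟩⟩
    have h1 : (1 : A) ∉ T := by
      intro h
      rw [Finset.mem_filter] at h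
      obtain ⟨γ, hγ, h⟩ := h.2
      apply hx
      apply γ.injective
      rw [h, hK.fix γ hγ]
    have := L6 hK hP T hT hne h1 p q (Ne.symm hqp) hpn hqn u hup hu1
    rw [Finset.mem_filter] at this
    exact this.2
  intro x y hx hy
  obtain ⟨γ₁, hγ₁, h1⟩ := horb x hx
  obtain ⟨γ₂, hγ₂, h2⟩ := horb y hy
  refine ⟨γ₂⁻¹ * γ₁, Γ.mul_mem (Γ.inv_mem hγ₂) hγ₁, ?_⟩
  rw [Equiv.Perm.mul_apply, h1, ← h2]
  simp

end Cfsg.Agent.Helper4.SchurRing
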