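import Cfsg.Agent.Helper4.SchurRingC
import Mathlib.GroupTheory.GroupAction.Primitive
import Mathlib.GroupTheory.GroupAction.MultipleTransitivity

set_option autoImplicit false
set_option linter.unusedSectionVars false

namespace Cfsg.Agent.Helper4.SchurRing

/-- The abstract main theorem with only a `Group` instance. -/
theorem main' {A : Type*} [Group A] [Fintype A] [DecidableEq A] (hc : IsCyclic A)
    {Γ : Subgroup (Equiv.Perm A)} (fix : ∀ γ ∈ Γ, γ 1 = 1)
    (key : ∀ γ ∈ Γ, ∀ x z : A, ∃ γ' ∈ Γ, γ' (x⁻¹ * z) = (γ x)⁻¹ * γ z)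
    (hP : ∀ K : Subgroup A, (∀ γ ∈ Γ, ∀ t, t ∈ K → γ t ∈ K) → K = ⊥ ∨ K = ⊤)
    (hn : ¬ IsPrimePow (Fintype.card A)) (h2 : 2 ≤ Fintype.card A) :
    ∀ x y : A, x ≠ 1 → y ≠ 1 → ∃ γ ∈ Γ, γ x = y := by
  let _ : CommGroup A :=
    { (inferInstance : Group A) with mul_comm := isMulCommutative_iff.1 inferInstance }
  exact main (Γ := Γ) ⟨fix, key⟩ hP hn h2

variable {G Ω : Type*} [Group G] [MulAction G Ω]

/-- Transport of the action along an equivalence. -/
noncomputable def phi {X : Type*} (e : X ≃ Ω) : G →* Equiv.Perm X where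
  toFun g := (e.trans (MulAction.toPerm g)).trans e.symm
  map_one' := by ext c; simp
  map_mul' g h := by ext c; simp [mul_smul]

lemma phi_apply {X : Type*} (e : X ≃ Ω) (g : G) (x : X) : phi e g x = e.symm (g • e x) := rfl

lemma e_phi {X : Type*} (e : X ≃ Ω) (g : G) (x : X) : e (phi e g x) = g • e x := by
  rw [phi_apply, Equiv.apply_symm_apply]

section
variable (C : Subgroup G) (ω₀ : Ω) (htr : MulAction.IsPretransitive ↥C Ω)
  (hreg : ∀ a : Ω, MulAction.stabilizer ↥C a = ⊥)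

include htr hreg in
lemma orb_bij : Function.Bijective (fun c : ↥C => c • ω₀) := by
  constructor
  · intro c c' h
    have h1 : (c'⁻¹ * c) • ω₀ = ω₀ := by
      rw [mul_smul]
      have h' : c • ω₀ = c' • ω₀ := h
      rw [h', inv_smul_smul]
    have h2 : c'⁻¹ * c ∈ MulAction.stabilizer ↥C ω₀ := h1
    rw [hreg ω₀, Subgroup.mem_bot] at h2
    have := inv_mul_eq_one.1 h2
    exact this.symm
  · intro a
    exact htr.exists_smul_eq ω₀ a

/-- the orbit bijection -/
noncomputable def orbE : ↥C ≃ Ω := Equiv.ofBijective _ (orb_bij C ω₀ htr hreg)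

lemma orbE_apply (c : ↥C) : orbE C ω₀ htr hreg c = (c : G) • ω₀ := rfl

lemma orbE_one : orbE C ω₀ htr hreg 1 = ω₀ := by
  rw [orbE_apply]; simp

lemma phi_coe (c c' : ↥C) : phi (orbE C ω₀ htr hreg) (c : G) c' = c * c' := by
  apply (orbE C ω₀ htr hreg).injective
  rw [e_phi, orbE_apply, orbE_apply, Subgroup.coe_mul, mul_smul]

lemma phi_stab {g : G} (hg : g ∈ MulAction.stabilizer G ω₀) :
    phi (orbE C ω₀ htr hreg) g 1 = 1 := by
  apply (orbE C ω₀ htr hreg).injective
  rw [e_phi, orbE_one]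
  exact hg

/-- The group of permutations of `C` induced by the point stabilizer. -/
noncomputable def Gam : Subgroup (Equiv.Perm ↥C) :=
  (MulAction.stabilizer G ω₀).map (phi (orbE C ω₀ htr hreg))

lemma gam_fix : ∀ γ ∈ Gam C ω₀ htr hreg, γ 1 = 1 := by
  intro γ hγ
  obtain ⟨g, hg, rfl⟩ := hγ
  exact phi_stab C ω₀ htr hreg hg

lemma gam_key : ∀ γ ∈ Gam C ω₀ htr hreg, ∀ x z : ↥C,
    ∃ γ' ∈ Gam C ω₀ htr hreg, γ' (x⁻¹ * z) = (γ x)⁻¹ * γ z := by
  intro γ hγ x z
  obtain ⟨g, hg, rfl⟩ := hγ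
  set e := orbE C ω₀ htr hreg with he
  set x' : ↥C := phi e g x with hx'
  have hh : ((x'⁻¹ : ↥C) : G) * g * (x : G) ∈ MulAction.stabilizer G ω₀ := by
    rw [MulAction.mem_stabilizer_iff, mul_smul, mul_smul]
    have h1 : g • ((x : G) • ω₀) = (x' : G) • ω₀ := by
      rw [← orbE_apply C ω₀ htr hreg x, ← orbE_apply C ω₀ htr hreg x', hx', e_phi]
    rw [h1, ← mul_smul, ← Subgroup.coe_mul, inv_mul_cancel]
    simp
  refine ⟨phi e (((x'⁻¹ : ↥C) : G) * g * (x : G)), ⟨_, hh, rfl⟩, ?_⟩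
  have hmm : phi e (((x'⁻¹ : ↥C) : G) * g * (x : G))
      = phi e ((x'⁻¹ : ↥C) : G) * phi e g * phi e (x : G) := by
    rw [(phi e).map_mul, (phi e).map_mul]
  rw [hmm, Equiv.Perm.mul_apply, Equiv.Perm.mul_apply, he,
    phi_coe, phi_coe, mul_inv_cancel_left]

lemma gam_prim [Nontrivial Ω] [MulAction.IsPreprimitive G Ω] :
    ∀ K : Subgroup ↥C, (∀ γ ∈ Gam C ω₀ htr hreg, ∀ t, t ∈ K → γ t ∈ K) → K = ⊥ ∨ K = ⊤ := by
  intro K hK
  set e := orbE C ω₀ htr hreg with he
  have hKiff : ∀ γ ∈ Gam C ω₀ htr hreg, ∀ t, t ∈ K ↔ γ t ∈ K := by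
    intro γ hγ t
    refine ⟨hK γ hγ t, fun ht => ?_⟩
    have := hK γ⁻¹ ((Gam C ω₀ htr hreg).inv_mem hγ) _ ht
    simpa using this
  let L : Subgroup G :=
    { carrier := {g | ∀ k, k ∈ K ↔ phi e g k ∈ K}
      one_mem' := by intro k; simp
      mul_mem' := by
        intro a b ha hb k
        rw [map_mul, Equiv.Perm.mul_apply]
        exact (hb k).trans (ha _)
      inv_mem' := by
        intro a ha k
        have := ha (phi e a⁻¹ k)
        rw [← Equiv.Perm.mul_apply, ← map_mul, mul_inv_cancel, map_one] at this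
        exact this.symm }
  have hL : ∀ g, g ∈ L ↔ ∀ k, k ∈ K ↔ phi e g k ∈ K := fun g => Iff.rfl
  have h1 : MulAction.stabilizer G ω₀ ≤ L := by
    intro g hg
    rw [hL]
    intro k
    exact hKiff _ ⟨g, hg, rfl⟩ k
  have hKL : ∀ k ∈ K, (k : G) ∈ L := by
    intro k hk
    rw [hL]
    intro k'
    rw [he, phi_coe]
    exact (Subgroup.mul_mem_cancel_left K hk).symm
  have hco := MulAction.IsPreprimitive.isCoatom_stabilizer_of_isPreprimitive (G := G) ω₀
  rcases hco.le_iff.1 h1 with h | h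
  · right
    rw [eq_top_iff]
    intro c _
    have hc : (c : G) ∈ L := by rw [h]; exact Subgroup.mem_top _
    rw [hL] at hc
    have := (hc 1).1 K.one_mem
    rw [he, phi_coe, mul_one] at this
    exact this
  · left
    rw [eq_bot_iff]
    intro k hk
    have hk' : (k : G) ∈ MulAction.stabilizer G ω₀ := by rw [← h]; exact hKL k hk
    have : k ∈ MulAction.stabilizer ↥C ω₀ := hk'
    rw [hreg ω₀] at this
    exact this

end

/-- Schur's theorem: a primitive group containing a regular cyclic subgroup of composite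
non-prime-power order is doubly transitive. -/
theorem schur_cyclic [Finite Ω] (htrans : MulAction.IsPretransitive G Ω)
    (hn : 2 ≤ Nat.card Ω) (hnp : ¬ IsPrimePow (Nat.card Ω))
    (C : Subgroup G) (hcyc : IsCyclic ↥C) (htr : MulAction.IsPretransitive ↥C Ω)
    (hreg : ∀ a : Ω, MulAction.stabilizer ↥C a = ⊥) (hprim : MulAction.IsPreprimitive G Ω) :
    MulAction.IsMultiplyPretransitive G Ω 2 := by
  classical
  have hnt : Nontrivial Ω := by
    rw [← Finite.one_lt_card_iff_nontrivial]; omega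
  obtain ⟨ω₀⟩ := hnt.to_nonempty
  set e := orbE C ω₀ htr hreg with he
  have hfin : Finite ↥C := Finite.of_equiv Ω e.symm
  let _ : Fintype ↥C := Fintype.ofFinite _
  have hcard : Fintype.card ↥C = Nat.card Ω := by
    rw [← Nat.card_eq_fintype_card]; exact Nat.card_congr e
  have hmain := main' hcyc (gam_fix C ω₀ htr hreg) (gam_key C ω₀ htr hreg)
    (gam_prim C ω₀ htr hreg) (by rw [hcard]; exact hnp) (by rw [hcard]; exact hn)
  -- the stabilizer is transitive on the other points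
  have hst : ∀ a b : Ω, a ≠ ω₀ → b ≠ ω₀ → ∃ g ∈ MulAction.stabilizer G ω₀, g • a = b := by
    intro a b ha hb
    have hx : e.symm a ≠ 1 := by
      intro h
      apply ha
      rw [← e.apply_symm_apply a, h, he, orbE_one]
    have hy : e.symm b ≠ 1 := by
      intro h
      apply hb
      rw [← e.apply_symm_apply b, h, he, orbE_one]
    obtain ⟨γ, hγ, h⟩ := hmain _ _ hx hy
    obtain ⟨g, hg, rfl⟩ := hγ
    refine ⟨g, hg, ?_⟩
    have := congrArg e h
    rw [e_phi, e.apply_symm_apply, e.apply_symm_apply] at this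
    exact this
  rw [MulAction.is_two_pretransitive_iff]
  intro a b c d hab hcd
  obtain ⟨g₁, hg₁⟩ := htrans.exists_smul_eq a ω₀
  obtain ⟨g₂, hg₂⟩ := htrans.exists_smul_eq c ω₀
  have hb : g₁ • b ≠ ω₀ := by
    intro h
    apply hab
    rw [← hg₁] at h
    exact (MulAction.injective g₁ h).symm
  have hd : g₂ • d ≠ ω₀ := by
    intro h
    apply hcd
    rw [← hg₂] at h
    exact (MulAction.injective g₂ h).symm
  obtain ⟨h, hh, hhe⟩ := hst _ _ hb hd
  refine ⟨g₂⁻¹ * h * g₁, ?_, ?_⟩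
  · rw [mul_smul, mul_smul, hg₁, hh, ← hg₂, inv_smul_smul]
  · rw [mul_smul, mul_smul, hhe, inv_smul_smul]

end Cfsg.Agent.Helper4.SchurRing
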