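import Mathlib
import Cfsg.Agent.Helper2.Sharp3A

/-!
# Counting elements of order three in a sharply 3-transitive group

A two-point stabiliser of a sharply 3-transitive group on at least three points
contains at most two elements of order three: the elements of order three are
at most `n(n-1)` (each is determined by any of its 3-cycles), and every ordered
pair of points is fixed by the same number of them.
-/

set_option autoImplicit false

namespace Cfsg.Agent.Helper4.Sharp3Count

open Cfsg.Agent.Helper2.Sharp3 MulAction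

variable {G α : Type*} [Group G] [MulAction G α]

/-- From Mathlib's multiple transitivity to the elementary sharply 3-transitive form. -/
theorem sharpThree_of' (h3 : IsMultiplyPretransitive G α 3)
    (hs : ∀ x : Fin 3 ↪ α, stabilizer G x = ⊥) : SharpThree G α := by
  have emb : ∀ a b c : α, a ≠ b → a ≠ c → b ≠ c →
      ∃ x : Fin 3 ↪ α, x 0 = a ∧ x 1 = b ∧ x 2 = c := by
    intro a b c hab hac hbc
    refine ⟨⟨![a, b, c], ?_⟩, rfl, rfl, rfl⟩
    intro i j hij
    fin_cases i <;> fin_cases j <;> simp_all
  constructor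
  · intro a b c a' b' c' hab hac hbc hab' hac' hbc'
    obtain ⟨x, hx0, hx1, hx2⟩ := emb a b c hab hac hbc
    obtain ⟨y, hy0, hy1, hy2⟩ := emb a' b' c' hab' hac' hbc'
    obtain ⟨g, hg⟩ := (MulAction.isMultiplyPretransitive_iff).1 h3 x y
    refine ⟨g, ?_, ?_, ?_⟩
    · have := congrArg (fun f : Fin 3 ↪ α => f 0) hg
      simpa only [Function.Embedding.smul_apply, hx0, hy0] using this
    · have := congrArg (fun f : Fin 3 ↪ α => f 1) hg
      simpa only [Function.Embedding.smul_apply, hx1, hy1] using this
    · have := congrArg (fun f : Fin 3 ↪ α => f 2) hg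
      simpa only [Function.Embedding.smul_apply, hx2, hy2] using this
  · intro g a b c hab hac hbc ha hb hc
    obtain ⟨x, hx0, hx1, hx2⟩ := emb a b c hab hac hbc
    have hg : g ∈ stabilizer G x := by
      rw [mem_stabilizer_iff]
      ext i
      rw [Function.Embedding.smul_apply]
      fin_cases i
      · show g • x 0 = x 0
        rw [hx0]; exact ha
      · show g • x 1 = x 1
        rw [hx1]; exact hb
      · show g • x 2 = x 2
        rw [hx2]; exact hc
    rw [hs] at hg
    exact Subgroup.mem_bot.1 hg

theorem exists_third [Fintype α] [DecidableEq α] (hn : 3 ≤ Fintype.card α) (u v : α) :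
    ∃ w : α, u ≠ w ∧ v ≠ w := by
  have hlt : ({u, v} : Finset α).card < (Finset.univ : Finset α).card := by
    rw [Finset.card_univ]
    exact lt_of_le_of_lt Finset.card_le_two hn
  obtain ⟨w, -, hw⟩ := Finset.exists_mem_notMem_of_card_lt_card hlt
  simp only [Finset.mem_insert, Finset.mem_singleton, not_or] at hw
  exact ⟨w, fun h => hw.1 h.symm, fun h => hw.2 h.symm⟩

theorem card_order_three_fix_le_two_aux [Fintype G] [Fintype α] [DecidableEq G] [DecidableEq α]
    (h : SharpThree G α) (hn : 3 ≤ Fintype.card α) {a b : α} (hab : a ≠ b) :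
    (Finset.univ.filter
      (fun g : G => g ≠ 1 ∧ g ^ 3 = 1 ∧ g • a = a ∧ g • b = b)).card ≤ 2 := by
  classical
  set n := Fintype.card α with hn_def
  set E : Finset G := Finset.univ.filter (fun g : G => g ≠ 1 ∧ g ^ 3 = 1) with hE
  set T : Finset G := Finset.univ.filter
    (fun g : G => g ≠ 1 ∧ g ^ 3 = 1 ∧ g • a = a ∧ g • b = b) with hT
  set M := (Finset.univ : Finset α).offDiag.card with hM
  have hMpos : 0 < M := Finset.card_pos.2 ⟨(a, b), by simp [hab]⟩
  have hEmem : ∀ g : G, g ∈ E ↔ g ≠ 1 ∧ g ^ 3 = 1 := by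
    intro g; simp [hE]
  -- each element of `E` fixes at most two points
  have hfix : ∀ g ∈ E, (Finset.univ.filter (fun u : α => g • u = u)).card ≤ 2 := by
    intro g hg
    by_contra hlt
    have hlt := not_le.1 hlt
    obtain ⟨u, v, w, hu, hv, hw, huv, huw, hvw⟩ := Finset.two_lt_card_iff.1 hlt
    simp only [Finset.mem_filter, Finset.mem_univ, true_and] at hu hv hw
    exact ((hEmem g).1 hg).1 (h.sharp g u v w huv huw hvw hu hv hw)
  have hmoved : ∀ g ∈ E, n - 2 ≤ (Finset.univ.filter (fun u : α => ¬ g • u = u)).card := by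
    intro g hg
    have h1 := Finset.card_filter_add_card_filter_not (s := (Finset.univ : Finset α))
      (fun u : α => g • u = u)
    have h2 := hfix g hg
    rw [Finset.card_univ] at h1
    omega
  -- first count
  set R : Finset (Σ _ : G, α) :=
    E.sigma (fun g => Finset.univ.filter (fun u : α => ¬ g • u = u)) with hR
  have hRcard : E.card * (n - 2) ≤ R.card := by
    rw [hR, Finset.card_sigma]
    calc E.card * (n - 2) = ∑ _g ∈ E, (n - 2) := by rw [Finset.sum_const, smul_eq_mul]
      _ ≤ _ := Finset.sum_le_sum hmoved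
  set D : Finset (α × α × α) :=
    Finset.univ.filter (fun t => t.1 ≠ t.2.1 ∧ t.1 ≠ t.2.2 ∧ t.2.1 ≠ t.2.2) with hD
  have hcube : ∀ g : G, g ^ 3 = 1 → ∀ u : α, g • g • g • u = u := by
    intro g hg u
    rw [smul_smul, smul_smul, ← pow_three', hg, one_smul]
  have hRD : R.card ≤ D.card := by
    apply Finset.card_le_card_of_injOn (fun x => (x.2, x.1 • x.2, x.1 • x.1 • x.2))
    · rintro ⟨g, u⟩ hx
      have hx' := Finset.mem_sigma.1 (Finset.mem_coe.1 hx)
      have hgE := (hEmem g).1 hx'.1
      have hmv : ¬ g • u = u := (Finset.mem_filter.1 hx'.2).2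
      have hc := hcube g hgE.2 u
      simp only [hD, Finset.coe_filter, Finset.mem_univ, true_and, Set.mem_setOf_eq]
      refine ⟨fun e => hmv e.symm, ?_, ?_⟩
      · intro e
        apply hmv
        rw [← e] at hc
        -- hc : g • g • g • u = u with g • g • u = u
        have : g • u = g • g • g • u := by rw [← e]
        rw [this]; exact hcube g hgE.2 u
      · intro e
        exact hmv (smul_left_cancel g e).symm
    · rintro ⟨g, u⟩ hx ⟨g', u'⟩ hx' heq
      have hx1 := Finset.mem_sigma.1 (Finset.mem_coe.1 hx)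
      have hx2 := Finset.mem_sigma.1 (Finset.mem_coe.1 hx')
      have hgE := (hEmem g).1 hx1.1
      have hgE' := (hEmem g').1 hx2.1
      have hmv : ¬ g • u = u := (Finset.mem_filter.1 hx1.2).2
      simp only [Prod.mk.injEq] at heq
      obtain ⟨hu, h1, h2⟩ := heq
      subst hu
      have e1 : (g⁻¹ * g') • u = u := by
        rw [mul_smul, ← h1, inv_smul_smul]
      have e2 : (g⁻¹ * g') • (g • u) = g • u := by
        calc (g⁻¹ * g') • (g • u) = g⁻¹ • (g' • (g' • u)) := by rw [mul_smul, h1]
          _ = g⁻¹ • (g • g • u) := by rw [h2]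
          _ = g • u := inv_smul_smul _ _
      have e3 : (g⁻¹ * g') • (g • g • u) = g • g • u := by
        calc (g⁻¹ * g') • (g • g • u) = g⁻¹ • (g' • g' • g' • u) := by rw [mul_smul, h2]
          _ = g⁻¹ • u := by rw [hcube g' hgE'.2 u]
          _ = g • g • u := by rw [inv_smul_eq_iff, hcube g hgE.2 u]
      have hne1 : u ≠ g • u := fun e => hmv e.symm
      have hne2 : u ≠ g • g • u := by
        intro e
        apply hmv
        have : g • u = g • g • g • u := by rw [← e]
        rw [this]; exact hcube g hgE.2 u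
      have hne3 : g • u ≠ g • g • u := fun e => hmv (smul_left_cancel g e).symm
      have := h.sharp (g⁻¹ * g') u (g • u) (g • g • u) hne1 hne2 hne3 e1 e2 e3
      have hgg : g = g' := by
        rw [inv_mul_eq_one] at this
        exact this
      subst hgg
      rfl
  have hDcard : D.card ≤ M * (n - 2) := by
    have hsub : D ⊆ ((Finset.univ : Finset α).offDiag.sigma
        (fun p => Finset.univ \ {p.1, p.2})).image (fun x => (x.1.1, x.1.2, x.2)) := by
      rintro ⟨u, v, w⟩ ht
      simp only [hD, Finset.mem_filter, Finset.mem_univ, true_and] at ht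
      refine Finset.mem_image.2 ⟨⟨(u, v), w⟩, ?_, rfl⟩
      refine Finset.mem_sigma.2 ⟨by simp [ht.1], ?_⟩
      simp only [Finset.mem_sdiff, Finset.mem_univ, true_and, Finset.mem_insert,
        Finset.mem_singleton, not_or]
      exact ⟨fun e => ht.2.1 e.symm, fun e => ht.2.2 e.symm⟩
    calc D.card ≤ _ := Finset.card_le_card hsub
      _ ≤ _ := Finset.card_image_le
      _ = ∑ p ∈ (Finset.univ : Finset α).offDiag, (Finset.univ \ {p.1, p.2}).card :=
          Finset.card_sigma _ _
      _ = ∑ _p ∈ (Finset.univ : Finset α).offDiag, (n - 2) := by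
          apply Finset.sum_congr rfl
          intro p hp
          have hp' : p.1 ≠ p.2 := by simpa using hp
          rw [Finset.card_univ_sdiff, Finset.card_pair hp']
      _ = M * (n - 2) := by rw [Finset.sum_const, smul_eq_mul]
  -- second count
  have hk : ∀ p : α × α, ∃ k : G, p.1 ≠ p.2 → k • a = p.1 ∧ k • b = p.2 := by
    intro p
    by_cases hp : p.1 = p.2
    · exact ⟨1, fun h => absurd hp h⟩
    · obtain ⟨c, hca, hcb⟩ := exists_third hn a b
      obtain ⟨w, hw1, hw2⟩ := exists_third hn p.1 p.2
      obtain ⟨k, h1, h2, -⟩ := h.trans a b c p.1 p.2 w hab hca hcb hp hw1 hw2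
      exact ⟨k, fun _ => ⟨h1, h2⟩⟩
  choose k hk using hk
  set Q : Finset (Σ _ : G, α × α) :=
    E.sigma (fun g => (Finset.univ.filter (fun u : α => g • u = u)).offDiag) with hQ
  have hQcard : Q.card ≤ 2 * E.card := by
    rw [hQ, Finset.card_sigma]
    calc _ ≤ ∑ _g ∈ E, 2 := by
          apply Finset.sum_le_sum
          intro g hg
          have h2 := hfix g hg
          rw [Finset.offDiag_card]
          generalize (Finset.univ.filter (fun u : α => g • u = u)).card = f at h2
          interval_cases f <;> simp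
      _ = 2 * E.card := by rw [Finset.sum_const, smul_eq_mul, mul_comm]
  have hWQ : M * T.card ≤ Q.card := by
    rw [hM, ← Finset.card_product]
    apply Finset.card_le_card_of_injOn
      (fun x => (⟨k x.1 * x.2 * (k x.1)⁻¹, x.1⟩ : Σ _ : G, α × α))
    · rintro ⟨p, x⟩ hx
      have hx' := Finset.mem_product.1 (Finset.mem_coe.1 hx)
      have hp : p.1 ≠ p.2 := by simpa using hx'.1
      have hxT : x ≠ 1 ∧ x ^ 3 = 1 ∧ x • a = a ∧ x • b = b := by
        have := hx'.2
        simpa [hT] using this
      obtain ⟨hk1, hk2⟩ := hk p hp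
      refine Finset.mem_coe.2 (Finset.mem_sigma.2 ⟨?_, ?_⟩)
      · show k p * x * (k p)⁻¹ ∈ E
        rw [hEmem]
        refine ⟨?_, ?_⟩
        · intro e
          apply hxT.1
          have : k p * x * (k p)⁻¹ = k p * 1 * (k p)⁻¹ := by rw [e]; simp
          have h' := mul_right_cancel this
          exact mul_left_cancel h'
        · rw [conj_pow, hxT.2.1]; simp
      · show p ∈ (Finset.univ.filter (fun u : α => (k p * x * (k p)⁻¹) • u = u)).offDiag
        simp only [Finset.mem_offDiag, Finset.mem_filter, Finset.mem_univ, true_and]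
        refine ⟨?_, ?_, hp⟩
        · rw [mul_smul, mul_smul]
          nth_rewrite 1 [← hk1]
          rw [inv_smul_smul, hxT.2.2.1, hk1]
        · rw [mul_smul, mul_smul]
          nth_rewrite 1 [← hk2]
          rw [inv_smul_smul, hxT.2.2.2, hk2]
    · rintro ⟨p, x⟩ _ ⟨p', x'⟩ _ heq
      simp only [Sigma.mk.injEq] at heq
      obtain ⟨h1, h2⟩ := heq
      have hp : p = p' := eq_of_heq h2
      subst hp
      have h' := mul_right_cancel h1
      have := mul_left_cancel h'
      rw [this]
  have hEle : E.card ≤ M := by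
    have h1 : E.card * (n - 2) ≤ M * (n - 2) := le_trans hRcard (le_trans hRD hDcard)
    exact Nat.le_of_mul_le_mul_right h1 (by omega)
  have hfin : M * T.card ≤ M * 2 := by
    calc M * T.card ≤ Q.card := hWQ
      _ ≤ 2 * E.card := hQcard
      _ ≤ 2 * M := Nat.mul_le_mul_left 2 hEle
      _ = M * 2 := mul_comm _ _
  exact Nat.le_of_mul_le_mul_left hfin hMpos

/-- In a sharply 3-transitive group on at least three points, at most two elements of
order three fix two given distinct points. -/
theorem ncard_order_three_fix_le_two [Finite G] [Finite α]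
    (h : SharpThree G α) (hn : 3 ≤ Nat.card α) {a b : α} (hab : a ≠ b) :
    {g : G | g ≠ 1 ∧ g ^ 3 = 1 ∧ g • a = a ∧ g • b = b}.ncard ≤ 2 := by
  classical
  haveI := Fintype.ofFinite G
  haveI := Fintype.ofFinite α
  rw [Nat.card_eq_fintype_card] at hn
  have := card_order_three_fix_le_two_aux h hn hab
  rw [Set.ncard_eq_toFinset_card']
  convert this using 2
  ext g
  simp

end Cfsg.Agent.Helper4.Sharp3Count
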