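import Mathlib
import Cfsg.Agent.Helper4.SharpTwoC

set_option autoImplicit false

namespace Cfsg.Agent.Helper4

open MulAction

variable {H α : Type*} [Group H] [MulAction H α]

theorem SharpTwo.main [Finite H] [Fintype α] [DecidableEq α] (h : SharpTwo H α)
    (h2 : 2 ≤ Fintype.card α) :
    ∃ p j : ℕ, p.Prime ∧ 1 ≤ j ∧ Fintype.card α = p ^ j ∧
      ∀ (hp : Fact p.Prime) (P : Sylow p H), (P : Subgroup H).Normal ∧
        IsMulCommutative (P : Subgroup H) ∧ (∀ x ∈ (P : Subgroup H), x ^ p = 1) ∧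
        MulAction.IsPretransitive (P : Subgroup H) α ∧
        (∀ a : α, MulAction.stabilizer (P : Subgroup H) a = ⊥) ∧
        ∀ g : H, g ∈ (P : Subgroup H) ↔ g = 1 ∨ ∀ a : α, g • a ≠ a := by
  classical
  obtain ⟨a, b, hab⟩ := Fintype.one_lt_card_iff.1 h2
  obtain ⟨N, x₀, hx₀N, hx1, hN, hNn, hNc, hNcard, hconj⟩ := h.exists_kernel a b hab
  have hm0 : orderOf x₀ ≠ 0 := (orderOf_pos x₀).ne'
  have hm1 : orderOf x₀ ≠ 1 := by rw [Ne, orderOf_eq_one_iff]; exact hx1
  obtain ⟨p, hp⟩ : ∃ p, p = (orderOf x₀).minFac := ⟨_, rfl⟩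
  have hpp : p.Prime := by rw [hp]; exact Nat.minFac_prime hm1
  have hpd : p ∣ orderOf x₀ := by rw [hp]; exact Nat.minFac_dvd _
  have hy : orderOf (x₀ ^ (orderOf x₀ / p)) = p := orderOf_pow_orderOf_div hm0 hpd
  have hyN : x₀ ^ (orderOf x₀ / p) ∈ N := N.pow_mem hx₀N _
  have hy1 : x₀ ^ (orderOf x₀ / p) ≠ 1 := by
    intro h1
    rw [h1, orderOf_one] at hy
    exact hpp.one_lt.ne hy
  have hordconj : ∀ y ∈ N, y ≠ 1 → orderOf y = orderOf x₀ := by
    intro y hy hy1
    have h1 := hconj y hy hy1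
    rw [isConj_iff] at h1
    obtain ⟨c, rfl⟩ := h1
    have := orderOf_injective (MulAut.conj c).toMonoidHom (MulAut.conj c).injective x₀
    simpa using this
  have hmp : orderOf x₀ = p := by
    rw [← hordconj _ hyN hy1, hy]
  have hpow : ∀ y ∈ N, y ^ p = 1 := by
    intro y hy
    by_cases hy1 : y = 1
    · rw [hy1, one_pow]
    · rw [← hmp, ← hordconj y hy hy1]; exact pow_orderOf_eq_one y
  have hNp : IsPGroup p N := by
    intro y
    refine ⟨1, ?_⟩
    rw [pow_one]
    apply Subtype.ext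
    simpa using hpow y y.2
  have hpF0 : Fact p.Prime := ⟨hpp⟩
  obtain ⟨j, hj⟩ := IsPGroup.iff_card.1 hNp
  rw [hNcard] at hj
  have hj1 : 1 ≤ j := by
    by_contra hj0
    have : j = 0 := by omega
    rw [this, pow_zero] at hj
    omega
  refine ⟨p, j, hpp, hj1, hj, ?_⟩
  intro hpF P
  have hPN : (P : Subgroup H) = N := by
    have hNn' := hNn
    have hcard := h.card_group a b hab
    have hmul := Subgroup.card_mul_index N
    rw [hNcard, hcard] at hmul
    have hnpos : 0 < Fintype.card α := Fintype.card_pos_iff.2 ⟨a⟩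
    have hidx : N.index = Fintype.card α - 1 := Nat.eq_of_mul_eq_mul_left hnpos hmul
    have hnd : ¬ p ∣ N.index := by
      rw [hidx, hj]
      intro hd
      have h1 : p ∣ p ^ j := dvd_pow_self p (by omega)
      have h3 := Nat.dvd_sub h1 hd
      have h4 : p ^ j - (p ^ j - 1) = 1 := by
        have : 0 < p ^ j := pow_pos hpp.pos j
        omega
      rw [h4] at h3
      exact hpp.one_lt.ne' (Nat.dvd_one.1 h3)
    obtain ⟨Q, hQ⟩ : ∃ Q : Sylow p H, (Q : Subgroup H) = N := ⟨hNp.toSylow hnd, rfl⟩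
    have hQn : (Q : Subgroup H).Normal := by rw [hQ]; exact hNn
    have hss : Subsingleton (Sylow p H) := (Sylow.unique_of_normal Q hQn).instSubsingleton
    rw [← hQ, Subsingleton.elim P Q]
  rw [hPN]
  have hstab : ∀ c : α, MulAction.stabilizer N c = ⊥ := by
    intro c
    rw [eq_bot_iff]
    intro g hg
    rw [MulAction.mem_stabilizer_iff] at hg
    rw [Subgroup.mem_bot]
    have h1 : (g : H) ∈ fpfSet H α := by rw [← hN]; exact g.2
    rcases h1 with h1 | h1
    · exact Subtype.ext h1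
    · exact absurd hg (h1 c)
  refine ⟨hNn, ⟨⟨fun y z => Subtype.ext (hNc y y.2 z z.2)⟩⟩, hpow, ?_, hstab, ?_⟩
  · constructor
    intro c d
    have h1 := Subgroup.card_mul_index (MulAction.stabilizer N c)
    rw [hstab c, Subgroup.card_bot, one_mul, ← hstab c, MulAction.index_stabilizer, hNcard] at h1
    have h3 : MulAction.orbit N c = Set.univ := by
      rw [Set.eq_univ_iff_ncard, h1, Nat.card_eq_fintype_card]
    have h4 : d ∈ MulAction.orbit N c := by rw [h3]; trivial
    exact h4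
  · intro g
    have : g ∈ N ↔ g ∈ (N : Set H) := Iff.rfl
    rw [this, hN]
    rfl

end Cfsg.Agent.Helper4
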