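import Mathlib
import Cfsg.Agent.Helper4.ShiftModel

/-!
# Permutation models with a shift letter: checking one sheet only

If the letters of a table commute with the shift and every point is a shift of a point below `N0`,
then a word fixing the points below `N0` fixes all the points.
-/

set_option autoImplicit false

namespace Cfsg.Agent.Helper4.ShM

open Cfsg.Agent.Helper5.LP Cfsg.Agent.Helper5.StemP Cfsg.Agent.Helper5.LTC
  Cfsg.Agent.Helper5.TC Cfsg.Agent.Helper5.TCI

section
variable {d N : ℕ} {T : ℕ → ℕ → ℕ}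

/-- the letters commute with the shift. -/
theorem pp_comm_shift (hT : TableOKI (2 * (d + 1)) N linv T)
    (hcomm : ∀ i, i < d → ∀ v, v < N → actL T [2 * i, 2 * d, 2 * i + 1, 2 * d + 1] v = v)
    (c : ℕ) (hc : c < 2 * (d + 1)) : Commute (pp T N c) (pp T N (2 * d)) := by
  have hσinv : pp T N (2 * d + 1) = (pp T N (2 * d))⁻¹ := pp_odd d
  have hcm : ∀ i, i < d → Commute (pp T N (2 * i)) (pp T N (2 * d)) := by
    intro i hi
    have h1 := prod_pp_eq_one hT [2 * i, 2 * d, 2 * i + 1, 2 * d + 1] (by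
      intro c hc
      simp only [List.mem_cons, List.not_mem_nil, or_false] at hc
      rcases hc with rfl | rfl | rfl | rfl <;> omega) (hcomm i hi)
    simp only [List.map_cons, List.map_nil, List.prod_cons, List.prod_nil, mul_one] at h1
    rw [hσinv, pp_odd i] at h1
    show pp T N (2 * i) * pp T N (2 * d) = pp T N (2 * d) * pp T N (2 * i)
    have h3 : pp T N (2 * i) * pp T N (2 * d) * ((pp T N (2 * i))⁻¹ * (pp T N (2 * d))⁻¹) = 1 := by
      rw [← h1]
      group
    have h4 := eq_inv_of_mul_eq_one_left h3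
    rw [h4]
    group
  obtain ⟨i, rfl | rfl⟩ : ∃ i, c = 2 * i ∨ c = 2 * i + 1 := ⟨c / 2, by omega⟩
  · by_cases hi : i < d
    · exact hcm i hi
    · have hid : i = d := by omega
      rw [hid]
  · rw [pp_odd]
    by_cases hi : i < d
    · exact (hcm i hi).inv_left
    · have hid : i = d := by omega
      rw [hid]
      exact (Commute.refl _).inv_left

/-- **a word fixing one sheet fixes all the points.** -/
theorem fix_of_half (hT : TableOKI (2 * (d + 1)) N linv T)
    (hcomm : ∀ i, i < d → ∀ v, v < N → actL T [2 * i, 2 * d, 2 * i + 1, 2 * d + 1] v = v)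
    (N0 : ℕ)
    (hcov : ∀ v, v < N → ∃ u, u < N0 ∧ u < N ∧ ∃ j, actL T (List.replicate j (2 * d)) u = v)
    (w : List ℕ) (hw : ∀ c ∈ w, c < 2 * (d + 1)) (h : ∀ v, v < N0 → actL T w v = v) :
    ∀ v, v < N → actL T w v = v := by
  intro v hv
  obtain ⟨u, hu0, huN, j, hj⟩ := hcov v hv
  have hP : Commute (w.map (pp T N)).prod (pp T N (2 * d)) := by
    apply Commute.list_prod_left
    intro x hx
    obtain ⟨c, hc, rfl⟩ := List.mem_map.mp hx
    exact pp_comm_shift hT hcomm c (hw c hc)
  have hPj : Commute (w.map (pp T N)).prod (pp T N (2 * d) ^ j) := hP.pow_right j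
  have e1 : ((pp T N (2 * d) ^ j) ⟨u, huN⟩).val = v := by
    have h1 := prod_pp_apply hT (List.replicate j (2 * d)) (by
      intro c hc
      rw [List.eq_of_mem_replicate hc]
      omega) ⟨u, huN⟩
    rw [List.map_replicate, List.prod_replicate] at h1
    rw [h1]
    exact hj
  have e2 : (w.map (pp T N)).prod ⟨u, huN⟩ = ⟨u, huN⟩ := by
    apply Fin.ext
    rw [prod_pp_apply hT w hw]
    exact h u hu0
  have e3 := prod_pp_apply hT w hw ⟨v, hv⟩
  have e4 : (⟨v, hv⟩ : Fin N) = (pp T N (2 * d) ^ j) ⟨u, huN⟩ := Fin.ext e1.symm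
  have e5 : (w.map (pp T N)).prod ((pp T N (2 * d) ^ j) ⟨u, huN⟩) =
      (pp T N (2 * d) ^ j) ((w.map (pp T N)).prod ⟨u, huN⟩) := by
    have h1 := congrArg (fun f : Equiv.Perm (Fin N) => f ⟨u, huN⟩) hPj.eq
    simpa only [Equiv.Perm.mul_apply] using h1
  have e6 : actL T w v = ((w.map (pp T N)).prod ⟨v, hv⟩).val := e3.symm
  rw [e6, e4, e5, e2, e1]

end

end Cfsg.Agent.Helper4.ShM
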