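import Mathlib
import Cfsg.Agent.Helper6.BurnsidePQ

set_option autoImplicit false

namespace Cfsg.Agent.Helper4

/-- A subgroup of `Perm α` all of whose elements are supported in `T` has order dividing `|T|!`. -/
theorem card_dvd_factorial_of_support_subset {α : Type*} [Fintype α] [DecidableEq α]
    (H : Subgroup (Equiv.Perm α)) (T : Finset α) (hH : ∀ σ ∈ H, σ.support ⊆ T) :
    Nat.card H ∣ T.card.factorial := by
  classical
  let f : Equiv.Perm {x // x ∈ T} →* Equiv.Perm α := Equiv.Perm.ofSubtype
  have hle : H ≤ f.range := by
    intro σ hσ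
    rw [Equiv.Perm.mem_range_ofSubtype_iff]
    intro x hx
    exact hH σ hσ hx
  have hcard : Nat.card f.range = T.card.factorial := by
    rw [← Nat.card_congr (MonoidHom.ofInjective Equiv.Perm.ofSubtype_injective).toEquiv]
    rw [Nat.card_eq_fintype_card, Fintype.card_perm, Fintype.card_coe]
  rw [← hcard]
  exact Subgroup.card_dvd_of_le hle

theorem isSolvable_of_support_subset_card_le_four {α : Type*} [Fintype α] [DecidableEq α]
    (H : Subgroup (Equiv.Perm α)) (T : Finset α) (hT : T.card ≤ 4)
    (hH : ∀ σ ∈ H, σ.support ⊆ T) : Group.IsSolvable H := by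
  have h1 := card_dvd_factorial_of_support_subset H T hH
  have h2 : T.card.factorial ∣ 2 ^ 3 * 3 ^ 1 := by
    have : T.card.factorial ∣ (4).factorial := Nat.factorial_dvd_factorial hT
    simpa [Nat.factorial] using this
  exact Cfsg.Agent.Helper6.burnside_pq_aux 2 3 3 1 Nat.prime_two Nat.prime_three _ H rfl
    (h1.trans h2)

theorem support_subset_of_mem_closure {α : Type*} [Fintype α] [DecidableEq α]
    (S : Set (Equiv.Perm α)) (T : Finset α) (hS : ∀ b ∈ S, b.support ⊆ T)
    (σ : Equiv.Perm α) (hσ : σ ∈ Subgroup.closure S) : σ.support ⊆ T := by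
  have h := Equiv.Perm.support_closure_subset_union S σ hσ
  intro x hx
  have hx' : x ∈ (σ.support : Set α) := hx
  have := h hx'
  simp only [Set.mem_iUnion] at this
  obtain ⟨b, hb, hxb⟩ := this
  exact hS b hb hxb

/-- two solvable subgroups commuting elementwise generate a solvable subgroup -/
theorem isSolvable_sup_of_commute {G : Type*} [Group G] (H K : Subgroup G)
    (hH : Group.IsSolvable H) (hK : Group.IsSolvable K)
    (hcomm : ∀ h ∈ H, ∀ k ∈ K, Commute h k) : Group.IsSolvable (H ⊔ K : Subgroup G) := by
  have hc : ∀ (m : H) (n : K), Commute (H.subtype m) (K.subtype n) :=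
    fun m n => hcomm m m.2 n n.2
  let f : H × K →* G := H.subtype.noncommCoprod K.subtype hc
  have hr : f.range = H ⊔ K := by
    have := MonoidHom.noncommCoprod_range H.subtype K.subtype hc
    rw [Subgroup.range_subtype, Subgroup.range_subtype] at this
    exact this
  rw [← hr]
  exact Group.isSolvable_of_surjective f.rangeRestrict_surjective

theorem isSolvable_closure_three_of_disjoint {α : Type*} [Fintype α] [DecidableEq α]
    (a b c : Equiv.Perm α) (ha : a.IsSwap) (hb : b.IsSwap)
    (hca : Disjoint c.support (a.support ∪ b.support)) :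
    Group.IsSolvable (Subgroup.closure ({a, b, c} : Set (Equiv.Perm α))) := by
  have hT : (a.support ∪ b.support).card ≤ 4 := by
    have h1 := Finset.card_union_le a.support b.support
    rw [Equiv.Perm.card_support_eq_two.mpr ha, Equiv.Perm.card_support_eq_two.mpr hb] at h1
    exact h1
  have hsupp : ∀ σ ∈ Subgroup.closure ({a, b} : Set (Equiv.Perm α)),
      σ.support ⊆ a.support ∪ b.support := by
    apply support_subset_of_mem_closure
    intro x hx
    rcases hx with rfl | rfl
    · exact Finset.subset_union_left
    · exact Finset.subset_union_right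
  have hH : Group.IsSolvable (Subgroup.closure ({a, b} : Set (Equiv.Perm α))) :=
    isSolvable_of_support_subset_card_le_four _ _ hT hsupp
  have hK : Group.IsSolvable (Subgroup.zpowers c) :=
    Group.isSolvable_of_comm (fun x y => mul_comm' x y)
  have hset : ({a, b, c} : Set (Equiv.Perm α)) = {a, b} ∪ {c} := by
    ext x; simp only [Set.mem_insert_iff, Set.mem_singleton_iff, Set.mem_union]; tauto
  rw [hset, Subgroup.closure_union, ← Subgroup.zpowers_eq_closure]
  apply isSolvable_sup_of_commute _ _ hH hK
  intro h hh k hk
  obtain ⟨m, rfl⟩ := Subgroup.mem_zpowers_iff.1 hk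
  have hdisj : Equiv.Perm.Disjoint h c := by
    rw [Equiv.Perm.disjoint_iff_disjoint_support]
    exact (Finset.disjoint_of_subset_left (hsupp h hh) hca.symm)
  exact (hdisj.commute).zpow_right m

theorem card_union_succ_le_of_not_disjoint {α : Type*} [DecidableEq α] (X Y : Finset α)
    (h : ¬ Disjoint X Y) : (X ∪ Y).card + 1 ≤ X.card + Y.card := by
  rw [← Finset.card_union_add_card_inter X Y]
  have : 0 < (X ∩ Y).card := by
    rw [Finset.card_pos]
    exact Finset.not_disjoint_iff_nonempty_inter.1 h
  omega

theorem isSolvable_closure_three_swaps {α : Type*} [Fintype α] [DecidableEq α]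
    (a b c : Equiv.Perm α) (ha : a.IsSwap) (hb : b.IsSwap) (hc : c.IsSwap) :
    Group.IsSolvable (Subgroup.closure ({a, b, c} : Set (Equiv.Perm α))) := by
  by_cases h1 : Disjoint c.support (a.support ∪ b.support)
  · exact isSolvable_closure_three_of_disjoint a b c ha hb h1
  by_cases h2 : Disjoint b.support (a.support ∪ c.support)
  · have hset : ({a, b, c} : Set (Equiv.Perm α)) = {a, c, b} := by
      ext x; simp only [Set.mem_insert_iff, Set.mem_singleton_iff]; tauto
    rw [hset]
    exact isSolvable_closure_three_of_disjoint a c b ha hc h2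
  by_cases h3 : Disjoint a.support (b.support ∪ c.support)
  · have hset : ({a, b, c} : Set (Equiv.Perm α)) = {b, c, a} := by
      ext x; simp only [Set.mem_insert_iff, Set.mem_singleton_iff]; tauto
    rw [hset]
    exact isSolvable_closure_three_of_disjoint b c a hb hc h3
  have hA := Equiv.Perm.card_support_eq_two.mpr ha
  have hB := Equiv.Perm.card_support_eq_two.mpr hb
  have hC := Equiv.Perm.card_support_eq_two.mpr hc
  have hT : (a.support ∪ b.support ∪ c.support).card ≤ 4 := by
    by_cases hAB : Disjoint a.support b.support
    · have hAC : ¬ Disjoint a.support c.support := by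
        intro h
        exact h3 (Finset.disjoint_union_right.2 ⟨hAB, h⟩)
      have hBC : ¬ Disjoint b.support (a.support ∪ c.support) := h2
      have e1 := card_union_succ_le_of_not_disjoint _ _ hAC
      have e2 := card_union_succ_le_of_not_disjoint _ _
        (fun h => hBC h.symm : ¬ Disjoint (a.support ∪ c.support) b.support)
      rw [Finset.union_right_comm]
      omega
    · have e1 := card_union_succ_le_of_not_disjoint _ _ hAB
      have e2 := card_union_succ_le_of_not_disjoint _ _
        (fun h => h1 h.symm : ¬ Disjoint (a.support ∪ b.support) c.support)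
      omega
  apply isSolvable_of_support_subset_card_le_four _ _ hT
  apply support_subset_of_mem_closure
  intro x hx
  rcases hx with rfl | rfl | rfl
  · exact Finset.subset_union_left.trans Finset.subset_union_left
  · exact Finset.subset_union_right.trans Finset.subset_union_left
  · exact Finset.subset_union_right

end Cfsg.Agent.Helper4
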