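import Mathlib
import Cfsg.Agent.Helper4.SolvCentralA

/-!
# Solvable subgroups central in every solvable overgroup

If a solvable subgroup `A` of a finite group `G` is central in every solvable subgroup of `G`
containing it, then `A` is central in `G`.  A minimal counterexample modulo its centre is a
Frobenius group with complement `C_G(A) / Z(G)`.
-/

set_option autoImplicit false

namespace Cfsg.Agent.Helper4.SolvCentral

open Subgroup
open scoped Pointwise

universe u

theorem le_center_aux : ∀ (n : ℕ) (G : Type u) [Group G] [Finite G], Nat.card G = n →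
    ∀ (A : Subgroup G), Group.IsSolvable A →
    (∀ S : Subgroup G, A ≤ S → Group.IsSolvable S → ∀ a ∈ A, ∀ s ∈ S, a * s = s * a) →
    A ≤ Subgroup.center G := by
  intro n
  induction n using Nat.strong_induction_on with
  | _ n ih =>
  intro G _ _ hcard A hA hc
  by_contra hnot
  have hAcomm : ∀ a ∈ A, ∀ b ∈ A, a * b = b * a := fun a ha b hb => hc A le_rfl hA a ha b hb
  obtain ⟨M, hM⟩ : ∃ M : Subgroup G, M = centralizer (A : Set G) := ⟨_, rfl⟩
  have hmemM : ∀ g : G, g ∈ M ↔ ∀ a ∈ A, a * g = g * a := fun g => by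
    rw [hM]; exact mem_centralizer_iff
  have hAM : A ≤ M := fun a ha => (hmemM a).2 (fun b hb => hAcomm b hb a ha)
  have hMtop : M ≠ ⊤ := by
    intro h
    apply hnot
    intro a ha
    rw [mem_center_iff]
    intro g
    have : g ∈ M := h ▸ mem_top g
    exact ((hmemM g).1 this a ha).symm
  -- proper subgroups containing `A` centralize `A`
  have hprop : ∀ H : Subgroup G, A ≤ H → H ≠ ⊤ → H ≤ M := by
    intro H hAH hH
    have hlt : Nat.card H < n := by
      rw [← hcard]
      exact lt_of_le_of_ne (Subgroup.card_le_card_group H)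
        (fun h => hH ((Subgroup.card_eq_iff_eq_top H).1 h))
    have hsolvA : Group.IsSolvable (A.subgroupOf H) :=
      Group.isSolvable_of_surjective
        (f := (subgroupOfEquivOfLe hAH).symm.toMonoidHom) (MulEquiv.surjective _)
    have hres := ih (Nat.card H) hlt H rfl (A.subgroupOf H) hsolvA (by
      intro S' hAS' hS' a' ha' s hs
      have hS : Group.IsSolvable (S'.map H.subtype) :=
        Group.isSolvable_of_surjective
          (f := (S'.equivMapOfInjective H.subtype H.subtype_injective).toMonoidHom)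
          (MulEquiv.surjective _)
      have hAS : A ≤ S'.map H.subtype := by
        intro a ha
        exact ⟨⟨a, hAH ha⟩, hAS' (mem_subgroupOf.2 ha), rfl⟩
      have := hc (S'.map H.subtype) hAS hS a'.1 (mem_subgroupOf.1 ha') s.1 ⟨s, hs, rfl⟩
      exact Subtype.ext this)
    intro h hh
    rw [hmemM]
    intro a ha
    have h1 : (⟨a, hAH ha⟩ : H) ∈ center H := hres (mem_subgroupOf.2 ha)
    rw [mem_center_iff] at h1
    have h2 := h1 ⟨h, hh⟩
    exact (congrArg Subtype.val h2).symm
  -- elements whose conjugate of `A` lies in `M` lie in `M`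
  have hkey : ∀ g : G, (∀ a ∈ A, g * a * g⁻¹ ∈ M) → g ∈ M := by
    intro g hg
    -- `A ≤ g M g⁻¹`
    set M' : Subgroup G := M.map (MulAut.conj g).toMonoidHom with hM'
    have hAM' : A ≤ M' := by
      intro a ha
      refine ⟨g⁻¹ * a * g, ?_, ?_⟩
      · rw [SetLike.mem_coe, hmemM]
        intro b hb
        have h1 := (hmemM _).1 (hg b hb) a ha
        have h2 : b * (g⁻¹ * a * g) = g⁻¹ * (g * b * g⁻¹ * a) * g := by group
        have h3 : g⁻¹ * a * g * b = g⁻¹ * (a * (g * b * g⁻¹)) * g := by group
        rw [h2, h3, h1]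
      · show (MulAut.conj g) (g⁻¹ * a * g) = a
        rw [MulAut.conj_apply]; group
    have hcardM' : Nat.card M' = Nat.card M :=
      Subgroup.card_map_of_injective (MulAut.conj g).injective
    have hM'top : M' ≠ ⊤ := by
      intro h
      apply hMtop
      rw [← Subgroup.card_eq_iff_eq_top, ← hcardM', h, Subgroup.card_top]
    have hM'M : M' ≤ M := hprop M' hAM' hM'top
    have hM'eq : M' = M := Subgroup.eq_of_le_of_card_ge hM'M hcardM'.ge
    have hconj : ∀ m ∈ M, g * m * g⁻¹ ∈ M := by
      intro m hm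
      rw [← hM'eq]
      exact ⟨m, hm, by show (MulAut.conj g) m = _; rw [MulAut.conj_apply]⟩
    have hconj' : ∀ m ∈ M, g⁻¹ * m * g ∈ M := by
      intro m hm
      rw [← hM'eq] at hm
      obtain ⟨m₀, hm₀, hm₀e⟩ := hm
      have : m = g * m₀ * g⁻¹ := by
        rw [← hm₀e]; rfl
      rw [this]
      have : g⁻¹ * (g * m₀ * g⁻¹) * g = m₀ := by group
      rw [this]; exact hm₀
    -- the centre of `M`
    set ZM : Subgroup G := M ⊓ centralizer (M : Set G) with hZM
    have hZMcomm : ∀ x y : ZM, x * y = y * x := by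
      intro x y
      apply Subtype.ext
      have hx := (mem_inf.1 x.2).2
      have hy := (mem_inf.1 y.2).1
      rw [mem_centralizer_iff] at hx
      exact (hx y.1 hy).symm
    have hAZM : A ≤ ZM := by
      intro a ha
      refine mem_inf.2 ⟨hAM ha, ?_⟩
      rw [mem_centralizer_iff]
      intro m hm
      exact ((hmemM m).1 hm a ha).symm
    have hgnorm : zpowers g ≤ normalizer (ZM : Set G) := by
      rw [zpowers_le, mem_normalizer_iff]
      have hfwd : ∀ z ∈ ZM, g * z * g⁻¹ ∈ ZM := by
        intro z hz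
        obtain ⟨hz1, hz2⟩ := mem_inf.1 hz
        refine mem_inf.2 ⟨hconj z hz1, ?_⟩
        rw [mem_centralizer_iff] at hz2 ⊢
        intro m hm
        have h1 := hz2 _ (hconj' m hm)
        have h2 : m * (g * z * g⁻¹) = g * (g⁻¹ * m * g * z) * g⁻¹ := by group
        have h3 : g * z * g⁻¹ * m = g * (z * (g⁻¹ * m * g)) * g⁻¹ := by group
        rw [h2, h3, h1]
      have hbwd : ∀ z ∈ ZM, g⁻¹ * z * g ∈ ZM := by
        intro z hz
        obtain ⟨hz1, hz2⟩ := mem_inf.1 hz
        refine mem_inf.2 ⟨hconj' z hz1, ?_⟩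
        rw [mem_centralizer_iff] at hz2 ⊢
        intro m hm
        have h1 := hz2 _ (hconj m hm)
        have h2 : m * (g⁻¹ * z * g) = g⁻¹ * (g * m * g⁻¹ * z) * g := by group
        have h3 : g⁻¹ * z * g * m = g⁻¹ * (z * (g * m * g⁻¹)) * g := by group
        rw [h2, h3, h1]
      intro z
      constructor
      · exact hfwd z
      · intro hz
        have := hbwd _ hz
        have h4 : g⁻¹ * (g * z * g⁻¹) * g = z := by group
        rwa [h4] at this
    have hsolv : Group.IsSolvable (zpowers g ⊔ ZM : Subgroup G) :=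
      isSolvable_sup_of_le_normalizer ZM (zpowers g) (Group.isSolvable_of_comm hZMcomm)
        (Group.isSolvable_of_comm (fun x y => mul_comm' x y)) hgnorm
    rw [hmemM]
    intro a ha
    exact hc _ (hAZM.trans le_sup_right) hsolv a ha g
      (le_sup_left (b := ZM) (mem_zpowers g))
  -- for `g ∉ M`, `A` and its conjugate generate `G`
  have hgen : ∀ g : G, g ∉ M → A ⊔ A.map (MulAut.conj g).toMonoidHom = ⊤ := by
    intro g hg
    by_contra hne
    apply hg
    apply hkey
    intro a ha
    apply hprop _ le_sup_left hne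
    apply le_sup_right (a := A)
    exact ⟨a, ha, by show (MulAut.conj g) a = _; rw [MulAut.conj_apply]⟩
  -- intersections of distinct conjugates of `M` are central
  have hint : ∀ g : G, g ∉ M → ∀ m ∈ M, g * m * g⁻¹ ∈ M → g * m * g⁻¹ ∈ center G := by
    intro g hg m hm hd
    set d := g * m * g⁻¹ with hd'
    have hle : (⊤ : Subgroup G) ≤ centralizer ({d} : Set G) := by
      rw [← hgen g hg]
      apply sup_le
      · intro a ha
        rw [mem_centralizer_iff]
        intro x hx
        rw [Set.mem_singleton_iff] at hx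
        rw [hx]
        exact ((hmemM d).1 hd a ha).symm
      · rintro x ⟨a, ha, rfl⟩
        rw [mem_centralizer_iff]
        intro y hy
        rw [Set.mem_singleton_iff] at hy
        rw [hy]
        show d * (MulAut.conj g) a = (MulAut.conj g) a * d
        rw [MulAut.conj_apply, hd']
        have h1 := (hmemM m).1 hm a ha
        have h2 : g * m * g⁻¹ * (g * a * g⁻¹) = g * (m * a) * g⁻¹ := by group
        have h3 : g * a * g⁻¹ * (g * m * g⁻¹) = g * (a * m) * g⁻¹ := by group
        rw [h2, h3, h1]
    rw [mem_center_iff]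
    intro x
    have := hle (mem_top x)
    rw [mem_centralizer_iff] at this
    exact (this d rfl).symm
  -- the quotient modulo the centre
  set Z : Subgroup G := center G with hZ
  have hZM : Z ≤ M := by
    intro z hz
    rw [hmemM]
    intro a _
    rw [hZ, mem_center_iff] at hz
    exact hz a
  set π : G →* G ⧸ Z := QuotientGroup.mk' Z with hπ
  have hπker : π.ker = Z := QuotientGroup.ker_mk' Z
  have hπsurj : Function.Surjective π := QuotientGroup.mk'_surjective Z
  set Mb : Subgroup (G ⧸ Z) := M.map π with hMb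
  have hmemMb : ∀ g : G, π g ∈ Mb ↔ g ∈ M := by
    intro g
    constructor
    · rintro ⟨m, hm, hmg⟩
      have : m⁻¹ * g ∈ Z := by
        rw [← hπker, MonoidHom.mem_ker, map_mul, map_inv, hmg, inv_mul_cancel]
      have h2 : g = m * (m⁻¹ * g) := by group
      rw [h2]
      exact M.mul_mem hm (hZM this)
    · intro hg
      exact ⟨g, hg, rfl⟩
  have hFrob : Cfsg.IsFrobeniusComplement Mb := by
    refine ⟨?_, ?_, ?_⟩
    · intro h
      apply hnot
      intro a ha
      have : π a ∈ Mb := (hmemMb a).2 (hAM ha)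
      rw [h, mem_bot] at this
      rw [← hπker, MonoidHom.mem_ker]
      exact this
    · intro h
      apply hMtop
      rw [eq_top_iff]
      intro g _
      rw [← hmemMb, h]
      exact mem_top _
    · intro gb hgb
      obtain ⟨g, rfl⟩ := hπsurj gb
      have hg : g ∉ M := fun h => hgb ((hmemMb g).2 h)
      rw [eq_bot_iff]
      intro x hx
      obtain ⟨hx1, hx2⟩ := mem_inf.1 hx
      rw [mem_smul_pointwise_iff_exists] at hx2
      obtain ⟨s, hs, hsx⟩ := hx2
      obtain ⟨m, hm, rfl⟩ := hs
      rw [MulAut.smul_def, MulAut.conj_apply] at hsx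
      have hx' : x = π (g * m * g⁻¹) := by
        rw [← hsx, map_mul, map_mul, map_inv]
      rw [hx'] at hx1 ⊢
      have hd : g * m * g⁻¹ ∈ M := (hmemMb _).1 hx1
      have := hint g hg m hm hd
      rw [mem_bot, ← MonoidHom.mem_ker, hπker]
      exact this
  -- the Frobenius kernel
  obtain ⟨Nb, hNbset, hNbn, hNbnil⟩ := Cfsg.Agent.Helper1.frobenius_kernel_nilpotent Mb hFrob
  obtain ⟨Nb', hNb'set, -, hcompl⟩ := Cfsg.Agent.Helper6.frobenius_kernel_theorem Mb hFrob
  have hNbeq : Nb' = Nb := SetLike.coe_injective (hNb'set.trans hNbset.symm)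
  rw [hNbeq] at hcompl
  have hNbM : ∀ x ∈ Nb, x ∈ Mb → x = 1 := by
    intro x hx hxM
    have : x ∈ (Nb : Set (G ⧸ Z)) := hx
    rw [hNbset] at this
    rcases this with h | h
    · exact h
    · exfalso
      apply h 1
      rw [map_one, one_smul]
      exact hxM
  have hNbne : Nb ≠ ⊥ := by
    intro h
    apply hFrob.2.1
    have h1 := hcompl.card_mul
    rw [h, Subgroup.card_bot, one_mul] at h1
    exact (Subgroup.card_eq_iff_eq_top Mb).1 h1
  -- its preimage is solvable
  haveI := hNbn
  set K : Subgroup G := Nb.comap π with hK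
  haveI hKn : K.Normal := hNbn.comap π
  have hKsolv : Group.IsSolvable K := by
    haveI : Group.IsSolvable Nb := inferInstance
    have hZK : Z ≤ K := by
      intro z hz
      rw [hK, mem_comap]
      have : π z = 1 := by rw [← MonoidHom.mem_ker, hπker]; exact hz
      rw [this]; exact one_mem _
    haveI : Group.IsSolvable Z := Group.isSolvable_of_comm (fun x y => by
      apply Subtype.ext
      have h1 : x.1 ∈ center G := hZ ▸ x.2
      rw [mem_center_iff] at h1
      exact (h1 y.1).symm)
    apply Group.isSolvable_of_ker_le_range (inclusion hZK) (π.subgroupComap Nb)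
    intro k hk
    rw [MonoidHom.mem_ker] at hk
    have hk1 : π k.1 = 1 := congrArg Subtype.val hk
    have hkZ : k.1 ∈ Z := by rw [← hπker, MonoidHom.mem_ker]; exact hk1
    exact ⟨⟨k.1, hkZ⟩, Subtype.ext rfl⟩
  have hsolvAK : Group.IsSolvable (A ⊔ K : Subgroup G) :=
    isSolvable_sup_of_le_normalizer K A hKsolv hA (by
      rw [normalizer_eq_top_iff.2 hKn]; exact le_top)
  have hAKcomm : ∀ a ∈ A, ∀ k ∈ K, a * k = k * a := fun a ha k hk =>
    hc _ le_sup_left hsolvAK a ha k (le_sup_right (a := A) hk)
  -- contradiction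
  obtain ⟨a, ha, haZ⟩ : ∃ a ∈ A, a ∉ Z := by
    by_contra h
    push Not at h
    exact hnot (fun a ha => h a ha)
  obtain ⟨kb, hkb, hkb1⟩ : ∃ kb ∈ Nb, kb ≠ 1 := by
    by_contra h
    push Not at h
    apply hNbne
    rw [eq_bot_iff]
    intro x hx
    rw [mem_bot]
    exact h x hx
  obtain ⟨k, rfl⟩ := hπsurj kb
  have hkK : k ∈ K := by rw [hK, mem_comap]; exact hkb
  have hkM : π k ∉ Mb := fun h => hkb1 (hNbM _ hkb h)
  have hTI := hFrob.2.2 (π k) hkM
  have hmem : π a ∈ Mb ⊓ MulAut.conj (π k) • Mb := by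
    refine mem_inf.2 ⟨(hmemMb a).2 (hAM ha), ?_⟩
    rw [mem_smul_pointwise_iff_exists]
    refine ⟨π a, (hmemMb a).2 (hAM ha), ?_⟩
    rw [MulAut.smul_def, MulAut.conj_apply, ← map_mul, ← map_inv, ← map_mul]
    congr 1
    have := hAKcomm a ha k hkK
    rw [← this]; group
  rw [hTI, mem_bot, ← MonoidHom.mem_ker, hπker] at hmem
  exact haZ hmem

theorem le_center_of_solvable_central {G : Type u} [Group G] [Finite G]
    (A : Subgroup G) (hA : Group.IsSolvable A)
    (hc : ∀ S : Subgroup G, A ≤ S → Group.IsSolvable S → ∀ a ∈ A, ∀ s ∈ S, a * s = s * a) :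
    A ≤ Subgroup.center G :=
  le_center_aux _ G rfl A hA hc

end Cfsg.Agent.Helper4.SolvCentral
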