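import Mathlib
import Cfsg.Prelude.Def_FusionComponents
import Cfsg.Agent.Lead.FusionSolvable
import Cfsg.Agent.Lead.FusionFactor

/-!
Solvable fusion systems via the "strongly closed derived series", and
solvability of `F` in terms of a normal subsystem `E` and the factor system
modulo its underlying subgroup (S5159).
-/

set_option autoImplicit false

namespace Cfsg.Agent.Helper4.SolvFus

open Cfsg Cfsg.FusionSystem Cfsg.Agent.Lead
open scoped commutatorElement

variable {Ω : Type*} [Group Ω] {S : Subgroup Ω}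

/-- The whole group `S` is strongly closed. -/
theorem self_stronglyClosed (F : FusionSystem S) : F.StronglyClosed S :=
  ⟨le_rfl, fun _ _ _ hφ x => Fusion.map_mem F hφ x⟩

/-- The infimum of a nonempty family of strongly closed subgroups is strongly closed. -/
theorem sInf_stronglyClosed (F : FusionSystem S) (X : Set (Subgroup Ω))
    (hX : ∀ R ∈ X, F.StronglyClosed R) (hne : X.Nonempty) : F.StronglyClosed (sInf X) := by
  obtain ⟨R₀, hR₀⟩ := hne
  refine ⟨(sInf_le hR₀).trans (hX R₀ hR₀).1, ?_⟩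
  intro P hP φ hφ x
  rw [Subgroup.mem_sInf]
  intro R hR
  exact (hX R hR).2 P (hP.trans (sInf_le hR)) φ hφ x

/-- The strongly closed derived series. -/
def sder (F : FusionSystem S) : ℕ → Subgroup Ω
  | 0 => S
  | (j + 1) => sInf {R | F.StronglyClosed R ∧ ⁅sder F j, sder F j⁆ ≤ R}

theorem sder_zero (F : FusionSystem S) : sder F 0 = S := rfl

theorem sder_succ (F : FusionSystem S) (j : ℕ) :
    sder F (j + 1) = sInf {R | F.StronglyClosed R ∧ ⁅sder F j, sder F j⁆ ≤ R} := rfl

theorem comm_self_le (A : Subgroup Ω) : ⁅A, A⁆ ≤ A := by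
  rw [Subgroup.commutator_le]
  intro a ha b hb
  exact A.mul_mem (A.mul_mem (A.mul_mem ha hb) (A.inv_mem ha)) (A.inv_mem hb)

theorem sder_stronglyClosed (F : FusionSystem S) : ∀ j, F.StronglyClosed (sder F j)
  | 0 => self_stronglyClosed F
  | (j + 1) => by
    rw [sder_succ]
    exact sInf_stronglyClosed F _ (fun R hR => hR.1)
      ⟨sder F j, sder_stronglyClosed F j, comm_self_le _⟩

theorem sder_comm (F : FusionSystem S) (j : ℕ) : ⁅sder F j, sder F j⁆ ≤ sder F (j + 1) := by
  rw [sder_succ]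
  exact le_sInf fun R hR => hR.2

theorem sder_le_of (F : FusionSystem S) (j : ℕ) {R : Subgroup Ω} (hR : F.StronglyClosed R)
    (hc : ⁅sder F j, sder F j⁆ ≤ R) : sder F (j + 1) ≤ R := by
  rw [sder_succ]
  exact sInf_le ⟨hR, hc⟩

theorem sder_succ_le (F : FusionSystem S) (j : ℕ) : sder F (j + 1) ≤ sder F j :=
  sder_le_of F j (sder_stronglyClosed F j) (comm_self_le _)

theorem sder_le (F : FusionSystem S) (j : ℕ) : sder F j ≤ S := (sder_stronglyClosed F j).1

/-- Solvable iff the strongly closed derived series reaches the trivial subgroup. -/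
theorem solvable_iff_sder [Finite S] (p : ℕ) [Fact p.Prime] (hS : IsPGroup p S)
    (F : FusionSystem S) (hF : F.IsSaturated p) :
    F.IsSolvableSystem ↔ ∃ j, sder F j = ⊥ := by
  constructor
  · intro h
    obtain ⟨n, T, h0, hn, -, hsc, hab⟩ := (Fusion.solvable_iff_chain p hS F hF).mp h
    have key : ∀ i : ℕ, ∀ hi : i ≤ n, sder F i ≤ T ⟨n - i, by omega⟩ := by
      intro i
      induction i with
      | zero =>
        intro hi
        have : (⟨n - 0, by omega⟩ : Fin (n + 1)) = Fin.last n := by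
          apply Fin.ext; simp
        rw [this, hn]
        exact le_rfl
      | succ i ih =>
        intro hi
        have hi' : i ≤ n := by omega
        have h1 := ih hi'
        let k : Fin n := ⟨n - (i + 1), by omega⟩
        have hk1 : (Fin.castSucc k : Fin (n + 1)) = ⟨n - (i + 1), by omega⟩ := rfl
        have hk2 : (k.succ : Fin (n + 1)) = ⟨n - i, by omega⟩ := by
          apply Fin.ext
          show n - (i + 1) + 1 = n - i
          omega
        have h2 := hab k
        rw [hk1, hk2] at h2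
        refine sder_le_of F i (hsc _) ?_
        exact (Subgroup.commutator_mono h1 h1).trans h2
    refine ⟨n, ?_⟩
    have h1 := key n le_rfl
    have : (⟨n - n, by omega⟩ : Fin (n + 1)) = 0 := by
      apply Fin.ext; simp
    rw [this, h0] at h1
    exact le_bot_iff.mp h1
  · rintro ⟨j, hj⟩
    refine Fusion.solvable_of_chain p hS F hF j (fun i => sder F (j - i)) ?_ ?_ ?_ ?_
    · show sder F (j - ((0 : Fin (j + 1)) : ℕ)) = ⊥
      simpa using hj
    · show sder F (j - ((Fin.last j : Fin (j + 1)) : ℕ)) = S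
      simp [sder_zero]
    · intro i
      exact sder_stronglyClosed F _
    · intro i
      show ⁅sder F (j - ((i.succ : Fin (j + 1)) : ℕ)), sder F (j - ((i.succ : Fin (j + 1)) : ℕ))⁆ ≤
        sder F (j - ((Fin.castSucc i : Fin (j + 1)) : ℕ))
      have h1 : j - ((Fin.castSucc i : Fin (j + 1)) : ℕ) = (j - ((i.succ : Fin (j + 1)) : ℕ)) + 1 := by
        have := i.2
        simp only [Fin.val_succ, Fin.val_castSucc]
        omega
      rw [h1]
      exact sder_comm F _


/-! ### Subsystems -/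

/-- For a subsystem `E ≤ F` over `T`, an `F`-strongly closed subgroup meets `T` in an
`E`-strongly closed subgroup. -/
theorem inf_stronglyClosed_of_sub (F : FusionSystem S) {T : Subgroup Ω} (E : FusionSystem T)
    (hEF : E.IsSubsystemOf F) {R : Subgroup Ω} (hR : F.StronglyClosed R) :
    E.StronglyClosed (R ⊓ T) := by
  refine ⟨inf_le_right, ?_⟩
  intro P hP φ hφ x
  exact ⟨hR.2 P (hP.trans inf_le_left) φ (hEF P hφ) x, Fusion.map_mem E hφ x⟩

theorem sder_sub_le (F : FusionSystem S) {T : Subgroup Ω} (E : FusionSystem T)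
    (hEF : E.IsSubsystemOf F) (hTS : T ≤ S) : ∀ j, sder E j ≤ sder F j
  | 0 => hTS
  | (j + 1) => by
    have ih := sder_sub_le F E hEF hTS j
    have h1 : sder E (j + 1) ≤ sder F (j + 1) ⊓ T := by
      refine sder_le_of E j (inf_stronglyClosed_of_sub F E hEF (sder_stronglyClosed F _)) ?_
      refine le_inf ?_ ?_
      · exact (Subgroup.commutator_mono ih ih).trans (sder_comm F j)
      · exact (comm_self_le _).trans (sder_le E j)
    exact h1.trans inf_le_left

/-! ### Factor systems -/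

section factor

variable {Ω' : Type*} [Group Ω'] {S' : Subgroup Ω'}

theorem sder_factor_le (F : FusionSystem S) {T : Subgroup Ω} (θ : S →* Ω') (D : FusionSystem S')
    (hD : F.IsFactorSystem T θ D) : ∀ j, sder D j ≤ imageAlong θ (sder F j)
  | 0 => by
    intro y hy
    have hy' : y ∈ θ.range := by rw [hD.2.2.1]; exact hy
    obtain ⟨s, rfl⟩ := hy'
    exact (Fusion.mem_imageAlong θ _ _).mpr ⟨s, s.2, s.2, rfl⟩
  | (j + 1) => by
    have ih := sder_factor_le F θ D hD j
    refine sder_le_of D j (Fusion.imageAlong_stronglyClosed F θ D hD (sder_stronglyClosed F _)) ?_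
    refine (Subgroup.commutator_mono ih ih).trans ?_
    rw [Subgroup.commutator_le]
    intro a ha b hb
    obtain ⟨x, hx, hxS, rfl⟩ := (Fusion.mem_imageAlong θ _ _).mp ha
    obtain ⟨y, hy, hyS, rfl⟩ := (Fusion.mem_imageAlong θ _ _).mp hb
    refine (Fusion.mem_imageAlong θ _ _).mpr ⟨⁅x, y⁆, ?_, ?_, ?_⟩
    · exact sder_comm F j (Subgroup.commutator_mem_commutator hx hy)
    · exact S.mul_mem (S.mul_mem (S.mul_mem hxS hyS) (S.inv_mem hxS)) (S.inv_mem hyS)
    · have : (⟨⁅x, y⁆, S.mul_mem (S.mul_mem (S.mul_mem hxS hyS) (S.inv_mem hxS)) (S.inv_mem hyS)⟩ : S) =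
          ⁅(⟨x, hxS⟩ : S), ⟨y, hyS⟩⁆ := rfl
      rw [this, map_commutatorElement]

theorem sder_le_preimage (F : FusionSystem S) (θ : S →* Ω') (D : FusionSystem S')
    (hmor : F.IsMorphism D θ) : ∀ j, sder F j ≤ preimageAlong θ (sder D j)
  | 0 => by
    intro s hs
    exact (Fusion.mem_preimageAlong θ _ _).mpr ⟨hs, hmor.1 ⟨s, hs⟩⟩
  | (j + 1) => by
    have ih := sder_le_preimage F θ D hmor j
    refine sder_le_of F j (Fusion.preimageAlong_stronglyClosed F θ D hmor (sder_stronglyClosed D _)) ?_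
    refine (Subgroup.commutator_mono ih ih).trans ?_
    rw [Subgroup.commutator_le]
    intro a ha b hb
    obtain ⟨haS, haD⟩ := (Fusion.mem_preimageAlong θ _ _).mp ha
    obtain ⟨hbS, hbD⟩ := (Fusion.mem_preimageAlong θ _ _).mp hb
    have hS' : ⁅a, b⁆ ∈ S :=
      S.mul_mem (S.mul_mem (S.mul_mem haS hbS) (S.inv_mem haS)) (S.inv_mem hbS)
    refine (Fusion.mem_preimageAlong θ _ _).mpr ⟨hS', ?_⟩
    have : (⟨⁅a, b⁆, hS'⟩ : S) = ⁅(⟨a, haS⟩ : S), ⟨b, hbS⟩⁆ := rfl
    rw [this, map_commutatorElement]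
    exact sder_comm D j (Subgroup.commutator_mem_commutator haD hbD)

end factor

/-! ### Invariant subsystems -/

/-- The pull-back of a subgroup of `T` along an automorphism of `T`, as a subgroup of the ambient group. -/
def pullAut {T : Subgroup Ω} (α : MulAut T) (R : Subgroup Ω) : Subgroup Ω :=
  ((R.subgroupOf T).comap α.toMonoidHom).map T.subtype

theorem mem_pullAut {T : Subgroup Ω} (α : MulAut T) (R : Subgroup Ω) (x : Ω) :
    x ∈ pullAut α R ↔ ∃ h : x ∈ T, ((α ⟨x, h⟩ : T) : Ω) ∈ R := by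
  unfold pullAut
  constructor
  · rintro ⟨t, ht, rfl⟩
    exact ⟨t.2, ht⟩
  · rintro ⟨h, hx⟩
    exact ⟨⟨x, h⟩, hx, rfl⟩

/-- For `E` invariant in `F` and `α ∈ Aut_F(T)`, the pull-back along `α` of an `E`-strongly closed
subgroup is `E`-strongly closed. -/
theorem pullAut_stronglyClosed (F : FusionSystem S) {T : Subgroup Ω} (E : FusionSystem T)
    (hinv : E.IsInvariantIn F) (α : MulAut T) (hα : α ∈ F.autGroup T) {R : Subgroup Ω}
    (hR : E.StronglyClosed R) : E.StronglyClosed (pullAut α R) := by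
  refine ⟨?_, ?_⟩
  · intro x hx
    exact ((mem_pullAut α R x).mp hx).1
  · intro P hP φ hφ x
    have hPT : P ≤ T := fun y hy => ((mem_pullAut α R y).mp (hP hy)).1
    obtain ⟨χ, hχ, hχx⟩ := hinv.2.2.1 P hPT φ hφ α hα
    have hφx : φ x ∈ T := Fusion.map_mem E hφ x
    have hαx : ((α ⟨x, hPT x.2⟩ : T) : Ω) ∈
        (P.subgroupOf T).map (T.subtype.comp α.toMonoidHom) :=
      ⟨⟨x, hPT x.2⟩, x.2, rfl⟩
    have h1 := hχx x hφx hαx
    have hle : (P.subgroupOf T).map (T.subtype.comp α.toMonoidHom) ≤ R := by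
      rintro _ ⟨t, ht, rfl⟩
      exact ((mem_pullAut α R t).mp (hP ht)).2
    have h2 := hR.2 _ hle χ hχ ⟨(α ⟨x, hPT x.2⟩ : T), hαx⟩
    rw [h1] at h2
    exact (mem_pullAut α R _).mpr ⟨hφx, h2⟩

/-- The terms of the strongly closed derived series of an invariant subsystem are strongly closed
in the large system. -/
theorem sder_inv_stronglyClosed (F : FusionSystem S) {T : Subgroup Ω} (E : FusionSystem T)
    (hinv : E.IsInvariantIn F) : ∀ j, F.StronglyClosed (sder E j)
  | 0 => hinv.2.1
  | (j + 1) => by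
    have ih := sder_inv_stronglyClosed F E hinv j
    have hTS : T ≤ S := hinv.2.1.1
    have hstab : ∀ α ∈ F.autGroup T, sder E (j + 1) ≤ pullAut α (sder E (j + 1)) := by
      intro α hα
      refine sder_le_of E j (pullAut_stronglyClosed F E hinv α hα (sder_stronglyClosed E _)) ?_
      rw [Subgroup.commutator_le]
      intro a ha b hb
      have haT : a ∈ T := sder_le E j ha
      have hbT : b ∈ T := sder_le E j hb
      have hcT : ⁅a, b⁆ ∈ T :=
        T.mul_mem (T.mul_mem (T.mul_mem haT hbT) (T.inv_mem haT)) (T.inv_mem hbT)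
      refine (mem_pullAut α _ _).mpr ⟨hcT, ?_⟩
      have : (⟨⁅a, b⁆, hcT⟩ : T) = ⁅(⟨a, haT⟩ : T), ⟨b, hbT⟩⁆ := rfl
      rw [this]
      have h2 : α ⁅(⟨a, haT⟩ : T), ⟨b, hbT⟩⁆ = ⁅α ⟨a, haT⟩, α ⟨b, hbT⟩⁆ :=
        map_commutatorElement α _ _
      rw [h2]
      have ha' := Fusion.aut_mem_of_stronglyClosed F hTS ih α hα ⟨a, haT⟩ ha
      have hb' := Fusion.aut_mem_of_stronglyClosed F hTS ih α hα ⟨b, hbT⟩ hb
      exact sder_comm E j (Subgroup.commutator_mem_commutator ha' hb')
    refine ⟨(sder_le E _).trans hTS, ?_⟩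
    intro P hP φ hφ x
    have hPT : P ≤ T := hP.trans (sder_le E _)
    obtain ⟨α, hα, φ₀, hφ₀, hfr⟩ := hinv.2.2.2 P hPT φ hφ
    have h0 : φ₀ x ∈ sder E (j + 1) := (sder_stronglyClosed E _).2 P hP φ₀ hφ₀ x
    have h0T : φ₀ x ∈ T := Fusion.map_mem E hφ₀ x
    rw [hfr x h0T]
    exact ((mem_pullAut α _ _).mp (hstab α hα h0)).2

/-! ### The main theorem -/

section main

variable {Ω' : Type*} [Group Ω'] {S' : Subgroup Ω'}

theorem solvable_iff_normal_factor [Finite S] (p : ℕ) [Fact p.Prime] (hS : IsPGroup p S)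
    (F : FusionSystem S) (hF : F.IsSaturated p) {T : Subgroup Ω} (E : FusionSystem T)
    (hE : E.IsNormalIn F p) (θ : S →* Ω') (D : FusionSystem S') (hD : F.IsFactorSystem T θ D) :
    F.IsSolvableSystem ↔ (E.IsSolvableSystem ∧ D.IsSolvableSystem) := by
  have hinv : E.IsInvariantIn F := hE.1.2.2
  have hEsat : E.IsSaturated p := hE.1.1
  have hTsc : F.StronglyClosed T := hinv.2.1
  have hTS : T ≤ S := hTsc.1
  have hfinT : Finite T := Fusion.finite_of_le hTS
  have hT : IsPGroup p T := hS.to_le hTS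
  have hsm := Fusion.isSurjectiveMorphism_of_isFactorSystem p hS F hF T hTsc θ D hD
  have hDsat := Fusion.isSaturated_image p hS F hF D θ hsm
  have hfinS' : Finite S' := Fusion.finite_of_range θ hsm.2.1
  have hS' : IsPGroup p S' := by
    have hr := hsm.2.1
    subst hr
    exact hS.of_surjective θ.rangeRestrict θ.rangeRestrict_surjective
  rw [solvable_iff_sder p hS F hF, solvable_iff_sder p hT E hEsat, solvable_iff_sder p hS' D hDsat]
  constructor
  · rintro ⟨n, hn⟩
    refine ⟨⟨n, ?_⟩, ⟨n, ?_⟩⟩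
    · have := sder_sub_le F E hinv.1 hTS n
      rw [hn] at this
      exact le_bot_iff.mp this
    · have h1 := sder_factor_le F θ D hD n
      rw [hn] at h1
      rw [eq_bot_iff]
      intro y hy
      obtain ⟨x, hx, hxS, rfl⟩ := (Fusion.mem_imageAlong θ _ _).mp (h1 hy)
      rw [Subgroup.mem_bot] at hx
      subst hx
      rw [Subgroup.mem_bot]
      exact map_one θ
  · rintro ⟨⟨n, hn⟩, ⟨m, hm⟩⟩
    have h1 : sder F m ≤ T := by
      intro s hs
      have h2 := sder_le_preimage F θ D hsm.1 m hs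
      rw [hm] at h2
      obtain ⟨hsS, h3⟩ := (Fusion.mem_preimageAlong θ _ _).mp h2
      rw [Subgroup.mem_bot] at h3
      exact (hD.2.1 ⟨s, hsS⟩).mp h3
    have h2 : ∀ j, sder F (m + j) ≤ sder E j := by
      intro j
      induction j with
      | zero => exact h1
      | succ j ih =>
        refine sder_le_of F (m + j) (sder_inv_stronglyClosed F E hinv (j + 1)) ?_
        exact (Subgroup.commutator_mono ih ih).trans (sder_comm E j)
    refine ⟨m + n, ?_⟩
    have := h2 n
    rw [hn] at this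
    exact le_bot_iff.mp this

end main

end Cfsg.Agent.Helper4.SolvFus
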