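import Mathlib
import Cfsg.Agent.Helper4.U43Data

/-!
# A solvable Frobenius group `7⁴ : (C₃ ⋊ C₈)` with element orders `1, 2, 3, 4, 6, 7, 8, 12`

and the generic description of a spectrum from three elements of orders 7, 8, 12.
-/

set_option autoImplicit false

namespace Cfsg.Agent.Helper4.SolvSpec

open Cfsg.Agent.Helper4.U43 (det4 det_eq_det4)

/-! ### spectra -/

/-- if every element has order dividing 7, 8 or 12 and there are elements of orders 7, 8 and 12,
then the set of element orders is `{1, 2, 3, 4, 6, 7, 8, 12}`. -/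
theorem range_orderOf {G : Type*} [Group G] (h : ∀ g : G, g ^ 7 = 1 ∨ g ^ 8 = 1 ∨ g ^ 12 = 1)
    (g7 g8 g12 : G) (h7 : orderOf g7 = 7) (h8 : orderOf g8 = 8) (h12 : orderOf g12 = 12) :
    Set.range (orderOf : G → ℕ) = {1, 2, 3, 4, 6, 7, 8, 12} := by
  have key : ∀ (x : G) (n k : ℕ), orderOf x = n → n ≠ 0 → k ∣ n → ∃ y : G, orderOf y = k := by
    intro x n k hx hn hk
    obtain ⟨m, rfl⟩ := hk
    have hm : m ≠ 0 := fun h0 => hn (by rw [h0, mul_zero])
    have hk0 : k ≠ 0 := fun h0 => hn (by rw [h0, zero_mul])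
    refine ⟨x ^ m, ?_⟩
    rw [orderOf_pow_of_dvd hm (by rw [hx]; exact Dvd.intro_left k rfl), hx,
      Nat.mul_div_cancel _ (Nat.pos_of_ne_zero hm)]
  ext k
  simp only [Set.mem_range, Set.mem_insert_iff, Set.mem_singleton_iff]
  constructor
  · rintro ⟨g, rfl⟩
    rcases h g with h | h | h
    · have := orderOf_dvd_of_pow_eq_one h
      have h2 : orderOf g ∈ Nat.divisors 7 := Nat.mem_divisors.mpr ⟨this, by norm_num⟩
      have h3 : Nat.divisors 7 = {1, 7} := by decide
      rw [h3] at h2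
      simp only [Finset.mem_insert, Finset.mem_singleton] at h2
      omega
    · have := orderOf_dvd_of_pow_eq_one h
      have h2 : orderOf g ∈ Nat.divisors 8 := Nat.mem_divisors.mpr ⟨this, by norm_num⟩
      have h3 : Nat.divisors 8 = {1, 2, 4, 8} := by decide
      rw [h3] at h2
      simp only [Finset.mem_insert, Finset.mem_singleton] at h2
      omega
    · have := orderOf_dvd_of_pow_eq_one h
      have h2 : orderOf g ∈ Nat.divisors 12 := Nat.mem_divisors.mpr ⟨this, by norm_num⟩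
      have h3 : Nat.divisors 12 = {1, 2, 3, 4, 6, 12} := by decide
      rw [h3] at h2
      simp only [Finset.mem_insert, Finset.mem_singleton] at h2
      omega
  · rintro (rfl | rfl | rfl | rfl | rfl | rfl | rfl | rfl)
    · exact key g7 7 1 h7 (by norm_num) (by norm_num)
    · exact key g8 8 2 h8 (by norm_num) (by norm_num)
    · exact key g12 12 3 h12 (by norm_num) (by norm_num)
    · exact key g8 8 4 h8 (by norm_num) (by norm_num)
    · exact key g12 12 6 h12 (by norm_num) (by norm_num)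
    · exact ⟨g7, h7⟩
    · exact ⟨g8, h8⟩
    · exact ⟨g12, h12⟩

/-! ### the complement `C₃ ⋊ C₈` -/

/-- the cyclic group of order 3. -/
abbrev C3 : Type := Multiplicative (ZMod 3)

/-- the cyclic group of order 8. -/
abbrev C8 : Type := Multiplicative (ZMod 8)

/-- the translation group `7⁴`. -/
abbrev N4 : Type := Multiplicative (Fin 4 → ZMod 7)

/-- the general linear group. -/
abbrev GL4 : Type := Matrix.GeneralLinearGroup (Fin 4) (ZMod 7)

/-- the action of `C₈` on `C₃`: odd elements invert. -/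
def phiFun (k : C8) : MulAut C3 :=
  if (Multiplicative.toAdd k).val % 2 = 0 then 1 else MulEquiv.inv C3

theorem phiFun_mul : ∀ (a b : C8) (x : C3), phiFun (a * b) x = (phiFun a * phiFun b) x := by
  decide

/-- the action of `C₈` on `C₃` as a homomorphism. -/
def phi : C8 →* MulAut C3 :=
  MonoidHom.mk' phiFun (fun a b => MulEquiv.ext (phiFun_mul a b))

/-- the complement. -/
abbrev Cp : Type := C3 ⋊[phi] C8

/-- the matrix of the generator of order 3. -/
def cM : Matrix (Fin 4) (Fin 4) (ZMod 7) := !![2, 0, 0, 0; 0, 2, 0, 0; 0, 0, 4, 0; 0, 0, 0, 4]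

/-- its inverse. -/
def cMi : Matrix (Fin 4) (Fin 4) (ZMod 7) := !![4, 0, 0, 0; 0, 4, 0, 0; 0, 0, 2, 0; 0, 0, 0, 2]

/-- the matrix of the generator of order 8. -/
def aM : Matrix (Fin 4) (Fin 4) (ZMod 7) := !![0, 0, 0, 1; 0, 0, 6, 0; 1, 0, 0, 0; 0, 1, 0, 0]

/-- its inverse. -/
def aMi : Matrix (Fin 4) (Fin 4) (ZMod 7) := !![0, 0, 1, 0; 0, 0, 0, 1; 0, 6, 0, 0; 1, 0, 0, 0]

/-- the generator of order 3. -/
def cG : GL4 := ⟨cM, cMi, by decide, by decide⟩

/-- the generator of order 8. -/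
def aG : GL4 := ⟨aM, aMi, by decide, by decide⟩

theorem f1_mul : ∀ a b : C3, cG ^ (Multiplicative.toAdd (a * b)).val
    = cG ^ (Multiplicative.toAdd a).val * cG ^ (Multiplicative.toAdd b).val := by decide

theorem f2_mul : ∀ a b : C8, aG ^ (Multiplicative.toAdd (a * b)).val
    = aG ^ (Multiplicative.toAdd a).val * aG ^ (Multiplicative.toAdd b).val := by decide

/-- the representation of `C₃`. -/
def f1 : C3 →* GL4 := MonoidHom.mk' (fun n => cG ^ (Multiplicative.toAdd n).val) f1_mul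

/-- the representation of `C₈`. -/
def f2 : C8 →* GL4 := MonoidHom.mk' (fun k => aG ^ (Multiplicative.toAdd k).val) f2_mul

theorem compat0 : ∀ (g : C8) (n : C3), f1 (phi g n) = f2 g * f1 n * (f2 g)⁻¹ := by decide

theorem compat (g : C8) :
    f1.comp (phi g).toMonoidHom = (MulAut.conj (f2 g)).toMonoidHom.comp f1 :=
  MonoidHom.ext fun n => compat0 g n

/-- the representation of the complement. -/
def rho : Cp →* GL4 := SemidirectProduct.lift f1 f2 compat


/-! ### the action on `7⁴` and the Frobenius group -/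

open Matrix in
/-- the action of a matrix on the translation group. -/
def actFun (g : GL4) : MulAut N4 where
  toFun v := Multiplicative.ofAdd ((g : Matrix (Fin 4) (Fin 4) (ZMod 7)) *ᵥ Multiplicative.toAdd v)
  invFun v :=
    Multiplicative.ofAdd (((g⁻¹ : GL4) : Matrix (Fin 4) (Fin 4) (ZMod 7)) *ᵥ Multiplicative.toAdd v)
  left_inv v := by
    show Multiplicative.ofAdd (((g⁻¹ : GL4) : Matrix (Fin 4) (Fin 4) (ZMod 7)) *ᵥ
      ((g : Matrix (Fin 4) (Fin 4) (ZMod 7)) *ᵥ Multiplicative.toAdd v)) = v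
    rw [Matrix.mulVec_mulVec, ← Matrix.GeneralLinearGroup.coe_mul, inv_mul_cancel]
    simp
  right_inv v := by
    show Multiplicative.ofAdd ((g : Matrix (Fin 4) (Fin 4) (ZMod 7)) *ᵥ
      (((g⁻¹ : GL4) : Matrix (Fin 4) (Fin 4) (ZMod 7)) *ᵥ Multiplicative.toAdd v)) = v
    rw [Matrix.mulVec_mulVec, ← Matrix.GeneralLinearGroup.coe_mul, mul_inv_cancel]
    simp
  map_mul' v w := by
    show Multiplicative.ofAdd ((g : Matrix (Fin 4) (Fin 4) (ZMod 7)) *ᵥ
      (Multiplicative.toAdd v + Multiplicative.toAdd w)) = _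
    rw [Matrix.mulVec_add]
    rfl

theorem actFun_apply (g : GL4) (v : N4) : actFun g v
    = Multiplicative.ofAdd (Matrix.mulVec (g : Matrix (Fin 4) (Fin 4) (ZMod 7))
      (Multiplicative.toAdd v)) := rfl

/-- the action as a homomorphism. -/
def act : GL4 →* MulAut N4 :=
  MonoidHom.mk' actFun (fun a b => by
    apply MulEquiv.ext
    intro v
    rw [MulAut.mul_apply, actFun_apply, actFun_apply, actFun_apply,
      Matrix.GeneralLinearGroup.coe_mul, ← Matrix.mulVec_mulVec]
    rfl)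

/-- the action of the complement. -/
def psi : Cp →* MulAut N4 := act.comp rho

/-- the Frobenius group `7⁴ : (C₃ ⋊ C₈)`. -/
abbrev Hs : Type := N4 ⋊[psi] Cp


instance : Finite Cp := Finite.of_equiv _ SemidirectProduct.equivProd.symm

instance : Finite Hs := Finite.of_equiv _ SemidirectProduct.equivProd.symm

instance : Group.IsSolvable Cp :=
  Group.isSolvable_of_ker_le_range (SemidirectProduct.inl : C3 →* Cp) SemidirectProduct.rightHom
    (le_of_eq SemidirectProduct.range_inl_eq_ker_rightHom.symm)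

instance : Group.IsSolvable Hs :=
  Group.isSolvable_of_ker_le_range (SemidirectProduct.inl : N4 →* Hs) SemidirectProduct.rightHom
    (le_of_eq SemidirectProduct.range_inl_eq_ker_rightHom.symm)

theorem order_eq_eight {G : Type*} [Group G] {x : G} (h8 : x ^ 8 = 1) (h4 : x ^ 4 ≠ 1) :
    orderOf x = 8 := by
  have d := orderOf_dvd_of_pow_eq_one h8
  have h2 : orderOf x ∈ Nat.divisors 8 := Nat.mem_divisors.mpr ⟨d, by norm_num⟩
  have h3 : Nat.divisors 8 = {1, 2, 4, 8} := by decide
  rw [h3] at h2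
  simp only [Finset.mem_insert, Finset.mem_singleton] at h2
  rcases h2 with h | h | h | h
  · exact absurd (orderOf_dvd_iff_pow_eq_one.mp (by rw [h]; norm_num)) h4
  · exact absurd (orderOf_dvd_iff_pow_eq_one.mp (by rw [h]; norm_num)) h4
  · exact absurd (orderOf_dvd_iff_pow_eq_one.mp (by rw [h])) h4
  · exact h

theorem order_eq_twelve {G : Type*} [Group G] {x : G} (h12 : x ^ 12 = 1) (h6 : x ^ 6 ≠ 1)
    (h4 : x ^ 4 ≠ 1) : orderOf x = 12 := by
  have d := orderOf_dvd_of_pow_eq_one h12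
  have h2 : orderOf x ∈ Nat.divisors 12 := Nat.mem_divisors.mpr ⟨d, by norm_num⟩
  have h3 : Nat.divisors 12 = {1, 2, 3, 4, 6, 12} := by decide
  rw [h3] at h2
  simp only [Finset.mem_insert, Finset.mem_singleton] at h2
  rcases h2 with h | h | h | h | h | h
  · exact absurd (orderOf_dvd_iff_pow_eq_one.mp (by rw [h]; norm_num)) h4
  · exact absurd (orderOf_dvd_iff_pow_eq_one.mp (by rw [h]; norm_num)) h4
  · exact absurd (orderOf_dvd_iff_pow_eq_one.mp (by rw [h]; norm_num)) h6
  · exact absurd (orderOf_dvd_iff_pow_eq_one.mp (by rw [h])) h4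
  · exact absurd (orderOf_dvd_iff_pow_eq_one.mp (by rw [h])) h6
  · exact h

theorem order_eq_seven {G : Type*} [Group G] {x : G} (h7 : x ^ 7 = 1) (h1 : x ≠ 1) :
    orderOf x = 7 := by
  have : Fact (Nat.Prime 7) := ⟨by norm_num⟩
  exact orderOf_eq_prime h7 h1

set_option maxRecDepth 100000 in
/-- the nonidentity elements of the complement act without fixed points and have order dividing
8 or 12. -/
theorem cp_cases : ∀ (n : C3) (k : C8), (n = 1 ∧ k = 1) ∨
    (det4 (1 - ((rho ⟨n, k⟩ : GL4) : Matrix (Fin 4) (Fin 4) (ZMod 7))) ≠ 0 ∧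
      ((⟨n, k⟩ : Cp) ^ 8 = 1 ∨ (⟨n, k⟩ : Cp) ^ 12 = 1)) := by
  decide +kernel

theorem N4_pow_seven (v : N4) : v ^ 7 = 1 := by
  show Multiplicative.ofAdd (7 • Multiplicative.toAdd v) = 1
  rw [ZModModule.char_nsmul_eq_zero 7 (Multiplicative.toAdd v)]
  rfl

/-- an element with nonidentity complement part is conjugate to its complement part. -/
theorem conj_of_ne (v : N4) (c : Cp)
    (hdet : det4 (1 - ((rho c : GL4) : Matrix (Fin 4) (Fin 4) (ZMod 7))) ≠ 0) :
    ∃ g : Hs, (⟨v, c⟩ : Hs) = g * SemidirectProduct.inr c * g⁻¹ := by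
  set M : Matrix (Fin 4) (Fin 4) (ZMod 7) := ((rho c : GL4) : Matrix (Fin 4) (Fin 4) (ZMod 7))
    with hM
  have : Fact (Nat.Prime 7) := ⟨by norm_num⟩
  have hu : IsUnit (1 - M).det := by
    rw [det_eq_det4]
    exact (isUnit_iff_ne_zero (a := det4 (1 - M))).mpr hdet
  set w : Fin 4 → ZMod 7 := Matrix.mulVec (1 - M)⁻¹ (Multiplicative.toAdd v) with hw
  have hwv : w - Matrix.mulVec M w = Multiplicative.toAdd v := by
    have h1 : Matrix.mulVec (1 - M) w = Multiplicative.toAdd v := by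
      rw [hw, Matrix.mulVec_mulVec, Matrix.mul_nonsing_inv _ hu, Matrix.one_mulVec]
    rw [Matrix.sub_mulVec, Matrix.one_mulVec] at h1
    exact h1
  refine ⟨SemidirectProduct.inl (Multiplicative.ofAdd w), ?_⟩
  rw [← map_inv]
  apply SemidirectProduct.ext
  · simp only [SemidirectProduct.mul_left, SemidirectProduct.left_inl, SemidirectProduct.left_inr,
      SemidirectProduct.mul_right, SemidirectProduct.right_inl, SemidirectProduct.right_inr,
      map_one, mul_one, one_mul]
    show v = Multiplicative.ofAdd w * psi c (Multiplicative.ofAdd w)⁻¹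
    have h2 : psi c (Multiplicative.ofAdd w)⁻¹ = Multiplicative.ofAdd (- Matrix.mulVec M w) := by
      show actFun (rho c) (Multiplicative.ofAdd w)⁻¹ = _
      rw [actFun_apply]
      show Multiplicative.ofAdd (Matrix.mulVec M (-w)) = _
      rw [Matrix.mulVec_neg]
    rw [h2, ← ofAdd_add, ← sub_eq_add_neg, hwv]
    rfl
  · simp

/-- every element of the Frobenius group has order dividing 7, 8 or 12. -/
theorem Hs_pow (h : Hs) : h ^ 7 = 1 ∨ h ^ 8 = 1 ∨ h ^ 12 = 1 := by
  obtain ⟨v, ⟨n, k⟩⟩ := h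
  rcases cp_cases n k with ⟨rfl, rfl⟩ | ⟨hdet, hc⟩
  · left
    have : (⟨v, ⟨1, 1⟩⟩ : Hs) = SemidirectProduct.inl v := rfl
    rw [this, ← map_pow, N4_pow_seven, map_one]
  · obtain ⟨g, hg⟩ := conj_of_ne v ⟨n, k⟩ hdet
    rcases hc with hc | hc
    · right; left
      rw [hg, conj_pow, ← map_pow, hc, map_one, mul_one, mul_inv_cancel]
    · right; right
      rw [hg, conj_pow, ← map_pow, hc, map_one, mul_one, mul_inv_cancel]

set_option maxRecDepth 100000 in
theorem c8_facts : ((⟨1, Multiplicative.ofAdd 1⟩ : Cp) ^ 8 = 1 ∧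
    (⟨1, Multiplicative.ofAdd 1⟩ : Cp) ^ 4 ≠ 1) ∧
    ((⟨Multiplicative.ofAdd 1, Multiplicative.ofAdd 2⟩ : Cp) ^ 12 = 1 ∧
    (⟨Multiplicative.ofAdd 1, Multiplicative.ofAdd 2⟩ : Cp) ^ 6 ≠ 1 ∧
    (⟨Multiplicative.ofAdd 1, Multiplicative.ofAdd 2⟩ : Cp) ^ 4 ≠ 1) := by
  decide +kernel

/-- the set of element orders of the Frobenius group. -/
theorem range_orderOf_Hs : Set.range (orderOf : Hs → ℕ) = {1, 2, 3, 4, 6, 7, 8, 12} := by
  obtain ⟨⟨a8, a4⟩, b12, b6, b4⟩ := c8_facts
  apply range_orderOf Hs_pow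
    (SemidirectProduct.inl (Multiplicative.ofAdd (Pi.single 0 1)))
    (SemidirectProduct.inr ⟨1, Multiplicative.ofAdd 1⟩)
    (SemidirectProduct.inr ⟨Multiplicative.ofAdd 1, Multiplicative.ofAdd 2⟩)
  · apply order_eq_seven
    · rw [← map_pow, N4_pow_seven, map_one]
    · intro h
      have h1 := SemidirectProduct.inl_injective (h.trans (map_one _).symm)
      have h2 : (Pi.single 0 1 : Fin 4 → ZMod 7) 0 = 0 := congrFun h1 0
      rw [Pi.single_eq_same] at h2
      exact absurd h2 (by decide)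
  · rw [orderOf_injective _ SemidirectProduct.inr_injective]
    exact order_eq_eight a8 a4
  · rw [orderOf_injective _ SemidirectProduct.inr_injective]
    exact order_eq_twelve b12 b6 b4

end Cfsg.Agent.Helper4.SolvSpec
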