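import Mathlib
import Cfsg.Agent.Helper6.CoprimeConj

/-!
# Fixed points of a `p'`-element on an orbit on which a normal `p`-subgroup is transitive

Generic counting lemma used for the values of the Steinberg character at `p`-regular elements
(S2312).  `P` is a subgroup of the finite group `G` acting on a set `X`, `V ≤ P` is a `p`-subgroup
normalised by `P` which is transitive on the `P`-orbit of `x₀`, and `g ∈ P` has order prime to `p`.
Then the number of points of the orbit `P x₀` fixed by `g` is a power `p ^ k` of `p` dividing the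
order of the centraliser of `g`; in particular it is not zero.
-/

set_option autoImplicit false

namespace Cfsg.Agent.Helper4.StFix

variable {G X : Type*} [Group G] [MulAction G X]

/-- If `c` and `g` commute, `c` is a `p`-element and `g` has order prime to `p`, then `g` is a
power of `c * g`. -/
theorem h4sf_exists_pow_eq (p : ℕ) [hp : Fact p.Prime] (c g : G) (hcg : c * g = g * c)
    (hc : ∃ j : ℕ, c ^ (p ^ j) = 1) (hg : ¬ p ∣ orderOf g) (hfin : 0 < orderOf g) :
    ∃ N : ℕ, (c * g) ^ N = g := by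
  obtain ⟨j, hj⟩ := hc
  have hcop : Nat.Coprime (p ^ j) (orderOf g) :=
    Nat.Coprime.pow_left j ((Nat.Prime.coprime_iff_not_dvd hp.out).mpr hg)
  by_cases h1 : orderOf g = 1
  · refine ⟨0, ?_⟩
    rw [pow_zero]
    exact (orderOf_eq_one_iff.mp h1).symm
  have hlt : 1 < orderOf g := by omega
  obtain ⟨t, -, ht⟩ := Nat.exists_mul_mod_eq_one_of_coprime hcop hlt
  refine ⟨p ^ j * t, ?_⟩
  have hcomm : Commute c g := hcg
  rw [hcomm.mul_pow, pow_mul, hj, one_pow, one_mul]
  have : g ^ (p ^ j * t) = g ^ (p ^ j * t % orderOf g) := (pow_mod_orderOf g _).symm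
  rw [this, ht, pow_one]

/-- A `p`-element `c` commuting with `g` such that `c * g` has the same order as `g` (of order
prime to `p`) is trivial. -/
theorem h4sf_eq_one_of_orderOf_eq (p : ℕ) [hp : Fact p.Prime] (c g : G) (hcg : c * g = g * c)
    (hc : ∃ j : ℕ, c ^ (p ^ j) = 1) (hg : ¬ p ∣ orderOf g)
    (hord : orderOf (c * g) = orderOf g) : c = 1 := by
  obtain ⟨j, hj⟩ := hc
  have hcomm : Commute c g := hcg
  have h1 : (c * g) ^ orderOf g = 1 := by rw [← hord]; exact pow_orderOf_eq_one _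
  rw [hcomm.mul_pow, pow_orderOf_eq_one, mul_one] at h1
  have hcop : Nat.Coprime (orderOf g) (p ^ j) :=
    (Nat.Coprime.pow_left j ((Nat.Prime.coprime_iff_not_dvd hp.out).mpr hg)).symm
  have hd1 : orderOf c ∣ orderOf g := orderOf_dvd_of_pow_eq_one h1
  have hd2 : orderOf c ∣ p ^ j := orderOf_dvd_of_pow_eq_one hj
  have : orderOf c ∣ 1 := by
    have := Nat.dvd_gcd hd1 hd2
    rwa [hcop] at this
  exact orderOf_eq_one_iff.mp (Nat.dvd_one.mp this)

variable [Finite G]

/-- Main counting lemma. -/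
theorem h4sf_card_fixed_in_orbit (p : ℕ) [hp : Fact p.Prime]
    (P V : Subgroup G) (hVP : V ≤ P) (hnorm : P ≤ Subgroup.normalizer (V : Set G))
    (hV : IsPGroup p V) (x₀ : X)
    (htrans : ∀ a ∈ P, ∃ v ∈ V, a • x₀ = v • x₀)
    (g : G) (hgP : g ∈ P) (hg : ¬ p ∣ orderOf g) :
    ∃ k : ℕ, Nat.card {x : X // (∃ a ∈ P, x = a • x₀) ∧ g • x = x} = p ^ k ∧
      p ^ k ∣ Nat.card ↥(Subgroup.centralizer ({g} : Set G)) := by
  classical
  have hgpos : 0 < orderOf g := orderOf_pos g
  have hgN : g ∈ Subgroup.normalizer (V : Set G) := hnorm hgP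
  have hcopV : Nat.Coprime (orderOf g) (Nat.card V) := by
    obtain ⟨m, hm⟩ := IsPGroup.iff_card.mp hV
    rw [hm]
    exact (Nat.Coprime.pow_left m ((Nat.Prime.coprime_iff_not_dvd hp.out).mpr hg)).symm
  have hpow : ∀ c ∈ V, ∃ j : ℕ, c ^ (p ^ j) = 1 := by
    intro c hc
    obtain ⟨j, hj⟩ := hV ⟨c, hc⟩
    refine ⟨j, ?_⟩
    have := congrArg (Subtype.val) hj
    simpa using this
  -- Step 1: a fixed point `y₀ = u • x₀`, `u ∈ V`.
  obtain ⟨v, hvV, hv⟩ := htrans g hgP
  obtain ⟨x, hxV, c, hcV, hcg, hconj⟩ :=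
    Cfsg.Agent.Helper6.exists_conj_commute_of_coprime (orderOf g) V g rfl hgN hcopV v⁻¹
      (V.inv_mem hvV)
  have hm : (v⁻¹ * g) • x₀ = x₀ := by
    rw [mul_smul, hv, ← mul_smul, inv_mul_cancel, one_smul]
  have hcgfix : (c * g) • (x • x₀) = x • x₀ := by
    rw [← hconj, ← mul_smul]
    have : x * (v⁻¹ * g) * x⁻¹ * x = x * (v⁻¹ * g) := by group
    rw [this, mul_smul, hm]
  obtain ⟨N, hN⟩ := h4sf_exists_pow_eq p c g hcg (hpow c hcV) hg hgpos
  set y₀ : X := x • x₀ with hy₀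
  have hgy : g • y₀ = y₀ := by
    rw [← hN]
    have : ∀ n : ℕ, (c * g) ^ n • y₀ = y₀ := by
      intro n
      induction n with
      | zero => simp
      | succ n ih => rw [pow_succ, mul_smul, hcgfix, ih]
    exact this N
  have hginvy : g⁻¹ • y₀ = y₀ := by
    conv_lhs => rw [← hgy]
    rw [← mul_smul, inv_mul_cancel, one_smul]
  have hxP : x ∈ P := hVP hxV
  -- the orbit of `x₀` under `P` is the `V`-orbit of `y₀`
  have horb : ∀ z : X, (∃ a ∈ P, z = a • x₀) ↔ ∃ w ∈ V, z = w • y₀ := by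
    intro z
    constructor
    · rintro ⟨a, haP, rfl⟩
      obtain ⟨w, hwV, hw⟩ := htrans a haP
      refine ⟨w * x⁻¹, V.mul_mem hwV (V.inv_mem hxV), ?_⟩
      rw [hw, hy₀, ← mul_smul, inv_mul_cancel_right]
    · rintro ⟨w, hwV, rfl⟩
      refine ⟨w * x, P.mul_mem (hVP hwV) hxP, ?_⟩
      rw [hy₀, mul_smul]
  -- the stabiliser of `y₀` in `V`
  let S : Subgroup G := V ⊓ MulAction.stabilizer G y₀
  have hSV : S ≤ V := inf_le_left
  have hgS : g ∈ Subgroup.normalizer (S : Set G) := by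
    have hgstab : g ∈ MulAction.stabilizer G y₀ := hgy
    have key : ∀ h, h ∈ S → g * h * g⁻¹ ∈ S ∧ g⁻¹ * h * g ∈ S := by
      intro h hh
      refine ⟨⟨(Subgroup.mem_normalizer_iff.mp hgN h).mp hh.1, ?_⟩, ⟨?_, ?_⟩⟩
      · exact Subgroup.mul_mem _ (Subgroup.mul_mem _ hgstab hh.2) (Subgroup.inv_mem _ hgstab)
      · have := (Subgroup.mem_normalizer_iff.mp (Subgroup.inv_mem _ hgN) h).mp hh.1
        simpa using this
      · exact Subgroup.mul_mem _ (Subgroup.mul_mem _ (Subgroup.inv_mem _ hgstab) hh.2) hgstab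
    rw [Subgroup.mem_normalizer_iff]
    intro h
    constructor
    · intro hh
      exact (key h hh).1
    · intro hh
      have := (key _ hh).2
      simpa [mul_assoc] using this
  have hcopS : Nat.Coprime (orderOf g) (Nat.card S) :=
    Nat.Coprime.coprime_dvd_right (Subgroup.card_dvd_of_le hSV) hcopV
  -- the centraliser of `g` in `V`
  let C : Subgroup G := V ⊓ Subgroup.centralizer ({g} : Set G)
  have hCp : IsPGroup p C := hV.to_le inf_le_left
  -- the fixed points in the orbit are exactly the `C`-orbit of `y₀`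
  have hfix : ∀ z : X, ((∃ a ∈ P, z = a • x₀) ∧ g • z = z) ↔ z ∈ MulAction.orbit C y₀ := by
    intro z
    rw [horb z]
    constructor
    · rintro ⟨⟨w, hwV, rfl⟩, hgz⟩
      -- `u₀ = w⁻¹ g w g⁻¹ ∈ S`
      have hu₀V : w⁻¹ * (g * w * g⁻¹) ∈ V :=
        V.mul_mem (V.inv_mem hwV) ((Subgroup.mem_normalizer_iff.mp hgN w).mp hwV)
      have hu₀fix : (w⁻¹ * (g * w * g⁻¹)) • y₀ = y₀ := by
        rw [mul_smul, mul_smul, mul_smul, hginvy, hgz, ← mul_smul, inv_mul_cancel, one_smul]
      have hu₀S : w⁻¹ * (g * w * g⁻¹) ∈ S := ⟨hu₀V, hu₀fix⟩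
      obtain ⟨h, hhS, c₀, hc₀S, hc₀g, hconj₀⟩ :=
        Cfsg.Agent.Helper6.exists_conj_commute_of_coprime (orderOf g) S g rfl hgS hcopS _ hu₀S
      -- `(w h⁻¹)⁻¹ g (w h⁻¹) = c₀ g`
      have hconj₁ : (w * h⁻¹)⁻¹ * g * (w * h⁻¹) = c₀ * g := by
        rw [← hconj₀]
        group
      have hord : orderOf (c₀ * g) = orderOf g := by
        rw [← hconj₁]
        have hsc : SemiconjBy (w * h⁻¹)⁻¹ g ((w * h⁻¹)⁻¹ * g * (w * h⁻¹)) := by
          unfold SemiconjBy
          group
        exact (hsc.orderOf_eq).symm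
      have hc₀1 : c₀ = 1 :=
        h4sf_eq_one_of_orderOf_eq p c₀ g hc₀g (hpow c₀ (hSV hc₀S)) hg hord
      rw [hc₀1, one_mul] at hconj₁
      have hwhV : w * h⁻¹ ∈ V := V.mul_mem hwV (V.inv_mem (hSV hhS))
      have hwhC : w * h⁻¹ ∈ C := by
        refine ⟨hwhV, ?_⟩
        apply Subgroup.mem_centralizer_iff.mpr
        intro y hy
        rw [Set.mem_singleton_iff] at hy
        subst hy
        -- y * (w h⁻¹) = (w h⁻¹) * y
        have := hconj₁
        calc y * (w * h⁻¹) = (w * h⁻¹) * ((w * h⁻¹)⁻¹ * y * (w * h⁻¹)) := by group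
          _ = (w * h⁻¹) * y := by rw [this]
      refine ⟨⟨w * h⁻¹, hwhC⟩, ?_⟩
      change (w * h⁻¹) • y₀ = w • y₀
      rw [mul_smul]
      congr 1
      have : h • y₀ = y₀ := hhS.2
      conv_lhs => rw [← this]
      rw [← mul_smul, inv_mul_cancel, one_smul]
    · rintro ⟨⟨c', hc'⟩, rfl⟩
      refine ⟨⟨c', hc'.1, rfl⟩, ?_⟩
      change g • (c' • y₀) = c' • y₀
      have hcomm : c' * g = g * c' := by
        have := (Subgroup.mem_centralizer_iff.mp hc'.2) g (Set.mem_singleton g)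
        exact this.symm
      rw [← mul_smul, ← hcomm, mul_smul, hgy]
  have hcard : Nat.card {x : X // (∃ a ∈ P, x = a • x₀) ∧ g • x = x} =
      Nat.card (MulAction.orbit C y₀) := by
    apply Nat.card_congr
    exact Equiv.subtypeEquivRight hfix
  have horbstab : Nat.card (MulAction.orbit C y₀) = (MulAction.stabilizer C y₀).index := by
    rw [MulAction.index_stabilizer, Nat.card_coe_set_eq]
  obtain ⟨m, hm⟩ := IsPGroup.iff_card.mp hCp
  have hdvdC : Nat.card (MulAction.orbit C y₀) ∣ Nat.card C := by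
    rw [horbstab]
    exact Subgroup.index_dvd_card _
  have hdvd : Nat.card (MulAction.orbit C y₀) ∣ p ^ m := by
    rw [← hm]
    exact hdvdC
  obtain ⟨k, _, hk⟩ := (Nat.dvd_prime_pow hp.out).mp hdvd
  refine ⟨k, by rw [hcard, hk], ?_⟩
  have h1 : p ^ k ∣ Nat.card C := by
    rw [← hk]
    exact hdvdC
  exact h1.trans (Subgroup.card_dvd_of_le inf_le_right)

end Cfsg.Agent.Helper4.StFix
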