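import Mathlib

namespace Cfsg.Agent.Helper4

/-- The size of the `N`-conjugacy class of `x` times the order of `C_N(x)` is `|N|`. -/
theorem card_subgroup_class_mul {G : Type*} [Group G] [Finite G] (N : Subgroup G) (x : G) :
    Nat.card {y : G // ∃ n ∈ N, y = n * x * n⁻¹} *
      Nat.card ↥(N ⊓ Subgroup.centralizer ({x} : Set G)) = Nat.card N := by
  classical
  let act : MulAction N G :=
    MulAction.compHom G ((ConjAct.toConjAct (G := G)).toMonoidHom.comp N.subtype)
  have hsmul : ∀ (n : N) (y : G), @HSMul.hSMul N G G (@instHSMul N G act.toSMul) n y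
      = (n : G) * y * (n : G)⁻¹ := by
    intro n y
    change ConjAct.toConjAct (n : G) • y = _
    rw [ConjAct.toConjAct_smul]
  have h1 := @MulAction.index_stabilizer N G _ act x
  have h2 := Subgroup.card_mul_index (@MulAction.stabilizer N G _ act x)
  rw [h1, ← Nat.card_coe_set_eq] at h2
  have e1 : Nat.card (MulAction.orbit N x) = Nat.card {y : G // ∃ n ∈ N, y = n * x * n⁻¹} := by
    apply Nat.card_congr
    refine Equiv.subtypeEquivRight ?_
    intro y
    constructor
    · rintro ⟨n, hn⟩
      refine ⟨n, n.2, ?_⟩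
      rw [← hn]
      exact hsmul n x
    · rintro ⟨n, hn, rfl⟩
      exact ⟨⟨n, hn⟩, hsmul ⟨n, hn⟩ x⟩
  have e2 : Nat.card (MulAction.stabilizer N x) =
      Nat.card ↥(N ⊓ Subgroup.centralizer ({x} : Set G)) := by
    apply Nat.card_congr
    refine ⟨fun n => ⟨(n.1 : G), n.1.2, ?_⟩, fun m => ⟨⟨m.1, m.2.1⟩, ?_⟩, ?_, ?_⟩
    · change ((n.1 : N) : G) ∈ Subgroup.centralizer ({x} : Set G)
      rw [Subgroup.mem_centralizer_singleton_iff]
      have := n.2
      rw [MulAction.mem_stabilizer_iff] at this
      rw [hsmul] at this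
      exact (mul_inv_eq_iff_eq_mul.mp this)
    · rw [MulAction.mem_stabilizer_iff, hsmul]
      have : (m : G) ∈ Subgroup.centralizer ({x} : Set G) := m.2.2
      rw [Subgroup.mem_centralizer_singleton_iff] at this
      exact mul_inv_eq_iff_eq_mul.mpr this
    · intro n; rfl
    · intro m; rfl
  rw [← e1, ← e2, mul_comm]
  exact h2

end Cfsg.Agent.Helper4
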