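import Cfsg.Agent.Helper4.SuzLB60Dat

/-! generated labelled Todd-Coxeter certificate: SuzLB60 -/

set_option autoImplicit false
set_option Elab.async false
set_option maxRecDepth 1000000

namespace Cfsg.Agent.Helper4.SuzLB60
open Cfsg.Agent.Helper5.LTC

theorem rows_0 : tabRowsOK cert tab 100 0 = true := by decide +kernel

end Cfsg.Agent.Helper4.SuzLB60
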