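import Cfsg.Agent.Helper4.SuzMM2Dat

/-! generated permutation model, checks: SuzMM2 -/

set_option autoImplicit false
set_option Elab.async false
set_option maxRecDepth 1000000

namespace Cfsg.Agent.Helper4.SuzMM2
open Cfsg.Agent.Helper5.TC Cfsg.Agent.Helper5.TCI Cfsg.Agent.Helper5.LP

theorem invc_3_0 : invRowFI mT 65520 3 2 65520 0 = true := by decide +kernel

theorem invc_7_0 : invRowFI mT 65520 7 6 65520 0 = true := by decide +kernel

theorem fixc_11_61538 : fixPtsF W_11 3982 61538 = true := by decide +kernel

theorem fixc_22_61538 : fixPtsF W_22 3982 61538 = true := by decide +kernel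

end Cfsg.Agent.Helper4.SuzMM2
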