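import Cfsg.Agent.Helper4.SuzMM3Dat

/-! generated permutation model, checks: SuzMM3 -/

set_option autoImplicit false
set_option Elab.async false
set_option maxRecDepth 1000000

namespace Cfsg.Agent.Helper4.SuzMM3
open Cfsg.Agent.Helper5.TC Cfsg.Agent.Helper5.TCI Cfsg.Agent.Helper5.LP

theorem fixc_8_0 : fixPtsF W_8 5346 0 = true := by decide +kernel

theorem fixc_13_0 : fixPtsF W_13 5346 0 = true := by decide +kernel

theorem fixc_15_0 : fixPtsF W_15 5346 0 = true := by decide +kernel

theorem fixc_7_0 : fixPtsF W_7 5346 0 = true := by decide +kernel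

theorem fixc_14_0 : fixPtsF W_14 5346 0 = true := by decide +kernel

theorem fixc_20_0 : fixPtsF W_20 5346 0 = true := by decide +kernel

theorem fixc_0_0 : fixPtsF W_0 5346 0 = true := by decide +kernel

theorem fixc_2_0 : fixPtsF W_2 5346 0 = true := by decide +kernel

theorem fixc_24_0 : fixPtsF W_24 5346 0 = true := by decide +kernel

theorem invc_2_0 : invRowFI mT 5346 2 3 5346 0 = true := by decide +kernel

theorem invc_5_0 : invRowFI mT 5346 5 4 5346 0 = true := by decide +kernel

theorem invc_8_0 : invRowFI mT 5346 8 9 5346 0 = true := by decide +kernel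

theorem invc_11_0 : invRowFI mT 5346 11 10 5346 0 = true := by decide +kernel

end Cfsg.Agent.Helper4.SuzMM3
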