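import Cfsg.Agent.Helper4.SuzMM3Dat

/-! generated permutation model, checks: SuzMM3 -/

set_option autoImplicit false
set_option Elab.async false
set_option maxRecDepth 1000000

namespace Cfsg.Agent.Helper4.SuzMM3
open Cfsg.Agent.Helper5.TC Cfsg.Agent.Helper5.TCI Cfsg.Agent.Helper5.LP

theorem fixc_5_0 : fixPtsF W_5 5346 0 = true := by decide +kernel

theorem fixc_6_0 : fixPtsF W_6 5346 0 = true := by decide +kernel

theorem fixc_12_0 : fixPtsF W_12 5346 0 = true := by decide +kernel

theorem fixc_22_0 : fixPtsF W_22 5346 0 = true := by decide +kernel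

theorem fixc_10_0 : fixPtsF W_10 5346 0 = true := by decide +kernel

theorem fixc_19_0 : fixPtsF W_19 5346 0 = true := by decide +kernel

theorem fixc_23_0 : fixPtsF W_23 5346 0 = true := by decide +kernel

theorem fixc_4_0 : fixPtsF W_4 5346 0 = true := by decide +kernel

theorem invc_1_0 : invRowFI mT 5346 1 0 5346 0 = true := by decide +kernel

theorem invc_4_0 : invRowFI mT 5346 4 5 5346 0 = true := by decide +kernel

theorem invc_7_0 : invRowFI mT 5346 7 6 5346 0 = true := by decide +kernel

theorem invc_10_0 : invRowFI mT 5346 10 11 5346 0 = true := by decide +kernel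

end Cfsg.Agent.Helper4.SuzMM3
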