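import Mathlib
import Cfsg.Agent.Helper4.SuzMDat
import Cfsg.Agent.Helper4.Tower
import Cfsg.Agent.Helper4.SuzLA60Sum
import Cfsg.Agent.Helper4.SuzLB60Sum
import Cfsg.Agent.Helper4.SuzLC60Sum
import Cfsg.Agent.Helper4.SuzLD60Sum

/-!
# generated: the tower of covering groups of exponent 60 of the Suzuki group

`7 < U3(3) < J2 < G2(4) < Suz`: four labelled Todd–Coxeter certificates (864, 100, 416 and 1782 cosets) bound the
order of the covering group of exponent 60.
-/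

set_option autoImplicit false

namespace Cfsg.Agent.Helper4.SuzM

open Cfsg Cfsg.Agent.Helper5.StemP Cfsg.Agent.Helper5.LP Cfsg.Agent.Helper5.LTC
  Cfsg.Agent.Helper5.TC Cfsg.Agent.Helper5.TCI

theorem CU_lt' : ∀ r ∈ CU, ∀ c ∈ r, c < 2 * 2 := by decide

theorem EXJ_lt' : ∀ r ∈ EXJ, ∀ c ∈ r, c < 2 * 3 := by decide

theorem EXC_lt' : ∀ r ∈ EXC, ∀ c ∈ r, c < 2 * 4 := by decide

theorem EXD_lt' : ∀ r ∈ EXD, ∀ c ∈ r, c < 2 * 5 := by decide

theorem CJ_lt' : ∀ r ∈ CJ, ∀ c ∈ r, c < 2 * 3 := by decide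

theorem CK_lt' : ∀ r ∈ CK, ∀ c ∈ r, c < 2 * 4 := by decide

theorem words_lt_A60 : ∀ wi, ∀ c ∈ SuzLA60.cert.W wi, c < 2 * 2 := by
  intro wi c hc
  have h : ∀ w ∈ SuzLA60.words, ∀ c ∈ w, c < 4 := by decide +kernel
  change c ∈ SuzLA60.words.getD wi [] at hc
  by_cases hwi : wi < SuzLA60.words.length
  · rw [List.getD_eq_getElem _ _ hwi] at hc
    exact h _ (List.getElem_mem hwi) c hc
  · rw [List.getD_eq_default _ _ (by omega)] at hc
    simp at hc

set_option maxRecDepth 1000000 in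
theorem wordOK_A60 : ∀ wi, wi < SuzLA60.cert.nrel →
    wordOK2 (coverRels 2 mm (CU ++ []) (CU ++ []) 60) (CU ++ []) CU.length (SuzLA60.cert.W wi) (SuzLA60.cert.δ wi)
      (SuzLA60.origs.getD wi 0) = true := by decide +kernel

theorem hsubW_A60 : ∀ wi, SuzLA60.cert.nrel ≤ wi → wi < SuzLA60.cert.nw →
    ∃ c, c < 2 * 1 ∧ SuzLA60.cert.W wi = [c] := by
  intro wi h1 h2
  have h1' : 29 ≤ wi := h1
  have h2' : wi < 30 := h2
  interval_cases wi
  · exact ⟨0, by norm_num, by decide +kernel⟩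

/-- the covering group of exponent 60 on the first 2 generators. -/
theorem card_A60 : Finite (CovG 2 mm CU CU 60) ∧ Nat.card (CovG 2 mm CU CU 60) ≤ 6048 := by
  have h := Tower.step 1 2 mm [] CU 60 (by norm_num) (by simp) CU_lt' (by norm_num) (by decide)
    (mm 0) (Tower.base mm 60 (by decide)) SuzLA60.cert rfl rfl rfl words_lt_A60
    (fun wi => SuzLA60.origs.getD wi 0) wordOK_A60 hsubW_A60 SuzLA60.hchk SuzLA60.tab (by decide +kernel)
    (by decide) SuzLA60.hT SuzLA60.js SuzLA60.hjs 0 1 (by norm_num) (by norm_num) SuzLA60.cs0 SuzLA60.h0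
    (fun i => SuzLA60.as_.getD i 0) (fun i => SuzLA60.css.getD i []) SuzLA60.hgs
  have hN : SuzLA60.tab.N = 864 := rfl
  rw [hN] at h
  rw [List.append_nil] at h
  exact ⟨h.1, h.2.trans (by decide)⟩

theorem words_lt_B60 : ∀ wi, ∀ c ∈ SuzLB60.cert.W wi, c < 2 * 3 := by
  intro wi c hc
  have h : ∀ w ∈ SuzLB60.words, ∀ c ∈ w, c < 6 := by decide +kernel
  change c ∈ SuzLB60.words.getD wi [] at hc
  by_cases hwi : wi < SuzLB60.words.length
  · rw [List.getD_eq_getElem _ _ hwi] at hc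
    exact h _ (List.getElem_mem hwi) c hc
  · rw [List.getD_eq_default _ _ (by omega)] at hc
    simp at hc

set_option maxRecDepth 1000000 in
theorem wordOK_B60 : ∀ wi, wi < SuzLB60.cert.nrel →
    wordOK2 (coverRels 3 mm (EXJ ++ CU) (EXJ ++ CU) 60) (EXJ ++ CU) EXJ.length (SuzLB60.cert.W wi) (SuzLB60.cert.δ wi)
      (SuzLB60.origs.getD wi 0) = true := by decide +kernel

theorem hsubW_B60 : ∀ wi, SuzLB60.cert.nrel ≤ wi → wi < SuzLB60.cert.nw →
    ∃ c, c < 2 * 2 ∧ SuzLB60.cert.W wi = [c] := by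
  intro wi h1 h2
  have h1' : 69 ≤ wi := h1
  have h2' : wi < 71 := h2
  interval_cases wi
  · exact ⟨0, by norm_num, by decide +kernel⟩
  · exact ⟨2, by norm_num, by decide +kernel⟩

/-- the covering group of exponent 60 on the first 3 generators. -/
theorem card_B60 : Finite (CovG 3 mm CJ CJ 60) ∧ Nat.card (CovG 3 mm CJ CJ 60) ≤ 1209600 := by
  have h := Tower.step 2 3 mm CU EXJ 60 (by norm_num) CU_lt' EXJ_lt' (by norm_num) (by decide)
    6048 card_A60 SuzLB60.cert rfl rfl rfl words_lt_B60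
    (fun wi => SuzLB60.origs.getD wi 0) wordOK_B60 hsubW_B60 SuzLB60.hchk SuzLB60.tab (by decide +kernel)
    (by decide) SuzLB60.hT SuzLB60.js SuzLB60.hjs 2 2 (by norm_num) (by norm_num) SuzLB60.cs0 SuzLB60.h0
    (fun i => SuzLB60.as_.getD i 0) (fun i => SuzLB60.css.getD i []) SuzLB60.hgs
  have hN : SuzLB60.tab.N = 100 := rfl
  rw [hN] at h
  exact ⟨h.1, h.2.trans (by decide)⟩

theorem words_lt_C60 : ∀ wi, ∀ c ∈ SuzLC60.cert.W wi, c < 2 * 4 := by
  intro wi c hc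
  have h : ∀ w ∈ SuzLC60.words, ∀ c ∈ w, c < 8 := by decide +kernel
  change c ∈ SuzLC60.words.getD wi [] at hc
  by_cases hwi : wi < SuzLC60.words.length
  · rw [List.getD_eq_getElem _ _ hwi] at hc
    exact h _ (List.getElem_mem hwi) c hc
  · rw [List.getD_eq_default _ _ (by omega)] at hc
    simp at hc

set_option maxRecDepth 1000000 in
theorem wordOK_C60 : ∀ wi, wi < SuzLC60.cert.nrel →
    wordOK2 (coverRels 4 mm (EXC ++ CJ) (EXC ++ CJ) 60) (EXC ++ CJ) EXC.length (SuzLC60.cert.W wi) (SuzLC60.cert.δ wi)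
      (SuzLC60.origs.getD wi 0) = true := by decide +kernel

theorem hsubW_C60 : ∀ wi, SuzLC60.cert.nrel ≤ wi → wi < SuzLC60.cert.nw →
    ∃ c, c < 2 * 3 ∧ SuzLC60.cert.W wi = [c] := by
  intro wi h1 h2
  have h1' : 122 ≤ wi := h1
  have h2' : wi < 125 := h2
  interval_cases wi
  · exact ⟨0, by norm_num, by decide +kernel⟩
  · exact ⟨2, by norm_num, by decide +kernel⟩
  · exact ⟨4, by norm_num, by decide +kernel⟩

/-- the covering group of exponent 60 on the first 4 generators. -/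
theorem card_C60 : Finite (CovG 4 mm CK CK 60) ∧ Nat.card (CovG 4 mm CK CK 60) ≤ 503193600 := by
  have h := Tower.step 3 4 mm CJ EXC 60 (by norm_num) CJ_lt' EXC_lt' (by norm_num) (by decide)
    1209600 card_B60 SuzLC60.cert rfl rfl rfl words_lt_C60
    (fun wi => SuzLC60.origs.getD wi 0) wordOK_C60 hsubW_C60 SuzLC60.hchk SuzLC60.tab (by decide +kernel)
    (by decide) SuzLC60.hT SuzLC60.js SuzLC60.hjs 0 1 (by norm_num) (by norm_num) SuzLC60.cs0 SuzLC60.h0
    (fun i => SuzLC60.as_.getD i 0) (fun i => SuzLC60.css.getD i []) SuzLC60.hgs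
  have hN : SuzLC60.tab.N = 416 := rfl
  rw [hN] at h
  exact ⟨h.1, h.2.trans (by decide)⟩

theorem words_lt_D60 : ∀ wi, ∀ c ∈ SuzLD60.cert.W wi, c < 2 * 5 := by
  intro wi c hc
  have h : ∀ w ∈ SuzLD60.words, ∀ c ∈ w, c < 10 := by decide +kernel
  change c ∈ SuzLD60.words.getD wi [] at hc
  by_cases hwi : wi < SuzLD60.words.length
  · rw [List.getD_eq_getElem _ _ hwi] at hc
    exact h _ (List.getElem_mem hwi) c hc
  · rw [List.getD_eq_default _ _ (by omega)] at hc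
    simp at hc

set_option maxRecDepth 1000000 in
theorem wordOK_D60 : ∀ wi, wi < SuzLD60.cert.nrel →
    wordOK2 (coverRels 5 mm (EXD ++ CK) (EXD ++ CK) 60) (EXD ++ CK) EXD.length (SuzLD60.cert.W wi) (SuzLD60.cert.δ wi)
      (SuzLD60.origs.getD wi 0) = true := by decide +kernel

theorem hsubW_D60 : ∀ wi, SuzLD60.cert.nrel ≤ wi → wi < SuzLD60.cert.nw →
    ∃ c, c < 2 * 4 ∧ SuzLD60.cert.W wi = [c] := by
  intro wi h1 h2
  have h1' : 204 ≤ wi := h1
  have h2' : wi < 208 := h2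
  interval_cases wi
  · exact ⟨0, by norm_num, by decide +kernel⟩
  · exact ⟨2, by norm_num, by decide +kernel⟩
  · exact ⟨4, by norm_num, by decide +kernel⟩
  · exact ⟨6, by norm_num, by decide +kernel⟩

/-- the covering group of exponent 60 on the first 5 generators. -/
theorem card_D60 : Finite (CovG 5 mm CS CS 60) ∧ Nat.card (CovG 5 mm CS CS 60) ≤ 2690072985600 := by
  have h := Tower.step 4 5 mm CK EXD 60 (by norm_num) CK_lt' EXD_lt' (by norm_num) (by decide)
    503193600 card_C60 SuzLD60.cert rfl rfl rfl words_lt_D60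
    (fun wi => SuzLD60.origs.getD wi 0) wordOK_D60 hsubW_D60 SuzLD60.hchk SuzLD60.tab (by decide +kernel)
    (by decide) SuzLD60.hT SuzLD60.js SuzLD60.hjs 4 3 (by norm_num) (by norm_num) SuzLD60.cs0 SuzLD60.h0
    (fun i => SuzLD60.as_.getD i 0) (fun i => SuzLD60.css.getD i []) SuzLD60.hgs
  have hN : SuzLD60.tab.N = 1782 := rfl
  rw [hN] at h
  exact ⟨h.1, h.2.trans (by decide)⟩

end Cfsg.Agent.Helper4.SuzM
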