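import Mathlib
import Cfsg.Agent.Helper4.SuzMDat
import Cfsg.Agent.Helper4.Tower
import Cfsg.Agent.Helper4.SuzLA9Sum
import Cfsg.Agent.Helper4.SuzLB9Sum
import Cfsg.Agent.Helper4.SuzLC9Sum
import Cfsg.Agent.Helper4.SuzLD9Sum

/-!
# generated: the tower of covering groups of exponent 9 of the Suzuki group

`7 < U3(3) < J2 < G2(4) < Suz`: four labelled Todd–Coxeter certificates (864, 100, 416 and 1782 cosets) bound the
order of the covering group of exponent 9.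
-/

set_option autoImplicit false

namespace Cfsg.Agent.Helper4.SuzM

open Cfsg Cfsg.Agent.Helper5.StemP Cfsg.Agent.Helper5.LP Cfsg.Agent.Helper5.LTC
  Cfsg.Agent.Helper5.TC Cfsg.Agent.Helper5.TCI

theorem CU_lt' : ∀ r ∈ CU, ∀ c ∈ r, c < 2 * 2 := by decide

theorem EXJ_lt' : ∀ r ∈ EXJ, ∀ c ∈ r, c < 2 * 3 := by decide

theorem EXC_lt' : ∀ r ∈ EXC, ∀ c ∈ r, c < 2 * 4 := by decide

theorem EXD_lt' : ∀ r ∈ EXD, ∀ c ∈ r, c < 2 * 5 := by decide

theorem CJ_lt' : ∀ r ∈ CJ, ∀ c ∈ r, c < 2 * 3 := by decide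

theorem CK_lt' : ∀ r ∈ CK, ∀ c ∈ r, c < 2 * 4 := by decide

theorem words_lt_A9 : ∀ wi, ∀ c ∈ SuzLA9.cert.W wi, c < 2 * 2 := by
  intro wi c hc
  have h : ∀ w ∈ SuzLA9.words, ∀ c ∈ w, c < 4 := by decide +kernel
  change c ∈ SuzLA9.words.getD wi [] at hc
  by_cases hwi : wi < SuzLA9.words.length
  · rw [List.getD_eq_getElem _ _ hwi] at hc
    exact h _ (List.getElem_mem hwi) c hc
  · rw [List.getD_eq_default _ _ (by omega)] at hc
    simp at hc

set_option maxRecDepth 1000000 in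
theorem wordOK_A9 : ∀ wi, wi < SuzLA9.cert.nrel →
    wordOK2 (coverRels 2 mm (CU ++ []) (CU ++ []) 9) (CU ++ []) CU.length (SuzLA9.cert.W wi) (SuzLA9.cert.δ wi)
      (SuzLA9.origs.getD wi 0) = true := by decide +kernel

theorem hsubW_A9 : ∀ wi, SuzLA9.cert.nrel ≤ wi → wi < SuzLA9.cert.nw →
    ∃ c, c < 2 * 1 ∧ SuzLA9.cert.W wi = [c] := by
  intro wi h1 h2
  have h1' : 29 ≤ wi := h1
  have h2' : wi < 30 := h2
  interval_cases wi
  · exact ⟨0, by norm_num, by decide +kernel⟩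

/-- the covering group of exponent 9 on the first 2 generators. -/
theorem card_A9 : Finite (CovG 2 mm CU CU 9) ∧ Nat.card (CovG 2 mm CU CU 9) ≤ 6048 := by
  have h := Tower.step 1 2 mm [] CU 9 (by norm_num) (by simp) CU_lt' (by norm_num) (by decide)
    (mm 0) (Tower.base mm 9 (by decide)) SuzLA9.cert rfl rfl rfl words_lt_A9
    (fun wi => SuzLA9.origs.getD wi 0) wordOK_A9 hsubW_A9 SuzLA9.hchk SuzLA9.tab (by decide +kernel)
    (by decide) SuzLA9.hT SuzLA9.js SuzLA9.hjs 0 1 (by norm_num) (by norm_num) SuzLA9.cs0 SuzLA9.h0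
    (fun i => SuzLA9.as_.getD i 0) (fun i => SuzLA9.css.getD i []) SuzLA9.hgs
  have hN : SuzLA9.tab.N = 864 := rfl
  rw [hN] at h
  rw [List.append_nil] at h
  exact ⟨h.1, h.2.trans (by decide)⟩

theorem words_lt_B9 : ∀ wi, ∀ c ∈ SuzLB9.cert.W wi, c < 2 * 3 := by
  intro wi c hc
  have h : ∀ w ∈ SuzLB9.words, ∀ c ∈ w, c < 6 := by decide +kernel
  change c ∈ SuzLB9.words.getD wi [] at hc
  by_cases hwi : wi < SuzLB9.words.length
  · rw [List.getD_eq_getElem _ _ hwi] at hc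
    exact h _ (List.getElem_mem hwi) c hc
  · rw [List.getD_eq_default _ _ (by omega)] at hc
    simp at hc

set_option maxRecDepth 1000000 in
theorem wordOK_B9 : ∀ wi, wi < SuzLB9.cert.nrel →
    wordOK2 (coverRels 3 mm (EXJ ++ CU) (EXJ ++ CU) 9) (EXJ ++ CU) EXJ.length (SuzLB9.cert.W wi) (SuzLB9.cert.δ wi)
      (SuzLB9.origs.getD wi 0) = true := by decide +kernel

theorem hsubW_B9 : ∀ wi, SuzLB9.cert.nrel ≤ wi → wi < SuzLB9.cert.nw →
    ∃ c, c < 2 * 2 ∧ SuzLB9.cert.W wi = [c] := by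
  intro wi h1 h2
  have h1' : 69 ≤ wi := h1
  have h2' : wi < 71 := h2
  interval_cases wi
  · exact ⟨0, by norm_num, by decide +kernel⟩
  · exact ⟨2, by norm_num, by decide +kernel⟩

/-- the covering group of exponent 9 on the first 3 generators. -/
theorem card_B9 : Finite (CovG 3 mm CJ CJ 9) ∧ Nat.card (CovG 3 mm CJ CJ 9) ≤ 604800 := by
  have h := Tower.step 2 3 mm CU EXJ 9 (by norm_num) CU_lt' EXJ_lt' (by norm_num) (by decide)
    6048 card_A9 SuzLB9.cert rfl rfl rfl words_lt_B9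
    (fun wi => SuzLB9.origs.getD wi 0) wordOK_B9 hsubW_B9 SuzLB9.hchk SuzLB9.tab (by decide +kernel)
    (by decide) SuzLB9.hT SuzLB9.js SuzLB9.hjs 0 1 (by norm_num) (by norm_num) SuzLB9.cs0 SuzLB9.h0
    (fun i => SuzLB9.as_.getD i 0) (fun i => SuzLB9.css.getD i []) SuzLB9.hgs
  have hN : SuzLB9.tab.N = 100 := rfl
  rw [hN] at h
  exact ⟨h.1, h.2.trans (by decide)⟩

theorem words_lt_C9 : ∀ wi, ∀ c ∈ SuzLC9.cert.W wi, c < 2 * 4 := by
  intro wi c hc
  have h : ∀ w ∈ SuzLC9.words, ∀ c ∈ w, c < 8 := by decide +kernel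
  change c ∈ SuzLC9.words.getD wi [] at hc
  by_cases hwi : wi < SuzLC9.words.length
  · rw [List.getD_eq_getElem _ _ hwi] at hc
    exact h _ (List.getElem_mem hwi) c hc
  · rw [List.getD_eq_default _ _ (by omega)] at hc
    simp at hc

set_option maxRecDepth 1000000 in
theorem wordOK_C9 : ∀ wi, wi < SuzLC9.cert.nrel →
    wordOK2 (coverRels 4 mm (EXC ++ CJ) (EXC ++ CJ) 9) (EXC ++ CJ) EXC.length (SuzLC9.cert.W wi) (SuzLC9.cert.δ wi)
      (SuzLC9.origs.getD wi 0) = true := by decide +kernel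

theorem hsubW_C9 : ∀ wi, SuzLC9.cert.nrel ≤ wi → wi < SuzLC9.cert.nw →
    ∃ c, c < 2 * 3 ∧ SuzLC9.cert.W wi = [c] := by
  intro wi h1 h2
  have h1' : 122 ≤ wi := h1
  have h2' : wi < 125 := h2
  interval_cases wi
  · exact ⟨0, by norm_num, by decide +kernel⟩
  · exact ⟨2, by norm_num, by decide +kernel⟩
  · exact ⟨4, by norm_num, by decide +kernel⟩

/-- the covering group of exponent 9 on the first 4 generators. -/
theorem card_C9 : Finite (CovG 4 mm CK CK 9) ∧ Nat.card (CovG 4 mm CK CK 9) ≤ 251596800 := by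
  have h := Tower.step 3 4 mm CJ EXC 9 (by norm_num) CJ_lt' EXC_lt' (by norm_num) (by decide)
    604800 card_B9 SuzLC9.cert rfl rfl rfl words_lt_C9
    (fun wi => SuzLC9.origs.getD wi 0) wordOK_C9 hsubW_C9 SuzLC9.hchk SuzLC9.tab (by decide +kernel)
    (by decide) SuzLC9.hT SuzLC9.js SuzLC9.hjs 0 1 (by norm_num) (by norm_num) SuzLC9.cs0 SuzLC9.h0
    (fun i => SuzLC9.as_.getD i 0) (fun i => SuzLC9.css.getD i []) SuzLC9.hgs
  have hN : SuzLC9.tab.N = 416 := rfl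
  rw [hN] at h
  exact ⟨h.1, h.2.trans (by decide)⟩

theorem words_lt_D9 : ∀ wi, ∀ c ∈ SuzLD9.cert.W wi, c < 2 * 5 := by
  intro wi c hc
  have h : ∀ w ∈ SuzLD9.words, ∀ c ∈ w, c < 10 := by decide +kernel
  change c ∈ SuzLD9.words.getD wi [] at hc
  by_cases hwi : wi < SuzLD9.words.length
  · rw [List.getD_eq_getElem _ _ hwi] at hc
    exact h _ (List.getElem_mem hwi) c hc
  · rw [List.getD_eq_default _ _ (by omega)] at hc
    simp at hc

set_option maxRecDepth 1000000 in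
theorem wordOK_D9 : ∀ wi, wi < SuzLD9.cert.nrel →
    wordOK2 (coverRels 5 mm (EXD ++ CK) (EXD ++ CK) 9) (EXD ++ CK) EXD.length (SuzLD9.cert.W wi) (SuzLD9.cert.δ wi)
      (SuzLD9.origs.getD wi 0) = true := by decide +kernel

theorem hsubW_D9 : ∀ wi, SuzLD9.cert.nrel ≤ wi → wi < SuzLD9.cert.nw →
    ∃ c, c < 2 * 4 ∧ SuzLD9.cert.W wi = [c] := by
  intro wi h1 h2
  have h1' : 204 ≤ wi := h1
  have h2' : wi < 208 := h2
  interval_cases wi
  · exact ⟨0, by norm_num, by decide +kernel⟩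
  · exact ⟨2, by norm_num, by decide +kernel⟩
  · exact ⟨4, by norm_num, by decide +kernel⟩
  · exact ⟨6, by norm_num, by decide +kernel⟩

/-- the covering group of exponent 9 on the first 5 generators. -/
theorem card_D9 : Finite (CovG 5 mm CS CS 9) ∧ Nat.card (CovG 5 mm CS CS 9) ≤ 1345036492800 := by
  have h := Tower.step 4 5 mm CK EXD 9 (by norm_num) CK_lt' EXD_lt' (by norm_num) (by decide)
    251596800 card_C9 SuzLD9.cert rfl rfl rfl words_lt_D9
    (fun wi => SuzLD9.origs.getD wi 0) wordOK_D9 hsubW_D9 SuzLD9.hchk SuzLD9.tab (by decide +kernel)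
    (by decide) SuzLD9.hT SuzLD9.js SuzLD9.hjs 4 3 (by norm_num) (by norm_num) SuzLD9.cs0 SuzLD9.h0
    (fun i => SuzLD9.as_.getD i 0) (fun i => SuzLD9.css.getD i []) SuzLD9.hgs
  have hN : SuzLD9.tab.N = 1782 := rfl
  rw [hN] at h
  exact ⟨h.1, h.2.trans (by decide)⟩

end Cfsg.Agent.Helper4.SuzM
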