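import Mathlib
import Cfsg.Agent.Helper4.SuzMGen
import Cfsg.Agent.Helper4.SuzMTow9
import Cfsg.Agent.Helper4.SuzMTow60
import Cfsg.Agent.Helper4.SuzMM2Sum
import Cfsg.Agent.Helper4.SuzMM3Sum
import Cfsg.Agent.Helper4.ShiftModel
import Cfsg.Agent.Helper4.StemX
import Cfsg.Agent.Helper5.LPE
import Cfsg.Agent.Helper5.StemPL
import Cfsg.Agent.Helper5.StemPH
import Cfsg.Agent.Helper5.StemPM
import Cfsg.Agent.Helper5.StemPK
import Cfsg.Agent.Helper5.StemPI

/-!
# The Schur multiplier of the Suzuki group is cyclic of order 6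

The covering group of exponent 60 of the presentation along the Suzuki chain has order at most
`6 * |Suz|` (`SuzMTow60`); it acts on 65520 points (cosets of `U5(2)`, doubled) and on 5346 points
(cosets of `G2(4)`, tripled), where a central word acts as a shift of order 2 and 3: the kernel is
cyclic of order 6.  The covering group of exponent 9 (`SuzMTow9`) bounds the 3-part of the kernel
of every stem extension, the one of exponent 60 the 2-part and the 5-part.
-/

set_option autoImplicit false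

namespace Cfsg.Agent.Helper4.SuzM

open Cfsg Cfsg.Agent.Helper5.StemP Cfsg.Agent.Helper5.LP Cfsg.Agent.Helper5.LTC
  Cfsg.Agent.Helper5.TC Cfsg.Agent.Helper5.TCI Cfsg.Agent.Helper4.ShM Cfsg.Agent.Helper4.StemX

theorem CS2_lt : ∀ r ∈ CS ++ CS, ∀ c ∈ r, c < 2 * 5 := by
  intro r hr
  rcases List.mem_append.mp hr with h | h <;> exact CS_lt r h

theorem CS2_rel : ∀ r ∈ CS ++ CS, (r.map (lval g)).prod = 1 := by
  intro r hr
  rcases List.mem_append.mp hr with h | h <;> exact CS_rel r h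

/-- the covering homomorphism of exponent 60. -/
noncomputable def piF : CovG 5 mm CS CS 60 →* P :=
  coverHomU 5 mm CS CS 60 CS2_lt g g_pow CS2_rel

theorem piF_surj : Function.Surjective piF :=
  coverHomU_surjective 5 mm CS CS 60 CS2_lt g g_pow CS2_rel g_closure

instance fin_F : Finite (CovG 5 mm CS CS 60) := card_D60.1

instance fin_F9 : Finite (CovG 5 mm CS CS 9) := card_D9.1

/-- the covering homomorphism of exponent 9. -/
noncomputable def piF9 : CovG 5 mm CS CS 9 →* P :=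
  coverHomU 5 mm CS CS 9 CS2_lt g g_pow CS2_rel

theorem piF9_surj : Function.Surjective piF9 :=
  coverHomU_surjective 5 mm CS CS 9 CS2_lt g g_pow CS2_rel g_closure

/-! ### the two models -/

theorem cw2_eq : SuzMM2.cw = CS := by decide

theorem cw3_eq : SuzMM3.cw = CS := by decide

theorem model2 : ∃ ρ : CovG 5 mm CS CS 60 →* Equiv.Perm (Fin 65520),
    ActsOn ρ (ev (2 * 5) (coverRels 5 mm CS CS 60)) (2 * 5) SuzMM2.mT := by
  refine exists_model 5 mm CS 60 65520 SuzMM2.mT SuzMM2.tableOK CS_lt SuzMM2.hcomm ?_ ?_ 2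
    SuzMM2.hsh (by norm_num)
  · intro r hr
    exact SuzMM2.hcent r (by rw [cw2_eq]; exact hr)
  · intro i hi
    have h := SuzMM2.hpow i hi
    interval_cases i <;> exact h

theorem model3 : ∃ ρ : CovG 5 mm CS CS 60 →* Equiv.Perm (Fin 5346),
    ActsOn ρ (ev (2 * 5) (coverRels 5 mm CS CS 60)) (2 * 5) SuzMM3.mT := by
  refine exists_model 5 mm CS 60 5346 SuzMM3.mT SuzMM3.tableOK CS_lt SuzMM3.hcomm ?_ ?_ 3
    SuzMM3.hsh (by norm_num)
  · intro r hr
    exact SuzMM3.hcent r (by rw [cw3_eq]; exact hr)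
  · intro i hi
    have h := SuzMM3.hpow i hi
    interval_cases i <;> exact h

/-- the word of a central element of order 6. -/
def zw : List ℕ := EXD.getD 4 []

theorem zw_mem : zw ∈ CS := by decide

theorem zw_lt : ∀ c ∈ zw, c < 2 * 5 := CS_lt zw zw_mem

set_option maxRecDepth 1000000 in
theorem move2 : actL SuzMM2.mT zw 0 ≠ 0 ∧ actL SuzMM2.mT (List.replicate 3 zw).flatten 0 ≠ 0 ∧
    actL SuzMM2.mT (List.replicate 5 zw).flatten 0 ≠ 0 := by decide +kernel

set_option maxRecDepth 1000000 in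
theorem move3 : actL SuzMM3.mT (List.replicate 2 zw).flatten 0 ≠ 0 ∧
    actL SuzMM3.mT (List.replicate 4 zw).flatten 0 ≠ 0 := by decide +kernel

/-- the central element of order 6. -/
noncomputable def z0 : CovG 5 mm CS CS 60 := ev (2 * 5) (coverRels 5 mm CS CS 60) zw

theorem rep_lt (k : ℕ) : ∀ c ∈ (List.replicate k zw).flatten, c < 2 * 5 := by
  intro c hc
  obtain ⟨l, hl, hcl⟩ := List.mem_flatten.mp hc
  rw [List.eq_of_mem_replicate hl] at hcl
  exact zw_lt c hcl

theorem z0_pow_ne : z0 ^ 1 ≠ 1 ∧ z0 ^ 2 ≠ 1 ∧ z0 ^ 3 ≠ 1 ∧ z0 ^ 4 ≠ 1 ∧ z0 ^ 5 ≠ 1 := by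
  obtain ⟨ρ2, hA2⟩ := model2
  obtain ⟨ρ3, hA3⟩ := model3
  unfold z0
  refine ⟨?_, ?_, ?_, ?_, ?_⟩
  · rw [pow_one]
    exact ne_one_of_move hA2 _ zw_lt 0 (by norm_num) move2.1
  · rw [ev_pow]
    exact ne_one_of_move hA3 _ (rep_lt 2) 0 (by norm_num) move3.1
  · rw [ev_pow]
    exact ne_one_of_move hA2 _ (rep_lt 3) 0 (by norm_num) move2.2.1
  · rw [ev_pow]
    exact ne_one_of_move hA3 _ (rep_lt 4) 0 (by norm_num) move3.2
  · rw [ev_pow]
    exact ne_one_of_move hA2 _ (rep_lt 5) 0 (by norm_num) move2.2.2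

theorem z0_center : z0 ∈ Subgroup.center (CovG 5 mm CS CS 60) :=
  cover_center 5 mm CS CS 60 zw_mem zw_lt

theorem z0_ker : z0 ∈ piF.ker :=
  coverHomU_ker 5 mm CS CS 60 CS2_lt g g_pow CS2_rel zw_mem

theorem card_ker_le : Nat.card piF.ker ≤ 6 := by
  have hmul := card_eq_card_mul_ker piF piF_surj
  have h := card_D60.2
  rw [hmul, card_P] at h
  have h6 : (2690072985600 : ℕ) = 448345497600 * 6 := by norm_num
  rw [h6] at h
  exact Nat.le_of_mul_le_mul_left h (by norm_num)

theorem order_z0 : orderOf z0 = 6 := by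
  have hdk : orderOf z0 ∣ Nat.card piF.ker := by
    rw [← Subgroup.orderOf_mk z0 z0_ker]
    exact orderOf_dvd_natCard _
  have hle : orderOf z0 ≤ 6 := (Nat.le_of_dvd Nat.card_pos hdk).trans card_ker_le
  have hpos : 0 < orderOf z0 := orderOf_pos z0
  have hpow := pow_orderOf_eq_one z0
  obtain ⟨h1, h2, h3, h4, h5⟩ := z0_pow_ne
  interval_cases h : orderOf z0
  · exact absurd hpow h1
  · exact absurd hpow h2
  · exact absurd hpow h3
  · exact absurd hpow h4
  · exact absurd hpow h5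
  · rfl

theorem card_ker : Nat.card piF.ker = 6 := by
  have hdk : orderOf z0 ∣ Nat.card piF.ker := by
    rw [← Subgroup.orderOf_mk z0 z0_ker]
    exact orderOf_dvd_natCard _
  rw [order_z0] at hdk
  exact le_antisymm card_ker_le (Nat.le_of_dvd Nat.card_pos hdk)

theorem card_F : Nat.card (CovG 5 mm CS CS 60) = Nat.card P * 6 := by
  rw [card_eq_card_mul_ker piF piF_surj, card_ker]

theorem mm_dvd91 : ∀ i, mm i ∣ 91 := by
  intro i
  unfold mm
  split_ifs <;> decide

theorem cgen_pow91 : ∀ x ∈ {x : CovG 5 mm CS CS 60 | ∃ i, i < 5 ∧ x = cgen 5 mm CS CS 60 i},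
    x ^ 91 = 1 := by
  rintro x ⟨i, hi, rfl⟩
  obtain ⟨c, hc⟩ := mm_dvd91 i
  rw [hc, pow_mul, cgen_pow 5 mm CS CS 60 (i := i) hi, one_pow]

theorem stem_F : Cfsg.IsStemExtension piF ∧
    Nonempty (piF.ker ≃* Multiplicative (ZMod 6)) := by
  refine stem_cyclic piF piF_surj 6 (by norm_num) (by rw [card_F]) z0 z0_center z0_ker ?_
    _ (closure_cgen 5 mm CS CS 60) 91 cgen_pow91 (by decide)
  intro p hp hpd
  obtain ⟨h1, h2, h3, h4, h5⟩ := z0_pow_ne
  have hp6 : p ≤ 6 := Nat.le_of_dvd (by norm_num) hpd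
  interval_cases p
  · exact absurd hp (by decide)
  · exact absurd hp (by decide)
  · exact h3
  · exact h2
  · exact absurd hpd (by decide)
  · exact absurd hpd (by decide)
  · exact absurd hp (by decide)

/-! ### the bound for the stem extensions -/

theorem mm_cop (s : ℕ) (hs : Nat.Coprime 7 s ∧ Nat.Coprime 13 s) :
    ∀ i, i < 5 → g i ^ mm i = 1 ∧ (mm i).Coprime s := by
  intro i hi
  refine ⟨g_pow i hi, ?_⟩
  unfold mm
  split_ifs
  · exact hs.2
  · exact hs.1

theorem card_ker9_le : Nat.card piF9.ker ≤ 3 := by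
  have hmul := card_eq_card_mul_ker piF9 piF9_surj
  have h := card_D9.2
  rw [hmul, card_P] at h
  have h3 : (1345036492800 : ℕ) = 448345497600 * 3 := by norm_num
  rw [h3] at h
  exact Nat.le_of_mul_le_mul_left h (by norm_num)

/-- a group of order dividing 6 all of whose elements are killed by a power of 2 has order at
most 2. -/
theorem card_le_two_of_dvd_six {H : Type*} [Group H] [Finite H] (h6 : Nat.card H ∣ 6) (s : ℕ)
    (hs : ∀ y : H, y ^ 2 ^ s = 1) : Nat.card H ≤ 2 := by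
  by_contra hgt
  rw [not_le] at hgt
  have h3 : 3 ∣ Nat.card H := by
    have hle : Nat.card H ≤ 6 := Nat.le_of_dvd (by norm_num) h6
    interval_cases hc : Nat.card H
    · exact dvd_refl 3
    · exact absurd h6 (by decide)
    · exact absurd h6 (by decide)
    · exact ⟨2, rfl⟩
  have : Fact (Nat.Prime 3) := ⟨Nat.prime_three⟩
  obtain ⟨x, hx⟩ := exists_prime_orderOf_dvd_card' 3 h3
  have hd : orderOf x ∣ 2 ^ s := orderOf_dvd_of_pow_eq_one (hs x)
  rw [hx] at hd
  have := (Nat.Prime.dvd_of_dvd_pow Nat.prime_three hd)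
  exact absurd this (by decide)

theorem bound (Γ : Type) [Group Γ] [Finite Γ] (σ : Γ →* P)
    (hσ : Cfsg.IsStemExtension σ) : Nat.card σ.ker ≤ 6 := by
  have hc := hσ.2.1
  have : Finite (LPG (2 * 5) (coverRels 5 mm CS CS 60)) := card_D60.1
  have : Finite (LPG (2 * 5) (coverRels 5 mm CS CS 9)) := card_D9.1
  have hcard : Nat.card (LPG (2 * 5) (coverRels 5 mm CS CS 60)) ∣ Nat.card P * 6 := by
    show Nat.card (CovG 5 mm CS CS 60) ∣ _
    rw [card_F]
  have hcard9 : Nat.card (LPG (2 * 5) (coverRels 5 mm CS CS 9)) ∣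
      Nat.card P * Nat.card piF9.ker := by
    show Nat.card (CovG 5 mm CS CS 9) ∣ _
    rw [card_eq_card_mul_ker piF9 piF9_surj]
  have hk9pos : 0 < Nat.card piF9.ker := Nat.card_pos
  have h2 : Nat.card (qmap σ hc 54729675).ker ∣ 6 :=
    card_qmap_ker_dvd_of_pow_dvd σ hσ hc 2 Nat.prime_two 13 2 54729675 60 (by norm_num)
      (by rw [card_P]; norm_num)
      5 mm CS CS CS2_lt g g_closure (mm_cop _ (by decide)) CS2_rel 6 hcard (by decide)
  have h3 : Nat.card (qmap σ hc 205004800).ker ∣ Nat.card piF9.ker :=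
    card_qmap_ker_dvd_of_pow_dvd σ hσ hc 3 Nat.prime_three 7 2 205004800 9 (by norm_num)
      (by rw [card_P]; norm_num)
      5 mm CS CS CS2_lt g g_closure (mm_cop _ (by decide)) CS2_rel _ hcard9 (by
        intro hd
        have := Nat.le_of_dvd hk9pos hd
        have := card_ker9_le
        omega)
  have h5 : Nat.card (qmap σ hc 17933819904).ker ∣ 6 :=
    card_qmap_ker_dvd_of_pow_dvd σ hσ hc 5 Nat.prime_five 2 1 17933819904 60 (by norm_num)
      (by rw [card_P]; norm_num)
      5 mm CS CS CS2_lt g g_closure (mm_cop _ (by decide)) CS2_rel 6 hcard (by decide)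
  have h2' : Nat.card (qmap σ hc 54729675).ker ≤ 2 := by
    apply card_le_two_of_dvd_six h2 13
    intro y
    have := qmap_ker_pow σ hσ hc (s := 2 ^ 13) (t := 54729675) (by rw [card_P]; norm_num) y.1 y.2
    exact Subtype.ext this
  have h3' : Nat.card (qmap σ hc 205004800).ker ≤ 3 :=
    (Nat.le_of_dvd hk9pos h3).trans card_ker9_le
  have h5' : Nat.card (qmap σ hc 17933819904).ker = 1 :=
    ker_trivial_of_coprime σ hσ hc 25 17933819904 6 (by rw [card_P]) (by decide) h5
  have h7 : ∀ z ∈ σ.ker, z ^ Nat.gcd (Nat.gcd 54729675 205004800) 17933819904 = 1 → z = 1 := by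
    intro z hz hz1
    have e1001 : Nat.gcd (Nat.gcd 54729675 205004800) 17933819904 = 7 * (11 * 13) := by decide
    rw [e1001] at hz1
    refine eq_one_of_pow_eq_one σ hσ (7 * (11 * 13)) ?_ z hz hz1
    intro q hq hqd
    rw [card_P]
    rcases (Nat.Prime.dvd_mul hq).mp hqd with h | h
    · rw [(Nat.prime_dvd_prime_iff_eq hq (by norm_num)).mp h]
      decide
    · rcases (Nat.Prime.dvd_mul hq).mp h with h | h
      · rw [(Nat.prime_dvd_prime_iff_eq hq (by norm_num)).mp h]
        decide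
      · rw [(Nat.prime_dvd_prime_iff_eq hq (by norm_num)).mp h]
        decide
  have h8 := card_ker_le_mul3 σ hc 54729675 205004800 17933819904 h7
  calc Nat.card σ.ker ≤ Nat.card (qmap σ hc 54729675).ker *
        Nat.card (qmap σ hc 205004800).ker * Nat.card (qmap σ hc 17933819904).ker := h8
    _ ≤ 2 * 3 * 1 := by
        rw [h5']
        exact Nat.mul_le_mul (Nat.mul_le_mul h2' h3') le_rfl
    _ = 6 := by norm_num

theorem main : Cfsg.HasCyclicSchurMultiplier P 6 := by
  have c6 : Nat.card (Multiplicative (ZMod 6)) = 6 := by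
    change Nat.card (ZMod 6) = 6
    rw [Nat.card_zmod]
  apply hasSchurMultiplier_of_exists_of_card_le
  · exact ⟨CovG 5 mm CS CS 60, inferInstance, card_D60.1, piF, stem_F.1, stem_F.2⟩
  · intro Γ _ _ σ hσ
    rw [c6]
    exact bound Γ σ hσ

end Cfsg.Agent.Helper4.SuzM
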