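import Cfsg.Agent.Helper4.SuzMM3Dat

/-! generated permutation model, checks: SuzMM3 -/

set_option autoImplicit false
set_option Elab.async false
set_option maxRecDepth 1000000

namespace Cfsg.Agent.Helper4.SuzMM3
open Cfsg.Agent.Helper5.TC Cfsg.Agent.Helper5.TCI Cfsg.Agent.Helper5.LP

theorem fixc_9_0 : fixPtsF W_9 5346 0 = true := by decide +kernel

theorem fixc_11_0 : fixPtsF W_11 5346 0 = true := by decide +kernel

theorem fixc_16_0 : fixPtsF W_16 5346 0 = true := by decide +kernel

theorem fixc_18_0 : fixPtsF W_18 5346 0 = true := by decide +kernel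

theorem fixc_17_0 : fixPtsF W_17 5346 0 = true := by decide +kernel

theorem fixc_21_0 : fixPtsF W_21 5346 0 = true := by decide +kernel

theorem fixc_1_0 : fixPtsF W_1 5346 0 = true := by decide +kernel

theorem fixc_3_0 : fixPtsF W_3 5346 0 = true := by decide +kernel

theorem invc_0_0 : invRowFI mT 5346 0 1 5346 0 = true := by decide +kernel

theorem invc_3_0 : invRowFI mT 5346 3 2 5346 0 = true := by decide +kernel

theorem invc_6_0 : invRowFI mT 5346 6 7 5346 0 = true := by decide +kernel

theorem invc_9_0 : invRowFI mT 5346 9 8 5346 0 = true := by decide +kernel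

end Cfsg.Agent.Helper4.SuzMM3
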