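import Mathlib
import Cfsg.Prelude.Def_HallClasses
import Cfsg.Prelude.Def_OddOrderLocal

set_option autoImplicit false

namespace Cfsg.Agent.Helper4

open Equiv

/-- points in the same orbit of a group generated by swaps are joined in the swap graph -/
theorem reachable_of_mem_closure_swaps {r m : ℕ} (f : Fin m → Sym2 (Fin r))
    (t : Fin m → Perm (Fin r))
    (hf : ∀ i, ∃ a b, a ≠ b ∧ t i = swap a b ∧ f i = s(a, b))
    (h : Perm (Fin r)) (hh : h ∈ Subgroup.closure (Set.range t)) :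
    ∀ x, (SimpleGraph.fromEdgeSet (Set.range f)).Reachable x (h x) := by
  induction hh using Subgroup.closure_induction with
  | mem g hg =>
    intro x
    obtain ⟨i, rfl⟩ := hg
    obtain ⟨a, b, hab, hti, hfi⟩ := hf i
    rw [hti]
    by_cases hxa : x = a
    · rw [hxa, swap_apply_left]
      apply SimpleGraph.Adj.reachable
      rw [SimpleGraph.fromEdgeSet_adj]
      exact ⟨⟨i, hfi⟩, hab⟩
    · by_cases hxb : x = b
      · rw [hxb, swap_apply_right]
        apply SimpleGraph.Adj.reachable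
        rw [SimpleGraph.fromEdgeSet_adj]
        refine ⟨⟨i, ?_⟩, hab.symm⟩
        rw [hfi]
        exact Sym2.eq_swap
      · rw [swap_apply_of_ne_of_ne hxa hxb]
  | one => intro x; exact SimpleGraph.Reachable.refl _
  | mul g₁ g₂ _ _ ih₁ ih₂ =>
    intro x
    rw [Perm.mul_apply]
    exact (ih₂ x).trans (ih₁ (g₂ x))
  | inv g _ ih =>
    intro x
    have h1 := ih (g⁻¹ x)
    have h2 : g (g⁻¹ x) = x := by rw [← Perm.mul_apply, mul_inv_cancel, Perm.one_apply]
    rw [h2] at h1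
    exact h1.symm

/-- every prime dividing the order of a group generated by `m` swaps is at most `m + 1` -/
theorem prime_le_of_dvd_card_closure_swaps {r m : ℕ} (t : Fin m → Perm (Fin r))
    (ht : ∀ i, (t i).IsSwap) (p : ℕ) (hp : p.Prime)
    (hdvd : p ∣ Nat.card (Subgroup.closure (Set.range t))) : p ≤ m + 1 := by
  classical
  haveI : Fact p.Prime := ⟨hp⟩
  choose a b hab htab using ht
  obtain ⟨f, hfdef⟩ : ∃ f : Fin m → Sym2 (Fin r), f = fun i => s(a i, b i) := ⟨_, rfl⟩
  have hf : ∀ i, ∃ a b, a ≠ b ∧ t i = swap a b ∧ f i = s(a, b) := by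
    intro i
    exact ⟨a i, b i, hab i, htab i, by rw [hfdef]⟩
  obtain ⟨Γ, hΓ⟩ : ∃ Γ : SimpleGraph (Fin r), Γ = SimpleGraph.fromEdgeSet (Set.range f) := ⟨_, rfl⟩
  obtain ⟨σ', hσ'⟩ := exists_prime_orderOf_dvd_card' p hdvd
  obtain ⟨σ, hσdef⟩ : ∃ σ : Perm (Fin r), σ = (σ' : Perm (Fin r)) := ⟨_, rfl⟩
  have hσH : σ ∈ Subgroup.closure (Set.range t) := hσdef ▸ σ'.2
  have hσo : orderOf σ = p := by rw [hσdef, Subgroup.orderOf_coe]; exact hσ'
  have hσ1 : σ ≠ 1 := by
    intro h
    rw [h, orderOf_one] at hσo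
    exact hp.one_lt.ne hσo
  obtain ⟨x, hx⟩ : ∃ x, σ x ≠ x := by
    by_contra hne
    push Not at hne
    exact hσ1 (Perm.ext hne)
  -- the orbit of x under ⟨σ⟩ has p elements
  have horb : (MulAction.orbit (Subgroup.zpowers σ) x).ncard = p := by
    have h1 : (MulAction.stabilizer (Subgroup.zpowers σ) x).index ∣ Nat.card (Subgroup.zpowers σ) :=
      Subgroup.index_dvd_card _
    rw [MulAction.index_stabilizer, Nat.card_zpowers, hσo] at h1
    rcases (Nat.dvd_prime hp).1 h1 with h | h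
    · exfalso
      obtain ⟨y, hy⟩ := Set.ncard_eq_one.1 h
      have hx1 : x ∈ MulAction.orbit (Subgroup.zpowers σ) x := MulAction.mem_orbit_self x
      have hx2 : σ x ∈ MulAction.orbit (Subgroup.zpowers σ) x :=
        ⟨⟨σ, Subgroup.mem_zpowers σ⟩, rfl⟩
      rw [hy, Set.mem_singleton_iff] at hx1 hx2
      exact hx (hx2.trans hx1.symm)
    · exact h
  obtain ⟨C, hC⟩ : ∃ C : Γ.ConnectedComponent, C = Γ.connectedComponentMk x := ⟨_, rfl⟩
  have hsub : MulAction.orbit (Subgroup.zpowers σ) x ⊆ C.supp := by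
    rintro y ⟨⟨g, hg⟩, rfl⟩
    have hgH : g ∈ Subgroup.closure (Set.range t) := by
      obtain ⟨k, rfl⟩ := Subgroup.mem_zpowers_iff.1 hg
      exact Subgroup.zpow_mem _ hσH k
    have hreach := reachable_of_mem_closure_swaps f t hf g hgH x
    rw [← hΓ] at hreach
    show (g x) ∈ C.supp
    rw [SimpleGraph.ConnectedComponent.mem_supp_iff, hC, SimpleGraph.ConnectedComponent.eq]
    exact hreach.symm
  have h1 : p ≤ C.supp.ncard := by
    rw [← horb]
    exact Set.ncard_le_ncard hsub (Set.toFinite _)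
  have h2 : Nat.card C.supp ≤ Nat.card C.toSimpleGraph.edgeSet + 1 :=
    C.connected_toSimpleGraph.card_vert_le_card_edgeSet_add_one
  have h3 : Nat.card C.toSimpleGraph.edgeSet ≤ Nat.card Γ.edgeSet :=
    Nat.card_le_card_of_injective _
      (SimpleGraph.Hom.mapEdgeSet.injective C.toSimpleGraph_hom Subtype.val_injective)
  have h4 : Nat.card Γ.edgeSet ≤ m := by
    rw [hΓ, SimpleGraph.edgeSet_fromEdgeSet]
    calc Nat.card ↥(Set.range f \ Sym2.diagSet) ≤ Nat.card (Set.range f) :=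
          Nat.card_mono (Set.toFinite _) Set.sdiff_subset
      _ ≤ Nat.card (Fin m) := Finite.card_range_le f
      _ = m := by rw [Nat.card_eq_fintype_card, Fintype.card_fin]
  have h5 : C.supp.ncard = Nat.card C.supp := (Nat.card_coe_set_eq _).symm
  omega

end Cfsg.Agent.Helper4

namespace Cfsg.Agent.Helper4

open Equiv

/-- the degree divides the order of a nontrivial normal subgroup of the symmetric group -/
theorem dvd_card_of_normal_perm {r : ℕ} (N : Subgroup (Perm (Fin r))) (hN : N.Normal)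
    (hne : N ≠ ⊥) : r ∣ Nat.card N := by
  classical
  obtain ⟨σ, hσN, hσ1⟩ : ∃ τ : Perm (Fin r), τ ∈ N ∧ τ ≠ 1 := by
    by_contra hcon
    push Not at hcon
    apply hne
    rw [eq_bot_iff]
    intro τ hτ
    rw [Subgroup.mem_bot]
    exact hcon τ hτ
  obtain ⟨a, ha⟩ : ∃ a, σ a ≠ a := by
    by_contra hcon
    push Not at hcon
    exact hσ1 (Perm.ext hcon)
  have htrans : ∀ x y : Fin r, ∃ n : N, (n : Perm (Fin r)) x = y := by
    intro x y
    by_cases hxy : x = y
    · exact ⟨1, by rw [hxy]; rfl⟩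
    · obtain ⟨τ₁, hτ₁⟩ : ∃ τ₁ : Perm (Fin r), τ₁ = swap a x := ⟨_, rfl⟩
      have h1 : τ₁ a = x := by rw [hτ₁, swap_apply_left]
      obtain ⟨z, hz⟩ : ∃ z, z = τ₁ (σ a) := ⟨_, rfl⟩
      have hzx : z ≠ x := by
        rw [hz, ← h1]
        intro h
        exact ha (τ₁.injective h)
      obtain ⟨τ, hτ⟩ : ∃ τ : Perm (Fin r), τ = swap z y * τ₁ := ⟨_, rfl⟩
      have h2 : τ a = x := by
        rw [hτ, Perm.mul_apply, h1, swap_apply_of_ne_of_ne hzx.symm hxy]
      have h3 : τ (σ a) = y := by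
        rw [hτ, Perm.mul_apply, ← hz, swap_apply_left]
      refine ⟨⟨τ * σ * τ⁻¹, hN.conj_mem σ hσN τ⟩, ?_⟩
      show (τ * σ * τ⁻¹) x = y
      rw [Perm.mul_apply, Perm.mul_apply, ← h2, ← Perm.mul_apply τ⁻¹, inv_mul_cancel,
        Perm.one_apply, h3]
  by_cases hr0 : r = 0
  · subst hr0; exact Fin.elim0 a
  haveI : MulAction.IsPretransitive N (Fin r) := by
    constructor
    intro x y
    obtain ⟨n, hn⟩ := htrans x y
    exact ⟨n, hn⟩
  have h1 : (MulAction.stabilizer N a).index = r := by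
    rw [MulAction.index_stabilizer, MulAction.orbit_eq_univ, Set.ncard_univ,
      Nat.card_eq_fintype_card, Fintype.card_fin]
  have h2 := Subgroup.index_dvd_card (MulAction.stabilizer N a)
  rw [h1] at h2
  exact h2

/-- `O_π` of the symmetric group of prime degree `r ∉ π` is trivial -/
theorem piCore_perm_eq_bot {r : ℕ} (hr : r.Prime) (π : Set ℕ) (hrπ : r ∉ π) :
    Cfsg.piCore π (Perm (Fin r)) = ⊥ := by
  rw [eq_bot_iff]
  apply sSup_le
  rintro N ⟨hNn, hNπ⟩
  by_contra hle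
  have hne : N ≠ ⊥ := fun h => hle (h ▸ le_refl _)
  exact hrπ (hNπ r hr (dvd_card_of_normal_perm N hNn hne))

end Cfsg.Agent.Helper4
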