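import Mathlib
import Cfsg.Agent.Helper4.PresList

/-!
# Data for the Sylow 2-subgroup of `A₈` / `PSp₄(3)` (order 64)

A presentation on three involutions, its coset certificate, the permutations in `A₈` and the
symplectic matrices over `ZMod 3`.  (Generated data.)
-/

set_option autoImplicit false

namespace Cfsg.Agent.Helper4.Syl2A

open Cfsg.Agent.Helper3.CosetCert Cfsg.Agent.Helper4.PresList

def actTab : List (List ℕ) :=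
  [[1, 2, 3],
   [0, 4, 5],
   [6, 0, 7],
   [8, 9, 0],
   [10, 1, 11],
   [12, 13, 1],
   [2, 14, 15],
   [16, 17, 2],
   [3, 18, 19],
   [20, 3, 21],
   [4, 22, 23],
   [24, 25, 4],
   [5, 26, 27],
   [28, 5, 29],
   [22, 6, 30],
   [26, 31, 6],
   [7, 32, 33],
   [34, 7, 35],
   [23, 8, 36],
   [27, 37, 8],
   [9, 38, 39],
   [40, 35, 9],
   [14, 10, 41],
   [18, 42, 10],
   [11, 43, 44],
   [45, 11, 46],
   [15, 12, 47],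
   [19, 48, 12],
   [13, 49, 50],
   [51, 46, 13],
   [43, 52, 14],
   [49, 15, 53],
   [41, 16, 54],
   [47, 55, 16],
   [17, 56, 57],
   [46, 21, 17],
   [44, 57, 18],
   [50, 19, 56],
   [42, 20, 55],
   [48, 54, 20],
   [21, 53, 52],
   [32, 58, 22],
   [38, 23, 59],
   [30, 24, 60],
   [36, 61, 24],
   [25, 62, 63],
   [35, 29, 25],
   [33, 63, 26],
   [39, 27, 62],
   [31, 28, 61],
   [37, 60, 28],
   [29, 59, 58],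
   [62, 30, 40],
   [59, 40, 31],
   [60, 39, 32],
   [61, 33, 38],
   [58, 34, 37],
   [63, 36, 34],
   [56, 41, 51],
   [53, 51, 42],
   [54, 50, 43],
   [55, 44, 49],
   [52, 45, 48],
   [57, 47, 45]]

def wordTab : List (List (Fin 3)) :=
  [[],
   [0],
   [1],
   [2],
   [0, 1],
   [0, 2],
   [1, 0],
   [1, 2],
   [2, 0],
   [2, 1],
   [0, 1, 0],
   [0, 1, 2],
   [0, 2, 0],
   [0, 2, 1],
   [1, 0, 1],
   [1, 0, 2],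
   [1, 2, 0],
   [1, 2, 1],
   [2, 0, 1],
   [2, 0, 2],
   [2, 1, 0],
   [2, 1, 2],
   [0, 1, 0, 1],
   [0, 1, 0, 2],
   [0, 1, 2, 0],
   [0, 1, 2, 1],
   [0, 2, 0, 1],
   [0, 2, 0, 2],
   [0, 2, 1, 0],
   [0, 2, 1, 2],
   [1, 0, 1, 2],
   [1, 0, 2, 1],
   [1, 2, 0, 1],
   [1, 2, 0, 2],
   [1, 2, 1, 0],
   [1, 2, 1, 2],
   [2, 0, 1, 2],
   [2, 0, 2, 1],
   [2, 1, 0, 1],
   [2, 1, 0, 2],
   [2, 1, 2, 0],
   [0, 1, 0, 1, 2],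
   [0, 1, 0, 2, 1],
   [0, 1, 2, 0, 1],
   [0, 1, 2, 0, 2],
   [0, 1, 2, 1, 0],
   [0, 1, 2, 1, 2],
   [0, 2, 0, 1, 2],
   [0, 2, 0, 2, 1],
   [0, 2, 1, 0, 1],
   [0, 2, 1, 0, 2],
   [0, 2, 1, 2, 0],
   [1, 0, 1, 2, 1],
   [1, 0, 2, 1, 2],
   [1, 2, 0, 1, 2],
   [1, 2, 0, 2, 1],
   [1, 2, 1, 0, 1],
   [1, 2, 1, 0, 2],
   [0, 1, 0, 1, 2, 1],
   [0, 1, 0, 2, 1, 2],
   [0, 1, 2, 0, 1, 2],
   [0, 1, 2, 0, 2, 1],
   [0, 1, 2, 1, 0, 1],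
   [0, 1, 2, 1, 0, 2]]

def cert : List (Fin 64 × List (Fin 3) × Fin 3 × List (Fin 3)) :=
  [(0, [0], 0, []),
   (2, [0], 0, []),
   (3, [0], 0, []),
   (4, [0], 0, []),
   (5, [0], 0, []),
   (7, [0], 0, []),
   (9, [0], 0, []),
   (11, [0], 0, []),
   (13, [0], 0, []),
   (17, [0], 0, []),
   (21, [0], 0, []),
   (25, [0], 0, []),
   (29, [0], 0, []),
   (0, [1], 1, []),
   (1, [1], 1, []),
   (3, [1], 1, []),
   (5, [1], 1, []),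
   (6, [1], 1, []),
   (7, [1], 1, []),
   (8, [1], 1, []),
   (10, [1], 1, []),
   (11, [1], 1, []),
   (12, [1], 1, []),
   (15, [1], 1, []),
   (16, [1], 1, []),
   (19, [1], 1, []),
   (20, [1], 1, []),
   (23, [1], 1, []),
   (24, [1], 1, []),
   (27, [1], 1, []),
   (28, [1], 1, []),
   (30, [1], 1, []),
   (33, [1], 1, []),
   (34, [1], 1, []),
   (41, [1], 1, []),
   (44, [1], 1, []),
   (45, [1], 1, []),
   (0, [2], 2, []),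
   (1, [2], 2, []),
   (2, [2], 2, []),
   (4, [2], 2, []),
   (6, [2], 2, []),
   (8, [2], 2, []),
   (9, [2], 2, []),
   (10, [2], 2, []),
   (12, [2], 2, []),
   (13, [2], 2, []),
   (14, [2], 2, []),
   (16, [2], 2, []),
   (17, [2], 2, []),
   (18, [2], 2, []),
   (20, [2], 2, []),
   (22, [2], 2, []),
   (24, [2], 2, []),
   (25, [2], 2, []),
   (26, [2], 2, []),
   (28, [2], 2, []),
   (31, [2], 2, []),
   (32, [2], 2, []),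
   (34, [2], 2, []),
   (42, [2], 2, []),
   (43, [2], 2, []),
   (45, [2], 2, []),
   (0, [0, 1, 0, 1], 0, [1, 0, 1]),
   (1, [0, 1, 0, 1], 0, [1, 0, 1]),
   (0, [0, 1, 0, 1, 2], 0, [1, 0, 2, 1]),
   (1, [0, 1, 0, 1, 2], 0, [1, 0, 2, 1]),
   (2, [0, 1, 0, 1, 2], 0, [1, 0, 2, 1]),
   (4, [0, 1, 0, 1, 2], 0, [1, 0, 2, 1]),
   (6, [0, 1, 0, 1, 2, 0, 1], 0, [2, 1]),
   (9, [0, 1], 0, [1, 2, 0, 1, 0, 2, 1]),
   (10, [0, 1, 0, 1, 2, 0, 1], 0, [2, 1]),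
   (13, [0, 1], 0, [1, 2, 0, 1, 0, 2, 1]),
   (14, [0, 1, 0, 1, 2, 0, 1], 0, [2, 1]),
   (17, [0, 1], 0, [1, 2, 0, 1, 0, 2, 1]),
   (22, [0, 1, 0, 1, 2, 0, 1], 0, [2, 1]),
   (25, [0, 1], 0, [1, 2, 0, 1, 0, 2, 1]),
   (31, [], 0, [1, 0, 1, 2, 0, 1, 0, 2, 1]),
   (42, [], 0, [1, 0, 1, 2, 0, 1, 0, 2, 1]),
   (52, [], 0, [1, 0, 1, 2, 0, 1, 0, 2, 1]),
   (58, [], 0, [1, 0, 1, 2, 0, 1, 0, 2, 1]),
   (0, [0, 1, 2, 0, 2], 0, [2, 1, 0, 2]),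
   (1, [0, 1, 2, 0, 2], 0, [2, 1, 0, 2]),
   (2, [0, 1, 2, 0, 2], 0, [2, 1, 0, 2]),
   (3, [0, 1, 2], 0, [2, 0, 2, 1, 0, 2]),
   (4, [0, 1, 2, 0, 2], 0, [2, 1, 0, 2]),
   (5, [0, 1, 2], 0, [2, 0, 2, 1, 0, 2]),
   (6, [0, 1, 2, 0, 2], 0, [2, 1, 0, 2]),
   (10, [0, 1, 2, 0, 2], 0, [2, 1, 0, 2]),
   (20, [0, 1, 2, 0, 2, 0, 2, 1], 0, [2]),
   (28, [0, 1, 2, 0, 2, 0, 2, 1], 0, [2]),
   (39, [], 0, [1, 2, 0, 2, 0, 2, 1, 0, 2]),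
   (50, [], 0, [1, 2, 0, 2, 0, 2, 1, 0, 2]),
   (0, [0, 1, 2, 1, 2], 0, [2, 1, 2, 1]),
   (1, [0, 1, 2, 1, 2], 0, [2, 1, 2, 1]),
   (2, [0, 1, 2, 1], 2, [0, 2, 1, 2, 1]),
   (4, [0, 1, 2, 1], 2, [0, 2, 1, 2, 1]),
   (6, [0, 1, 2, 1, 2, 0], 2, [1, 2, 1]),
   (9, [0, 1], 2, [1, 2, 0, 2, 1, 2, 1]),
   (10, [0, 1, 2, 1, 2, 0], 2, [1, 2, 1]),
   (13, [0, 1], 2, [1, 2, 0, 2, 1, 2, 1]),
   (14, [0, 1, 2, 1, 2], 0, [2, 1, 2, 1]),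
   (17, [0, 1], 2, [1, 2, 0, 2, 1, 2, 1]),
   (18, [0, 1, 2], 1, [2, 0, 2, 1, 2, 1]),
   (20, [0, 1, 2, 1, 2, 0, 2, 1], 2, [1]),
   (22, [0, 1, 2, 1, 2], 0, [2, 1, 2, 1]),
   (25, [0, 1], 2, [1, 2, 0, 2, 1, 2, 1]),
   (26, [0, 1, 2], 1, [2, 0, 2, 1, 2, 1]),
   (28, [0, 1, 2, 1, 2, 0, 2, 1], 2, [1]),
   (31, [0, 1, 2], 1, [2, 0, 2, 1, 2, 1]),
   (32, [0, 1, 2], 1, [2, 0, 2, 1, 2, 1]),
   (33, [0], 1, [2, 1, 2, 0, 2, 1, 2, 1]),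
   (34, [0, 1, 2, 1, 2, 0, 2, 1], 2, [1]),
   (36, [0, 1, 2, 1, 2, 0, 2, 1, 2], 1, []),
   (38, [0, 1, 2, 1, 2, 0, 2], 1, [2, 1]),
   (40, [0], 1, [2, 1, 2, 0, 2, 1, 2, 1]),
   (42, [0, 1, 2], 1, [2, 0, 2, 1, 2, 1]),
   (43, [0, 1, 2], 1, [2, 0, 2, 1, 2, 1]),
   (44, [0], 1, [2, 1, 2, 0, 2, 1, 2, 1]),
   (45, [0, 1, 2, 1, 2, 0, 2, 1], 2, [1]),
   (47, [0, 1, 2, 1, 2, 0, 2, 1, 2], 1, []),
   (49, [0, 1, 2, 1, 2, 0, 2], 1, [2, 1]),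
   (51, [0], 1, [2, 1, 2, 0, 2, 1, 2, 1]),
   (54, [0, 1, 2, 1, 2], 0, [2, 1, 2, 1]),
   (55, [], 0, [1, 2, 1, 2, 0, 2, 1, 2, 1]),
   (57, [], 0, [1, 2, 1, 2, 0, 2, 1, 2, 1]),
   (63, [], 0, [1, 2, 1, 2, 0, 2, 1, 2, 1]),
   (21, [1], 1, []),
   (29, [1], 1, [])]

def R : List (List (Fin 3)) := [[0, 0], [1, 1], [2, 2], [0, 1, 0, 1, 0, 1, 0, 1], [0, 1, 0, 1, 2, 0, 1, 0, 2, 1], [0, 1, 2, 0, 2, 0, 2, 1, 0, 2], [0, 1, 2, 1, 2, 0, 2, 1, 2, 1]]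

/-- The table as a function. -/
def act : Fin 64 → Fin 3 → Fin 64 := fun ω s =>
  ⟨((actTab.getD ω.val []).getD s.val 0) % 64, Nat.mod_lt _ (by norm_num)⟩

/-- The spanning tree words. -/
def word : Fin 64 → List (Fin 3) := fun ω => wordTab.getD ω.val []

set_option maxRecDepth 100000 in
theorem cert_ok : ∀ e : Fin 64 × Fin 3, e ∈ run act R (treeEdges act word) cert := by
  decide +kernel

theorem word_zero : word 0 = [] := by decide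

theorem word_z : word 35 = [1, 2, 1, 2] := by decide

/-! ### the permutations -/

/-- the three involutions in `A₈` -/
def uA : Fin 3 → alternatingGroup (Fin 8) := fun i =>
  if i = 0 then ⟨Equiv.swap 4 7 * Equiv.swap 5 6, Equiv.Perm.mem_alternatingGroup.2 (by decide)⟩
  else if i = 1 then
    ⟨Equiv.swap 0 1 * Equiv.swap 6 7, Equiv.Perm.mem_alternatingGroup.2 (by decide)⟩
  else ⟨Equiv.swap 0 5 * Equiv.swap 1 4 * Equiv.swap 2 7 * Equiv.swap 3 6,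
    Equiv.Perm.mem_alternatingGroup.2 (by decide)⟩

set_option maxRecDepth 100000 in
theorem uA_rel : ∀ l ∈ R, prodL uA l = 1 := by decide +kernel

set_option maxRecDepth 100000 in
theorem uA_inj : Function.Injective (fun ω : Fin 64 => prodL uA (word ω)) := by
  decide +kernel

set_option maxRecDepth 100000 in
theorem uA_center : ∀ ω : Fin 64,
    (∀ i : Fin 3, prodL uA (word ω) * uA i = uA i * prodL uA (word ω)) → ω = 0 ∨ ω = 35 := by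
  decide +kernel

/-! ### the matrices -/

/-- the index type of symplectic `4 × 4` matrices. -/
abbrev I4 : Type := Fin 2 ⊕ Fin 2

/-- the numbering of the coordinates. -/
def num : I4 → ℕ
  | .inl i => i.val
  | .inr i => 2 + i.val

/-- a matrix over the integers modulo 3 from a table of numbers. -/
def mkS (l : List (List ℕ)) : Matrix I4 I4 (ZMod 3) :=
  fun i j => (((l.getD (num i) []).getD (num j) 0 : ℕ) : ZMod 3)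

/-- the three matrices in `Sp₄(3)` -/
def NA : Fin 3 → Matrix I4 I4 (ZMod 3) := fun i =>
  if i = 0 then mkS [[1, 1, 0, 1], [1, 2, 2, 0], [0, 1, 1, 1], [2, 0, 1, 2]]
  else if i = 1 then mkS [[1, 0, 1, 0], [0, 0, 0, 1], [1, 0, 2, 0], [0, 2, 0, 0]]
  else mkS [[1, 2, 0, 2], [1, 1, 2, 0], [2, 1, 2, 2], [1, 1, 1, 2]]

set_option maxRecDepth 100000 in
theorem NA_symp : ∀ i : Fin 3,
    NA i * Matrix.J (Fin 2) (ZMod 3) * (NA i).transpose = Matrix.J (Fin 2) (ZMod 3) := by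
  decide +kernel

set_option maxRecDepth 100000 in
theorem NA_rel : ∀ l ∈ R, (l.map NA).prod = 1 ∨ (l.map NA).prod = -1 := by decide +kernel

set_option maxRecDepth 100000 in
theorem NA_ncomm : ([1, 2, 1, 2].map NA).prod * NA 0 ≠ NA 0 * ([1, 2, 1, 2].map NA).prod := by
  decide +kernel

end Cfsg.Agent.Helper4.Syl2A
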