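import Mathlib
import Cfsg.Prelude.Def_Classical
import Cfsg.Agent.Helper4.Syl2A
import Cfsg.Agent.Helper5.U42Iso

/-!
# Sylow 2-subgroups of `A₈` and of `PSp₄(3)` are isomorphic
-/

set_option autoImplicit false

namespace Cfsg.Agent.Helper4.Syl2A

open Cfsg.Agent.Helper3.CosetCert Cfsg.Agent.Helper4.PresList
open Cfsg.Agent.Helper5.SpMap
open Cfsg.Agent.Helper5.U42 (g3 g3_eq_one e3 chiEquiv)

/-- the presented group of order 64 -/
abbrev T : Type := PG R

instance finite_T : Finite T := finite_PG R act word 0 word_zero cert cert_ok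

theorem card_T : Nat.card T = 64 :=
  card_PG_eq R act word 0 word_zero cert cert_ok uA uA_rel uA_inj

/-- the embedding into `A₈` -/
def phi1 : T →* alternatingGroup (Fin 8) := homOf uA uA_rel

theorem phi1_injective : Function.Injective phi1 :=
  homOf_injective R act word 0 word_zero cert cert_ok uA uA_rel uA_inj

theorem isPGroup_T : IsPGroup 2 T := IsPGroup.of_card (n := 6) (by rw [card_T]; norm_num)

/-- the central involution -/
def zT : T := prodL (pgens R) [1, 2, 1, 2]

theorem central_eq (b : T) (hb1 : b ≠ 1) (hbc : ∀ g : T, g * b = b * g) : b = zT := by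
  obtain ⟨ω, rfl⟩ := ev_surjective R act word 0 word_zero cert cert_ok b
  simp only at hb1 hbc ⊢
  have h := uA_center ω (fun i => by
    have := congrArg phi1 (hbc (pgens R i))
    rw [map_mul, map_mul] at this
    unfold phi1 at this
    rw [homOf_prodL, homOf_pgens] at this
    exact this.symm)
  rcases h with rfl | rfl
  · exfalso
    apply hb1
    rw [word_zero]
    rfl
  · rw [word_z]
    rfl

/-! ### the symplectic side -/

/-- the matrices as elements of `Sp₄(3)` -/
def MA (i : Fin 3) : Matrix.symplecticGroup (Fin 2) (ZMod 3) :=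
  ⟨NA i, SymplecticGroup.mem_iff.mpr (NA_symp i)⟩

theorem prodL_MA_val (l : List (Fin 3)) :
    ((prodL MA l : Matrix.symplecticGroup (Fin 2) (ZMod 3)) : Matrix I4 I4 (ZMod 3)) =
      (l.map NA).prod := by
  unfold prodL
  rw [sp_list_prod, List.map_map]
  rfl

section

variable {K : Type*} [Field K] [Fintype K]

/-- the images of the generators in `PSp₄(K)` -/
noncomputable def gA (hK : Fintype.card K = 3) (i : Fin 3) : Cfsg.PSp 2 K := g3 hK (MA i)

theorem gA_rel (hK : Fintype.card K = 3) : ∀ l ∈ R, prodL (gA hK) l = 1 := by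
  intro l hl
  have h1 : prodL (gA hK) l = g3 hK (prodL MA l) := (map_prodL (g3 hK) MA l).symm
  rw [h1]
  apply g3_eq_one
  rw [prodL_MA_val]
  exact NA_rel l hl

/-- the homomorphism into `PSp₄(K)` -/
noncomputable def phi2 (hK : Fintype.card K = 3) : T →* Cfsg.PSp 2 K := homOf (gA hK) (gA_rel hK)

theorem phi2_zT (hK : Fintype.card K = 3) : phi2 hK zT ≠ 1 := by
  intro h
  unfold phi2 zT at h
  rw [homOf_prodL] at h
  have h1 : prodL (gA hK) [1, 2, 1, 2] = g3 hK (prodL MA [1, 2, 1, 2]) :=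
    (map_prodL (g3 hK) MA _).symm
  rw [h1] at h
  have h2 : spMap ((e3 hK : ZMod 3 ≃+* K) : ZMod 3 →+* K) (prodL MA [1, 2, 1, 2])
      ∈ Subgroup.center (Matrix.symplecticGroup (Fin 2) K) := by
    have h3 : (QuotientGroup.mk' (Subgroup.center (Matrix.symplecticGroup (Fin 2) K)))
        (spMap ((e3 hK : ZMod 3 ≃+* K) : ZMod 3 →+* K) (prodL MA [1, 2, 1, 2])) = 1 := h
    rwa [QuotientGroup.mk'_apply, QuotientGroup.eq_one_iff] at h3
  have h4 := (Subgroup.mem_center_iff.mp h2)
    (spMap ((e3 hK : ZMod 3 ≃+* K) : ZMod 3 →+* K) (MA 0))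
  rw [← map_mul, ← map_mul] at h4
  have h5 := spMap_injective _ (RingHom.injective _) h4
  have h6 := congrArg (fun z : Matrix.symplecticGroup (Fin 2) (ZMod 3) =>
    (z : Matrix I4 I4 (ZMod 3))) h5
  simp only [Submonoid.coe_mul] at h6
  rw [prodL_MA_val] at h6
  exact NA_ncomm h6.symm

theorem phi2_injective (hK : Fintype.card K = 3) : Function.Injective (phi2 hK) := by
  have : Fact (Nat.Prime 2) := ⟨Nat.prime_two⟩
  apply injective_of_central isPGroup_T
  intro b hb1 hbc
  rw [central_eq b hb1 hbc]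
  exact phi2_zT hK

theorem card_PSp (hK : Fintype.card K = 3) : Nat.card (Cfsg.PSp 2 K) = 25920 := by
  rw [← Nat.card_congr (chiEquiv hK).toEquiv]
  exact Cfsg.Agent.Helper5.U42LP.simple_card.2

instance finite_PSp : Finite (Cfsg.PSp 2 K) := inferInstance

theorem sylow_PSp (hK : Fintype.card K = 3) (Q : Sylow 2 (Cfsg.PSp 2 K)) :
    Nonempty (Q ≃* T) := by
  have : Fact (Nat.Prime 2) := ⟨Nat.prime_two⟩
  exact sylow_equiv_of_injective (phi2 hK) (phi2_injective hK) 6 405
    (by rw [card_T]; norm_num) (by rw [card_PSp hK]; norm_num) (by norm_num) Q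

end

theorem sylow_A8 (P : Sylow 2 (alternatingGroup (Fin 8))) : Nonempty (P ≃* T) := by
  have : Fact (Nat.Prime 2) := ⟨Nat.prime_two⟩
  refine sylow_equiv_of_injective phi1 phi1_injective 6 315
    (by rw [card_T]; norm_num) ?_ (by norm_num) P
  rw [nat_card_alternatingGroup, Nat.card_fin]
  decide

theorem main {K : Type*} [Field K] [Fintype K] (hK : Fintype.card K = 3)
    (P : Sylow 2 (alternatingGroup (Fin 8))) (Q : Sylow 2 (Cfsg.PSp 2 K)) :
    Nonempty (P ≃* Q) := by
  obtain ⟨e1⟩ := sylow_A8 P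
  obtain ⟨e2⟩ := sylow_PSp hK Q
  exact ⟨e1.trans e2.symm⟩

end Cfsg.Agent.Helper4.Syl2A
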