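import Mathlib
import Cfsg.Prelude.Def_Classical
import Cfsg.Agent.Helper4.PresList

/-!
# Data for the Sylow 2-subgroup of `S₈` / `O₆⁻(2)` (order 128)

A presentation on three involutions, its coset certificate, the permutations in `S₈` and the
orthogonal matrices over `ZMod 2`.  (Generated data.)
-/

set_option autoImplicit false

namespace Cfsg.Agent.Helper4.Syl2B

open Cfsg.Agent.Helper3.CosetCert Cfsg.Agent.Helper4.PresList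

def actTab : List (List ℕ) :=
  [[1, 2, 3],
   [0, 4, 5],
   [6, 0, 7],
   [8, 9, 0],
   [10, 1, 11],
   [12, 13, 1],
   [2, 14, 15],
   [16, 17, 2],
   [3, 18, 19],
   [20, 3, 21],
   [4, 22, 23],
   [24, 25, 4],
   [5, 26, 27],
   [28, 5, 29],
   [22, 6, 30],
   [31, 32, 6],
   [7, 33, 34],
   [35, 7, 36],
   [37, 8, 38],
   [27, 34, 8],
   [9, 39, 40],
   [29, 36, 9],
   [14, 10, 41],
   [42, 43, 10],
   [11, 44, 45],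
   [46, 11, 47],
   [48, 12, 49],
   [19, 45, 12],
   [13, 50, 51],
   [21, 47, 13],
   [52, 53, 14],
   [15, 54, 55],
   [56, 15, 57],
   [58, 16, 59],
   [55, 19, 16],
   [17, 60, 61],
   [57, 21, 17],
   [18, 62, 63],
   [49, 59, 18],
   [62, 20, 64],
   [51, 61, 20],
   [65, 66, 22],
   [23, 67, 68],
   [69, 23, 70],
   [71, 24, 72],
   [68, 27, 24],
   [25, 73, 74],
   [70, 29, 25],
   [26, 75, 76],
   [38, 72, 26],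
   [75, 28, 77],
   [40, 74, 28],
   [30, 78, 79],
   [80, 30, 81],
   [82, 31, 83],
   [34, 79, 31],
   [32, 84, 85],
   [36, 81, 32],
   [33, 86, 87],
   [83, 38, 33],
   [86, 35, 88],
   [85, 40, 35],
   [39, 37, 89],
   [76, 87, 37],
   [77, 88, 39],
   [41, 90, 91],
   [92, 41, 93],
   [94, 42, 95],
   [45, 91, 42],
   [43, 96, 97],
   [47, 93, 43],
   [44, 98, 99],
   [95, 49, 44],
   [98, 46, 100],
   [97, 51, 46],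
   [50, 48, 101],
   [63, 99, 48],
   [64, 100, 50],
   [102, 52, 103],
   [91, 55, 52],
   [53, 104, 105],
   [93, 57, 53],
   [54, 106, 107],
   [59, 103, 54],
   [106, 56, 108],
   [61, 105, 56],
   [60, 58, 109],
   [107, 63, 58],
   [108, 64, 60],
   [101, 109, 62],
   [110, 65, 111],
   [79, 68, 65],
   [66, 112, 113],
   [81, 70, 66],
   [67, 114, 115],
   [72, 111, 67],
   [114, 69, 116],
   [74, 113, 69],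
   [73, 71, 117],
   [115, 76, 71],
   [116, 77, 73],
   [89, 117, 75],
   [78, 118, 119],
   [111, 83, 78],
   [118, 80, 120],
   [113, 85, 80],
   [84, 82, 121],
   [87, 119, 82],
   [88, 120, 84],
   [121, 89, 86],
   [90, 122, 123],
   [103, 95, 90],
   [122, 92, 124],
   [105, 97, 92],
   [96, 94, 125],
   [99, 123, 94],
   [100, 124, 96],
   [125, 101, 98],
   [104, 102, 126],
   [123, 107, 102],
   [124, 108, 104],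
   [109, 126, 106],
   [112, 110, 127],
   [119, 115, 110],
   [120, 116, 112],
   [117, 127, 114],
   [127, 121, 118],
   [126, 125, 122]]

def wordTab : List (List (Fin 3)) :=
  [[],
   [0],
   [1],
   [2],
   [0, 1],
   [0, 2],
   [1, 0],
   [1, 2],
   [2, 0],
   [2, 1],
   [0, 1, 0],
   [0, 1, 2],
   [0, 2, 0],
   [0, 2, 1],
   [1, 0, 1],
   [1, 0, 2],
   [1, 2, 0],
   [1, 2, 1],
   [2, 0, 1],
   [2, 0, 2],
   [2, 1, 0],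
   [2, 1, 2],
   [0, 1, 0, 1],
   [0, 1, 0, 2],
   [0, 1, 2, 0],
   [0, 1, 2, 1],
   [0, 2, 0, 1],
   [0, 2, 0, 2],
   [0, 2, 1, 0],
   [0, 2, 1, 2],
   [1, 0, 1, 2],
   [1, 0, 2, 0],
   [1, 0, 2, 1],
   [1, 2, 0, 1],
   [1, 2, 0, 2],
   [1, 2, 1, 0],
   [1, 2, 1, 2],
   [2, 0, 1, 0],
   [2, 0, 1, 2],
   [2, 1, 0, 1],
   [2, 1, 0, 2],
   [0, 1, 0, 1, 2],
   [0, 1, 0, 2, 0],
   [0, 1, 0, 2, 1],
   [0, 1, 2, 0, 1],
   [0, 1, 2, 0, 2],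
   [0, 1, 2, 1, 0],
   [0, 1, 2, 1, 2],
   [0, 2, 0, 1, 0],
   [0, 2, 0, 1, 2],
   [0, 2, 1, 0, 1],
   [0, 2, 1, 0, 2],
   [1, 0, 1, 2, 0],
   [1, 0, 1, 2, 1],
   [1, 0, 2, 0, 1],
   [1, 0, 2, 0, 2],
   [1, 0, 2, 1, 0],
   [1, 0, 2, 1, 2],
   [1, 2, 0, 1, 0],
   [1, 2, 0, 1, 2],
   [1, 2, 1, 0, 1],
   [1, 2, 1, 0, 2],
   [2, 0, 1, 0, 1],
   [2, 0, 1, 0, 2],
   [2, 1, 0, 1, 2],
   [0, 1, 0, 1, 2, 0],
   [0, 1, 0, 1, 2, 1],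
   [0, 1, 0, 2, 0, 1],
   [0, 1, 0, 2, 0, 2],
   [0, 1, 0, 2, 1, 0],
   [0, 1, 0, 2, 1, 2],
   [0, 1, 2, 0, 1, 0],
   [0, 1, 2, 0, 1, 2],
   [0, 1, 2, 1, 0, 1],
   [0, 1, 2, 1, 0, 2],
   [0, 2, 0, 1, 0, 1],
   [0, 2, 0, 1, 0, 2],
   [0, 2, 1, 0, 1, 2],
   [1, 0, 1, 2, 0, 1],
   [1, 0, 1, 2, 0, 2],
   [1, 0, 1, 2, 1, 0],
   [1, 0, 1, 2, 1, 2],
   [1, 0, 2, 0, 1, 0],
   [1, 0, 2, 0, 1, 2],
   [1, 0, 2, 1, 0, 1],
   [1, 0, 2, 1, 0, 2],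
   [1, 2, 0, 1, 0, 1],
   [1, 2, 0, 1, 0, 2],
   [1, 2, 1, 0, 1, 2],
   [2, 0, 1, 0, 1, 2],
   [0, 1, 0, 1, 2, 0, 1],
   [0, 1, 0, 1, 2, 0, 2],
   [0, 1, 0, 1, 2, 1, 0],
   [0, 1, 0, 1, 2, 1, 2],
   [0, 1, 0, 2, 0, 1, 0],
   [0, 1, 0, 2, 0, 1, 2],
   [0, 1, 0, 2, 1, 0, 1],
   [0, 1, 0, 2, 1, 0, 2],
   [0, 1, 2, 0, 1, 0, 1],
   [0, 1, 2, 0, 1, 0, 2],
   [0, 1, 2, 1, 0, 1, 2],
   [0, 2, 0, 1, 0, 1, 2],
   [1, 0, 1, 2, 0, 1, 0],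
   [1, 0, 1, 2, 0, 1, 2],
   [1, 0, 1, 2, 1, 0, 1],
   [1, 0, 1, 2, 1, 0, 2],
   [1, 0, 2, 0, 1, 0, 1],
   [1, 0, 2, 0, 1, 0, 2],
   [1, 0, 2, 1, 0, 1, 2],
   [1, 2, 0, 1, 0, 1, 2],
   [0, 1, 0, 1, 2, 0, 1, 0],
   [0, 1, 0, 1, 2, 0, 1, 2],
   [0, 1, 0, 1, 2, 1, 0, 1],
   [0, 1, 0, 1, 2, 1, 0, 2],
   [0, 1, 0, 2, 0, 1, 0, 1],
   [0, 1, 0, 2, 0, 1, 0, 2],
   [0, 1, 0, 2, 1, 0, 1, 2],
   [0, 1, 2, 0, 1, 0, 1, 2],
   [1, 0, 1, 2, 0, 1, 0, 1],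
   [1, 0, 1, 2, 0, 1, 0, 2],
   [1, 0, 1, 2, 1, 0, 1, 2],
   [1, 0, 2, 0, 1, 0, 1, 2],
   [0, 1, 0, 1, 2, 0, 1, 0, 1],
   [0, 1, 0, 1, 2, 0, 1, 0, 2],
   [0, 1, 0, 1, 2, 1, 0, 1, 2],
   [0, 1, 0, 2, 0, 1, 0, 1, 2],
   [1, 0, 1, 2, 0, 1, 0, 1, 2],
   [0, 1, 0, 1, 2, 0, 1, 0, 1, 2]]

def cert : List (Fin 128 × List (Fin 3) × Fin 3 × List (Fin 3)) :=
  [(0, [0], 0, []),
   (2, [0], 0, []),
   (3, [0], 0, []),
   (4, [0], 0, []),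
   (5, [0], 0, []),
   (7, [0], 0, []),
   (9, [0], 0, []),
   (11, [0], 0, []),
   (13, [0], 0, []),
   (15, [0], 0, []),
   (17, [0], 0, []),
   (18, [0], 0, []),
   (23, [0], 0, []),
   (25, [0], 0, []),
   (26, [0], 0, []),
   (30, [0], 0, []),
   (32, [0], 0, []),
   (33, [0], 0, []),
   (41, [0], 0, []),
   (43, [0], 0, []),
   (44, [0], 0, []),
   (53, [0], 0, []),
   (54, [0], 0, []),
   (66, [0], 0, []),
   (67, [0], 0, []),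
   (78, [0], 0, []),
   (90, [0], 0, []),
   (0, [1], 1, []),
   (1, [1], 1, []),
   (3, [1], 1, []),
   (5, [1], 1, []),
   (6, [1], 1, []),
   (7, [1], 1, []),
   (8, [1], 1, []),
   (10, [1], 1, []),
   (11, [1], 1, []),
   (12, [1], 1, []),
   (15, [1], 1, []),
   (16, [1], 1, []),
   (20, [1], 1, []),
   (23, [1], 1, []),
   (24, [1], 1, []),
   (28, [1], 1, []),
   (30, [1], 1, []),
   (31, [1], 1, []),
   (35, [1], 1, []),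
   (37, [1], 1, []),
   (41, [1], 1, []),
   (42, [1], 1, []),
   (46, [1], 1, []),
   (48, [1], 1, []),
   (52, [1], 1, []),
   (56, [1], 1, []),
   (58, [1], 1, []),
   (65, [1], 1, []),
   (69, [1], 1, []),
   (71, [1], 1, []),
   (80, [1], 1, []),
   (82, [1], 1, []),
   (92, [1], 1, []),
   (94, [1], 1, []),
   (102, [1], 1, []),
   (110, [1], 1, []),
   (0, [2], 2, []),
   (1, [2], 2, []),
   (2, [2], 2, []),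
   (4, [2], 2, []),
   (6, [2], 2, []),
   (8, [2], 2, []),
   (9, [2], 2, []),
   (10, [2], 2, []),
   (12, [2], 2, []),
   (13, [2], 2, []),
   (14, [2], 2, []),
   (16, [2], 2, []),
   (17, [2], 2, []),
   (18, [2], 2, []),
   (20, [2], 2, []),
   (22, [2], 2, []),
   (24, [2], 2, []),
   (25, [2], 2, []),
   (26, [2], 2, []),
   (28, [2], 2, []),
   (31, [2], 2, []),
   (32, [2], 2, []),
   (33, [2], 2, []),
   (35, [2], 2, []),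
   (37, [2], 2, []),
   (39, [2], 2, []),
   (42, [2], 2, []),
   (43, [2], 2, []),
   (44, [2], 2, []),
   (46, [2], 2, []),
   (48, [2], 2, []),
   (50, [2], 2, []),
   (52, [2], 2, []),
   (53, [2], 2, []),
   (54, [2], 2, []),
   (56, [2], 2, []),
   (58, [2], 2, []),
   (60, [2], 2, []),
   (62, [2], 2, []),
   (65, [2], 2, []),
   (66, [2], 2, []),
   (67, [2], 2, []),
   (69, [2], 2, []),
   (71, [2], 2, []),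
   (73, [2], 2, []),
   (75, [2], 2, []),
   (78, [2], 2, []),
   (80, [2], 2, []),
   (82, [2], 2, []),
   (84, [2], 2, []),
   (86, [2], 2, []),
   (90, [2], 2, []),
   (92, [2], 2, []),
   (94, [2], 2, []),
   (96, [2], 2, []),
   (98, [2], 2, []),
   (102, [2], 2, []),
   (104, [2], 2, []),
   (106, [2], 2, []),
   (110, [2], 2, []),
   (112, [2], 2, []),
   (114, [2], 2, []),
   (118, [2], 2, []),
   (122, [2], 2, []),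
   (0, [0, 1, 0, 1], 0, [1, 0, 1]),
   (1, [0, 1, 0, 1], 0, [1, 0, 1]),
   (3, [0, 1, 0, 1], 0, [1, 0, 1]),
   (5, [0, 1, 0, 1], 0, [1, 0, 1]),
   (7, [0, 1, 0, 1], 0, [1, 0, 1]),
   (8, [0, 1, 0, 1], 0, [1, 0, 1]),
   (11, [0, 1, 0, 1], 0, [1, 0, 1]),
   (12, [0, 1, 0, 1], 0, [1, 0, 1]),
   (15, [0, 1, 0, 1], 0, [1, 0, 1]),
   (16, [0, 1, 0, 1], 0, [1, 0, 1]),
   (23, [0, 1, 0, 1], 0, [1, 0, 1]),
   (24, [0, 1, 0, 1], 0, [1, 0, 1]),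
   (30, [0, 1, 0, 1], 0, [1, 0, 1]),
   (31, [0, 1, 0, 1], 0, [1, 0, 1]),
   (41, [0, 1, 0, 1], 0, [1, 0, 1]),
   (42, [0, 1, 0, 1], 0, [1, 0, 1]),
   (52, [0, 1, 0, 1], 0, [1, 0, 1]),
   (65, [0, 1, 0, 1], 0, [1, 0, 1]),
   (0, [2, 0, 2], 0, [2, 0, 2, 0]),
   (1, [2, 0, 2], 0, [2, 0, 2, 0]),
   (2, [2, 0, 2], 0, [2, 0, 2, 0]),
   (4, [2, 0, 2], 0, [2, 0, 2, 0]),
   (6, [2, 0, 2], 0, [2, 0, 2, 0]),
   (10, [2, 0, 2], 0, [2, 0, 2, 0]),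
   (14, [2, 0, 2], 0, [2, 0, 2, 0]),
   (22, [2, 0, 2], 0, [2, 0, 2, 0]),
   (0, [2, 0, 2], 1, [2, 0, 2, 1]),
   (1, [2, 0, 2], 1, [2, 0, 2, 1]),
   (2, [2, 0, 2], 1, [2, 0, 2, 1]),
   (3, [2, 0, 2, 1, 2], 0, [2, 1]),
   (4, [2, 0, 2], 1, [2, 0, 2, 1]),
   (5, [2, 0, 2, 1, 2], 0, [2, 1]),
   (6, [2, 0, 2], 1, [2, 0, 2, 1]),
   (7, [2, 0, 2, 1, 2], 0, [2, 1]),
   (8, [2, 0, 2, 1, 2], 0, [2, 1]),
   (10, [2, 0, 2], 1, [2, 0, 2, 1]),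
   (11, [2, 0, 2, 1, 2], 0, [2, 1]),
   (12, [2, 0, 2, 1, 2], 0, [2, 1]),
   (14, [2, 0, 2], 1, [2, 0, 2, 1]),
   (15, [2, 0, 2, 1, 2], 0, [2, 1]),
   (16, [2, 0, 2, 1, 2], 0, [2, 1]),
   (22, [2, 0, 2], 1, [2, 0, 2, 1]),
   (23, [2, 0, 2, 1, 2], 0, [2, 1]),
   (24, [2, 0, 2, 1, 2], 0, [2, 1]),
   (30, [2, 0, 2, 1, 2], 0, [2, 1]),
   (31, [2, 0, 2, 1, 2], 0, [2, 1]),
   (41, [2, 0, 2, 1, 2], 0, [2, 1]),
   (42, [2, 0, 2, 1, 2], 0, [2, 1]),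
   (52, [2, 0, 2, 1, 2], 0, [2, 1]),
   (65, [2, 0, 2, 1, 2], 0, [2, 1]),
   (0, [2, 1, 2], 1, [2, 1, 2, 1]),
   (1, [2, 1, 2], 1, [2, 1, 2, 1]),
   (2, [2, 1, 2], 1, [2, 1, 2, 1]),
   (4, [2, 1, 2], 1, [2, 1, 2, 1]),
   (6, [2, 1, 2], 1, [2, 1, 2, 1]),
   (8, [2, 1, 2, 1, 2], 1, [2, 1]),
   (10, [2, 1, 2], 1, [2, 1, 2, 1]),
   (12, [2, 1, 2, 1, 2], 1, [2, 1]),
   (14, [2, 1, 2], 1, [2, 1, 2, 1]),
   (16, [2, 1, 2, 1, 2], 1, [2, 1]),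
   (22, [2, 1, 2], 1, [2, 1, 2, 1]),
   (24, [2, 1, 2, 1, 2], 1, [2, 1]),
   (31, [2, 1, 2, 1, 2], 1, [2, 1]),
   (42, [2, 1, 2, 1, 2], 1, [2, 1]),
   (52, [2, 1, 2, 1, 2], 1, [2, 1]),
   (65, [2, 1, 2, 1, 2], 1, [2, 1]),
   (9, [2, 0, 2, 0, 2], 0, [2, 0]),
   (13, [2, 0, 2, 0, 2], 0, [2, 0]),
   (17, [2, 0, 2, 0, 2], 0, [2, 0]),
   (18, [2, 0, 2, 0, 2], 0, [2, 0]),
   (25, [2, 0, 2, 0, 2], 0, [2, 0]),
   (26, [2, 0, 2, 0, 2], 0, [2, 0]),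
   (32, [2, 0, 2, 0, 2], 0, [2, 0]),
   (33, [2, 0, 2, 0, 2], 0, [2, 0]),
   (43, [2, 0, 2, 0, 2], 0, [2, 0]),
   (44, [2, 0, 2, 0, 2], 0, [2, 0]),
   (53, [2, 0, 2, 0, 2], 0, [2, 0]),
   (54, [2, 0, 2, 0, 2], 0, [2, 0]),
   (66, [2, 0, 2, 0, 2], 0, [2, 0]),
   (67, [2, 0, 2, 0, 2], 0, [2, 0]),
   (78, [2, 0, 2, 0, 2], 0, [2, 0]),
   (90, [2, 0, 2, 0, 2], 0, [2, 0]),
   (20, [2, 0, 2, 1, 2], 0, [2, 1]),
   (21, [2, 0, 2], 1, [2, 0, 2, 1]),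
   (28, [2, 0, 2, 1, 2], 0, [2, 1]),
   (29, [2, 0, 2], 1, [2, 0, 2, 1]),
   (35, [2, 0, 2, 1, 2], 0, [2, 1]),
   (36, [2, 0, 2], 1, [2, 0, 2, 1]),
   (37, [2, 0, 2, 1, 2], 0, [2, 1]),
   (38, [2, 0, 2], 1, [2, 0, 2, 1]),
   (46, [2, 0, 2, 1, 2], 0, [2, 1]),
   (47, [2, 0, 2], 1, [2, 0, 2, 1]),
   (48, [2, 0, 2, 1, 2], 0, [2, 1]),
   (49, [2, 0, 2], 1, [2, 0, 2, 1]),
   (56, [2, 0, 2, 1, 2], 0, [2, 1]),
   (57, [2, 0, 2], 1, [2, 0, 2, 1]),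
   (58, [2, 0, 2, 1, 2], 0, [2, 1]),
   (59, [2, 0, 2], 1, [2, 0, 2, 1]),
   (69, [2, 0, 2, 1, 2], 0, [2, 1]),
   (70, [2, 0, 2], 1, [2, 0, 2, 1]),
   (71, [2, 0, 2, 1, 2], 0, [2, 1]),
   (72, [2, 0, 2], 1, [2, 0, 2, 1]),
   (80, [2, 0, 2, 1, 2], 0, [2, 1]),
   (81, [2, 0, 2], 1, [2, 0, 2, 1]),
   (82, [2, 0, 2, 1, 2], 0, [2, 1]),
   (83, [2, 0, 2], 1, [2, 0, 2, 1]),
   (92, [2, 0, 2, 1, 2], 0, [2, 1]),
   (93, [2, 0, 2], 1, [2, 0, 2, 1]),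
   (94, [2, 0, 2, 1, 2], 0, [2, 1]),
   (95, [2, 0, 2], 1, [2, 0, 2, 1]),
   (102, [2, 0, 2, 1, 2], 0, [2, 1]),
   (103, [2, 0, 2], 1, [2, 0, 2, 1]),
   (110, [2, 0, 2, 1, 2], 0, [2, 1]),
   (111, [2, 0, 2], 1, [2, 0, 2, 1]),
   (20, [2, 1, 2, 1, 2], 1, [2, 1]),
   (28, [2, 1, 2, 1, 2], 1, [2, 1]),
   (35, [2, 1, 2, 1, 2], 1, [2, 1]),
   (37, [2, 1, 2, 1, 2], 1, [2, 1]),
   (46, [2, 1, 2, 1, 2], 1, [2, 1]),
   (48, [2, 1, 2, 1, 2], 1, [2, 1]),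
   (56, [2, 1, 2, 1, 2], 1, [2, 1]),
   (58, [2, 1, 2, 1, 2], 1, [2, 1]),
   (69, [2, 1, 2, 1, 2], 1, [2, 1]),
   (71, [2, 1, 2, 1, 2], 1, [2, 1]),
   (80, [2, 1, 2, 1, 2], 1, [2, 1]),
   (82, [2, 1, 2, 1, 2], 1, [2, 1]),
   (92, [2, 1, 2, 1, 2], 1, [2, 1]),
   (94, [2, 1, 2, 1, 2], 1, [2, 1]),
   (102, [2, 1, 2, 1, 2], 1, [2, 1]),
   (110, [2, 1, 2, 1, 2], 1, [2, 1])]

def R : List (List (Fin 3)) := [[0, 0], [1, 1], [2, 2], [0, 1, 0, 1, 0, 1, 0, 1], [2, 0, 2, 0, 2, 0, 2, 0], [2, 0, 2, 1, 2, 0, 2, 1], [2, 1, 2, 1, 2, 1, 2, 1]]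

/-- The table as a function. -/
def act : Fin 128 → Fin 3 → Fin 128 := fun ω s =>
  ⟨((actTab.getD ω.val []).getD s.val 0) % 128, Nat.mod_lt _ (by norm_num)⟩

/-- The spanning tree words. -/
def word : Fin 128 → List (Fin 3) := fun ω => wordTab.getD ω.val []

set_option maxRecDepth 100000 in
theorem cert_ok : ∀ e : Fin 128 × Fin 3, e ∈ run act R (treeEdges act word) cert := by
  decide +kernel

theorem word_zero : word 0 = [] := by decide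

theorem word_z : word 127 = [0, 1, 0, 1, 2, 0, 1, 0, 1, 2] := by decide

/-! ### the permutations -/

/-- the three involutions in `S₈` -/
def uB : Fin 3 → Equiv.Perm (Fin 8) := fun i =>
  if i = 0 then Equiv.swap 0 1
  else if i = 1 then Equiv.swap 0 2 * Equiv.swap 1 3
  else Equiv.swap 0 4 * Equiv.swap 1 5 * Equiv.swap 2 6 * Equiv.swap 3 7

set_option maxRecDepth 100000 in
theorem uB_rel : ∀ l ∈ R, prodL uB l = 1 := by decide +kernel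

set_option maxRecDepth 100000 in
theorem uB_inj : Function.Injective (fun ω : Fin 128 => prodL uB (word ω)) := by
  decide +kernel

set_option maxRecDepth 100000 in
theorem uB_center : ∀ ω : Fin 128,
    (∀ i : Fin 3, prodL uB (word ω) * uB i = uB i * prodL uB (word ω)) → ω = 0 ∨ ω = 127 := by
  decide +kernel

/-! ### the matrices -/

/-- the index type of the orthogonal `6 × 6` matrices. -/
abbrev I6 : Type := (Fin 2 ⊕ Fin 2) ⊕ Fin 2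

/-- the numbering of the coordinates. -/
def num : I6 → ℕ
  | .inl (.inl i) => i.val
  | .inl (.inr i) => 2 + i.val
  | .inr i => 4 + i.val

/-- a matrix over the integers modulo 2 from a table of numbers. -/
def mkT (l : List (List ℕ)) : Matrix I6 I6 (ZMod 2) :=
  fun i j => (((l.getD (num i) []).getD (num j) 0 : ℕ) : ZMod 2)

/-- the three matrices in `O₆⁻(2)` -/
def NB : Fin 3 → Matrix I6 I6 (ZMod 2) := fun i =>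
  if i = 0 then mkT [[1, 0, 0, 0, 0, 0], [0, 1, 0, 0, 0, 0], [0, 1, 1, 0, 0, 0],
    [1, 0, 0, 1, 0, 0], [0, 0, 0, 0, 1, 0], [0, 0, 0, 0, 0, 1]]
  else if i = 1 then mkT [[1, 0, 1, 0, 0, 1], [0, 1, 0, 0, 0, 0], [0, 0, 1, 0, 0, 0],
    [0, 0, 0, 1, 0, 0], [0, 0, 1, 0, 1, 1], [0, 0, 0, 0, 0, 1]]
  else mkT [[1, 1, 1, 0, 1, 0], [0, 1, 0, 0, 0, 0], [0, 0, 1, 0, 0, 0],
    [0, 0, 1, 1, 0, 0], [0, 0, 0, 0, 1, 0], [0, 0, 1, 0, 0, 1]]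

/-- a vector from its six coordinates -/
def vec6 (a b c d e f : ZMod 2) : I6 → ZMod 2
  | .inl (.inl i) => if i = 0 then a else b
  | .inl (.inr i) => if i = 0 then c else d
  | .inr i => if i = 0 then e else f

theorem vec6_eta (v : I6 → ZMod 2) :
    vec6 (v (.inl (.inl 0))) (v (.inl (.inl 1))) (v (.inl (.inr 0))) (v (.inl (.inr 1)))
      (v (.inr 0)) (v (.inr 1)) = v := by
  funext x
  rcases x with (i | i) | i <;> fin_cases i <;> rfl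

set_option maxRecDepth 100000 in
theorem NB_sq : ∀ i : Fin 3, NB i * NB i = 1 := by decide +kernel

set_option maxRecDepth 100000 in
theorem NB_rel : ∀ l ∈ R, (l.map NB).prod = 1 := by decide +kernel

set_option maxRecDepth 100000 in
theorem NB_iso_aux : ∀ (i : Fin 3) (a b c d e f : ZMod 2),
    Cfsg.quadFormMinus 2 (ZMod 2) 1 1 (Matrix.mulVec (NB i) (vec6 a b c d e f)) =
      Cfsg.quadFormMinus 2 (ZMod 2) 1 1 (vec6 a b c d e f) := by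
  decide +kernel

theorem NB_iso (i : Fin 3) (v : I6 → ZMod 2) :
    Cfsg.quadFormMinus 2 (ZMod 2) 1 1 (Matrix.mulVec (NB i) v) =
      Cfsg.quadFormMinus 2 (ZMod 2) 1 1 v := by
  rw [← vec6_eta v]
  exact NB_iso_aux i _ _ _ _ _ _

set_option maxRecDepth 100000 in
theorem NB_z : ([0, 1, 0, 1, 2, 0, 1, 0, 1, 2].map NB).prod ≠ 1 := by decide +kernel

end Cfsg.Agent.Helper4.Syl2B
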