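import Mathlib
import Cfsg.Prelude.Def_Classical
import Cfsg.Agent.Helper4.Syl2B
import Cfsg.Agent.S0288

/-!
# Sylow 2-subgroups of `S₈` and of `O₆⁻(2)` are isomorphic
-/

set_option autoImplicit false

namespace Cfsg.Agent.Helper4.Syl2B

open Cfsg.Agent.Helper3.CosetCert Cfsg.Agent.Helper4.PresList

/-- the presented group of order 128 -/
abbrev T : Type := PG R

instance finite_T : Finite T := finite_PG R act word 0 word_zero cert cert_ok

theorem card_T : Nat.card T = 128 :=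
  card_PG_eq R act word 0 word_zero cert cert_ok uB uB_rel uB_inj

/-- the embedding into `S₈` -/
def phi1 : T →* Equiv.Perm (Fin 8) := homOf uB uB_rel

theorem phi1_injective : Function.Injective phi1 :=
  homOf_injective R act word 0 word_zero cert cert_ok uB uB_rel uB_inj

theorem isPGroup_T : IsPGroup 2 T := IsPGroup.of_card (n := 7) (by rw [card_T]; norm_num)

/-- the central involution -/
def zT : T := prodL (pgens R) [0, 1, 0, 1, 2, 0, 1, 0, 1, 2]

theorem central_eq (b : T) (hb1 : b ≠ 1) (hbc : ∀ g : T, g * b = b * g) : b = zT := by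
  obtain ⟨ω, rfl⟩ := ev_surjective R act word 0 word_zero cert cert_ok b
  simp only at hb1 hbc ⊢
  have h := uB_center ω (fun i => by
    have := congrArg phi1 (hbc (pgens R i))
    rw [map_mul, map_mul] at this
    unfold phi1 at this
    rw [homOf_prodL, homOf_pgens] at this
    exact this.symm)
  rcases h with rfl | rfl
  · exfalso
    apply hb1
    rw [word_zero]
    rfl
  · rw [word_z]
    rfl

/-! ### the orthogonal side over `ZMod 2` -/

/-- the quadratic form over `ZMod 2` -/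
abbrev Q2 : (I6 → ZMod 2) → ZMod 2 := Cfsg.quadFormMinus 2 (ZMod 2) 1 1

/-- the matrices as units -/
def UB (i : Fin 3) : Matrix.GeneralLinearGroup I6 (ZMod 2) := ⟨NB i, NB i, NB_sq i, NB_sq i⟩

/-- the matrices as isometries -/
def MB (i : Fin 3) : Cfsg.isometryGroup (ZMod 2) Q2 := ⟨UB i, fun u _ => NB_iso i u⟩

theorem prodL_MB_val (l : List (Fin 3)) :
    (((prodL MB l : Cfsg.isometryGroup (ZMod 2) Q2) : Matrix.GeneralLinearGroup I6 (ZMod 2)) :
      Matrix I6 I6 (ZMod 2)) = (l.map NB).prod := by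
  induction l with
  | nil => rfl
  | cons s l ih =>
    rw [prodL_cons, Subgroup.coe_mul, Units.val_mul, ih, List.map_cons, List.prod_cons]
    rfl

theorem MB_rel : ∀ l ∈ R, prodL MB l = 1 := by
  intro l hl
  apply Subtype.ext
  apply Units.ext
  rw [prodL_MB_val]
  exact NB_rel l hl

/-- the embedding into the isometry group over `ZMod 2` -/
def psi : T →* Cfsg.isometryGroup (ZMod 2) Q2 := homOf MB MB_rel

theorem psi_injective : Function.Injective psi := by
  have : Fact (Nat.Prime 2) := ⟨Nat.prime_two⟩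
  apply injective_of_central isPGroup_T
  intro b hb1 hbc
  rw [central_eq b hb1 hbc]
  intro h
  unfold psi zT at h
  rw [homOf_prodL] at h
  apply NB_z
  rw [← prodL_MB_val, h]
  rfl

/-! ### transfer to an arbitrary field with two elements -/

section

variable {K : Type} [Field K] [Fintype K]

/-- the prime field is the given field with two elements. -/
noncomputable def e2 (hK : Fintype.card K = 2) : ZMod 2 ≃+* K :=
  FiniteField.ringEquivOfCardEq (by rw [ZMod.card, hK])

theorem eq_zero_or_one (hK : Fintype.card K = 2) (x : K) : x = 0 ∨ x = 1 := by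
  have h : x = e2 hK ((e2 hK).symm x) := ((e2 hK).apply_symm_apply x).symm
  generalize (e2 hK).symm x = y at h
  fin_cases y
  · left; rw [h]; exact map_zero _
  · right; rw [h]; exact map_one _

theorem two_eq_zero (hK : Fintype.card K = 2) : (2 : K) = 0 := by
  have h : (2 : K) = e2 hK (2 : ZMod 2) := (map_ofNat (e2 hK) 2).symm
  rw [h]
  have : (2 : ZMod 2) = 0 := by decide
  rw [this, map_zero]

theorem ab_eq_one (hK : Fintype.card K = 2) (a b : K)
    (hab : ∀ z₁ z₂ : K, z₁ ^ 2 + a * z₁ * z₂ + b * z₂ ^ 2 = 0 → z₁ = 0 ∧ z₂ = 0) :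
    a = 1 ∧ b = 1 := by
  have hb : b = 1 := by
    rcases eq_zero_or_one hK b with h | h
    · exfalso
      have := (hab 0 1 (by rw [h]; ring)).2
      exact one_ne_zero this
    · exact h
  refine ⟨?_, hb⟩
  rcases eq_zero_or_one hK a with h | h
  · exfalso
    have h2 := two_eq_zero hK
    have := (hab 1 1 (by rw [h, hb]; linear_combination h2)).1
    exact one_ne_zero this
  · exact h

theorem quad_map (hK : Fintype.card K = 2) (w : I6 → ZMod 2) :
    Cfsg.quadFormMinus 2 K 1 1 (fun i => e2 hK (w i)) = e2 hK (Q2 w) := by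
  simp only [Cfsg.quadFormMinus, Q2, map_add, map_mul, map_pow, map_sum, map_one]

theorem tau_mem (hK : Fintype.card K = 2) (g : Cfsg.isometryGroup (ZMod 2) Q2) :
    Matrix.GeneralLinearGroup.map ((e2 hK : ZMod 2 ≃+* K) : ZMod 2 →+* K) g.1 ∈
      Cfsg.isometryGroup K (Cfsg.quadFormMinus 2 K 1 1) := by
  intro u _
  show Cfsg.quadFormMinus 2 K 1 1 (Matrix.mulVec
    ((g.1 : Matrix I6 I6 (ZMod 2)).map ((e2 hK : ZMod 2 ≃+* K) : ZMod 2 →+* K)) u) =
    Cfsg.quadFormMinus 2 K 1 1 u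
  obtain ⟨u', rfl⟩ : ∃ u' : I6 → ZMod 2, u = fun i => e2 hK (u' i) :=
    ⟨fun i => (e2 hK).symm (u i), by funext i; simp⟩
  have h1 : Matrix.mulVec ((g.1 : Matrix I6 I6 (ZMod 2)).map
      ((e2 hK : ZMod 2 ≃+* K) : ZMod 2 →+* K)) (fun i => e2 hK (u' i)) =
      fun i => e2 hK (Matrix.mulVec (g.1 : Matrix I6 I6 (ZMod 2)) u' i) := by
    funext i
    exact (RingHom.map_mulVec ((e2 hK : ZMod 2 ≃+* K) : ZMod 2 →+* K) _ u' i).symm
  rw [h1, quad_map hK, quad_map hK]
  congr 1
  exact g.2 u' u'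

/-- the transfer homomorphism -/
noncomputable def tau (hK : Fintype.card K = 2) :
    Cfsg.isometryGroup (ZMod 2) Q2 →* Cfsg.isometryGroup K (Cfsg.quadFormMinus 2 K 1 1) :=
  ((Matrix.GeneralLinearGroup.map ((e2 hK : ZMod 2 ≃+* K) : ZMod 2 →+* K)).comp
    (Cfsg.isometryGroup (ZMod 2) Q2).subtype).codRestrict _ (tau_mem hK)

theorem tau_injective (hK : Fintype.card K = 2) : Function.Injective (tau hK) := by
  intro x y h
  apply Subtype.ext
  have h1 := congrArg (fun z : Cfsg.isometryGroup K (Cfsg.quadFormMinus 2 K 1 1) =>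
    ((z : Matrix.GeneralLinearGroup I6 K) : Matrix I6 I6 K)) h
  apply Units.ext
  have h2 : ((x.1 : Matrix I6 I6 (ZMod 2))).map ((e2 hK : ZMod 2 ≃+* K) : ZMod 2 →+* K) =
      ((y.1 : Matrix I6 I6 (ZMod 2))).map ((e2 hK : ZMod 2 ≃+* K) : ZMod 2 →+* K) := h1
  exact Matrix.map_injective (RingHom.injective _) h2

theorem card_isometry (hK : Fintype.card K = 2) (a b : K)
    (hab : ∀ z₁ z₂ : K, z₁ ^ 2 + a * z₁ * z₂ + b * z₂ ^ 2 = 0 → z₁ = 0 ∧ z₂ = 0) :
    Nat.card (Cfsg.isometryGroup K (Cfsg.quadFormMinus 2 K a b)) = 51840 := by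
  rw [Cfsg.Agent.S0288.aux hK 2 a b hab]
  simp [Finset.prod_range_succ]

theorem sylow_isometry (hK : Fintype.card K = 2) (a b : K)
    (hab : ∀ z₁ z₂ : K, z₁ ^ 2 + a * z₁ * z₂ + b * z₂ ^ 2 = 0 → z₁ = 0 ∧ z₂ = 0)
    (Q' : Sylow 2 (Cfsg.isometryGroup K (Cfsg.quadFormMinus 2 K a b))) :
    Nonempty (Q' ≃* T) := by
  have : Fact (Nat.Prime 2) := ⟨Nat.prime_two⟩
  obtain ⟨rfl, rfl⟩ := ab_eq_one hK a b hab
  have hfin : Finite (Cfsg.isometryGroup K (Cfsg.quadFormMinus 2 K 1 1)) :=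
    Nat.finite_of_card_ne_zero (by rw [card_isometry hK 1 1 hab]; norm_num)
  exact sylow_equiv_of_injective ((tau hK).comp psi)
    ((tau_injective hK).comp psi_injective) 7 405
    (by rw [card_T]; norm_num) (by rw [card_isometry hK 1 1 hab]; norm_num) (by norm_num) Q'

end

theorem sylow_S8 (P' : Sylow 2 (Equiv.Perm (Fin 8))) : Nonempty (P' ≃* T) := by
  have : Fact (Nat.Prime 2) := ⟨Nat.prime_two⟩
  refine sylow_equiv_of_injective phi1 phi1_injective 7 315
    (by rw [card_T]; norm_num) ?_ (by norm_num) P'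
  rw [Nat.card_eq_fintype_card, Fintype.card_perm, Fintype.card_fin]
  decide

theorem main {K : Type} [Field K] [Fintype K] (hK : Fintype.card K = 2) (a b : K)
    (hab : ∀ z₁ z₂ : K, z₁ ^ 2 + a * z₁ * z₂ + b * z₂ ^ 2 = 0 → z₁ = 0 ∧ z₂ = 0)
    (P' : Sylow 2 (Equiv.Perm (Fin 8)))
    (Q' : Sylow 2 (Cfsg.isometryGroup K (Cfsg.quadFormMinus 2 K a b))) :
    Nonempty (P' ≃* Q') := by
  obtain ⟨e1⟩ := sylow_S8 P'
  obtain ⟨e2⟩ := sylow_isometry hK a b hab Q'
  exact ⟨e1.trans e2.symm⟩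

end Cfsg.Agent.Helper4.Syl2B
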