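import Cfsg.Agent.Helper8.SylAltG
import Cfsg.Prelude.Def_TwoFusion

/-!
# S2221 support (spare copy of piece EXPSET, helper4's namespace)

The set of exponents `k` such that the Sylow 2-subgroup `Q` of `Perm Ω` has an orbit of size
`2 ^ k`, and `|Ω| = ∑ k ∈ expSet Q, 2 ^ k`.
-/

namespace Cfsg.Agent.Helper4.SylAlt

open Equiv Classical Cfsg.Agent.Helper8.SylAlt

variable {Ω : Type*} [Fintype Ω] [DecidableEq Ω]

noncomputable def expSet (Q : Sylow 2 (Perm Ω)) : Finset ℕ :=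
  Finset.univ.image (fun ω : Ω => Nat.log 2 (Nat.card ↥(orb (Q : Subgroup (Perm Ω)) ω)))

theorem card_orb_eq_pow_log (Q : Sylow 2 (Perm Ω)) (ω : Ω) :
    Nat.card ↥(orb (Q : Subgroup (Perm Ω)) ω) =
      2 ^ Nat.log 2 (Nat.card ↥(orb (Q : Subgroup (Perm Ω)) ω)) := by
  obtain ⟨k, hk⟩ := card_orb Q ω
  rw [hk, Nat.log_pow (by norm_num)]

theorem mem_expSet (Q : Sylow 2 (Perm Ω)) (k : ℕ) :
    k ∈ expSet Q ↔ ∃ ω, Nat.card ↥(orb (Q : Subgroup (Perm Ω)) ω) = 2 ^ k := by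
  unfold expSet
  simp only [Finset.mem_image, Finset.mem_univ, true_and]
  constructor
  · rintro ⟨ω, rfl⟩
    exact ⟨ω, card_orb_eq_pow_log Q ω⟩
  · rintro ⟨ω, h⟩
    exact ⟨ω, by rw [h, Nat.log_pow (by norm_num)]⟩

theorem card_eq_sum_expSet (Q : Sylow 2 (Perm Ω)) : Fintype.card Ω = ∑ k ∈ expSet Q, 2 ^ k := by
  have key := Finset.card_eq_sum_card_image
    (fun ω : Ω => Nat.log 2 (Nat.card ↥(orb (Q : Subgroup (Perm Ω)) ω))) Finset.univ
  rw [Finset.card_univ] at key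
  rw [key]
  apply Finset.sum_congr rfl
  intro k hk
  obtain ⟨ω₀, h0⟩ := (mem_expSet Q k).mp hk
  have hfib : (Finset.univ.filter (fun ω : Ω =>
      Nat.log 2 (Nat.card ↥(orb (Q : Subgroup (Perm Ω)) ω)) = k)) =
      (orb (Q : Subgroup (Perm Ω)) ω₀).toFinset := by
    ext ω
    simp only [Finset.mem_filter, Finset.mem_univ, true_and, Set.mem_toFinset]
    constructor
    · intro h
      have h1 : Nat.card ↥(orb (Q : Subgroup (Perm Ω)) ω) = 2 ^ k := by
        rw [card_orb_eq_pow_log Q ω, h]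
      have h2 := orb_eq_of_card_eq Q ω ω₀ (h1.trans h0.symm)
      rw [← h2]
      exact self_mem_orb _ ω
    · intro h
      rw [orb_eq_of_mem h, h0, Nat.log_pow (by norm_num)]
  rw [hfib, ← h0, Nat.card_eq_fintype_card, Set.toFinset_card]

end Cfsg.Agent.Helper4.SylAlt
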