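import Cfsg.Agent.Helper8.SylAltI
import Cfsg.Agent.Helper2.SylAltExp
import Cfsg.Agent.Helper1.SylAltArith
import Cfsg.Agent.Helper2.SylAltArith2
import Cfsg.Agent.Helper1.SylAltGlue
import Cfsg.Prelude.Def_TwoFusion

/-!
# S2221 support (helper4, insurance copy): the forward direction in terms of `n`

`forward_of`: from helper8's `forward` (orbit patterns), the exponent set and the arithmetic
pieces, with the single-orbit case (piece CASEA) as a hypothesis.
-/

namespace Cfsg.Agent.Helper4.SylAlt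

open Equiv Classical Cfsg.Agent.Helper8.SylAlt

theorem forward_of (n : ℕ) (hn : 4 ≤ n) (P : Sylow 2 (alternatingGroup (Fin n))) (hW : WFacts)
    (hCASEA : ∀ (Q : Sylow 2 (Perm (Fin n))) (ω₀ : Fin n),
      8 ≤ Nat.card ↥(orb (Q : Subgroup (Perm (Fin n))) ω₀) →
      (∀ ω, orb (Q : Subgroup (Perm (Fin n))) ω = orb (Q : Subgroup (Perm (Fin n))) ω₀ ∨
        Nat.card ↥(orb (Q : Subgroup (Perm (Fin n))) ω) = 1) →
      ∀ S T : Subgroup (Perm (Fin n)),
        S ≤ (Q : Subgroup (Perm (Fin n))) ⊓ alternatingGroup (Fin n) →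
        T ≤ (Q : Subgroup (Perm (Fin n))) ⊓ alternatingGroup (Fin n) →
        (∀ s ∈ S, ∀ t ∈ T, s * t = t * s) → S ⊓ T = ⊥ →
        S ⊔ T = (Q : Subgroup (Perm (Fin n))) ⊓ alternatingGroup (Fin n) →
        S ≠ ⊥ → T ≠ ⊥ → False)
    (h : ∃ S₁ S₂ : Subgroup (alternatingGroup (Fin n)), S₁ ≠ ⊥ ∧ S₂ ≠ ⊥ ∧
        Cfsg.IsInternalDirectProduct S₁ S₂ (P : Subgroup (alternatingGroup (Fin n)))) :
    n = 4 ∨ n = 5 ∨ ((n % 4 = 2 ∨ n % 4 = 3) ∧ ∀ r : ℕ, 4 * (n / 4) ≠ 2 ^ r) := by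
  obtain ⟨Q, hQ⟩ := exists_sylow_perm n P
  rw [decomp_iff_map] at h
  obtain ⟨S, T, hS1, hT1, hdp⟩ := h
  rw [hQ] at hdp
  have hcard : n = ∑ k ∈ expSet Q, 2 ^ k := by
    have := card_eq_sum_expSet Q
    rwa [Fintype.card_fin] at this
  obtain ⟨k, hk, hk2⟩ := arith_exists_big (expSet Q) (by rw [← hcard]; exact hn)
  obtain ⟨ω, hω⟩ := (mem_expSet Q k).mp hk
  have hbigex : ∃ ω, 4 ≤ Nat.card ↥(orb (Q : Subgroup (Perm (Fin n))) ω) := by
    refine ⟨ω, ?_⟩
    rw [hω]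
    calc 4 = 2 ^ 2 := by norm_num
      _ ≤ 2 ^ k := Nat.pow_le_pow_right (by norm_num) hk2
  have hA : ∀ ω₀ : Fin n, 8 ≤ Nat.card ↥(orb (Q : Subgroup (Perm (Fin n))) ω₀) →
      (∀ ω, orb (Q : Subgroup (Perm (Fin n))) ω = orb (Q : Subgroup (Perm (Fin n))) ω₀ ∨
        Nat.card ↥(orb (Q : Subgroup (Perm (Fin n))) ω) = 1) → False := by
    intro ω₀ h8 hone
    obtain ⟨hS, hT, hc, hinf, hsup⟩ := hdp
    exact hCASEA Q ω₀ h8 hone S T hS hT hc hinf hsup hS1 hT1
  rcases forward hW Q hbigex S T hS1 hT1 hdp hA with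
    ⟨ω₀, h4, hone⟩ | ⟨⟨ωp, hp⟩, ω₁, ω₂, h1, h2, hne⟩
  · -- a single non-trivial orbit, of size 4: `n = 4` or `n = 5`
    have hpat : (expSet Q).filter (2 ≤ ·) = {2} ∧ 1 ∉ expSet Q := by
      constructor
      · ext j
        simp only [Finset.mem_filter, Finset.mem_singleton]
        constructor
        · rintro ⟨hj, hj2⟩
          obtain ⟨ω', hω'⟩ := (mem_expSet Q j).mp hj
          rcases hone ω' with h | h
          · rw [h, h4] at hω'
            have h22 : (2 : ℕ) ^ 2 = 2 ^ j := by rw [← hω']; norm_num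
            exact (Nat.pow_right_injective (le_refl 2) h22).symm
          · rw [h] at hω'
            exfalso
            have : 2 ^ 2 ≤ 2 ^ j := Nat.pow_le_pow_right (by norm_num) hj2
            omega
        · rintro rfl
          exact ⟨(mem_expSet Q 2).mpr ⟨ω₀, by rw [h4]; norm_num⟩, le_refl 2⟩
      · intro h1
        obtain ⟨ω', hω'⟩ := (mem_expSet Q 1).mp h1
        rcases hone ω' with h | h
        · rw [h, h4] at hω'; norm_num at hω'
        · rw [h] at hω'; norm_num at hω'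
    have h45 := (arith_four_five (expSet Q)).mpr hpat
    rw [← hcard] at h45
    rcases h45 with h | h
    · exact Or.inl h
    · exact Or.inr (Or.inl h)
  · -- an orbit of size 2 and two orbits of size at least 4
    right; right
    constructor
    · have hm := (arith_mod_fs (expSet Q)).mpr ((mem_expSet Q 1).mpr ⟨ωp, by rw [hp]; norm_num⟩)
      rwa [← hcard] at hm
    · intro r hr
      have hdiv := arith_div_fs (expSet Q)
      rw [← hcard, hr] at hdiv
      obtain ⟨a, ha⟩ := (pow_two_sum_iff_fs _).mp ⟨r, hdiv.symm⟩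
      obtain ⟨k₁, hk₁⟩ := card_orb Q ω₁
      obtain ⟨k₂, hk₂⟩ := card_orb Q ω₂
      have hge : ∀ j : ℕ, 4 ≤ 2 ^ j → 2 ≤ j := by
        intro j hj
        by_contra hlt
        push Not at hlt
        have : 2 ^ j ≤ 2 ^ 1 := Nat.pow_le_pow_right (by norm_num) (by omega)
        omega
      have m1 : k₁ ∈ (expSet Q).filter (2 ≤ ·) :=
        Finset.mem_filter.mpr ⟨(mem_expSet Q k₁).mpr ⟨ω₁, hk₁⟩, hge k₁ (by rw [← hk₁]; exact h1)⟩
      have m2 : k₂ ∈ (expSet Q).filter (2 ≤ ·) :=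
        Finset.mem_filter.mpr ⟨(mem_expSet Q k₂).mpr ⟨ω₂, hk₂⟩, hge k₂ (by rw [← hk₂]; exact h2)⟩
      rw [ha, Finset.mem_singleton] at m1 m2
      apply hne
      apply orb_eq_of_card_eq
      rw [hk₁, hk₂, m1, m2]

end Cfsg.Agent.Helper4.SylAlt
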