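import Mathlib

set_option autoImplicit false
set_option linter.unusedSectionVars false
set_option linter.unusedVariables false

/-! S2221 (helper8's project), piece WR (helper4's copy): facts about the iterated wreath products
`W_k = C₂ ≀ ⋯ ≀ C₂`: centre of order 2 generated by a square, and direct indecomposability in the
strong form `W1`. -/

namespace Cfsg.Agent.Helper4.SylAlt

open RegularWreathProduct

/-- the group of order two. -/
abbrev C2 := Multiplicative (ZMod 2)

/-- the iterated wreath product `C₂ ≀ ⋯ ≀ C₂` (`k` factors). -/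
abbrev Wk (k : ℕ) := IteratedWreathProduct C2 k

/-- the generator of `C2`. -/
def sg : C2 := Multiplicative.ofAdd 1

theorem sg_ne_one : sg ≠ 1 := by decide
theorem sg_mul_sg : sg * sg = 1 := by decide
theorem sg_inv : sg⁻¹ = sg := by decide
theorem C2_cases (q : C2) : q = 1 ∨ q = sg := by revert q; decide

section general

variable {D : Type*} [Group D]

theorem funext_C2 {f g : C2 → D} (h1 : f 1 = g 1) (hs : f sg = g sg) : f = g := by
  funext q
  rcases C2_cases q with rfl | rfl
  · exact h1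
  · exact hs

/-- description of the centre of `D ≀ᵣ C2` for nontrivial `D`. -/
theorem mem_center_wr_iff [Nontrivial D] (w : D ≀ᵣ C2) :
    w ∈ Subgroup.center (D ≀ᵣ C2) ↔
      w.right = 1 ∧ w.left 1 ∈ Subgroup.center D ∧ w.left sg = w.left 1 := by
  classical
  constructor
  · intro hw
    rw [Subgroup.mem_center_iff] at hw
    obtain ⟨d, hd⟩ := exists_ne (1 : D)
    have hq : w.right = 1 := by
      by_contra hq
      have hqs : w.right = sg := (C2_cases w.right).resolve_left hq
      have h := hw (⟨Pi.mulSingle 1 d, 1⟩ : D ≀ᵣ C2)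
      have h1 := congrArg (fun z => z.left 1) h
      simp only [mul_left, Pi.mul_apply, inv_one, one_mul, hqs, sg_inv, mul_one,
        Pi.mulSingle_eq_same] at h1
      rw [Pi.mulSingle_eq_of_ne sg_ne_one, mul_one] at h1
      exact hd (by simpa using h1)
    refine ⟨hq, ?_, ?_⟩
    · rw [Subgroup.mem_center_iff]
      intro u
      have h := hw (⟨Pi.mulSingle 1 u, 1⟩ : D ≀ᵣ C2)
      have h1 := congrArg (fun z => z.left 1) h
      simp only [mul_left, Pi.mul_apply, inv_one, one_mul, hq, Pi.mulSingle_eq_same] at h1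
      exact h1
    · have h := hw (⟨1, sg⟩ : D ≀ᵣ C2)
      have h1 := congrArg (fun z => z.left 1) h
      simp only [mul_left, Pi.mul_apply, Pi.one_apply, one_mul, sg_inv, mul_one, hq, inv_one] at h1
      exact h1
  · rintro ⟨hq, hz, hs⟩
    rw [Subgroup.mem_center_iff]
    intro g
    rw [Subgroup.mem_center_iff] at hz
    have hconst : ∀ y, w.left y = w.left 1 := by
      intro y
      rcases C2_cases y with rfl | rfl
      · rfl
      · exact hs
    ext y
    · simp only [mul_left, Pi.mul_apply, hq, inv_one, one_mul, hconst]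
      exact hz _
    · simp only [mul_right, hq, mul_one, one_mul]

/-- the centre of `D ≀ᵣ C2` is in bijection with the centre of `D`. -/
noncomputable def centerEquiv [Nontrivial D] :
    Subgroup.center (D ≀ᵣ C2) ≃ Subgroup.center D where
  toFun w := ⟨w.1.left 1, ((mem_center_wr_iff w.1).mp w.2).2.1⟩
  invFun z := ⟨⟨fun _ => z.1, 1⟩, (mem_center_wr_iff _).mpr ⟨rfl, z.2, rfl⟩⟩
  left_inv w := by
    obtain ⟨hq, hz, hs⟩ := (mem_center_wr_iff w.1).mp w.2
    apply Subtype.ext
    apply RegularWreathProduct.ext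
    · exact funext_C2 rfl hs.symm
    · exact hq.symm
  right_inv z := rfl

theorem card_center_wr [Nontrivial D] :
    Nat.card (Subgroup.center (D ≀ᵣ C2)) = Nat.card (Subgroup.center D) :=
  Nat.card_congr centerEquiv

/-- `D ≀ᵣ C2` is not abelian when `D` is nontrivial. -/
theorem not_comm_wr [Nontrivial D] : ∃ a b : D ≀ᵣ C2, a * b ≠ b * a := by
  classical
  obtain ⟨d, hd⟩ := exists_ne (1 : D)
  refine ⟨⟨Pi.mulSingle 1 d, 1⟩, ⟨1, sg⟩, ?_⟩
  intro h
  have h1 := congrArg (fun z => z.left 1) h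
  simp only [mul_left, Pi.mul_apply, inv_one, one_mul, Pi.mulSingle_eq_same, Pi.one_apply,
    mul_one, sg_inv] at h1
  rw [Pi.mulSingle_eq_of_ne sg_ne_one] at h1
  exact hd h1

/-- a square root of a nontrivial central element. -/
theorem exists_sq_center_wr (z : D) (hz : z ∈ Subgroup.center D) (hz1 : z ≠ 1) [Nontrivial D] :
    ∃ c : D ≀ᵣ C2, c ^ 2 ∈ Subgroup.center (D ≀ᵣ C2) ∧ c ^ 2 ≠ 1 := by
  classical
  refine ⟨⟨Pi.mulSingle 1 z, sg⟩, ?_, ?_⟩
  · rw [mem_center_wr_iff, pow_two]
    refine ⟨by simp [sg_mul_sg], ?_, ?_⟩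
    · simp only [mul_left, Pi.mul_apply, sg_inv, mul_one, Pi.mulSingle_eq_same]
      rw [Pi.mulSingle_eq_of_ne sg_ne_one, mul_one]
      exact hz
    · simp only [mul_left, Pi.mul_apply, sg_inv, mul_one, sg_mul_sg, Pi.mulSingle_eq_same]
      rw [Pi.mulSingle_eq_of_ne sg_ne_one, one_mul, mul_one]
  · intro h
    have h1 := congrArg (fun w => w.left 1) h
    rw [pow_two] at h1
    simp only [mul_left, Pi.mul_apply, sg_inv, mul_one, Pi.mulSingle_eq_same, one_left,
      Pi.one_apply] at h1
    rw [Pi.mulSingle_eq_of_ne sg_ne_one, mul_one] at h1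
    exact hz1 h1

/-- the key step of `W1`: if `A`, `B` commute elementwise, generate `D ≀ᵣ C2` with `D` non-abelian,
and `A` is not contained in the base group, then `B` is central. -/
theorem le_center_of_not_base (hD : ∃ u v : D, u * v ≠ v * u) (A B : Subgroup (D ≀ᵣ C2))
    (hc : ∀ a ∈ A, ∀ b ∈ B, a * b = b * a) (hAB : A ⊔ B = ⊤)
    (g : D ≀ᵣ C2) (hgA : g ∈ A) (hg : g.right = sg) : B ≤ Subgroup.center (D ≀ᵣ C2) := by
  classical
  haveI : Nontrivial D := by
    obtain ⟨u, v, huv⟩ := hD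
    refine ⟨⟨u, 1, ?_⟩⟩
    rintro rfl
    exact huv (by simp)
  -- `A` is normal
  have hAn : A.Normal := by
    rw [← Subgroup.normalizer_eq_top_iff, eq_top_iff, ← hAB]
    refine sup_le Subgroup.le_normalizer ?_
    intro b hb
    rw [Subgroup.mem_normalizer_iff]
    intro a
    constructor
    · intro ha
      have := hc a ha b hb
      have e : b * a * b⁻¹ = a := by rw [← this, mul_inv_cancel_right]
      rw [e]; exact ha
    · intro ha
      have hb' : b⁻¹ ∈ B := B.inv_mem hb
      have h2 := hc _ ha _ hb'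
      -- a = b⁻¹ (b a b⁻¹) b
      have e : a = b⁻¹ * (b * a * b⁻¹) * b := by group
      have e2 : b⁻¹ * (b * a * b⁻¹) * b = (b * a * b⁻¹) := by
        rw [← h2, inv_mul_cancel_right]
      rw [e, e2]; exact ha
  -- the commutators t_u
  have ht : ∀ u : D, g * (⟨Pi.mulSingle 1 u, 1⟩ : D ≀ᵣ C2) * g⁻¹ *
      (⟨Pi.mulSingle 1 u, 1⟩ : D ≀ᵣ C2)⁻¹ ∈ A := by
    intro u
    have h1 : (⟨Pi.mulSingle 1 u, 1⟩ : D ≀ᵣ C2) * g⁻¹ * (⟨Pi.mulSingle 1 u, 1⟩ : D ≀ᵣ C2)⁻¹ ∈ A :=
      hAn.conj_mem _ (A.inv_mem hgA) _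
    have := A.mul_mem hgA h1
    simpa [mul_assoc] using this
  have htl1 : ∀ u : D, (g * (⟨Pi.mulSingle 1 u, 1⟩ : D ≀ᵣ C2) * g⁻¹ *
      (⟨Pi.mulSingle 1 u, 1⟩ : D ≀ᵣ C2)⁻¹).left 1 = u⁻¹ := by
    intro u
    simp only [mul_left, mul_right, inv_left, inv_right, Pi.mul_apply, Pi.inv_apply, hg, sg_inv,
      mul_one, inv_one, one_mul, sg_mul_sg, Pi.mulSingle_eq_same]
    rw [Pi.mulSingle_eq_of_ne sg_ne_one]
    simp
  have htls : ∀ u : D, (g * (⟨Pi.mulSingle 1 u, 1⟩ : D ≀ᵣ C2) * g⁻¹ *
      (⟨Pi.mulSingle 1 u, 1⟩ : D ≀ᵣ C2)⁻¹).left sg = g.left sg * u * (g.left sg)⁻¹ := by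
    intro u
    simp only [mul_left, mul_right, inv_left, inv_right, Pi.mul_apply, Pi.inv_apply, hg, sg_inv,
      mul_one, inv_one, one_mul, sg_mul_sg, Pi.mulSingle_eq_same]
    rw [Pi.mulSingle_eq_of_ne sg_ne_one]
    simp
  have htr : ∀ u : D, (g * (⟨Pi.mulSingle 1 u, 1⟩ : D ≀ᵣ C2) * g⁻¹ *
      (⟨Pi.mulSingle 1 u, 1⟩ : D ≀ᵣ C2)⁻¹).right = 1 := by
    intro u
    simp only [mul_right, inv_right, hg, sg_inv, mul_one, inv_one, sg_mul_sg]
  obtain ⟨t, htA, htl1, htls, htr⟩ : ∃ t : D → D ≀ᵣ C2, (∀ u, t u ∈ A) ∧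
      (∀ u, (t u).left 1 = u⁻¹) ∧ (∀ u, (t u).left sg = g.left sg * u * (g.left sg)⁻¹) ∧
      (∀ u, (t u).right = 1) :=
    ⟨fun u => g * (⟨Pi.mulSingle 1 u, 1⟩ : D ≀ᵣ C2) * g⁻¹ * (⟨Pi.mulSingle 1 u, 1⟩ : D ≀ᵣ C2)⁻¹,
      ht, htl1, htls, htr⟩
  intro h hh
  have hcomm : ∀ u : D, t u * h = h * t u := fun u => hc _ (htA u) _ hh
  rcases C2_cases h.right with hr | hr
  · -- `h` in the base group
    rw [mem_center_wr_iff]
    have hz1 : h.left 1 ∈ Subgroup.center D := by
      rw [Subgroup.mem_center_iff]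
      intro u
      have := congrArg (fun z => z.left 1) (hcomm u⁻¹)
      simp only [mul_left, Pi.mul_apply, htr, hr, inv_one, one_mul, htl1, inv_inv] at this
      exact this
    have hzs : h.left sg ∈ Subgroup.center D := by
      rw [Subgroup.mem_center_iff]
      intro u
      have := congrArg (fun z => z.left sg) (hcomm ((g.left sg)⁻¹ * u * g.left sg))
      simp only [mul_left, Pi.mul_apply, htr, hr, inv_one, one_mul, htls] at this
      have e : g.left sg * ((g.left sg)⁻¹ * u * g.left sg) * (g.left sg)⁻¹ = u := by group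
      rw [e] at this
      exact this
    refine ⟨hr, hz1, ?_⟩
    have hgh := hc g hgA h hh
    have := congrArg (fun z => z.left sg) hgh
    simp only [mul_left, Pi.mul_apply, hg, sg_inv, sg_mul_sg, hr, inv_one, one_mul] at this
    -- g.left sg * h.left 1 = h.left sg * g.left sg
    rw [Subgroup.mem_center_iff] at hzs
    rw [← hzs (g.left sg)] at this
    exact (mul_left_cancel this).symm
  · -- `h` outside the base group: `D` would be abelian
    exfalso
    obtain ⟨u, v, huv⟩ := hD
    -- at `sg`: t.left sg * h.left sg = h.left sg * t.left (sg⁻¹ * sg) = h.left sg * t.left 1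
    have key : ∀ w : D, g.left sg * w * (g.left sg)⁻¹ * h.left sg = h.left sg * w⁻¹ := by
      intro w
      have := congrArg (fun z => z.left sg) (hcomm w)
      simp only [mul_left, Pi.mul_apply, htr, hr, inv_one, one_mul, sg_inv, sg_mul_sg, htls,
        htl1] at this
      exact this
    -- inversion is conjugation by r = (h.left sg)⁻¹ * g.left sg
    have inv_eq : ∀ w : D, w⁻¹ = ((h.left sg)⁻¹ * g.left sg) * w * ((h.left sg)⁻¹ * g.left sg)⁻¹ := by
      intro w
      have := key w
      have e : w⁻¹ = (h.left sg)⁻¹ * (g.left sg * w * (g.left sg)⁻¹ * h.left sg) := by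
        rw [this]; group
      rw [e]; group
    apply huv
    have h1 := inv_eq (v⁻¹ * u⁻¹)
    have h2 := inv_eq v⁻¹
    have h3 := inv_eq u⁻¹
    have e : (v⁻¹ * u⁻¹)⁻¹ = (v⁻¹)⁻¹ * (u⁻¹)⁻¹ := by
      rw [h1, h2, h3]; group
    simpa using e

end general

section ending

variable {W : Type*} [Group W]

/-- if `B` is central, the centre has order two and is generated by a square, then `A ⊔ B = ⊤`
forces `A = ⊤`. -/
theorem eq_top_of_le_center [Finite W] (A B : Subgroup W) (hAB : A ⊔ B = ⊤)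
    (hB : B ≤ Subgroup.center W) (hZ : Nat.card (Subgroup.center W) = 2) (c : W)
    (hc2 : c ^ 2 ∈ Subgroup.center W) (hc1 : c ^ 2 ≠ 1) : A = ⊤ := by
  haveI hBn : B.Normal := by
    refine ⟨fun b hb w => ?_⟩
    have := Subgroup.mem_center_iff.mp (hB hb) w
    rw [this, mul_inv_cancel_right]
    exact hb
  have hcmem : c ∈ ((A ⊔ B : Subgroup W) : Set W) := by rw [hAB]; trivial
  rw [Subgroup.mul_normal A B] at hcmem
  obtain ⟨a, ha, b, hb, hab⟩ := Set.mem_mul.mp hcmem
  have hbc : ∀ w : W, w * b = b * w := Subgroup.mem_center_iff.mp (hB hb)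
  have hb2 : b ^ 2 = 1 := by
    have h := pow_card_eq_one' (G := Subgroup.center W) (x := ⟨b, hB hb⟩)
    rw [hZ] at h
    exact congrArg Subtype.val h
  have hcA : c ^ 2 ∈ A := by
    have e : c ^ 2 = a ^ 2 := by
      rw [← hab, pow_two, pow_two]
      calc a * b * (a * b) = a * (b * a) * b := by group
        _ = a * (a * b) * b := by rw [← hbc a]
        _ = a * a * (b * b) := by group
        _ = a * a := by rw [← pow_two b, hb2, mul_one]
    rw [e]
    exact A.pow_mem ha 2
  have hBA : B ≤ A := by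
    intro b₀ hb₀
    by_cases h1 : b₀ = 1
    · rw [h1]; exact A.one_mem
    · obtain ⟨y, -, hy⟩ := (Nat.card_eq_two_iff' (1 : Subgroup.center W)).mp hZ
      have e1 : (⟨b₀, hB hb₀⟩ : Subgroup.center W) = y :=
        hy _ (fun h => h1 (congrArg Subtype.val h))
      have e2 : (⟨c ^ 2, hc2⟩ : Subgroup.center W) = y :=
        hy _ (fun h => hc1 (congrArg Subtype.val h))
      have : b₀ = c ^ 2 := congrArg Subtype.val (e1.trans e2.symm)
      rw [this]; exact hcA
  rw [← hAB]
  exact (sup_eq_left.mpr hBA).symm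

/-- a group whose order is a proper divisor of 8 is abelian. -/
theorem comm_of_card_dvd_eight {G : Type*} [Group G] [Finite G] (h : Nat.card G ∣ 8)
    (h8 : Nat.card G ≠ 8) : ∀ a b : G, a * b = b * a := by
  have hmem : Nat.card G ∈ Nat.divisors 8 := Nat.mem_divisors.mpr ⟨h, by norm_num⟩
  rw [show Nat.divisors 8 = {1, 2, 4, 8} by decide] at hmem
  simp only [Finset.mem_insert, Finset.mem_singleton] at hmem
  rcases hmem with h1 | h2 | h4 | h8'
  · intro a b
    haveI : Subsingleton G := (Nat.card_eq_one_iff_unique.mp h1).1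
    exact Subsingleton.elim _ _
  · haveI : Fact (Nat.Prime 2) := ⟨Nat.prime_two⟩
    haveI := isCyclic_of_prime_card h2
    intro a b
    letI := IsCyclic.commGroup (α := G)
    exact mul_comm a b
  · haveI : Fact (Nat.Prime 2) := ⟨Nat.prime_two⟩
    exact IsPGroup.commutative_of_card_eq_prime_sq (p := 2) (by rw [h4]; norm_num)
  · exact absurd h8' h8

/-- two elementwise commuting abelian subgroups generating a group make it abelian. -/
theorem comm_of_sup_eq_top (A B : Subgroup W) (hc : ∀ a ∈ A, ∀ b ∈ B, a * b = b * a)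
    (hAB : A ⊔ B = ⊤) (hA : ∀ a ∈ A, ∀ a' ∈ A, a * a' = a' * a)
    (hB : ∀ b ∈ B, ∀ b' ∈ B, b * b' = b' * b) : ∀ x y : W, x * y = y * x := by
  have hAc : A ≤ Subgroup.centralizer ((A : Set W) ∪ B) := by
    intro a ha
    rw [Subgroup.mem_centralizer_iff]
    rintro s (hs | hs)
    · exact hA s hs a ha
    · exact (hc a ha s hs).symm
  have hBc : B ≤ Subgroup.centralizer ((A : Set W) ∪ B) := by
    intro b hb
    rw [Subgroup.mem_centralizer_iff]
    rintro s (hs | hs)
    · exact hc s hs b hb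
    · exact hB s hs b hb
  have htop : ∀ w : W, w ∈ Subgroup.centralizer ((A : Set W) ∪ B) := by
    intro w
    have : w ∈ A ⊔ B := by rw [hAB]; trivial
    exact (sup_le hAc hBc) this
  have hAz : A ≤ Subgroup.center W := by
    intro a ha
    rw [Subgroup.mem_center_iff]
    intro w
    have := Subgroup.mem_centralizer_iff.mp (htop w) a (Or.inl ha)
    exact this.symm
  have hBz : B ≤ Subgroup.center W := by
    intro b hb
    rw [Subgroup.mem_center_iff]
    intro w
    have := Subgroup.mem_centralizer_iff.mp (htop w) b (Or.inr hb)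
    exact this.symm
  intro x y
  have hy : y ∈ Subgroup.center W := by
    have : y ∈ A ⊔ B := by rw [hAB]; trivial
    exact (sup_le hAz hBz) this
  exact Subgroup.mem_center_iff.mp hy x

end ending

section step

variable {D : Type*} [Group D] [Finite D]

/-- the step of `W1` for `D ≀ᵣ C2` with `D` non-abelian. -/
theorem W1_wr (hD : ∃ u v : D, u * v ≠ v * u)
    (hZ : Nat.card (Subgroup.center (D ≀ᵣ C2)) = 2) (c : D ≀ᵣ C2)
    (hc2 : c ^ 2 ∈ Subgroup.center (D ≀ᵣ C2)) (hc1 : c ^ 2 ≠ 1)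
    (A B : Subgroup (D ≀ᵣ C2)) (hc : ∀ a ∈ A, ∀ b ∈ B, a * b = b * a) (hAB : A ⊔ B = ⊤) :
    A = ⊤ ∨ B = ⊤ := by
  -- not both in the base group
  have hex : (∃ g ∈ A, g.right = sg) ∨ (∃ g ∈ B, g.right = sg) := by
    by_contra hcon
    push Not at hcon
    have hAk : A ≤ (rightHom : D ≀ᵣ C2 →* C2).ker := by
      intro a ha
      rw [MonoidHom.mem_ker]
      exact (C2_cases _).resolve_right (hcon.1 a ha)
    have hBk : B ≤ (rightHom : D ≀ᵣ C2 →* C2).ker := by
      intro b hb
      rw [MonoidHom.mem_ker]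
      exact (C2_cases _).resolve_right (hcon.2 b hb)
    have : (⟨1, sg⟩ : D ≀ᵣ C2) ∈ A ⊔ B := by rw [hAB]; trivial
    have := (sup_le hAk hBk) this
    rw [MonoidHom.mem_ker] at this
    exact sg_ne_one this
  rcases hex with ⟨g, hgA, hg⟩ | ⟨g, hgB, hg⟩
  · left
    have hBz := le_center_of_not_base hD A B hc hAB g hgA hg
    exact eq_top_of_le_center A B hAB hBz hZ c hc2 hc1
  · right
    have hAz := le_center_of_not_base hD B A (fun b hb a ha => (hc a ha b hb).symm)
      (by rw [sup_comm]; exact hAB) g hgB hg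
    exact eq_top_of_le_center B A (by rw [sup_comm]; exact hAB) hAz hZ c hc2 hc1

end step

section iterated

theorem card_C2 : Nat.card C2 = 2 := by
  simp [C2]

theorem card_Wk (k : ℕ) : Nat.card (Wk k) = 2 ^ (∑ i ∈ Finset.range k, 2 ^ i) := by
  have := IteratedWreathProduct.card C2 k
  rw [card_C2] at this
  exact this

theorem nontrivial_Wk (k : ℕ) (hk : 1 ≤ k) : Nontrivial (Wk k) := by
  rw [← Finite.one_lt_card_iff_nontrivial, card_Wk]
  apply Nat.one_lt_two_pow
  have : 2 ^ 0 ≤ ∑ i ∈ Finset.range k, 2 ^ i :=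
    Finset.single_le_sum (f := fun i => 2 ^ i) (fun i _ => Nat.zero_le _)
      (Finset.mem_range.mpr (by omega))
  simp at this
  omega

/-- **W2**: the centre of `W_k` (`k ≥ 1`) has order two. -/
theorem W2 (k : ℕ) (hk : 1 ≤ k) : Nat.card (Subgroup.center (Wk k)) = 2 := by
  induction k, hk using Nat.le_induction with
  | base =>
    have hcomm : ∀ a b : Wk 1, a * b = b * a := by
      intro a b
      haveI : Subsingleton (IteratedWreathProduct C2 0) := by
        show Subsingleton PUnit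
        infer_instance
      apply RegularWreathProduct.ext
      · exact Subsingleton.elim _ _
      · exact mul_comm _ _
    have htop : Subgroup.center (Wk 1) = ⊤ := by
      rw [Subgroup.eq_top_iff']
      intro x
      rw [Subgroup.mem_center_iff]
      intro g
      exact hcomm g x
    rw [htop, Subgroup.card_top, card_Wk]
    norm_num
  | succ k hk ih =>
    haveI := nontrivial_Wk k hk
    have := card_center_wr (D := Wk k)
    rw [ih] at this
    exact this

/-- **W5a**: for `k ≥ 2` the centre of `W_k` contains a nontrivial square. -/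
theorem W5a (k : ℕ) (hk : 2 ≤ k) :
    ∃ c : Wk k, c ^ 2 ∈ Subgroup.center (Wk k) ∧ c ^ 2 ≠ 1 := by
  obtain ⟨k, rfl⟩ : ∃ k', k = k' + 1 := ⟨k - 1, by omega⟩
  haveI := nontrivial_Wk k (by omega)
  have h2 := W2 k (by omega)
  haveI : Nontrivial (Subgroup.center (Wk k)) := by
    rw [← Finite.one_lt_card_iff_nontrivial, h2]; norm_num
  obtain ⟨z, hz⟩ := exists_ne (1 : Subgroup.center (Wk k))
  exact exists_sq_center_wr (D := Wk k) z.1 z.2 (fun h => hz (Subtype.ext h))

theorem not_comm_Wk (k : ℕ) (hk : 2 ≤ k) : ∃ a b : Wk k, a * b ≠ b * a := by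
  obtain ⟨k, rfl⟩ : ∃ k', k = k' + 1 := ⟨k - 1, by omega⟩
  haveI := nontrivial_Wk k (by omega)
  exact not_comm_wr (D := Wk k)

/-- **W1**: `W_k` is not the product of two proper elementwise commuting subgroups. -/
theorem W1 (k : ℕ) (A B : Subgroup (Wk k)) (hc : ∀ a ∈ A, ∀ b ∈ B, a * b = b * a)
    (hAB : A ⊔ B = ⊤) : A = ⊤ ∨ B = ⊤ := by
  by_cases hk2 : k ≤ 2
  · -- small cases: `|W_k| ∣ 8`
    by_contra hcon
    push Not at hcon
    obtain ⟨hA, hB⟩ := hcon
    have hcard : Nat.card (Wk k) ∣ 8 := by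
      rw [card_Wk]
      interval_cases k <;> simp [Finset.sum_range_succ]
    -- proper subgroups are abelian
    have hsub : ∀ H : Subgroup (Wk k), H ≠ ⊤ → ∀ a ∈ H, ∀ b ∈ H, a * b = b * a := by
      intro H hH a ha b hb
      have hd : Nat.card H ∣ 8 := (Subgroup.card_subgroup_dvd_card H).trans hcard
      have h8 : Nat.card H ≠ 8 := by
        intro h8
        apply hH
        apply Subgroup.eq_top_of_le_card
        have : Nat.card (Wk k) ≤ 8 := Nat.le_of_dvd (by norm_num) hcard
        omega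
      have := comm_of_card_dvd_eight hd h8 ⟨a, ha⟩ ⟨b, hb⟩
      exact congrArg Subtype.val this
    have hall := comm_of_sup_eq_top A B hc hAB (hsub A hA) (hsub B hB)
    -- then `W_k` is abelian and `A ⊔ B = ⊤` with proper `A`, `B`... use the orders
    by_cases hk : k = 2
    · subst hk
      obtain ⟨a, b, hab⟩ := not_comm_Wk 2 le_rfl
      exact hab (hall a b)
    · -- `k ≤ 1`: `|W_k| ≤ 2`, proper subgroups are trivial
      have hk1 : k ≤ 1 := by omega
      have hc2 : Nat.card (Wk k) ≤ 2 := by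
        rw [card_Wk]
        interval_cases k <;> simp
      have hbot : ∀ H : Subgroup (Wk k), H ≠ ⊤ → H = ⊥ := by
        intro H hH
        rw [← Subgroup.card_eq_one]
        have hd : Nat.card H ∣ Nat.card (Wk k) := Subgroup.card_subgroup_dvd_card H
        have hne : Nat.card H ≠ Nat.card (Wk k) := fun h => hH (H.eq_top_of_card_eq h)
        have hle := Nat.le_of_dvd Nat.card_pos hd
        have hpos : 0 < Nat.card H := Nat.card_pos
        omega
      rw [hbot A hA, hbot B hB, bot_sup_eq] at hAB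
      exact hA (by rw [hbot A hA]; exact hAB)
  · -- `k ≥ 3`
    push Not at hk2
    obtain ⟨k, rfl⟩ : ∃ k', k = k' + 1 := ⟨k - 1, by omega⟩
    have hD : ∃ u v : Wk k, u * v ≠ v * u := not_comm_Wk k (by omega)
    have hZ := W2 (k + 1) (by omega)
    obtain ⟨c, hc2, hc1⟩ := W5a (k + 1) (by omega)
    exact W1_wr (D := Wk k) hD hZ c hc2 hc1 A B hc hAB

end iterated

end Cfsg.Agent.Helper4.SylAlt
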