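import Cfsg.Agent.Helper4.SylIntA
import Cfsg.Agent.Helper4.BigCellC

/-!
# Sylow 2-subgroups of `SL(n, 2).2` intersect non-trivially
-/

set_option autoImplicit false

namespace Cfsg.Agent.Helper4.SylInt

open Subgroup Cfsg.Agent.Helper4.BigCell
open scoped Pointwise

variable {G : Type*} [Group G] [Finite G]

theorem sylow_inf_conj_ne_bot_SLn {n : ℕ} (N : Subgroup G) [N.Normal]
    (e : N ≃* Matrix.SpecialLinearGroup (Fin n) (ZMod 2)) (hidx : N.index = 2)
    (H : Sylow 2 G) (x : G) :
    (H : Subgroup G) ⊓ MulAut.conj x • (H : Subgroup G) ≠ ⊥ := by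
  obtain ⟨A, hAdef⟩ : ∃ A : Subgroup N, A = (Ulo n).comap e.toMonoidHom := ⟨_, rfl⟩
  obtain ⟨B, hBdef⟩ : ∃ B : Subgroup N, B = (Uup n).comap e.toMonoidHom := ⟨_, rfl⟩
  have hA : IsPGroup 2 A := by
    rw [hAdef]
    exact (isPGroup_Ulo n).comap_of_injective e.toMonoidHom e.injective
  have hB : IsPGroup 2 B := by
    rw [hBdef]
    exact (isPGroup_Uup n).comap_of_injective e.toMonoidHom e.injective
  have hmemA : ∀ a : N, a ∈ A ↔ e a ∈ Ulo n := by
    intro a; rw [hAdef]; exact Iff.rfl
  have hmemB : ∀ a : N, a ∈ B ↔ e a ∈ Uup n := by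
    intro a; rw [hBdef]; exact Iff.rfl
  have hcardB : Nat.card B = Nat.card (Uup n) := by
    refine Nat.card_congr
      { toFun := fun b => ⟨e b.1, (hmemB _).1 b.2⟩
        invFun := fun u => ⟨e.symm u.1, (hmemB _).2 (by rw [MulEquiv.apply_symm_apply]; exact u.2)⟩
        left_inv := ?_
        right_inv := ?_ }
    · intro b
      apply Subtype.ext
      exact e.symm_apply_apply _
    · intro u
      apply Subtype.ext
      exact e.apply_symm_apply _
  have hcount : Nat.card {h : N // A ⊓ B.map (MulAut.conj h).toMonoidHom = ⊥} ≤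
      Nat.card B ^ 2 := by
    rw [hcardB]
    refine le_trans ?_ (card_bigCell_le n)
    have hmem : ∀ h : {h : N // A ⊓ B.map (MulAut.conj h).toMonoidHom = ⊥},
        Ulo n ⊓ (Uup n).map (MulAut.conj (e h.1)).toMonoidHom = ⊥ := by
      rintro ⟨h, hh⟩
      rw [Subgroup.eq_bot_iff_forall]
      rintro y ⟨hy1, b, hb, hby⟩
      have hby' : e h * b * (e h)⁻¹ = y := hby
      have h1 : e.symm y ∈ A ⊓ B.map (MulAut.conj h).toMonoidHom := by
        refine ⟨(hmemA _).2 (by rw [MulEquiv.apply_symm_apply]; exact hy1),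
          e.symm b, (hmemB _).2 (by rw [MulEquiv.apply_symm_apply]; exact hb), ?_⟩
        change h * e.symm b * h⁻¹ = e.symm y
        rw [← hby', map_mul, map_mul, map_inv, MulEquiv.symm_apply_apply]
      rw [hh, Subgroup.mem_bot] at h1
      have := congrArg e h1
      rwa [MulEquiv.apply_symm_apply, map_one] at this
    have hinj : Function.Injective
        (fun h : {h : N // A ⊓ B.map (MulAut.conj h).toMonoidHom = ⊥} =>
          (⟨e h.1, hmem h⟩ :
            {h : SLn n // Ulo n ⊓ (Uup n).map (MulAut.conj h).toMonoidHom = ⊥})) := by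
      intro a b hab
      have : e a.1 = e b.1 := congrArg Subtype.val hab
      exact Subtype.ext (e.injective this)
    exact Nat.card_le_card_of_injective _ hinj
  exact sylow_inf_conj_ne_bot N hidx A B hA hB hcount H x

end Cfsg.Agent.Helper4.SylInt
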