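import Mathlib

/-!
# Sylow 2-subgroups of symmetric groups containing a given 2-element (part A)

Abstract group-theoretic tools: `p`-elements normalizing a Sylow subgroup, transport of Sylow
subgroups along homomorphisms with `p`-group kernels, and the periods of points under a
permutation.
-/

set_option autoImplicit false

namespace Cfsg.Agent.Helper4.SylPerm

open Equiv

/-- the powers of a `p`-element form a `p`-group -/
theorem isPGroup_zpowers_pelt {G : Type*} [Group G] {p : ℕ} (t : G)
    (ht : ∃ k : ℕ, t ^ p ^ k = 1) : IsPGroup p (Subgroup.zpowers t) := by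
  obtain ⟨k, hk⟩ := ht
  intro z
  obtain ⟨j, hj⟩ := Subgroup.mem_zpowers_iff.1 z.2
  refine ⟨k, Subtype.ext ?_⟩
  rw [Subgroup.coe_pow, ← hj, ← zpow_natCast, ← zpow_mul, mul_comm, zpow_mul, zpow_natCast, hk,
    one_zpow]
  rfl

/-- a `p`-element normalizing a Sylow `p`-subgroup lies in it -/
theorem mem_sylow_of_normalizes {G : Type*} [Group G] {p : ℕ} (P : Sylow p G) (t : G)
    (ht : ∃ k : ℕ, t ^ p ^ k = 1)
    (hn : t ∈ Subgroup.normalizer ((P : Subgroup G) : Set G)) : t ∈ P := by
  have hZ := isPGroup_zpowers_pelt t ht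
  have hZN : Subgroup.zpowers t ≤ Subgroup.normalizer ((P : Subgroup G) : Set G) := by
    rw [Subgroup.zpowers_le]; exact hn
  have hsup : IsPGroup p (Subgroup.zpowers t ⊔ (P : Subgroup G) : Subgroup G) :=
    hZ.to_sup_of_normal_right' P.isPGroup' hZN
  have h1 := P.is_maximal' hsup le_sup_right
  have h2 : t ∈ Subgroup.zpowers t ⊔ (P : Subgroup G) :=
    (le_sup_left : Subgroup.zpowers t ≤ _) (Subgroup.mem_zpowers t)
  rw [h1] at h2
  exact h2

/-- a `p`-element centralizing a Sylow `p`-subgroup lies in it -/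
theorem mem_sylow_of_commutes {G : Type*} [Group G] {p : ℕ} (P : Sylow p G) (t : G)
    (ht : ∃ k : ℕ, t ^ p ^ k = 1) (hc : ∀ g ∈ P, g * t = t * g) : t ∈ P := by
  apply mem_sylow_of_normalizes P t ht
  rw [Subgroup.mem_normalizer_iff]
  intro h
  constructor
  · intro hh
    have : t * h * t⁻¹ = h := by rw [← hc h hh, mul_inv_cancel_right]
    rw [this]; exact hh
  · intro hh
    have h3 := hc _ hh
    have : t * h * t⁻¹ = h := by
      have h4 : t * h * t⁻¹ * t = t * (t * h * t⁻¹) := h3
      have h5 : t * h = t * (t * h * t⁻¹) := by simpa using h4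
      exact (mul_left_cancel h5).symm
    rw [this] at hh; exact hh

/-- two commuting `p`-elements lie in a common Sylow `p`-subgroup -/
theorem exists_sylow_of_commute {G : Type*} [Group G] {p : ℕ} (s t : G)
    (hs : ∃ k : ℕ, s ^ p ^ k = 1) (ht : ∃ k : ℕ, t ^ p ^ k = 1) (hc : s * t = t * s) :
    ∃ P : Sylow p G, s ∈ P ∧ t ∈ P := by
  have hZs := isPGroup_zpowers_pelt s hs
  have hZt := isPGroup_zpowers_pelt t ht
  have hn : Subgroup.zpowers s ≤ Subgroup.normalizer ((Subgroup.zpowers t : Subgroup G) : Set G) := by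
    rw [Subgroup.zpowers_le, Subgroup.mem_normalizer_iff]
    have hcom : Commute s t := hc
    intro h
    constructor
    · intro hh
      obtain ⟨j, rfl⟩ := Subgroup.mem_zpowers_iff.1 hh
      have : s * t ^ j * s⁻¹ = t ^ j := by
        rw [(hcom.zpow_right j).eq, mul_inv_cancel_right]
      rw [this]; exact hh
    · intro hh
      obtain ⟨j, hj⟩ := Subgroup.mem_zpowers_iff.1 hh
      have : h = t ^ j := by
        have h1 : h = s⁻¹ * (s * h * s⁻¹) * s := by group
        rw [h1, ← hj]
        have : s⁻¹ * t ^ j * s = t ^ j := by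
          rw [mul_assoc, ← (hcom.zpow_right j).eq, inv_mul_cancel_left]
        exact this
      rw [this]; exact Subgroup.zpow_mem_zpowers t j
  have hsup := hZs.to_sup_of_normal_right' hZt hn
  obtain ⟨P, hP⟩ := hsup.exists_le_sylow
  exact ⟨P, hP ((le_sup_left : Subgroup.zpowers s ≤ _) (Subgroup.mem_zpowers s)),
    hP ((le_sup_right : Subgroup.zpowers t ≤ _) (Subgroup.mem_zpowers t))⟩

/-- Sylow subgroups inside the range of an injective hom with equal preimages are equal -/
theorem sylow_eq_of_comap_eq {G K : Type*} [Group G] [Group K] {p : ℕ} (φ : K →* G)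
    (P P' : Sylow p G) (hP : (P : Subgroup G) ≤ φ.range) (hP' : (P' : Subgroup G) ≤ φ.range)
    (h : (P : Subgroup G).comap φ = (P' : Subgroup G).comap φ) : P = P' := by
  apply Sylow.ext
  rw [← Subgroup.map_comap_eq_self hP, ← Subgroup.map_comap_eq_self hP', h]

/-- Sylow subgroups with equal images under a hom with `p`-group kernel are equal -/
theorem sylow_eq_of_map_eq {G H : Type*} [Group G] [Group H] {p : ℕ} (π : G →* H)
    (hker : IsPGroup p π.ker) (P P' : Sylow p G)
    (h : (P : Subgroup G).map π = (P' : Subgroup G).map π) : P = P' := by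
  have key : ∀ R : Sylow p G, ((R : Subgroup G).map π).comap π = (R : Subgroup G) := by
    intro R
    have h1 : IsPGroup p (((R : Subgroup G).map π).comap π : Subgroup G) :=
      (R.isPGroup'.map π).comap_of_ker_isPGroup π hker
    exact R.is_maximal' h1 (Subgroup.le_comap_map π _)
  apply Sylow.ext
  rw [← key P, ← key P', h]

end Cfsg.Agent.Helper4.SylPerm
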