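import Cfsg.Agent.Helper4.SylPermA

/-!
# Sylow 2-subgroups of symmetric groups containing a given 2-element (part B)

The predicate `Good x` (at most two fixed points, moved points of equal period lie in the same
cycle), and the uniqueness of a fixed-point-free involution commuting with a good permutation.
-/

set_option autoImplicit false

namespace Cfsg.Agent.Helper4.SylPerm

open Equiv

/-- at most two fixed points, and moved points of equal period lie in the same cycle -/
def Good {α : Type*} (x : Perm α) : Prop :=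
  (∀ a b c, x a = a → x b = b → x c = c → a = b ∨ a = c ∨ b = c) ∧
  (∀ a b, x a ≠ a → Function.minimalPeriod x a = Function.minimalPeriod x b →
    ∃ i : ℕ, (x ^ i) a = b)

theorem pow_apply_eq_iff {α : Type*} (x : Perm α) (n : ℕ) (a : α) :
    (x ^ n) a = a ↔ Function.minimalPeriod x a ∣ n := by
  rw [← Function.isPeriodicPt_iff_minimalPeriod_dvd]
  rfl

theorem comm_pow_apply {α : Type*} (x τ : Perm α) (hc : τ * x = x * τ) (n : ℕ) (b : α) :
    (x ^ n) (τ b) = τ ((x ^ n) b) := by
  have h : Commute τ x := hc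
  have h2 : τ * x ^ n = x ^ n * τ := (h.pow_right n).eq
  have := congrArg (fun f : Perm α => f b) h2
  simpa using this.symm

theorem per_comm {α : Type*} (x τ : Perm α) (hc : τ * x = x * τ) (a : α) :
    Function.minimalPeriod x (τ a) = Function.minimalPeriod x a := by
  rw [Function.minimalPeriod_eq_minimalPeriod_iff]
  intro n
  change (x ^ n) (τ a) = τ a ↔ (x ^ n) a = a
  rw [comm_pow_apply x τ hc]
  exact τ.injective.eq_iff

theorem pow_add_apply {α : Type*} (x : Perm α) (m n : ℕ) (a : α) :
    (x ^ (m + n)) a = (x ^ m) ((x ^ n) a) := by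
  rw [pow_add]; rfl

/-- arithmetic: `m ∣ 2 i`, `¬ m ∣ i` gives `m = 2 h` and `i = 2 h v + h` -/
theorem half_arith (m i : ℕ) (h1 : m ∣ 2 * i) (h2 : ¬ m ∣ i) :
    ∃ h v : ℕ, m = 2 * h ∧ i = 2 * h * v + h := by
  rcases Nat.even_or_odd' m with ⟨h, hh | hh⟩
  · refine ⟨h, ?_⟩
    have h3 : h ∣ i := by
      rw [hh] at h1
      exact (Nat.mul_dvd_mul_iff_left (by norm_num)).1 h1
    obtain ⟨u, rfl⟩ := h3
    rcases Nat.even_or_odd' u with ⟨v, hv | hv⟩
    · exfalso; apply h2
      rw [hh, hv]; exact ⟨v, by ring⟩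
    · exact ⟨v, hh, by rw [hv]; ring⟩
  · exfalso; apply h2
    have hcop : Nat.Coprime m 2 := by
      rw [hh]; simp
    exact hcop.dvd_of_dvd_mul_left h1

/-- Key lemma: a fixed-point-free involution commuting with a good `x` acts on the cycle of a
moved point as the half-period power of `x`. -/
theorem half_period {α : Type*} (x τ : Perm α) (hg : Good x) (hc : τ * x = x * τ)
    (h2 : τ * τ = 1) (hf : ∀ a, τ a ≠ a) (a : α) (ha : x a ≠ a) :
    ∃ h : ℕ, Function.minimalPeriod x a = 2 * h ∧ τ a = (x ^ h) a := by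
  obtain ⟨i, hi⟩ := hg.2 a (τ a) ha (per_comm x τ hc a).symm
  have hττ : τ (τ a) = a := by
    have := congrArg (fun f : Perm α => f a) h2
    simpa using this
  have h2i : (x ^ (2 * i)) a = a := by
    rw [two_mul, pow_add_apply, hi, comm_pow_apply x τ hc, hi, hττ]
  have hd1 : Function.minimalPeriod x a ∣ 2 * i := (pow_apply_eq_iff x _ a).1 h2i
  have hd2 : ¬ Function.minimalPeriod x a ∣ i := by
    intro hd
    have := (pow_apply_eq_iff x _ a).2 hd
    rw [hi] at this
    exact hf a this
  obtain ⟨h, v, hm, hiv⟩ := half_arith _ _ hd1 hd2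
  refine ⟨h, hm, ?_⟩
  rw [← hi, hiv, add_comm, pow_add_apply]
  congr 1
  rw [pow_apply_eq_iff, hm]
  exact ⟨v, rfl⟩

/-- Claim B: a fixed-point-free involution commuting with a good permutation is unique. -/
theorem fpf_invol_unique {α : Type*} (x τ τ' : Perm α) (hg : Good x)
    (hc : τ * x = x * τ) (h2 : τ * τ = 1) (hf : ∀ a, τ a ≠ a)
    (hc' : τ' * x = x * τ') (h2' : τ' * τ' = 1) (hf' : ∀ a, τ' a ≠ a) : τ = τ' := by
  ext a
  by_cases ha : x a = a
  · have h1 : x (τ a) = τ a := by
      have := comm_pow_apply x τ hc 1 a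
      simpa [ha] using this
    have h1' : x (τ' a) = τ' a := by
      have := comm_pow_apply x τ' hc' 1 a
      simpa [ha] using this
    rcases hg.1 a (τ a) (τ' a) ha h1 h1' with h | h | h
    · exact absurd h.symm (hf a)
    · exact absurd h.symm (hf' a)
    · exact h
  · obtain ⟨h, hm, hτ⟩ := half_period x τ hg hc h2 hf a ha
    obtain ⟨h', hm', hτ'⟩ := half_period x τ' hg hc' h2' hf' a ha
    have : h = h' := by omega
    rw [hτ, hτ', this]

/-- goodness passes to the restriction to an invariant subtype -/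
theorem good_subtypePerm {α : Type*} (x : Perm α) (hg : Good x) (p : α → Prop)
    (hp : ∀ a, p (x a) ↔ p a) : Good (x.subtypePerm hp) := by
  have hpow : ∀ (n : ℕ) (a : {a // p a}), (((x.subtypePerm hp) ^ n) a : α) = (x ^ n) a.1 := by
    intro n a
    rw [Perm.subtypePerm_pow]
    rfl
  have hper : ∀ a : {a // p a},
      Function.minimalPeriod (x.subtypePerm hp) a = Function.minimalPeriod x a.1 := by
    intro a
    rw [Function.minimalPeriod_eq_minimalPeriod_iff]
    intro n
    change ((x.subtypePerm hp) ^ n) a = a ↔ (x ^ n) a.1 = a.1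
    rw [← hpow, Subtype.ext_iff]
  constructor
  · intro a b c ha hb hc
    have ha' : x a.1 = a.1 := by
      have := congrArg Subtype.val ha; simpa using this
    have hb' : x b.1 = b.1 := by
      have := congrArg Subtype.val hb; simpa using this
    have hc' : x c.1 = c.1 := by
      have := congrArg Subtype.val hc; simpa using this
    rcases hg.1 a.1 b.1 c.1 ha' hb' hc' with h | h | h
    · exact Or.inl (Subtype.ext h)
    · exact Or.inr (Or.inl (Subtype.ext h))
    · exact Or.inr (Or.inr (Subtype.ext h))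
  · intro a b ha hab
    have ha' : x a.1 ≠ a.1 := by
      intro h
      apply ha
      apply Subtype.ext
      simpa using h
    rw [hper, hper] at hab
    obtain ⟨i, hi⟩ := hg.2 a.1 b.1 ha' hab
    refine ⟨i, Subtype.ext ?_⟩
    rw [hpow, hi]

end Cfsg.Agent.Helper4.SylPerm
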