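import Cfsg.Agent.Helper4.SylPermB

/-!
# Sylow 2-subgroups of symmetric groups containing a given 2-element (part C)

Claim A: a Sylow 2-subgroup of the symmetric group on a set of even cardinality has a central
fixed-point-free involution.
-/

set_option autoImplicit false

namespace Cfsg.Agent.Helper4.SylPerm

open Equiv

/-- restriction of a subgroup of permutations to an invariant predicate -/
def restr {α : Type*} (P : Subgroup (Perm α)) (p : α → Prop)
    (hp : ∀ g ∈ P, ∀ a, p (g a) ↔ p a) : P →* Perm {a // p a} where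
  toFun g := (g : Perm α).subtypePerm (hp g.1 g.2)
  map_one' := by ext a; simp
  map_mul' := by intro g h; ext a; rfl

theorem restr_apply {α : Type*} (P : Subgroup (Perm α)) (p : α → Prop)
    (hp : ∀ g ∈ P, ∀ a, p (g a) ↔ p a) (g : P) (a : {a // p a}) :
    ((restr P p hp g) a : α) = (g : Perm α) a.1 := rfl

/-- a nontrivial finite `2`-subgroup has a central involution -/
theorem exists_central_invol {G : Type*} [Group G] [Finite G] (R : Subgroup G)
    (hR : IsPGroup 2 R) (hne : R ≠ ⊥) :
    ∃ z ∈ R, z ≠ 1 ∧ z * z = 1 ∧ ∀ g ∈ R, g * z = z * g := by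
  have : Fact (Nat.Prime 2) := ⟨Nat.prime_two⟩
  have hnt : Nontrivial R := (Subgroup.nontrivial_iff_ne_bot R).2 hne
  have hcn : Nontrivial (Subgroup.center R) := hR.center_nontrivial
  have hcp : IsPGroup 2 (Subgroup.center R) := hR.to_subgroup _
  obtain ⟨k, hk⟩ := IsPGroup.iff_card.1 hcp
  have hk0 : k ≠ 0 := by
    rintro rfl
    rw [pow_zero] at hk
    have := (Finite.one_lt_card_iff_nontrivial (α := Subgroup.center R)).2 hcn
    omega
  have hdvd : 2 ∣ Nat.card (Subgroup.center R) := by rw [hk]; exact dvd_pow_self 2 hk0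
  obtain ⟨z, hz⟩ := exists_prime_orderOf_dvd_card' 2 hdvd
  have hzo : orderOf (((z : R)) : G) = 2 := by
    rw [Subgroup.orderOf_coe, Subgroup.orderOf_coe]; exact hz
  refine ⟨((z : R) : G), (z : R).2, ?_, ?_, ?_⟩
  · intro h1
    rw [h1, orderOf_one] at hzo
    omega
  · rw [← pow_two, ← hzo]; exact pow_orderOf_eq_one _
  · intro g hg
    have h1 := Subgroup.mem_center_iff.1 z.2 ⟨g, hg⟩
    exact congrArg Subtype.val h1

/-- Claim A: a Sylow `2`-subgroup of the symmetric group on a set of even cardinality contains a
central fixed-point-free involution. -/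
theorem exists_central_fpf {α : Type*} [Finite α] (P : Sylow 2 (Perm α))
    (heven : Even (Nat.card α)) :
    ∃ τ ∈ P, (∀ g ∈ P, g * τ = τ * g) ∧ τ * τ = 1 ∧ ∀ a, τ a ≠ a := by
  classical
  have := Fintype.ofFinite α
  let T : Finset (Perm α) :=
    Finset.univ.filter (fun t => t ∈ P ∧ (∀ g ∈ P, g * t = t * g) ∧ t * t = 1)
  have hT1 : (1 : Perm α) ∈ T := by
    simp only [T, Finset.mem_filter, Finset.mem_univ, true_and]
    exact ⟨one_mem _, fun g _ => by simp, by simp⟩
  obtain ⟨t, htT, hmax⟩ := Finset.exists_max_image T (fun t => t.support.card) ⟨1, hT1⟩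
  have htT' : t ∈ P ∧ (∀ g ∈ P, g * t = t * g) ∧ t * t = 1 := by
    simpa only [T, Finset.mem_filter, Finset.mem_univ, true_and] using htT
  obtain ⟨htP, htc, ht2⟩ := htT'
  refine ⟨t, htP, htc, ht2, ?_⟩
  by_contra hcon
  push Not at hcon
  obtain ⟨u, hu⟩ := hcon
  -- the fixed-point predicate of `t` is `P`-invariant
  have hp : ∀ g ∈ P, ∀ a, t (g a) = g a ↔ t a = a := by
    intro g hg a
    have h1 : g (t a) = t (g a) := by
      have := congrArg (fun f : Perm α => f a) (htc g hg)
      simpa using this
    rw [← h1]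
    exact g.injective.eq_iff
  let p : α → Prop := fun a => t a = a
  let ρ := restr (P : Subgroup (Perm α)) p hp
  -- a nontrivial involution of `Perm (Fix t)` commuting with the image of `P`
  have key : ∃ zb : Perm {a // p a}, zb ≠ 1 ∧ zb * zb = 1 ∧
      ∀ g : (P : Subgroup (Perm α)), ρ g * zb = zb * ρ g := by
    by_cases hR : ρ.range = ⊥
    · have hv : ∃ v, v ≠ u ∧ t v = v := by
        by_contra hno
        push Not at hno
        have hsupp : t.support = Finset.univ.erase u := by
          ext a
          simp only [Perm.mem_support, Finset.mem_erase, Finset.mem_univ, and_true]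
          constructor
          · intro h1 h2
            rw [h2] at h1
            exact h1 hu
          · intro h1
            exact hno a h1
        have h2 : 2 ∣ t.support.card := Perm.two_dvd_card_support (by rw [pow_two]; exact ht2)
        rw [hsupp, Finset.card_erase_of_mem (Finset.mem_univ u), Finset.card_univ] at h2
        have hpos : 0 < Fintype.card α := Fintype.card_pos_iff.2 ⟨u⟩
        rw [Nat.card_eq_fintype_card] at heven
        obtain ⟨r, hr⟩ := heven
        omega
      obtain ⟨v, hvu, hv⟩ := hv
      refine ⟨swap ⟨u, hu⟩ ⟨v, hv⟩, ?_, swap_mul_self _ _, ?_⟩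
      · rw [Ne, swap_eq_one_iff]
        intro h
        exact hvu (congrArg Subtype.val h).symm
      · intro g
        have : ρ g = 1 := by
          have h1 : ρ g ∈ ρ.range := ⟨g, rfl⟩
          rw [hR, Subgroup.mem_bot] at h1
          exact h1
        rw [this, one_mul, mul_one]
    · have hRp : IsPGroup 2 ρ.range :=
        P.isPGroup'.of_surjective ρ.rangeRestrict ρ.rangeRestrict_surjective
      obtain ⟨zb, -, hz1, hz2, hzc⟩ := exists_central_invol ρ.range hRp hR
      exact ⟨zb, hz1, hz2, fun g => hzc (ρ g) ⟨g, rfl⟩⟩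
  obtain ⟨zb, hz1, hz2, hzc⟩ := key
  let z : Perm α := Perm.ofSubtype zb
  have hz_comm : ∀ g ∈ P, g * z = z * g := by
    intro g hg
    ext a
    by_cases pa : p a
    · have pga : p (g a) := (hp g hg a).2 pa
      have h1 := congrArg (fun f : Perm {a // p a} => ((f ⟨a, pa⟩ : {a // p a}) : α))
        (hzc ⟨g, hg⟩)
      simp only [Perm.mul_apply] at h1
      rw [restr_apply] at h1
      change g (z a) = z (g a)
      rw [Perm.ofSubtype_apply_of_mem zb pa, Perm.ofSubtype_apply_of_mem zb pga, h1]
      congr 1
    · have pga : ¬ p (g a) := fun h => pa ((hp g hg a).1 h)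
      change g (z a) = z (g a)
      rw [Perm.ofSubtype_apply_of_not_mem zb pa, Perm.ofSubtype_apply_of_not_mem zb pga]
  have hzz : z * z = 1 := by
    change Perm.ofSubtype zb * Perm.ofSubtype zb = 1
    rw [← map_mul, hz2, map_one]
  have hzP : z ∈ P := mem_sylow_of_commutes P z ⟨1, by rw [pow_one, pow_two]; exact hzz⟩ hz_comm
  have hzne : z ≠ 1 := by
    intro h
    apply hz1
    apply Perm.ofSubtype_injective
    rw [map_one]; exact h
  have htz : t * z = z * t := hz_comm t htP
  have hmem : t * z ∈ T := by
    simp only [T, Finset.mem_filter, Finset.mem_univ, true_and]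
    refine ⟨mul_mem htP hzP, ?_, ?_⟩
    · intro g hg
      rw [← mul_assoc, htc g hg, mul_assoc, hz_comm g hg, mul_assoc]
    · calc t * z * (t * z) = t * (z * t) * z := by group
        _ = t * (t * z) * z := by rw [htz]
        _ = (t * t) * (z * z) := by group
        _ = 1 := by rw [ht2, hzz, one_mul]
  have hdisj : Perm.Disjoint t z := by
    intro a
    by_cases pa : p a
    · exact Or.inl pa
    · exact Or.inr (Perm.ofSubtype_apply_of_not_mem zb pa)
  have hcard := hdisj.card_support_mul
  have hpos : 0 < z.support.card := by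
    rw [Finset.card_pos, Finset.nonempty_iff_ne_empty, Ne, Perm.support_eq_empty_iff]
    exact hzne
  have := hmax (t * z) hmem
  omega

end Cfsg.Agent.Helper4.SylPerm
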