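import Cfsg.Agent.Helper4.SylPermC

/-!
# Sylow 2-subgroups of symmetric groups containing a given 2-element (part D)

The quotient of a set by a fixed-point-free involution `τ`, and the surjective homomorphism from
the centralizer of `τ` onto the symmetric group of the quotient, whose kernel has exponent 2.
-/

set_option autoImplicit false

namespace Cfsg.Agent.Helper4.SylPerm

open Equiv

theorem invol_apply {α : Type*} (τ : Perm α) (h2 : τ * τ = 1) (a : α) : τ (τ a) = a := by
  have := congrArg (fun f : Perm α => f a) h2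
  simpa using this

/-- the equivalence relation `b = a ∨ b = τ a` for an involution `τ` -/
def tauSetoid {α : Type*} (τ : Perm α) (h2 : τ * τ = 1) : Setoid α where
  r a b := b = a ∨ b = τ a
  iseqv := by
    refine ⟨fun a => Or.inl rfl, ?_, ?_⟩
    · rintro a b (rfl | rfl)
      · exact Or.inl rfl
      · exact Or.inr (invol_apply τ h2 a).symm
    · rintro a b c (rfl | rfl) (rfl | rfl)
      · exact Or.inl rfl
      · exact Or.inr rfl
      · exact Or.inr rfl
      · exact Or.inl (invol_apply τ h2 a)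

/-- the quotient of `α` by the involution `τ` -/
def TauQ {α : Type*} (τ : Perm α) (h2 : τ * τ = 1) : Type _ := Quotient (tauSetoid τ h2)

/-- the class of a point -/
def mkQ {α : Type*} (τ : Perm α) (h2 : τ * τ = 1) (a : α) : TauQ τ h2 :=
  Quotient.mk (tauSetoid τ h2) a

theorem mkQ_eq_iff {α : Type*} (τ : Perm α) (h2 : τ * τ = 1) {a b : α} :
    mkQ τ h2 a = mkQ τ h2 b ↔ b = a ∨ b = τ a :=
  Quotient.eq (r := tauSetoid τ h2)

theorem mkQ_surj {α : Type*} (τ : Perm α) (h2 : τ * τ = 1) :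
    Function.Surjective (mkQ τ h2) := fun q => Quotient.exists_rep q

theorem mkQ_tau {α : Type*} (τ : Perm α) (h2 : τ * τ = 1) (a : α) :
    mkQ τ h2 (τ a) = mkQ τ h2 a :=
  ((mkQ_eq_iff τ h2).2 (Or.inr rfl)).symm

instance {α : Type*} [Finite α] (τ : Perm α) (h2 : τ * τ = 1) : Finite (TauQ τ h2) :=
  Finite.of_surjective _ (mkQ_surj τ h2)

theorem card_tauQ_lt {α : Type*} [Finite α] (τ : Perm α) (h2 : τ * τ = 1) (a : α)
    (ha : τ a ≠ a) : Nat.card (TauQ τ h2) < Nat.card α := by
  classical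
  have := Fintype.ofFinite α
  have := Fintype.ofFinite (TauQ τ h2)
  rw [Nat.card_eq_fintype_card, Nat.card_eq_fintype_card]
  apply Fintype.card_lt_of_surjective_not_injective _ (mkQ_surj τ h2)
  intro hinj
  exact ha (hinj (mkQ_tau τ h2 a))

/-- the centralizer of `τ` -/
def cent {α : Type*} (τ : Perm α) : Subgroup (Perm α) := Subgroup.centralizer {τ}

theorem mem_cent {α : Type*} {τ g : Perm α} : g ∈ cent τ ↔ τ * g = g * τ := by
  simp [cent, Subgroup.mem_centralizer_iff]

theorem cent_apply {α : Type*} {τ : Perm α} (g : cent τ) (a : α) :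
    (g : Perm α) (τ a) = τ ((g : Perm α) a) := by
  have := congrArg (fun f : Perm α => f a) (mem_cent.1 g.2)
  simpa using this.symm

/-- the action of the centralizer of `τ` on the quotient -/
def quotHom {α : Type*} (τ : Perm α) (h2 : τ * τ = 1) : cent τ →* Perm (TauQ τ h2) where
  toFun g := Quotient.congr (g : Perm α) (by
    intro a b
    change (b = a ∨ b = τ a) ↔ ((g : Perm α) b = (g : Perm α) a ∨ (g : Perm α) b = τ ((g : Perm α) a))
    rw [← cent_apply g a, (g : Perm α).injective.eq_iff, (g : Perm α).injective.eq_iff])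
  map_one' := by
    ext q
    obtain ⟨a, rfl⟩ := mkQ_surj τ h2 q
    rfl
  map_mul' := by
    intro g h
    ext q
    obtain ⟨a, rfl⟩ := mkQ_surj τ h2 q
    rfl

theorem quotHom_apply {α : Type*} (τ : Perm α) (h2 : τ * τ = 1) (g : cent τ) (a : α) :
    quotHom τ h2 g (mkQ τ h2 a) = mkQ τ h2 ((g : Perm α) a) := rfl

theorem quotHom_pow_apply {α : Type*} (τ : Perm α) (h2 : τ * τ = 1) (g : cent τ) (n : ℕ) (a : α) :
    ((quotHom τ h2 g) ^ n) (mkQ τ h2 a) = mkQ τ h2 (((g : Perm α) ^ n) a) := by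
  rw [← map_pow, quotHom_apply]
  rfl

/-- the kernel of the action on the quotient is a `2`-group -/
theorem ker_quotHom_isPGroup {α : Type*} (τ : Perm α) (h2 : τ * τ = 1) :
    IsPGroup 2 (quotHom τ h2).ker := by
  intro g
  refine ⟨1, ?_⟩
  apply Subtype.ext
  apply Subtype.ext
  have hg : quotHom τ h2 g.1 = 1 := g.2
  have hcase : ∀ a, ((g.1 : cent τ) : Perm α) a = a ∨ ((g.1 : cent τ) : Perm α) a = τ a := by
    intro a
    have h1 : quotHom τ h2 g.1 (mkQ τ h2 a) = mkQ τ h2 a := by rw [hg]; rfl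
    rw [quotHom_apply] at h1
    exact (mkQ_eq_iff τ h2).1 h1.symm
  ext a
  change ((((g.1 : cent τ) : Perm α)) ^ 2 ^ 1) a = a
  rw [pow_one, pow_two, Perm.mul_apply]
  rcases hcase a with h | h
  · rw [h, h]
  · rw [h, cent_apply, h, invol_apply τ h2]

/-- the action on the quotient is surjective -/
theorem quotHom_surjective {α : Type*} (τ : Perm α) (h2 : τ * τ = 1) (hf : ∀ a, τ a ≠ a) :
    Function.Surjective (quotHom τ h2) := by
  classical
  intro σ
  -- the chosen representative of the class of `a`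
  let rep : TauQ τ h2 → α := fun q => Quotient.out q
  have hrep : ∀ q, mkQ τ h2 (rep q) = q := fun q => Quotient.out_eq q
  have hcase : ∀ a, a = rep (mkQ τ h2 a) ∨ a = τ (rep (mkQ τ h2 a)) := by
    intro a
    exact (mkQ_eq_iff τ h2).1 (hrep (mkQ τ h2 a))
  let lift : Perm (TauQ τ h2) → α → α := fun ρ a =>
    if a = rep (mkQ τ h2 a) then rep (ρ (mkQ τ h2 a)) else τ (rep (ρ (mkQ τ h2 a)))
  have hlift_mk : ∀ ρ a, mkQ τ h2 (lift ρ a) = ρ (mkQ τ h2 a) := by
    intro ρ a
    simp only [lift]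
    split_ifs
    · exact hrep _
    · rw [mkQ_tau]; exact hrep _
  have hlift_iff : ∀ ρ a, lift ρ a = rep (ρ (mkQ τ h2 a)) ↔ a = rep (mkQ τ h2 a) := by
    intro ρ a
    simp only [lift]
    split_ifs with h
    · exact ⟨fun _ => h, fun _ => rfl⟩
    · simp only [h, iff_false]
      exact hf _
  have hlift_inv : ∀ ρ a, lift ρ⁻¹ (lift ρ a) = a := by
    intro ρ a
    have h1 : lift ρ⁻¹ (lift ρ a) =
        if lift ρ a = rep (mkQ τ h2 (lift ρ a)) then rep (ρ⁻¹ (mkQ τ h2 (lift ρ a)))
        else τ (rep (ρ⁻¹ (mkQ τ h2 (lift ρ a)))) := rfl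
    have h3 : ρ⁻¹ (ρ (mkQ τ h2 a)) = mkQ τ h2 a := ρ.symm_apply_apply _
    rw [h1, hlift_mk ρ a, h3]
    by_cases h : a = rep (mkQ τ h2 a)
    · rw [if_pos ((hlift_iff ρ a).2 h)]
      exact h.symm
    · rw [if_neg (fun h' => h ((hlift_iff ρ a).1 h'))]
      rcases hcase a with h' | h'
      · exact absurd h' h
      · exact h'.symm
  let g : Perm α := ⟨lift σ, lift σ⁻¹, hlift_inv σ, fun a => by
    have := hlift_inv σ⁻¹ a
    rwa [inv_inv] at this⟩
  have hg_apply : ∀ a, g a = lift σ a := fun a => rfl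
  have hgc : g ∈ cent τ := by
    rw [mem_cent]
    ext a
    change τ (g a) = g (τ a)
    rw [hg_apply, hg_apply]
    have h1 : lift σ (τ a) =
        if τ a = rep (mkQ τ h2 (τ a)) then rep (σ (mkQ τ h2 (τ a)))
        else τ (rep (σ (mkQ τ h2 (τ a)))) := rfl
    have h0 : lift σ a =
        if a = rep (mkQ τ h2 a) then rep (σ (mkQ τ h2 a))
        else τ (rep (σ (mkQ τ h2 a))) := rfl
    rw [h1, h0, mkQ_tau]
    rcases hcase a with h | h
    · rw [if_pos h]
      have : τ a ≠ rep (mkQ τ h2 a) := by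
        rw [← h]; exact hf a
      rw [if_neg this]
    · have hne : a ≠ rep (mkQ τ h2 a) := by
        intro h'
        rw [← h'] at h
        exact hf a h.symm
      rw [if_neg hne]
      have : τ a = rep (mkQ τ h2 a) := by
        conv_lhs => rw [h]
        exact invol_apply τ h2 _
      rw [if_pos this, invol_apply τ h2]
  refine ⟨⟨g, hgc⟩, ?_⟩
  ext q
  obtain ⟨a, rfl⟩ := mkQ_surj τ h2 q
  rw [quotHom_apply]
  exact hlift_mk σ a

end Cfsg.Agent.Helper4.SylPerm
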