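import Cfsg.Agent.Helper4.SylPermD

/-!
# Sylow 2-subgroups of symmetric groups containing a given 2-element (part E)

Goodness of `x` passes to the permutation induced on the quotient by a central fixed-point-free
involution.
-/

set_option autoImplicit false

namespace Cfsg.Agent.Helper4.SylPerm

open Equiv

/-- the period of the class of a moved point under the induced permutation is the half period -/
theorem class_period {α : Type*} (x τ : Perm α) (hc : τ * x = x * τ) (h2 : τ * τ = 1)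
    (a : α) (h : ℕ) (hm : Function.minimalPeriod x a = 2 * h) (hτ : τ a = (x ^ h) a) (n : ℕ) :
    ((quotHom τ h2 ⟨x, mem_cent.2 hc⟩) ^ n) (mkQ τ h2 a) = mkQ τ h2 a ↔ h ∣ n := by
  rw [quotHom_pow_apply]
  change mkQ τ h2 ((x ^ n) a) = mkQ τ h2 a ↔ h ∣ n
  rw [eq_comm, mkQ_eq_iff]
  constructor
  · rintro (h1 | h1)
    · have := (pow_apply_eq_iff x n a).1 h1
      rw [hm] at this
      exact (dvd_mul_left h 2).trans this
    · have h3 : (x ^ (h + n)) a = a := by
        rw [pow_add_apply, h1, comm_pow_apply x τ hc, ← hτ, invol_apply τ h2]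
      have := (pow_apply_eq_iff x _ a).1 h3
      rw [hm] at this
      have h4 : h ∣ h + n := (dvd_mul_left h 2).trans this
      exact (Nat.dvd_add_right (dvd_refl h)).1 h4
  · rintro ⟨q, rfl⟩
    rcases Nat.even_or_odd' q with ⟨v, rfl | rfl⟩
    · left
      rw [pow_apply_eq_iff, hm]
      exact ⟨v, by ring⟩
    · right
      have : h * (2 * v + 1) = h + 2 * h * v := by ring
      rw [this, pow_add_apply, hτ]
      congr 1
      rw [pow_apply_eq_iff, hm]
      exact ⟨v, rfl⟩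

theorem good_quot {α : Type*} (x τ : Perm α) (hg : Good x) (hc : τ * x = x * τ)
    (h2 : τ * τ = 1) (hf : ∀ a, τ a ≠ a) : Good (quotHom τ h2 ⟨x, mem_cent.2 hc⟩) := by
  have hxτ : ∀ a, x (τ a) = τ (x a) := fun a => by
    have := comm_pow_apply x τ hc 1 a
    simpa using this
  have hfix_iff : ∀ a, quotHom τ h2 ⟨x, mem_cent.2 hc⟩ (mkQ τ h2 a) = mkQ τ h2 a ↔
      (x a = a ∨ x a = τ a) := by
    intro a
    rw [quotHom_apply, eq_comm, mkQ_eq_iff]
  have hF : ∀ a b, x a = a → x b = b → mkQ τ h2 a = mkQ τ h2 b := by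
    intro a b ha hb
    have h1 : x (τ a) = τ a := by rw [hxτ, ha]
    rcases hg.1 a (τ a) b ha h1 hb with h | h | h
    · exact absurd h.symm (hf a)
    · rw [h]
    · exact (mkQ_eq_iff τ h2).2 (Or.inr h.symm)
  have hper2 : ∀ a, x a = τ a → Function.minimalPeriod x a = 2 := by
    intro a ha
    have : Fact (Nat.Prime 2) := ⟨Nat.prime_two⟩
    apply Function.minimalPeriod_eq_prime
    · change x (x a) = a
      rw [ha, hxτ, ha, invol_apply τ h2]
    · change ¬ x a = a
      rw [ha]; exact hf a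
  have hT : ∀ a b, x a = τ a → x b = τ b → mkQ τ h2 a = mkQ τ h2 b := by
    intro a b ha hb
    have hane : x a ≠ a := by rw [ha]; exact hf a
    obtain ⟨i, hi⟩ := hg.2 a b hane (by rw [hper2 a ha, hper2 b hb])
    have h1 : quotHom τ h2 ⟨x, mem_cent.2 hc⟩ (mkQ τ h2 a) = mkQ τ h2 a :=
      (hfix_iff a).2 (Or.inr ha)
    have h3 := Perm.pow_apply_eq_self_of_apply_eq_self h1 i
    rw [quotHom_pow_apply] at h3
    change mkQ τ h2 ((x ^ i) a) = mkQ τ h2 a at h3
    rw [hi] at h3
    exact h3.symm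
  constructor
  · intro A B C hA hB hC
    obtain ⟨a, rfl⟩ := mkQ_surj τ h2 A
    obtain ⟨b, rfl⟩ := mkQ_surj τ h2 B
    obtain ⟨c, rfl⟩ := mkQ_surj τ h2 C
    rcases (hfix_iff a).1 hA with ha | ha <;> rcases (hfix_iff b).1 hB with hb | hb <;>
      rcases (hfix_iff c).1 hC with hc' | hc'
    · exact Or.inl (hF a b ha hb)
    · exact Or.inl (hF a b ha hb)
    · exact Or.inr (Or.inl (hF a c ha hc'))
    · exact Or.inr (Or.inr (hT b c hb hc'))
    · exact Or.inr (Or.inr (hF b c hb hc'))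
    · exact Or.inr (Or.inl (hT a c ha hc'))
    · exact Or.inl (hT a b ha hb)
    · exact Or.inl (hT a b ha hb)
  · intro A B hA hAB
    obtain ⟨a, rfl⟩ := mkQ_surj τ h2 A
    obtain ⟨b, rfl⟩ := mkQ_surj τ h2 B
    have ha : x a ≠ a := fun h => hA ((hfix_iff a).2 (Or.inl h))
    obtain ⟨h, hm, hτ⟩ := half_period x τ hg hc h2 hf a ha
    have hperA : Function.minimalPeriod (quotHom τ h2 ⟨x, mem_cent.2 hc⟩) (mkQ τ h2 a) = h := by
      apply Nat.dvd_antisymm
      · exact (pow_apply_eq_iff _ h _).1 ((class_period x τ hc h2 a h hm hτ h).2 dvd_rfl)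
      · exact (class_period x τ hc h2 a h hm hτ _).1 ((pow_apply_eq_iff _ _ _).2 dvd_rfl)
    have hb : x b ≠ b := by
      intro hb
      have h1 : quotHom τ h2 ⟨x, mem_cent.2 hc⟩ (mkQ τ h2 b) = mkQ τ h2 b :=
        (hfix_iff b).2 (Or.inl hb)
      have h3 : Function.minimalPeriod (quotHom τ h2 ⟨x, mem_cent.2 hc⟩) (mkQ τ h2 b) = 1 :=
        Function.minimalPeriod_eq_one_iff_isFixedPt.2 h1
      rw [h3] at hAB
      exact hA (Function.minimalPeriod_eq_one_iff_isFixedPt.1 hAB)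
    obtain ⟨h', hm', hτ'⟩ := half_period x τ hg hc h2 hf b hb
    have hperB : Function.minimalPeriod (quotHom τ h2 ⟨x, mem_cent.2 hc⟩) (mkQ τ h2 b) = h' := by
      apply Nat.dvd_antisymm
      · exact (pow_apply_eq_iff _ h' _).1 ((class_period x τ hc h2 b h' hm' hτ' h').2 dvd_rfl)
      · exact (class_period x τ hc h2 b h' hm' hτ' _).1 ((pow_apply_eq_iff _ _ _).2 dvd_rfl)
    rw [hperA, hperB] at hAB
    obtain ⟨i, hi⟩ := hg.2 a b ha (by rw [hm, hm', hAB])
    refine ⟨i, ?_⟩
    rw [quotHom_pow_apply]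
    change mkQ τ h2 ((x ^ i) a) = mkQ τ h2 b
    rw [hi]

end Cfsg.Agent.Helper4.SylPerm
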