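import Cfsg.Agent.Helper4.SylPermE

/-!
# Sylow 2-subgroups of symmetric groups containing a given 2-element (part F)

A good 2-element of a finite symmetric group lies in a unique Sylow 2-subgroup.
-/

set_option autoImplicit false

namespace Cfsg.Agent.Helper4.SylPerm

open Equiv

/-- a `2`-group of permutations of a set of odd cardinality fixes a point -/
theorem exists_fixed_of_odd {α : Type*} [Finite α] (P : Sylow 2 (Perm α))
    (hodd : Odd (Nat.card α)) : ∃ ω : α, ∀ g ∈ P, g ω = ω := by
  have : Fact (Nat.Prime 2) := ⟨Nat.prime_two⟩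
  have h2 : ¬ 2 ∣ Nat.card α := by
    rw [← even_iff_two_dvd, Nat.not_even_iff_odd]; exact hodd
  obtain ⟨ω, hω⟩ := P.isPGroup'.nonempty_fixed_point_of_prime_not_dvd_card α h2
  refine ⟨ω, fun g hg => ?_⟩
  have := hω ⟨g, hg⟩
  exact this

/-- a good `2`-element on a set of odd cardinality has a unique fixed point -/
theorem fixed_unique_of_odd {α : Type*} [Finite α] (x : Perm α) (hx2 : ∃ k : ℕ, x ^ 2 ^ k = 1)
    (hg : Good x) (hodd : Odd (Nat.card α)) (ω ω' : α) (hω : x ω = ω) (hω' : x ω' = ω') :
    ω = ω' := by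
  classical
  have := Fintype.ofFinite α
  have : Fact (Nat.Prime 2) := ⟨Nat.prime_two⟩
  by_contra hne
  obtain ⟨k, hk⟩ := hx2
  have h1 := Perm.card_compl_support_modEq (p := 2) hk
  have h2 : x.supportᶜ = {ω, ω'} := by
    ext c
    simp only [Finset.mem_compl, Perm.mem_support, not_not, Finset.mem_insert,
      Finset.mem_singleton]
    constructor
    · intro hc
      rcases hg.1 ω ω' c hω hω' hc with h | h | h
      · exact absurd h hne
      · exact Or.inl h.symm
      · exact Or.inr h.symm
    · rintro (rfl | rfl)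
      · exact hω
      · exact hω'
  rw [h2, Finset.card_pair hne, ← Nat.card_eq_fintype_card] at h1
  obtain ⟨r, hr⟩ := hodd
  rw [hr] at h1
  have := h1.symm
  rw [Nat.ModEq] at this
  omega

/-- **Uniqueness**: a good `2`-element of a finite symmetric group lies in exactly one Sylow
`2`-subgroup. -/
theorem unique_sylow_of_good : ∀ (n : ℕ) (α : Type) [Finite α], Nat.card α = n →
    ∀ x : Perm α, (∃ k : ℕ, x ^ 2 ^ k = 1) → Good x →
    ∀ P P' : Sylow 2 (Perm α), x ∈ P → x ∈ P' → P = P' := by
  intro n
  induction n using Nat.strong_induction_on with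
  | _ n ih =>
  intro α _ hn x hx2 hg P P' hxP hxP'
  have hprime : Fact (Nat.Prime 2) := ⟨Nat.prime_two⟩
  rcases Nat.even_or_odd n with he | ho
  · -- even cardinality
    by_cases hn0 : n = 0
    · have hemp : IsEmpty α := by
        rw [hn0] at hn
        exact (Nat.card_eq_zero.1 hn).resolve_right (fun h => h.false)
      apply Sylow.ext
      ext g
      have : g = 1 := Subsingleton.elim _ _
      rw [this]
      exact ⟨fun _ => one_mem _, fun _ => one_mem _⟩
    · obtain ⟨τ, hτP, hτc, hτ2, hτf⟩ := exists_central_fpf P (hn ▸ he)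
      obtain ⟨τ', hτP', hτc', hτ2', hτf'⟩ := exists_central_fpf P' (hn ▸ he)
      have hcx : τ * x = x * τ := (hτc x hxP).symm
      have hcx' : τ' * x = x * τ' := (hτc' x hxP').symm
      have heq : τ = τ' := fpf_invol_unique x τ τ' hg hcx hτ2 hτf hcx' hτ2' hτf'
      subst heq
      have hPW : (P : Subgroup (Perm α)) ≤ cent τ := fun g hg => mem_cent.2 (hτc g hg).symm
      have hPW' : (P' : Subgroup (Perm α)) ≤ cent τ := fun g hg => mem_cent.2 (hτc' g hg).symm
      have hne : Nonempty α := by
        by_contra h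
        rw [not_nonempty_iff] at h
        apply hn0
        rw [← hn]
        exact Nat.card_of_isEmpty
      obtain ⟨a0⟩ := hne
      have hlt : Nat.card (TauQ τ hτ2) < n := hn ▸ card_tauQ_lt τ hτ2 a0 (hτf a0)
      have hsurj := quotHom_surjective τ hτ2 hτf
      let Q : Sylow 2 (Perm (TauQ τ hτ2)) := (P.subtype hPW).mapSurjective hsurj
      let Q' : Sylow 2 (Perm (TauQ τ hτ2)) := (P'.subtype hPW').mapSurjective hsurj
      obtain ⟨k, hk⟩ := hx2
      have hxQ : quotHom τ hτ2 ⟨x, mem_cent.2 hcx⟩ ∈ Q := by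
        change _ ∈ ((P.subtype hPW : Sylow 2 (cent τ)) : Subgroup (cent τ)).map (quotHom τ hτ2)
        refine Subgroup.mem_map_of_mem _ ?_
        change (⟨x, mem_cent.2 hcx⟩ : cent τ) ∈ (P : Subgroup (Perm α)).subgroupOf (cent τ)
        rw [Subgroup.mem_subgroupOf]
        exact hxP
      have hxQ' : quotHom τ hτ2 ⟨x, mem_cent.2 hcx⟩ ∈ Q' := by
        change _ ∈ ((P'.subtype hPW' : Sylow 2 (cent τ)) : Subgroup (cent τ)).map (quotHom τ hτ2)
        refine Subgroup.mem_map_of_mem _ ?_
        change (⟨x, mem_cent.2 hcx⟩ : cent τ) ∈ (P' : Subgroup (Perm α)).subgroupOf (cent τ)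
        rw [Subgroup.mem_subgroupOf]
        exact hxP'
      have hQ : Q = Q' := by
        refine ih _ hlt (TauQ τ hτ2) rfl (quotHom τ hτ2 ⟨x, mem_cent.2 hcx⟩) ⟨k, ?_⟩
          (good_quot x τ hg hcx hτ2 hτf) Q Q' hxQ hxQ'
        rw [← map_pow]
        have : (⟨x, mem_cent.2 hcx⟩ : cent τ) ^ 2 ^ k = 1 := by
          apply Subtype.ext
          rw [Subgroup.coe_pow]
          exact hk
        rw [this, map_one]
      have hPW_eq : P.subtype hPW = P'.subtype hPW' := by
        apply sylow_eq_of_map_eq (quotHom τ hτ2) (ker_quotHom_isPGroup τ hτ2)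
        have := congrArg (fun S : Sylow 2 (Perm (TauQ τ hτ2)) => S.toSubgroup) hQ
        exact this
      exact Sylow.subtype_injective hPW_eq
  · -- odd cardinality
    have hodd : Odd (Nat.card α) := hn ▸ ho
    obtain ⟨ω, hω⟩ := exists_fixed_of_odd P hodd
    obtain ⟨ω', hω'⟩ := exists_fixed_of_odd P' hodd
    have heq : ω = ω' := fixed_unique_of_odd x hx2 hg hodd ω ω' (hω x hxP) (hω' x hxP')
    subst heq
    classical
    let p : α → Prop := fun a => a ≠ ω
    let ι : Perm {a // p a} →* Perm α := Perm.ofSubtype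
    have hι : Function.Injective ι := Perm.ofSubtype_injective
    have h₁ : ∀ g : Perm α, g ω = ω → ∀ a, p (g a) ↔ p a := by
      intro g hgω a
      change g a ≠ ω ↔ a ≠ ω
      rw [not_iff_not]
      constructor
      · intro h
        apply g.injective
        rw [h, hgω]
      · rintro rfl
        exact hgω
    have hrange : ∀ g : Perm α, g ω = ω → g ∈ ι.range := by
      intro g hgω
      refine ⟨g.subtypePerm (h₁ g hgω), ?_⟩
      apply Perm.ofSubtype_subtypePerm
      intro a ha
      change a ≠ ω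
      rintro rfl
      exact ha hgω
    have hPr : (P : Subgroup (Perm α)) ≤ ι.range := fun g hg => hrange g (hω g hg)
    have hPr' : (P' : Subgroup (Perm α)) ≤ ι.range := fun g hg => hrange g (hω' g hg)
    let Q : Sylow 2 (Perm {a // p a}) := P.comapOfInjective ι hι hPr
    let Q' : Sylow 2 (Perm {a // p a}) := P'.comapOfInjective ι hι hPr'
    have hxω : x ω = ω := hω x hxP
    let x' : Perm {a // p a} := x.subtypePerm (h₁ x hxω)
    have hιx : ι x' = x := by
      apply Perm.ofSubtype_subtypePerm
      intro a ha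
      change a ≠ ω
      rintro rfl
      exact ha hxω
    have hxQ : x' ∈ Q := by
      change x' ∈ (P : Subgroup (Perm α)).comap ι
      rw [Subgroup.mem_comap, hιx]
      exact hxP
    have hxQ' : x' ∈ Q' := by
      change x' ∈ (P' : Subgroup (Perm α)).comap ι
      rw [Subgroup.mem_comap, hιx]
      exact hxP'
    obtain ⟨k, hk⟩ := hx2
    have hx'2 : x' ^ 2 ^ k = 1 := by
      apply hι
      rw [map_pow, hιx, hk, map_one]
    have hlt : Nat.card {a // p a} < n := by
      rw [← hn]
      exact Finite.card_subtype_lt (x := ω) (fun h => h rfl)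
    have hQ : Q = Q' :=
      ih _ hlt {a // p a} rfl x' ⟨k, hx'2⟩ (good_subtypePerm x hg p (h₁ x hxω)) Q Q' hxQ hxQ'
    apply sylow_eq_of_comap_eq ι P P' hPr hPr'
    have := congrArg (fun S : Sylow 2 (Perm {a // p a}) => S.toSubgroup) hQ
    exact this

end Cfsg.Agent.Helper4.SylPerm
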