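import Cfsg.Agent.Helper4.SylPermF

/-!
# Sylow 2-subgroups of symmetric groups containing a given 2-element (part G)

The converse: if a `2`-element `x` lies in a unique Sylow `2`-subgroup `P₀`, then for any two points
`a`, `b` of equal period in different cycles of `x`, the transposition `swap a b` lies in `P₀`.
Consequently `x` has at most two fixed points and no two cycles of equal length.
-/

set_option autoImplicit false

namespace Cfsg.Agent.Helper4.SylPerm

open Equiv

theorem zpow_apply_eq_iff {α : Type*} (x : Perm α) (n : ℤ) (a : α) :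
    (x ^ n) a = a ↔ (Function.minimalPeriod x a : ℤ) ∣ n :=
  MulAction.zpow_smul_eq_iff_minimalPeriod_dvd (a := x) (b := a) (n := n)

theorem zpow_add_apply {α : Type*} (x : Perm α) (m n : ℤ) (a : α) :
    (x ^ (m + n)) a = (x ^ m) ((x ^ n) a) := by
  rw [zpow_add]; rfl

theorem zpow_eq_zpow_iff_per {α : Type*} (x : Perm α) (a : α) (i j : ℤ) :
    (x ^ i) a = (x ^ j) a ↔ (Function.minimalPeriod x a : ℤ) ∣ i - j := by
  rw [← zpow_apply_eq_iff]
  have : i = j + (i - j) := by ring
  conv_lhs => rw [this, zpow_add_apply]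
  exact (x ^ j).injective.eq_iff

/-- the partner relation pairing `x^i a` with `x^i b` -/
def Partner {α : Type*} (x : Perm α) (a b c d : α) : Prop :=
  ∃ i : ℤ, (c = (x ^ i) a ∧ d = (x ^ i) b) ∨ (c = (x ^ i) b ∧ d = (x ^ i) a)

theorem Partner.symm {α : Type*} {x : Perm α} {a b c d : α} (h : Partner x a b c d) :
    Partner x a b d c := by
  obtain ⟨i, h | h⟩ := h
  · exact ⟨i, Or.inr ⟨h.2, h.1⟩⟩
  · exact ⟨i, Or.inl ⟨h.2, h.1⟩⟩

theorem Partner.zpow {α : Type*} {x : Perm α} {a b c d : α} (h : Partner x a b c d) (j : ℤ) :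
    Partner x a b ((x ^ j) c) ((x ^ j) d) := by
  obtain ⟨i, ⟨h1, h2⟩ | ⟨h1, h2⟩⟩ := h
  · exact ⟨j + i, Or.inl ⟨by rw [h1, zpow_add_apply], by rw [h2, zpow_add_apply]⟩⟩
  · exact ⟨j + i, Or.inr ⟨by rw [h1, zpow_add_apply], by rw [h2, zpow_add_apply]⟩⟩

theorem Partner.unique {α : Type*} {x : Perm α} {a b c d d' : α}
    (hper : Function.minimalPeriod x a = Function.minimalPeriod x b)
    (hab : ¬ x.SameCycle a b) (h : Partner x a b c d) (h' : Partner x a b c d') : d = d' := by
  obtain ⟨i, ⟨h1, h2⟩ | ⟨h1, h2⟩⟩ := h <;> obtain ⟨j, ⟨h1', h2'⟩ | ⟨h1', h2'⟩⟩ := h'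
  · rw [h2, h2', zpow_eq_zpow_iff_per, ← hper, ← zpow_eq_zpow_iff_per, ← h1, ← h1']
  · exfalso
    apply hab
    refine ⟨-j + i, ?_⟩
    rw [zpow_add_apply, ← h1, h1', ← zpow_add_apply]
    simp
  · exfalso
    apply hab
    refine ⟨-i + j, ?_⟩
    rw [zpow_add_apply, ← h1', h1, ← zpow_add_apply]
    simp
  · rw [h2, h2', zpow_eq_zpow_iff_per, hper, ← zpow_eq_zpow_iff_per, ← h1, ← h1']

/-- the elementary abelian group of permutations preserving every pair `{x^i a, x^i b}` and
fixing all other points -/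
def pairGroup {α : Type*} (x : Perm α) (a b : α)
    (hper : Function.minimalPeriod x a = Function.minimalPeriod x b)
    (hab : ¬ x.SameCycle a b) : Subgroup (Perm α) where
  carrier := {g | ∀ c, g c = c ∨ Partner x a b c (g c)}
  one_mem' := fun c => Or.inl rfl
  mul_mem' := by
    intro g g' hg hg' c
    change g (g' c) = c ∨ Partner x a b c (g (g' c))
    rcases hg' c with h1 | h1
    · rw [h1]; exact hg c
    · rcases hg (g' c) with h3 | h3
      · rw [h3]; exact Or.inr h1
      · left
        exact Partner.unique hper hab h3 h1.symm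
  inv_mem' := by
    intro g hg c
    rcases hg (g⁻¹ c) with h1 | h1
    · left
      have : g (g⁻¹ c) = c := g.apply_symm_apply c
      rw [this] at h1
      exact h1.symm
    · right
      have : g (g⁻¹ c) = c := g.apply_symm_apply c
      rw [this] at h1
      exact h1.symm

theorem mem_pairGroup {α : Type*} {x : Perm α} {a b : α}
    {hper : Function.minimalPeriod x a = Function.minimalPeriod x b}
    {hab : ¬ x.SameCycle a b} {g : Perm α} :
    g ∈ pairGroup x a b hper hab ↔ ∀ c, g c = c ∨ Partner x a b c (g c) := Iff.rfl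

theorem pairGroup_sq {α : Type*} {x : Perm α} {a b : α}
    {hper : Function.minimalPeriod x a = Function.minimalPeriod x b}
    {hab : ¬ x.SameCycle a b} {g : Perm α} (hg : g ∈ pairGroup x a b hper hab) : g * g = 1 := by
  ext c
  change g (g c) = c
  rcases hg c with h1 | h1
  · rw [h1, h1]
  · rcases hg (g c) with h3 | h3
    · have := g.injective h3
      rw [this, this]
    · exact Partner.unique hper hab h3 h1.symm

theorem pairGroup_isPGroup {α : Type*} {x : Perm α} {a b : α}
    {hper : Function.minimalPeriod x a = Function.minimalPeriod x b}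
    {hab : ¬ x.SameCycle a b} : IsPGroup 2 (pairGroup x a b hper hab) := by
  intro g
  refine ⟨1, Subtype.ext ?_⟩
  rw [Subgroup.coe_pow, pow_one, pow_two]
  exact pairGroup_sq g.2

theorem pairGroup_conj {α : Type*} {x : Perm α} {a b : α}
    {hper : Function.minimalPeriod x a = Function.minimalPeriod x b}
    {hab : ¬ x.SameCycle a b} {g : Perm α} (hg : g ∈ pairGroup x a b hper hab) (j : ℤ) :
    x ^ j * g * (x ^ j)⁻¹ ∈ pairGroup x a b hper hab := by
  intro c
  change (x ^ j) (g ((x ^ j)⁻¹ c)) = c ∨ Partner x a b c ((x ^ j) (g ((x ^ j)⁻¹ c)))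
  have hc : (x ^ j) ((x ^ j)⁻¹ c) = c := (x ^ j).apply_symm_apply c
  rcases hg ((x ^ j)⁻¹ c) with h1 | h1
  · left
    rw [h1, hc]
  · right
    have := h1.zpow j
    rw [hc] at this
    exact this

theorem swap_mem_pairGroup {α : Type*} [DecidableEq α] {x : Perm α} {a b : α}
    {hper : Function.minimalPeriod x a = Function.minimalPeriod x b}
    {hab : ¬ x.SameCycle a b} : swap a b ∈ pairGroup x a b hper hab := by
  intro c
  by_cases hca : c = a
  · right
    subst hca
    rw [swap_apply_left]
    exact ⟨0, Or.inl ⟨by simp, by simp⟩⟩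
  · by_cases hcb : c = b
    · right
      subst hcb
      rw [swap_apply_right]
      exact ⟨0, Or.inr ⟨by simp, by simp⟩⟩
    · left
      exact swap_apply_of_ne_of_ne hca hcb

/-- if `x` lies in a unique Sylow `2`-subgroup `P₀`, then the transposition of two points of equal
period in different cycles lies in `P₀` -/
theorem swap_mem_of_unique {α : Type*} [DecidableEq α] (x : Perm α)
    (hx2 : ∃ k : ℕ, x ^ 2 ^ k = 1) (P₀ : Sylow 2 (Perm α))
    (hU : ∀ P : Sylow 2 (Perm α), x ∈ P → P = P₀) (a b : α)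
    (hper : Function.minimalPeriod x a = Function.minimalPeriod x b)
    (hab : ¬ x.SameCycle a b) : swap a b ∈ P₀ := by
  have hZ := isPGroup_zpowers_pelt x hx2
  have hE : IsPGroup 2 (pairGroup x a b hper hab) := pairGroup_isPGroup
  have hn : Subgroup.zpowers x ≤
      Subgroup.normalizer ((pairGroup x a b hper hab : Subgroup (Perm α)) : Set (Perm α)) := by
    rw [Subgroup.zpowers_le, Subgroup.mem_normalizer_iff]
    intro g
    constructor
    · intro hg
      have := pairGroup_conj hg 1
      simpa using this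
    · intro hg
      have := pairGroup_conj hg (-1)
      have h2 : x ^ (-1 : ℤ) * (x * g * x⁻¹) * (x ^ (-1 : ℤ))⁻¹ = g := by
        rw [zpow_neg_one]; group
      rw [h2] at this
      exact this
  have hsup := hZ.to_sup_of_normal_right' hE hn
  obtain ⟨P, hP⟩ := hsup.exists_le_sylow
  have hxP : x ∈ P := hP ((le_sup_left : Subgroup.zpowers x ≤ _) (Subgroup.mem_zpowers x))
  have hsP : swap a b ∈ P :=
    hP ((le_sup_right : pairGroup x a b hper hab ≤ _) swap_mem_pairGroup)
  rw [← hU P hxP]
  exact hsP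

/-- a Sylow `2`-subgroup contains no `3`-cycle -/
theorem not_threeCycle_mem {α : Type*} [Fintype α] [DecidableEq α] (P : Sylow 2 (Perm α))
    (g : Perm α) (hg : g.IsThreeCycle) : g ∉ P := by
  intro hgP
  obtain ⟨k, hk⟩ := P.isPGroup' ⟨g, hgP⟩
  have h1 : g ^ 2 ^ k = 1 := by
    have := congrArg Subtype.val hk
    simpa using this
  have h2 : orderOf g ∣ 2 ^ k := orderOf_dvd_of_pow_eq_one h1
  rw [hg.orderOf] at h2
  have h3 : 3 ∣ 2 := Nat.Prime.dvd_of_dvd_pow Nat.prime_three h2
  omega

/-- (A) uniqueness of the Sylow `2`-subgroup forces at most two fixed points -/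
theorem fixed_le_two_of_unique {α : Type*} [Fintype α] [DecidableEq α] (x : Perm α)
    (hx2 : ∃ k : ℕ, x ^ 2 ^ k = 1) (P₀ : Sylow 2 (Perm α))
    (hU : ∀ P : Sylow 2 (Perm α), x ∈ P → P = P₀) (u v w : α)
    (hu : x u = u) (hv : x v = v) (hw : x w = w) : u = v ∨ u = w ∨ v = w := by
  by_contra hcon
  push Not at hcon
  obtain ⟨huv, huw, hvw⟩ := hcon
  have hper : ∀ c, x c = c → Function.minimalPeriod x c = 1 := fun c hc =>
    Function.minimalPeriod_eq_one_iff_isFixedPt.2 hc
  have hns : ∀ c d, x c = c → c ≠ d → ¬ x.SameCycle c d := by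
    rintro c d hc hcd ⟨i, hi⟩
    rw [Perm.zpow_apply_eq_self_of_apply_eq_self hc] at hi
    exact hcd hi
  have h1 := swap_mem_of_unique x hx2 P₀ hU u v (by rw [hper u hu, hper v hv]) (hns u v hu huv)
  have h2 := swap_mem_of_unique x hx2 P₀ hU u w (by rw [hper u hu, hper w hw]) (hns u w hu huw)
  exact not_threeCycle_mem P₀ _ (Perm.isThreeCycle_swap_mul_swap_same huv huw hvw)
    (mul_mem h1 h2)

/-- (B) uniqueness of the Sylow `2`-subgroup forces points of equal period (not fixed) to lie in
the same cycle -/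
theorem sameCycle_of_unique {α : Type*} [Fintype α] [DecidableEq α] (x : Perm α)
    (hx2 : ∃ k : ℕ, x ^ 2 ^ k = 1) (P₀ : Sylow 2 (Perm α))
    (hU : ∀ P : Sylow 2 (Perm α), x ∈ P → P = P₀) (a b : α) (hb : x b ≠ b)
    (hper : Function.minimalPeriod x a = Function.minimalPeriod x b) : x.SameCycle a b := by
  by_contra hab
  have hper' : Function.minimalPeriod x a = Function.minimalPeriod x (x b) := by
    rw [hper]
    exact (per_comm x x rfl b).symm
  have hab' : ¬ x.SameCycle a (x b) := by
    rintro ⟨i, hi⟩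
    apply hab
    refine ⟨-1 + i, ?_⟩
    rw [zpow_add_apply, hi, zpow_neg_one]
    exact x.symm_apply_apply b
  have h1 := swap_mem_of_unique x hx2 P₀ hU a b hper hab
  have h2 := swap_mem_of_unique x hx2 P₀ hU a (x b) hper' hab'
  have hne1 : a ≠ b := by
    rintro rfl
    exact hab ⟨0, by simp⟩
  have hne2 : a ≠ x b := by
    rintro rfl
    exact hab' ⟨0, by simp⟩
  exact not_threeCycle_mem P₀ _ (Perm.isThreeCycle_swap_mul_swap_same hne1 hne2 hb.symm)
    (mul_mem h1 h2)

end Cfsg.Agent.Helper4.SylPerm
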