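import Cfsg.Agent.Helper4.SylPermG

/-!
# Sylow 2-subgroups of symmetric groups containing a given 2-element (part H)

Translation of `Good x` into the number of fixed points and the cycle type.
-/

set_option autoImplicit false

namespace Cfsg.Agent.Helper4.SylPerm

open Equiv

theorem per_eq_card {α : Type*} [Fintype α] [DecidableEq α] (x : Perm α) (a : α)
    (ha : x a ≠ a) : Function.minimalPeriod x a = (x.cycleOf a).support.card := by
  apply Nat.dvd_antisymm
  · rw [← pow_apply_eq_iff]
    have := x.pow_mod_card_support_cycleOf_self_apply (x.cycleOf a).support.card a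
    rw [Nat.mod_self] at this
    simpa using this.symm
  · have hc : (x.cycleOf a).IsCycle := x.isCycle_cycleOf ha
    rw [← hc.orderOf]
    apply orderOf_dvd_of_pow_eq_one
    have hca : x.cycleOf a a ≠ a := by rw [Perm.cycleOf_apply_self]; exact ha
    rw [hc.pow_eq_one_iff' hca, Perm.cycleOf_pow_apply_self]
    exact (pow_apply_eq_iff x _ a).2 dvd_rfl

theorem good_iff {α : Type*} [Fintype α] [DecidableEq α] (x : Perm α) :
    Good x ↔ (Fintype.card α ≤ x.support.card + 2 ∧ x.cycleType.Nodup) := by
  have hmem : ∀ a, a ∈ x.supportᶜ ↔ x a = a := fun a => by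
    rw [Finset.mem_compl, Perm.mem_support, not_not]
  have hle : x.support.card ≤ Fintype.card α := Finset.card_le_univ _
  constructor
  · rintro ⟨h1, h2⟩
    constructor
    · by_contra hlt
      push Not at hlt
      have hc : 2 < x.supportᶜ.card := by rw [Finset.card_compl]; omega
      obtain ⟨a, ha, b, hb, c, hc', hab, hac, hbc⟩ := Finset.two_lt_card.1 hc
      rcases h1 a b c ((hmem a).1 ha) ((hmem b).1 hb) ((hmem c).1 hc') with h | h | h
      · exact hab h
      · exact hac h
      · exact hbc h
    · rw [Perm.cycleType_def, Multiset.nodup_map_iff_inj_on x.cycleFactorsFinset.nodup]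
      intro c₁ hc₁ c₂ hc₂ hcard
      rw [Finset.mem_val] at hc₁ hc₂
      obtain ⟨a, ha, -⟩ := (Perm.mem_cycleFactorsFinset_iff.1 hc₁).1
      obtain ⟨b, hb, -⟩ := (Perm.mem_cycleFactorsFinset_iff.1 hc₂).1
      have ha' : a ∈ c₁.support := Perm.mem_support.2 ha
      have hb' : b ∈ c₂.support := Perm.mem_support.2 hb
      have hxa : x a ≠ a := by
        rw [← (Perm.mem_cycleFactorsFinset_iff.1 hc₁).2 a ha']; exact ha
      have hxb : x b ≠ b := by
        rw [← (Perm.mem_cycleFactorsFinset_iff.1 hc₂).2 b hb']; exact hb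
      have e₁ : c₁ = x.cycleOf a := Perm.cycle_is_cycleOf ha' hc₁
      have e₂ : c₂ = x.cycleOf b := Perm.cycle_is_cycleOf hb' hc₂
      have hper : Function.minimalPeriod x a = Function.minimalPeriod x b := by
        rw [per_eq_card x a hxa, per_eq_card x b hxb, ← e₁, ← e₂]
        exact hcard
      obtain ⟨i, hi⟩ := h2 a b hxa hper
      have hsc : x.SameCycle a b := ⟨i, by simpa using hi⟩
      rw [e₁, e₂]
      exact hsc.cycleOf_eq
  · rintro ⟨h1, h2⟩
    constructor
    · intro a b c ha hb hc
      by_contra hcon
      push Not at hcon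
      obtain ⟨hab, hac, hbc⟩ := hcon
      have h3 : 2 < x.supportᶜ.card :=
        Finset.two_lt_card.2 ⟨a, (hmem a).2 ha, b, (hmem b).2 hb, c, (hmem c).2 hc, hab, hac, hbc⟩
      rw [Finset.card_compl] at h3
      omega
    · intro a b ha hper
      have hb : x b ≠ b := by
        intro hb
        have h3 : Function.minimalPeriod x b = 1 :=
          Function.minimalPeriod_eq_one_iff_isFixedPt.2 hb
        rw [h3] at hper
        exact ha (Function.minimalPeriod_eq_one_iff_isFixedPt.1 hper)
      rw [Perm.cycleType_def, Multiset.nodup_map_iff_inj_on x.cycleFactorsFinset.nodup] at h2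
      have hm₁ : x.cycleOf a ∈ x.cycleFactorsFinset :=
        Perm.cycleOf_mem_cycleFactorsFinset_iff.2 (Perm.mem_support.2 ha)
      have hm₂ : x.cycleOf b ∈ x.cycleFactorsFinset :=
        Perm.cycleOf_mem_cycleFactorsFinset_iff.2 (Perm.mem_support.2 hb)
      have heq : x.cycleOf a = x.cycleOf b := by
        apply h2 _ hm₁ _ hm₂
        change (x.cycleOf a).support.card = (x.cycleOf b).support.card
        rw [← per_eq_card x a ha, ← per_eq_card x b hb, hper]
      have hsc : x.SameCycle a b :=
        (Perm.sameCycle_iff_cycleOf_eq_of_mem_support (Perm.mem_support.2 ha)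
          (Perm.mem_support.2 hb)).2 heq
      exact hsc.exists_nat_pow_eq

end Cfsg.Agent.Helper4.SylPerm
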