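import Mathlib
import Cfsg.Agent.Helper4.SylowLinesA

set_option autoImplicit false

namespace Cfsg.Agent.Helper4

variable {G : Type*} [Group G] [Finite G] {p : ℕ} [hp : Fact p.Prime]

theorem card_sylow_eq_prime_of_few [IsSimpleGroup G] (hG : ¬ IsMulCommutative G)
    (hpd : p ∣ Nat.card G) (hn : Nat.card (Sylow p G) < p ^ 2) (P : Sylow p G) :
    Nat.card (P : Subgroup G) = p := by
  classical
  obtain ⟨k, hk⟩ := IsPGroup.iff_card.1 P.isPGroup'
  have hPbot : (P : Subgroup G) ≠ ⊥ := P.ne_bot_of_dvd_card hpd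
  by_contra hne
  have hk2 : 2 ≤ k := by
    by_contra hk2
    have hk01 : k = 0 ∨ k = 1 := by omega
    rcases hk01 with rfl | rfl
    · rw [pow_zero] at hk
      exact hPbot ((Subgroup.card_eq_one).1 hk)
    · rw [pow_one] at hk
      exact hne hk
  obtain ⟨Q, hQ⟩ : ∃ Q : Sylow p G, ¬ (P : Subgroup G) ≤ Q := exists_sylow_not_le hG P P hPbot
  have hPQ : P ≠ Q := fun h => hQ (by rw [← h])
  obtain ⟨D, hDdef⟩ : ∃ D : Subgroup G, D = (P : Subgroup G) ⊓ Q := ⟨_, rfl⟩
  have hDP : D ≤ P := by rw [hDdef]; exact inf_le_left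
  have hDQ : D ≤ Q := by rw [hDdef]; exact inf_le_right
  have hDidx : D.relIndex (P : Subgroup G) = p := by
    rw [hDdef, inf_comm]; exact relIndex_inf_sylow_eq_prime hn P Q hPQ
  have hD : D ≠ ⊥ := by
    intro hD0
    rw [hD0, Subgroup.relIndex_bot_left, hk] at hDidx
    have h1 : p ^ 2 ≤ p ^ k := Nat.pow_le_pow_right hp.out.pos hk2
    have h2 : p < p ^ 2 := by
      have := hp.out.one_lt
      nlinarith
    omega
  obtain ⟨R, hR⟩ := exists_sylow_not_le hG P D hD
  have hfin : Fintype (Sylow p G) := Fintype.ofFinite _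
  obtain ⟨ℓ, hℓ⟩ : ∃ ℓ : Finset (Sylow p G), ℓ = Finset.univ.filter
      (fun S : Sylow p G => D ≤ (S : Subgroup G)) := ⟨_, rfl⟩
  obtain ⟨A, hA⟩ : ∃ A : Sylow p G → Finset (Sylow p G), A = fun S : Sylow p G => Finset.univ.filter
      (fun T : Sylow p G => (R : Subgroup G) ⊓ (S : Subgroup G) ≤ (T : Subgroup G) ∧ T ≠ R) :=
    ⟨_, rfl⟩
  have hmemℓ : ∀ S : Sylow p G, S ∈ ℓ ↔ D ≤ (S : Subgroup G) := by
    intro S; rw [hℓ]; simp
  have hmemA : ∀ S T : Sylow p G, T ∈ A S ↔ ((R : Subgroup G) ⊓ S ≤ (T : Subgroup G) ∧ T ≠ R) := by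
    intro S T; rw [hA]; simp
  have hℓcard : p + 1 ≤ ℓ.card := by
    have h1 := ncard_sylow_ge D P Q hPQ hDP hDQ
    have hset : {T : Sylow p G | D ≤ (T : Subgroup G)} = (ℓ : Set (Sylow p G)) := by
      ext T
      rw [Finset.mem_coe, hmemℓ]; rfl
    rw [hset, Set.ncard_coe_finset] at h1
    exact h1
  have hSR : ∀ S ∈ ℓ, S ≠ R := by
    intro S hS hSR
    rw [hmemℓ, hSR] at hS
    exact hR hS
  have hAcard : ∀ S ∈ ℓ, p ≤ (A S).card := by
    intro S hS
    have hne := hSR S hS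
    have h1 := ncard_sylow_ge ((R : Subgroup G) ⊓ S) R S (Ne.symm hne) inf_le_left inf_le_right
    have hset : {T : Sylow p G | (R : Subgroup G) ⊓ S ≤ (T : Subgroup G)} =
        ((insert R (A S) : Finset (Sylow p G)) : Set (Sylow p G)) := by
      ext T
      rw [Finset.mem_coe, Finset.mem_insert, hmemA]
      constructor
      · intro h
        by_cases hT : T = R
        · left; exact hT
        · right; exact ⟨h, hT⟩
      · rintro (h | ⟨h, -⟩)
        · rw [h]; exact (inf_le_left : (R : Subgroup G) ⊓ S ≤ R)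
        · exact h
    have hnot : R ∉ A S := by
      rw [hmemA]; exact fun h => h.2 rfl
    rw [hset, Set.ncard_coe_finset, Finset.card_insert_of_notMem hnot] at h1
    omega
  have hdisj : ∀ S ∈ ℓ, ∀ S' ∈ ℓ, S ≠ S' → Disjoint (A S) (A S') := by
    intro S hS S' hS' hne
    rw [Finset.disjoint_left]
    intro T hT hT'
    rw [hmemA] at hT hT'
    obtain ⟨hT1, hTR⟩ := hT
    obtain ⟨hT1', -⟩ := hT'
    have hRS := hSR S hS
    have hRS' := hSR S' hS'
    have e1 : (R : Subgroup G) ⊓ T = (R : Subgroup G) ⊓ S :=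
      inf_sylow_eq_of_le hn R T (Ne.symm hTR) _ inf_le_left hT1
        (by rw [inf_comm]; exact relIndex_inf_sylow_eq_prime hn R S (Ne.symm hRS))
    have e2 : (R : Subgroup G) ⊓ T = (R : Subgroup G) ⊓ S' :=
      inf_sylow_eq_of_le hn R T (Ne.symm hTR) _ inf_le_left hT1'
        (by rw [inf_comm]; exact relIndex_inf_sylow_eq_prime hn R S' (Ne.symm hRS'))
    have e3 : (S : Subgroup G) ⊓ S' = (R : Subgroup G) ⊓ S :=
      inf_sylow_eq_of_le hn S S' hne _ inf_le_right (by rw [← e1, e2]; exact inf_le_right)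
        (relIndex_inf_sylow_eq_prime hn S R hRS)
    apply hR
    have hDS : D ≤ S := (hmemℓ S).1 hS
    have hDS' : D ≤ S' := (hmemℓ S').1 hS'
    have h5 : D ≤ (S : Subgroup G) ⊓ S' := le_inf hDS hDS'
    rw [e3] at h5
    exact h5.trans inf_le_left
  have hsub : ℓ.biUnion A ⊆ Finset.univ.erase R := by
    intro T hT
    rw [Finset.mem_biUnion] at hT
    obtain ⟨S, -, hTS⟩ := hT
    rw [hmemA] at hTS
    rw [Finset.mem_erase]
    exact ⟨hTS.2, Finset.mem_univ _⟩
  have hcard := Finset.card_le_card hsub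
  rw [Finset.card_biUnion hdisj, Finset.card_erase_of_mem (Finset.mem_univ R), Finset.card_univ,
    ← Nat.card_eq_fintype_card] at hcard
  have hsum : ℓ.card * p ≤ ∑ S ∈ ℓ, (A S).card := by
    rw [← smul_eq_mul, ← Finset.sum_const]
    exact Finset.sum_le_sum hAcard
  have h6 : (p + 1) * p ≤ ℓ.card * p := Nat.mul_le_mul_right p hℓcard
  have h7 : p ^ 2 = p * p := sq p
  have h8 : (p + 1) * p = p * p + p := by ring
  omega

end Cfsg.Agent.Helper4
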