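import Mathlib
import Cfsg.Prelude.Def_OddOrderLocal
import Cfsg.Agent.Helper4.WielandtFrob
import Cfsg.Agent.Helper4.ConjUnion

/-!
# TI Hall subgroups with a normal complement in their normalizer

`H ≤ G` a TI subgroup whose normalizer is `M = K₀ × H` with `(|K₀|, |H|) = 1`.  Then `H` has a
normal complement in `G` (via Wielandt's generalization of Frobenius' theorem).
-/

set_option autoImplicit false

namespace Cfsg.Agent.Helper4.TIHall

universe u

open scoped Pointwise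

variable {G : Type u} [Group G]

theorem pow_card_eq_one_of_mem {S : Subgroup G} [Finite S] {x : G} (hx : x ∈ S) :
    x ^ Nat.card S = 1 := by
  have h := pow_card_eq_one' (G := S) (x := ⟨x, hx⟩)
  have h2 : ((⟨x, hx⟩ : S) ^ Nat.card S : S).1 = 1 := by rw [h]; rfl
  exact h2

theorem eq_one_of_pow_coprime {x : G} {a b : ℕ} (hab : a.Coprime b) (ha : x ^ a = 1)
    (hb : x ^ b = 1) : x = 1 := by
  have hd1 := orderOf_dvd_of_pow_eq_one ha
  have hd2 := orderOf_dvd_of_pow_eq_one hb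
  have h3 := Nat.dvd_gcd hd1 hd2
  rw [hab] at h3
  exact orderOf_eq_one_iff.1 (Nat.dvd_one.1 h3)

/-- internal data: `H` is TI with normalizer `M = K₀ × H`, `(|K₀|, |H|) = 1`. -/
structure Data (H K₀ M : Subgroup G) : Prop where
  hM : M = Subgroup.normalizer (H : Set G)
  hTI : ∀ g : G, g ∉ M → ∀ x ∈ H, g * x * g⁻¹ ∈ H → x = 1
  hKM : K₀ ≤ M
  hKn : ∀ m ∈ M, ∀ k ∈ K₀, m * k * m⁻¹ ∈ K₀
  hKH : ∀ x, x ∈ K₀ → x ∈ H → x = 1
  hdec : ∀ m ∈ M, ∃ k ∈ K₀, ∃ h ∈ H, m = k * h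
  hcop : (Nat.card K₀).Coprime (Nat.card H)

namespace Data

variable {H K₀ M : Subgroup G}

theorem hHM (D : Data H K₀ M) : H ≤ M := by
  rw [D.hM]; exact Subgroup.le_normalizer

theorem hHn (D : Data H K₀ M) : ∀ m ∈ M, ∀ h ∈ H, m * h * m⁻¹ ∈ H := by
  intro m hm h hh
  rw [D.hM] at hm
  exact (Subgroup.mem_normalizer_iff.1 hm h).1 hh

theorem comm (D : Data H K₀ M) : ∀ k ∈ K₀, ∀ h ∈ H, k * h = h * k := by
  intro k hk h hh
  have hcH : k * h * k⁻¹ * h⁻¹ ∈ H :=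
    H.mul_mem (D.hHn k (D.hKM hk) h hh) (H.inv_mem hh)
  have hcK : k * h * k⁻¹ * h⁻¹ ∈ K₀ := by
    have h1 : h * k⁻¹ * h⁻¹ ∈ K₀ := D.hKn h (D.hHM hh) k⁻¹ (K₀.inv_mem hk)
    have h2 : k * h * k⁻¹ * h⁻¹ = k * (h * k⁻¹ * h⁻¹) := by group
    rw [h2]
    exact K₀.mul_mem hk h1
  have h1 : k * h * k⁻¹ * h⁻¹ = 1 := D.hKH _ hcK hcH
  calc k * h = (k * h * k⁻¹ * h⁻¹) * (h * k) := by group
    _ = h * k := by rw [h1, one_mul]

theorem mem_H_of_pow [Finite G] (D : Data H K₀ M) :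
    ∀ m ∈ M, m ^ Nat.card H = 1 → m ∈ H := by
  intro m hm hpow
  obtain ⟨k, hk, h, hh, rfl⟩ := D.hdec m hm
  have hc : Commute k h := D.comm k hk h hh
  rw [hc.mul_pow, pow_card_eq_one_of_mem hh, mul_one] at hpow
  have hk1 : k = 1 := eq_one_of_pow_coprime D.hcop (pow_card_eq_one_of_mem hk) hpow
  rw [hk1, one_mul]
  exact hh

theorem relTI [Finite G] (D : Data H K₀ M) :
    ∀ g : G, g ∉ M → ∀ y ∈ M, g * y * g⁻¹ ∈ M → y ∈ K₀ := by
  intro g hg y hy hgy
  obtain ⟨k, hk, h, hh, rfl⟩ := D.hdec y hy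
  have hc : Commute k h := D.comm k hk h hh
  have hye : (k * h) ^ Nat.card K₀ = h ^ Nat.card K₀ := by
    rw [hc.mul_pow, pow_card_eq_one_of_mem hk, one_mul]
  have hconj : g * h ^ Nat.card K₀ * g⁻¹ = (g * (k * h) * g⁻¹) ^ Nat.card K₀ := by
    rw [conj_pow, hye]
  have hmemM : g * h ^ Nat.card K₀ * g⁻¹ ∈ M := by
    rw [hconj]; exact M.pow_mem hgy _
  have hpow1 : (g * h ^ Nat.card K₀ * g⁻¹) ^ Nat.card H = 1 := by
    rw [conj_pow, ← pow_mul, mul_comm, pow_mul, pow_card_eq_one_of_mem hh, one_pow, mul_one,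
      mul_inv_cancel]
  have hmemH : g * h ^ Nat.card K₀ * g⁻¹ ∈ H := D.mem_H_of_pow _ hmemM hpow1
  have he1 : h ^ Nat.card K₀ = 1 := D.hTI g hg _ (H.pow_mem hh _) hmemH
  have hh1 : h = 1 := eq_one_of_pow_coprime D.hcop he1 (pow_card_eq_one_of_mem hh)
  rw [hh1, mul_one]
  exact hk

/-- the normal complement -/
theorem exists_normal [Finite G] (D : Data H K₀ M) :
    ∃ N : Subgroup G, N.Normal ∧ K₀ ≤ N ∧ (∀ x ∈ N, x ∈ M → x ∈ K₀) ∧
      (∀ g : G, g ∉ N → ∃ x : G, x⁻¹ * g * x ∈ M ∧ x⁻¹ * g * x ∉ K₀) ∧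
      N.IsComplement' H := by
  obtain ⟨N, hNn, hNM, hNoff⟩ := WFrob.exists_normal_of_relTI M K₀ D.hKn D.relTI
  have hoff' : ∀ g : G, g ∉ N → ∃ x : G, x⁻¹ * g * x ∈ M ∧ x⁻¹ * g * x ∉ K₀ := by
    intro g hg
    by_contra hcon
    push Not at hcon
    exact hg (hNoff g hcon)
  have hKN : K₀ ≤ N := by
    intro k hk
    apply hNoff
    intro x hx
    by_cases hxM : x ∈ M
    · have h1 := D.hKn x⁻¹ (M.inv_mem hxM) k hk
      rwa [inv_inv] at h1
    · apply D.relTI x hxM _ hx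
      have e : x * (x⁻¹ * k * x) * x⁻¹ = k := by group
      rw [e]
      exact D.hKM hk
  have hsup : N ⊔ M = ⊤ := by
    by_contra hne
    obtain ⟨g, hg⟩ := exists_not_mem_conj (N ⊔ M) hne
    by_cases hgN : g ∈ N
    · apply hg 1
      rw [inv_one, one_mul, mul_one]
      exact (le_sup_left : N ≤ N ⊔ M) hgN
    · obtain ⟨x, hx, -⟩ := hoff' g hgN
      exact hg x ((le_sup_right : M ≤ N ⊔ M) hx)
  refine ⟨N, hNn, hKN, hNM, hoff', ?_⟩
  apply Subgroup.isComplement'_of_disjoint_and_mul_eq_univ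
  · rw [Subgroup.disjoint_def]
    intro x hxN hxH
    exact D.hKH x (hNM x hxN (D.hHM hxH)) hxH
  · rw [Set.eq_univ_iff_forall]
    intro g
    have hg : g ∈ N ⊔ M := by rw [hsup]; trivial
    rw [← SetLike.mem_coe, Subgroup.normal_mul] at hg
    obtain ⟨n, hn, m, hm, rfl⟩ := Set.mem_mul.mp hg
    obtain ⟨k, hk, h, hh, rfl⟩ := D.hdec m hm
    refine Set.mem_mul.mpr ⟨n * k, N.mul_mem hn (hKN hk), h, hh, ?_⟩
    rw [mul_assoc]

end Data

/-- the data from a normal complement `K` of `H` in its normalizer -/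
theorem data_of_complement [Finite G] (H : Subgroup G)
    (hTI : Cfsg.IsTISubset (H : Set G))
    (hHall : (Nat.card H).Coprime (H.subgroupOf (Subgroup.normalizer (H : Set G))).index)
    (K : Subgroup (Subgroup.normalizer (H : Set G))) (hKn : K.Normal)
    (hK : K.IsComplement' (H.subgroupOf (Subgroup.normalizer (H : Set G)))) :
    Data H (K.map (Subgroup.normalizer (H : Set G)).subtype) (Subgroup.normalizer (H : Set G)) := by
  refine ⟨rfl, ?_, ?_, ?_, ?_, ?_, ?_⟩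
  · intro g hg x hx hgx
    exact hTI g hg x hx hgx
  · exact Subgroup.map_subtype_le K
  · intro m hm k hk
    obtain ⟨k', hk', rfl⟩ := Subgroup.mem_map.1 hk
    refine Subgroup.mem_map.2 ⟨⟨m, hm⟩ * k' * ⟨m, hm⟩⁻¹, hKn.conj_mem k' hk' ⟨m, hm⟩, rfl⟩
  · intro x hxK hxH
    obtain ⟨k', hk', rfl⟩ := Subgroup.mem_map.1 hxK
    have h1 : k' ∈ K ⊓ H.subgroupOf (Subgroup.normalizer (H : Set G)) :=
      ⟨hk', Subgroup.mem_subgroupOf.2 hxH⟩
    rw [hK.disjoint.eq_bot, Subgroup.mem_bot] at h1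
    rw [h1]; rfl
  · intro m hm
    have h1 : (⟨m, hm⟩ : Subgroup.normalizer (H : Set G)) ∈
        (K : Set (Subgroup.normalizer (H : Set G))) *
          (H.subgroupOf (Subgroup.normalizer (H : Set G)) :
            Set (Subgroup.normalizer (H : Set G))) := by
      rw [(Subgroup.isComplement'_def.1 hK).mul_eq]; trivial
    obtain ⟨k', hk', h', hh', he⟩ := Set.mem_mul.mp h1
    refine ⟨k', Subgroup.mem_map.2 ⟨k', hk', rfl⟩, h', Subgroup.mem_subgroupOf.1 hh', ?_⟩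
    have := congrArg Subtype.val he
    exact this.symm
  · have h1 : Nat.card (K.map (Subgroup.normalizer (H : Set G)).subtype) = Nat.card K :=
      (Nat.card_congr (K.equivMapOfInjective _
        (Subgroup.subtype_injective _)).toEquiv).symm
    rw [h1, ← hK.index_eq_card]
    exact hHall.symm

end Cfsg.Agent.Helper4.TIHall
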