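import Mathlib
import Cfsg.Agent.Helper4.TIHallA

/-!
# TI Hall subgroups, continued: the action of `H` on the normal complement `N`
-/

set_option autoImplicit false

namespace Cfsg.Agent.Helper4.TIHall

universe u

open scoped Pointwise

variable {G : Type u} [Group G]

theorem conj_pow' (x a : G) (n : ℕ) : (x⁻¹ * a * x) ^ n = x⁻¹ * a ^ n * x := by
  have h := conj_pow (a := x⁻¹) (b := a) (i := n)
  rwa [inv_inv] at h

theorem card_modEq_card_fixed {X : Type*} [Finite X] (σ : Equiv.Perm X) (q : ℕ)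
    [hq : Fact q.Prime] (hσ : σ ^ q = 1) :
    Nat.card X ≡ Nat.card {x : X // σ x = x} [MOD q] := by
  classical
  haveI := Fintype.ofFinite X
  have h1 := Equiv.Perm.card_compl_support_modEq (p := q) (n := 1) (σ := σ)
    (by rw [pow_one]; exact hσ)
  rw [Nat.card_eq_fintype_card, Nat.card_eq_fintype_card]
  have h2 : Fintype.card {x : X // σ x = x} = σ.supportᶜ.card := by
    rw [Fintype.card_subtype]
    congr 1
    ext x
    simp [Equiv.Perm.mem_support]
  rw [h2]
  exact h1.symm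

/-- data with the normal complement `N` -/
structure Data2 (H K₀ M N : Subgroup G) : Prop where
  toData : Data H K₀ M
  hNn : N.Normal
  hKN : K₀ ≤ N
  hNM : ∀ x ∈ N, x ∈ M → x ∈ K₀
  hoff : ∀ g : G, g ∉ N → ∃ x : G, x⁻¹ * g * x ∈ M ∧ x⁻¹ * g * x ∉ K₀
  hc : N.IsComplement' H

namespace Data2

variable {H K₀ M N : Subgroup G}

theorem cent_le (D : Data2 H K₀ M N) :
    ∀ h ∈ H, h ≠ 1 → ∀ n ∈ N, n * h = h * n → n ∈ K₀ := by
  intro h hh h1 n hn hnh
  apply D.hNM n hn
  by_contra hnM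
  apply h1
  apply D.toData.hTI n hnM h hh
  rw [hnh, mul_inv_cancel_right]
  exact hh

theorem mem_of_coset_fixed [Finite G] (D : Data2 H K₀ M N) (h : G) (hh : h ∈ H) (h1 : h ≠ 1)
    (w : G) (hw : w ∈ N) (hc : w⁻¹ * (h * w * h⁻¹) ∈ K₀) : w ∈ K₀ := by
  obtain ⟨c, hcdef⟩ : ∃ c : G, c = w⁻¹ * (h * w * h⁻¹) := ⟨_, rfl⟩
  rw [← hcdef] at hc
  have hch : c * h = h * c := D.toData.comm c hc h hh
  have e2 : h * w * h⁻¹ = w * c := by rw [hcdef]; group
  have hpow : ∀ j : ℕ, h ^ j * w * (h ^ j)⁻¹ = w * c ^ j := by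
    intro j
    induction j with
    | zero => simp
    | succ j ih =>
      have e1 : h ^ (j + 1) * w * (h ^ (j + 1))⁻¹ = h * (h ^ j * w * (h ^ j)⁻¹) * h⁻¹ := by
        rw [pow_succ']; group
      rw [e1, ih]
      have e3 : h * c ^ j * h⁻¹ = c ^ j := by
        have hcm : Commute h c := hch.symm
        rw [(hcm.pow_right j).eq, mul_inv_cancel_right]
      calc h * (w * c ^ j) * h⁻¹ = (h * w * h⁻¹) * (h * c ^ j * h⁻¹) := by group
        _ = w * c * c ^ j := by rw [e2, e3]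
        _ = w * c ^ (j + 1) := by rw [pow_succ', mul_assoc]
  have h2 := hpow (orderOf h)
  rw [pow_orderOf_eq_one, one_mul, inv_one, mul_one] at h2
  have hce : c ^ orderOf h = 1 := by
    have h3 : w * 1 = w * c ^ orderOf h := by rw [mul_one]; exact h2
    exact (mul_left_cancel h3).symm
  have hcK : c ^ Nat.card K₀ = 1 := pow_card_eq_one_of_mem hc
  have hcop : (Nat.card K₀).Coprime (orderOf h) :=
    Nat.Coprime.coprime_dvd_right
      (orderOf_dvd_of_pow_eq_one (pow_card_eq_one_of_mem hh)) D.toData.hcop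
  have hc1 : c = 1 := eq_one_of_pow_coprime hcop hcK hce
  apply D.cent_le h hh h1 w hw
  rw [hc1, mul_one] at e2
  calc w * h = (h * w * h⁻¹) * h := by rw [e2]
    _ = h * w := by group

theorem conj_mem_H [Finite G] (D : Data2 H K₀ M N) (a : G) (ha : a ∉ N)
    (hpow : a ^ Nat.card H = 1) : ∃ x : G, x * a * x⁻¹ ∈ H := by
  obtain ⟨x, hx, -⟩ := D.hoff a ha
  refine ⟨x⁻¹, ?_⟩
  rw [inv_inv]
  apply D.toData.mem_H_of_pow _ hx
  rw [conj_pow', hpow, mul_one, inv_mul_cancel]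

theorem coprime [Finite G] (D : Data2 H K₀ M N) : (Nat.card N).Coprime (Nat.card H) := by
  apply Nat.Coprime.symm
  apply Nat.coprime_of_dvd
  intro q hq hqH hqN
  haveI : Fact q.Prime := ⟨hq⟩
  haveI := D.hNn
  obtain ⟨a', ha'⟩ := exists_prime_orderOf_dvd_card' (G := H) q hqH
  have hao : orderOf (a' : G) = q := by rw [Subgroup.orderOf_coe, ha']
  have ha1 : (a' : G) ≠ 1 := by
    intro h
    rw [h, orderOf_one] at hao
    exact hq.one_lt.ne hao
  obtain ⟨σ, hσdef⟩ : ∃ σ : Equiv.Perm ↥N,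
      σ = MulAut.toPerm ↥N (MulAut.conjNormal (a' : G)) := ⟨_, rfl⟩
  have hσ : σ ^ q = 1 := by
    rw [hσdef, ← map_pow, ← map_pow, ← hao, pow_orderOf_eq_one, map_one, map_one]
  have hσa : ∀ n : ↥N, ((σ n : ↥N) : G) = (a' : G) * n * (a' : G)⁻¹ := by
    intro n
    rw [hσdef]
    rfl
  have hfix : ∀ n : ↥N, σ n = n ↔ n ∈ K₀.subgroupOf N := by
    intro n
    rw [Subgroup.mem_subgroupOf]
    constructor
    · intro h
      have h2 : (a' : G) * n * (a' : G)⁻¹ = n := by rw [← hσa, h]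
      apply D.cent_le a' a'.2 ha1 n n.2
      calc (n : G) * a' = ((a' : G) * n * (a' : G)⁻¹) * a' := by rw [h2]
        _ = a' * n := by group
    · intro h
      apply Subtype.ext
      rw [hσa, ← D.toData.comm n h a' a'.2, mul_inv_cancel_right]
  have hcard : Nat.card {n : ↥N // σ n = n} = Nat.card K₀ := by
    rw [Nat.card_congr (Equiv.subtypeEquivRight hfix)]
    exact Nat.card_congr (Subgroup.subgroupOfEquivOfLe D.hKN).toEquiv
  have hmod := card_modEq_card_fixed σ q hσ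
  rw [hcard] at hmod
  have hqK : q ∣ Nat.card K₀ := by
    have h0 : Nat.card ↥N ≡ 0 [MOD q] := (Nat.modEq_zero_iff_dvd).2 hqN
    exact (Nat.modEq_zero_iff_dvd).1 (hmod.symm.trans h0)
  have h3 := Nat.dvd_gcd hqK hqH
  rw [D.toData.hcop] at h3
  exact hq.one_lt.ne' (Nat.dvd_one.1 h3)

end Data2

end Cfsg.Agent.Helper4.TIHall
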