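import Mathlib
import Cfsg.Prelude.Def_Solvable
import Cfsg.Agent.Helper1.Frobenius
import Cfsg.Agent.Helper4.Frobenius
import Cfsg.Agent.Helper4.TIHallB

/-!
# TI Hall subgroups: conjugacy of complements of the normal complement `N`
-/

set_option autoImplicit false

namespace Cfsg.Agent.Helper4.TIHall

universe u

open scoped Pointwise

variable {G : Type u} [Group G]

/-- the subgroup `H₁ ∩ x⁻¹Hx` of `H₁` -/
def conjSub (H₁ H : Subgroup G) (x : G) : Subgroup ↥H₁ where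
  carrier := {a | x * (a : G) * x⁻¹ ∈ H}
  one_mem' := by
    show x * ((1 : ↥H₁) : G) * x⁻¹ ∈ H
    rw [Subgroup.coe_one, mul_one, mul_inv_cancel]; exact H.one_mem
  mul_mem' := by
    intro a b ha hb
    show x * ((a * b : ↥H₁) : G) * x⁻¹ ∈ H
    have e : x * ((a * b : ↥H₁) : G) * x⁻¹ = (x * a * x⁻¹) * (x * b * x⁻¹) := by
      rw [Subgroup.coe_mul]; group
    rw [e]; exact H.mul_mem ha hb
  inv_mem' := by
    intro a ha
    show x * ((a⁻¹ : ↥H₁) : G) * x⁻¹ ∈ H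
    have e : x * ((a⁻¹ : ↥H₁) : G) * x⁻¹ = (x * a * x⁻¹)⁻¹ := by
      rw [Subgroup.coe_inv]; group
    rw [e]; exact H.inv_mem ha

theorem mem_conjSub {H₁ H : Subgroup G} {x : G} {a : ↥H₁} :
    a ∈ conjSub H₁ H x ↔ x * (a : G) * x⁻¹ ∈ H := Iff.rfl

namespace Data2

variable {H K₀ M N : Subgroup G}

theorem exists_conj_of_card_eq [Finite G] (D : Data2 H K₀ M N) (H₁ : Subgroup G)
    (hcard : Nat.card H₁ = Nat.card H) (hdisj : ∀ a ∈ H₁, a ∈ N → a = 1) :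
    ∃ x : G, ∀ a ∈ H₁, x * a * x⁻¹ ∈ H := by
  classical
  by_contra hcon
  push Not at hcon
  have hntop : ∀ x : G, conjSub H₁ H x ≠ ⊤ := by
    intro x htop
    obtain ⟨a, ha, hax⟩ := hcon x
    apply hax
    have h1 : (⟨a, ha⟩ : ↥H₁) ∈ conjSub H₁ H x := by rw [htop]; trivial
    exact h1
  have hpowH₁ : ∀ a ∈ H₁, a ^ Nat.card H = 1 := by
    intro a ha; rw [← hcard]; exact pow_card_eq_one_of_mem ha
  have hA : ∀ a : ↥H₁, a ≠ 1 → ∃ x : G, a ∈ conjSub H₁ H x := by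
    intro a ha1
    have haN : (a : G) ∉ N := fun h => ha1 (Subtype.ext (hdisj a a.2 h))
    exact D.conj_mem_H a haN (hpowH₁ a a.2)
  have hkey : ∀ u v b : G, b ≠ 1 → u * b * u⁻¹ ∈ H → v * b * v⁻¹ ∈ H → u * v⁻¹ ∈ M := by
    intro u v b hb hu hv
    by_contra hg
    apply hb
    have hy := D.toData.hTI (u * v⁻¹) hg (v * b * v⁻¹) hv (by
      have e : u * v⁻¹ * (v * b * v⁻¹) * (u * v⁻¹)⁻¹ = u * b * u⁻¹ := by group
      rw [e]; exact hu)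
    have e : b = v⁻¹ * (v * b * v⁻¹) * v := by group
    rw [e, hy]; group
  have hfrob : ∀ x : G, conjSub H₁ H x ≠ ⊥ →
      Cfsg.IsFrobeniusComplement (conjSub H₁ H x) := by
    intro x hbot
    refine ⟨hbot, hntop x, ?_⟩
    intro a ha
    rw [eq_bot_iff]
    intro b hb
    rw [Subgroup.mem_bot]
    by_contra hb1
    obtain ⟨hb1', hb2⟩ := Subgroup.mem_inf.mp hb
    rw [Cfsg.Agent.Helper4.mem_conj_smul_iff] at hb2
    apply ha
    rw [mem_conjSub]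
    have hbG : (b : G) ≠ 1 := fun h => hb1 (Subtype.ext h)
    have h1 : x * (a : G)⁻¹ * (b : G) * (x * (a : G)⁻¹)⁻¹ ∈ H := by
      have e : x * (a : G)⁻¹ * (b : G) * (x * (a : G)⁻¹)⁻¹ =
          x * ((a⁻¹ * b * a : ↥H₁) : G) * x⁻¹ := by
        simp only [Subgroup.coe_mul, Subgroup.coe_inv]; group
      rw [e]; exact hb2
    have h2 := hkey (x * (a : G)⁻¹) x b hbG h1 hb1'
    have h3 : x * (a : G) * x⁻¹ ∈ M := by
      have e : x * (a : G) * x⁻¹ = (x * (a : G)⁻¹ * x⁻¹)⁻¹ := by group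
      rw [e]; exact M.inv_mem h2
    apply D.toData.mem_H_of_pow _ h3
    rw [conj_pow, hpowH₁ a a.2, mul_one, mul_inv_cancel]
  -- counting
  obtain ⟨a₀, ha₀, ha₀H⟩ := hcon 1
  have ha₀1 : (⟨a₀, ha₀⟩ : ↥H₁) ≠ 1 := by
    intro h
    apply ha₀H
    have h1 : a₀ = 1 := congrArg Subtype.val h
    rw [h1]; simp
  obtain ⟨x₁, hx₁⟩ := hA ⟨a₀, ha₀⟩ ha₀1
  have hD₁bot : conjSub H₁ H x₁ ≠ ⊥ := by
    intro h
    rw [h, Subgroup.mem_bot] at hx₁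
    exact ha₀1 hx₁
  have hF₁ := hfrob x₁ hD₁bot
  have hcount₁ := (Cfsg.Agent.Helper1.frobenius_count (conjSub H₁ H x₁) hF₁).1
  have hidx₁ : 2 ≤ (conjSub H₁ H x₁).index := by
    have h1 : (conjSub H₁ H x₁).index ≠ 1 := fun h => hntop x₁ (Subgroup.index_eq_one.mp h)
    have h0 : (conjSub H₁ H x₁).index ≠ 0 := Subgroup.index_ne_zero_of_finite
    omega
  have hnt : Nontrivial (Cfsg.frobeniusKernel (conjSub H₁ H x₁)) := by
    rw [← Finite.one_lt_card_iff_nontrivial, hcount₁]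
    omega
  obtain ⟨a₁, ha₁k, ha₁1⟩ : ∃ a₁ : ↥H₁, a₁ ∈ Cfsg.frobeniusKernel (conjSub H₁ H x₁) ∧ a₁ ≠ 1 := by
    obtain ⟨⟨a, ha⟩, ⟨b, hb⟩, hab⟩ := hnt
    by_cases ha1 : a = 1
    · refine ⟨b, hb, ?_⟩
      intro hb1
      exact hab (Subtype.ext (ha1.trans hb1.symm))
    · exact ⟨a, ha, ha1⟩
  obtain ⟨x₂, hx₂⟩ := hA a₁ ha₁1
  have hD₂bot : conjSub H₁ H x₂ ≠ ⊥ := by
    intro h
    rw [h, Subgroup.mem_bot] at hx₂
    exact ha₁1 hx₂
  have hF₂ := hfrob x₂ hD₂bot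
  have hcount₂ := (Cfsg.Agent.Helper1.frobenius_count (conjSub H₁ H x₂) hF₂).1
  have hcover : ∀ b : ↥H₁, b ∈ Cfsg.frobeniusKernel (conjSub H₁ H x₁) ∨
      b ∈ Cfsg.frobeniusKernel (conjSub H₁ H x₂) := by
    intro b
    by_contra hb
    rw [not_or] at hb
    obtain ⟨hb₁, hb₂⟩ := hb
    simp only [Cfsg.frobeniusKernel, Set.mem_setOf_eq, not_or, not_forall, not_not] at hb₁ hb₂
    obtain ⟨hb1, g₁, hg₁⟩ := hb₁
    obtain ⟨-, g₂, hg₂⟩ := hb₂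
    rw [Cfsg.Agent.Helper4.mem_conj_smul_iff, mem_conjSub] at hg₁ hg₂
    have hbG : (b : G) ≠ 1 := fun h => hb1 (Subtype.ext h)
    have hu : x₁ * (g₁ : G)⁻¹ * (b : G) * (x₁ * (g₁ : G)⁻¹)⁻¹ ∈ H := by
      have e : x₁ * (g₁ : G)⁻¹ * (b : G) * (x₁ * (g₁ : G)⁻¹)⁻¹ =
          x₁ * ((g₁⁻¹ * b * g₁ : ↥H₁) : G) * x₁⁻¹ := by
        simp only [Subgroup.coe_mul, Subgroup.coe_inv]; group
      rw [e]; exact hg₁
    have hv : x₂ * (g₂ : G)⁻¹ * (b : G) * (x₂ * (g₂ : G)⁻¹)⁻¹ ∈ H := by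
      have e : x₂ * (g₂ : G)⁻¹ * (b : G) * (x₂ * (g₂ : G)⁻¹)⁻¹ =
          x₂ * ((g₂⁻¹ * b * g₂ : ↥H₁) : G) * x₂⁻¹ := by
        simp only [Subgroup.coe_mul, Subgroup.coe_inv]; group
      rw [e]; exact hg₂
    have hm := hkey _ _ _ hbG hu hv
    -- a₁ lies in a conjugate of D₁
    rcases ha₁k with h | h
    · exact ha₁1 h
    · apply h (g₂⁻¹ * g₁)
      rw [Cfsg.Agent.Helper4.mem_conj_smul_iff, mem_conjSub]
      have e : x₁ * (((g₂⁻¹ * g₁)⁻¹ * a₁ * (g₂⁻¹ * g₁) : ↥H₁) : G) * x₁⁻¹ =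
          (x₁ * (g₁ : G)⁻¹ * (x₂ * (g₂ : G)⁻¹)⁻¹) * (x₂ * (a₁ : G) * x₂⁻¹) *
            (x₁ * (g₁ : G)⁻¹ * (x₂ * (g₂ : G)⁻¹)⁻¹)⁻¹ := by
        simp only [Subgroup.coe_mul, Subgroup.coe_inv]; group
      rw [e]
      exact D.toData.hHn _ hm _ hx₂
  -- cardinalities
  have hc₁ := (conjSub H₁ H x₁).card_mul_index
  have hc₂ := (conjSub H₁ H x₂).card_mul_index
  have hd₁ : 2 ≤ Nat.card (conjSub H₁ H x₁) := (Subgroup.one_lt_card_iff_ne_bot _).2 hD₁bot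
  have hd₂ : 2 ≤ Nat.card (conjSub H₁ H x₂) := (Subgroup.one_lt_card_iff_ne_bot _).2 hD₂bot
  have hun : Cfsg.frobeniusKernel (conjSub H₁ H x₁) ∪ Cfsg.frobeniusKernel (conjSub H₁ H x₂) =
      Set.univ := by
    rw [Set.eq_univ_iff_forall]
    intro b
    exact hcover b
  have hint : 1 ≤ (Cfsg.frobeniusKernel (conjSub H₁ H x₁) ∩
      Cfsg.frobeniusKernel (conjSub H₁ H x₂)).ncard := by
    rw [Nat.succ_le_iff, Set.ncard_pos (Set.toFinite _)]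
    exact ⟨1, Or.inl rfl, Or.inl rfl⟩
  have hsum := Set.ncard_union_add_ncard_inter (Cfsg.frobeniusKernel (conjSub H₁ H x₁))
    (Cfsg.frobeniusKernel (conjSub H₁ H x₂)) (Set.toFinite _) (Set.toFinite _)
  have hn₁ : (Cfsg.frobeniusKernel (conjSub H₁ H x₁)).ncard = (conjSub H₁ H x₁).index := by
    rw [← Nat.card_coe_set_eq]; exact hcount₁
  have hn₂ : (Cfsg.frobeniusKernel (conjSub H₁ H x₂)).ncard = (conjSub H₁ H x₂).index := by
    rw [← Nat.card_coe_set_eq]; exact hcount₂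
  rw [hun, Set.ncard_univ, hn₁, hn₂] at hsum
  nlinarith

end Data2

end Cfsg.Agent.Helper4.TIHall
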