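import Mathlib
import Cfsg.Agent.Helper4.TIHallC

/-!
# TI Hall subgroups: an `H`-invariant `p`-subgroup of `N` not contained in `K₀`
-/

set_option autoImplicit false

namespace Cfsg.Agent.Helper4.TIHall

universe u

open scoped Pointwise

variable {G : Type u} [Group G]

namespace Data2

variable {H K₀ M N : Subgroup G}

theorem exists_invariant_pSubgroup [Finite G] (D : Data2 H K₀ M N) (hlt : ¬ N ≤ K₀) :
    ∃ (p : ℕ) (_ : Fact p.Prime) (P₂ : Subgroup G), IsPGroup p P₂ ∧ P₂ ≤ N ∧ ¬ P₂ ≤ K₀ ∧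
      ∀ h ∈ H, ∀ y ∈ P₂, h * y * h⁻¹ ∈ P₂ := by
  classical
  haveI := D.hNn
  have hcopNH := D.coprime
  obtain ⟨r, hr⟩ := Subgroup.card_dvd_of_le D.hKN
  have hN0 : Nat.card N ≠ 0 := Nat.card_pos.ne'
  have hK0 : Nat.card K₀ ≠ 0 := Nat.card_pos.ne'
  have hr0 : r ≠ 0 := by
    intro h; rw [h, mul_zero] at hr; exact hN0 hr
  have hr1 : r ≠ 1 := by
    intro h
    rw [h, mul_one] at hr
    apply hlt
    rw [Subgroup.eq_of_le_of_card_ge D.hKN (le_of_eq hr)]
  obtain ⟨p, hp, hpr⟩ := Nat.exists_prime_and_dvd hr1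
  haveI : Fact p.Prime := ⟨hp⟩
  have hfac : (Nat.card K₀).factorization p + 1 ≤ (Nat.card N).factorization p := by
    rw [hr, Nat.factorization_mul hK0 hr0, Finsupp.add_apply]
    have := hp.factorization_pos_of_dvd hr0 hpr
    omega
  obtain ⟨P_N⟩ : Nonempty (Sylow p ↥N) := inferInstance
  obtain ⟨P, hPdef⟩ : ∃ P : Subgroup G, P = (P_N : Subgroup ↥N).map N.subtype := ⟨_, rfl⟩
  have hPp : IsPGroup p P := by rw [hPdef]; exact P_N.isPGroup'.map _
  have hPN : P ≤ N := by rw [hPdef]; exact Subgroup.map_subtype_le _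
  have hPcard : Nat.card P = p ^ (Nat.card N).factorization p := by
    rw [hPdef, Subgroup.card_map_of_injective (Subgroup.subtype_injective N),
      Sylow.card_eq_multiplicity]
  have hnotle : ∀ S : Subgroup G, Nat.card S = Nat.card P → ¬ S ≤ K₀ := by
    intro S hS hle
    have h1 := Subgroup.card_dvd_of_le hle
    rw [hS, hPcard] at h1
    have h2 : p ^ ((Nat.card K₀).factorization p + 1) ∣ Nat.card K₀ :=
      dvd_trans (pow_dvd_pow p hfac) h1
    exact Nat.pow_succ_factorization_not_dvd hK0 hp h2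
  have hFr : Subgroup.normalizer (P : Set G) ⊔ N = ⊤ := by
    rw [hPdef]; exact Sylow.normalizer_sup_eq_top P_N
  obtain ⟨L, hLdef⟩ : ∃ L : Subgroup G, L = Subgroup.normalizer (P : Set G) := ⟨_, rfl⟩
  rw [← hLdef] at hFr
  haveI hN'n : (N.subgroupOf L).Normal := Subgroup.Normal.subgroupOf D.hNn L
  have hidx : (N.subgroupOf L).index = Nat.card H := by
    have h1 : (N.subgroupOf L).index = N.relIndex L := rfl
    rw [h1, ← Subgroup.relIndex_sup_right L N, hFr, Subgroup.relIndex_top_right]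
    exact D.hc.symm.index_eq_card
  have hcardN' : Nat.card (N.subgroupOf L) ∣ Nat.card N := by
    have h1 : Nat.card ((N.subgroupOf L).map L.subtype) = Nat.card (N.subgroupOf L) :=
      Subgroup.card_map_of_injective (Subgroup.subtype_injective L)
    rw [← h1, Subgroup.subgroupOf_map_subtype]
    exact Subgroup.card_dvd_of_le inf_le_left
  have hcop' : (Nat.card (N.subgroupOf L)).Coprime (N.subgroupOf L).index := by
    rw [hidx]
    exact Nat.Coprime.coprime_dvd_left hcardN' hcopNH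
  obtain ⟨H₁', hH₁'⟩ := Subgroup.exists_right_complement'_of_coprime hcop'
  obtain ⟨H₁, hH₁def⟩ : ∃ H₁ : Subgroup G, H₁ = H₁'.map L.subtype := ⟨_, rfl⟩
  have hH₁L : H₁ ≤ L := by rw [hH₁def]; exact Subgroup.map_subtype_le _
  have hH₁card : Nat.card H₁ = Nat.card H := by
    rw [hH₁def, Subgroup.card_map_of_injective (Subgroup.subtype_injective L), ← hidx]
    exact hH₁'.symm.index_eq_card.symm
  have hdisj : ∀ a ∈ H₁, a ∈ N → a = 1 := by
    intro a ha haN
    rw [hH₁def] at ha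
    obtain ⟨a', ha', rfl⟩ := Subgroup.mem_map.1 ha
    have h1 : a' ∈ N.subgroupOf L ⊓ H₁' := ⟨Subgroup.mem_subgroupOf.2 haN, ha'⟩
    rw [hH₁'.disjoint.eq_bot, Subgroup.mem_bot] at h1
    rw [h1]; rfl
  obtain ⟨x, hx⟩ := D.exists_conj_of_card_eq H₁ hH₁card hdisj
  have hinj : Function.Injective (fun a : ↥H₁ => (⟨x * a * x⁻¹, hx a a.2⟩ : ↥H)) := by
    intro a b hab
    have h2 : x * (a : G) * x⁻¹ = x * (b : G) * x⁻¹ := congrArg Subtype.val hab
    have h3 : (a : G) = b := by simpa using h2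
    exact Subtype.ext h3
  have hbij := hinj.bijective_of_nat_card_le (le_of_eq hH₁card.symm)
  refine ⟨p, ⟨hp⟩, MulAut.conj x • P, ?_, ?_, ?_, ?_⟩
  · rw [Subgroup.pointwise_smul_def]
    exact hPp.map _
  · intro y hy
    rw [Cfsg.Agent.Helper4.mem_conj_smul_iff] at hy
    have h1 := D.hNn.conj_mem _ (hPN hy) x
    have e : x * (x⁻¹ * y * x) * x⁻¹ = y := by group
    rwa [e] at h1
  · apply hnotle
    rw [Subgroup.pointwise_smul_def]
    exact Subgroup.card_map_of_injective (MulAut.conj x).injective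
  · intro h hh y hy
    rw [Cfsg.Agent.Helper4.mem_conj_smul_iff] at hy ⊢
    obtain ⟨a, ha⟩ := hbij.2 ⟨h, hh⟩
    have hxa : x * (a : G) * x⁻¹ = h := congrArg Subtype.val ha
    have haL : (a : G) ∈ Subgroup.normalizer (P : Set G) := by
      rw [← hLdef]; exact hH₁L a.2
    have h1 := (Subgroup.mem_normalizer_iff.1 haL (x⁻¹ * y * x)).1 hy
    have e : x⁻¹ * (h * y * h⁻¹) * x = (a : G) * (x⁻¹ * y * x) * (a : G)⁻¹ := by
      rw [← hxa]; group
    rw [e]
    exact h1

end Data2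

end Cfsg.Agent.Helper4.TIHall
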