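import Mathlib
import Cfsg.Prelude.Def_Solvable
import Cfsg.Agent.Helper4.TIHallD
import Cfsg.Agent.Helper4.NormalizerGrow
import Cfsg.Agent.Helper4.FrobeniusSemidirect
import Cfsg.Agent.Helper4.ItoTwoAvg
import Cfsg.Agent.Helper4.SubnormalPRad

/-!
# TI Hall subgroups: `H` is isomorphic to a Frobenius complement
-/

set_option autoImplicit false

namespace Cfsg.Agent.Helper4.TIHall

universe u

open scoped Pointwise

variable {G : Type u} [Group G]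

section SectionAction

variable (H P₁ P₀ : Subgroup G) (h1 : ∀ h ∈ H, ∀ y ∈ P₁, h * y * h⁻¹ ∈ P₁)
  (h0 : ∀ h ∈ H, ∀ y ∈ P₀, h * y * h⁻¹ ∈ P₀) [hn : (P₀.subgroupOf P₁).Normal]

/-- the endomorphism of the section `P₁/P₀` induced by conjugation with `h ∈ H` -/
def sectionMap (h : ↥H) : (↥P₁ ⧸ P₀.subgroupOf P₁) →* (↥P₁ ⧸ P₀.subgroupOf P₁) :=
  QuotientGroup.map (P₀.subgroupOf P₁) (P₀.subgroupOf P₁)
    (ItoTwo.conjHom H P₁ h1 h).toMonoidHom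
    (by
      intro y hy
      rw [Subgroup.mem_comap, Subgroup.mem_subgroupOf]
      rw [Subgroup.mem_subgroupOf] at hy
      exact h0 h h.2 y hy)

theorem sectionMap_mk (h : ↥H) (y : ↥P₁) :
    sectionMap H P₁ P₀ h1 h0 h (QuotientGroup.mk y) =
      QuotientGroup.mk (⟨(h : G) * y * (h : G)⁻¹, h1 h h.2 y y.2⟩ : ↥P₁) := rfl

/-- the action of `H` on the section `P₁/P₀` -/
@[reducible] def sectionAction : MulDistribMulAction ↥H (↥P₁ ⧸ P₀.subgroupOf P₁) where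
  smul h q := sectionMap H P₁ P₀ h1 h0 h q
  one_smul q := by
    obtain ⟨y, rfl⟩ := QuotientGroup.mk_surjective q
    show sectionMap H P₁ P₀ h1 h0 1 (QuotientGroup.mk y) = QuotientGroup.mk y
    rw [sectionMap_mk]
    congr 1
    apply Subtype.ext
    simp
  mul_smul a b q := by
    obtain ⟨y, rfl⟩ := QuotientGroup.mk_surjective q
    show sectionMap H P₁ P₀ h1 h0 (a * b) (QuotientGroup.mk y) =
      sectionMap H P₁ P₀ h1 h0 a (sectionMap H P₁ P₀ h1 h0 b (QuotientGroup.mk y))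
    rw [sectionMap_mk, sectionMap_mk, sectionMap_mk]
    congr 1
    apply Subtype.ext
    simp only [Subgroup.coe_mul]
    group
  smul_mul h q r := map_mul (sectionMap H P₁ P₀ h1 h0 h) q r
  smul_one h := map_one (sectionMap H P₁ P₀ h1 h0 h)

/-- the homomorphism `H → Aut(P₁/P₀)` -/
def sectionHom : ↥H →* MulAut (↥P₁ ⧸ P₀.subgroupOf P₁) :=
  letI := sectionAction H P₁ P₀ h1 h0
  MulDistribMulAction.toMulAut ↥H (↥P₁ ⧸ P₀.subgroupOf P₁)

theorem sectionHom_mk (h : ↥H) (y : ↥P₁) :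
    sectionHom H P₁ P₀ h1 h0 h (QuotientGroup.mk y) =
      QuotientGroup.mk (⟨(h : G) * y * (h : G)⁻¹, h1 h h.2 y y.2⟩ : ↥P₁) := rfl

end SectionAction

namespace Data2

variable {H K₀ M N : Subgroup G}

theorem exists_frobenius [Finite G] (D : Data2 H K₀ M N) (hH1 : H ≠ ⊥) (hlt : ¬ N ≤ K₀) :
    ∃ (F : Type u) (_ : Group F) (_ : Finite F) (C : Subgroup F),
      Cfsg.IsFrobeniusComplement C ∧ Nonempty (H ≃* C) := by
  obtain ⟨p, hp, P₂, hP₂, hP₂N, hP₂K, hinv⟩ := D.exists_invariant_pSubgroup hlt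
  haveI := hp
  obtain ⟨P₀, hP₀def⟩ : ∃ P₀ : Subgroup G, P₀ = P₂ ⊓ K₀ := ⟨_, rfl⟩
  have hP₀lt : P₀ < P₂ := by
    rw [hP₀def]
    refine lt_of_le_of_ne inf_le_left (fun h => hP₂K ?_)
    rw [← h]; exact inf_le_right
  obtain ⟨w, hwP, hwn, hw0⟩ := exists_mem_normalizer_not_mem P₂ hP₂ P₀ hP₀lt
  obtain ⟨P₁, hP₁def⟩ : ∃ P₁ : Subgroup G, P₁ = P₂ ⊓ Subgroup.normalizer (P₀ : Set G) :=
    ⟨_, rfl⟩
  have hP₁P₂ : P₁ ≤ P₂ := by rw [hP₁def]; exact inf_le_left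
  have hP₁n : P₁ ≤ Subgroup.normalizer (P₀ : Set G) := by rw [hP₁def]; exact inf_le_right
  haveI hn : (P₀.subgroupOf P₁).Normal := Subgroup.normal_subgroupOf_of_le_normalizer hP₁n
  have hP₀K : P₀ ≤ K₀ := by rw [hP₀def]; exact inf_le_right
  have hcent : ∀ h ∈ H, ∀ y ∈ P₀, h * y * h⁻¹ = y := by
    intro h hh y hy
    rw [← D.toData.comm y (hP₀K hy) h hh, mul_inv_cancel_right]
  have h0 : ∀ h ∈ H, ∀ y ∈ P₀, h * y * h⁻¹ ∈ P₀ := by
    intro h hh y hy; rw [hcent h hh y hy]; exact hy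
  have h1 : ∀ h ∈ H, ∀ y ∈ P₁, h * y * h⁻¹ ∈ P₁ := by
    intro h hh y hy
    rw [hP₁def] at hy ⊢
    refine ⟨hinv h hh y hy.1, ?_⟩
    apply SubnormalPRad.mem_normalizer_of_conj_mem'
    intro u hu
    have hu' : h⁻¹ * u * h = u := by
      have h5 := hcent h⁻¹ (H.inv_mem hh) u hu
      rwa [inv_inv] at h5
    have hyu : y * u * y⁻¹ ∈ P₀ := (Subgroup.mem_normalizer_iff.1 hy.2 u).1 hu
    have e : h * y * h⁻¹ * u * (h * y * h⁻¹)⁻¹ = h * (y * (h⁻¹ * u * h) * y⁻¹) * h⁻¹ := by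
      group
    rw [e, hu', hcent h hh _ hyu]
    exact hyu
  haveI : Nontrivial ↥H := (Subgroup.nontrivial_iff_ne_bot H).2 hH1
  have hwP₁ : w ∈ P₁ := by rw [hP₁def]; exact ⟨hwP, hwn⟩
  haveI : Nontrivial (↥P₁ ⧸ P₀.subgroupOf P₁) := by
    refine ⟨⟨QuotientGroup.mk ⟨w, hwP₁⟩, 1, ?_⟩⟩
    intro h
    rw [QuotientGroup.eq_one_iff, Subgroup.mem_subgroupOf] at h
    exact hw0 h
  have hfpf : ∀ k : ↥H, k ≠ 1 → ∀ a : ↥P₁ ⧸ P₀.subgroupOf P₁,
      sectionHom H P₁ P₀ h1 h0 k a = a → a = 1 := by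
    intro k hk a ha
    obtain ⟨y, rfl⟩ := QuotientGroup.mk_surjective a
    rw [sectionHom_mk] at ha
    have h2 := QuotientGroup.eq.1 ha.symm
    rw [Subgroup.mem_subgroupOf] at h2
    have hyP₂ : (y : G) ∈ P₂ := hP₁P₂ y.2
    have hyK : (y : G) ∈ K₀ :=
      D.mem_of_coset_fixed k k.2 (fun h => hk (Subtype.ext h)) y (hP₂N hyP₂) (hP₀K h2)
    rw [QuotientGroup.eq_one_iff, Subgroup.mem_subgroupOf, hP₀def]
    exact ⟨hyP₂, hyK⟩
  refine ⟨(↥P₁ ⧸ P₀.subgroupOf P₁) ⋊[sectionHom H P₁ P₀ h1 h0] ↥H, inferInstance, ?_,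
    (SemidirectProduct.inr).range, isFrobeniusComplement_inr_range _ hfpf,
    ⟨MonoidHom.ofInjective SemidirectProduct.inr_injective⟩⟩
  exact Finite.of_equiv _ SemidirectProduct.equivProd.symm

end Data2

end Cfsg.Agent.Helper4.TIHall
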