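import Mathlib
import Cfsg.Prelude.Def_Solvable
import Cfsg.Prelude.Def_OddOrderLocal
import Cfsg.Agent.Helper4.TIHallE

/-!
# TI Hall subgroups: the main theorem
-/

set_option autoImplicit false

namespace Cfsg.Agent.Helper4.TIHall

universe u

open scoped Pointwise

variable {G : Type u} [Group G]

theorem complement_in_normalizer (H N : Subgroup G) (hNn : N.Normal) (hc : N.IsComplement' H) :
    ∃ K : Subgroup (Subgroup.normalizer (H : Set G)), K.Normal ∧
      K.IsComplement' (H.subgroupOf (Subgroup.normalizer (H : Set G))) := by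
  refine ⟨N.subgroupOf _, hNn.subgroupOf _, ?_⟩
  apply Subgroup.isComplement'_of_disjoint_and_mul_eq_univ
  · rw [Subgroup.disjoint_def]
    intro x hxN hxH
    rw [Subgroup.mem_subgroupOf] at hxN hxH
    have h5 := hc.disjoint
    rw [Subgroup.disjoint_def] at h5
    exact Subtype.ext (h5 hxN hxH)
  · rw [Set.eq_univ_iff_forall]
    intro m
    have h1 : (m : G) ∈ (N : Set G) * (H : Set G) := by
      rw [(Subgroup.isComplement'_def.1 hc).mul_eq]; trivial
    obtain ⟨n, hn, h, hh, he⟩ := Set.mem_mul.mp h1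
    have hhM : h ∈ Subgroup.normalizer (H : Set G) := Subgroup.le_normalizer hh
    have hnM : n ∈ Subgroup.normalizer (H : Set G) := by
      have e : n = (m : G) * h⁻¹ := by rw [← he]; group
      rw [e]; exact Subgroup.mul_mem _ m.2 (Subgroup.inv_mem _ hhM)
    refine Set.mem_mul.mpr ⟨⟨n, hnM⟩, Subgroup.mem_subgroupOf.2 hn, ⟨h, hhM⟩,
      Subgroup.mem_subgroupOf.2 hh, ?_⟩
    exact Subtype.ext he

theorem ti_hall_main [Finite G] (H : Subgroup G)
    (hTI : Cfsg.IsTISubset (H : Set G))
    (hHall : (Nat.card H).Coprime (H.subgroupOf (Subgroup.normalizer (H : Set G))).index) :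
    ((∃ K : Subgroup (Subgroup.normalizer (H : Set G)), K.Normal ∧
        K.IsComplement' (H.subgroupOf (Subgroup.normalizer (H : Set G)))) ↔
      (∃ N : Subgroup G, N.Normal ∧ N.IsComplement' H)) ∧
    (¬ H.Normal → (∃ K : Subgroup (Subgroup.normalizer (H : Set G)), K.Normal ∧
        K.IsComplement' (H.subgroupOf (Subgroup.normalizer (H : Set G)))) →
      ∃ (F : Type u) (_ : Group F) (_ : Finite F) (C : Subgroup F),
        Cfsg.IsFrobeniusComplement C ∧ Nonempty (H ≃* C)) := by
  constructor
  · constructor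
    · rintro ⟨K, hKn, hK⟩
      have D := data_of_complement H hTI hHall K hKn hK
      obtain ⟨N, hNn, -, -, -, hc⟩ := D.exists_normal
      exact ⟨N, hNn, hc⟩
    · rintro ⟨N, hNn, hc⟩
      exact complement_in_normalizer H N hNn hc
  · rintro hnn ⟨K, hKn, hK⟩
    have D := data_of_complement H hTI hHall K hKn hK
    obtain ⟨N, hNn, hKN, hNM, hoff, hc⟩ := D.exists_normal
    have D2 : Data2 H (K.map (Subgroup.normalizer (H : Set G)).subtype)
        (Subgroup.normalizer (H : Set G)) N := ⟨D, hNn, hKN, hNM, hoff, hc⟩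
    apply D2.exists_frobenius
    · intro h
      apply hnn
      rw [h]
      infer_instance
    · intro hle
      apply hnn
      rw [← Subgroup.normalizer_eq_top_iff]
      rw [eq_top_iff, ← hc.sup_eq_top]
      exact sup_le (hle.trans D.hKM) Subgroup.le_normalizer

end Cfsg.Agent.Helper4.TIHall
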