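import Cfsg.Agent.Helper4.TPBase

set_option autoImplicit false
set_option linter.unusedSectionVars false
set_option linter.unusedSimpArgs false

/-! Tensor product stabilisers in `SL` (helper4, S5637): from the elementary root groups
`1 + c E_{(i,j₀),(k,l₀)}`, `i ≠ k`, to all elementary root groups, and to `SL`. -/

namespace Cfsg.Agent.Helper4.TP

open Module Matrix Cfsg.Agent.Helper7.ExtF
open scoped Kronecker

section general

variable {F : Type*} [Field F] {V : Type*} [AddCommGroup V] [Module F V]
  {G : Subgroup (V ≃ₗ[F] V)}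

/-- the same transvection, written differently. -/
theorem inX_of_apply {v v' : V} {φ φ' : Module.Dual F V} (h : InX G v φ) (h0 : φ' v' = 0)
    (he : ∀ x, φ x • v = φ' x • v') : InX G v' φ' := by
  obtain ⟨h1, hm⟩ := h
  refine ⟨h0, ?_⟩
  have : ftv φ v h1 = ftv φ' v' h0 := eq_ftv_of_toLin h0 (fun x => by rw [ftv_apply, he])
  rw [← this]; exact hm

theorem inX_add_vec {v v' : V} {φ : Module.Dual F V} (h : InX G v φ) (h' : InX G v' φ) :
    InX G (v + v') φ := by
  obtain ⟨h0, hm⟩ := h
  obtain ⟨h0', hm'⟩ := h'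
  have h0'' : φ (v + v') = 0 := by rw [map_add, h0, h0', add_zero]
  refine ⟨h0'', ?_⟩
  have : ftv φ v h0 * ftv φ v' h0' = ftv φ (v + v') h0'' := by
    apply eq_ftv_of_toLin
    intro x
    rw [LinearEquiv.mul_apply, ftv_apply, ftv_apply, map_add, map_smul, h0', smul_zero, add_zero,
      smul_add]
    abel
  rw [← this]; exact G.mul_mem hm hm'

theorem inX_neg_vec {v : V} {φ : Module.Dual F V} (h : InX G v φ) : InX G (-v) φ := by
  refine inX_of_apply h.neg (by rw [map_neg, h.1, neg_zero]) (fun x => ?_)
  rw [LinearMap.neg_apply, neg_smul, smul_neg]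

theorem inX_sub_vec {v v' : V} {φ : Module.Dual F V} (h : InX G v φ) (h' : InX G v' φ) :
    InX G (v - v') φ := by
  rw [sub_eq_add_neg]; exact inX_add_vec h (inX_neg_vec h')

/-- the commutator rule. -/
theorem inX_comm {v v' : V} {φ φ' : Module.Dual F V} (h : InX G v φ) (h' : InX G v' φ')
    (h0 : φ' v = 0) : InX G v (φ v' • φ') := by
  obtain ⟨hv, hm⟩ := h
  have hc := h'.conj hm
  have e1 : ftv φ v hv v' = v' + φ v' • v := rfl
  have e2 : φ' ∘ₗ (((ftv φ v hv)⁻¹ : V ≃ₗ[F] V) : V →ₗ[F] V) = φ' := by
    apply LinearMap.ext; intro x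
    have : (ftv φ v hv)⁻¹ x = x - φ x • v := uni_inv_apply _ _ x
    rw [LinearMap.comp_apply, LinearEquiv.coe_coe, this, map_sub, map_smul, h0, smul_zero, sub_zero]
  rw [e1, e2] at hc
  have h3 : InX G (φ v' • v) φ' := by
    have := inX_sub_vec hc h'
    rwa [add_sub_cancel_left] at this
  refine inX_of_apply h3 (by rw [LinearMap.smul_apply, h0, smul_zero]) (fun x => ?_)
  rw [LinearMap.smul_apply, smul_smul, smul_eq_mul, mul_comm]

end general

variable {F : Type*} [Field F] {m n : Type} [Fintype m] [DecidableEq m] [Fintype n]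
  [DecidableEq n]

/-- composition of elementary root groups. -/
theorem EL.trans {G : Subgroup ((m × n → F) ≃ₗ[F] (m × n → F))} {p q r : m × n}
    (h1 : EL G p q) (h2 : EL G q r) (hpr : p ≠ r) : EL G p r := by
  intro c
  have h := inX_comm (h1 1) (h2 c) (by
    rw [LinearMap.smul_apply, LinearMap.proj_apply, Pi.single_apply, if_neg (Ne.symm hpr),
      smul_zero])
  refine inX_of_apply h (by
    rw [LinearMap.smul_apply, LinearMap.proj_apply, Pi.single_apply, if_neg (Ne.symm hpr),
      smul_zero]) (fun x => ?_)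
  simp

theorem tmul_single_single (i : m) (j : n) :
    tmul (Pi.single i (1 : F)) (Pi.single j (1 : F)) = Pi.single (i, j) (1 : F) := by
  ext ⟨i', j'⟩
  simp only [tmul_apply, Pi.single_apply, Prod.mk.injEq]
  by_cases hi : i' = i <;> by_cases hj : j' = j <;> simp [hi, hj]

theorem con_pr_single (j : n) (i : m) (j' : n) :
    con (pr j) (Pi.single (i, j') (1 : F)) = if j = j' then Pi.single i (1 : F) else 0 := by
  ext i'
  rw [con_pr]
  by_cases hj : j = j'
  · subst hj
    simp only [if_true, Pi.single_apply, Prod.mk.injEq, and_true]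
  · simp only [if_neg hj, Pi.zero_apply, Pi.single_apply, Prod.mk.injEq]
    rw [if_neg]
    rintro ⟨-, h⟩
    exact hj h

section moves

variable {G : Subgroup ((m × n → F) ≃ₗ[F] (m × n → F))}
  (hz : ∀ (w : n → F) (β : Module.Dual F (n → F)) (h : β w = 0), zz (m := m) w β h ∈ G)

include hz

/-- change of the column index of the centre. -/
theorem EL.move_left {i k : m} {j l j' : n} (h : EL G (i, j) (k, l)) (hj : j' ≠ j) (hl : j' ≠ l) :
    EL G (i, j') (k, l) := by
  intro c
  have h0 : pr (F := F) j (Pi.single j' (1 : F)) = 0 := by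
    rw [pr_apply, Pi.single_apply, if_neg (Ne.symm hj)]
  have hc := (h c).conj (hz (Pi.single j' 1) (pr j) h0)
  have e1 : zz (m := m) (Pi.single j' (1 : F)) (pr j) h0 (Pi.single (i, j) (1 : F)) =
      Pi.single (i, j) 1 + Pi.single (i, j') 1 := by
    rw [zz_apply, con_pr_single, if_pos rfl, tmul_single_single]
  have e2 : (c • (LinearMap.proj (k, l) : Module.Dual F (m × n → F))) ∘ₗ
      (((zz (m := m) (Pi.single j' (1 : F)) (pr j) h0)⁻¹ : (m × n → F) ≃ₗ[F] (m × n → F)) :
        (m × n → F) →ₗ[F] (m × n → F)) = c • LinearMap.proj (k, l) := by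
    apply LinearMap.ext; intro x
    rw [LinearMap.comp_apply, LinearEquiv.coe_coe, zz_inv_apply, LinearMap.smul_apply,
      LinearMap.smul_apply, LinearMap.proj_apply, LinearMap.proj_apply, Pi.sub_apply, tmul_apply,
      Pi.single_apply, if_neg (Ne.symm hl), mul_zero, sub_zero]
  rw [e1, e2] at hc
  have := inX_sub_vec hc (h c)
  rwa [add_sub_cancel_left] at this

/-- change of the column index of the axis. -/
theorem EL.move_right {i k : m} {j l l' : n} (h : EL G (i, j) (k, l)) (hj : l' ≠ j) (hl : l' ≠ l) :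
    EL G (i, j) (k, l') := by
  intro c
  have h0 : pr (F := F) l' (Pi.single l (1 : F)) = 0 := by
    rw [pr_apply, Pi.single_apply, if_neg hl]
  have hc := (h c).conj (hz (Pi.single l 1) (pr l') h0)
  have e1 : zz (m := m) (Pi.single l (1 : F)) (pr l') h0 (Pi.single (i, j) (1 : F)) =
      Pi.single (i, j) 1 := by
    rw [zz_apply, con_pr_single, if_neg hj, map_zero, LinearMap.zero_apply, add_zero]
  have e2 : (c • (LinearMap.proj (k, l) : Module.Dual F (m × n → F))) ∘ₗ
      (((zz (m := m) (Pi.single l (1 : F)) (pr l') h0)⁻¹ : (m × n → F) ≃ₗ[F] (m × n → F)) :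
        (m × n → F) →ₗ[F] (m × n → F)) =
        c • LinearMap.proj (k, l) - c • LinearMap.proj (k, l') := by
    apply LinearMap.ext; intro x
    rw [LinearMap.comp_apply, LinearEquiv.coe_coe, zz_inv_apply, LinearMap.smul_apply,
      LinearMap.sub_apply, LinearMap.smul_apply, LinearMap.smul_apply,
      LinearMap.proj_apply, LinearMap.proj_apply, LinearMap.proj_apply, Pi.sub_apply, tmul_apply,
      Pi.single_apply, if_pos rfl, mul_one, con_pr, smul_sub]
  rw [e1, e2] at hc
  have := (h c).sub hc
  rwa [sub_sub_cancel] at this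

end moves

/-- [ALL]: all elementary root groups. -/
theorem all_elem (ha : 2 ≤ Fintype.card m) (hb : 3 ≤ Fintype.card n)
    (G : Subgroup ((m × n → F) ≃ₗ[F] (m × n → F)))
    (hz : ∀ (w : n → F) (β : Module.Dual F (n → F)) (h : β w = 0), zz (m := m) w β h ∈ G)
    {j₀ l₀ : n} (hjl : j₀ ≠ l₀) (hE : ∀ i k : m, i ≠ k → EL G (i, j₀) (k, l₀)) :
    ∀ p q : m × n, p ≠ q → EL G p q := by
  classical
  -- a third index
  have third : ∀ j l : n, ∃ t : n, t ≠ j ∧ t ≠ l := by
    intro j l
    by_contra hcon
    push Not at hcon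
    have hsub : (Finset.univ : Finset n) ⊆ {j, l} := by
      intro t _
      by_cases ht : t = j
      · rw [ht]; simp
      · rw [hcon t ht]; simp
    have := Finset.card_le_card hsub
    rw [Finset.card_univ] at this
    have h2 : ({j, l} : Finset n).card ≤ 2 := Finset.card_le_two
    omega
  have other : ∀ i : m, ∃ k : m, k ≠ i := by
    intro i
    by_contra hcon
    push Not at hcon
    have hsub : (Finset.univ : Finset m) ⊆ {i} := by
      intro t _
      rw [hcon t]; simp
    have := Finset.card_le_card hsub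
    rw [Finset.card_univ, Finset.card_singleton] at this
    omega
  -- doubly off-diagonal
  have hP : ∀ j l : n, j ≠ l → ∀ i k : m, i ≠ k → EL G (i, j) (k, l) := by
    intro j l hjl' i k hik
    by_cases hl : l = l₀
    · subst hl
      by_cases hj : j = j₀
      · subst hj; exact hE i k hik
      · exact (hE i k hik).move_left hz hj hjl'
    · by_cases hlj : l = j₀
      · subst hlj
        obtain ⟨j₁, hj₁, hj₁'⟩ := third l l₀
        have h1 : EL G (i, j₁) (k, l₀) := (hE i k hik).move_left hz hj₁ hj₁'
        have h2 : EL G (i, j₁) (k, l) := h1.move_right hz (Ne.symm hj₁) hjl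
        by_cases hj : j = j₁
        · subst hj; exact h2
        · exact h2.move_left hz hj hjl'
      · have h1 : EL G (i, j₀) (k, l) := (hE i k hik).move_right hz hlj hl
        by_cases hj : j = j₀
        · subst hj; exact h1
        · exact h1.move_left hz hj hjl'
  -- same row
  have hR : ∀ (i : m) (j l : n), j ≠ l → EL G (i, j) (i, l) := by
    intro i j l hjl'
    obtain ⟨k', hk'⟩ := other i
    obtain ⟨l', hl'j, hl'l⟩ := third j l
    refine (hP j l' (Ne.symm hl'j) i k' (Ne.symm hk')).trans (hP l' l hl'l k' i hk') ?_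
    intro h
    exact hjl' (Prod.mk.inj h).2
  -- same column
  have hC : ∀ (i k : m) (j : n), i ≠ k → EL G (i, j) (k, j) := by
    intro i k j hik
    obtain ⟨l', hl'j, -⟩ := third j j
    refine (hR i j l' (Ne.symm hl'j)).trans (hP l' j hl'j i k hik) ?_
    intro h
    exact hik (Prod.mk.inj h).1
  rintro ⟨i, j⟩ ⟨k, l⟩ hpq
  by_cases hik : i = k
  · subst hik
    have hjl' : j ≠ l := fun h => hpq (by rw [h])
    exact hR i j l hjl'
  · by_cases hjl' : j = l
    · subst hjl'
      exact hC i k j hik
    · exact hP j l hjl' i k hik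

/-- [ALL']: a subgroup of `GL` containing all elementary root groups contains `SL`. -/
theorem sl_le_of_all_elem {ι : Type} [Fintype ι] [DecidableEq ι] [Nontrivial ι]
    (X : Subgroup (GL ι F))
    (h : ∀ p q : ι, p ≠ q → ∀ c : F,
      InX (X.map (thetaG (F := F) (ι := ι)).toMonoidHom) (Pi.single p (1 : F))
        (c • (LinearMap.proj q : Module.Dual F (ι → F)))) :
    Cfsg.Geo.specialLinear ι F ≤ X := by
  intro g hg
  have hdet : (g : Matrix ι ι F).det = 1 := by
    have := (MonoidHom.mem_ker).mp hg
    exact congrArg Units.val this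
  have hg' : g = Matrix.SpecialLinearGroup.toGL ⟨(g : Matrix ι ι F), hdet⟩ := by
    apply Units.ext
    rfl
  rw [hg']
  refine Cfsg.Agent.Helper7.Transv.transvection_induction
    (fun M => Matrix.SpecialLinearGroup.toGL M ∈ X) ?_ ?_ _
  · intro i j hij a
    obtain ⟨h0, hm⟩ := h i j hij a
    obtain ⟨y, hy, hyeq⟩ := Subgroup.mem_map.mp hm
    have : y = Matrix.SpecialLinearGroup.toGL (SpecialLinearGroup.transvection hij a) := by
      apply (thetaG (F := F) (ι := ι)).injective
      have hy' : thetaG y = ftv (a • (LinearMap.proj j : Module.Dual F (ι → F)))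
          (Pi.single i (1 : F)) h0 := hyeq
      rw [hy']
      apply LinearEquiv.ext
      intro x
      rw [ftv_apply, thetaG_apply]
      change _ = (SpecialLinearGroup.transvection hij a).1 *ᵥ x
      rw [SpecialLinearGroup.transvection]
      change _ = (1 + Matrix.single i j a) *ᵥ x
      rw [Matrix.add_mulVec, Matrix.one_mulVec]
      congr 1
      ext t
      rw [LinearMap.smul_apply, LinearMap.proj_apply, Pi.smul_apply, Pi.single_apply]
      simp only [mulVec, dotProduct, Matrix.single, of_apply]
      by_cases ht : t = i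
      · subst ht
        simp [Finset.sum_ite_eq]
      · have ht' : ¬ i = t := fun h => ht h.symm
        simp [ht, ht']
    rw [← this]; exact hy
  · intro A B hA hB
    rw [map_mul]
    exact X.mul_mem hA hB

end Cfsg.Agent.Helper4.TP
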