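import Cfsg.Agent.Helper4.TPBase
import Cfsg.Agent.Helper8.TensC

set_option autoImplicit false
set_option linter.unusedSectionVars false
set_option linter.unusedSimpArgs false

/-! Tensor product stabilisers in `SL` (helper4, S5637): the concrete model `(m × n → F)` is a
tensor product; bridge to helper8's abstract model. -/

namespace Cfsg.Agent.Helper4.TP

open Module Matrix Cfsg.Agent.Helper7.ExtF
open scoped Kronecker TensorProduct

variable {F : Type*} [Field F] {m n : Type} [Fintype m] [DecidableEq m] [Fintype n]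
  [DecidableEq n]

theorem isTensorProduct_tmul :
    IsTensorProduct (tmul (F := F) (m := m) (n := n)) := by
  unfold IsTensorProduct
  have hsurj : Function.Surjective (TensorProduct.lift (tmul (F := F) (m := m) (n := n))) := by
    intro x
    refine ⟨∑ j, (con (pr j) x) ⊗ₜ[F] (Pi.single j (1 : F)), ?_⟩
    rw [map_sum]
    conv_rhs => rw [sum_tmul_con x]
    refine Finset.sum_congr rfl fun j _ => ?_
    rw [TensorProduct.lift.tmul]
  have hfin : finrank F ((m → F) ⊗[F] (n → F)) = finrank F (m × n → F) := by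
    rw [Module.finrank_tensorProduct, Module.finrank_fintype_fun_eq_card,
      Module.finrank_fintype_fun_eq_card, Module.finrank_fintype_fun_eq_card, Fintype.card_prod]
  exact ⟨(LinearMap.injective_iff_surjective_of_finrank_eq_finrank hfin).mpr hsurj, hsurj⟩

theorem fib_eq (w : n → F) :
    Cfsg.Agent.Helper8.Tens.fib (tmul (F := F) (m := m) (n := n)) w = fib w := rfl

theorem ev_eq_con (β : Module.Dual F (n → F)) :
    Cfsg.Agent.Helper8.Tens.ev (isTensorProduct_tmul (F := F) (m := m) (n := n)) β = con β := by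
  apply ext_tmul
  intro u w
  rw [Cfsg.Agent.Helper8.Tens.ev_t, con_tmul]

theorem xB_eq_zz (w : n → F) (β : Module.Dual F (n → F)) (h : β w = 0) :
    Cfsg.Agent.Helper8.Tens.xB (isTensorProduct_tmul (F := F) (m := m) (n := n)) w β h =
      zz w β h := by
  apply LinearEquiv.ext
  intro x
  rw [Cfsg.Agent.Helper8.Tens.xB_apply, zz_apply, ev_eq_con]

/-- a linear automorphism of a coordinate space as an invertible matrix. -/
noncomputable def glOf {ι : Type} [Fintype ι] [DecidableEq ι] (A : (ι → F) ≃ₗ[F] (ι → F)) :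
    GL ι F := (thetaG (F := F) (ι := ι)).symm A

theorem glOf_mulVec {ι : Type} [Fintype ι] [DecidableEq ι] (A : (ι → F) ≃ₗ[F] (ι → F))
    (v : ι → F) : ((glOf A : GL ι F) : Matrix ι ι F) *ᵥ v = A v := by
  rw [← thetaG_apply, glOf, MulEquiv.apply_symm_apply]

theorem isTens_iff (g : (m × n → F) ≃ₗ[F] (m × n → F)) :
    Cfsg.Agent.Helper8.Tens.IsTens (tmul (F := F) (m := m) (n := n)) g ↔
      ∃ (A : GL m F) (B : GL n F), g = tt A B := by
  constructor
  · rintro ⟨A, B, h⟩
    refine ⟨glOf A, glOf B, ?_⟩
    apply LinearEquiv.toLinearMap_injective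
    apply ext_tmul
    intro u w
    rw [LinearEquiv.coe_coe, LinearEquiv.coe_coe, h, tt_tmul, glOf_mulVec, glOf_mulVec]
  · rintro ⟨A, B, rfl⟩
    refine ⟨thetaG A, thetaG B, fun u w => ?_⟩
    rw [tt_tmul, thetaG_apply, thetaG_apply]

end Cfsg.Agent.Helper4.TP
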