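import Cfsg.Agent.Helper4.TPAll
import Cfsg.Agent.Helper2.TPLQ
import Cfsg.Agent.Helper8.TensG
import Cfsg.Agent.Helper9.AschCompNotSL

set_option autoImplicit false
set_option linter.unusedSectionVars false
set_option linter.unusedSimpArgs false

/-! Tensor product stabilisers in `SL` (helper4, S5637): assembly. -/

namespace Cfsg.Agent.Helper4.TP

open Module Matrix Cfsg.Agent.Helper7.ExtF Cfsg.Geo
open scoped Kronecker

variable {F : Type*} [Field F]

theorem mem_specialLinear_iff {ι : Type} [Fintype ι] [DecidableEq ι] (g : GL ι F) :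
    g ∈ specialLinear ι F ↔ (g : Matrix ι ι F).det = 1 := by
  unfold specialLinear
  rw [MonoidHom.mem_ker]
  constructor
  · intro h; exact congrArg Units.val h
  · intro h; exact Units.ext h

/-- the main statement for the standard Kronecker subgroup. -/
theorem sl_le_of_kronecker_lt {a b : ℕ} (ha : 2 ≤ a) (hab : a < b) (hb : 3 ≤ b)
    (hex : a = 2 → ∃ c : F, c ≠ 0 ∧ c ≠ 1)
    (X : Subgroup (GL (Fin a × Fin b) F))
    (h1 : kroneckerSubgroup a b F ⊓ specialLinear (Fin a × Fin b) F ≤ X)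
    (h2 : X ≤ specialLinear (Fin a × Fin b) F)
    (h3 : ¬ X ≤ kroneckerSubgroup a b F) :
    X = specialLinear (Fin a × Fin b) F := by
  have hca : Fintype.card (Fin a) = a := Fintype.card_fin a
  have hcb : Fintype.card (Fin b) = b := Fintype.card_fin b
  set G : Subgroup ((Fin a × Fin b → F) ≃ₗ[F] (Fin a × Fin b → F)) :=
    X.map (thetaG (F := F) (ι := Fin a × Fin b)).toMonoidHom with hG
  have hmemG : ∀ y ∈ X, thetaG y ∈ G := fun y hy => Subgroup.mem_map.mpr ⟨y, hy, rfl⟩
  have hM : ∀ (A : GL (Fin a) F) (B : GL (Fin b) F),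
      ((kr A B : GL (Fin a × Fin b) F) : Matrix (Fin a × Fin b) (Fin a × Fin b) F).det = 1 →
        tt A B ∈ G := by
    intro A B hdet
    apply hmemG
    apply h1
    exact ⟨⟨A, B, rfl⟩, (mem_specialLinear_iff _).mpr hdet⟩
  have hdet : ∀ g ∈ G, LinearMap.det ((g : (Fin a × Fin b → F) ≃ₗ[F] (Fin a × Fin b → F)) :
      (Fin a × Fin b → F) →ₗ[F] (Fin a × Fin b → F)) = 1 := by
    intro g hg
    obtain ⟨y, hy, rfl⟩ := Subgroup.mem_map.mp hg
    have := (mem_specialLinear_iff y).mp (h2 hy)
    rw [← this]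
    exact det_thetaG y
  by_cases hQ : QQ G
  · obtain ⟨j₀, l₀, hjl, hE⟩ := lemmaQ (by rw [hca]; exact ha) (by rw [hcb]; exact hb)
      (by rw [hca]; exact hex) G hM hQ
    have hall := all_elem (by rw [hca]; exact ha) (by rw [hcb]; exact hb) G (Cfsg.Agent.Helper8.Tens.zz_mem' G hM) hjl hE
    haveI : Nontrivial (Fin a × Fin b) := by
      haveI : Nontrivial (Fin a) := Fin.nontrivial_iff_two_le.mpr ha
      haveI : Nonempty (Fin b) := ⟨⟨0, by omega⟩⟩
      infer_instance
    exact le_antisymm h2 (sl_le_of_all_elem X (fun p q hpq c => hall p q hpq c))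
  · exfalso
    apply h3
    have hstab : ∀ g ∈ G, ∀ w : Fin b → F, w ≠ 0 → img g (fib w) = fib w →
        ∃ (A : GL (Fin a) F) (B : GL (Fin b) F), g = tt A B :=
      fun g hg w hw hS => Cfsg.Agent.Helper8.Tens.stab G hM (by rw [hca]; exact ha)
        (by rw [hcb]; omega) hdet hQ hg hw hS
    have hfib := Cfsg.Agent.Helper8.Tens.main (by rw [hca]; omega) (by rw [hca, hcb]; exact hab)
      (by rw [hcb]; exact hb) G (Cfsg.Agent.Helper8.Tens.zz_mem' G hM) hstab
    intro y hy
    have hw : (Pi.single (⟨0, by omega⟩ : Fin b) (1 : F) : Fin b → F) ≠ 0 := by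
      intro h
      have := congrFun h ⟨0, by omega⟩
      simp at this
    obtain ⟨A, B, hAB⟩ := Cfsg.Agent.Helper8.Tens.fibTo_of_not_QQ G hM (by rw [hca]; exact ha)
      (by rw [hcb]; omega) hdet hQ (hmemG y hy) ⟨_, hw, hfib _ (hmemG y hy) _ hw⟩
    have hy' : y = kr A B := (thetaG (F := F) (ι := Fin a × Fin b)).injective hAB
    rw [hy']
    exact ⟨A, B, rfl⟩

/-- S5637: the stabiliser of a tensor decomposition is maximal in the special linear group. -/
theorem tensor_maximal [Fintype F] (n : ℕ) (hn : 13 ≤ n) (n₁ n₂ : ℕ) (h1 : 2 ≤ n₁) (h12 : n₁ < n₂)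
    (hex : ¬ (n₁ = 2 ∧ Fintype.card F = 2)) (e : Fin n ≃ Fin n₁ × Fin n₂) (P : GL (Fin n) F) :
    IsMaximalIn (specialLinear (Fin n) F)
      (tensorProductSubgroup n₁ n₂ e P ⊓ specialLinear (Fin n) F) := by
  classical
  have hcard : n = n₁ * n₂ := by
    have := Fintype.card_congr e
    simpa using this
  have hn₂ : 4 ≤ n₂ := by
    by_contra hlt
    push Not at hlt
    have h2 : n₁ ≤ 2 := by omega
    have : n₁ * n₂ ≤ 2 * 3 := Nat.mul_le_mul h2 (by omega)
    omega
  have hex' : n₁ = 2 → ∃ c : F, c ≠ 0 ∧ c ≠ 1 := by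
    intro h
    have hc2 : Fintype.card F ≠ 2 := fun hc => hex ⟨h, hc⟩
    have h1c : 1 < Fintype.card F := Fintype.one_lt_card
    have h3c : 2 < Fintype.card F := by omega
    obtain ⟨x, y, z, hxy, hxz, hyz⟩ := Fintype.two_lt_card_iff.mp h3c
    by_cases hx : x ≠ 0 ∧ x ≠ 1
    · exact ⟨x, hx.1, hx.2⟩
    · by_cases hy : y ≠ 0 ∧ y ≠ 1
      · exact ⟨y, hy.1, hy.2⟩
      · refine ⟨z, ?_, ?_⟩
        · rintro rfl
          push Not at hx hy
          by_cases hx0 : x = 0
          · exact hxz hx0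
          · have hx1 := hx hx0
            by_cases hy0 : y = 0
            · exact hyz hy0
            · have hy1 := hy hy0
              exact hxy (hx1.trans hy1.symm)
        · rintro rfl
          push Not at hx hy
          by_cases hx0 : x = 0
          · by_cases hy0 : y = 0
            · exact hxy (hx0.trans hy0.symm)
            · exact hyz (hy hy0)
          · exact hxz (hx hx0)
  -- the transport map
  set φ : GL (Fin n₁ × Fin n₂) F →* GL (Fin n) F :=
    (MulAut.conj P).toMonoidHom.comp (glReindex e.symm).toMonoidHom with hφ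
  have hφapp : ∀ g, φ g = P * glReindex e.symm g * P⁻¹ := fun g => rfl
  have hφdet : ∀ g : GL (Fin n₁ × Fin n₂) F,
      ((φ g : GL (Fin n) F) : Matrix (Fin n) (Fin n) F).det =
        (g : Matrix (Fin n₁ × Fin n₂) (Fin n₁ × Fin n₂) F).det := by
    intro g
    rw [hφapp, Units.val_mul, Units.val_mul, Matrix.det_mul, Matrix.det_mul,
      Cfsg.Agent.Helper9.AschComp.det_glReindex, mul_comm, ← mul_assoc, ← Matrix.det_mul,
      ← Units.val_mul, inv_mul_cancel, Units.val_one, Matrix.det_one, one_mul]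
  have hφsurj : ∀ y : GL (Fin n) F, ∃ g, φ g = y := by
    intro y
    refine ⟨(glReindex e.symm).symm (P⁻¹ * y * P), ?_⟩
    rw [hφapp, MulEquiv.apply_symm_apply]
    group
  have hTPS : ∀ g : GL (Fin n₁ × Fin n₂) F,
      φ g ∈ tensorProductSubgroup n₁ n₂ e P ↔ g ∈ kroneckerSubgroup n₁ n₂ F := by
    intro g
    constructor
    · intro hg
      obtain ⟨y, hy, hyg⟩ := hg
      obtain ⟨k, hk, rfl⟩ := hy
      have h2 : P * glReindex e.symm k * P⁻¹ = P * glReindex e.symm g * P⁻¹ := hyg
      have h3 := congrArg (fun z => P⁻¹ * z * P) h2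
      have h4 : glReindex e.symm k = glReindex e.symm g := by
        simpa [mul_assoc] using h3
      rw [← (glReindex e.symm).injective h4]
      exact hk
    · intro hg
      exact ⟨glReindex e.symm g, ⟨g, hg, rfl⟩, rfl⟩
  refine ⟨?_, ?_⟩
  · refine lt_of_le_of_ne inf_le_right ?_
    intro heq
    apply Cfsg.Agent.Helper9.AschComp.not_le_tensorProductSubgroup h1 (by omega) e P
    rw [← heq]
    exact inf_le_left
  · intro M hHM hMK
    set X : Subgroup (GL (Fin n₁ × Fin n₂) F) := M.comap φ with hX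
    have hX1 : kroneckerSubgroup n₁ n₂ F ⊓ specialLinear (Fin n₁ × Fin n₂) F ≤ X := by
      rintro g ⟨hgK, hgS⟩
      rw [hX, Subgroup.mem_comap]
      apply hHM
      refine ⟨(hTPS g).mpr hgK, ?_⟩
      apply (mem_specialLinear_iff (φ g)).mpr
      rw [hφdet]
      exact (mem_specialLinear_iff g).mp hgS
    have hX2 : X ≤ specialLinear (Fin n₁ × Fin n₂) F := by
      intro g hg
      rw [hX, Subgroup.mem_comap] at hg
      have := (mem_specialLinear_iff _).mp (hMK hg)
      rw [hφdet] at this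
      exact (mem_specialLinear_iff g).mpr this
    by_cases hX3 : X ≤ kroneckerSubgroup n₁ n₂ F
    · left
      refine le_antisymm ?_ hHM
      intro y hy
      obtain ⟨g, rfl⟩ := hφsurj y
      exact ⟨(hTPS g).mpr (hX3 hy), hMK hy⟩
    · right
      have hXeq := sl_le_of_kronecker_lt h1 h12 (by omega) hex' X hX1 hX2 hX3
      refine le_antisymm hMK ?_
      intro y hy
      obtain ⟨g, rfl⟩ := hφsurj y
      have hg : g ∈ X := by
        rw [hXeq, mem_specialLinear_iff, ← hφdet]
        exact (mem_specialLinear_iff _).mp hy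
      exact hg

end Cfsg.Agent.Helper4.TP
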