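import Cfsg.Agent.Helper4.TPBase

set_option autoImplicit false
set_option linter.unusedSectionVars false
set_option linter.unusedSimpArgs false

/-! Tensor product stabilisers in `SL` (helper4, S5637): the root elements are of the form
`1 ⊗ B` with `det B = 1`. -/

namespace Cfsg.Agent.Helper4.TP

open Module Matrix Cfsg.Agent.Helper7.ExtF Cfsg.Agent.Helper7
open scoped Kronecker

variable {F : Type*} [Field F] {m n : Type} [Fintype m] [DecidableEq m] [Fintype n]
  [DecidableEq n]

/-- the vector of a functional. -/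
def vecOf {ι : Type} [Fintype ι] [DecidableEq ι] (β : Module.Dual F (ι → F)) : ι → F :=
  fun j => β (Pi.single j 1)

theorem vecOf_dotProduct {ι : Type} [Fintype ι] [DecidableEq ι] (β : Module.Dual F (ι → F))
    (x : ι → F) : vecOf β ⬝ᵥ x = β x := by
  have hx : x = ∑ j, x j • (Pi.single j (1 : F) : ι → F) := by
    ext i
    rw [Finset.sum_apply]
    simp [Pi.single_apply]
  conv_rhs => rw [hx]
  rw [map_sum]
  simp only [map_smul, smul_eq_mul, dotProduct, vecOf]
  exact Finset.sum_congr rfl fun j _ => mul_comm _ _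

/-- the root element `1 ⊗ (1 + w ⊗ β)` as `tt 1 B`. -/
theorem zz_eq_tt_tau (w : n → F) (β : Module.Dual F (n → F)) (h : β w = 0) :
    zz (m := m) w β h =
      tt 1 (TGL.tau w (vecOf β) (by rw [vecOf_dotProduct]; exact h)) := by
  apply LinearEquiv.toLinearMap_injective
  apply ext_tmul
  intro u w'
  rw [LinearEquiv.coe_coe, LinearEquiv.coe_coe, zz_apply, tt_tmul, con_tmul, Units.val_one,
    Matrix.one_mulVec, TGL.tau_mulVec, vecOf_dotProduct, map_add, map_smul, map_smul,
    LinearMap.smul_apply]

theorem zz_mem_h4 (G : Subgroup ((m × n → F) ≃ₗ[F] (m × n → F)))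
    (hM : ∀ (A : GL m F) (B : GL n F),
      ((kr A B : GL (m × n) F) : Matrix (m × n) (m × n) F).det = 1 → tt A B ∈ G)
    (w : n → F) (β : Module.Dual F (n → F)) (h : β w = 0) : zz w β h ∈ G := by
  rw [zz_eq_tt_tau]
  apply hM
  rw [det_kr, Units.val_one, Matrix.det_one, one_pow, one_mul]
  have h0 : vecOf β ⬝ᵥ w = 0 := by rw [vecOf_dotProduct]; exact h
  have := TGL.tau_mem_specialLinear w (vecOf β) h0
  have hd : ((TGL.tau w (vecOf β) h0 : GL n F) : Matrix n n F).det = 1 := by
    have h1 := (MonoidHom.mem_ker).mp this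
    exact congrArg Units.val h1
  rw [hd, one_pow]

end Cfsg.Agent.Helper4.TP
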