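import Mathlib
import Cfsg.Agent.Lead.ThreeTransW

/-!
# 3-transpositions: no member outside two commuting blocks

If `d ≠ x` have the same star, `a₁ ≠ a₂` in that star have the same star, the block of `d` has at
most three members and `O₃(C(d))` has order three, then no member of `D` fails to commute with both
`d` and `a₁`.
-/

set_option autoImplicit false

namespace Cfsg.Agent.Helper4.TT5

open Cfsg.Agent.Lead.TTW

theorem no_extra {G : Type*} [Group G] [Finite G] {D : Set G} (h : TT3 D)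
    (hO : ∀ d ∈ D, Nat.card (Cfsg.pCore 3 ↥(Subgroup.centralizer ({d} : Set G))) = 3)
    {d x a₁ a₂ e : G} (hd : d ∈ D) (hx : x ∈ D) (ha₁ : a₁ ∈ star D d) (ha₂ : a₂ ∈ star D d)
    (he : e ∈ D) (hdx : d ≠ x) (ha : a₁ ≠ a₂) (hW : WRel D d x) (hW' : WRel D a₁ a₂)
    (hblk : ∀ w ∈ D, WRel D d w → w = d ∨ w = x ∨ w = d * x * d)
    (hed : ¬ Commute e d) (hea : ¬ Commute e a₁) : False := by
  have : Fact (Nat.Prime 3) := ⟨by norm_num⟩
  have hPn : (Cfsg.pCore 3 G).Normal := Cfsg.Agent.Helper1.pCore_normal 3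
  have hP3 : IsPGroup 3 (Cfsg.pCore 3 G) := Cfsg.Agent.Helper1.pCore_isPGroup 3
  -- commutation
  have ca₁ : d * a₁ = a₁ * d := ha₁.2.2.eq
  have ca₂ : d * a₂ = a₂ * d := ha₂.2.2.eq
  have hxa₁ : x * a₁ = a₁ * x := by
    have : a₁ ∈ star D x := by
      rw [← (hW : star D d = star D x)]; exact ha₁
    exact this.2.2.eq
  have hxa₂ : x * a₂ = a₂ * x := by
    have : a₂ ∈ star D x := by
      rw [← (hW : star D d = star D x)]; exact ha₂
    exact this.2.2.eq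
  have sqd := h.sq d hd
  have sqx := h.sq x hx
  have sqa₁ := h.sq a₁ ha₁.1
  have sqa₂ := h.sq a₂ ha₂.1
  have hncdx : ¬ Commute d x := WRel.not_commute hx hW hdx
  have cube_dx : (d * x) ^ 3 = 1 := h.cube d hd x hx hncdx
  have hρ : d * x ∈ Cfsg.pCore 3 G :=
    MM_le_pCore h (Subgroup.subset_closure ⟨d, hd, x, hx, hW, rfl⟩)
  have hσ : a₁ * a₂ ∈ Cfsg.pCore 3 G :=
    MM_le_pCore h (Subgroup.subset_closure ⟨a₁, ha₁.1, a₂, ha₂.1, hW', rfl⟩)
  have hσC : a₁ * a₂ ∈ Subgroup.centralizer ({d} : Set G) := by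
    rw [Subgroup.mem_centralizer_iff]
    intro y hy
    rw [Set.mem_singleton_iff] at hy
    rw [hy]
    calc d * (a₁ * a₂) = (d * a₁) * a₂ := by group
      _ = a₁ * (d * a₂) := by rw [ca₁]; group
      _ = a₁ * a₂ * d := by rw [ca₂]; group
  -- every member of O₃(G) is a product of powers of d x and a₁ a₂
  have hrep : ∀ g ∈ Cfsg.pCore 3 G, ∃ i k : ℤ, g = (d * x) ^ i * (a₁ * a₂) ^ k := by
    intro g hg
    have hmem : g * d * g⁻¹ ∈ {w : G | ∃ g ∈ Cfsg.pCore 3 G, w = g * d * g⁻¹} := ⟨g, hg, rfl⟩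
    rw [← (main_W h hd).2] at hmem
    obtain ⟨hgD, hgW⟩ := hmem
    have hcases := hblk _ hgD hgW
    obtain ⟨r, hr, hrc⟩ : ∃ r ∈ Subgroup.zpowers (d * x), r * d * r⁻¹ = g * d * g⁻¹ := by
      rcases hcases with h1 | h1 | h1
      · exact ⟨1, Subgroup.one_mem _, by rw [h1]; group⟩
      · refine ⟨d * x, Subgroup.mem_zpowers _, ?_⟩
        rw [h1]; exact conj_prod sqd sqx cube_dx
      · refine ⟨(d * x) * (d * x),
          Subgroup.mul_mem _ (Subgroup.mem_zpowers _) (Subgroup.mem_zpowers _), ?_⟩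
        rw [h1]
        have hcp := conj_prod sqd sqx cube_dx
        calc (d * x) * (d * x) * d * ((d * x) * (d * x))⁻¹
            = (d * x) * ((d * x) * d * (d * x)⁻¹) * (d * x)⁻¹ := by group
          _ = (d * x) * x * (d * x)⁻¹ := by rw [hcp]
          _ = d * x * d⁻¹ := by group
          _ = d * x * d := by rw [h.inv hd]
    have hrP : r ∈ Cfsg.pCore 3 G := by
      have hle : Subgroup.zpowers (d * x) ≤ Cfsg.pCore 3 G := by
        rw [Subgroup.zpowers_le]; exact hρ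
      exact hle hr
    have htP : r⁻¹ * g ∈ Cfsg.pCore 3 G :=
      Subgroup.mul_mem _ (Subgroup.inv_mem _ hrP) hg
    have htc : r⁻¹ * g * d = d * (r⁻¹ * g) := by
      calc r⁻¹ * g * d = r⁻¹ * (g * d * g⁻¹) * g := by group
        _ = r⁻¹ * (r * d * r⁻¹) * g := by rw [hrc]
        _ = d * (r⁻¹ * g) := by group
    have htC : r⁻¹ * g ∈ Subgroup.centralizer ({d} : Set G) := by
      rw [Subgroup.mem_centralizer_iff]
      intro y hy
      rw [Set.mem_singleton_iff] at hy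
      rw [hy]; exact htc.symm
    have : ((Cfsg.pCore 3 G).subgroupOf (Subgroup.centralizer ({d} : Set G))).Normal :=
      hPn.subgroupOf _
    have hQle : (Cfsg.pCore 3 G).subgroupOf (Subgroup.centralizer ({d} : Set G)) ≤
        Cfsg.pCore 3 ↥(Subgroup.centralizer ({d} : Set G)) :=
      Cfsg.Agent.Helper1.le_pCore inferInstance hP3.comap_subtype
    have hsK : (⟨a₁ * a₂, hσC⟩ : ↥(Subgroup.centralizer ({d} : Set G))) ∈
        Cfsg.pCore 3 ↥(Subgroup.centralizer ({d} : Set G)) :=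
      hQle (Subgroup.mem_subgroupOf.mpr hσ)
    have htK : (⟨r⁻¹ * g, htC⟩ : ↥(Subgroup.centralizer ({d} : Set G))) ∈
        Cfsg.pCore 3 ↥(Subgroup.centralizer ({d} : Set G)) :=
      hQle (Subgroup.mem_subgroupOf.mpr htP)
    have hs1 : (⟨⟨a₁ * a₂, hσC⟩, hsK⟩ :
        ↥(Cfsg.pCore 3 ↥(Subgroup.centralizer ({d} : Set G)))) ≠ 1 := by
      intro h1
      have h2 : a₁ * a₂ = 1 := congrArg
        (fun y : ↥(Cfsg.pCore 3 ↥(Subgroup.centralizer ({d} : Set G))) =>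
          ((y : ↥(Subgroup.centralizer ({d} : Set G))) : G)) h1
      have h3 : a₁ = a₂⁻¹ := eq_inv_of_mul_eq_one_left h2
      rw [h.inv ha₂.1] at h3
      exact ha h3
    have hmz : (⟨⟨r⁻¹ * g, htC⟩, htK⟩ :
        ↥(Cfsg.pCore 3 ↥(Subgroup.centralizer ({d} : Set G)))) ∈
        Subgroup.zpowers (⟨⟨a₁ * a₂, hσC⟩, hsK⟩ :
          ↥(Cfsg.pCore 3 ↥(Subgroup.centralizer ({d} : Set G)))) :=
      mem_zpowers_of_prime_card (hO d hd) hs1
    obtain ⟨k, hk⟩ := Subgroup.mem_zpowers_iff.mp hmz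
    have hk' : (a₁ * a₂) ^ k = r⁻¹ * g := by
      have := congrArg
        (fun y : ↥(Cfsg.pCore 3 ↥(Subgroup.centralizer ({d} : Set G))) =>
          ((y : ↥(Subgroup.centralizer ({d} : Set G))) : G)) hk
      simpa using this
    obtain ⟨i, hi⟩ := Subgroup.mem_zpowers_iff.mp hr
    refine ⟨i, k, ?_⟩
    rw [hi, hk']; group
  -- d a₁ inverts O₃(G)
  have hinv : ∀ g ∈ Cfsg.pCore 3 G, (d * a₁) * g * (d * a₁)⁻¹ = g⁻¹ := by
    intro g hg
    obtain ⟨i, k, rfl⟩ := hrep g hg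
    have e1 : (d * a₁) * (d * x) * (d * a₁)⁻¹ = (d * x)⁻¹ := by
      rw [mul_inv_rev, mul_inv_rev, h.inv hd, h.inv ha₁.1, h.inv hx]
      calc d * a₁ * (d * x) * (a₁ * d) = d * (a₁ * d) * (x * a₁) * d := by group
        _ = d * (d * a₁) * (a₁ * x) * d := by rw [← ca₁, hxa₁]
        _ = (d * d) * (a₁ * a₁) * x * d := by group
        _ = x * d := by rw [sqd, sqa₁, one_mul, one_mul]
    have e2 : (d * a₁) * (a₁ * a₂) * (d * a₁)⁻¹ = (a₁ * a₂)⁻¹ := by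
      rw [mul_inv_rev, mul_inv_rev, h.inv hd, h.inv ha₁.1, h.inv ha₂.1]
      calc d * a₁ * (a₁ * a₂) * (a₁ * d) = d * (a₁ * a₁) * a₂ * (a₁ * d) := by group
        _ = (d * a₂) * (a₁ * d) := by rw [sqa₁, mul_one]
        _ = (a₂ * d) * (d * a₁) := by rw [ca₂, ← ca₁]
        _ = a₂ * (d * d) * a₁ := by group
        _ = a₂ * a₁ := by rw [sqd, mul_one]
    have hc : Commute (d * x) (a₁ * a₂) :=
      (Commute.mul_right ha₁.2.2 ha₂.2.2).mul_left (Commute.mul_right hxa₁ hxa₂)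
    calc (d * a₁) * ((d * x) ^ i * (a₁ * a₂) ^ k) * (d * a₁)⁻¹
        = MulAut.conj (d * a₁) ((d * x) ^ i * (a₁ * a₂) ^ k) := (MulAut.conj_apply _ _).symm
      _ = (MulAut.conj (d * a₁) (d * x)) ^ i * (MulAut.conj (d * a₁) (a₁ * a₂)) ^ k := by
          rw [map_mul, map_zpow, map_zpow]
      _ = ((d * x)⁻¹) ^ i * ((a₁ * a₂)⁻¹) ^ k := by
          rw [MulAut.conj_apply, MulAut.conj_apply, e1, e2]
      _ = ((d * x) ^ i * (a₁ * a₂) ^ k)⁻¹ := by
          rw [inv_zpow, inv_zpow, mul_inv_rev]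
          exact ((hc.zpow_zpow i k).inv_inv).eq
  -- the two elements of order three
  have hkey : ∀ g ∈ Cfsg.pCore 3 G,
      (d * e) * g * (d * e)⁻¹ = (a₁ * e) * g⁻¹ * (a₁ * e)⁻¹ := by
    intro g hg
    have hv : d * e = (d * a₁) * (a₁ * e) := by
      calc d * e = d * (a₁ * a₁) * e := by rw [sqa₁, mul_one]
        _ = (d * a₁) * (a₁ * e) := by group
    have hm : (a₁ * e) * g * (a₁ * e)⁻¹ ∈ Cfsg.pCore 3 G := hPn.conj_mem g hg _
    have hi := hinv _ hm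
    rw [hv]
    calc (d * a₁) * (a₁ * e) * g * ((d * a₁) * (a₁ * e))⁻¹
        = (d * a₁) * ((a₁ * e) * g * (a₁ * e)⁻¹) * (d * a₁)⁻¹ := by group
      _ = ((a₁ * e) * g * (a₁ * e)⁻¹)⁻¹ := hi
      _ = (a₁ * e) * g⁻¹ * (a₁ * e)⁻¹ := by group
  have hu3 : (a₁ * e) ^ 3 = 1 := h.cube a₁ ha₁.1 e he (fun hc => hea hc.symm)
  have hv3 : (d * e) ^ 3 = 1 := h.cube d hd e he (fun hc => hed hc.symm)
  have hfin : ∀ g ∈ Cfsg.pCore 3 G, g = g⁻¹ := by
    intro g hg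
    have g1 : (a₁ * e) * g⁻¹ * (a₁ * e)⁻¹ ∈ Cfsg.pCore 3 G :=
      hPn.conj_mem _ (Subgroup.inv_mem _ hg) _
    have k1 := hkey g hg
    have k2 := hkey _ g1
    have g2 : (a₁ * e) * ((a₁ * e) * g⁻¹ * (a₁ * e)⁻¹)⁻¹ * (a₁ * e)⁻¹ ∈ Cfsg.pCore 3 G :=
      hPn.conj_mem _ (Subgroup.inv_mem _ g1) _
    have k3 := hkey _ g2
    have hv3' : (d * e) * (d * e) * (d * e) = 1 := by rw [← pow_three']; exact hv3
    have hu3' : (a₁ * e) * (a₁ * e) * (a₁ * e) = 1 := by rw [← pow_three']; exact hu3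
    calc g = ((d * e) * (d * e) * (d * e)) * g * ((d * e) * (d * e) * (d * e))⁻¹ := by
          rw [hv3']; group
      _ = (d * e) * ((d * e) * ((d * e) * g * (d * e)⁻¹) * (d * e)⁻¹) * (d * e)⁻¹ := by group
      _ = (d * e) * ((d * e) * ((a₁ * e) * g⁻¹ * (a₁ * e)⁻¹) * (d * e)⁻¹) * (d * e)⁻¹ := by
          rw [k1]
      _ = (d * e) * ((a₁ * e) * ((a₁ * e) * g⁻¹ * (a₁ * e)⁻¹)⁻¹ * (a₁ * e)⁻¹) * (d * e)⁻¹ := by
          rw [k2]
      _ = (a₁ * e) * ((a₁ * e) * ((a₁ * e) * g⁻¹ * (a₁ * e)⁻¹)⁻¹ * (a₁ * e)⁻¹)⁻¹ *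
            (a₁ * e)⁻¹ := by rw [k3]
      _ = ((a₁ * e) * (a₁ * e) * (a₁ * e)) * g⁻¹ * ((a₁ * e) * (a₁ * e) * (a₁ * e))⁻¹ := by
          group
      _ = g⁻¹ := by rw [hu3']; group
  have h1 := hfin _ hρ
  have h2 : (d * x) * (d * x) = 1 := mul_eq_one_iff_eq_inv.mpr h1
  have h3 := eq_one_of_sq_of_three hP3 hρ h2
  have h4 : d = x⁻¹ := eq_inv_of_mul_eq_one_left h3
  rw [h.inv hx] at h4
  exact hdx h4

end Cfsg.Agent.Helper4.TT5
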