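import Mathlib
import Cfsg.Agent.Helper4.TT5A
import Cfsg.Agent.Helper4.TT5N

/-!
# 3-transpositions whose stars generate `S₃`, two members with the same star: `S₃ × S₃`
-/

set_option autoImplicit false

namespace Cfsg.Agent.Helper4.TT5

open Cfsg.Agent.Lead.TTW

variable {G : Type*} [Group G] {D : Set G}

/-- every member of the closure of `B` commutes with every member of the closure of `A` -/
theorem closure_commute {A B : Set G} (hAB : ∀ a ∈ A, ∀ b ∈ B, Commute a b) :
    ∀ g ∈ Subgroup.closure A, ∀ k ∈ Subgroup.closure B, Commute g k := by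
  have h1 : ∀ b ∈ B, ∀ g ∈ Subgroup.closure A, Commute g b := by
    intro b hb g hg
    induction hg using Subgroup.closure_induction with
    | mem x hx => exact hAB x hx b hb
    | one => exact Commute.one_left b
    | mul x y _ _ hx hy => exact hx.mul_left hy
    | inv x _ hx => exact hx.inv_left
  intro g hg k hk
  induction hk using Subgroup.closure_induction with
  | mem x hx => exact h1 x hx g hg
  | one => exact Commute.one_right g
  | mul x y _ _ hx hy => exact hx.mul_right hy
  | inv x _ hx => exact hx.inv_right

/-- **Part I**: if two different members have the same star then `D` generates a copy of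
`S₃ × S₃`. -/
theorem partI [Finite G] (h : TT3 D) (hL : LocS3 D)
    (hO : ∀ d ∈ D, Nat.card (Cfsg.pCore 3 ↥(Subgroup.centralizer ({d} : Set G))) = 3)
    {d x : G} (hd : d ∈ D) (hx : x ∈ D) (hdx : d ≠ x) (hW : WRel D d x) :
    Nonempty (↥(Subgroup.closure D) ≃* Equiv.Perm (Fin 3) × Equiv.Perm (Fin 3)) := by
  have hncdx : ¬ Commute d x := WRel.not_commute hx hW hdx
  obtain ⟨a₁, ha₁, a₂, ha₂, hna⟩ := star_exists2 hL hd
  have ha12 : a₁ ≠ a₂ := by
    rintro rfl
    exact hna (Commute.refl a₁)
  -- the star of every member of the star of d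
  have hstarA : ∀ a ∈ star D d, star D a = {d, x, d * x * d} := by
    intro a ha
    have h1 : d ∈ star D a := star_symm hd ha
    have h2 : x ∈ star D a := by
      apply star_symm hx
      have : star D d = star D x := hW
      rw [← this]; exact ha
    exact star_eq h hL ha.1 h1 h2 hdx
  have hW' : WRel D a₁ a₂ := (hstarA a₁ ha₁).trans (hstarA a₂ ha₂).symm
  have hblk : ∀ w ∈ D, WRel D d w → w = d ∨ w = x ∨ w = d * x * d := by
    intro w hw hdw
    have h1 : a₁ ∈ star D w := by
      have : star D d = star D w := hdw
      rw [← this]; exact ha₁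
    have h2 : w ∈ star D a₁ := star_symm hw h1
    rw [hstarA a₁ ha₁] at h2
    simpa using h2
  -- D is the union of the two stars
  have hDeq : D = star D d ∪ star D a₁ := by
    apply Set.Subset.antisymm
    · intro e he
      by_contra hcon
      rw [Set.mem_union, not_or] at hcon
      have hda₁ : d ∈ star D a₁ := star_symm hd ha₁
      have hed : ¬ Commute e d := by
        intro hc
        apply hcon.1
        refine ⟨he, ?_, hc.symm⟩
        rintro rfl
        exact hcon.2 hda₁
      have hea : ¬ Commute e a₁ := by
        intro hc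
        apply hcon.2
        refine ⟨he, ?_, hc.symm⟩
        rintro rfl
        exact hcon.1 ha₁
      exact no_extra h hO hd hx ha₁ ha₂ he hdx ha12 hW hW' hblk hed hea
    · intro e he
      rcases he with he | he
      · exact he.1
      · exact he.1
  -- the two factors
  obtain ⟨eA⟩ := hL d hd
  obtain ⟨eB⟩ := hL a₁ ha₁.1
  have hAB : ∀ a ∈ star D d, ∀ b ∈ star D a₁, Commute a b := by
    intro a ha b hb
    have : b ∈ star D a := by
      rw [hstarA a ha, ← hstarA a₁ ha₁]; exact hb
    exact this.2.2
  have hcomm := closure_commute hAB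
  have hc' : ∀ (m : ↥(Subgroup.closure (star D d))) (n : ↥(Subgroup.closure (star D a₁))),
      Commute ((Subgroup.closure (star D d)).subtype m) ((Subgroup.closure (star D a₁)).subtype n) :=
    fun m n => hcomm m.1 m.2 n.1 n.2
  obtain ⟨Φ, hΦ⟩ : ∃ Φ : ↥(Subgroup.closure (star D d)) × ↥(Subgroup.closure (star D a₁)) →* G,
      Φ = MonoidHom.noncommCoprod (Subgroup.closure (star D d)).subtype
        (Subgroup.closure (star D a₁)).subtype hc' := ⟨_, rfl⟩
  have hΦinj : Function.Injective Φ := by
    rw [hΦ, MonoidHom.noncommCoprod_injective]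
    refine ⟨Subtype.val_injective, Subtype.val_injective, ?_⟩
    rw [Subgroup.range_subtype, Subgroup.range_subtype, disjoint_iff_inf_le]
    intro g hg
    rw [Subgroup.mem_inf] at hg
    rw [Subgroup.mem_bot]
    apply star_center hL hd hg.1
    intro y hy
    exact ((hcomm y (Subgroup.subset_closure hy) g hg.2).eq).symm
  have hΦrange : Φ.range = Subgroup.closure D := by
    rw [hΦ, MonoidHom.noncommCoprod_range, Subgroup.range_subtype, Subgroup.range_subtype,
      ← Subgroup.closure_union, ← hDeq]
  exact ⟨((MulEquiv.subgroupCongr hΦrange.symm).trans (MonoidHom.ofInjective hΦinj).symm).trans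
    (MulEquiv.prodCongr eA eB)⟩

end Cfsg.Agent.Helper4.TT5
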