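import Mathlib
import Cfsg.Agent.S0827
import Cfsg.Agent.S5356
import Cfsg.Agent.S5349
import Cfsg.Agent.Helper8.SUCenter
import Cfsg.Agent.Helper1.Cores
import Cfsg.Agent.Lead.ThreeTransW

/-!
# A complement to `O₂(G)` in a 3-transposition group with `G / O₂(G) ≅ SU₃(2)'`

`SU₃(2)` has no Klein four-subgroup (its quotient `Q₈` has a unique involution and the kernel has
odd order), so commuting members of `D` are congruent modulo `O₂(G)`; then a Sylow 3-subgroup
normalized by a member `d` of `D` gives the complement `⟨d⟩ P`.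
-/

set_option autoImplicit false

namespace Cfsg.Agent.Helper4.TTCompl

theorem q8_invol : ∀ x : QuaternionGroup 2, x * x = 1 → x = 1 ∨ x = QuaternionGroup.a 2 := by
  decide

theorem q8_a_sq : QuaternionGroup.a (2 : ZMod (2 * 2)) * QuaternionGroup.a 2 =
    (1 : QuaternionGroup 2) := by
  decide

/-- two commuting involutions of `SU₃(2)` are equal -/
theorem su32_no_klein {F : Type} [Field F] [Fintype F] (hF : Fintype.card F = 4)
    (s t : ↥(Cfsg.SU 3 F 2)) (hs : s * s = 1) (ht : t * t = 1) (hs1 : s ≠ 1) (ht1 : t ≠ 1)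
    (hst : s * t = t * s) : s = t := by
  obtain ⟨N, hNn, -, hN3, ⟨e⟩⟩ := Cfsg.Agent.S0827.result hF
  have hF' : Fintype.card F = 2 ^ 2 := by rw [hF]; norm_num
  have hZ : Nat.card (Subgroup.center (Cfsg.SU 3 F 2)) = 3 := by
    rw [Cfsg.Agent.Helper8.SUCenter.card_center hF' (n := 3) (by norm_num)]; rfl
  obtain ⟨φ, hφ⟩ : ∃ φ : ↥(Cfsg.SU 3 F 2) →* QuaternionGroup 2, ∀ x, φ x =
      e ((QuotientGroup.mk' N) ((QuotientGroup.mk' (Subgroup.center (Cfsg.SU 3 F 2))) x)) :=
    ⟨e.toMonoidHom.comp ((QuotientGroup.mk' N).comp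
      (QuotientGroup.mk' (Subgroup.center (Cfsg.SU 3 F 2)))), fun x => rfl⟩
  -- the kernel has no involutions
  have hker : ∀ x : ↥(Cfsg.SU 3 F 2), φ x = 1 → x * x = 1 → x = 1 := by
    intro x hx hxx
    rw [hφ] at hx
    have h1 : (QuotientGroup.mk' N)
        ((QuotientGroup.mk' (Subgroup.center (Cfsg.SU 3 F 2))) x) = 1 := by
      rwa [EmbeddingLike.map_eq_one_iff] at hx
    have h2 : (QuotientGroup.mk' (Subgroup.center (Cfsg.SU 3 F 2))) x ∈ N := by
      rwa [QuotientGroup.mk'_apply, QuotientGroup.eq_one_iff] at h1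
    have h3 := hN3 _ h2
    have h4 : x ^ 3 ∈ Subgroup.center (Cfsg.SU 3 F 2) := by
      rw [← map_pow] at h3
      rwa [QuotientGroup.mk'_apply, QuotientGroup.eq_one_iff] at h3
    have h5 : (x ^ 3) ^ 3 = 1 := by
      have h6 : (⟨x ^ 3, h4⟩ : Subgroup.center (Cfsg.SU 3 F 2)) ^
          (Nat.card (Subgroup.center (Cfsg.SU 3 F 2))) = 1 := pow_card_eq_one'
      rw [hZ] at h6
      have h7 := congrArg Subtype.val h6
      simpa using h7
    have h6 : x ^ 2 = 1 := by rw [pow_two]; exact hxx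
    have h7 : x ^ 9 = 1 := by
      rw [show 9 = 3 * 3 by norm_num, pow_mul]; exact h5
    calc x = x ^ 9 * ((x ^ 2) ^ 4)⁻¹ := by group
      _ = 1 := by rw [h7, h6]; simp
  have hs' := q8_invol (φ s) (by rw [← map_mul, hs, map_one])
  have ht' := q8_invol (φ t) (by rw [← map_mul, ht, map_one])
  rcases hs' with h | h
  · exact absurd (hker s h hs) hs1
  rcases ht' with h' | h'
  · exact absurd (hker t h' ht) ht1
  have h1 : φ (s * t) = 1 := by rw [map_mul, h, h']; exact q8_a_sq
  have h2 : (s * t) * (s * t) = 1 := by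
    calc (s * t) * (s * t) = s * (t * s) * t := by group
      _ = s * (s * t) * t := by rw [hst]
      _ = (s * s) * (t * t) := by group
      _ = 1 := by rw [hs, ht, one_mul]
  have h3 := hker _ h1 h2
  have h4 : s = t⁻¹ := eq_inv_of_mul_eq_one_left h3
  rw [h4]
  exact inv_eq_of_mul_eq_one_left ht

open Cfsg.Agent.Lead.TTW in
/-- **S5555** (the hypotheses on the centre and on `F*` are not needed). -/
theorem main {G : Type*} [Group G] [Finite G] {D : Set G}
    (hD : Cfsg.IsThreeTranspositionClass D)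
    (hq : ∃ (F : Type) (_ : Field F) (_ : Fintype F), Fintype.card F = 4 ∧
      Nonempty (G ⧸ Cfsg.pCore 2 G ≃* ↥(commutator ↥(Cfsg.SU 3 F 2)))) :
    ∃ K : Subgroup G, (Cfsg.pCore 2 G).IsComplement' K := by
  obtain ⟨F, _, _, hF, ⟨ε⟩⟩ := hq
  have h := tt3_of_class hD
  have hgen : Subgroup.closure D = ⊤ := hD.2.2
  obtain ⟨d, hd, hDeq⟩ := hD.2.1
  have h2N : IsPGroup 2 (Cfsg.pCore 2 G) := by
    haveI : Fact (Nat.Prime 2) := ⟨Nat.prime_two⟩
    exact Cfsg.Agent.Helper1.pCore_isPGroup 2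
  -- conjugacy inside D
  have hconjd : ∀ a ∈ D, ∃ g : G, a = g * d * g⁻¹ := by
    intro a ha
    rw [hDeq] at ha
    have ha' : IsConj d a := ha
    obtain ⟨g, hg⟩ := isConj_iff.mp ha'
    exact ⟨g, hg.symm⟩
  by_cases hdN : d ∈ Cfsg.pCore 2 G
  · -- then G is a 2-group
    have hDN : D ⊆ Cfsg.pCore 2 G := by
      intro a ha
      obtain ⟨g, rfl⟩ := hconjd a ha
      exact (Cfsg.pCore_normal 2 G).conj_mem d hdN g
    have htop : Cfsg.pCore 2 G = ⊤ := by
      rw [eq_top_iff, ← hgen, Subgroup.closure_le]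
      exact hDN
    rw [htop]
    exact ⟨⊥, Subgroup.isComplement'_top_bot⟩
  · -- D has at least two members
    have hD2 : ∃ a ∈ D, ∃ b ∈ D, a ≠ b := by
      by_contra hcon
      apply hdN
      have hall : ∀ a ∈ D, a = d := by
        intro a ha
        by_contra hne
        exact hcon ⟨a, ha, d, hd, hne⟩
      have hDd : D = {d} := by
        ext a
        constructor
        · intro ha; exact hall a ha
        · rintro rfl; exact hd
      have h2G : IsPGroup 2 (⊤ : Subgroup G) := by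
        rintro ⟨g, -⟩
        refine ⟨1, ?_⟩
        have hg : g ∈ Subgroup.zpowers d := by
          rw [Subgroup.zpowers_eq_closure, ← hDd, hgen]; trivial
        obtain ⟨i, rfl⟩ := Subgroup.mem_zpowers_iff.mp hg
        apply Subtype.ext
        show (d ^ i) ^ (2 ^ 1) = 1
        rw [pow_one, ← zpow_natCast, ← zpow_mul, mul_comm, zpow_mul, zpow_natCast, pow_two,
          h.sq d hd, one_zpow]
      have : (⊤ : Subgroup G) ≤ Cfsg.pCore 2 G :=
        Cfsg.Agent.Helper1.le_pCore inferInstance h2G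
      exact this trivial
    have hDN : ∀ a ∈ D, a ∉ Cfsg.pCore 2 G := by
      intro a ha haN
      obtain ⟨g, rfl⟩ := hconjd a ha
      apply hdN
      have := (Cfsg.pCore_normal 2 G).conj_mem _ haN g⁻¹
      have e : g⁻¹ * (g * d * g⁻¹) * g⁻¹⁻¹ = d := by group
      rwa [e] at this
    -- images of members of D in SU₃(2)
    have himg : ∀ a ∈ D, ((ε (QuotientGroup.mk' (Cfsg.pCore 2 G) a) :
        ↥(commutator ↥(Cfsg.SU 3 F 2))) : ↥(Cfsg.SU 3 F 2)) *
        ((ε (QuotientGroup.mk' (Cfsg.pCore 2 G) a) : ↥(commutator ↥(Cfsg.SU 3 F 2))) :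
          ↥(Cfsg.SU 3 F 2)) = 1 ∧
        ((ε (QuotientGroup.mk' (Cfsg.pCore 2 G) a) : ↥(commutator ↥(Cfsg.SU 3 F 2))) :
          ↥(Cfsg.SU 3 F 2)) ≠ 1 := by
      intro a ha
      constructor
      · rw [← Subgroup.coe_mul, ← map_mul, ← map_mul, h.sq a ha, map_one, map_one]
        rfl
      · intro h1
        have h2 : ε (QuotientGroup.mk' (Cfsg.pCore 2 G) a) = 1 := Subtype.ext h1
        rw [EmbeddingLike.map_eq_one_iff, QuotientGroup.mk'_apply,
          QuotientGroup.eq_one_iff] at h2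
        exact hDN a ha h2
    have hV : {y : G | y ∈ D ∧ Commute d y} =
        {v : G | v ∈ D ∧ ∀ e ∈ D, Commute v e ↔ Commute d e} := by
      ext y
      constructor
      · rintro ⟨hy, hc⟩
        rw [(Cfsg.Agent.S5349.result hD hD2 hd).1]
        refine ⟨hy, ?_⟩
        have h1 := himg y hy
        have h2 := himg d hd
        have hcomm : ((ε (QuotientGroup.mk' (Cfsg.pCore 2 G) d) :
            ↥(commutator ↥(Cfsg.SU 3 F 2))) : ↥(Cfsg.SU 3 F 2)) *
            ((ε (QuotientGroup.mk' (Cfsg.pCore 2 G) y) : ↥(commutator ↥(Cfsg.SU 3 F 2))) :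
              ↥(Cfsg.SU 3 F 2)) =
            ((ε (QuotientGroup.mk' (Cfsg.pCore 2 G) y) : ↥(commutator ↥(Cfsg.SU 3 F 2))) :
              ↥(Cfsg.SU 3 F 2)) *
            ((ε (QuotientGroup.mk' (Cfsg.pCore 2 G) d) : ↥(commutator ↥(Cfsg.SU 3 F 2))) :
              ↥(Cfsg.SU 3 F 2)) := by
          rw [← Subgroup.coe_mul, ← Subgroup.coe_mul, ← map_mul, ← map_mul, ← map_mul, ← map_mul,
            hc.eq]
        have h3 := su32_no_klein hF _ _ h2.1 h1.1 h2.2 h1.2 hcomm
        have h4 : (QuotientGroup.mk' (Cfsg.pCore 2 G) d) = QuotientGroup.mk' (Cfsg.pCore 2 G) y :=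
          ε.injective (Subtype.ext h3)
        rw [QuotientGroup.mk'_apply, QuotientGroup.mk'_apply, QuotientGroup.eq] at h4
        exact h4
      · rintro ⟨hy, hall⟩
        exact ⟨hy, ((hall d hd).mpr (Commute.refl d)).symm⟩
    obtain ⟨P, hdP, hsup⟩ := Cfsg.Agent.S5356.result hD hD2 hd hV
    refine ⟨Subgroup.zpowers d ⊔ (P : Subgroup G), ?_⟩
    have hle : Subgroup.zpowers d ≤ Subgroup.normalizer ((P : Subgroup G) : Set G) := by
      rw [Subgroup.zpowers_le]; exact hdP
    apply Subgroup.isComplement'_of_disjoint_and_mul_eq_univ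
    · rw [Subgroup.disjoint_def]
      intro x hxN hxK
      have hxK' : x ∈ ((Subgroup.zpowers d ⊔ (P : Subgroup G) : Subgroup G) : Set G) := hxK
      rw [Subgroup.coe_mul_of_left_le_normalizer_right _ _ hle] at hxK'
      obtain ⟨a, ha, p, hp, rfl⟩ := hxK'
      have ha' : a ∈ Subgroup.zpowers d := ha
      have hp' : p ∈ (P : Subgroup G) := hp
      -- a = 1 or a = d
      have hacase : a = 1 ∨ a = d := by
        obtain ⟨i, rfl⟩ := Subgroup.mem_zpowers_iff.mp ha'
        rcases Int.even_or_odd i with ⟨k, rfl⟩ | ⟨k, rfl⟩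
        · left
          rw [← two_mul, zpow_mul, zpow_two, h.sq d hd, one_zpow]
        · right
          rw [zpow_add, zpow_mul, zpow_two, h.sq d hd, one_zpow, one_mul, zpow_one]
      -- a lies in O₂(G)
      have hπ : (QuotientGroup.mk' (Cfsg.pCore 2 G) a) =
          ((QuotientGroup.mk' (Cfsg.pCore 2 G) p))⁻¹ := by
        rw [eq_inv_iff_mul_eq_one, ← map_mul, QuotientGroup.mk'_apply, QuotientGroup.eq_one_iff]
        exact hxN
      obtain ⟨k, hk⟩ := (P.isPGroup' : IsPGroup 3 (P : Subgroup G)) ⟨p, hp'⟩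
      have hk' : p ^ (3 ^ k) = 1 := by
        have := congrArg Subtype.val hk
        simpa using this
      have ha2 : a * a = 1 := by
        rcases hacase with rfl | rfl
        · simp
        · exact h.sq _ hd
      have h1 : (QuotientGroup.mk' (Cfsg.pCore 2 G) a) ^ (3 ^ k) = 1 := by
        rw [hπ, inv_pow, ← map_pow, hk', map_one, inv_one]
      have h2 : (QuotientGroup.mk' (Cfsg.pCore 2 G) a) ^ 2 = 1 := by
        rw [← map_pow, pow_two, ha2, map_one]
      have h3 : (QuotientGroup.mk' (Cfsg.pCore 2 G) a) = 1 := by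
        have hd1 := orderOf_dvd_of_pow_eq_one h1
        have hd2 := orderOf_dvd_of_pow_eq_one h2
        have hcop : Nat.Coprime 2 (3 ^ k) := Nat.Coprime.pow_right k (by norm_num)
        exact orderOf_eq_one_iff.mp (Nat.eq_one_of_dvd_coprimes hcop hd2 hd1)
      have haN : a ∈ Cfsg.pCore 2 G := by
        rwa [QuotientGroup.mk'_apply, QuotientGroup.eq_one_iff] at h3
      have ha1 : a = 1 := by
        rcases hacase with h4 | h4
        · exact h4
        · rw [h4] at haN; exact absurd haN hdN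
      subst ha1
      simp only [one_mul] at hxN ⊢
      haveI : Fact (Nat.Prime 2) := ⟨Nat.prime_two⟩
      haveI : Fact (Nat.Prime 3) := ⟨Nat.prime_three⟩
      have hdis := IsPGroup.disjoint_of_ne 2 3 (by norm_num) _ _ h2N
        (P.isPGroup' : IsPGroup 3 (P : Subgroup G))
      exact (Subgroup.disjoint_def.mp hdis) hxN hp'
    · rw [← Subgroup.normal_mul, Subgroup.coe_eq_univ]
      rw [← hsup]
      rw [sup_comm]
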