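import Cfsg.Agent.Helper4.TensReflB

set_option autoImplicit false
set_option linter.unusedSectionVars false
set_option linter.unusedVariables false

/-! Tensor decompositions (helper4, S5666, case `dim U = 2`), part A: the transvection criterion.
`V = U ⊗ W` with the symplectic form `B = f₁ ⊗ f₂`.  If `g'` is a symplectic map fixing `U ⊗ z`
pointwise (`z` singular) and `σ = 1 ⊗ ρ` is a Siegel element of `O(W)` for `(z, e)` then the
commutator `[g' σ g'⁻¹, σ]` is `v ↦ v - t (A₀ (c_z v)) z`; conjugating by root elements of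
`Sp(U) ⊗ 1` yields transvections with centre `u ⊗ z`. -/

namespace Cfsg.Agent.Helper4.TensA2

open Module Cfsg.Agent.Helper8.Tens Cfsg.Agent.Helper9.TensFlip Cfsg.Agent.Helper4.TensRefl

variable {F : Type*} [Field F] {U W V : Type*} [AddCommGroup U] [Module F U]
  [AddCommGroup W] [Module F W] [AddCommGroup V] [Module F V]
  {t : U →ₗ[F] W →ₗ[F] V}

/-- `B(v, u ⊗ w) = f₁(c_w v, u)`. -/
theorem B_right (ht : IsTensorProduct t) {B : LinearMap.BilinForm F V}
    {f₁ : LinearMap.BilinForm F U} {f₂ : LinearMap.BilinForm F W}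
    (hB : ∀ u w u' w', B (t u w) (t u' w') = f₁ u u' * f₂ w w') (v : V) (u : U) (w : W) :
    B v (t u w) = f₁ (cy ht f₂ w v) u := by
  have h : (LinearMap.flip B) (t u w) = ((LinearMap.flip f₁) u).comp (cy ht f₂ w) := by
    apply ext_pure ht
    intro u' w'
    simp only [LinearMap.flip_apply, LinearMap.comp_apply, cy_t, map_smul, LinearMap.smul_apply,
      smul_eq_mul, hB]
    ring
  have := LinearMap.congr_fun h v
  simpa using this

/-- the contraction `c_z` is invariant under a symplectic map fixing `U ⊗ z` pointwise. -/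
theorem cy_symp (ht : IsTensorProduct t) {B : LinearMap.BilinForm F V}
    {f₁ : LinearMap.BilinForm F U} {f₂ : LinearMap.BilinForm F W}
    (hB : ∀ u w u' w', B (t u w) (t u' w') = f₁ u u' * f₂ w w')
    (nd₁ : ∀ u, (∀ y, f₁ u y = 0) → u = 0) {g : V ≃ₗ[F] V}
    (hg : ∀ x y, B (g x) (g y) = B x y) {z : W} (hz : ∀ u, g (t u z) = t u z) (v : V) :
    cy ht f₂ z (g v) = cy ht f₂ z v := by
  have h : ∀ u, f₁ (cy ht f₂ z (g v) - cy ht f₂ z v) u = 0 := by
    intro u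
    rw [map_sub, LinearMap.sub_apply, ← B_right ht hB, ← B_right ht hB]
    nth_rewrite 1 [← hz u]
    rw [hg, sub_self]
  exact sub_eq_zero.mp (nd₁ _ h)

/-- `g` is of type `A` at `z`: `g v = v - (A (c_z v)) ⊗ z`. -/
def IsZ (ht : IsTensorProduct t) (f₂ : LinearMap.BilinForm F W) (z : W) (A : U →ₗ[F] U)
    (g : V ≃ₗ[F] V) : Prop := ∀ v, g v = v - t (A (cy ht f₂ z v)) z

theorem IsZ.cy_eq (ht : IsTensorProduct t) {f₂ : LinearMap.BilinForm F W} {z : W}
    (hz : f₂ z z = 0) {A : U →ₗ[F] U} {g : V ≃ₗ[F] V} (h : IsZ ht f₂ z A g) (v : V) :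
    cy ht f₂ z (g v) = cy ht f₂ z v := by
  rw [h v, map_sub, cy_t, hz, zero_smul, sub_zero]

theorem IsZ.mul (ht : IsTensorProduct t) {f₂ : LinearMap.BilinForm F W} {z : W}
    (hz : f₂ z z = 0) {A A' : U →ₗ[F] U} {g g' : V ≃ₗ[F] V} (h : IsZ ht f₂ z A g)
    (h' : IsZ ht f₂ z A' g') : IsZ ht f₂ z (A + A') (g * g') := by
  intro v
  rw [LinearEquiv.mul_apply, h (g' v), h'.cy_eq ht hz v, h' v, LinearMap.add_apply, map_add,
    LinearMap.add_apply]
  abel

theorem IsZ.inv (ht : IsTensorProduct t) {f₂ : LinearMap.BilinForm F W} {z : W}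
    (hz : f₂ z z = 0) {A : U →ₗ[F] U} {g : V ≃ₗ[F] V} (h : IsZ ht f₂ z A g) :
    IsZ ht f₂ z (-A) g⁻¹ := by
  intro v
  have h1 : g (v - t ((-A) (cy ht f₂ z v)) z) = v := by
    rw [h, map_sub, cy_t, hz, zero_smul, sub_zero, LinearMap.neg_apply, map_neg,
      LinearMap.neg_apply]
    abel
  have h2 : g⁻¹ (g (v - t ((-A) (cy ht f₂ z v)) z)) = v - t ((-A) (cy ht f₂ z v)) z := by
    rw [← LinearEquiv.mul_apply, inv_mul_cancel, LinearEquiv.coe_one, id_eq]
  rw [h1] at h2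
  exact h2

/-- conjugation by an element acting on the first factor. -/
theorem IsZ.conj (ht : IsTensorProduct t) {f₂ : LinearMap.BilinForm F W} {z : W}
    {A : U →ₗ[F] U} {g : V ≃ₗ[F] V} (h : IsZ ht f₂ z A g) {x x' : V ≃ₗ[F] V}
    {T T' : U →ₗ[F] U} (hx : ∀ u w, x (t u w) = t (T u) w) (hx' : ∀ u w, x' (t u w) = t (T' u) w)
    (hTT' : ∀ u, T (T' u) = u) :
    IsZ ht f₂ z (T.comp (A.comp T')) (x * g * x') := by
  have hcy : ∀ v, cy ht f₂ z (x' v) = T' (cy ht f₂ z v) := by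
    have : (cy ht f₂ z).comp (x' : V →ₗ[F] V) = T'.comp (cy ht f₂ z) := by
      apply ext_pure ht
      intro u w
      simp [hx', cy_t]
    intro v
    exact LinearMap.congr_fun this v
  have hxx' : ∀ v, x (x' v) = v := by
    have : (x : V →ₗ[F] V).comp (x' : V →ₗ[F] V) = LinearMap.id := by
      apply ext_pure ht
      intro u w
      simp [hx', hx, hTT']
    intro v
    exact LinearMap.congr_fun this v
  intro v
  rw [LinearEquiv.mul_apply, LinearEquiv.mul_apply, h (x' v), map_sub, hxx', hx, hcy]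
  rfl

/-- the endomorphism `u ↦ c_e (g⁻¹ (u ⊗ e) - g (u ⊗ e))` of `U`. -/
noncomputable def A0 (ht : IsTensorProduct t) (f₂ : LinearMap.BilinForm F W) (e : W)
    (g : V ≃ₗ[F] V) : U →ₗ[F] U :=
  (cy ht f₂ e).comp ((((g⁻¹ : V ≃ₗ[F] V) : V →ₗ[F] V) - (g : V →ₗ[F] V)).comp (t.flip e))

theorem A0_apply (ht : IsTensorProduct t) (f₂ : LinearMap.BilinForm F W) (e : W)
    (g : V ≃ₗ[F] V) (u : U) :
    A0 ht f₂ e g u = cy ht f₂ e (g⁻¹ (t u e)) - cy ht f₂ e (g (t u e)) := by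
  simp [A0]

/-- `f₁(A₀ u, u) = -2 B(g (u ⊗ e), u ⊗ e)`. -/
theorem f₁_A0 (ht : IsTensorProduct t) {B : LinearMap.BilinForm F V}
    {f₁ : LinearMap.BilinForm F U} {f₂ : LinearMap.BilinForm F W}
    (hB : ∀ u w u' w', B (t u w) (t u' w') = f₁ u u' * f₂ w w')
    (hskew : ∀ x y, B x y = - B y x) (e : W) {g : V ≃ₗ[F] V}
    (hg : ∀ x y, B (g x) (g y) = B x y) (u : U) :
    f₁ (A0 ht f₂ e g u) u = -2 * B (g (t u e)) (t u e) := by
  rw [A0_apply, map_sub, LinearMap.sub_apply, ← B_right ht hB, ← B_right ht hB]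
  have h1 : B (g⁻¹ (t u e)) (t u e) = B (t u e) (g (t u e)) := by
    have := hg (g⁻¹ (t u e)) (t u e)
    rw [← this, ← LinearEquiv.mul_apply, mul_inv_cancel, LinearEquiv.coe_one, id_eq]
  rw [h1, hskew (t u e) (g (t u e))]
  ring

/-- **Lemma Z.** For a symplectic `g` fixing `U ⊗ z` pointwise and the Siegel element `σ = 1 ⊗ ρ`
for `(z, e)`, the commutator `[g σ g⁻¹, σ]` is of type `A₀` at `z`. -/
theorem lemmaZ (ht : IsTensorProduct t) {B : LinearMap.BilinForm F V}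
    {f₁ : LinearMap.BilinForm F U} {f₂ : LinearMap.BilinForm F W}
    (hB : ∀ u w u' w', B (t u w) (t u' w') = f₁ u u' * f₂ w w')
    (nd₁ : ∀ u, (∀ y, f₁ u y = 0) → u = 0) (sym₂ : ∀ w w', f₂ w w' = f₂ w' w)
    {z e : W} (hz : f₂ z z = 0) (hze : f₂ z e = 0) {σ g : V ≃ₗ[F] V}
    (hσ : ∀ u w, σ (t u w) =
      t u (w + f₂ w z • e - f₂ w e • z - (f₂ e e / 2 * f₂ w z) • z))
    (hg : ∀ x y, B (g x) (g y) = B x y) (hgz : ∀ u, g (t u z) = t u z) :
    IsZ ht f₂ z (A0 ht f₂ e g) (g * σ * g⁻¹ * σ * (g * σ * g⁻¹)⁻¹ * σ⁻¹) := by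
  have hez : f₂ e z = 0 := by rw [sym₂]; exact hze
  set cz := cy ht f₂ z with hcz
  set ce := cy ht f₂ e with hce
  -- the nilpotent part of `σ`
  set n : V →ₗ[F] V := (t.flip e).comp cz - (t.flip z).comp ce
    - (f₂ e e / 2) • (t.flip z).comp cz with hn
  have n_apply : ∀ v, n v = t (cz v) e - t (ce v) z - (f₂ e e / 2) • t (cz v) z := by
    intro v; simp [hn]
  have hσn : ∀ v, σ v = v + n v := by
    have : (σ : V →ₗ[F] V) = LinearMap.id + n := by
      apply ext_pure ht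
      intro u w
      rw [LinearEquiv.coe_coe, hσ, LinearMap.add_apply, LinearMap.id_apply, n_apply, hcz, hce,
        cy_t, cy_t]
      simp only [map_add, map_sub, map_smul, LinearMap.smul_apply]
      module
    intro v
    have := LinearMap.congr_fun this v
    simpa using this
  have cz_tz : ∀ a, cz (t a z) = 0 := by intro a; rw [hcz, cy_t, hz, zero_smul]
  have cz_te : ∀ a, cz (t a e) = 0 := by intro a; rw [hcz, cy_t, hez, zero_smul]
  have ce_tz : ∀ a, ce (t a z) = 0 := by intro a; rw [hce, cy_t, hze, zero_smul]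
  have L2 : ∀ v, cz (n v) = 0 := by
    intro v
    rw [n_apply, map_sub, map_sub, map_smul, cz_te, cz_tz, cz_tz]
    simp
  have L4 : ∀ v, cz v = 0 → n v = - t (ce v) z := by
    intro v hv
    rw [n_apply, hv]
    simp
  have L5 : ∀ a, n (t a z) = 0 := by
    intro a
    rw [n_apply, cz_tz, ce_tz]
    simp
  -- `g⁻¹`
  have hgi : ∀ x y, B (g⁻¹ x) (g⁻¹ y) = B x y := by
    intro x y
    have := hg (g⁻¹ x) (g⁻¹ y)
    rw [← this, ← LinearEquiv.mul_apply, ← LinearEquiv.mul_apply, mul_inv_cancel,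
      LinearEquiv.coe_one, id_eq, id_eq]
  have hgiz : ∀ a, g⁻¹ (t a z) = t a z := by
    intro a
    have : g⁻¹ (g (t a z)) = t a z := by
      rw [← LinearEquiv.mul_apply, inv_mul_cancel, LinearEquiv.coe_one, id_eq]
    rwa [hgz] at this
  have G2 : ∀ v, cz (g v) = cz v := cy_symp ht hB nd₁ hg hgz
  have G2' : ∀ v, cz (g⁻¹ v) = cz v := cy_symp ht hB nd₁ hgi hgiz
  -- the conjugate `σ' = g σ g⁻¹`
  set σ' : V ≃ₗ[F] V := g * σ * g⁻¹ with hσ'
  have hσ'n : ∀ v, σ' v = v + g (n (g⁻¹ v)) := by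
    intro v
    rw [hσ', LinearEquiv.mul_apply, LinearEquiv.mul_apply, hσn, map_add]
    congr 1
    rw [← LinearEquiv.mul_apply, mul_inv_cancel, LinearEquiv.coe_one, id_eq]
  have N1 : ∀ v, cz (g (n (g⁻¹ v))) = 0 := by
    intro v; rw [G2, L2]
  have N2 : ∀ v, cz v = 0 → g (n (g⁻¹ v)) = - t (ce (g⁻¹ v)) z := by
    intro v hv
    rw [L4 _ (by rw [G2', hv]), map_neg, hgz]
  have N3 : ∀ a, g (n (g⁻¹ (t a z))) = 0 := by
    intro a; rw [hgiz, L5, map_zero]
  have key1 : ∀ v, g (n (g⁻¹ (n v))) = - t (ce (g⁻¹ (t (cz v) e))) z := by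
    intro v
    have h : ce (g⁻¹ (n v)) = ce (g⁻¹ (t (cz v) e)) := by
      rw [n_apply]
      simp only [map_sub, map_smul, hgiz, ce_tz, smul_zero, sub_zero]
    rw [N2 _ (L2 v), h]
  have key2 : ∀ v, n (g (n (g⁻¹ v))) = - t (ce (g (t (cz v) e))) z := by
    intro v
    have h : ce (g (n (g⁻¹ v))) = ce (g (t (cz v) e)) := by
      rw [n_apply, G2']
      simp only [map_sub, map_smul, hgz, ce_tz, smul_zero, sub_zero]
    rw [L4 _ (N1 v), h]
  have hswap : ∀ w, σ' (σ w) = σ (σ' w) + (g (n (g⁻¹ (n w))) - n (g (n (g⁻¹ w)))) := by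
    intro w
    rw [hσ'n (σ w), hσn (σ' w), hσn w, hσ'n w]
    simp only [map_add]
    abel
  have hczσ : ∀ w, cz (σ w) = cz w := by
    intro w; rw [hσn, map_add, L2, add_zero]
  have hczσ' : ∀ w, cz (σ' w) = cz w := by
    intro w; rw [hσ'n, map_add, N1, add_zero]
  intro v
  set w := σ'⁻¹ (σ⁻¹ v) with hw
  have hv : σ (σ' w) = v := by
    rw [hw, ← LinearEquiv.mul_apply σ' σ'⁻¹, mul_inv_cancel, LinearEquiv.coe_one, id_eq,
      ← LinearEquiv.mul_apply, mul_inv_cancel, LinearEquiv.coe_one, id_eq]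
  have hcv : cz w = cz v := by rw [← hv, hczσ, hczσ']
  have : (σ' * σ * σ'⁻¹ * σ⁻¹) v = σ' (σ w) := by
    rw [LinearEquiv.mul_apply, LinearEquiv.mul_apply, LinearEquiv.mul_apply]
  rw [this, hswap, hv, key1, key2, hcv, A0_apply, ← hce, ← hcz]
  simp only [map_sub, LinearMap.sub_apply]
  abel

/-- the transvection `u' ↦ u' + (s f₁(u', u)) u` of `U` as a linear map. -/
noncomputable def TU (f₁ : LinearMap.BilinForm F U) (u : U) (s : F) : U →ₗ[F] U :=
  LinearMap.id + (s • (LinearMap.flip f₁ u)).smulRight u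

@[simp] theorem TU_apply (f₁ : LinearMap.BilinForm F U) (u : U) (s : F) (u' : U) :
    TU f₁ u s u' = u' + (s * f₁ u' u) • u := by
  simp [TU]

theorem TU_TU (f₁ : LinearMap.BilinForm F U) (alt₁ : ∀ u, f₁ u u = 0) (u : U) (s : F) (u' : U) :
    TU f₁ u s (TU f₁ u (-s) u') = u' := by
  simp only [TU_apply, map_add, map_smul, LinearMap.add_apply, LinearMap.smul_apply, alt₁,
    smul_eq_mul, mul_zero, add_zero]
  module

/-- **Lemma T.** From an element of type `A` at `z` and the root elements `t_u(±s) ⊗ 1` one gets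
the transvection with centre `u ⊗ z` and parameter `2 s² f₁(A u, u)`. -/
theorem lemmaT (ht : IsTensorProduct t) {B : LinearMap.BilinForm F V}
    {f₁ : LinearMap.BilinForm F U} {f₂ : LinearMap.BilinForm F W}
    (hB : ∀ u w u' w', B (t u w) (t u' w') = f₁ u u' * f₂ w w')
    (alt₁ : ∀ u, f₁ u u = 0) {z : W} (hz : f₂ z z = 0) {A : U →ₗ[F] U} {ζ : V ≃ₗ[F] V}
    (hζ : IsZ ht f₂ z A ζ) (u : U) (s : F) {xp xm : V ≃ₗ[F] V}
    (hxp : ∀ u' w, xp (t u' w) = t (u' + (s * f₁ u' u) • u) w)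
    (hxm : ∀ u' w, xm (t u' w) = t (u' + (-s * f₁ u' u) • u) w) (v : V) :
    ((xp * ζ * xm) * (xm * ζ * xp) * ζ⁻¹ * ζ⁻¹) v =
      v + (2 * s ^ 2 * f₁ (A u) u * B v (t u z)) • t u z := by
  have h1 : IsZ ht f₂ z ((TU f₁ u s).comp (A.comp (TU f₁ u (-s)))) (xp * ζ * xm) :=
    hζ.conj ht (fun u' w => by rw [hxp, TU_apply]) (fun u' w => by rw [hxm, TU_apply])
      (TU_TU f₁ alt₁ u s)
  have h2 : IsZ ht f₂ z ((TU f₁ u (-s)).comp (A.comp (TU f₁ u s))) (xm * ζ * xp) :=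
    hζ.conj ht (fun u' w => by rw [hxm, TU_apply]) (fun u' w => by rw [hxp, TU_apply])
      (fun u' => by
        have := TU_TU f₁ alt₁ u (-s) u'
        rwa [neg_neg] at this)
  have h3 := (((h1.mul ht hz h2).mul ht hz (hζ.inv ht hz)).mul ht hz (hζ.inv ht hz)) v
  rw [h3, B_right ht hB]
  set c := cy ht f₂ z v with hc
  simp only [LinearMap.add_apply, LinearMap.comp_apply, LinearMap.neg_apply, TU_apply, map_add,
    map_smul, LinearMap.add_apply, LinearMap.smul_apply, map_neg, smul_eq_mul, alt₁]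
  module

/-- every element of a finite field of odd characteristic is a sum of two squares. -/
theorem exists_sq_add_sq [Finite F] (h2 : (2 : F) ≠ 0) (x : F) : ∃ a b : F, a ^ 2 + b ^ 2 = x := by
  classical
  haveI : Fintype F := Fintype.ofFinite F
  have hchar : ringChar F ≠ 2 := by
    intro h
    apply h2
    have := ringChar.Nat.cast_ringChar (R := F)
    rw [h] at this
    exact_mod_cast this
  have hodd : Fintype.card F % 2 = 1 := FiniteField.odd_card_of_char_ne_two hchar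
  obtain ⟨a, b, hab⟩ : ∃ a b, (Polynomial.X ^ 2 : Polynomial F).eval a +
      (Polynomial.X ^ 2 - Polynomial.C x : Polynomial F).eval b = 0 :=
    FiniteField.exists_root_sum_quadratic (Polynomial.degree_X_pow 2)
      (Polynomial.degree_X_pow_sub_C (by decide) _) hodd
  refine ⟨a, b, ?_⟩
  rw [← sub_eq_zero]
  simpa only [Polynomial.eval_C, Polynomial.eval_X, Polynomial.eval_pow, Polynomial.eval_sub,
    ← add_sub_assoc] using hab

/-- **The transvection criterion.**  If `X` contains the root elements of `Sp(U) ⊗ 1`, a Siegel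
element `σ = 1 ⊗ ρ` for `(z, e)` and a symplectic `g` fixing `U ⊗ z` pointwise with
`B(g (u ⊗ e), u ⊗ e) ≠ 0`, then `X` contains all transvections with centre `u ⊗ z`. -/
theorem criterion [Finite F] (ht : IsTensorProduct t) {B : LinearMap.BilinForm F V}
    {f₁ : LinearMap.BilinForm F U} {f₂ : LinearMap.BilinForm F W}
    (hB : ∀ u w u' w', B (t u w) (t u' w') = f₁ u u' * f₂ w w')
    (hskew : ∀ x y, B x y = - B y x)
    (alt₁ : ∀ u, f₁ u u = 0) (nd₁ : ∀ u, (∀ y, f₁ u y = 0) → u = 0)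
    (sym₂ : ∀ w w', f₂ w w' = f₂ w' w) (h2 : (2 : F) ≠ 0) (X : Subgroup (V ≃ₗ[F] V))
    (hA : ∀ (e : U) (c : F), ∃ g ∈ X, ∀ u w, g (t u w) = t (u + (c * f₁ u e) • e) w)
    {z e : W} (hz : f₂ z z = 0) (hze : f₂ z e = 0) {σ g : V ≃ₗ[F] V} (hσX : σ ∈ X)
    (hσ : ∀ u w, σ (t u w) =
      t u (w + f₂ w z • e - f₂ w e • z - (f₂ e e / 2 * f₂ w z) • z))
    (hgX : g ∈ X) (hg : ∀ x y, B (g x) (g y) = B x y) (hgz : ∀ u, g (t u z) = t u z) {u : U}
    (hne : B (g (t u e)) (t u e) ≠ 0) (c : F) :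
    ∃ τ ∈ X, ∀ v, τ v = v + (c * B v (t u z)) • t u z := by
  set ζ : V ≃ₗ[F] V := g * σ * g⁻¹ * σ * (g * σ * g⁻¹)⁻¹ * σ⁻¹ with hζdef
  have hζX : ζ ∈ X := by
    have h1 : g * σ * g⁻¹ ∈ X := X.mul_mem (X.mul_mem hgX hσX) (X.inv_mem hgX)
    exact X.mul_mem (X.mul_mem (X.mul_mem h1 hσX) (X.inv_mem h1)) (X.inv_mem hσX)
  have hζ : IsZ ht f₂ z (A0 ht f₂ e g) ζ := lemmaZ ht hB nd₁ sym₂ hz hze hσ hg hgz
  set κ := f₁ (A0 ht f₂ e g u) u with hκ
  have hκne : κ ≠ 0 := by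
    rw [hκ, f₁_A0 ht hB hskew e hg u]
    exact mul_ne_zero (neg_ne_zero.mpr h2) hne
  -- the transvections with parameter `2 s² κ`
  have step : ∀ s : F, ∃ τ ∈ X, ∀ v, τ v = v + (2 * s ^ 2 * κ * B v (t u z)) • t u z := by
    intro s
    obtain ⟨xp, hxpX, hxp⟩ := hA u s
    obtain ⟨xm, hxmX, hxm⟩ := hA u (-s)
    refine ⟨(xp * ζ * xm) * (xm * ζ * xp) * ζ⁻¹ * ζ⁻¹, ?_, fun v => ?_⟩
    · exact X.mul_mem (X.mul_mem (X.mul_mem (X.mul_mem (X.mul_mem hxpX hζX) hxmX)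
        (X.mul_mem (X.mul_mem hxmX hζX) hxpX)) (X.inv_mem hζX)) (X.inv_mem hζX)
    · exact lemmaT ht hB alt₁ hz hζ u s hxp hxm v
  obtain ⟨a, b, hab⟩ := exists_sq_add_sq h2 (c / (2 * κ))
  obtain ⟨τa, hτaX, hτa⟩ := step a
  obtain ⟨τb, hτbX, hτb⟩ := step b
  refine ⟨τa * τb, X.mul_mem hτaX hτbX, fun v => ?_⟩
  have hBzz : B (t u z) (t u z) = 0 := by rw [hB, alt₁, zero_mul]
  rw [LinearEquiv.mul_apply, hτa, hτb, map_add, map_smul, LinearMap.add_apply,
    LinearMap.smul_apply, hBzz, smul_zero, add_zero]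
  have hc : c = 2 * a ^ 2 * κ + 2 * b ^ 2 * κ := by
    have : c = (c / (2 * κ)) * (2 * κ) := by field_simp
    rw [this, ← hab]; ring
  rw [hc]
  module

end Cfsg.Agent.Helper4.TensA2
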