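import Cfsg.Agent.Helper4.TensA2A

set_option autoImplicit false
set_option linter.unusedSectionVars false
set_option linter.unusedVariables false

/-! Tensor decompositions (helper4, S5666, case `dim U = 2`), part B: the element
`g' = (g₀ (1 ⊗ r_y) g₀⁻¹) (1 ⊗ r_{y'})` fixes `U ⊗ z` pointwise and moves `u ⊗ (e₁ + y')` to a
vector not perpendicular to it. -/

namespace Cfsg.Agent.Helper4.TensA2

open Module Cfsg.Agent.Helper8.Tens Cfsg.Agent.Helper9.TensFlip Cfsg.Agent.Helper4.TensRefl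

variable {F : Type*} [Field F] {U W V : Type*} [AddCommGroup U] [Module F U]
  [AddCommGroup W] [Module F W] [AddCommGroup V] [Module F V]
  {t : U →ₗ[F] W →ₗ[F] V}

/-- the conjugate involution `g₀ (1 ⊗ r_y) g₀⁻¹`. -/
theorem conj_refl_apply (ht : IsTensorProduct t) (f₂ : LinearMap.BilinForm F W) {y : W}
    {g₀ r : V ≃ₗ[F] V}
    (hr : ∀ u w, r (t u w) = t u (w - (2 * f₂ w y / f₂ y y) • y)) (v : V) :
    (g₀ * r * g₀⁻¹) v = v - (2 / f₂ y y) • g₀ (t (cy ht f₂ y (g₀⁻¹ v)) y) := by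
  have h1 := refl_formula ht f₂ y (r : V →ₗ[F] V) (fun u w => by rw [LinearEquiv.coe_coe, hr])
    (g₀⁻¹ v)
  rw [LinearEquiv.coe_coe] at h1
  rw [LinearEquiv.mul_apply, LinearEquiv.mul_apply, h1, map_sub, map_smul]
  congr 1
  rw [← LinearEquiv.mul_apply, mul_inv_cancel, LinearEquiv.coe_one, id_eq]

/-- **(S7).** -/
theorem crit_data (ht : IsTensorProduct t) {B : LinearMap.BilinForm F V}
    {f₁ : LinearMap.BilinForm F U} {f₂ : LinearMap.BilinForm F W}
    (hB : ∀ u w u' w', B (t u w) (t u' w') = f₁ u u' * f₂ w w')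
    (hskew : ∀ x y, B x y = - B y x) (alt₁ : ∀ u, f₁ u u = 0)
    (sym₂ : ∀ w w', f₂ w w' = f₂ w' w) (h2 : (2 : F) ≠ 0)
    {g₀ r r' : V ≃ₗ[F] V} (hg₀ : ∀ x x', B (g₀ x) (g₀ x') = B x x') {y y' e₁ z : W}
    (hy : f₂ y y ≠ 0) (hy' : f₂ y' y' ≠ 0)
    (hr : ∀ u w, r (t u w) = t u (w - (2 * f₂ w y / f₂ y y) • y))
    (hr' : ∀ u w, r' (t u w) = t u (w - (2 * f₂ w y' / f₂ y' y') • y'))
    (hy'z : f₂ y' z = 0) (he₁y' : f₂ e₁ y' = 0)
    (hzP : ∀ u', cy ht f₂ y (g₀⁻¹ (t u' z)) = 0) {u : U}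
    (hne : f₁ (cy ht f₂ y (g₀⁻¹ (t u e₁))) (cy ht f₂ y (g₀⁻¹ (t u y'))) ≠ 0) :
    (∀ u', (g₀ * r * g₀⁻¹ * r') (t u' z) = t u' z) ∧
      B ((g₀ * r * g₀⁻¹ * r') (t u (e₁ + y'))) (t u (e₁ + y')) ≠ 0 := by
  have hzy' : f₂ z y' = 0 := by rw [sym₂]; exact hy'z
  constructor
  · intro u'
    rw [LinearEquiv.mul_apply, hr', hzy', mul_zero, zero_div, zero_smul, sub_zero,
      conj_refl_apply ht f₂ hr, hzP, LinearMap.map_zero₂, map_zero, smul_zero, sub_zero]
  · have h1 : r' (t u (e₁ + y')) = t u (e₁ - y') := by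
      rw [hr']
      congr 1
      rw [map_add, LinearMap.add_apply, he₁y', zero_add]
      have : 2 * f₂ y' y' / f₂ y' y' = 2 := by field_simp
      rw [this, two_smul]
      abel
    set K : W → U := fun w => cy ht f₂ y (g₀⁻¹ (t u w)) with hK
    have hKsub : cy ht f₂ y (g₀⁻¹ (t u (e₁ - y'))) = K e₁ - K y' := by
      simp only [hK, map_sub]
    have hKadd : cy ht f₂ y (g₀⁻¹ (t u (e₁ + y'))) = K e₁ + K y' := by
      simp only [hK, map_add]
    have hg₀' : ∀ x x', B (g₀ x) x' = B x (g₀⁻¹ x') := by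
      intro x x'
      have := hg₀ x (g₀⁻¹ x')
      rw [← this, ← LinearEquiv.mul_apply, mul_inv_cancel, LinearEquiv.coe_one, id_eq]
    have hskew₁ : ∀ a b, f₁ a b = - f₁ b a := by
      intro a b
      have := alt₁ (a + b)
      simp only [map_add, LinearMap.add_apply, alt₁] at this
      linear_combination this
    rw [LinearEquiv.mul_apply, h1, conj_refl_apply ht f₂ hr, hKsub, map_sub,
      LinearMap.sub_apply, map_smul, LinearMap.smul_apply, hB, alt₁, zero_mul, zero_sub,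
      hg₀', hskew, B_right ht hB, hKadd]
    have hval : f₁ (K e₁ + K y') (K e₁ - K y') = -2 * f₁ (K e₁) (K y') := by
      simp only [map_add, map_sub, LinearMap.add_apply, LinearMap.sub_apply, alt₁]
      rw [hskew₁ (K y') (K e₁)]
      ring
    rw [hval]
    simp only [smul_eq_mul, neg_neg]
    have hne' : f₁ (K e₁) (K y') ≠ 0 := hne
    intro h0
    apply hne'
    have h4 : (4 / f₂ y y) * f₁ (K e₁) (K y') = 0 := by
      linear_combination -h0
    have h44 : (4 : F) ≠ 0 := by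
      have : (4 : F) = 2 * 2 := by norm_num
      rw [this]; exact mul_ne_zero h2 h2
    rcases mul_eq_zero.mp h4 with h5 | h5
    · exact absurd h5 (div_ne_zero h44 hy)
    · exact h5

end Cfsg.Agent.Helper4.TensA2
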