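import Cfsg.Agent.Helper8.SpOCrit
import Cfsg.Agent.Helper5.TensA2S67
import Cfsg.Agent.Helper9.SpOA2S3
import Cfsg.Agent.Helper2.SpOSing

set_option autoImplicit false
set_option linter.unusedSectionVars false
set_option linter.unusedVariables false

/-! S5666, case `dim U = 2` (helper4): assembly of the direct route.  If `X ≥ Sp(U) ⊗ O(W)`
contains an element that is not a tensor, then `X` contains a full root group of transvections
with a pure centre (`dim U = 2`, `dim W ≥ 7`). -/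

namespace Cfsg.Agent.Helper4.TensA2

open Module Cfsg.Agent.Helper7.ExtF Cfsg.Agent.Helper8.Tens Cfsg.Agent.Helper6.SpO

variable {F : Type*} [Field F] {U W V : Type*} [AddCommGroup U] [Module F U]
  [AddCommGroup W] [Module F W] [AddCommGroup V] [Module F V]
  [FiniteDimensional F U] [FiniteDimensional F W] [FiniteDimensional F V]
  {t : U →ₗ[F] W →ₗ[F] V} {B : LinearMap.BilinForm F V} {f₁ : LinearMap.BilinForm F U}
  {f₂ : LinearMap.BilinForm F W} {X : Subgroup (V ≃ₗ[F] V)}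

/-- the shape of step (S5): a good `u`. -/
def GoodStep (ht : IsTensorProduct t) (B : LinearMap.BilinForm F V)
    (f₁ : LinearMap.BilinForm F U) (f₂ : LinearMap.BilinForm F W) : Prop :=
  ∀ (P : Submodule F V), finrank F P = 2 → (∀ p ∈ P, (∀ p' ∈ P, B p p' = 0) → p = 0) →
    ∀ {z : W}, z ≠ 0 → (∀ p ∈ P, ∀ u, B p (t u z) = 0) →
    ∀ (W' : Submodule F W), (∀ W'' : Submodule F W, W' ≤ W'' ↔
        ∀ p ∈ P, ∀ u : U, evU ht (f₁.flip u) p ∈ W'') →
      (z ∉ W' ∨ 3 ≤ finrank F W') → (¬ ∃ w' : W, w' ≠ 0 ∧ P = fib t w') →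
      ∃ u : U, u ≠ 0 ∧ ∀ p ∈ P, (∀ w, f₂ w z = 0 → B p (t u w) = 0) → p = 0

theorem evU_flip_eq_neg (ht : IsTensorProduct t) (alt₁ : ∀ u, f₁ u u = 0) (u : U) (v : V) :
    evU ht (f₁.flip u) v = - evU ht (f₁ u) v := by
  have hskew : ∀ a b, f₁ a b = - f₁ b a := by
    intro a b
    have := alt₁ (a + b)
    simp only [map_add, LinearMap.add_apply, alt₁] at this
    linear_combination this
  have : evU ht (f₁.flip u) = - evU ht (f₁ u) := by
    apply ext_pure ht
    intro u' w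
    rw [LinearMap.neg_apply, evU_t, evU_t]
    have e : (f₁.flip u) u' = f₁ u' u := rfl
    rw [e, hskew u' u, neg_smul]
  rw [this]; rfl

/-- assembly, with step (S5) as a hypothesis. -/
theorem hasPureTv_of_not_isTens_aux [Finite F] (ht : IsTensorProduct t) (h : Hyp t B f₁ f₂ X)
    (hU2 : finrank F U = 2) (hb : 7 ≤ finrank F W) (hS5 : GoodStep ht B f₁ f₂)
    {g₀ : V ≃ₗ[F] V} (hg₀ : g₀ ∈ X) (hnt : ¬ IsTens t g₀) : HasPureTv t B h.altB X := by
  obtain ⟨y, hy, hnf⟩ := Cfsg.Agent.Helper5.TensA2.exists_nonsing_not_fibre f₂ ht (by omega)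
    h.symm₂ h.nd₂ h.two (by omega) hnt
  have hy0 : y ≠ 0 := by
    rintro rfl
    exact hy (by simp)
  set P := img g₀ (fib t y) with hP
  set W' := Submodule.span F {w | ∃ u a : U, evU ht (f₁ u) (g₀ (t a y)) = w} with hW'
  have hW'4 := Cfsg.Agent.Helper9.SpOA2.finrank_suppW ht hU2 f₁ g₀ y
  obtain ⟨z, hz0, hzz, hzW, hzW'⟩ := Cfsg.Agent.Helper2.SpOSing.exists_sing_perp f₂ W' hW'4 hb
  have hPmem : ∀ p ∈ P, ∃ a, p = g₀ (t a y) := by
    intro p hp
    obtain ⟨x, hx, rfl⟩ := mem_img.mp hp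
    obtain ⟨a, rfl⟩ := mem_fib.mp hx
    exact ⟨a, rfl⟩
  have hmemP : ∀ a, g₀ (t a y) ∈ P := fun a => apply_mem_img (t_mem_fib a y)
  have hPz : ∀ p ∈ P, ∀ u, B p (t u z) = 0 := by
    intro p hp u
    obtain ⟨a, rfl⟩ := hPmem p hp
    rw [h8_B_pure_evU ht h, evU_flip_eq_neg ht h.alt₁, map_neg, LinearMap.neg_apply, h.symm₂,
      hzW _ (Submodule.subset_span ⟨u, a, rfl⟩), neg_zero]
  have hP2 : finrank F P = 2 := by rw [hP, finrank_img, finrank_fib ht hy0, hU2]
  have hPnd : ∀ p ∈ P, (∀ p' ∈ P, B p p' = 0) → p = 0 := by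
    intro p hp hall
    obtain ⟨a, rfl⟩ := hPmem p hp
    have ha : a = 0 := by
      apply h.nd₁
      intro a'
      have := hall _ (hmemP a')
      rw [h.isom g₀ hg₀, h.pol] at this
      rcases mul_eq_zero.mp this with h1 | h1
      · exact h1
      · exact absurd h1 hy
    rw [ha, LinearMap.map_zero₂, map_zero]
  have hW'char : ∀ W'' : Submodule F W, W' ≤ W'' ↔
      ∀ p ∈ P, ∀ u : U, evU ht (f₁.flip u) p ∈ W'' := by
    intro W''
    constructor
    · intro hle p hp u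
      obtain ⟨a, rfl⟩ := hPmem p hp
      rw [evU_flip_eq_neg ht h.alt₁]
      exact W''.neg_mem (hle (Submodule.subset_span ⟨u, a, rfl⟩))
    · intro hall
      rw [hW']
      apply Submodule.span_le.mpr
      rintro w ⟨u, a, rfl⟩
      have := hall _ (hmemP a) u
      rw [evU_flip_eq_neg ht h.alt₁] at this
      have h2 := W''.neg_mem this
      rwa [neg_neg] at h2
  obtain ⟨u, hu, hinj⟩ := hS5 P hP2 hPnd hz0 hPz W' hW'char hzW' hnf
  have hgood := Cfsg.Agent.Helper5.TensA2.hgood_of_inj ht h (by omega) hg₀ hy hinj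
  have hskew₁ : ∀ a b, f₁ a b = - f₁ b a := by
    intro a b
    have := h.alt₁ (a + b)
    simp only [map_add, LinearMap.add_apply, h.alt₁] at this
    linear_combination this
  have hΨz : ∀ u', Cfsg.Agent.Helper5.TensA2.psi ht f₂ g₀ y (t u' z) = 0 := by
    intro u'
    apply h.nd₁
    intro a
    rw [hskew₁, ← Cfsg.Agent.Helper5.TensA2.B_img_left ht h hg₀, hPz _ (hmemP a), neg_zero]
  obtain ⟨g', hg'X, e, hez, hfix, hκ⟩ :=
    Cfsg.Agent.Helper5.TensA2.exists_crit_data ht h (by omega) hg₀ hy hz0 hΨz hgood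
  exact hasPureTv_of_criterion ht h hz0 hzz hez hg'X hfix hκ

end Cfsg.Agent.Helper4.TensA2
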