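import Cfsg.Agent.Helper8.TensA

set_option autoImplicit false
set_option linter.unusedSectionVars false
set_option linter.unusedVariables false

/-! Tensor decompositions (helper4, S5666): the reflection principle, part A.
A subspace of an orthogonal space (odd characteristic, dimension at least three) which contains a
non-singular vector and is closed under all reflections is the whole space. -/

namespace Cfsg.Agent.Helper4.TensRefl

open Module

variable {F : Type*} [Field F] {W : Type*} [AddCommGroup W] [Module F W]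

/-- a vector orthogonal to all members of a basis is zero (for a non-degenerate form). -/
theorem eq_zero_of_perp_basis {ι : Type*} (f₂ : LinearMap.BilinForm F W)
    (nd₂ : ∀ w, (∀ y, f₂ w y = 0) → w = 0) (v : Basis ι F W) {w : W}
    (h : ∀ i, f₂ w (v i) = 0) : w = 0 := by
  apply nd₂
  intro y
  have : f₂ w = 0 := v.ext (fun i => by simpa using h i)
  rw [this]; rfl

/-- the members of an orthogonal basis of a non-degenerate space are non-singular. -/
theorem basis_self_ne_zero {ι : Type*} (f₂ : LinearMap.BilinForm F W)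
    (nd₂ : ∀ w, (∀ y, f₂ w y = 0) → w = 0) (v : Basis ι F W)
    (hv : ∀ i j, i ≠ j → f₂ (v i) (v j) = 0) (i : ι) : f₂ (v i) (v i) ≠ 0 := by
  intro h
  apply v.ne_zero i
  apply eq_zero_of_perp_basis f₂ nd₂ v
  intro j
  by_cases hij : i = j
  · subst hij; exact h
  · exact hv i j hij

/-- **Reflection closure.** `W'` is a subspace such that every non-singular `z` which is not
orthogonal to `W'` lies in `W'` (this is what closure under the reflection in `z` gives). If `W'`
contains a non-singular vector and `dim W ≥ 3` then `W' = ⊤`. -/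
theorem refl_closed_eq_top [FiniteDimensional F W] (f₂ : LinearMap.BilinForm F W)
    (sym₂ : ∀ w w', f₂ w w' = f₂ w' w) (nd₂ : ∀ w, (∀ y, f₂ w y = 0) → w = 0)
    (h2 : (2 : F) ≠ 0) (hb : 3 ≤ finrank F W) (W' : Submodule F W)
    (hW' : ∀ z, f₂ z z ≠ 0 → ∀ w ∈ W', f₂ w z ≠ 0 → z ∈ W')
    {y : W} (hy : y ∈ W') (hyn : f₂ y y ≠ 0) : W' = ⊤ := by
  haveI : Invertible (2 : F) := invertibleOfNonzero h2
  obtain ⟨v, hv⟩ := LinearMap.BilinForm.exists_orthogonal_basis (B := f₂) ⟨sym₂⟩
  have hv' : ∀ i j, i ≠ j → f₂ (v i) (v j) = 0 := fun i j hij => hv hij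
  have hvn := basis_self_ne_zero f₂ nd₂ v hv'
  -- some basis vector lies in `W'`
  have h1 : ∃ i, f₂ y (v i) ≠ 0 := by
    by_contra h
    push Not at h
    have := eq_zero_of_perp_basis f₂ nd₂ v h
    rw [this] at hyn
    simp at hyn
  obtain ⟨i₀, hi₀⟩ := h1
  have hi₀W : v i₀ ∈ W' := hW' _ (hvn i₀) y hy hi₀
  -- key: a base point and a vector of `W'^⊥ ∖ W'` have a singular sum
  have key : ∀ b ∈ W', ∀ x, x ∉ W' → (∀ w ∈ W', f₂ w x = 0) → f₂ b b ≠ 0 →
      f₂ b b + f₂ x x = 0 := by
    intro b hb x hx hxB hbn
    by_contra hne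
    have hbx : f₂ b x = 0 := hxB b hb
    have hxb : f₂ x b = 0 := by rw [sym₂]; exact hbx
    have hs : f₂ (b + x) (b + x) = f₂ b b + f₂ x x := by
      simp only [map_add, LinearMap.add_apply, hbx, hxb]; ring
    have hmem : b + x ∈ W' := by
      apply hW' (b + x) (by rw [hs]; exact hne) b hb
      rw [map_add, hbx, add_zero]; exact hbn
    exact hx (by simpa using W'.sub_mem hmem hb)
  -- all basis vectors lie in `W'`
  have hall : ∀ j, v j ∈ W' := by
    intro j
    by_contra hj
    have hjB : ∀ w ∈ W', f₂ w (v j) = 0 := by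
      intro w hw
      by_contra h
      exact hj (hW' _ (hvn j) w hw h)
    have hij : j ≠ i₀ := by rintro rfl; exact hj hi₀W
    have E1 := key (v i₀) hi₀W (v j) hj hjB (hvn i₀)
    -- a third index
    have hcard : 3 ≤ Fintype.card (Fin (finrank F W)) := by simpa using hb
    obtain ⟨k, hk1, hk2⟩ : ∃ k : Fin (finrank F W), k ≠ i₀ ∧ k ≠ j := by
      by_contra hcon
      push Not at hcon
      have hsub : (Finset.univ : Finset (Fin (finrank F W))) ⊆ {i₀, j} := by
        intro k _
        by_cases hk : k = i₀
        · simp [hk]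
        · simp [hcon k hk]
      have := Finset.card_le_card hsub
      have h2' : ({i₀, j} : Finset (Fin (finrank F W))).card ≤ 2 := Finset.card_le_two
      rw [Finset.card_univ] at this
      omega
    by_cases hk : v k ∈ W'
    · have E2 := key (v k) hk (v j) hj hjB (hvn k)
      have hik : f₂ (v i₀) (v k) = 0 := hv' i₀ k (Ne.symm hk1)
      have hki : f₂ (v k) (v i₀) = 0 := hv' k i₀ hk1
      have hsum : f₂ (v i₀ + v k) (v i₀ + v k) = f₂ (v i₀) (v i₀) + f₂ (v k) (v k) := by
        simp only [map_add, LinearMap.add_apply, hik, hki]; ring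
      have hne : f₂ (v i₀ + v k) (v i₀ + v k) ≠ 0 := by
        rw [hsum]
        intro h0
        have : (2 : F) * f₂ (v j) (v j) = 0 := by linear_combination E1 + E2 - h0
        rcases mul_eq_zero.mp this with h | h
        · exact h2 h
        · exact hvn j h
      have E3 := key (v i₀ + v k) (W'.add_mem hi₀W hk) (v j) hj hjB hne
      rw [hsum] at E3
      have : f₂ (v j) (v j) = 0 := by linear_combination E1 + E2 - E3
      exact hvn j this
    · have hkB : ∀ w ∈ W', f₂ w (v k) = 0 := by
        intro w hw
        by_contra h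
        exact hk (hW' _ (hvn k) w hw h)
      have E2 := key (v i₀) hi₀W (v k) hk hkB (hvn i₀)
      have hjk : f₂ (v j) (v k) = 0 := hv' j k (Ne.symm hk2)
      have hkj : f₂ (v k) (v j) = 0 := hv' k j hk2
      have hsum : f₂ (v j + v k) (v j + v k) = f₂ (v j) (v j) + f₂ (v k) (v k) := by
        simp only [map_add, LinearMap.add_apply, hjk, hkj]; ring
      have hxB : ∀ w ∈ W', f₂ w (v j + v k) = 0 := by
        intro w hw
        rw [map_add, hjB w hw, hkB w hw, add_zero]
      by_cases hx : v j + v k ∈ W'
      · have h0 : f₂ (v j + v k) (v j + v k) = 0 := hxB _ hx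
        rw [hsum] at h0
        have : (2 : F) * f₂ (v i₀) (v i₀) = 0 := by linear_combination E1 + E2 - h0
        rcases mul_eq_zero.mp this with h | h
        · exact h2 h
        · exact hvn i₀ h
      · have E3 := key (v i₀) hi₀W (v j + v k) hx hxB (hvn i₀)
        rw [hsum] at E3
        have : f₂ (v i₀) (v i₀) = 0 := by linear_combination E1 + E2 - E3
        exact hvn i₀ this
  rw [eq_top_iff]
  intro x _
  rw [← v.sum_repr x]
  exact W'.sum_mem (fun i _ => W'.smul_mem _ (hall i))

end Cfsg.Agent.Helper4.TensRefl
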