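import Cfsg.Agent.Helper4.TensReflA
import Cfsg.Agent.Helper9.TensFlip

set_option autoImplicit false
set_option linter.unusedSectionVars false
set_option linter.unusedVariables false

/-! Tensor decompositions (helper4, S5666): the reflection principle, part B.
`V = U ⊗ W` with a non-degenerate symmetric form `f₂` on `W` (odd characteristic, `dim W ≥ 3`).
A subspace `R` of `V` stable under all `1 ⊗ r_y` (`y` non-singular) contains `u ⊗ W` for every
contraction `u = c_y(r)`, `r ∈ R`; if `dim R = dim W` it is a fibre `u ⊗ W`. -/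

namespace Cfsg.Agent.Helper4.TensRefl

open Module Cfsg.Agent.Helper8.Tens Cfsg.Agent.Helper9.TensFlip

variable {F : Type*} [Field F] {U W V : Type*} [AddCommGroup U] [Module F U]
  [AddCommGroup W] [Module F W] [AddCommGroup V] [Module F V]
  {t : U →ₗ[F] W →ₗ[F] V}

/-- the contraction `u ⊗ w ↦ f₂(w, y) u`. -/
noncomputable def cy (ht : IsTensorProduct t) (f₂ : LinearMap.BilinForm F W) (y : W) :
    V →ₗ[F] U := ev ht (f₂.flip y)

@[simp] theorem cy_t (ht : IsTensorProduct t) (f₂ : LinearMap.BilinForm F W) (y : W) (u : U)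
    (w : W) : cy ht f₂ y (t u w) = f₂ w y • u := by
  rw [cy, ev_t]; rfl

/-- the formula for `1 ⊗ r_y` in terms of the contraction. -/
theorem refl_formula (ht : IsTensorProduct t) (f₂ : LinearMap.BilinForm F W) (y : W)
    (g : V →ₗ[F] V)
    (hg : ∀ u w, g (t u w) = t u (w - (2 * f₂ w y / f₂ y y) • y)) (r : V) :
    g r = r - (2 / f₂ y y) • t (cy ht f₂ y r) y := by
  have h : g = LinearMap.id - (2 / f₂ y y) • (t.flip y).comp (cy ht f₂ y) := by
    apply ext_pure ht
    intro u w
    rw [hg]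
    simp only [LinearMap.sub_apply, LinearMap.id_apply, LinearMap.smul_apply,
      LinearMap.comp_apply, cy_t, LinearMap.flip_apply, map_sub, map_smul, LinearMap.smul_apply]
    rw [smul_smul]
    congr 2
    ring
  rw [h]
  simp only [LinearMap.sub_apply, LinearMap.id_apply, LinearMap.smul_apply,
    LinearMap.comp_apply, LinearMap.flip_apply]

/-- orthogonal expansion of a tensor along an orthogonal basis of `W`. -/
theorem expansion (ht : IsTensorProduct t) (f₂ : LinearMap.BilinForm F W)
    (sym₂ : ∀ w w', f₂ w w' = f₂ w' w) (nd₂ : ∀ w, (∀ y, f₂ w y = 0) → w = 0)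
    {ι : Type*} [Fintype ι] [DecidableEq ι] (v : Basis ι F W)
    (hv : ∀ i j, i ≠ j → f₂ (v i) (v j) = 0) (r : V) :
    r = ∑ i, (f₂ (v i) (v i))⁻¹ • t (cy ht f₂ (v i) r) (v i) := by
  have hvn := basis_self_ne_zero f₂ nd₂ v hv
  have h : (LinearMap.id : V →ₗ[F] V) =
      ∑ i, (f₂ (v i) (v i))⁻¹ • (t.flip (v i)).comp (cy ht f₂ (v i)) := by
    apply ext_pure ht
    intro u w
    simp only [LinearMap.id_apply, LinearMap.sum_apply, LinearMap.smul_apply,
      LinearMap.comp_apply, cy_t, LinearMap.flip_apply, map_smul, LinearMap.smul_apply]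
    -- `w = Σ (f₂ w (v i) / f₂ (v i) (v i)) v i`
    have hw : w = ∑ i, ((f₂ (v i) (v i))⁻¹ * f₂ w (v i)) • v i := by
      have h0 : w - ∑ i, ((f₂ (v i) (v i))⁻¹ * f₂ w (v i)) • v i = 0 := by
        apply eq_zero_of_perp_basis f₂ nd₂ v
        intro j
        rw [map_sub, LinearMap.sub_apply, map_sum, LinearMap.sum_apply]
        rw [Finset.sum_eq_single j]
        · rw [map_smul, LinearMap.smul_apply, smul_eq_mul]
          field_simp [hvn j]
          ring
        · intro i _ hij
          rw [map_smul, LinearMap.smul_apply, hv i j hij, smul_zero]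
        · intro h; exact absurd (Finset.mem_univ j) h
      exact sub_eq_zero.mp h0
    conv_lhs => rw [hw]
    rw [map_sum]
    apply Finset.sum_congr rfl
    intro i _
    rw [map_smul, smul_smul]
  have := LinearMap.congr_fun h r
  simpa only [LinearMap.id_apply, LinearMap.sum_apply, LinearMap.smul_apply,
    LinearMap.comp_apply, LinearMap.flip_apply] using this

/-- **Reflection principle, core.** If `R` is stable under all `1 ⊗ r_y` then for `r ∈ R` and `y`
non-singular the whole fibre `c_y(r) ⊗ W` lies in `R`. -/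
theorem fibre_le_of_refl_invariant (ht : IsTensorProduct t) [FiniteDimensional F W]
    (f₂ : LinearMap.BilinForm F W) (sym₂ : ∀ w w', f₂ w w' = f₂ w' w)
    (nd₂ : ∀ w, (∀ y, f₂ w y = 0) → w = 0) (h2 : (2 : F) ≠ 0) (hb : 3 ≤ finrank F W)
    (R : Submodule F V)
    (hR : ∀ y : W, f₂ y y ≠ 0 → ∀ r ∈ R, r - (2 / f₂ y y) • t (cy ht f₂ y r) y ∈ R)
    {r : V} (hr : r ∈ R) {y : W} (hy : f₂ y y ≠ 0) (w : W) : t (cy ht f₂ y r) w ∈ R := by
  -- `t u' z ∈ R` for non-singular `z` as soon as `t u' w' ∈ R` with `f₂ w' z ≠ 0`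
  have step : ∀ (u' : U) (z : W), f₂ z z ≠ 0 → ∀ w' : W, t u' w' ∈ R → f₂ w' z ≠ 0 →
      t u' z ∈ R := by
    intro u' z hz w' hw' hne
    have h1 := hR z hz _ hw'
    have h3 : (2 / f₂ z z) • t (cy ht f₂ z (t u' w')) z ∈ R := by
      have := R.sub_mem hw' h1
      simpa using this
    rw [cy_t, map_smul, LinearMap.smul_apply, smul_smul] at h3
    have hc : 2 / f₂ z z * f₂ w' z ≠ 0 := mul_ne_zero (div_ne_zero h2 hz) hne
    have := R.smul_mem (2 / f₂ z z * f₂ w' z)⁻¹ h3
    rwa [smul_smul, inv_mul_cancel₀ hc, one_smul] at this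
  set u' := cy ht f₂ y r with hu'
  -- `t u' y ∈ R`
  have h0 : t u' y ∈ R := by
    have h1 := hR y hy r hr
    have h3 : (2 / f₂ y y) • t u' y ∈ R := by
      have := R.sub_mem hr h1
      simpa using this
    have hc : 2 / f₂ y y ≠ 0 := div_ne_zero h2 hy
    have := R.smul_mem (2 / f₂ y y)⁻¹ h3
    rwa [smul_smul, inv_mul_cancel₀ hc, one_smul] at this
  have htop : Submodule.comap (t u') R = ⊤ :=
    refl_closed_eq_top f₂ sym₂ nd₂ h2 hb (Submodule.comap (t u') R)
      (fun z hz w' hw' hne => step u' z hz w' hw' hne) (y := y) h0 hy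
  have : w ∈ Submodule.comap (t u') R := by rw [htop]; trivial
  exact this

/-- **Reflection principle.** A subspace `R` of dimension `dim W` stable under all `1 ⊗ r_y`
(`y` non-singular) is a fibre `u ⊗ W`. -/
theorem eq_fib_of_refl_invariant (ht : IsTensorProduct t) [FiniteDimensional F W]
    (f₂ : LinearMap.BilinForm F W) (sym₂ : ∀ w w', f₂ w w' = f₂ w' w)
    (nd₂ : ∀ w, (∀ y, f₂ w y = 0) → w = 0) (h2 : (2 : F) ≠ 0) (hb : 3 ≤ finrank F W)
    (R : Submodule F V) (hdim : finrank F R = finrank F W)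
    (hR : ∀ y : W, f₂ y y ≠ 0 → ∀ r ∈ R, r - (2 / f₂ y y) • t (cy ht f₂ y r) y ∈ R) :
    ∃ u : U, u ≠ 0 ∧ R = fib t.flip u := by
  haveI : Invertible (2 : F) := invertibleOfNonzero h2
  obtain ⟨v, hv⟩ := LinearMap.BilinForm.exists_orthogonal_basis (B := f₂) ⟨sym₂⟩
  have hv' : ∀ i j, i ≠ j → f₂ (v i) (v j) = 0 := fun i j hij => hv hij
  have hvn := basis_self_ne_zero f₂ nd₂ v hv'
  haveI : Module.Finite F R := Module.finite_of_finrank_pos (by omega)
  -- a non-zero element of `R`
  obtain ⟨r, hr0⟩ : ∃ r : R, r ≠ 0 := by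
    have : 0 < finrank F R := by omega
    exact (Module.finrank_pos_iff_exists_ne_zero).mp this
  have hr : (r : V) ∈ R := r.2
  have hrV : (r : V) ≠ 0 := fun h => hr0 (Subtype.ext h)
  -- some contraction of it is non-zero
  obtain ⟨i, hi⟩ : ∃ i, cy ht f₂ (v i) (r : V) ≠ 0 := by
    by_contra h
    push Not at h
    apply hrV
    rw [expansion ht f₂ sym₂ nd₂ v hv' (r : V)]
    apply Finset.sum_eq_zero
    intro i _
    rw [h i, map_zero, LinearMap.zero_apply, smul_zero]
  refine ⟨cy ht f₂ (v i) (r : V), hi, ?_⟩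
  symm
  apply Submodule.eq_of_le_of_finrank_eq
  · intro x hx
    obtain ⟨w, rfl⟩ := mem_fib_flip.mp hx
    exact fibre_le_of_refl_invariant ht f₂ sym₂ nd₂ h2 hb R hR hr (hvn i) w
  · rw [finrank_fib (isTP_flip ht) hi, hdim]

/-- the part of `R` killed by the contraction `c_y` is large: `dim R ≤ dim (R ⊓ ker c_y) + dim U`. -/
theorem finrank_inf_ker_cy (ht : IsTensorProduct t) [FiniteDimensional F U]
    (f₂ : LinearMap.BilinForm F W) (y : W) (R : Submodule F V) [FiniteDimensional F R] :
    finrank F R ≤ finrank F ↥(R ⊓ LinearMap.ker (cy ht f₂ y)) + finrank F U := by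
  set φ : R →ₗ[F] U := (cy ht f₂ y).comp R.subtype with hφ
  have h1 := LinearMap.finrank_range_add_finrank_ker φ
  have h2 : finrank F (LinearMap.range φ) ≤ finrank F U := Submodule.finrank_le _
  have h3 : finrank F (LinearMap.ker φ) ≤ finrank F ↥(R ⊓ LinearMap.ker (cy ht f₂ y)) := by
    have hinj : Function.Injective ((R.subtype).domRestrict (LinearMap.ker φ)) := by
      intro a b hab
      exact Subtype.ext (Subtype.ext (by simpa using hab))
    have hle : Submodule.map R.subtype (LinearMap.ker φ) ≤ R ⊓ LinearMap.ker (cy ht f₂ y) := by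
      rintro x ⟨z, hz, rfl⟩
      exact ⟨z.2, by simpa [hφ] using hz⟩
    calc finrank F (LinearMap.ker φ)
        = finrank F (Submodule.map R.subtype (LinearMap.ker φ)) :=
          (LinearEquiv.finrank_eq (Submodule.equivMapOfInjective R.subtype
            (Submodule.injective_subtype R) (LinearMap.ker φ)))
      _ ≤ _ := by
          haveI : FiniteDimensional F ↥(R ⊓ LinearMap.ker (cy ht f₂ y)) :=
            Submodule.finiteDimensional_inf_left R _
          exact Submodule.finrank_mono hle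
  omega

end Cfsg.Agent.Helper4.TensRefl
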