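import Mathlib

set_option autoImplicit false

namespace Cfsg.Agent.Helper4

open Equiv

/-- Two 3-cycles with the same support are equal or inverse to each other. -/
theorem threeCycle_eq_or_eq_inv_of_support_eq {α : Type*} [Fintype α] [DecidableEq α]
    {σ ρ : Perm α} (hσ : σ.IsThreeCycle) (hρ : ρ.IsThreeCycle) (hsupp : ρ.support = σ.support) :
    ρ = σ ∨ ρ = σ⁻¹ := by
  have hσ3 : ∀ x, σ (σ (σ x)) = x := by
    intro x
    have h := hσ.orderOf ▸ pow_orderOf_eq_one σ
    have := congrArg (fun f : Perm α => f x) h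
    simpa [pow_succ, Perm.mul_apply] using this
  have hρ3 : ∀ x, ρ (ρ (ρ x)) = x := by
    intro x
    have h := hρ.orderOf ▸ pow_orderOf_eq_one ρ
    have := congrArg (fun f : Perm α => f x) h
    simpa [pow_succ, Perm.mul_apply] using this
  obtain ⟨a, ha⟩ : ∃ a, a ∈ σ.support := by
    apply Finset.card_pos.1; rw [hσ.card_support]; norm_num
  have hab : σ a ≠ a := Perm.mem_support.1 ha
  have hbc : σ (σ a) ≠ σ a := fun h => hab (σ.injective h)
  have hac : σ (σ a) ≠ a := by
    intro h
    apply hab
    have := hσ3 a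
    rw [h] at this
    exact this
  have hS : ({a, σ a, σ (σ a)} : Finset α) = σ.support := by
    apply Finset.eq_of_subset_of_card_le
    · intro y hy
      simp only [Finset.mem_insert, Finset.mem_singleton] at hy
      rcases hy with rfl | rfl | rfl
      · exact ha
      · exact Perm.apply_mem_support.2 ha
      · exact Perm.apply_mem_support.2 (Perm.apply_mem_support.2 ha)
    · rw [hσ.card_support, Finset.card_insert_of_notMem, Finset.card_insert_of_notMem,
        Finset.card_singleton]
      · simpa using Ne.symm hbc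
      · simp only [Finset.mem_insert, Finset.mem_singleton, not_or]
        exact ⟨Ne.symm hab, Ne.symm hac⟩
  have hmemρ : ∀ y, y ∈ σ.support → ρ y ∈ σ.support ∧ ρ y ≠ y := by
    intro y hy
    rw [← hsupp] at hy ⊢
    exact ⟨Perm.apply_mem_support.2 hy, Perm.mem_support.1 hy⟩
  have hcases : ∀ y, y ∈ σ.support → y = a ∨ y = σ a ∨ y = σ (σ a) := by
    intro y hy
    rw [← hS] at hy
    simpa using hy
  have hρ2 : ∀ y, y ∈ σ.support → ρ (ρ y) ≠ y := by
    intro y hy h
    have := hρ3 y
    rw [h] at this
    exact (hmemρ y hy).2 this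
  have hb : σ a ∈ σ.support := Perm.apply_mem_support.2 ha
  have hc : σ (σ a) ∈ σ.support := Perm.apply_mem_support.2 hb
  obtain ⟨h1, h1'⟩ := hmemρ a ha
  rcases hcases _ h1 with h | h | h
  · exact absurd h h1'
  · -- ρ a = σ a
    left
    have e2 : ρ (σ a) = σ (σ a) := by
      obtain ⟨h2, h2'⟩ := hmemρ _ hb
      rcases hcases _ h2 with h' | h' | h'
      · exfalso
        apply hρ2 a ha
        rw [h, h']
      · exact absurd h' h2'
      · exact h'
    have e3 : ρ (σ (σ a)) = a := by
      have := hρ3 a
      rw [h, e2] at this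
      exact this
    apply Perm.IsCycle.support_congr hρ.isCycle hσ.isCycle hsupp.le
    intro y hy
    rw [hsupp] at hy
    rcases hcases y hy with rfl | rfl | rfl
    · exact h
    · exact e2
    · rw [e3, hσ3]
  · -- ρ a = σ (σ a)
    right
    have e2 : ρ (σ (σ a)) = σ a := by
      obtain ⟨h2, h2'⟩ := hmemρ _ hc
      rcases hcases _ h2 with h' | h' | h'
      · exfalso
        apply hρ2 a ha
        rw [h, h']
      · exact h'
      · exact absurd h' h2'
    have e3 : ρ (σ a) = a := by
      have := hρ3 a
      rw [h, e2] at this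
      exact this
    apply Perm.IsCycle.support_congr hρ.isCycle hσ.isCycle.inv
      (by rw [Perm.support_inv, hsupp])
    intro y hy
    rw [hsupp] at hy
    rcases hcases y hy with rfl | rfl | rfl
    · rw [h, Perm.eq_inv_iff_eq, hσ3]
    · rw [e3, Perm.eq_inv_iff_eq]
    · rw [e2, Perm.eq_inv_iff_eq]

end Cfsg.Agent.Helper4
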