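import Mathlib

set_option autoImplicit false

namespace Cfsg.Agent.Helper4

open Equiv

theorem perm_inv_apply_self' {α : Type*} (c : Perm α) (x : α) : c⁻¹ (c x) = x :=
  Equiv.Perm.inv_eq_iff_eq.mpr rfl

/-- On at least 8 points, every permutation has a 3-subset which is either invariant or mapped
off itself. -/
theorem exists_three_subset_invariant_or_disjoint {α : Type*} [Fintype α] [DecidableEq α]
    (hcard : 8 ≤ Fintype.card α) (c : Perm α) :
    ∃ T : Finset α, T.card = 3 ∧ ((∀ x ∈ T, c x ∈ T) ∨ (∀ x ∈ T, c x ∉ T)) := by
  by_cases hfix : 3 ≤ (c.supportᶜ).card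
  · obtain ⟨T, hTs, hT3⟩ := Finset.exists_subset_card_eq hfix
    refine ⟨T, hT3, Or.inl ?_⟩
    intro x hx
    have h1 : x ∉ c.support := Finset.mem_compl.1 (hTs hx)
    rw [Perm.notMem_support] at h1
    rw [h1]; exact hx
  · have hM : 6 ≤ c.support.card := by
      have := Finset.card_add_card_compl c.support
      omega
    have hmoved : ∀ y ∈ c.support, c y ≠ y := fun y hy => Perm.mem_support.1 hy
    obtain ⟨x, hx⟩ : ∃ x, x ∈ c.support := by
      apply Finset.card_pos.1; omega
    have hcx : c x ≠ x := hmoved x hx
    by_cases h2 : c (c x) = x
    · -- x lies in a 2-cycle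
      have hinv : c⁻¹ x = c x := by rw [Perm.inv_eq_iff_eq]; exact h2.symm
      obtain ⟨x2, hx2M, hx2E⟩ := Finset.exists_mem_notMem_of_card_lt_card
        (s := {x, c x}) (t := c.support) (lt_of_le_of_lt Finset.card_le_two (by omega))
      obtain ⟨x3, hx3M, hx3E⟩ := Finset.exists_mem_notMem_of_card_lt_card
        (s := {x, c x, x2, c x2, c⁻¹ x2}) (t := c.support)
        (lt_of_le_of_lt Finset.card_le_five (by omega))
      simp only [Finset.mem_insert, Finset.mem_singleton, not_or] at hx2E hx3E
      obtain ⟨h2a, h2b⟩ := hx2E
      obtain ⟨h3a, h3b, h3c, h3d, h3e⟩ := hx3E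
      refine ⟨{x, x2, x3}, ?_, Or.inr ?_⟩
      · rw [Finset.card_insert_of_notMem, Finset.card_insert_of_notMem, Finset.card_singleton]
        · simpa using Ne.symm h3c
        · simp only [Finset.mem_insert, Finset.mem_singleton, not_or]
          exact ⟨Ne.symm h2a, Ne.symm h3a⟩
      · intro y hy
        simp only [Finset.mem_insert, Finset.mem_singleton] at hy
        simp only [Finset.mem_insert, Finset.mem_singleton, not_or]
        rcases hy with rfl | rfl | rfl
        · exact ⟨hcx, Ne.symm h2b, Ne.symm h3b⟩
        · refine ⟨?_, hmoved _ hx2M, Ne.symm h3d⟩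
          intro h
          apply h2b
          rw [← hinv, ← h, perm_inv_apply_self']
        · refine ⟨?_, ?_, hmoved _ hx3M⟩
          · intro h
            apply h3b
            rw [← hinv, ← h, perm_inv_apply_self']
          · intro h
            apply h3e
            rw [← h, perm_inv_apply_self']
    · by_cases h3 : c (c (c x)) = x
      · refine ⟨{x, c x, c (c x)}, ?_, Or.inl ?_⟩
        · rw [Finset.card_insert_of_notMem, Finset.card_insert_of_notMem, Finset.card_singleton]
          · simp only [Finset.mem_singleton]
            intro h
            exact hcx (c.injective h).symm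
          · simp only [Finset.mem_insert, Finset.mem_singleton, not_or]
            exact ⟨Ne.symm hcx, Ne.symm h2⟩
        · intro y hy
          simp only [Finset.mem_insert, Finset.mem_singleton] at hy ⊢
          rcases hy with rfl | rfl | rfl
          · exact Or.inr (Or.inl rfl)
          · exact Or.inr (Or.inr rfl)
          · exact Or.inl h3
      · obtain ⟨x3, hx3M, hx3E⟩ := Finset.exists_mem_notMem_of_card_lt_card
          (s := {x, c x, c⁻¹ x, c (c x), c (c (c x))}) (t := c.support)
          (lt_of_le_of_lt Finset.card_le_five (by omega))
        simp only [Finset.mem_insert, Finset.mem_singleton, not_or] at hx3E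
        obtain ⟨h3a, h3b, h3c, h3d, h3e⟩ := hx3E
        refine ⟨{x, c (c x), x3}, ?_, Or.inr ?_⟩
        · rw [Finset.card_insert_of_notMem, Finset.card_insert_of_notMem, Finset.card_singleton]
          · simpa using Ne.symm h3d
          · simp only [Finset.mem_insert, Finset.mem_singleton, not_or]
            exact ⟨Ne.symm h2, Ne.symm h3a⟩
        · intro y hy
          simp only [Finset.mem_insert, Finset.mem_singleton] at hy
          simp only [Finset.mem_insert, Finset.mem_singleton, not_or]
          rcases hy with rfl | rfl | rfl
          · refine ⟨hcx, ?_, Ne.symm h3b⟩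
            intro h
            exact hcx (c.injective h).symm
          · refine ⟨h3, ?_, Ne.symm h3e⟩
            intro h
            exact hcx (c.injective (c.injective h))
          · refine ⟨?_, ?_, hmoved _ hx3M⟩
            · intro h
              apply h3c
              rw [← h, perm_inv_apply_self']
            · intro h
              exact h3b (c.injective h)

end Cfsg.Agent.Helper4
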