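import Mathlib
import Cfsg.Agent.Helper4.ThreeSetLemma
import Cfsg.Agent.Helper4.ThreeCycleConj

set_option autoImplicit false
open Pointwise

namespace Cfsg.Agent.Helper4

open Equiv

theorem conj_smul_zpowers {G : Type*} [Group G] (g x : G) :
    MulAut.conj g • Subgroup.zpowers x = Subgroup.zpowers (g * x * g⁻¹) := by
  ext y
  rw [Subgroup.mem_smul_pointwise_iff_exists]
  constructor
  · rintro ⟨s, hs, rfl⟩
    obtain ⟨n, rfl⟩ := Subgroup.mem_zpowers_iff.1 hs
    rw [MulAut.smul_def, MulAut.conj_apply, ← conj_zpow]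
    exact Subgroup.zpow_mem_zpowers _ _
  · intro hy
    obtain ⟨n, rfl⟩ := Subgroup.mem_zpowers_iff.1 hy
    refine ⟨x ^ n, Subgroup.zpow_mem_zpowers _ _, ?_⟩
    rw [MulAut.smul_def, MulAut.conj_apply, ← conj_zpow]

/-- In a symmetric group on at least 8 points, every class contains `g` with `⟨σ⟩` normal in
`⟨σ, σ^g⟩`, for a 3-cycle `σ`. -/
theorem exists_conj_threeCycle_subnormal {α : Type*} [Fintype α] [DecidableEq α]
    (hcard : 8 ≤ Fintype.card α) (σ : Perm α) (hσ : σ.IsThreeCycle) (c : Perm α) :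
    ∃ g : Perm α, IsConj c g ∧ ((Subgroup.zpowers σ).subgroupOf
      (Subgroup.zpowers σ ⊔ MulAut.conj g • Subgroup.zpowers σ)).IsSubnormal := by
  obtain ⟨T, hT3, hT⟩ := exists_three_subset_invariant_or_disjoint hcard c
  have hcardeq : T.card = σ.support.card := by rw [hT3, hσ.card_support]
  obtain ⟨τ, hτ1, hτ2⟩ : ∃ τ : Perm α, (∀ x, x ∈ T → τ x ∈ σ.support) ∧
      (∀ x, x ∉ T → τ x ∉ σ.support) := by
    refine ⟨(Finset.equivOfCardEq hcardeq).extendSubtype, ?_, ?_⟩
    · intro x hx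
      rw [Equiv.extendSubtype_apply_of_mem _ x hx]
      exact Subtype.prop _
    · intro x hx
      exact Equiv.extendSubtype_not_mem _ x hx
  have hτinv : ∀ s, s ∈ σ.support → τ⁻¹ s ∈ T := by
    intro s hs
    by_contra hcon
    apply hτ2 _ hcon
    have : τ (τ⁻¹ s) = s := (Equiv.eq_symm_apply τ).mp rfl
    rw [this]; exact hs
  obtain ⟨g, hg⟩ : ∃ g : Perm α, g = τ * c * τ⁻¹ := ⟨_, rfl⟩
  have hgapp : ∀ s, g s = τ (c (τ⁻¹ s)) := by intro s; rw [hg]; rfl
  refine ⟨g, isConj_iff.2 ⟨τ, hg.symm⟩, ?_⟩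
  obtain ⟨ρ, hρ⟩ : ∃ ρ : Perm α, ρ = g * σ * g⁻¹ := ⟨_, rfl⟩
  have hρ3 : ρ.IsThreeCycle := by
    unfold Perm.IsThreeCycle
    rw [hρ, Perm.cycleType_conj]
    exact hσ
  have hρsupp : ρ.support = σ.support.map g.toEmbedding := by rw [hρ, Perm.support_conj]
  have hnorm : ρ ∈ Subgroup.normalizer ((Subgroup.zpowers σ : Subgroup (Perm α)) : Set (Perm α)) := by
    rcases hT with hinv | hdis
    · have hsub : ρ.support ⊆ σ.support := by
        intro y hy
        rw [hρsupp, Finset.mem_map] at hy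
        obtain ⟨s, hs, rfl⟩ := hy
        change g s ∈ σ.support
        rw [hgapp]
        exact hτ1 _ (hinv _ (hτinv s hs))
      have heq : ρ.support = σ.support := by
        apply Finset.eq_of_subset_of_card_le hsub
        rw [hρ3.card_support, hσ.card_support]
      apply Subgroup.le_normalizer
      rcases threeCycle_eq_or_eq_inv_of_support_eq hσ hρ3 heq with h | h
      · rw [h]; exact Subgroup.mem_zpowers _
      · rw [h]; exact Subgroup.inv_mem _ (Subgroup.mem_zpowers _)
    · have hdisj : Perm.Disjoint σ ρ := by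
        rw [Perm.disjoint_iff_disjoint_support, Finset.disjoint_left]
        intro y hy1 hy2
        rw [hρsupp, Finset.mem_map] at hy2
        obtain ⟨s, hs, rfl⟩ := hy2
        change g s ∈ σ.support at hy1
        rw [hgapp] at hy1
        exact hτ2 _ (hdis _ (hτinv s hs)) hy1
      apply Subgroup.centralizer_le_normalizer
      rw [Subgroup.mem_centralizer_iff]
      intro x hx
      obtain ⟨n, rfl⟩ := Subgroup.mem_zpowers_iff.1 hx
      exact ((hdisj.commute).zpow_left n).eq
  rw [conj_smul_zpowers, ← hρ]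
  have hle : Subgroup.zpowers σ ⊔ Subgroup.zpowers ρ ≤
      Subgroup.normalizer ((Subgroup.zpowers σ : Subgroup (Perm α)) : Set (Perm α)) := by
    apply sup_le Subgroup.le_normalizer
    rw [Subgroup.zpowers_le]
    exact hnorm
  exact ((Subgroup.normal_subgroupOf_iff_le_normalizer le_sup_left).2 hle).isSubnormal

end Cfsg.Agent.Helper4
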