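import Mathlib
import Cfsg.Agent.Helper2.ZStarH

set_option autoImplicit false
set_option linter.unusedSectionVars false
set_option linter.style.haveILetI false

/-!
# Involutions whose centralizer contains at most three involutions: basic lemmas
-/

namespace Cfsg.Agent.Helper4.ThreeInvol

variable {G : Type*} [Group G]

/-- A `2`-element cannot permute three elements cyclically by conjugation. -/
theorem no_three_cycle {r a b c : G} {k : ℕ} (hr : r ^ (2 ^ k) = 1) (hab : r * a * r⁻¹ = b)
    (hbc : r * b * r⁻¹ = c) (hca : r * c * r⁻¹ = a) : a = b := by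
  have h3 : Commute (r ^ 3) a := by
    have e1 : r * a = b * r := by rw [← hab]; group
    have e2 : r * b = c * r := by rw [← hbc]; group
    have e3 : r * c = a * r := by rw [← hca]; group
    show r ^ 3 * a = a * r ^ 3
    calc r ^ 3 * a = r * r * (r * a) := by rw [pow_succ, pow_two]; group
      _ = r * r * (b * r) := by rw [e1]
      _ = r * (r * b) * r := by group
      _ = r * (c * r) * r := by rw [e2]
      _ = (r * c) * r * r := by group
      _ = (a * r) * r * r := by rw [e3]
      _ = a * r ^ 3 := by rw [pow_succ, pow_two]; group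
  have hra : Commute r a := by
    rcases Nat.eq_zero_or_pos k with hk | hk
    · rw [hk] at hr
      simp at hr
      rw [hr]
      exact Commute.one_left a
    · have h1 : 1 < 2 ^ k := Nat.one_lt_two_pow (by omega)
      have hco : Nat.Coprime 3 (2 ^ k) := by
        apply Nat.Coprime.pow_right
        norm_num
      obtain ⟨m, -, hm⟩ := Nat.exists_mul_mod_eq_one_of_coprime hco h1
      have h2 : r = (r ^ 3) ^ m := by
        rw [← pow_mul, ← Nat.div_add_mod (3 * m) (2 ^ k), hm, pow_add, pow_mul, hr, one_pow,
          one_mul, pow_one]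
      rw [h2]
      exact h3.pow_left m
  rw [← hab, hra.eq]
  group

variable [Finite G]

/-- If the centralizer of `x` contains at most three involutions and `a, b, c` are three distinct
ones, every involution commuting with `x` is one of them. -/
theorem mem_three {x : G}
    (h3 : Nat.card {u : ↥(Subgroup.centralizer ({x} : Set G)) // orderOf u = 2} ≤ 3)
    {a b c w : G} (ha : orderOf a = 2) (hb : orderOf b = 2) (hc : orderOf c = 2)
    (hw : orderOf w = 2) (hax : a * x = x * a) (hbx : b * x = x * b) (hcx : c * x = x * c)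
    (hwx : w * x = x * w) (hab : a ≠ b) (hac : a ≠ c) (hbc : b ≠ c) :
    w = a ∨ w = b ∨ w = c := by
  classical
  by_contra hcon
  push Not at hcon
  obtain ⟨hwa, hwb, hwc⟩ := hcon
  haveI : Fintype {u : ↥(Subgroup.centralizer ({x} : Set G)) // orderOf u = 2} :=
    Fintype.ofFinite _
  have mk : ∀ g : G, orderOf g = 2 → g * x = x * g →
      ∃ t : {u : ↥(Subgroup.centralizer ({x} : Set G)) // orderOf u = 2},
        ((t : ↥(Subgroup.centralizer ({x} : Set G))) : G) = g := by
    intro g hg hgx
    refine ⟨⟨⟨g, Subgroup.mem_centralizer_singleton_iff.mpr hgx⟩, ?_⟩, rfl⟩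
    rw [← hg]
    exact Subgroup.orderOf_mk g _
  obtain ⟨A, hA⟩ := mk a ha hax
  obtain ⟨B, hB⟩ := mk b hb hbx
  obtain ⟨C', hC⟩ := mk c hc hcx
  obtain ⟨W, hW⟩ := mk w hw hwx
  have hAB : A ≠ B := fun h => hab (by rw [← hA, ← hB, h])
  have hAC : A ≠ C' := fun h => hac (by rw [← hA, ← hC, h])
  have hBC : B ≠ C' := fun h => hbc (by rw [← hB, ← hC, h])
  have hWA : W ≠ A := fun h => hwa (by rw [← hA, ← hW, h])
  have hWB : W ≠ B := fun h => hwb (by rw [← hB, ← hW, h])
  have hWC : W ≠ C' := fun h => hwc (by rw [← hC, ← hW, h])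
  have hcard : ({W, A, B, C'} : Finset _).card = 4 := by
    rw [Finset.card_insert_of_notMem, Finset.card_insert_of_notMem,
      Finset.card_insert_of_notMem, Finset.card_singleton]
    · simpa using hBC
    · simp [hAB, hAC]
    · simp [hWA, hWB, hWC]
  have hle := Finset.card_le_univ ({W, A, B, C'} : Finset _)
  rw [hcard, ← Nat.card_eq_fintype_card] at hle
  omega

/-- In a nonabelian simple group no involution of a Sylow `2`-subgroup is isolated. -/
theorem not_isolated_of_simple {G : Type*} [Group G] [Finite G] [hs : IsSimpleGroup G]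
    (hnc : ∃ a b : G, a * b ≠ b * a) (S : Sylow 2 G) (z : G) (hz : orderOf z = 2) (hzS : z ∈ S)
    (hiso : ∀ g : G, g * z * g⁻¹ ∈ S → g * z * g⁻¹ = z) : False := by
  obtain ⟨N, hNn, hNodd, hNc⟩ :=
    Cfsg.Agent.Helper2.ZStar.glauberman_zstar_sylow S z hz hzS hiso
  have hz1 : z ≠ 1 := by
    intro h
    rw [h, orderOf_one] at hz
    omega
  rcases hs.eq_bot_or_eq_top_of_normal N hNn with hN | hN
  · have hzc : z ∈ Subgroup.center G := by
      rw [Subgroup.mem_center_iff]
      intro g
      have h1 := hNc g
      rw [hN, Subgroup.mem_bot] at h1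
      calc g * z = (z * g * z⁻¹ * g⁻¹)⁻¹ * (z * g) := by group
        _ = z * g := by rw [h1]; group
    have hcen : Subgroup.center G = ⊤ := by
      rcases hs.eq_bot_or_eq_top_of_normal (Subgroup.center G) inferInstance with h | h
      · rw [h, Subgroup.mem_bot] at hzc
        exact absurd hzc hz1
      · exact h
    obtain ⟨a, b, hab⟩ := hnc
    apply hab
    have : b ∈ Subgroup.center G := by rw [hcen]; trivial
    exact (Subgroup.mem_center_iff.mp this a)
  · have h1 : Nat.card N = Nat.card G := by
      rw [hN]; exact Subgroup.card_top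
    rw [h1] at hNodd
    have h2 : orderOf z ∣ Nat.card G := orderOf_dvd_natCard z
    rw [hz] at h2
    exact (Nat.not_even_iff_odd.mpr hNodd) (even_iff_two_dvd.mpr h2)

end Cfsg.Agent.Helper4.ThreeInvol
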