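import Mathlib
import Cfsg.Agent.Helper4.ThreeInvolA
import Cfsg.Agent.S3276

set_option autoImplicit false
set_option linter.unusedSectionVars false
set_option linter.style.haveILetI false
set_option maxHeartbeats 800000

/-!
# Involutions whose centralizer contains at most three involutions, in simple groups
-/

namespace Cfsg.Agent.Helper4.ThreeInvol

variable {G : Type*} [Group G] [Finite G]

theorem orderOf_conj_two {a : G} (g : G) (ha : orderOf a = 2) : orderOf (g * a * g⁻¹) = 2 := by
  have : g * a * g⁻¹ = MulAut.conj g a := by simp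
  rw [this, MulEquiv.orderOf_eq]; exact ha

theorem sq_of_two {a : G} (ha : orderOf a = 2) : a * a = 1 := by
  have := pow_orderOf_eq_one a
  rwa [ha, pow_two] at this

theorem ne_one_of_two {a : G} (ha : orderOf a = 2) : a ≠ 1 := by
  intro h
  rw [h, orderOf_one] at ha
  omega

/-- Part 1: the centralizer contains a Sylow `2`-subgroup. -/
theorem exists_sylow_le [hsimp : IsSimpleGroup G] (x : G) (hx : orderOf x = 2)
    (h3 : Nat.card {u : ↥(Subgroup.centralizer ({x} : Set G)) // orderOf u = 2} ≤ 3) :
    ∃ S : Sylow 2 G, x ∈ S ∧ (S : Subgroup G) ≤ Subgroup.centralizer ({x} : Set G) := by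
  classical
  haveI : Fact (Nat.Prime 2) := ⟨Nat.prime_two⟩
  set C := Subgroup.centralizer ({x} : Set G) with hC
  have hxC : x ∈ C := Subgroup.mem_centralizer_singleton_iff.mpr rfl
  have memC : ∀ {g : G}, g ∈ C ↔ g * x = x * g := Subgroup.mem_centralizer_singleton_iff
  have hxx := sq_of_two hx
  have hx1 := ne_one_of_two hx
  let P : Sylow 2 C := default
  -- `x ∈ P`
  have hxP : (⟨x, hxC⟩ : C) ∈ P := by
    haveI : (Subgroup.zpowers (⟨x, hxC⟩ : C)).Normal := by
      refine ⟨fun n hn g => ?_⟩
      obtain ⟨k, rfl⟩ := Subgroup.mem_zpowers_iff.mp hn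
      have h1 : g * (⟨x, hxC⟩ : C) = ⟨x, hxC⟩ * g := Subtype.ext (memC.mp g.2)
      have h2 : Commute g ((⟨x, hxC⟩ : C) ^ k) := (Commute.zpow_right h1 k)
      rw [h2.eq, mul_inv_cancel_right]
      exact Subgroup.zpow_mem _ (Subgroup.mem_zpowers _) k
    have hp : IsPGroup 2 (Subgroup.zpowers (⟨x, hxC⟩ : C)) := by
      apply IsPGroup.of_card (n := 1)
      rw [Nat.card_zpowers, pow_one, ← hx]
      exact Subgroup.orderOf_mk x hxC
    exact (hp.le_sylow_of_normal P) (Subgroup.mem_zpowers _)
  obtain ⟨S, hPS⟩ := (P.2.map C.subtype).exists_le_sylow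
  have hxS : x ∈ S := hPS ⟨⟨x, hxC⟩, hxP, rfl⟩
  by_contra hcon
  have hSC : ¬ (S : Subgroup G) ≤ C := fun h => hcon ⟨S, hxS, h⟩
  -- normalizer growth
  haveI : Group.IsNilpotent ↥(S : Subgroup G) := S.2.isNilpotent
  have hnc : NormalizerCondition ↥(S : Subgroup G) := Group.normalizerCondition_of_isNilpotent
  have hlt : C.subgroupOf (S : Subgroup G) < ⊤ := by
    rw [lt_top_iff_ne_top, Ne, Subgroup.subgroupOf_eq_top]
    exact hSC
  obtain ⟨s', hs'N, hs'T⟩ := SetLike.exists_of_lt (hnc _ hlt)
  set s : G := (s' : G) with hs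
  have hsS : s ∈ S := s'.2
  have hsC : s ∉ C := fun h => hs'T (Subgroup.mem_subgroupOf.mpr h)
  have hnorm : ∀ t : G, t ∈ S → t ∈ C → s * t * s⁻¹ ∈ C := by
    intro t htS htC
    have h1 := (Subgroup.mem_normalizer_iff.mp hs'N ⟨t, htS⟩).mp (Subgroup.mem_subgroupOf.mpr htC)
    exact Subgroup.mem_subgroupOf.mp h1
  obtain ⟨k, hk⟩ := S.2 s'
  have hspow : ∀ r : G, r ∈ S → ∃ k : ℕ, r ^ (2 ^ k) = 1 := by
    intro r hr
    obtain ⟨k, hk⟩ := S.2 ⟨r, hr⟩
    exact ⟨k, by simpa using congrArg Subtype.val hk⟩
  -- the involutions `y` and `u`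
  obtain ⟨y, hy⟩ : ∃ y : G, y = s * x * s⁻¹ := ⟨_, rfl⟩
  have hyC : y ∈ C := by rw [hy]; exact hnorm x hxS hxC
  have hyS : y ∈ S := by rw [hy]; exact mul_mem (mul_mem hsS hxS) (inv_mem hsS)
  have hy2 : orderOf y = 2 := by rw [hy]; exact orderOf_conj_two s hx
  have hyy := sq_of_two hy2
  have hyx : y * x = x * y := memC.mp hyC
  have hxy : x ≠ y := by
    intro h
    apply hsC
    rw [memC]
    calc s * x = (s * x * s⁻¹) * s := by group
      _ = x * s := by rw [← hy, ← h]
  obtain ⟨u, hu⟩ : ∃ u : G, u = x * y := ⟨_, rfl⟩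
  have huu : u * u = 1 := by
    calc u * u = x * (y * x) * y := by rw [hu]; group
      _ = x * (x * y) * y := by rw [hyx]
      _ = (x * x) * (y * y) := by group
      _ = 1 := by rw [hxx, hyy, one_mul]
  have hu1 : u ≠ 1 := by
    intro h
    apply hxy
    calc x = x * (x * y) := by rw [← hu, h, mul_one]
      _ = (x * x) * y := by group
      _ = y := by rw [hxx, one_mul]
  have hu2 : orderOf u = 2 := orderOf_eq_prime (by rw [pow_two]; exact huu) hu1
  have hux : u * x = x * u := by
    rw [hu]
    calc x * y * x = x * (y * x) := by group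
      _ = x * (x * y) := by rw [hyx]
  have hxu : x ≠ u := by
    intro h
    apply ne_one_of_two hy2
    calc y = (x * x) * y := by rw [hxx, one_mul]
      _ = x * (x * y) := by group
      _ = 1 := by rw [← hu, ← h, hxx]
  have hyu : y ≠ u := by
    intro h
    apply hx1
    calc x = x * (y * y) := by rw [hyy, mul_one]
      _ = (x * y) * y := by group
      _ = 1 := by rw [← hu, ← h, hyy]
  have three : ∀ w : G, orderOf w = 2 → w * x = x * w → w = x ∨ w = y ∨ w = u :=
    fun w hw hwx => mem_three h3 hx hy2 hu2 hw rfl hyx hux hwx hxy hxu hyu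
  have hyu' : y * u = x := by
    rw [hu]
    calc y * (x * y) = (y * x) * y := by group
      _ = (x * y) * y := by rw [hyx]
      _ = x * (y * y) := by group
      _ = x := by rw [hyy, mul_one]
  have hxu' : x * u = y := by
    rw [hu]
    calc x * (x * y) = (x * x) * y := by group
      _ = y := by rw [hxx, one_mul]
  have hconj_mul : ∀ r a b : G, r * (a * b) * r⁻¹ = (r * a * r⁻¹) * (r * b * r⁻¹) := by
    intro r a b; group
  -- (i) the action of `s`
  have hsy : s * y * s⁻¹ = x := by
    have h1 : s * y * s⁻¹ ∈ C := hnorm y hyS hyC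
    rcases three _ (orderOf_conj_two s hy2) (memC.mp h1) with h | h | h
    · exact h
    · exfalso
      apply hxy
      have : s * y * s⁻¹ = s * x * s⁻¹ := h.trans hy
      have h2 : s⁻¹ * (s * y * s⁻¹) * s = s⁻¹ * (s * x * s⁻¹) * s := by rw [this]
      calc x = s⁻¹ * (s * x * s⁻¹) * s := by group
        _ = s⁻¹ * (s * y * s⁻¹) * s := h2.symm
        _ = y := by group
    · exfalso
      have h2 : s * u * s⁻¹ = x := by
        rw [hu, hconj_mul, ← hy, h]
        exact hyu'
      exact hxy (no_three_cycle (by simpa using congrArg Subtype.val hk) hy.symm h h2)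
  have hsu : s * u * s⁻¹ = u := by
    rw [hu, hconj_mul, hsy, ← hy, hyx]
  -- (ii) the action of `T = S ⊓ C`
  have hTu : ∀ t : G, t ∈ S → t ∈ C → t * u * t⁻¹ = u := by
    intro t htS htC
    have htx : t * x * t⁻¹ = x := by
      rw [memC.mp htC]; group
    have h1 : (t * y * t⁻¹) * x = x * (t * y * t⁻¹) := by
      calc (t * y * t⁻¹) * x = (t * y * t⁻¹) * (t * x * t⁻¹) := by rw [htx]
        _ = t * (y * x) * t⁻¹ := by group
        _ = t * (x * y) * t⁻¹ := by rw [hyx]
        _ = (t * x * t⁻¹) * (t * y * t⁻¹) := by group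
        _ = x * (t * y * t⁻¹) := by rw [htx]
    rcases three _ (orderOf_conj_two t hy2) h1 with h | h | h
    · exfalso
      apply hxy
      have h2 : t * y * t⁻¹ = t * x * t⁻¹ := by rw [h, htx]
      calc x = t⁻¹ * (t * x * t⁻¹) * t := by group
        _ = t⁻¹ * (t * y * t⁻¹) * t := by rw [h2]
        _ = y := by group
    · rw [hu, hconj_mul, htx, h]
    · exfalso
      have htu : t * u * t⁻¹ = y := by
        rw [hu, hconj_mul, htx, h]
        exact hxu'
      obtain ⟨k', hk'⟩ := hspow (s * t) (mul_mem hsS htS)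
      have e1 : (s * t) * x * (s * t)⁻¹ = y := by
        calc (s * t) * x * (s * t)⁻¹ = s * (t * x * t⁻¹) * s⁻¹ := by group
          _ = y := by rw [htx]; exact hy.symm
      have e2 : (s * t) * y * (s * t)⁻¹ = u := by
        calc (s * t) * y * (s * t)⁻¹ = s * (t * y * t⁻¹) * s⁻¹ := by group
          _ = u := by rw [h, hsu]
      have e3 : (s * t) * u * (s * t)⁻¹ = x := by
        calc (s * t) * u * (s * t)⁻¹ = s * (t * u * t⁻¹) * s⁻¹ := by group
          _ = x := by rw [htu, hsy]
      exact hxy (no_three_cycle hk' e1 e2 e3)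
  -- `x` and `u` are not conjugate
  have hncj : ¬ IsConj x u := by
    intro hcj
    obtain ⟨g, hg⟩ := isConj_iff.mp hcj
    set T : Subgroup G := (S : Subgroup G) ⊓ C with hT
    set T₁ : Subgroup G := (S : Subgroup G) ⊓ Subgroup.centralizer ({u} : Set G) with hT₁
    have hTT₁ : T ≤ T₁ := by
      intro t ht
      obtain ⟨htS, htC⟩ := Subgroup.mem_inf.mp ht
      refine Subgroup.mem_inf.mpr ⟨htS, ?_⟩
      rw [Subgroup.mem_centralizer_singleton_iff]
      calc t * u = (t * u * t⁻¹) * t := by group
        _ = u * t := by rw [hTu t htS htC]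
    have hsT₁ : s ∈ T₁ := by
      refine Subgroup.mem_inf.mpr ⟨hsS, ?_⟩
      rw [Subgroup.mem_centralizer_singleton_iff]
      calc s * u = (s * u * s⁻¹) * s := by group
        _ = u * s := by rw [hsu]
    have hsT : s ∉ T := fun h => hsC (Subgroup.mem_inf.mp h).2
    -- the conjugate of `T₁` inside `C`
    set K : Subgroup G := T₁.map (MulAut.conj g⁻¹).toMonoidHom with hK
    have hKC : K ≤ C := by
      rintro _ ⟨t, ht, rfl⟩
      have htu : t * u = u * t :=
        Subgroup.mem_centralizer_singleton_iff.mp (Subgroup.mem_inf.mp ht).2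
      rw [memC]
      simp only [MulEquiv.coe_toMonoidHom, MulAut.conj_apply, inv_inv]
      calc g⁻¹ * t * g * x = g⁻¹ * (t * (g * x * g⁻¹)) * g := by group
        _ = g⁻¹ * ((g * x * g⁻¹) * t) * g := by rw [hg, htu]
        _ = x * (g⁻¹ * t * g) := by group
    have hKp : IsPGroup 2 K := (S.2.to_le (inf_le_left : T₁ ≤ S)).map _
    have hKcard : Nat.card K = Nat.card T₁ :=
      Subgroup.card_map_of_injective (MulAut.conj g⁻¹).injective
    have hK' : IsPGroup 2 (K.subgroupOf C) := hKp.comap_subtype
    obtain ⟨P₂, hP₂⟩ := hK'.exists_le_sylow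
    have hc1 : Nat.card (K.subgroupOf C) ≤ Nat.card P₂ := Subgroup.card_le_of_le hP₂
    have hc2 : Nat.card P₂ = Nat.card P := by
      rw [Sylow.card_eq_multiplicity, Sylow.card_eq_multiplicity]
    have hc3 : Nat.card (K.subgroupOf C) = Nat.card K :=
      Nat.card_congr (Subgroup.subgroupOfEquivOfLe hKC).toEquiv
    have hc4 : Nat.card ((P : Subgroup C).map C.subtype) = Nat.card P :=
      Subgroup.card_map_of_injective C.subtype_injective
    have hPT : (P : Subgroup C).map C.subtype ≤ T := by
      intro t ht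
      refine Subgroup.mem_inf.mpr ⟨hPS ht, ?_⟩
      obtain ⟨c, _, rfl⟩ := ht
      exact c.2
    have hc5 : Nat.card ((P : Subgroup C).map C.subtype) ≤ Nat.card T := Subgroup.card_le_of_le hPT
    have hle : Nat.card T₁ ≤ Nat.card T := by omega
    have := Subgroup.eq_of_le_of_card_ge hTT₁ hle
    exact hsT (this ▸ hsT₁)
  -- the hypothesis of S3276
  have hstar : ∀ w : G, orderOf w = 2 → Commute w x →
      ∀ g : G, Commute (g * u * g⁻¹) w → Commute (g * u * g⁻¹) u := by
    intro w hw hwx g hgw
    have hv2 : orderOf (g * u * g⁻¹) = 2 := orderOf_conj_two g hu2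
    have key : ∀ v : G, v = x ∨ v = y ∨ v = u → Commute v u := by
      rintro v (hv' | hv' | hv')
      · rw [hv']; exact hux.symm
      · rw [hv']
        show y * u = u * y
        rw [hyu', hu]
        calc x = x * (y * y) := by rw [hyy, mul_one]
          _ = x * y * y := by group
      · rw [hv']
    rcases three w hw hwx.eq with hw' | hw' | hw'
    · rw [hw'] at hgw
      exact key _ (three _ hv2 hgw.eq)
    · rw [hw'] at hgw
      -- involutions commuting with `y` are conjugates by `s` of those commuting with `x`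
      set v := g * u * g⁻¹ with hv
      have hsx : s⁻¹ * y * s = x := by rw [hy]; group
      have h1 : (s⁻¹ * v * s) * x = x * (s⁻¹ * v * s) := by
        calc (s⁻¹ * v * s) * x = s⁻¹ * (v * y) * s := by rw [← hsx]; group
          _ = s⁻¹ * (y * v) * s := by rw [hgw.eq]
          _ = x * (s⁻¹ * v * s) := by rw [← hsx]; group
      have h2 : orderOf (s⁻¹ * v * s) = 2 := by
        have := orderOf_conj_two s⁻¹ hv2
        rwa [inv_inv] at this
      have h3' : v = s * (s⁻¹ * v * s) * s⁻¹ := by group
      rcases three _ h2 h1 with h | h | h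
      · apply key; right; left
        rw [h3', h]
        exact hy.symm
      · apply key; left
        rw [h3', h, hsy]
      · apply key; right; right
        rw [h3', h, hsu]
    · rw [hw'] at hgw
      exact hgw
  have hres := (Cfsg.Agent.S3276.result x u hx hu2 hux.symm hncj hstar).1
  apply hres
  rcases hsimp.eq_bot_or_eq_top_of_normal (Subgroup.normalClosure ({u} : Set G))
    Subgroup.normalClosure_normal with h | h
  · exfalso
    apply hu1
    have : u ∈ Subgroup.normalClosure ({u} : Set G) :=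
      Subgroup.subset_normalClosure (Set.mem_singleton u)
    rwa [h, Subgroup.mem_bot] at this
  · exact h

end Cfsg.Agent.Helper4.ThreeInvol
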