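import Mathlib
import Cfsg.Agent.Helper4.ThreeInvolB

set_option autoImplicit false
set_option linter.unusedSectionVars false
set_option linter.style.haveILetI false

namespace Cfsg.Agent.Helper4.ThreeInvol

open scoped Pointwise

variable {G : Type*} [Group G] [Finite G]

/-- every involution is conjugate into a given Sylow `2`-subgroup -/
theorem exists_conj_mem_sylow (S : Sylow 2 G) {a : G} (ha : orderOf a = 2) :
    ∃ g : G, g * a * g⁻¹ ∈ S := by
  haveI : Fact (Nat.Prime 2) := ⟨Nat.prime_two⟩
  have hp : IsPGroup 2 (Subgroup.zpowers a) := by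
    apply IsPGroup.of_card (n := 1)
    rw [Nat.card_zpowers, pow_one, ha]
  obtain ⟨Q, hQ⟩ := hp.exists_le_sylow
  obtain ⟨g, hg⟩ := MulAction.exists_smul_eq G Q S
  refine ⟨g, ?_⟩
  have haQ : a ∈ (Q : Subgroup G) := hQ (Subgroup.mem_zpowers a)
  have h1 : MulAut.conj g • a ∈ MulAut.conj g • (Q : Subgroup G) :=
    Subgroup.smul_mem_pointwise_smul _ _ _ haQ
  rw [← Sylow.coe_subgroup_smul, hg] at h1
  have h2 : g * a * g⁻¹ ∈ (S : Subgroup G) := by simpa [MulAut.smul_def] using h1
  exact h2

/-- Part 2: all involutions are conjugate to `x`. -/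
theorem isConj_of_invol [hsimp : IsSimpleGroup G] (hnc : ∃ a b : G, a * b ≠ b * a) (x : G)
    (hx : orderOf x = 2)
    (h3 : Nat.card {u : ↥(Subgroup.centralizer ({x} : Set G)) // orderOf u = 2} ≤ 3)
    (S : Sylow 2 G) (hxS : x ∈ S) (hSC : (S : Subgroup G) ≤ Subgroup.centralizer ({x} : Set G))
    (a : G) (ha : orderOf a = 2) : IsConj x a := by
  classical
  have memC : ∀ {g : G}, g ∈ Subgroup.centralizer ({x} : Set G) ↔ g * x = x * g :=
    Subgroup.mem_centralizer_singleton_iff
  have hxx := sq_of_two hx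
  have hx1 := ne_one_of_two hx
  obtain ⟨g, hg⟩ := exists_conj_mem_sylow S ha
  obtain ⟨b, hb⟩ : ∃ b : G, b = g * a * g⁻¹ := ⟨_, rfl⟩
  rw [← hb] at hg
  have hab : IsConj a b := isConj_iff.mpr ⟨g, hb.symm⟩
  suffices h : IsConj x b from h.trans hab.symm
  by_contra hnb
  have hb2 : orderOf b = 2 := by rw [hb]; exact orderOf_conj_two g ha
  have hbb := sq_of_two hb2
  have hbx : b * x = x * b := memC.mp (hSC hg)
  have hxb : x ≠ b := fun h => hnb (h ▸ IsConj.refl x)
  obtain ⟨c, hc⟩ : ∃ c : G, c = x * b := ⟨_, rfl⟩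
  have hcc : c * c = 1 := by
    calc c * c = x * (b * x) * b := by rw [hc]; group
      _ = x * (x * b) * b := by rw [hbx]
      _ = (x * x) * (b * b) := by group
      _ = 1 := by rw [hxx, hbb, one_mul]
  have hc1 : c ≠ 1 := by
    intro h
    apply hxb
    calc x = x * (x * b) := by rw [← hc, h, mul_one]
      _ = (x * x) * b := by group
      _ = b := by rw [hxx, one_mul]
  have hc2 : orderOf c = 2 := orderOf_eq_prime (by rw [pow_two]; exact hcc) hc1
  have hcx : c * x = x * c := by
    rw [hc]
    calc x * b * x = x * (b * x) := by group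
      _ = x * (x * b) := by rw [hbx]
  have hxc : x ≠ c := by
    intro h
    apply ne_one_of_two hb2
    calc b = (x * x) * b := by rw [hxx, one_mul]
      _ = x * (x * b) := by group
      _ = 1 := by rw [← hc, ← h, hxx]
  have hbc : b ≠ c := by
    intro h
    apply hx1
    calc x = x * (b * b) := by rw [hbb, mul_one]
      _ = (x * b) * b := by group
      _ = 1 := by rw [← hc, ← h, hbb]
  have three : ∀ w : G, orderOf w = 2 → w * x = x * w → w = x ∨ w = b ∨ w = c :=
    fun w hw hwx => mem_three h3 hx hb2 hc2 hw rfl hbx hcx hwx hxb hxc hbc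
  by_cases hxcj : IsConj x c
  · -- `b` is isolated
    apply not_isolated_of_simple hnc S b hb2 hg
    intro g' hg'
    rcases three _ (orderOf_conj_two g' hb2) (memC.mp (hSC hg')) with h | h | h
    · exact absurd (isConj_iff.mpr ⟨g', h⟩ : IsConj b x).symm hnb
    · exact h
    · exfalso
      exact hnb (hxcj.trans (isConj_iff.mpr ⟨g', h⟩ : IsConj b c).symm)
  · -- `x` is isolated
    apply not_isolated_of_simple hnc S x hx hxS
    intro g' hg'
    rcases three _ (orderOf_conj_two g' hx) (memC.mp (hSC hg')) with h | h | h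
    · exact h
    · exact absurd (isConj_iff.mpr ⟨g', h⟩ : IsConj x b) hnb
    · exact absurd (isConj_iff.mpr ⟨g', h⟩ : IsConj x c) hxcj

end Cfsg.Agent.Helper4.ThreeInvol
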