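import Mathlib

set_option autoImplicit false

/-!
Automorphisms of an internal semidirect product `G = P ⋊ ⟨x⟩` from compatible data on `P` and a
power map on `⟨x⟩`.
-/

namespace Cfsg.Agent.Helper4.ThreeOrb

variable {G : Type*} [Group G]

/-- the `k`-th power map on a cyclic subgroup `⟨x⟩` -/
def powHomZ (x : G) (k : ℕ) : ↥(Subgroup.zpowers x) →* ↥(Subgroup.zpowers x) where
  toFun t := t ^ k
  map_one' := one_pow k
  map_mul' a b := by
    have hc : Commute a b := by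
      obtain ⟨i, hi⟩ := Subgroup.mem_zpowers_iff.1 a.2
      obtain ⟨j, hj⟩ := Subgroup.mem_zpowers_iff.1 b.2
      apply Subtype.ext
      simp only [Subgroup.coe_mul]
      rw [← hi, ← hj, ← zpow_add, ← zpow_add, add_comm]
    exact hc.mul_pow k

theorem conjNormal_pow_compat (P : Subgroup G) [P.Normal] (x : G) (β : ↥P ≃* ↥P) (k : ℕ)
    (hβ : ∀ y : ↥P, (β (MulAut.conjNormal x y) : G) = x ^ k * (β y : G) * (x ^ k)⁻¹) (n : ℕ) :
    ∀ y : ↥P, (β (MulAut.conjNormal (x ^ n) y) : G) =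
      (x ^ n) ^ k * (β y : G) * ((x ^ n) ^ k)⁻¹ := by
  induction n with
  | zero =>
    intro y
    simp
  | succ n ih =>
    intro y
    have e1 : MulAut.conjNormal (x ^ (n + 1)) y =
        MulAut.conjNormal x (MulAut.conjNormal (x ^ n) y) := by
      rw [pow_succ', map_mul]
      rfl
    rw [e1, hβ, ih]
    have e2 : (x ^ (n + 1)) ^ k = x ^ k * (x ^ n) ^ k := by
      rw [← pow_mul, ← pow_mul, ← pow_add]
      congr 1
      ring
    rw [e2, mul_inv_rev]
    group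

theorem exists_aut_of_data [Finite G] (P : Subgroup G) [P.Normal] (x : G) (q : ℕ)
    [hq : Fact q.Prime] (hx : orderOf x = q) (hc : P.IsComplement' (Subgroup.zpowers x))
    (β : ↥P ≃* ↥P) (k : ℕ) (hk : ¬ q ∣ k)
    (hβ : ∀ y : ↥P, (β (MulAut.conjNormal x y) : G) = x ^ k * (β y : G) * (x ^ k)⁻¹) :
    ∃ Ψ : MulAut G, (∀ y : ↥P, Ψ (y : G) = (β y : G)) ∧ Ψ x = x ^ k := by
  classical
  have hcard : Nat.card ↥(Subgroup.zpowers x) = q := by rw [Nat.card_zpowers, hx]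
  have hcop : (Nat.card ↥(Subgroup.zpowers x)).Coprime k := by
    rw [hcard]
    exact (Nat.Prime.coprime_iff_not_dvd hq.out).2 hk
  have hbij : Function.Bijective (powHomZ x k) := (powCoprime hcop).bijective
  obtain ⟨fg, hfg⟩ : ∃ fg : ↥(Subgroup.zpowers x) ≃* ↥(Subgroup.zpowers x),
      ∀ t, fg t = t ^ k := ⟨MulEquiv.ofBijective (powHomZ x k) hbij, fun t => rfl⟩
  obtain ⟨ψ, hψdef⟩ : ∃ ψ : ↥(Subgroup.zpowers x) →* MulAut ↥P,
      ψ = (P.normalizerMonoidHom).comp (Subgroup.inclusion (P.normalizer_eq_top ▸ le_top)) :=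
    ⟨_, rfl⟩
  have hψ : ∀ (t : ↥(Subgroup.zpowers x)) (y : ↥P), ψ t y = MulAut.conjNormal (t : G) y := by
    intro t y
    rw [hψdef]
    apply Subtype.ext
    rw [MulAut.conjNormal_apply]
    rfl
  have hcomp : ∀ t : ↥(Subgroup.zpowers x), (ψ t).trans β = β.trans (ψ (fg t)) := by
    intro t
    apply MulEquiv.ext
    intro y
    rw [MulEquiv.trans_apply, MulEquiv.trans_apply, hψ, hψ]
    apply Subtype.ext
    rw [MulAut.conjNormal_apply, hfg]
    have ht := t.2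
    rw [← mem_powers_iff_mem_zpowers] at ht
    obtain ⟨n, hn⟩ := (Submonoid.mem_powers_iff _ _).1 ht
    rw [Subgroup.coe_pow, ← hn]
    exact conjNormal_pow_compat P x β k hβ n y
  obtain ⟨E, hE⟩ : ∃ E : ↥P ⋊[ψ] ↥(Subgroup.zpowers x) ≃* G,
      ∀ a, E a = (a.left : G) * (a.right : G) := by
    subst hψdef
    exact ⟨SemidirectProduct.mulEquivSubgroup hc, fun a => rfl⟩
  obtain ⟨C, hC⟩ : ∃ C : ↥P ⋊[ψ] ↥(Subgroup.zpowers x) ≃* ↥P ⋊[ψ] ↥(Subgroup.zpowers x),
      ∀ a, C a = ⟨β a.left, fg a.right⟩ :=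
    ⟨SemidirectProduct.congr β fg hcomp, fun a => rfl⟩
  refine ⟨E.symm.trans (C.trans E), ?_, ?_⟩
  · intro y
    have h1 : E.symm (y : G) = ⟨y, 1⟩ := by
      rw [MulEquiv.symm_apply_eq, hE]
      simp
    rw [MulEquiv.trans_apply, MulEquiv.trans_apply, h1, hC, hE]
    simp
  · have h1 : E.symm x = ⟨1, ⟨x, Subgroup.mem_zpowers x⟩⟩ := by
      rw [MulEquiv.symm_apply_eq, hE]
      simp
    rw [MulEquiv.trans_apply, MulEquiv.trans_apply, h1, hC, hE]
    simp [hfg]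

open scoped Pointwise in
/-- if all Sylow `s`-subgroups have order `s`, any two elements of order `s` are conjugate up to a
power -/
theorem exists_conj_pow_of_orderOf [Finite G] (s : ℕ) [hs : Fact s.Prime]
    (hS : ∀ Q : Sylow s G, Nat.card (Q : Subgroup G) = s) (x g : G) (hx : orderOf x = s)
    (hg : orderOf g = s) : ∃ (c : G) (k : ℕ), 1 ≤ k ∧ k < s ∧ g = c * x ^ k * c⁻¹ := by
  have hcx : Nat.card ↥(Subgroup.zpowers x) = s := by rw [Nat.card_zpowers, hx]
  have hcg : Nat.card ↥(Subgroup.zpowers g) = s := by rw [Nat.card_zpowers, hg]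
  have hqx : IsPGroup s (Subgroup.zpowers x) := IsPGroup.of_card (n := 1) (by rw [hcx, pow_one])
  have hqg : IsPGroup s (Subgroup.zpowers g) := IsPGroup.of_card (n := 1) (by rw [hcg, pow_one])
  obtain ⟨Qx, hQx⟩ := hqx.exists_le_sylow
  obtain ⟨Qg, hQg⟩ := hqg.exists_le_sylow
  have hQx' : Subgroup.zpowers x = (Qx : Subgroup G) :=
    Subgroup.eq_of_le_of_card_ge hQx (by rw [hS Qx, hcx])
  obtain ⟨c, hcc⟩ := MulAction.exists_smul_eq G Qx Qg
  have hgmem : g ∈ ((c • Qx : Sylow s G) : Subgroup G) := by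
    rw [hcc]; exact hQg (Subgroup.mem_zpowers g)
  rw [Sylow.coe_subgroup_smul, ← hQx', Subgroup.mem_pointwise_smul_iff_inv_smul_mem] at hgmem
  have hgmem' : c⁻¹ * g * c ∈ Subgroup.zpowers x := by
    simpa [MulAut.smul_def, MulAut.conj_apply, ← map_inv] using hgmem
  rw [← mem_powers_iff_mem_zpowers] at hgmem'
  obtain ⟨m, hm⟩ := (Submonoid.mem_powers_iff _ _).1 hgmem'
  have hmk : x ^ (m % s) = x ^ m := by rw [← hx]; exact pow_mod_orderOf x m
  have hg1 : g ≠ 1 := by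
    intro h
    rw [h, orderOf_one] at hg
    exact hs.out.one_lt.ne hg
  refine ⟨c, m % s, ?_, Nat.mod_lt _ hs.out.pos, ?_⟩
  · by_contra hk
    have hk0 : m % s = 0 := by omega
    rw [hk0, pow_zero] at hmk
    rw [← hmk] at hm
    apply hg1
    have h5 : g = c * (c⁻¹ * g * c) * c⁻¹ := by group
    rw [h5, ← hm]; group
  · rw [hmk, hm]; group

end Cfsg.Agent.Helper4.ThreeOrb
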