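import Mathlib

set_option autoImplicit false

/-!
Number-theoretic core of the "three automorphism orbits" theorem: if a fixed-point-free operator `T`
of prime order `s` on a finite `𝔽_r`-space is normalised by a group of additive automorphisms that is
transitive on nonzero vectors and fuses `T` with all its nontrivial powers, then `r` is a primitive
root modulo `s`.
-/

namespace Cfsg.Agent.Helper4.ThreeOrb

open Polynomial

variable {r s : ℕ} [hr : Fact r.Prime] [hs : Fact s.Prime]
variable {V : Type*} [AddCommGroup V] [Module (ZMod r) V]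

/-- an additive map intertwining `T` and `S` intertwines polynomials in them -/
theorem intertwine_aeval (T S : Module.End (ZMod r) V) (B : V →+ V)
    (hB : ∀ u, B (T u) = S (B u)) (h : (ZMod r)[X]) (u : V) :
    B (aeval T h u) = aeval S h (B u) := by
  have hpow : ∀ n : ℕ, ∀ u, B ((T ^ n) u) = (S ^ n) (B u) := by
    intro n
    induction n with
    | zero => intro u; simp
    | succ n ih =>
      intro u
      rw [pow_succ, pow_succ, Module.End.mul_apply, Module.End.mul_apply, ih, hB]
  induction h using Polynomial.induction_on' with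
  | add f g hf hg => simp only [map_add, LinearMap.add_apply, hf, hg]
  | monomial n c =>
    have e1 : aeval T (monomial n c) u = c • (T ^ n) u := by
      rw [aeval_monomial, Module.End.mul_apply, Module.algebraMap_end_apply]
    have e2 : aeval S (monomial n c) (B u) = c • (S ^ n) (B u) := by
      rw [aeval_monomial, Module.End.mul_apply, Module.algebraMap_end_apply]
    rw [e1, e2, ZMod.map_smul, hpow]

/-- the cyclic `𝔽_r[T]`-submodule generated by `a`, as a set -/
abbrev cyc (T : Module.End (ZMod r) V) (a : V) : Set V :=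
  Set.range fun h : (ZMod r)[X] => aeval T h a

theorem card_cyc_le [Finite V] (T : Module.End (ZMod r) V) (B : V →+ V)
    (hinj : Function.Injective B) (k : ℕ) (hB : ∀ u, B (T u) = (T ^ k) (B u)) (a : V) :
    Nat.card (cyc T a) ≤ Nat.card (cyc T (B a)) := by
  have hmap : ∀ v : cyc T a, B (v : V) ∈ cyc T (B a) := by
    intro v
    obtain ⟨h, hh⟩ := v.2
    refine ⟨h.comp (X ^ k), ?_⟩
    show aeval T (h.comp (X ^ k)) (B a) = B (v : V)
    rw [← hh]
    show aeval T (h.comp (X ^ k)) (B a) = B (aeval T h a)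
    rw [intertwine_aeval T (T ^ k) B hB, aeval_comp, aeval_X_pow]
  exact Nat.card_le_card_of_injective (fun v : cyc T a => (⟨B (v : V), hmap v⟩ : cyc T (B a)))
    (fun v w hvw => Subtype.ext (hinj (congrArg Subtype.val hvw)))

/-- a fixed-point-free operator of prime order `s` is killed by the `s`-th cyclotomic polynomial -/
theorem aeval_cyclotomic_eq_zero (T : Module.End (ZMod r) V) (hTs : T ^ s = 1)
    (hfpf : ∀ v, T v = v → v = 0) : aeval T (cyclotomic s (ZMod r)) = 0 := by
  have h0 : aeval T ((X - 1) * cyclotomic s (ZMod r)) = 0 := by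
    rw [mul_comm, cyclotomic_prime_mul_X_sub_one]
    simp [hTs]
  rw [map_mul] at h0
  apply LinearMap.ext
  intro v
  have h3 := LinearMap.congr_fun h0 v
  rw [Module.End.mul_apply] at h3
  have h4 : aeval T (X - 1 : (ZMod r)[X]) = T - 1 := by simp
  rw [h4, LinearMap.sub_apply, Module.End.one_apply, LinearMap.zero_apply, sub_eq_zero] at h3
  rw [LinearMap.zero_apply]
  exact hfpf _ h3

theorem orderOf_eq_of_transitive (hrs : r ≠ s) [Finite V] [Nontrivial V]
    (T : Module.End (ZMod r) V) (hTs : T ^ s = 1) (hfpf : ∀ v, T v = v → v = 0)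
    (h1 : ∀ v w : V, v ≠ 0 → w ≠ 0 → ∃ (B : V →+ V) (k : ℕ), Function.Injective B ∧ B v = w ∧
      ∀ u, B (T u) = (T ^ k) (B u))
    (h2 : ∀ k : ℕ, 1 ≤ k → k < s → ∃ B : V →+ V, Function.Injective B ∧
      ∀ u, B (T u) = (T ^ k) (B u)) :
    orderOf ((r : ℕ) : ZMod s) = s - 1 := by
  classical
  obtain ⟨Φ, hΦ⟩ : ∃ Φ : (ZMod r)[X], Φ = cyclotomic s (ZMod r) := ⟨_, rfl⟩
  have hΦT : aeval T Φ = 0 := by rw [hΦ]; exact aeval_cyclotomic_eq_zero T hTs hfpf
  have hΦmonic : Φ.Monic := by rw [hΦ]; exact cyclotomic.monic s _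
  have hΦ0 : Φ ≠ 0 := hΦmonic.ne_zero
  have hint : IsIntegral (ZMod r) T := ⟨Φ, hΦmonic, by rw [← aeval_def]; exact hΦT⟩
  have hμdvd : minpoly (ZMod r) T ∣ Φ := minpoly.dvd _ _ hΦT
  have hμ0 : minpoly (ZMod r) T ≠ 0 := minpoly.ne_zero hint
  obtain ⟨f, hfirr, hfμ⟩ :=
    WfDvdMonoid.exists_irreducible_factor (minpoly.not_isUnit (ZMod r) T) hμ0
  obtain ⟨g, hg⟩ := hfμ
  have hg0 : g ≠ 0 := by
    rintro rfl
    rw [mul_zero] at hg
    exact hμ0 hg
  have hf0 : f ≠ 0 := hfirr.ne_zero
  have hfpos : 0 < f.natDegree := natDegree_pos_iff_degree_pos.2 (degree_pos_of_irreducible hfirr)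
  have hgT : aeval T g ≠ 0 := by
    intro h0
    have hdvd := minpoly.dvd (ZMod r) T h0
    have hdeg := natDegree_le_of_dvd hdvd hg0
    rw [hg, natDegree_mul hf0 hg0] at hdeg
    omega
  obtain ⟨u₀, hu₀⟩ : ∃ u, aeval T g u ≠ 0 := by
    by_contra hcon
    apply hgT
    apply LinearMap.ext
    intro u
    rw [LinearMap.zero_apply]
    by_contra hu
    exact hcon ⟨u, hu⟩
  obtain ⟨y, hydef⟩ : ∃ y : V, y = aeval T g u₀ := ⟨_, rfl⟩
  have hy : y ≠ 0 := by rw [hydef]; exact hu₀
  have hfy : aeval T f y = 0 := by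
    rw [hydef, ← Module.End.mul_apply, ← map_mul, ← hg, minpoly.aeval, LinearMap.zero_apply]
  have hfΦ : f ∣ Φ := (Dvd.intro g hg.symm).trans hμdvd
  obtain ⟨g', hg'⟩ := hfΦ
  have hne : NeZero ((s : ℕ) : ZMod r) := ⟨by
    intro h0
    rw [ZMod.natCast_eq_zero_iff] at h0
    exact hrs ((Nat.prime_dvd_prime_iff_eq hr.out hs.out).1 h0)⟩
  have hsq : Squarefree Φ := by rw [hΦ]; exact squarefree_cyclotomic s (ZMod r)
  have hcop : IsCoprime f g' := by
    rw [hfirr.coprime_iff_not_dvd]
    rintro ⟨c, hc⟩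
    have h5 : f * f ∣ Φ := ⟨c, by rw [hg', hc]; ring⟩
    exact hfirr.not_isUnit (hsq f h5)
  obtain ⟨a, b, hab⟩ := hcop
  have hbez : ∀ v : V, aeval T (a * f) v + aeval T (b * g') v = v := by
    intro v
    rw [← LinearMap.add_apply, ← map_add, hab, map_one, Module.End.one_apply]
  have hzero : ∀ e : V, aeval T f e = 0 → aeval T g' e = 0 → e = 0 := by
    intro e h5 h6
    have h7 := hbez e
    rw [map_mul, map_mul, Module.End.mul_apply, Module.End.mul_apply, h5, h6, map_zero,
      map_zero, add_zero] at h7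
    exact h7.symm
  have hker : ∀ z : V, aeval T g' z = 0 → z = 0 := by
    intro z hz
    by_contra hz0
    have hyz : y + z ≠ 0 := by
      intro h0
      have hz' : z = -y := by
        rw [eq_neg_iff_add_eq_zero, add_comm]; exact h0
      have hfz : aeval T f z = 0 := by rw [hz', map_neg, hfy, neg_zero]
      exact hz0 (hzero z hfz hz)
    obtain ⟨B, k, hBinj, hBv, hBT⟩ := h1 (y + z) y hyz hy
    have hle : Nat.card (cyc T (y + z)) ≤ Nat.card (cyc T y) := by
      have h5 := card_cyc_le T B hBinj k hBT (y + z)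
      rwa [hBv] at h5
    -- y and z recovered from y + z
    have hy' : aeval T (b * g') (y + z) = y := by
      have h5 := hbez y
      rw [map_mul (aeval T) a f, Module.End.mul_apply, hfy, map_zero, zero_add] at h5
      rw [map_add, h5, map_mul (aeval T) b g', Module.End.mul_apply, hz, map_zero, add_zero]
    have hz'' : aeval T (a * f) (y + z) = z := by
      have h5 := hbez z
      rw [map_mul (aeval T) b g', Module.End.mul_apply, hz, map_zero, add_zero] at h5
      rw [map_add, h5, map_mul (aeval T) a f, Module.End.mul_apply, hfy, map_zero, zero_add]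
    have hcf : ∀ c ∈ cyc T y, aeval T f c = 0 := by
      rintro c ⟨h, rfl⟩
      show aeval T f (aeval T h y) = 0
      rw [← Module.End.mul_apply, ← map_mul, mul_comm, map_mul, Module.End.mul_apply, hfy,
        map_zero]
    have hcg : ∀ d ∈ cyc T z, aeval T g' d = 0 := by
      rintro d ⟨h, rfl⟩
      show aeval T g' (aeval T h z) = 0
      rw [← Module.End.mul_apply, ← map_mul, mul_comm, map_mul, Module.End.mul_apply, hz,
        map_zero]
    have hsum : ∀ (c : cyc T y) (d : cyc T z), (c : V) + (d : V) ∈ cyc T (y + z) := by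
      intro c d
      obtain ⟨h₁, hc⟩ := c.2
      obtain ⟨h₂, hd⟩ := d.2
      refine ⟨h₁ * (b * g') + h₂ * (a * f), ?_⟩
      show aeval T (h₁ * (b * g') + h₂ * (a * f)) (y + z) = (c : V) + (d : V)
      rw [map_add (aeval T) (h₁ * (b * g')) (h₂ * (a * f)), LinearMap.add_apply,
        map_mul (aeval T) h₁, map_mul (aeval T) h₂, Module.End.mul_apply,
        Module.End.mul_apply, hy', hz'', ← hc, ← hd]
    have hinj : Function.Injective
        (fun cd : cyc T y × cyc T z => (⟨(cd.1 : V) + (cd.2 : V), hsum cd.1 cd.2⟩ :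
          cyc T (y + z))) := by
      rintro ⟨c, d⟩ ⟨c', d'⟩ hcd
      have h5 : (c : V) + (d : V) = (c' : V) + (d' : V) := congrArg Subtype.val hcd
      have h6 : (c : V) - (c' : V) = (d' : V) - (d : V) := by
        rw [sub_eq_sub_iff_add_eq_add, h5, add_comm]
      have h7 : aeval T f ((c : V) - (c' : V)) = 0 := by
        rw [map_sub, hcf c c.2, hcf c' c'.2, sub_zero]
      have h8 : aeval T g' ((c : V) - (c' : V)) = 0 := by
        rw [h6, map_sub, hcg d d.2, hcg d' d'.2, sub_zero]
      have h9 := hzero _ h7 h8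
      have h10 : (c : V) = c' := sub_eq_zero.1 h9
      have h11 : (d : V) = d' := by
        rw [h10] at h5
        exact add_left_cancel h5
      exact Prod.ext (Subtype.ext h10) (Subtype.ext h11)
    have hprod := Nat.card_le_card_of_injective _ hinj
    rw [Nat.card_prod] at hprod
    have h2z : 2 ≤ Nat.card (cyc T z) := by
      have hnt : Nontrivial (cyc T z) :=
        ⟨⟨⟨0, 0, by simp⟩, ⟨z, 1, by simp⟩, fun h => hz0 (congrArg Subtype.val h).symm⟩⟩
      exact Finite.one_lt_card_iff_nontrivial.2 hnt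
    have h1y : 1 ≤ Nat.card (cyc T y) := by
      have : Nonempty (cyc T y) := ⟨⟨y, 1, by simp⟩⟩
      exact Nat.card_pos
    nlinarith
  have hfT : aeval T f = 0 := by
    apply LinearMap.ext
    intro v
    rw [LinearMap.zero_apply]
    apply hker
    rw [← Module.End.mul_apply, ← map_mul, mul_comm g' f, ← hg', hΦT, LinearMap.zero_apply]
  have hdeg1 : f.natDegree = orderOf ((r : ℕ) : ZMod s) := by
    have hcopr : r.Coprime s := (Nat.coprime_primes hr.out hs.out).2 hrs
    have hK : Fintype.card (ZMod r) = r ^ 1 := by rw [ZMod.card, pow_one]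
    have hfc : f ∣ cyclotomic s (ZMod r) := by rw [← hΦ]; exact Dvd.intro g' hg'.symm
    have h := natDegree_of_dvd_cyclotomic_of_irreducible (K := ZMod r) (p := r) (f := 1) (n := s)
      hK hcopr hfc hfirr
    rw [h, ← orderOf_units, ZMod.coe_unitOfCoprime, pow_one]
  have hdeg3 : f.natDegree ≤ s - 1 := by
    have h5 := natDegree_le_of_dvd (Dvd.intro g' hg'.symm) hΦ0
    rw [hΦ, natDegree_cyclotomic, Nat.totient_prime hs.out] at h5
    exact h5
  have hdeg2 : s - 1 ≤ f.natDegree := by
    have : Fact (Irreducible f) := ⟨hfirr⟩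
    have hfdvd : ∀ h : (ZMod r)[X], aeval T h = 0 → f ∣ h := by
      intro h hh
      have h5 : minpoly (ZMod r) T ∣ h := minpoly.dvd _ _ hh
      obtain ⟨u, hu⟩ := minpoly.dvd (ZMod r) T hfT
      rcases hfirr.isUnit_or_isUnit hu with hunit | hunit
      · exact absurd hunit (minpoly.not_isUnit (ZMod r) T)
      · obtain ⟨c, hc⟩ := h5
        obtain ⟨u', rfl⟩ := hunit
        refine ⟨↑u'⁻¹ * c, ?_⟩
        rw [hc, hu, mul_assoc, ← mul_assoc (↑u' : (ZMod r)[X]), Units.mul_inv, one_mul]
    obtain ⟨ζ, hζdef⟩ : ∃ ζ : AdjoinRoot f, ζ = AdjoinRoot.root f := ⟨_, rfl⟩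
    have hmk : ∀ h : (ZMod r)[X], aeval T h = 0 → aeval ζ h = 0 := by
      intro h hh
      rw [hζdef, AdjoinRoot.aeval_eq, AdjoinRoot.mk_eq_zero]
      exact hfdvd h hh
    have hroot : ∀ k, 1 ≤ k → k < s → aeval (ζ ^ k) f = 0 := by
      intro k hk1 hks
      obtain ⟨B, hBinj, hBT⟩ := h2 k hk1 hks
      have hBsurj : Function.Surjective B := Finite.surjective_of_injective hBinj
      have hfk : aeval (T ^ k) f = 0 := by
        apply LinearMap.ext
        intro v
        obtain ⟨u, rfl⟩ := hBsurj v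
        rw [← intertwine_aeval T (T ^ k) B hBT, hfT, LinearMap.zero_apply, map_zero,
          LinearMap.zero_apply]
      have h5 : aeval ζ (f.comp (X ^ k)) = 0 :=
        hmk _ (by rw [aeval_comp, aeval_X_pow]; exact hfk)
      rwa [aeval_comp, aeval_X_pow] at h5
    have hζs : ζ ^ s = 1 := by
      have h5 : aeval ζ (X ^ s - 1 : (ZMod r)[X]) = 0 := hmk _ (by simp [hTs])
      simpa [sub_eq_zero] using h5
    have hζ1 : ζ ≠ 1 := by
      intro h
      have h5 : f ∣ (X - 1 : (ZMod r)[X]) := by
        rw [← AdjoinRoot.mk_eq_zero, map_sub, AdjoinRoot.mk_X, map_one, ← hζdef, h, sub_self]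
      obtain ⟨c, hc⟩ := h5
      have hT1 : T - 1 = 0 := by
        have h6 : aeval T (X - 1 : (ZMod r)[X]) = 0 := by rw [hc, map_mul, hfT, zero_mul]
        simpa using h6
      obtain ⟨v, hv⟩ := exists_ne (0 : V)
      exact hv (hfpf v (by rw [sub_eq_zero.1 hT1, Module.End.one_apply]))
    have hord : orderOf ζ = s := orderOf_eq_prime hζs hζ1
    have hinjpow : Set.InjOn (fun k : ℕ => ζ ^ k) (Finset.Icc 1 (s - 1) : Set ℕ) := by
      intro i hi j hj hij
      have hi' : i ∈ Set.Iio (orderOf ζ) := by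
        rw [hord]
        have := (Finset.mem_Icc.1 hi).2
        have := hs.out.one_lt
        simp only [Set.mem_Iio]; omega
      have hj' : j ∈ Set.Iio (orderOf ζ) := by
        rw [hord]
        have := (Finset.mem_Icc.1 hj).2
        have := hs.out.one_lt
        simp only [Set.mem_Iio]; omega
      exact pow_injOn_Iio_orderOf hi' hj' hij
    have hcardZ : ((Finset.Icc 1 (s - 1)).image (fun k : ℕ => ζ ^ k)).card = s - 1 := by
      rw [Finset.card_image_of_injOn hinjpow, Nat.card_Icc]
      omega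
    have hmap0 : f.map (algebraMap (ZMod r) (AdjoinRoot f)) ≠ 0 := by
      rw [Ne, Polynomial.map_eq_zero]; exact hf0
    have hsub : ((Finset.Icc 1 (s - 1)).image (fun k : ℕ => ζ ^ k)).val ⊆
        (f.map (algebraMap (ZMod r) (AdjoinRoot f))).roots := by
      intro t ht
      rw [Finset.mem_val, Finset.mem_image] at ht
      obtain ⟨k, hk, rfl⟩ := ht
      rw [mem_roots hmap0, IsRoot.def, eval_map, ← aeval_def]
      have hk' := Finset.mem_Icc.1 hk
      have := hs.out.one_lt
      exact hroot k hk'.1 (by omega)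
    have h5 := card_le_degree_of_subset_roots hsub
    rw [hcardZ, natDegree_map] at h5
    exact h5
  rw [← hdeg1]
  omega

end Cfsg.Agent.Helper4.ThreeOrb
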