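import Mathlib
import Cfsg.Agent.Helper4.ThreeOrbNT

set_option autoImplicit false

/-!
Linear algebra for the converse direction of the "three automorphism orbits" theorem: when `p` is a
primitive root mod `q`, a fixed-point-free operator `T` of order `q` on a finite `𝔽_p`-space makes it
a vector space over the field `𝔽_p[X]/(Φ_q)`; its linear group is transitive on nonzero vectors and
the Frobenius twists conjugate `T` to its powers.
-/

namespace Cfsg.Agent.Helper4.ThreeOrb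

open Polynomial

variable {p q : ℕ} [hp : Fact p.Prime] [hq : Fact q.Prime]
variable {V : Type*} [AddCommGroup V] [Module (ZMod p) V]

theorem irreducible_cyclotomic_of_orderOf (hpq : p ≠ q)
    (hord : orderOf ((p : ℕ) : ZMod q) = q - 1) : Irreducible (cyclotomic q (ZMod p)) := by
  have hpn : ¬ p ∣ q := fun h => hpq ((Nat.prime_dvd_prime_iff_eq hp.out hq.out).1 h)
  apply ZMod.irreducible_of_dvd_cyclotomic_of_natDegree hpn (dvd_refl _)
  rw [natDegree_cyclotomic, Nat.totient_prime hq.out, ← hord, ← orderOf_units,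
    ZMod.coe_unitOfCoprime]

theorem exists_pow_mod_eq (hpq : p ≠ q) (hord : orderOf ((p : ℕ) : ZMod q) = q - 1)
    (k : ℕ) (hk1 : 1 ≤ k) (hkq : k < q) : ∃ j : ℕ, p ^ j % q = k % q := by
  have hk0 : ((k : ℕ) : ZMod q) ≠ 0 := by
    rw [Ne, ZMod.natCast_eq_zero_iff]
    intro hdvd
    have := Nat.le_of_dvd (by omega) hdvd
    omega
  have hp0 : ((p : ℕ) : ZMod q) ≠ 0 := by
    rw [Ne, ZMod.natCast_eq_zero_iff]
    intro hdvd
    exact hpq ((Nat.prime_dvd_prime_iff_eq hq.out hp.out).1 hdvd).symm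
  obtain ⟨P, hP⟩ : ∃ P : (ZMod q)ˣ, (P : ZMod q) = ((p : ℕ) : ZMod q) := ⟨Units.mk0 _ hp0, rfl⟩
  obtain ⟨U, hU⟩ : ∃ U : (ZMod q)ˣ, (U : ZMod q) = ((k : ℕ) : ZMod q) := ⟨Units.mk0 _ hk0, rfl⟩
  have hPord : orderOf P = q - 1 := by rw [← orderOf_units, hP, hord]
  have htop : Subgroup.zpowers P = ⊤ := by
    apply Subgroup.eq_top_of_card_eq
    rw [Nat.card_zpowers, hPord, Nat.card_eq_fintype_card, ZMod.card_units]
  have hmem : U ∈ Subgroup.zpowers P := by rw [htop]; exact Subgroup.mem_top U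
  rw [← mem_powers_iff_mem_zpowers] at hmem
  obtain ⟨j, hj⟩ := (Submonoid.mem_powers_iff _ _).1 hmem
  refine ⟨j, ?_⟩
  have h5 : ((p ^ j : ℕ) : ZMod q) = ((k : ℕ) : ZMod q) := by
    rw [Nat.cast_pow, ← hP, ← hU, ← Units.val_pow_eq_pow_val]
    exact congrArg Units.val hj
  exact (ZMod.natCast_eq_natCast_iff' _ _ _).1 h5

theorem exists_intertwiners (hpq : p ≠ q) [Finite V]
    (T : Module.End (ZMod p) V) (hTq : T ^ q = 1) (hfpf : ∀ v, T v = v → v = 0)
    (hord : orderOf ((p : ℕ) : ZMod q) = q - 1) :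
    (∀ v w : V, v ≠ 0 → w ≠ 0 → ∃ B : V ≃+ V, B v = w ∧ ∀ u, B (T u) = T (B u)) ∧
    (∀ k : ℕ, 1 ≤ k → k < q → ∃ B : V ≃+ V, ∀ u, B (T u) = (T ^ k) (B u)) := by
  classical
  have hΦT0 : aeval T (cyclotomic q (ZMod p)) = 0 := aeval_cyclotomic_eq_zero T hTq hfpf
  have hirr0 := irreducible_cyclotomic_of_orderOf hpq hord
  obtain ⟨Φ, hΦdef⟩ : ∃ Φ : (ZMod p)[X], Φ = cyclotomic q (ZMod p) := ⟨_, rfl⟩
  rw [← hΦdef] at hΦT0 hirr0
  have hirr : Fact (Irreducible Φ) := ⟨hirr0⟩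
  have hH : ∀ a : (ZMod p)[X], a ∈ Ideal.span {Φ} →
      (aeval T : (ZMod p)[X] →ₐ[ZMod p] Module.End (ZMod p) V).toRingHom a = 0 := by
    intro a ha
    obtain ⟨c, rfl⟩ := Ideal.mem_span_singleton.1 ha
    show aeval T (Φ * c) = 0
    rw [map_mul, hΦT0, zero_mul]
  obtain ⟨φ, hφ⟩ : ∃ φ : AdjoinRoot Φ →+* Module.End (ZMod p) V,
      ∀ h : (ZMod p)[X], φ (AdjoinRoot.mk Φ h) = aeval T h :=
    ⟨Ideal.Quotient.lift _ _ hH, fun h => rfl⟩
  letI : Module (AdjoinRoot Φ) V := Module.compHom V φ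
  have hsmul : ∀ (c : AdjoinRoot Φ) (v : V), c • v = φ c v := fun c v => rfl
  obtain ⟨ζ, hζdef⟩ : ∃ ζ : AdjoinRoot Φ, ζ = AdjoinRoot.root Φ := ⟨_, rfl⟩
  have hφζ : φ ζ = T := by
    rw [hζdef, ← AdjoinRoot.mk_X, hφ, aeval_X]
  have hζpow : ∀ (m : ℕ) (u : V), ζ ^ m • u = (T ^ m) u := by
    intro m u
    rw [hsmul, map_pow, hφζ]
  have hζ1 : ∀ u : V, ζ • u = T u := fun u => by rw [hsmul, hφζ]
  constructor
  · intro v w hv hw
    obtain ⟨g, hg⟩ := Submodule.exists_linearEquiv_restrict_eq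
      ((LinearEquiv.toSpanNonzeroSingleton (AdjoinRoot Φ) V v hv).symm ≪≫ₗ
        LinearEquiv.toSpanNonzeroSingleton (AdjoinRoot Φ) V w hw)
    have hgv : g v = w := by
      have h5 := hg ⟨v, Submodule.mem_span_singleton_self v⟩
      rw [LinearEquiv.trans_apply] at h5
      have h6 : (LinearEquiv.toSpanNonzeroSingleton (AdjoinRoot Φ) V v hv).symm
          ⟨v, Submodule.mem_span_singleton_self v⟩ = 1 := by
        rw [LinearEquiv.symm_apply_eq, LinearEquiv.toSpanNonzeroSingleton_one]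
      rw [h6, LinearEquiv.toSpanNonzeroSingleton_one] at h5
      exact h5.symm
    refine ⟨g.toAddEquiv, hgv, fun u => ?_⟩
    show g (T u) = T (g u)
    rw [← hζ1, ← hζ1]
    exact map_smul g ζ u
  · intro k hk1 hkq
    haveI : CharP (AdjoinRoot Φ) p :=
      charP_of_injective_algebraMap (algebraMap (ZMod p) (AdjoinRoot Φ)).injective p
    haveI : ExpChar (AdjoinRoot Φ) p := ExpChar.prime hp.out
    obtain ⟨j, hj⟩ := exists_pow_mod_eq hpq hord k hk1 hkq
    obtain ⟨b, -⟩ : ∃ b : Module.Basis (Module.Basis.ofVectorSpaceIndex (AdjoinRoot Φ) V)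
        (AdjoinRoot Φ) V, True := ⟨Module.Basis.ofVectorSpace _ _, trivial⟩
    obtain ⟨F, hF⟩ : ∃ F : AdjoinRoot Φ →+* AdjoinRoot Φ, ∀ c, F c = c ^ p ^ j :=
      ⟨iterateFrobenius (AdjoinRoot Φ) p j, fun c => rfl⟩
    have hFinj : Function.Injective F := by
      intro c d hcd
      rw [hF, hF] at hcd
      exact iterateFrobenius_inj (AdjoinRoot Φ) p j hcd
    obtain ⟨Fr, hFr⟩ : ∃ Fr : V →+ V, ∀ v, Fr v =
        b.repr.symm (Finsupp.mapRange F (map_zero F) (b.repr v)) :=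
      ⟨(b.repr.symm.toLinearMap.toAddMonoidHom).comp
        ((Finsupp.mapRange.addMonoidHom F.toAddMonoidHom).comp
          b.repr.toLinearMap.toAddMonoidHom), fun v => rfl⟩
    have hsemi : ∀ (c : AdjoinRoot Φ) (v : V), Fr (c • v) = c ^ p ^ j • Fr v := by
      intro c v
      rw [hFr, hFr]
      have e1 : b.repr (c • v) = c • b.repr v := map_smul _ _ _
      have e2 : Finsupp.mapRange F (map_zero F) (c • b.repr v) =
          (c ^ p ^ j) • Finsupp.mapRange F (map_zero F) (b.repr v) := by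
        ext i
        simp [hF, mul_pow]
      rw [e1, e2, map_smul]
    have hinj : Function.Injective Fr := by
      intro v v' h
      rw [hFr, hFr] at h
      have h5 := b.repr.symm.injective h
      have h6 := Finsupp.mapRange_injective F (map_zero F) hFinj h5
      exact b.repr.injective h6
    have hbij : Function.Bijective Fr := ⟨hinj, Finite.surjective_of_injective hinj⟩
    refine ⟨AddEquiv.ofBijective Fr hbij, fun u => ?_⟩
    show Fr (T u) = (T ^ k) (Fr u)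
    rw [← hζ1, hsemi, hζpow]
    have h7 : T ^ p ^ j = T ^ k := by
      rw [pow_eq_pow_mod (p ^ j) hTq, pow_eq_pow_mod k hTq, hj]
    rw [h7]

end Cfsg.Agent.Helper4.ThreeOrb
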