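import Mathlib
import Cfsg.Agent.Helper4.ThreeOrbNT
import Cfsg.Agent.Helper4.ThreeOrbLA

set_option autoImplicit false

/-!
Multiplicative versions (for a finite abelian group `D` of prime exponent and an automorphism `τ`)
of the two linear-algebra results `orderOf_eq_of_transitive` and `exists_intertwiners`.
-/

namespace Cfsg.Agent.Helper4.ThreeOrb

variable {D : Type*} [CommGroup D] [Finite D] {p q : ℕ} [hp : Fact p.Prime] [hq : Fact q.Prime]

theorem exists_intertwiners_mul (hpq : p ≠ q) (hexp : ∀ d : D, d ^ p = 1) (τ : MulAut D)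
    (hτq : τ ^ q = 1) (hfpf : ∀ d, τ d = d → d = 1)
    (hord : orderOf ((p : ℕ) : ZMod q) = q - 1) :
    (∀ d e : D, d ≠ 1 → e ≠ 1 → ∃ β : MulAut D, β d = e ∧ ∀ u, β (τ u) = τ (β u)) ∧
    (∀ k : ℕ, 1 ≤ k → k < q → ∃ β : MulAut D, ∀ u, β (τ u) = (τ ^ k) (β u)) := by
  have hexp' : ∀ v : Additive D, p • v = 0 := fun v => by
    rw [← ofMul_toMul v, ← ofMul_pow, hexp]; rfl
  letI : Module (ZMod p) (Additive D) := AddCommGroup.zmodModule (n := p) hexp'
  obtain ⟨T, hT⟩ : ∃ T : Module.End (ZMod p) (Additive D),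
      ∀ u : D, T (Additive.ofMul u) = Additive.ofMul (τ u) :=
    ⟨(MulEquiv.toAdditive τ : Additive D ≃+ Additive D).toAddMonoidHom.toZModLinearMap p,
      fun u => rfl⟩
  have hTpow : ∀ (m : ℕ) (u : D), (T ^ m) (Additive.ofMul u) = Additive.ofMul ((τ ^ m) u) := by
    intro m
    induction m with
    | zero => intro u; rw [pow_zero, pow_zero]; rfl
    | succ m ih =>
      intro u
      rw [pow_succ, Module.End.mul_apply, hT, ih, pow_succ, MulAut.mul_apply]
  have hTq : T ^ q = 1 := by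
    apply LinearMap.ext
    intro v
    rw [← ofMul_toMul v, hTpow, hτq]
    rfl
  have hfpf' : ∀ v, T v = v → v = 0 := by
    intro v hv
    rw [← ofMul_toMul v, hT] at hv
    have h1 := hfpf _ (Additive.ofMul.injective hv)
    rw [← ofMul_toMul v, h1]
    rfl
  have hTw : ∀ (m : ℕ) (w : Additive D), (T ^ m) w = Additive.ofMul ((τ ^ m) (Additive.toMul w)) := by
    intro m w
    rw [← hTpow, ofMul_toMul]
  obtain ⟨h1, h2⟩ := exists_intertwiners hpq T hTq hfpf' hord
  constructor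
  · intro d e hd he
    have hd' : Additive.ofMul d ≠ 0 := fun h => hd (Additive.ofMul.injective h)
    have he' : Additive.ofMul e ≠ 0 := fun h => he (Additive.ofMul.injective h)
    obtain ⟨B, hB1, hB2⟩ := h1 _ _ hd' he'
    refine ⟨MulEquiv.toAdditive.symm B, ?_, ?_⟩
    · show Additive.toMul (B (Additive.ofMul d)) = e
      rw [hB1]; rfl
    · intro u
      show Additive.toMul (B (Additive.ofMul (τ u))) = τ (Additive.toMul (B (Additive.ofMul u)))
      rw [← hT, hB2]
      have h5 := hTw 1 (B (Additive.ofMul u))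
      rw [pow_one, pow_one] at h5
      rw [h5]; rfl
  · intro k hk1 hkq
    obtain ⟨B, hB2⟩ := h2 k hk1 hkq
    refine ⟨MulEquiv.toAdditive.symm B, ?_⟩
    intro u
    show Additive.toMul (B (Additive.ofMul (τ u))) =
      (τ ^ k) (Additive.toMul (B (Additive.ofMul u)))
    rw [← hT, hB2, hTw]; rfl

theorem orderOf_eq_of_transitive_mul [Nontrivial D] (hpq : p ≠ q) (hexp : ∀ d : D, d ^ p = 1)
    (τ : MulAut D) (hτq : τ ^ q = 1) (hfpf : ∀ d, τ d = d → d = 1)
    (h1 : ∀ d e : D, d ≠ 1 → e ≠ 1 → ∃ (β : MulAut D) (k : ℕ), β d = e ∧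
      ∀ u, β (τ u) = (τ ^ k) (β u))
    (h2 : ∀ k : ℕ, 1 ≤ k → k < q → ∃ β : MulAut D, ∀ u, β (τ u) = (τ ^ k) (β u)) :
    orderOf ((p : ℕ) : ZMod q) = q - 1 := by
  have hexp' : ∀ v : Additive D, p • v = 0 := fun v => by
    rw [← ofMul_toMul v, ← ofMul_pow, hexp]; rfl
  letI : Module (ZMod p) (Additive D) := AddCommGroup.zmodModule (n := p) hexp'
  obtain ⟨T, hT⟩ : ∃ T : Module.End (ZMod p) (Additive D),
      ∀ u : D, T (Additive.ofMul u) = Additive.ofMul (τ u) :=
    ⟨(MulEquiv.toAdditive τ : Additive D ≃+ Additive D).toAddMonoidHom.toZModLinearMap p,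
      fun u => rfl⟩
  have hTpow : ∀ (m : ℕ) (u : D), (T ^ m) (Additive.ofMul u) = Additive.ofMul ((τ ^ m) u) := by
    intro m
    induction m with
    | zero => intro u; rw [pow_zero, pow_zero]; rfl
    | succ m ih =>
      intro u
      rw [pow_succ, Module.End.mul_apply, hT, ih, pow_succ, MulAut.mul_apply]
  have hTq : T ^ q = 1 := by
    apply LinearMap.ext
    intro v
    rw [← ofMul_toMul v, hTpow, hτq]
    rfl
  have hfpf' : ∀ v, T v = v → v = 0 := by
    intro v hv
    rw [← ofMul_toMul v, hT] at hv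
    have h1 := hfpf _ (Additive.ofMul.injective hv)
    rw [← ofMul_toMul v, h1]
    rfl
  have hTw : ∀ (m : ℕ) (w : Additive D), (T ^ m) w = Additive.ofMul ((τ ^ m) (Additive.toMul w)) := by
    intro m w
    rw [← hTpow, ofMul_toMul]
  apply orderOf_eq_of_transitive hpq T hTq hfpf'
  · intro v w hv hw
    have hd : Additive.toMul v ≠ 1 := fun h => hv (by rw [← ofMul_toMul v, h]; rfl)
    have he : Additive.toMul w ≠ 1 := fun h => hw (by rw [← ofMul_toMul w, h]; rfl)
    obtain ⟨β, k, hβ1, hβ2⟩ := h1 _ _ hd he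
    refine ⟨(MulEquiv.toAdditive β : Additive D ≃+ Additive D).toAddMonoidHom, k,
      (MulEquiv.toAdditive β : Additive D ≃+ Additive D).injective, ?_, ?_⟩
    · show Additive.ofMul (β (Additive.toMul v)) = w
      rw [hβ1, ofMul_toMul]
    · intro u
      show Additive.ofMul (β (Additive.toMul (T u))) = (T ^ k) (Additive.ofMul (β (Additive.toMul u)))
      rw [hTpow, ← hβ2]
      have h5 := hTw 1 u
      rw [pow_one, pow_one] at h5
      rw [h5]; rfl
  · intro k hk1 hkq
    obtain ⟨β, hβ2⟩ := h2 k hk1 hkq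
    refine ⟨(MulEquiv.toAdditive β : Additive D ≃+ Additive D).toAddMonoidHom,
      (MulEquiv.toAdditive β : Additive D ≃+ Additive D).injective, ?_⟩
    intro u
    show Additive.ofMul (β (Additive.toMul (T u))) = (T ^ k) (Additive.ofMul (β (Additive.toMul u)))
    rw [hTpow, ← hβ2]
    have h5 := hTw 1 u
    rw [pow_one, pow_one] at h5
    rw [h5]; rfl

section GroupVersions

variable {E : Type*} [Group E] [Finite E]

/-- `exists_intertwiners_mul` for a `Group` with a commutativity hypothesis -/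
theorem exists_intertwiners_mul' (hcomm : ∀ a b : E, a * b = b * a) (hpq : p ≠ q)
    (hexp : ∀ d : E, d ^ p = 1) (τ : MulAut E)
    (hτq : τ ^ q = 1) (hfpf : ∀ d, τ d = d → d = 1)
    (hord : orderOf ((p : ℕ) : ZMod q) = q - 1) :
    (∀ d e : E, d ≠ 1 → e ≠ 1 → ∃ β : MulAut E, β d = e ∧ ∀ u, β (τ u) = τ (β u)) ∧
    (∀ k : ℕ, 1 ≤ k → k < q → ∃ β : MulAut E, ∀ u, β (τ u) = (τ ^ k) (β u)) := by
  letI : CommGroup E := { (inferInstance : Group E) with mul_comm := hcomm }
  exact exists_intertwiners_mul hpq hexp τ hτq hfpf hord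

/-- `orderOf_eq_of_transitive_mul` for a `Group` with a commutativity hypothesis -/
theorem orderOf_eq_of_transitive_mul' [Nontrivial E] (hcomm : ∀ a b : E, a * b = b * a)
    (hpq : p ≠ q) (hexp : ∀ d : E, d ^ p = 1)
    (τ : MulAut E) (hτq : τ ^ q = 1) (hfpf : ∀ d, τ d = d → d = 1)
    (h1 : ∀ d e : E, d ≠ 1 → e ≠ 1 → ∃ (β : MulAut E) (k : ℕ), β d = e ∧
      ∀ u, β (τ u) = (τ ^ k) (β u))
    (h2 : ∀ k : ℕ, 1 ≤ k → k < q → ∃ β : MulAut E, ∀ u, β (τ u) = (τ ^ k) (β u)) :
    orderOf ((p : ℕ) : ZMod q) = q - 1 := by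
  letI : CommGroup E := { (inferInstance : Group E) with mul_comm := hcomm }
  exact orderOf_eq_of_transitive_mul hpq hexp τ hτq hfpf h1 h2

end GroupVersions

end Cfsg.Agent.Helper4.ThreeOrb
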