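import Mathlib
import Cfsg.Prelude.Def_Transfer
import Cfsg.Agent.Helper4.ThreeOrbBridge
import Cfsg.Agent.Helper4.ThreeOrbAut

set_option autoImplicit false

/-!
Converse direction of the "three automorphism orbits" theorem.
-/

namespace Cfsg.Agent.Helper4.ThreeOrb

theorem factorization_pow_mul_left {p q n : ℕ} (hp : p.Prime) (hq : q.Prime) (hpq : p ≠ q) :
    (p ^ n * q).factorization p = n := by
  rw [Nat.factorization_mul (pow_ne_zero n hp.ne_zero) hq.ne_zero, Nat.factorization_pow,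
    hp.factorization, hq.factorization]
  simp [hpq.symm]

theorem factorization_pow_mul_right {p q n : ℕ} (hp : p.Prime) (hq : q.Prime) (hpq : p ≠ q) :
    (p ^ n * q).factorization q = 1 := by
  rw [Nat.factorization_mul (pow_ne_zero n hp.ne_zero) hq.ne_zero, Nat.factorization_pow,
    hp.factorization, hq.factorization]
  simp [hpq]

/-- classification function into three classes. -/
noncomputable def cls3 {G : Type*} [Group G] (p : ℕ) (g : G) : Fin 3 := by
  classical
  exact if g = 1 then 0 else if g ^ p = 1 then 1 else 2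

theorem cls3_eq_zero {G : Type*} [Group G] (p : ℕ) (g : G) : cls3 p g = 0 ↔ g = 1 := by
  unfold cls3
  by_cases h1 : g = 1
  · simp [h1]
  · by_cases h2 : g ^ p = 1
    · simp [h1, h2]
    · simp [h1, h2]

theorem cls3_eq_one {G : Type*} [Group G] (p : ℕ) (g : G) :
    cls3 p g = 1 ↔ g ≠ 1 ∧ g ^ p = 1 := by
  unfold cls3
  by_cases h1 : g = 1
  · simp [h1]
  · by_cases h2 : g ^ p = 1
    · simp [h1, h2]
    · simp [h1, h2]

theorem cls3_eq_two {G : Type*} [Group G] (p : ℕ) (g : G) :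
    cls3 p g = 2 ↔ g ^ p ≠ 1 := by
  unfold cls3
  by_cases h1 : g = 1
  · simp [h1]
  · by_cases h2 : g ^ p = 1
    · simp [h1, h2]
    · simp [h1, h2]

theorem cls3_map {G : Type*} [Group G] (p : ℕ) (Ψ : MulAut G) (g : G) :
    cls3 p (Ψ g) = cls3 p g := by
  have hinv1 : ∀ (b : G), Ψ b = 1 ↔ b = 1 := fun b => by
    constructor
    · intro h; exact Ψ.injective (h.trans (map_one Ψ).symm)
    · intro h; rw [h, map_one]
  have hinvp : ∀ (b : G), (Ψ b) ^ p = 1 ↔ b ^ p = 1 := fun b => by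
    rw [← map_pow]; exact hinv1 (b ^ p)
  by_cases h1 : g = 1
  · rw [(cls3_eq_zero p g).2 h1, (cls3_eq_zero p _).2 ((hinv1 g).2 h1)]
  · by_cases h2 : g ^ p = 1
    · rw [(cls3_eq_one p g).2 ⟨h1, h2⟩,
        (cls3_eq_one p _).2 ⟨fun h => h1 ((hinv1 g).1 h), (hinvp g).2 h2⟩]
    · rw [(cls3_eq_two p g).2 h2, (cls3_eq_two p _).2 (fun h => h2 ((hinvp g).1 h))]

theorem card_orbits_eq_three {G : Type*} [Group G] [Finite G] (p q n : ℕ) [hp : Fact p.Prime]
    [hq : Fact q.Prime] (hpq : p ≠ q) (hn : 1 ≤ n) (hcard : Nat.card G = p ^ n * q)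
    (hSyl : ∀ P : Sylow p G, (P : Subgroup G).Normal ∧
      Cfsg.IsElementaryAbelian p (P : Subgroup G))
    (hord : orderOf ((p : ℕ) : ZMod q) = q - 1)
    (hfpf : ∀ x y : G, orderOf x = q → orderOf y = p → x * y * x⁻¹ ≠ y) :
    Nat.card (MulAction.orbitRel.Quotient (MulAut G) G) = 3 := by
  classical
  have hp2 := hp.out.two_le
  have hq2 := hq.out.two_le
  have hqp' : ¬ q ∣ p := fun h => hpq ((Nat.prime_dvd_prime_iff_eq hq.out hp.out).1 h).symm
  obtain ⟨P₀⟩ : Nonempty (Sylow p G) := inferInstance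
  obtain ⟨P, hPdef⟩ : ∃ P : Subgroup G, P = (P₀ : Subgroup G) := ⟨_, rfl⟩
  have hPn : P.Normal := by rw [hPdef]; exact (hSyl P₀).1
  have hPea : Cfsg.IsElementaryAbelian p P := by rw [hPdef]; exact (hSyl P₀).2
  have hPexp : ∀ a ∈ P, a ^ p = 1 := hPea.2
  have hcommP : ∀ a b : ↥P, a * b = b * a := fun a b => hPea.1.is_comm.comm a b
  have hPcard : Nat.card P = p ^ n := by
    rw [hPdef, Sylow.card_eq_multiplicity, hcard, factorization_pow_mul_left hp.out hq.out hpq]
  have hidx : P.index = q := by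
    have h1 := P.card_mul_index
    rw [hPcard, hcard] at h1
    exact Nat.eq_of_mul_eq_mul_left (pow_pos hp.out.pos n) h1
  have hSq : ∀ Q : Sylow q G, Nat.card (Q : Subgroup G) = q := by
    intro Q
    rw [Sylow.card_eq_multiplicity, hcard, factorization_pow_mul_right hp.out hq.out hpq,
      pow_one]
  have hmemP : ∀ g : G, g ^ p = 1 → g ∈ P := by
    intro g hg
    have hpg : IsPGroup p (Subgroup.zpowers g) := by
      intro t
      refine ⟨1, ?_⟩
      obtain ⟨i, hi⟩ := Subgroup.mem_zpowers_iff.1 t.2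
      have h5 : (t : G) ^ p = 1 := by
        rw [← hi, ← zpow_natCast, ← zpow_mul, mul_comm, zpow_mul, zpow_natCast, hg, one_zpow]
      apply Subtype.ext
      simpa using h5
    obtain ⟨Q, hQ⟩ := hpg.exists_le_sylow
    obtain ⟨c, hc⟩ := MulAction.exists_smul_eq G Q P₀
    have hQn := (hSyl Q).1
    rw [Sylow.smul_eq_of_normal] at hc
    rw [hPdef, ← hc]
    exact hQ (Subgroup.mem_zpowers g)
  obtain ⟨x, hx⟩ := exists_prime_orderOf_dvd_card' (G := G) q
    (by rw [hcard]; exact dvd_mul_left q _)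
  have hxP : x ∉ P := by
    intro h
    have h5 := orderOf_dvd_of_pow_eq_one (hPexp x h)
    rw [hx] at h5
    exact hqp' h5
  have hout : ∀ g : G, g ∉ P → orderOf g = q := by
    intro g hg
    have hgq : g ^ q ∈ P := by rw [← hidx]; exact P.pow_index_mem g
    have hw : (g ^ q) ^ p = 1 := hPexp _ hgq
    have hu : (g ^ p) ^ q = 1 := by rw [← pow_mul, mul_comm, pow_mul]; exact hw
    have hu1 : g ^ p ≠ 1 := fun h => hg (hmemP g h)
    have huo : orderOf (g ^ p) = q := orderOf_eq_prime hu hu1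
    by_cases hw1 : g ^ q = 1
    · have hg1 : g ≠ 1 := fun h => hg (h ▸ P.one_mem)
      exact orderOf_eq_prime hw1 hg1
    · exfalso
      have hwo : orderOf (g ^ q) = p := orderOf_eq_prime hw hw1
      apply hfpf (g ^ p) (g ^ q) huo hwo
      rw [← pow_add, add_comm, pow_add, mul_inv_cancel_right]
  have hcz : Nat.card ↥(Subgroup.zpowers x) = q := by rw [Nat.card_zpowers, hx]
  have hc : P.IsComplement' (Subgroup.zpowers x) := by
    apply Subgroup.isComplement'_of_coprime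
    · rw [hPcard, hcz, hcard]
    · rw [hPcard, hcz]
      exact Nat.Coprime.pow_left n ((Nat.coprime_primes hp.out hq.out).2 hpq)
  have hexpP : ∀ d : ↥P, d ^ p = 1 := fun d =>
    Subtype.ext (by rw [Subgroup.coe_pow]; exact hPexp d d.2)
  have hτq : (MulAut.conjNormal x : MulAut ↥P) ^ q = 1 := by
    rw [← map_pow, ← hx, pow_orderOf_eq_one, map_one]
  have hτf : ∀ d : ↥P, (MulAut.conjNormal x : MulAut ↥P) d = d → d = 1 := by
    intro d hd
    by_contra hd1
    have hdo : orderOf (d : G) = p :=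
      orderOf_eq_prime (hPexp d d.2) (fun h => hd1 (Subtype.ext h))
    apply hfpf x d hx hdo
    have h5 := congrArg Subtype.val hd
    rwa [MulAut.conjNormal_apply] at h5
  obtain ⟨h1, h2⟩ :=
    exists_intertwiners_mul' hcommP hpq hexpP (MulAut.conjNormal x) hτq hτf hord
  have hC1 : ∀ y y' : G, y ∈ P → y' ∈ P → y ≠ 1 → y' ≠ 1 → ∃ Ψ : MulAut G, Ψ y = y' := by
    intro y y' hy hy' hy1 hy'1
    obtain ⟨β, hβ1, hβ2⟩ := h1 ⟨y, hy⟩ ⟨y', hy'⟩ (fun h => hy1 (congrArg Subtype.val h))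
      (fun h => hy'1 (congrArg Subtype.val h))
    obtain ⟨Ψ, hΨ1, -⟩ := exists_aut_of_data P x q hx hc β 1
      (by intro h; have := Nat.le_of_dvd one_pos h; omega)
      (by
        intro u
        rw [hβ2, MulAut.conjNormal_apply, pow_one])
    refine ⟨Ψ, ?_⟩
    have h5 := hΨ1 ⟨y, hy⟩
    rw [hβ1] at h5
    exact h5
  have hC2 : ∀ g : G, g ∉ P → ∃ Ψ : MulAut G, Ψ x = g := by
    intro g hg
    obtain ⟨c, k, hk1, hkq, hgc⟩ := exists_conj_pow_of_orderOf q hSq x g hx (hout g hg)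
    obtain ⟨β, hβ2⟩ := h2 k hk1 hkq
    obtain ⟨Ψ, -, hΨ2⟩ := exists_aut_of_data P x q hx hc β k
      (by intro h; have := Nat.le_of_dvd (by omega) h; omega)
      (by
        intro u
        rw [hβ2, ← map_pow, MulAut.conjNormal_apply])
    refine ⟨MulAut.conj c * Ψ, ?_⟩
    rw [MulAut.mul_apply, hΨ2, MulAut.conj_apply, hgc]
  obtain ⟨f, hf⟩ : ∃ f : G → Fin 3, f = cls3 p := ⟨_, rfl⟩
  have hf0 : ∀ g, f g = 0 ↔ g = 1 := fun g => by rw [hf]; exact cls3_eq_zero p g
  have hf1 : ∀ g, f g = 1 ↔ g ≠ 1 ∧ g ^ p = 1 := fun g => by rw [hf]; exact cls3_eq_one p g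
  have hf2 : ∀ g, f g = 2 ↔ g ^ p ≠ 1 := fun g => by rw [hf]; exact cls3_eq_two p g
  have hrel : ∀ a b : G, (MulAction.orbitRel (MulAut G) G) a b ↔ f a = f b := by
    intro a b
    rw [MulAction.orbitRel_apply, MulAction.mem_orbit_iff]
    constructor
    · rintro ⟨Ψ, rfl⟩
      rw [hf, MulAut.smul_def, cls3_map]
    · intro hab
      by_cases ha1 : a = 1
      · have hb1 : b = 1 := by
          rw [← hf0, ← hab, hf0]; exact ha1
        exact ⟨1, by rw [ha1, hb1]; rfl⟩
      · by_cases hap : a ^ p = 1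
        · have hb := (hf1 b).1 (by rw [← hab, hf1]; exact ⟨ha1, hap⟩)
          obtain ⟨Ψ, hΨ⟩ := hC1 b a (hmemP b hb.2) (hmemP a hap) hb.1 ha1
          exact ⟨Ψ, by rw [MulAut.smul_def, hΨ]⟩
        · have hb := (hf2 b).1 (by rw [← hab, hf2]; exact hap)
          obtain ⟨Ψa, hΨa⟩ := hC2 a (fun h => hap (hPexp a h))
          obtain ⟨Ψb, hΨb⟩ := hC2 b (fun h => hb (hPexp b h))
          refine ⟨Ψa * Ψb⁻¹, ?_⟩
          rw [MulAut.smul_def, MulAut.mul_apply, ← hΨb, MulAut.inv_apply_self, hΨa]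
  have hwd : ∀ a b : G, (MulAction.orbitRel (MulAut G) G) a b → f a = f b :=
    fun a b h => (hrel a b).1 h
  obtain ⟨F, hF⟩ : ∃ F : MulAction.orbitRel.Quotient (MulAut G) G → Fin 3,
      ∀ g, F (Quotient.mk (MulAction.orbitRel (MulAut G) G) g) = f g :=
    ⟨Quotient.lift f hwd, fun g => rfl⟩
  have hFinj : Function.Injective F := by
    intro u v huv
    obtain ⟨a, rfl⟩ := Quotient.exists_rep u
    obtain ⟨b, rfl⟩ := Quotient.exists_rep v
    rw [hF, hF] at huv
    exact Quotient.sound ((hrel a b).2 huv)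
  have hPne : P ≠ ⊥ := by
    intro h
    rw [h, Subgroup.card_bot] at hPcard
    have := Nat.one_lt_pow (by omega : n ≠ 0) hp.out.one_lt
    omega
  obtain ⟨y₀, hy₀⟩ := (Subgroup.ne_bot_iff_exists_ne_one).1 hPne
  have hFsurj : Function.Surjective F := by
    intro i
    fin_cases i
    · exact ⟨Quotient.mk _ 1, by rw [hF]; exact (hf0 1).2 rfl⟩
    · exact ⟨Quotient.mk _ (y₀ : G), by
        rw [hF]
        exact (hf1 _).2 ⟨fun h => hy₀ (Subtype.ext h), hPexp _ y₀.2⟩⟩
    · exact ⟨Quotient.mk _ x, by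
        rw [hF]
        exact (hf2 _).2 (fun h => hxP (hmemP x h))⟩
  rw [Nat.card_congr (Equiv.ofBijective F ⟨hFinj, hFsurj⟩), Nat.card_eq_fintype_card,
    Fintype.card_fin]

end Cfsg.Agent.Helper4.ThreeOrb
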