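import Mathlib
import Cfsg.Prelude.Def_Transfer
import Cfsg.Agent.Helper4.ThreeOrbBridge
import Cfsg.Agent.Helper4.ThreeOrbAut
import Cfsg.Agent.Helper4.ThreeOrbBwd
import Cfsg.Agent.Helper4.ItoTwoAvg
import Cfsg.Agent.Helper6.BurnsidePQ

set_option autoImplicit false

/-!
Forward direction of the "three automorphism orbits" theorem: a finite group of non-prime-power
order with exactly three `Aut`-orbits is `P ⋊ C_q` with the stated properties.
-/

namespace Cfsg.Agent.Helper4.ThreeOrb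

theorem orbit_trichotomy {G : Type*} [Group G] [Finite G]
    (h3 : Nat.card (MulAction.orbitRel.Quotient (MulAut G) G) = 3) (a b : G)
    (ha : a ≠ 1) (hb : b ≠ 1) (hab : orderOf a ≠ orderOf b) (g : G) :
    g = 1 ∨ (∃ Ψ : MulAut G, Ψ a = g) ∨ (∃ Ψ : MulAut G, Ψ b = g) := by
  classical
  by_contra hcon
  rw [not_or, not_or] at hcon
  obtain ⟨hg1, hga, hgb⟩ := hcon
  have hfin : Finite (MulAction.orbitRel.Quotient (MulAut G) G) :=
    Nat.finite_of_card_ne_zero (by rw [h3]; norm_num)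
  letI : Fintype (MulAction.orbitRel.Quotient (MulAut G) G) := Fintype.ofFinite _
  obtain ⟨cls, hcls⟩ : ∃ cls : G → MulAction.orbitRel.Quotient (MulAut G) G,
      ∀ u v : G, cls u = cls v → ∃ Ψ : MulAut G, Ψ v = u := by
    refine ⟨fun t => Quotient.mk (MulAction.orbitRel (MulAut G) G) t, ?_⟩
    intro u v h
    have h1 : (MulAction.orbitRel (MulAut G) G) u v := Quotient.exact h
    rw [MulAction.orbitRel_apply, MulAction.mem_orbit_iff] at h1
    obtain ⟨Ψ, hΨ⟩ := h1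
    exact ⟨Ψ, hΨ⟩
  have hone : ∀ (Ψ : MulAut G) (t : G), Ψ t = 1 → t = 1 := fun Ψ t h =>
    Ψ.injective (h.trans (map_one Ψ).symm)
  have h1a : cls 1 ≠ cls a := fun h => by
    obtain ⟨Ψ, hΨ⟩ := hcls _ _ h
    exact ha (hone Ψ a hΨ)
  have h1b : cls 1 ≠ cls b := fun h => by
    obtain ⟨Ψ, hΨ⟩ := hcls _ _ h
    exact hb (hone Ψ b hΨ)
  have hab' : cls a ≠ cls b := fun h => by
    obtain ⟨Ψ, hΨ⟩ := hcls _ _ h
    apply hab
    rw [← hΨ, MulEquiv.orderOf_eq]
  have hg1' : cls g ≠ cls 1 := fun h => by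
    obtain ⟨Ψ, hΨ⟩ := hcls _ _ h
    rw [map_one] at hΨ
    exact hg1 hΨ.symm
  have hga' : cls g ≠ cls a := fun h => hga (hcls _ _ h)
  have hgb' : cls g ≠ cls b := fun h => hgb (hcls _ _ h)
  have hcard : ({cls g, cls 1, cls a, cls b} : Finset _).card = 4 := by
    rw [Finset.card_insert_of_notMem, Finset.card_insert_of_notMem,
      Finset.card_insert_of_notMem, Finset.card_singleton]
    all_goals simp [hab', h1a, h1b, hg1', hga', hgb']
  have h5 := Finset.card_le_univ ({cls g, cls 1, cls a, cls b} : Finset _)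
  rw [hcard, ← Nat.card_eq_fintype_card, h3] at h5
  omega

theorem pow_mul_pow_ne_one {G : Type*} [Group G] (s : ℕ) [hs : Fact s.Prime] (z x : G)
    (hz : orderOf z = s) (hx : orderOf x = s) (hxz : x ∉ Subgroup.zpowers z) (i j : ℕ)
    (hij : ¬ s ∣ i ∨ ¬ s ∣ j) : z ^ i * x ^ j ≠ 1 := by
  intro h
  by_cases hj : s ∣ j
  · have hi : ¬ s ∣ i := by tauto
    have hxj : x ^ j = 1 := by rw [← hx] at hj; exact orderOf_dvd_iff_pow_eq_one.1 hj
    rw [hxj, mul_one] at h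
    apply hi
    rw [← hz]
    exact orderOf_dvd_of_pow_eq_one h
  · apply hxz
    have hcop : Nat.Coprime j s := ((Nat.Prime.coprime_iff_not_dvd hs.out).2 hj).symm
    obtain ⟨m, -, hm⟩ := Nat.exists_mul_mod_eq_one_of_coprime hcop hs.out.one_lt
    have hx1 : x = (x ^ j) ^ m := by
      rw [← pow_mul, ← pow_mod_orderOf, hx, hm, pow_one]
    have hxj : x ^ j = (z ^ i)⁻¹ := eq_inv_of_mul_eq_one_right h
    rw [hx1, hxj]
    exact Subgroup.pow_mem _
      (Subgroup.inv_mem _ (Subgroup.pow_mem _ (Subgroup.mem_zpowers z) i)) m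

theorem factorization_pow_mul_pow_right {r s a b : ℕ} (hr : r.Prime) (hs : s.Prime)
    (hrs : r ≠ s) : (r ^ a * s ^ b).factorization s = b := by
  rw [Nat.factorization_mul (pow_ne_zero a hr.ne_zero) (pow_ne_zero b hs.ne_zero),
    Nat.factorization_pow, Nat.factorization_pow, hr.factorization, hs.factorization]
  simp [hrs]

/-- restriction of an automorphism to a characteristic subgroup -/
theorem exists_restrict {G : Type*} [Group G] (D : Subgroup G) [hD : D.Characteristic]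
    (Ψ : MulAut G) : ∃ β : MulAut ↥D, ∀ u : ↥D, (β u : G) = Ψ u := by
  have hmap : D.map Ψ.toMonoidHom = D := Subgroup.characteristic_iff_map_eq.1 hD Ψ
  exact ⟨(Ψ.subgroupMap D).trans (MulEquiv.subgroupCongr hmap), fun u => rfl⟩

theorem sylow_card_eq_prime {G : Type*} [Group G] [Finite G] (r s : ℕ) [hr : Fact r.Prime]
    [hs : Fact s.Prime] (hrs : r ≠ s)
    (hT1 : ∀ g : G, g = 1 ∨ orderOf g = r ∨ orderOf g = s)
    (hfpf : ∀ x y : G, orderOf x = s → orderOf y = r → x * y * x⁻¹ ≠ y)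
    (D : Subgroup G) [hDn : D.Normal] (hDab : ∀ u v : G, u ∈ D → v ∈ D → u * v = v * u)
    (hDpow : ∀ g : G, g ∈ D → g ^ r = 1)
    (d : G) (hdD : d ∈ D) (hdo : orderOf d = r)
    (hsG : s ∣ Nat.card G) (Q : Sylow s G) : Nat.card (Q : Subgroup G) = s := by
  classical
  have hsr : ¬ r ∣ s := fun h => hrs ((Nat.prime_dvd_prime_iff_eq hr.out hs.out).1 h)
  have hQord : ∀ g : G, g ∈ (Q : Subgroup G) → g ≠ 1 → orderOf g = s := by
    intro g hg hg1
    rcases hT1 g with h | h | h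
    · exact absurd h hg1
    · exfalso
      obtain ⟨k, hk⟩ := (IsPGroup.iff_orderOf.1 Q.isPGroup') ⟨g, hg⟩
      rw [Subgroup.orderOf_mk, h] at hk
      have h5 : s ∣ r := by
        rcases k with _ | k
        · rw [pow_zero] at hk; exact absurd hk hr.out.one_lt.ne'
        · rw [hk, pow_succ]; exact dvd_mul_left s _
      exact hrs ((Nat.prime_dvd_prime_iff_eq hs.out hr.out).1 h5).symm
    · exact h
  have hQnt : Nontrivial ↥(Q : Subgroup G) := by
    rw [← Finite.one_lt_card_iff_nontrivial]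
    have h1 := Q.dvd_card_of_dvd_card hsG
    have h2 : 0 < Nat.card ↥(Q : Subgroup G) := Nat.card_pos
    have h3 := Nat.le_of_dvd h2 h1
    have h4 := hs.out.two_le
    omega
  have hZnt := IsPGroup.center_nontrivial (p := s) Q.isPGroup'
  obtain ⟨z', hz'⟩ := exists_ne (1 : ↥(Subgroup.center ↥(Q : Subgroup G)))
  obtain ⟨z, hzdef⟩ : ∃ z : G, z = ((z' : ↥(Q : Subgroup G)) : G) := ⟨_, rfl⟩
  have hzQ : z ∈ (Q : Subgroup G) := by rw [hzdef]; exact (z' : ↥(Q : Subgroup G)).2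
  have hz1 : z ≠ 1 := by
    intro h
    apply hz'
    apply Subtype.ext
    apply Subtype.ext
    rw [← hzdef, h]; rfl
  have hzo : orderOf z = s := hQord z hzQ hz1
  have hzc : ∀ g ∈ (Q : Subgroup G), z * g = g * z := by
    intro g hg
    have h1 := (Subgroup.mem_center_iff.1 z'.2) ⟨g, hg⟩
    have h2 := congrArg Subtype.val h1
    rw [hzdef]
    exact h2.symm
  by_contra hne
  have hnle : ¬ (Q : Subgroup G) ≤ Subgroup.zpowers z := by
    intro hle
    apply hne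
    have h1 : Subgroup.zpowers z ≤ (Q : Subgroup G) := by
      rw [Subgroup.zpowers_le]; exact hzQ
    rw [← le_antisymm h1 hle, Nat.card_zpowers, hzo]
  obtain ⟨x, hxQ, hxz⟩ := SetLike.not_le_iff_exists.1 hnle
  have hx1 : x ≠ 1 := fun h => hxz (h ▸ Subgroup.one_mem _)
  have hxo : orderOf x = s := hQord x hxQ hx1
  have hzx : z * x = x * z := hzc x hxQ
  have hcommD : ∀ a b : ↥D, a * b = b * a := fun a b => Subtype.ext (hDab a b a.2 b.2)
  have hα : (MulAut.conjNormal z : MulAut ↥D) ^ s = 1 := by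
    rw [← map_pow, ← hzo, pow_orderOf_eq_one, map_one]
  have hβ : (MulAut.conjNormal x : MulAut ↥D) ^ s = 1 := by
    rw [← map_pow, ← hxo, pow_orderOf_eq_one, map_one]
  have hαβ : (MulAut.conjNormal z : MulAut ↥D) * MulAut.conjNormal x =
      MulAut.conjNormal x * MulAut.conjNormal z := by
    rw [← map_mul, ← map_mul, hzx]
  have hfix : ∀ i j : ℕ, (¬ s ∣ i ∨ ¬ s ∣ j) → ∀ v : ↥D,
      ((MulAut.conjNormal z : MulAut ↥D) ^ i * (MulAut.conjNormal x : MulAut ↥D) ^ j) v = v →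
      v ∈ (⊥ : Subgroup ↥D) := by
    intro i j hij v hv
    rw [Subgroup.mem_bot]
    by_contra hv1
    have hvo : orderOf (v : G) = r :=
      orderOf_eq_prime (hDpow v v.2) (fun h => hv1 (Subtype.ext h))
    have hw1 := pow_mul_pow_ne_one s z x hzo hxo hxz i j hij
    have hwQ : z ^ i * x ^ j ∈ (Q : Subgroup G) :=
      Subgroup.mul_mem _ (Subgroup.pow_mem _ hzQ i) (Subgroup.pow_mem _ hxQ j)
    have hwo := hQord _ hwQ hw1
    apply hfpf _ _ hwo hvo
    rw [← map_pow, ← map_pow, ← map_mul] at hv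
    have h5 := congrArg Subtype.val hv
    rwa [MulAut.conjNormal_apply] at h5
  have key := ItoTwo.pow_mem_of_commuting_auts' hcommD (p := s) (⊥ : Subgroup ↥D)
    (MulAut.conjNormal z) (MulAut.conjNormal x) hαβ hα hβ
    (fun v hv => by rw [Subgroup.mem_bot] at hv; rw [hv, map_one])
    (fun v hv => by rw [Subgroup.mem_bot] at hv; rw [hv, map_one]) hfix
  have h5 := key ⟨d, hdD⟩
  rw [Subgroup.mem_bot] at h5
  have h6 : d ^ s = 1 := by
    have h7 := congrArg Subtype.val h5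
    simpa using h7
  have h7 := orderOf_dvd_of_pow_eq_one h6
  rw [hdo] at h7
  exact hsr h7

theorem fwd_core {G : Type*} [Group G] [Finite G] (r s : ℕ) [hr : Fact r.Prime]
    [hs : Fact s.Prime] (hrs : r ≠ s)
    (hT1 : ∀ g : G, g = 1 ∨ orderOf g = r ∨ orderOf g = s)
    (hTr : ∀ g g' : G, orderOf g = r → orderOf g' = r → ∃ Ψ : MulAut G, Ψ g = g')
    (hTs : ∀ g g' : G, orderOf g = s → orderOf g' = s → ∃ Ψ : MulAut G, Ψ g = g')
    (D : Subgroup G) [hDc : D.Characteristic]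
    (hDab : ∀ u v : G, u ∈ D → v ∈ D → u * v = v * u)
    (d : G) (hdD : d ∈ D) (hdo : orderOf d = r)
    (x₀ : G) (hx₀ : orderOf x₀ = s)
    (e₁ e₂ : ℕ) (hcard : Nat.card G = r ^ e₁ * s ^ e₂) :
    ∃ n : ℕ, 1 ≤ n ∧ Nat.card G = r ^ n * s ∧
      (∀ P : Sylow r G, (P : Subgroup G).Normal ∧
        Cfsg.IsElementaryAbelian r (P : Subgroup G)) ∧
      orderOf ((r : ℕ) : ZMod s) = s - 1 ∧
      ∀ x y : G, orderOf x = s → orderOf y = r → x * y * x⁻¹ ≠ y := by
  classical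
  have hr2 := hr.out.two_le
  have hs2 := hs.out.two_le
  have hrs' : ¬ r ∣ s := fun h => hrs ((Nat.prime_dvd_prime_iff_eq hr.out hs.out).1 h)
  have hcop : Nat.Coprime r s := (Nat.coprime_primes hr.out hs.out).2 hrs
  have hDn : D.Normal := Subgroup.normal_of_characteristic D
  have hno : ∀ u v : G, u * v = v * u → orderOf u = r → orderOf v = s → False := by
    intro u v huv hu hv
    have hc : Commute u v := huv
    have h5 := hc.orderOf_mul_eq_mul_orderOf_of_coprime (by rw [hu, hv]; exact hcop)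
    rw [hu, hv] at h5
    rcases hT1 (u * v) with h | h | h
    · rw [h, orderOf_one] at h5; nlinarith
    · rw [h] at h5; nlinarith
    · rw [h] at h5; nlinarith
  have hDr : ∀ g : G, orderOf g = r → g ∈ D := by
    intro g hg
    obtain ⟨Ψ, hΨ⟩ := hTr d g hdo hg
    have h5 : g ∈ D.comap Ψ.symm.toMonoidHom := by
      rw [Subgroup.mem_comap]
      show Ψ.symm g ∈ D
      rw [← hΨ, MulEquiv.symm_apply_apply]
      exact hdD
    rwa [hDc.fixed] at h5
  have hDs : ∀ g : G, g ∈ D → orderOf g ≠ s := by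
    intro g hg hgo
    exact hno d g (hDab d g hdD hg) hdo hgo
  have hDpow : ∀ g : G, g ∈ D → g ^ r = 1 := by
    intro g hg
    rcases hT1 g with h | h | h
    · rw [h, one_pow]
    · rw [← h, pow_orderOf_eq_one]
    · exact absurd h (hDs g hg)
  have hfpf : ∀ x y : G, orderOf x = s → orderOf y = r → x * y * x⁻¹ ≠ y := by
    intro x y hx hy h
    apply hno y x _ hy hx
    calc y * x = (x * y * x⁻¹) * x := by rw [h]
      _ = x * y := by group
  have hDp : IsPGroup r ↥D := by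
    intro t
    refine ⟨1, ?_⟩
    rw [pow_one]
    apply Subtype.ext
    rw [Subgroup.coe_pow, Subgroup.coe_one]
    exact hDpow t t.2
  have hPD : ∀ P : Sylow r G, (P : Subgroup G) = D := by
    intro P
    have hle : (P : Subgroup G) ≤ D := by
      intro g hg
      rcases hT1 g with h | h | h
      · rw [h]; exact D.one_mem
      · exact hDr g h
      · exfalso
        obtain ⟨k, hk⟩ := (IsPGroup.iff_orderOf.1 P.isPGroup') ⟨g, hg⟩
        rw [Subgroup.orderOf_mk, h] at hk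
        have h5 : r ∣ s := by
          rcases k with _ | k
          · rw [pow_zero] at hk; exact absurd hk hs.out.one_lt.ne'
          · rw [hk, pow_succ]; exact dvd_mul_left r _
        exact hrs' h5
    exact (P.is_maximal' hDp hle).symm
  have hsG : s ∣ Nat.card G := hx₀ ▸ orderOf_dvd_natCard x₀
  have hSs : ∀ Q : Sylow s G, Nat.card (Q : Subgroup G) = s := fun Q =>
    sylow_card_eq_prime r s hrs hT1 hfpf D hDab hDpow d hdD hdo hsG Q
  obtain ⟨Q₀⟩ : Nonempty (Sylow s G) := inferInstance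
  have he₂ : e₂ = 1 := by
    have h5 := hSs Q₀
    rw [Sylow.card_eq_multiplicity, hcard,
      factorization_pow_mul_pow_right hr.out hs.out hrs] at h5
    exact Nat.pow_right_injective hs2 (show s ^ e₂ = s ^ 1 by rw [pow_one]; exact h5)
  subst he₂
  rw [pow_one] at hcard
  have he₁ : 1 ≤ e₁ := by
    by_contra h
    have h0 : e₁ = 0 := by omega
    have hrG : r ∣ Nat.card G := hdo ▸ orderOf_dvd_natCard d
    rw [hcard, h0, pow_zero, one_mul] at hrG
    exact hrs' hrG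
  obtain ⟨P₀⟩ : Nonempty (Sylow r G) := inferInstance
  have hDcard : Nat.card ↥D = r ^ e₁ := by
    rw [← hPD P₀, Sylow.card_eq_multiplicity, hcard,
      factorization_pow_mul_left hr.out hs.out hrs]
  have hidx : D.index = s := by
    have h1 := D.card_mul_index
    rw [hDcard, hcard] at h1
    exact Nat.eq_of_mul_eq_mul_left (pow_pos hr.out.pos e₁) h1
  have hquot : Nat.card (G ⧸ D) = s := by rw [← Subgroup.index_eq_card]; exact hidx
  have hcyc : IsCyclic (G ⧸ D) := isCyclic_of_prime_card hquot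
  have hcomq : ∀ a b : G ⧸ D, a * b = b * a := fun a b =>
    (IsCyclic.isMulCommutative (α := G ⧸ D)).is_comm.comm a b
  have hcomD : ∀ g h : G, g * h * g⁻¹ * h⁻¹ ∈ D := by
    intro g h
    rw [← QuotientGroup.eq_one_iff]
    simp only [QuotientGroup.mk_mul, QuotientGroup.mk_inv]
    rw [hcomq (g : G ⧸ D) (h : G ⧸ D), mul_inv_cancel_right, mul_inv_cancel]
  have hconjD : ∀ a b v : G, a * b⁻¹ ∈ D → v ∈ D → a * v * a⁻¹ = b * v * b⁻¹ := by
    intro a b v hab hv
    have h1 : b * v * b⁻¹ ∈ D := hDn.conj_mem v hv b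
    have h2 := hDab (a * b⁻¹) (b * v * b⁻¹) hab h1
    calc a * v * a⁻¹ = (a * b⁻¹) * (b * v * b⁻¹) * (a * b⁻¹)⁻¹ := by group
      _ = (b * v * b⁻¹) * (a * b⁻¹) * (a * b⁻¹)⁻¹ := by rw [h2]
      _ = b * v * b⁻¹ := by group
  have hcommD : ∀ a b : ↥D, a * b = b * a := fun a b => Subtype.ext (hDab a b a.2 b.2)
  have hexpD : ∀ u : ↥D, u ^ r = 1 := fun u =>
    Subtype.ext (by rw [Subgroup.coe_pow, Subgroup.coe_one]; exact hDpow u u.2)
  have hτq : (MulAut.conjNormal x₀ : MulAut ↥D) ^ s = 1 := by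
    rw [← map_pow, ← hx₀, pow_orderOf_eq_one, map_one]
  have hτf : ∀ u : ↥D, (MulAut.conjNormal x₀ : MulAut ↥D) u = u → u = 1 := by
    intro u hu
    by_contra hu1
    have huo : orderOf (u : G) = r :=
      orderOf_eq_prime (hDpow u u.2) (fun h => hu1 (Subtype.ext h))
    apply hfpf x₀ u hx₀ huo
    have h5 := congrArg Subtype.val hu
    rwa [MulAut.conjNormal_apply] at h5
  have hinter : ∀ (Ψ : MulAut G) (β : MulAut ↥D) (k : ℕ), (∀ u : ↥D, (β u : G) = Ψ u) →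
      Ψ x₀ * (x₀ ^ k)⁻¹ ∈ D →
      ∀ u : ↥D, β ((MulAut.conjNormal x₀ : MulAut ↥D) u) =
        ((MulAut.conjNormal x₀ : MulAut ↥D) ^ k) (β u) := by
    intro Ψ β k hβ hk u
    apply Subtype.ext
    rw [hβ, ← map_pow, MulAut.conjNormal_apply, MulAut.conjNormal_apply, hβ, map_mul, map_mul,
      map_inv]
    exact hconjD _ _ _ hk (by rw [← hβ]; exact (β u).2)
  haveI : Nontrivial ↥D := ⟨⟨⟨d, hdD⟩, 1, fun h => by
    have h1 : d = 1 := congrArg Subtype.val h
    rw [h1, orderOf_one] at hdo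
    omega⟩⟩
  have hord : orderOf ((r : ℕ) : ZMod s) = s - 1 := by
    apply orderOf_eq_of_transitive_mul' (E := ↥D) hcommD hrs hexpD (MulAut.conjNormal x₀) hτq hτf
    · intro u v hu hv
      have huo : orderOf (u : G) = r :=
        orderOf_eq_prime (hDpow u u.2) (fun h => hu (Subtype.ext h))
      have hvo : orderOf (v : G) = r :=
        orderOf_eq_prime (hDpow v v.2) (fun h => hv (Subtype.ext h))
      obtain ⟨Ψ, hΨ⟩ := hTr u v huo hvo
      obtain ⟨β, hβ⟩ := exists_restrict D Ψ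
      have hΨo : orderOf (Ψ x₀) = s := by rw [MulEquiv.orderOf_eq, hx₀]
      obtain ⟨c, k, hk1, hks, hck⟩ := exists_conj_pow_of_orderOf s hSs x₀ (Ψ x₀) hx₀ hΨo
      refine ⟨β, k, ?_, hinter Ψ β k hβ ?_⟩
      · apply Subtype.ext; rw [hβ, hΨ]
      · rw [hck]; exact hcomD c (x₀ ^ k)
    · intro k hk1 hks
      have hko : orderOf (x₀ ^ k) = s := by
        rw [Nat.Coprime.orderOf_pow, hx₀]
        rw [hx₀]
        exact (Nat.Prime.coprime_iff_not_dvd hs.out).2
          (fun h => by have := Nat.le_of_dvd (by omega) h; omega)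
      obtain ⟨Ψ, hΨ⟩ := hTs x₀ (x₀ ^ k) hx₀ hko
      obtain ⟨β, hβ⟩ := exists_restrict D Ψ
      refine ⟨β, hinter Ψ β k hβ ?_⟩
      rw [hΨ, mul_inv_cancel]; exact D.one_mem
  refine ⟨e₁, he₁, hcard, fun P => ⟨?_, ?_⟩, hord, hfpf⟩
  · rw [hPD P]; exact hDn
  · rw [hPD P]
    exact ⟨⟨⟨fun a b => Subtype.ext (hDab a b a.2 b.2)⟩⟩, hDpow⟩

theorem fwd {G : Type*} [Group G] [Finite G] (hnpp : ¬ IsPrimePow (Nat.card G))
    (hnt : Nat.card G ≠ 1)
    (h3 : Nat.card (MulAction.orbitRel.Quotient (MulAut G) G) = 3) :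
    ∃ (p q n : ℕ) (_ : Fact p.Prime) (_ : Fact q.Prime), p ≠ q ∧ 1 ≤ n ∧
      Nat.card G = p ^ n * q ∧
      (∀ P : Sylow p G, (P : Subgroup G).Normal ∧
        Cfsg.IsElementaryAbelian p (P : Subgroup G)) ∧
      orderOf ((p : ℕ) : ZMod q) = q - 1 ∧
      ∀ x y : G, orderOf x = q → orderOf y = p → x * y * x⁻¹ ≠ y := by
  classical
  have hpos : Nat.card G ≠ 0 := Nat.card_pos.ne'
  obtain ⟨p₁, hp₁, hp₁d⟩ := Nat.exists_prime_and_dvd hnt
  obtain ⟨e, m, hm, hGe⟩ := Nat.exists_eq_pow_mul_and_not_dvd hpos p₁ hp₁.ne_one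
  have he0 : e ≠ 0 := by
    intro he
    apply hm
    rw [hGe, he, pow_zero, one_mul] at hp₁d
    exact hp₁d
  have hm1 : m ≠ 1 := by
    intro h
    rw [h, mul_one] at hGe
    apply hnpp
    rw [hGe]
    exact hp₁.isPrimePow.pow he0
  obtain ⟨p₂, hp₂, hp₂d⟩ := Nat.exists_prime_and_dvd hm1
  have hne : p₁ ≠ p₂ := fun h => hm (h ▸ hp₂d)
  have hp₂G : p₂ ∣ Nat.card G := by rw [hGe]; exact dvd_mul_of_dvd_right hp₂d _
  haveI : Fact p₁.Prime := ⟨hp₁⟩
  haveI : Fact p₂.Prime := ⟨hp₂⟩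
  obtain ⟨a, ha⟩ := exists_prime_orderOf_dvd_card' (G := G) p₁ hp₁d
  obtain ⟨b, hb⟩ := exists_prime_orderOf_dvd_card' (G := G) p₂ hp₂G
  have ha1 : a ≠ 1 := fun h => by rw [h, orderOf_one] at ha; exact hp₁.one_lt.ne ha
  have hb1 : b ≠ 1 := fun h => by rw [h, orderOf_one] at hb; exact hp₂.one_lt.ne hb
  have htri := orbit_trichotomy h3 a b ha1 hb1 (by rw [ha, hb]; exact hne)
  have hT1 : ∀ g : G, g = 1 ∨ orderOf g = p₁ ∨ orderOf g = p₂ := by
    intro g
    rcases htri g with h | ⟨Ψ, h⟩ | ⟨Ψ, h⟩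
    · exact Or.inl h
    · right; left; rw [← h, MulEquiv.orderOf_eq, ha]
    · right; right; rw [← h, MulEquiv.orderOf_eq, hb]
  have horb₁ : ∀ g : G, orderOf g = p₁ → ∃ Ψ : MulAut G, Ψ a = g := by
    intro g hg
    rcases htri g with h | h | ⟨Ψ, h⟩
    · rw [h, orderOf_one] at hg; exact absurd hg hp₁.one_lt.ne
    · exact h
    · rw [← h, MulEquiv.orderOf_eq, hb] at hg; exact absurd hg.symm hne
  have horb₂ : ∀ g : G, orderOf g = p₂ → ∃ Ψ : MulAut G, Ψ b = g := by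
    intro g hg
    rcases htri g with h | ⟨Ψ, h⟩ | h
    · rw [h, orderOf_one] at hg; exact absurd hg hp₂.one_lt.ne
    · rw [← h, MulEquiv.orderOf_eq, ha] at hg; exact absurd hg hne
    · exact h
  have hT₁ : ∀ g g' : G, orderOf g = p₁ → orderOf g' = p₁ → ∃ Ψ : MulAut G, Ψ g = g' := by
    intro g g' hg hg'
    obtain ⟨Ψ₁, h₁⟩ := horb₁ g hg
    obtain ⟨Ψ₂, h₂⟩ := horb₁ g' hg'
    refine ⟨Ψ₂ * Ψ₁⁻¹, ?_⟩
    rw [MulAut.mul_apply, ← h₁, MulAut.inv_apply_self, h₂]
  have hT₂ : ∀ g g' : G, orderOf g = p₂ → orderOf g' = p₂ → ∃ Ψ : MulAut G, Ψ g = g' := by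
    intro g g' hg hg'
    obtain ⟨Ψ₁, h₁⟩ := horb₂ g hg
    obtain ⟨Ψ₂, h₂⟩ := horb₂ g' hg'
    refine ⟨Ψ₂ * Ψ₁⁻¹, ?_⟩
    rw [MulAut.mul_apply, ← h₁, MulAut.inv_apply_self, h₂]
  have hm0 : m ≠ 0 := by
    intro h; rw [h, mul_zero] at hGe; exact hpos hGe
  obtain ⟨e₂, m', hm', hme⟩ := Nat.exists_eq_pow_mul_and_not_dvd hm0 p₂ hp₂.ne_one
  have hm'1 : m' = 1 := by
    by_contra hne1
    obtain ⟨t, ht, htd⟩ := Nat.exists_prime_and_dvd hne1
    have htG : t ∣ Nat.card G := by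
      rw [hGe, hme]
      exact dvd_mul_of_dvd_right (dvd_mul_of_dvd_right htd _) _
    haveI : Fact t.Prime := ⟨ht⟩
    obtain ⟨c, hc⟩ := exists_prime_orderOf_dvd_card' (G := G) t htG
    rcases hT1 c with h | h | h
    · rw [h, orderOf_one] at hc; exact ht.one_lt.ne hc
    · rw [h] at hc
      apply hm
      rw [hme, hc]
      exact dvd_mul_of_dvd_right htd _
    · rw [h] at hc
      apply hm'
      rw [hc]; exact htd
  rw [hm'1, mul_one] at hme
  have hcard : Nat.card G = p₁ ^ e * p₂ ^ e₂ := by rw [hGe, hme]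
  have hsolv : Group.IsSolvable G :=
    Cfsg.Agent.Helper6.burnside_pq p₁ p₂ e e₂ hp₁ hp₂ hcard
  obtain ⟨n₀, hn₀, hmin⟩ : ∃ n, derivedSeries G n = ⊥ ∧ ∀ k < n, derivedSeries G k ≠ ⊥ := by
    have hex := (Group.isSolvable_def G).1 hsolv
    exact ⟨Nat.find hex, Nat.find_spec hex, fun k hk => Nat.find_min hex hk⟩
  have hn₀0 : n₀ ≠ 0 := by
    intro h
    rw [h, derivedSeries_zero] at hn₀
    have h5 : a ∈ (⊤ : Subgroup G) := Subgroup.mem_top a
    rw [hn₀, Subgroup.mem_bot] at h5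
    exact ha1 h5
  obtain ⟨k₀, hk₀⟩ : ∃ k₀, n₀ = k₀ + 1 := ⟨n₀ - 1, by omega⟩
  subst hk₀
  have hDne := hmin k₀ (Nat.lt_succ_self k₀)
  have hDab : ∀ u v : G, u ∈ derivedSeries G k₀ → v ∈ derivedSeries G k₀ → u * v = v * u := by
    intro u v hu hv
    have h5 := Subgroup.commutator_mem_commutator hu hv
    rw [← derivedSeries_succ, hn₀, Subgroup.mem_bot] at h5
    exact commutatorElement_eq_one_iff_mul_comm.1 h5
  obtain ⟨d', hd'⟩ := Subgroup.ne_bot_iff_exists_ne_one.1 hDne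
  have hd1 : (d' : G) ≠ 1 := fun h => hd' (Subtype.ext h)
  rcases hT1 (d' : G) with h | h | h
  · exact absurd h hd1
  · obtain ⟨n, hn, hc, hS, hord, hf⟩ := fwd_core p₁ p₂ hne hT1 hT₁ hT₂ (derivedSeries G k₀) hDab
      d' d'.2 h b hb e e₂ hcard
    exact ⟨p₁, p₂, n, ⟨hp₁⟩, ⟨hp₂⟩, hne, hn, hc, hS, hord, hf⟩
  · have hT1' : ∀ g : G, g = 1 ∨ orderOf g = p₂ ∨ orderOf g = p₁ := fun g => by
      rcases hT1 g with h | h | h
      · exact Or.inl h
      · exact Or.inr (Or.inr h)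
      · exact Or.inr (Or.inl h)
    obtain ⟨n, hn, hc, hS, hord, hf⟩ := fwd_core p₂ p₁ hne.symm hT1' hT₂ hT₁
      (derivedSeries G k₀) hDab d' d'.2 h a ha e₂ e (by rw [hcard, mul_comm])
    exact ⟨p₂, p₁, n, ⟨hp₂⟩, ⟨hp₁⟩, hne.symm, hn, hc, hS, hord, hf⟩

end Cfsg.Agent.Helper4.ThreeOrb
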