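import Mathlib
import Cfsg.Agent.Helper4.PrimitiveSocle

set_option autoImplicit false

namespace Cfsg.Agent.Helper4

open MulAction

/-- Transitivity of `M ≤ G ≤ Sym(α)` passes to the image of `M` in `Sym(α)`. -/
theorem isPretransitive_map_subtype {α : Type*} (G : Subgroup (Equiv.Perm α)) (M : Subgroup G)
    [IsPretransitive M α] : IsPretransitive (M.map G.subtype) α := by
  constructor
  intro x y
  obtain ⟨m, hm⟩ := exists_smul_eq M x y
  exact ⟨⟨((m : G) : Equiv.Perm α), ⟨(m : G), m.2, rfl⟩⟩, hm⟩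

theorem mem_map_subtype_iff {α : Type*} (G : Subgroup (Equiv.Perm α)) (M : Subgroup G)
    (g : G) : (g : Equiv.Perm α) ∈ M.map G.subtype ↔ g ∈ M := by
  constructor
  · rintro ⟨m, hm, hmg⟩
    have : m = g := Subtype.ext hmg
    rw [← this]; exact hm
  · intro h
    exact ⟨g, h, rfl⟩

/-- Distinct minimal normal subgroups are disjoint. -/
theorem disjoint_of_minNormal_ne {G : Type*} [Group G] (M N : Subgroup G) [hMn : M.Normal]
    [hNn : N.Normal] (hM : M ≠ ⊥)
    (hMmin : ∀ L : Subgroup G, L.Normal → L ≤ M → L = ⊥ ∨ L = M)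
    (hNmin : ∀ L : Subgroup G, L.Normal → L ≤ N → L = ⊥ ∨ L = N) (hMN : M ≠ N) :
    Disjoint M N := by
  rw [disjoint_iff]
  rcases hMmin (M ⊓ N) (Subgroup.normal_inf_normal M N) inf_le_left with h | h
  · exact h
  · exfalso
    have hle : M ≤ N := inf_eq_left.mp h
    rcases hNmin M hMn hle with h' | h'
    · exact hM h'
    · exact hMN h'

theorem nonempty_of_ne_bot {α : Type*} (G : Subgroup (Equiv.Perm α)) (M : Subgroup G)
    (hM : M ≠ ⊥) : Nonempty α := by
  rw [Ne, Subgroup.eq_bot_iff_forall] at hM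
  push Not at hM
  obtain ⟨m, -, hm1⟩ := hM
  by_contra hempty
  rw [not_nonempty_iff] at hempty
  apply hm1
  apply Subtype.ext
  ext a
  exact hempty.elim a

end Cfsg.Agent.Helper4
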