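import Mathlib

/-!
# Transvections over `𝔽₂` whose pairwise products have odd order

`Tv t c` : `t` is an involution of `V` (a `ZMod 2`-module) with `(t - 1) V ⊆ {0, c}`.
A set of such involutions, closed under conjugation by its members and with pairwise
products of odd order, has at most three elements.
-/

set_option autoImplicit false
set_option linter.unusedSectionVars false

namespace Cfsg.Agent.Helper4.TransvSq

variable {V : Type*} [AddCommGroup V] [Module (ZMod 2) V]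

/-- `t` is a transvection-like involution with centre `c`. -/
structure Tv (t : V ≃ₗ[ZMod 2] V) (c : V) : Prop where
  ne_one : t ≠ 1
  sq : t * t = 1
  mov : ∀ v, t v = v ∨ t v = v + c

variable {t t₁ t₂ t₃ : V ≃ₗ[ZMod 2] V} {c c₁ c₂ c₃ : V}

theorem Tv.exists_moved (h : Tv t c) : ∃ v, t v = v + c ∧ t v ≠ v := by
  by_contra hcon
  push Not at hcon
  apply h.ne_one
  ext v
  rcases h.mov v with hv | hv
  · simpa using hv
  · have := hcon v hv
    simpa using this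

theorem Tv.c_ne (h : Tv t c) : c ≠ 0 := by
  obtain ⟨v, hv, hne⟩ := h.exists_moved
  rintro rfl
  apply hne
  rw [hv, add_zero]

theorem Tv.fix_c (h : Tv t c) : t c = c := by
  obtain ⟨v, hv, -⟩ := h.exists_moved
  have h1 : t (t v) = v := by
    have := congrArg (fun f : V ≃ₗ[ZMod 2] V => f v) h.sq
    simpa using this
  rw [hv, map_add, hv] at h1
  -- v + c + t c = v
  have h2 : c + t c = 0 := by
    have : v + (c + t c) = v + 0 := by rw [add_zero, ← add_assoc]; exact h1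
    exact add_left_cancel this
  have h3 : t c = -c := by
    rw [eq_neg_iff_add_eq_zero, add_comm]; exact h2
  rw [h3, ZModModule.neg_eq_self]

theorem Tv.inv_eq (h : Tv t c) : t⁻¹ = t := by
  rw [inv_eq_iff_mul_eq_one]; exact h.sq

theorem Tv.conj (h : Tv t c) (g : V ≃ₗ[ZMod 2] V) : Tv (g * t * g⁻¹) (g c) := by
  refine ⟨?_, ?_, ?_⟩
  · intro h1
    apply h.ne_one
    have : t = g⁻¹ * (g * t * g⁻¹) * g := by group
    rw [this, h1]; group
  · have : g * t * g⁻¹ * (g * t * g⁻¹) = g * (t * t) * g⁻¹ := by group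
    rw [this, h.sq]; group
  · intro v
    have hv : (g * t * g⁻¹) v = g (t (g⁻¹ v)) := rfl
    have hg : g (g⁻¹ v) = v := by
      have : (g * g⁻¹) v = v := by rw [mul_inv_cancel]; rfl
      exact this
    rcases h.mov (g⁻¹ v) with h1 | h1
    · left; rw [hv, h1, hg]
    · right; rw [hv, h1, map_add, hg]

/-- Claim A: if `t₁` fixes the centre of `t₂` and `t₁ t₂` has odd order then `t₁ = t₂`. -/
theorem eq_of_fix (h1 : Tv t₁ c₁) (h2 : Tv t₂ c₂) (hfix : t₁ c₂ = c₂)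
    (hodd : Odd (orderOf (t₁ * t₂))) : t₁ = t₂ := by
  -- `u = t₁ t₂` satisfies `u ^ 4 = 1`
  have hu_c : (t₁ * t₂) c₂ = c₂ := by
    show t₁ (t₂ c₂) = c₂
    rw [h2.fix_c, hfix]
  have hsq1 : ∀ v, t₁ (t₁ v) = v := by
    intro v
    have := congrArg (fun f : V ≃ₗ[ZMod 2] V => f v) h1.sq
    simpa using this
  have hu : ∀ v, (t₁ * t₂) v = t₁ v ∨ (t₁ * t₂) v = t₁ v + c₂ := by
    intro v
    show t₁ (t₂ v) = _ ∨ t₁ (t₂ v) = _
    rcases h2.mov v with h | h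
    · left; rw [h]
    · right; rw [h, map_add, hfix]
  have hu2 : ∀ v, ((t₁ * t₂) * (t₁ * t₂)) v = v ∨ ((t₁ * t₂) * (t₁ * t₂)) v = v + c₂ := by
    intro v
    have e : ((t₁ * t₂) * (t₁ * t₂)) v = (t₁ * t₂) ((t₁ * t₂) v) := rfl
    rcases hu v with h | h
    · rcases hu (t₁ v) with h' | h'
      · left; rw [e, h, h', hsq1]
      · right; rw [e, h, h', hsq1]
    · rcases hu (t₁ v) with h' | h'
      · right; rw [e, h, map_add, hu_c, h', hsq1]
      · left; rw [e, h, map_add, hu_c, h', hsq1, add_assoc, ZModModule.add_self, add_zero]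
  have hu2c : ((t₁ * t₂) * (t₁ * t₂)) c₂ = c₂ := by
    show (t₁ * t₂) ((t₁ * t₂) c₂) = c₂
    rw [hu_c, hu_c]
  have hu4 : (t₁ * t₂) ^ 4 = 1 := by
    have e4 : (t₁ * t₂) ^ 4 = ((t₁ * t₂) * (t₁ * t₂)) * ((t₁ * t₂) * (t₁ * t₂)) := by
      rw [show 4 = 2 * 2 from rfl, pow_mul, pow_two, pow_two]
    rw [e4]
    ext v
    show ((t₁ * t₂) * (t₁ * t₂)) (((t₁ * t₂) * (t₁ * t₂)) v) = v
    rcases hu2 v with h | h
    · rw [h, h]
    · rw [h, map_add, hu2c, h, add_assoc, ZModModule.add_self, add_zero]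
  have hdvd : orderOf (t₁ * t₂) ∣ 4 := orderOf_dvd_of_pow_eq_one hu4
  have hone : orderOf (t₁ * t₂) = 1 := by
    have h4 : (4 : ℕ) = 2 ^ 2 := by norm_num
    rw [h4] at hdvd
    obtain ⟨k, -, hk2⟩ := (Nat.dvd_prime_pow Nat.prime_two).1 hdvd
    rcases k with _ | k
    · simpa using hk2
    · exfalso
      rw [hk2] at hodd
      exact (Nat.not_even_iff_odd.2 hodd) ⟨2 ^ k, by rw [pow_succ]; ring⟩
  rw [orderOf_eq_one_iff] at hone
  have : t₁ = t₂⁻¹ := eq_inv_of_mul_eq_one_left hone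
  rw [this, h2.inv_eq]

/-- Claim B. -/
theorem apply_centre (h1 : Tv t₁ c₁) (h2 : Tv t₂ c₂) (hne : t₁ ≠ t₂)
    (hodd : Odd (orderOf (t₁ * t₂))) : t₁ c₂ = c₂ + c₁ := by
  rcases h1.mov c₂ with h | h
  · exact absurd (eq_of_fix h1 h2 h hodd) hne
  · exact h

/-- A conjugation-closed set of `Tv`s with pairwise products of odd order has at most three
elements. -/
theorem mem_three (T : Set (V ≃ₗ[ZMod 2] V)) (hTv : ∀ t ∈ T, ∃ c, Tv t c)
    (hconj : ∀ t ∈ T, ∀ t' ∈ T, t' * t * t'⁻¹ ∈ T)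
    (hodd : ∀ t ∈ T, ∀ t' ∈ T, t ≠ t' → Odd (orderOf (t * t')))
    (h1 : t₁ ∈ T) (h2 : t₂ ∈ T) (h3 : t₃ ∈ T) (h12 : t₁ ≠ t₂) :
    t₃ = t₁ ∨ t₃ = t₂ ∨ t₃ = t₁ * t₂ * t₁⁻¹ := by
  by_contra hcon
  push Not at hcon
  obtain ⟨h31, h32, h33⟩ := hcon
  obtain ⟨c₁, hc₁⟩ := hTv t₁ h1
  obtain ⟨c₂, hc₂⟩ := hTv t₂ h2
  obtain ⟨c₃, hc₃⟩ := hTv t₃ h3
  have e1 : t₃ c₁ = c₁ + c₃ := apply_centre hc₃ hc₁ h31 (hodd t₃ h3 t₁ h1 h31)
  have e2 : t₃ c₂ = c₂ + c₃ := apply_centre hc₃ hc₂ h32 (hodd t₃ h3 t₂ h2 h32)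
  have e3 : t₁ c₂ = c₂ + c₁ := apply_centre hc₁ hc₂ h12 (hodd t₁ h1 t₂ h2 h12)
  have hT' : t₁ * t₂ * t₁⁻¹ ∈ T := hconj t₂ h2 t₁ h1
  have hc' : Tv (t₁ * t₂ * t₁⁻¹) (t₁ c₂) := hc₂.conj t₁
  have hfix : t₃ (t₁ c₂) = t₁ c₂ := by
    rw [e3, map_add, e1, e2]
    -- c₂ + c₃ + (c₁ + c₃) = c₂ + c₁
    have : c₂ + c₃ + (c₁ + c₃) = c₂ + c₁ + (c₃ + c₃) := by abel
    rw [this, ZModModule.add_self, add_zero]
  exact h33 (eq_of_fix hc₃ hc' hfix (hodd t₃ h3 _ hT' h33))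

end Cfsg.Agent.Helper4.TransvSq
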