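import Cfsg.Agent.Helper4.TransvSqA
import Cfsg.Agent.Helper1.Fitting2

/-!
# A transvection over `𝔽₂` in a solvable group with `O₂ = 1` is not a square
-/

set_option autoImplicit false
set_option linter.unusedSectionVars false
set_option linter.style.haveILetI false

namespace Cfsg.Agent.Helper4.TransvSq

open Cfsg.Agent.Helper1

variable {V : Type*} [AddCommGroup V] [Module (ZMod 2) V]

theorem finite_linearEquiv [Finite V] : Finite (V ≃ₗ[ZMod 2] V) :=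
  Finite.of_injective (fun f => (f : V → V)) DFunLike.coe_injective

/-- two distinct commuting `Tv`s have a product of even order -/
theorem false_of_commute {z t : V ≃ₗ[ZMod 2] V} {c c' : V} (hz : Tv z c) (ht : Tv t c')
    (hne : z ≠ t) (hodd : Odd (orderOf (z * t))) (hcomm : z * t * z⁻¹ = t) : False := by
  have h1 : z * t = t * z := by
    calc z * t = (z * t * z⁻¹) * z := by group
      _ = t * z := by rw [hcomm]
  have h2 : (z * t) ^ 2 = 1 := by
    rw [pow_two]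
    calc z * t * (z * t) = z * (t * z) * t := by group
      _ = z * (z * t) * t := by rw [h1]
      _ = (z * z) * (t * t) := by group
      _ = 1 := by rw [hz.sq, ht.sq, one_mul]
  have hdvd : orderOf (z * t) ∣ 2 := orderOf_dvd_of_pow_eq_one h2
  have hone : orderOf (z * t) = 1 := by
    rcases (Nat.dvd_prime Nat.prime_two).1 hdvd with h | h
    · exact h
    · exfalso; rw [h] at hodd; exact (Nat.not_even_iff_odd.2 hodd) even_two
  rw [orderOf_eq_one_iff] at hone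
  have : z = t⁻¹ := eq_inv_of_mul_eq_one_left hone
  rw [this, ht.inv_eq] at hne
  exact hne rfl

theorem odd_card_fitting {G : Type*} [Group G] [Finite G] (hO2 : Cfsg.pCore 2 G = ⊥) :
    Odd (Nat.card (Cfsg.fittingSubgroup G)) := by
  let two : Nat.Primes := ⟨2, Nat.prime_two⟩
  have hle : Cfsg.fittingSubgroup G ≤
      (⨆ (q : Nat.Primes) (_ : q ≠ two), Cfsg.pCore (q : ℕ) G : Subgroup G) := by
    rw [fittingSubgroup_eq_fitJoin]
    apply iSup_le
    intro p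
    by_cases hp : p = two
    · rw [hp]
      show Cfsg.pCore 2 G ≤ _
      rw [hO2]; exact bot_le
    · exact le_iSup₂ (f := fun (q : Nat.Primes) (_ : q ≠ two) => Cfsg.pCore (q : ℕ) G) p hp
  have hcop := card_iSup_pCore_ne_coprime (G := G) two
  have hdvd := Subgroup.card_dvd_of_le hle
  have : (Nat.card (Cfsg.fittingSubgroup G)).Coprime 2 := Nat.Coprime.coprime_dvd_left hdvd hcop
  exact Nat.Coprime.odd_of_right this

theorem not_tv_sq [Finite V] (S : Subgroup (V ≃ₗ[ZMod 2] V)) (hS : Group.IsSolvable ↥S)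
    (hO2 : Cfsg.pCore 2 ↥S = ⊥) (P : V ≃ₗ[ZMod 2] V) (hPS : P ∈ S) {c : V}
    (hz : Tv (P * P) c) : False := by
  haveI : Finite (V ≃ₗ[ZMod 2] V) := finite_linearEquiv
  haveI : Finite S := inferInstance
  set F := Cfsg.fittingSubgroup ↥S with hF
  have hFn : F.Normal := inferInstance
  have hFodd : Odd (Nat.card F) := odd_card_fitting hO2
  set PS : S := ⟨P, hPS⟩ with hPSdef
  set zS : S := PS * PS with hzS
  have hzScoe : (zS : V ≃ₗ[ZMod 2] V) = P * P := rfl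
  have hzSsq : zS * zS = 1 := Subtype.ext hz.sq
  have hzSne : zS ≠ 1 := fun h => hz.ne_one (by rw [← hzScoe, h]; rfl)
  have hzSinv : zS⁻¹ = zS := by rw [inv_eq_iff_mul_eq_one]; exact hzSsq
  -- `zS` does not centralize `F`
  have hnc : ∃ x ∈ F, x * zS ≠ zS * x := by
    by_contra hcon
    push Not at hcon
    have hmem : zS ∈ Subgroup.centralizer (F : Set S) := by
      rw [Subgroup.mem_centralizer_iff]
      intro x hx
      exact hcon x hx
    have hzF : zS ∈ F := centralizer_fittingSubgroup_le hmem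
    have hord : orderOf zS = 2 := orderOf_eq_prime (by rw [pow_two]; exact hzSsq) hzSne
    have h2 : orderOf (⟨zS, hzF⟩ : F) = 2 := (Subgroup.orderOf_mk zS hzF).trans hord
    have hdvd : 2 ∣ Nat.card F := by
      have h3 := orderOf_dvd_natCard (⟨zS, hzF⟩ : F)
      rwa [h2] at h3
    exact (Nat.not_even_iff_odd.2 hFodd) (even_iff_two_dvd.2 hdvd)
  -- the class of `z` under `F`
  let T : Set (V ≃ₗ[ZMod 2] V) := {t | ∃ x : S, x ∈ F ∧ t = ((x * zS * x⁻¹ : S) : V ≃ₗ[ZMod 2] V)}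
  have hTv : ∀ t ∈ T, ∃ c', Tv t c' := by
    rintro t ⟨x, -, rfl⟩
    exact ⟨(x : V ≃ₗ[ZMod 2] V) c, hz.conj (x : V ≃ₗ[ZMod 2] V)⟩
  have hzT : P * P ∈ T := ⟨1, F.one_mem, by simp [hzScoe]⟩
  have hconj : ∀ t ∈ T, ∀ t' ∈ T, t' * t * t'⁻¹ ∈ T := by
    rintro t ⟨x, hx, rfl⟩ t' ⟨y, hy, rfl⟩
    refine ⟨y * (zS * (y⁻¹ * x) * zS⁻¹), ?_, ?_⟩
    · exact F.mul_mem hy (hFn.conj_mem _ (F.mul_mem (F.inv_mem hy) hx) zS)
    · rw [← Subgroup.coe_inv, ← Subgroup.coe_mul, ← Subgroup.coe_mul]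
      congr 1
      rw [hzSinv]
      have : (y * (zS * (y⁻¹ * x) * zS))⁻¹ = zS⁻¹ * (x⁻¹ * y) * zS⁻¹ * y⁻¹ := by group
      rw [this, hzSinv]
      have e : y * (zS * (y⁻¹ * x) * zS) * zS * (zS * (x⁻¹ * y) * zS * y⁻¹)
          = y * zS * y⁻¹ * x * (zS * zS) * (zS * x⁻¹ * y * zS * y⁻¹) := by group
      have e' : (y * zS * y⁻¹)⁻¹ = y * zS⁻¹ * y⁻¹ := by group
      rw [e', hzSinv, e, hzSsq]
      group
  have hoddT : ∀ t ∈ T, ∀ t' ∈ T, t ≠ t' → Odd (orderOf (t * t')) := by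
    rintro t ⟨x, hx, rfl⟩ t' ⟨y, hy, rfl⟩ -
    rw [← Subgroup.coe_mul, Subgroup.orderOf_coe]
    have hmem : x * zS * x⁻¹ * (y * zS * y⁻¹) ∈ F := by
      have : x * zS * x⁻¹ * (y * zS * y⁻¹) = x * (zS * (x⁻¹ * y) * zS⁻¹) * y⁻¹ := by
        rw [hzSinv]; group
      rw [this]
      exact F.mul_mem (F.mul_mem hx (hFn.conj_mem _ (F.mul_mem (F.inv_mem hx) hy) zS))
        (F.inv_mem hy)
    have h1 : orderOf (⟨_, hmem⟩ : F) = orderOf (x * zS * x⁻¹ * (y * zS * y⁻¹)) :=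
      Subgroup.orderOf_mk _ hmem
    rw [← h1]
    exact Odd.of_dvd_nat hFodd (orderOf_dvd_natCard _)
  -- a second element of `T`
  obtain ⟨x, hx, hxz⟩ := hnc
  have ht₂T : ((x * zS * x⁻¹ : S) : V ≃ₗ[ZMod 2] V) ∈ T := ⟨x, hx, rfl⟩
  have ht₂ne : P * P ≠ ((x * zS * x⁻¹ : S) : V ≃ₗ[ZMod 2] V) := by
    intro h
    apply hxz
    have h' : zS = x * zS * x⁻¹ := Subtype.ext (by rw [hzScoe]; exact h)
    calc x * zS = (x * zS * x⁻¹) * x := by group
      _ = zS * x := by rw [← h']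
  set t₂ : V ≃ₗ[ZMod 2] V := ((x * zS * x⁻¹ : S) : V ≃ₗ[ZMod 2] V) with ht₂
  obtain ⟨c₂, hc₂⟩ := hTv t₂ ht₂T
  -- conjugation by `P` preserves `T`
  have hPT : ∀ t ∈ T, P * t * P⁻¹ ∈ T := by
    rintro t ⟨y, hy, rfl⟩
    refine ⟨PS * y * PS⁻¹, hFn.conj_mem y hy PS, ?_⟩
    have : PS * y * PS⁻¹ * zS * (PS * y * PS⁻¹)⁻¹ = PS * (y * zS * y⁻¹) * PS⁻¹ := by
      have hc : PS * zS = zS * PS := by rw [hzS]; group
      have hc' : PS⁻¹ * zS = zS * PS⁻¹ := by
        calc PS⁻¹ * zS = PS⁻¹ * (zS * PS) * PS⁻¹ := by group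
          _ = PS⁻¹ * (PS * zS) * PS⁻¹ := by rw [hc]
          _ = zS * PS⁻¹ := by group
      calc PS * y * PS⁻¹ * zS * (PS * y * PS⁻¹)⁻¹
          = PS * y * (PS⁻¹ * zS) * PS * y⁻¹ * PS⁻¹ := by group
        _ = PS * y * (zS * PS⁻¹) * PS * y⁻¹ * PS⁻¹ := by rw [hc']
        _ = PS * (y * zS * y⁻¹) * PS⁻¹ := by group
    rw [this]
    rfl
  have hPz : P * (P * P) * P⁻¹ = P * P := by group
  have hPt₂T := hPT t₂ ht₂T
  have hPt₂ne : P * t₂ * P⁻¹ ≠ P * P := by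
    intro h
    apply ht₂ne
    have : t₂ = P⁻¹ * (P * t₂ * P⁻¹) * P := by group
    rw [this, h]; group
  have hzt₂odd : Odd (orderOf (P * P * t₂)) := hoddT _ hzT _ ht₂T ht₂ne
  rcases mem_three T hTv hconj hoddT hzT ht₂T hPt₂T ht₂ne with h | h | h
  · exact hPt₂ne h
  · -- `P` centralizes `t₂`, so `z` does
    apply false_of_commute hz hc₂ ht₂ne hzt₂odd
    calc P * P * t₂ * (P * P)⁻¹ = P * (P * t₂ * P⁻¹) * P⁻¹ := by group
      _ = t₂ := by rw [h, h]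
  · apply false_of_commute hz hc₂ ht₂ne hzt₂odd
    have hzz : (P * P) * (P * P) = 1 := hz.sq
    calc P * P * t₂ * (P * P)⁻¹ = P * (P * t₂ * P⁻¹) * P⁻¹ := by group
      _ = P * (P * P * t₂ * (P * P)⁻¹) * P⁻¹ := by rw [h]
      _ = (P * P) * (P * t₂ * P⁻¹) * (P * P)⁻¹ := by group
      _ = (P * P) * (P * P * t₂ * (P * P)⁻¹) * (P * P)⁻¹ := by rw [h]
      _ = ((P * P) * (P * P)) * t₂ * ((P * P) * (P * P))⁻¹ := by group
      _ = t₂ := by rw [hzz]; group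

end Cfsg.Agent.Helper4.TransvSq
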