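import Cfsg.Agent.Helper4.TransvSqB

/-!
# From a small image of `(P - 1)²` to a transvection
-/

set_option autoImplicit false
set_option linter.unusedSectionVars false
set_option linter.style.haveILetI false

namespace Cfsg.Agent.Helper4.TransvSq

variable {V : Type*} [AddCommGroup V] [Module (ZMod 2) V]

theorem sq_sub_id_apply (P : V ≃ₗ[ZMod 2] V) (v : V) :
    ((((P : V →ₗ[ZMod 2] V) - LinearMap.id) ^ 2 : V →ₗ[ZMod 2] V) v) = (P * P) v + v := by
  rw [pow_two, Module.End.mul_apply, LinearMap.sub_apply, LinearMap.sub_apply, LinearMap.id_apply,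
    LinearMap.id_apply, LinearEquiv.coe_coe]
  rw [ZModModule.sub_eq_add, ZModModule.sub_eq_add, map_add]
  show P (P v) + P v + (P v + v) = P (P v) + v
  rw [ZModModule.add_add_add_cancel]

theorem tv_of_card_lt [Finite V] (P : V ≃ₗ[ZMod 2] V) (hP4 : orderOf P = 4)
    (hlt : Nat.card ↥(LinearMap.range (((P : V →ₗ[ZMod 2] V) - LinearMap.id) ^ 2)) < 4) :
    ∃ c, Tv (P * P) c := by
  set f := (((P : V →ₗ[ZMod 2] V) - LinearMap.id) ^ 2) with hf
  set R := LinearMap.range f with hR
  have hzne : P * P ≠ 1 := by
    rw [← pow_two]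
    exact pow_ne_one_of_lt_orderOf (by norm_num) (by rw [hP4]; norm_num)
  have hzsq : (P * P) * (P * P) = 1 := by
    have : (P * P) * (P * P) = P ^ 4 := by
      rw [show 4 = 2 * 2 from rfl, pow_mul, pow_two, pow_two]
    rw [this, ← hP4, pow_orderOf_eq_one]
  -- any two nonzero elements of `R` are equal
  have huniq : ∀ a ∈ R, ∀ b ∈ R, a ≠ 0 → b ≠ 0 → a = b := by
    intro a ha b hb ha0 hb0
    by_contra hab
    have hsub : ({0, a, b, a + b} : Set V) ⊆ (R : Set V) := by
      intro x hx
      simp only [Set.mem_insert_iff, Set.mem_singleton_iff] at hx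
      rcases hx with rfl | rfl | rfl | rfl
      · exact R.zero_mem
      · exact ha
      · exact hb
      · exact R.add_mem ha hb
    have hab0 : a + b ≠ 0 := by
      intro h
      apply hab
      have : a = -b := eq_neg_of_add_eq_zero_left h
      rw [this, ZModModule.neg_eq_self]
    have hcard4 : ({0, a, b, a + b} : Set V).ncard = 4 := by
      rw [Set.ncard_insert_of_notMem, Set.ncard_insert_of_notMem, Set.ncard_pair]
      · intro h
        apply ha0
        have : a + b = b + 0 := by rw [add_zero]; exact h.symm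
        rw [add_comm] at this
        exact add_left_cancel this
      · simp only [Set.mem_insert_iff, Set.mem_singleton_iff, not_or]
        refine ⟨hab, ?_⟩
        intro h
        apply hb0
        have : a + b = a + 0 := by rw [add_zero]; exact h.symm
        exact add_left_cancel this
      · simp only [Set.mem_insert_iff, Set.mem_singleton_iff, not_or]
        exact ⟨fun h => ha0 h.symm, fun h => hb0 h.symm, fun h => hab0 h.symm⟩
    have hle : ({0, a, b, a + b} : Set V).ncard ≤ (R : Set V).ncard :=
      Set.ncard_le_ncard hsub (Set.toFinite _)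
    have hRc : Nat.card R = (R : Set V).ncard := Nat.card_coe_set_eq _
    rw [hcard4] at hle
    omega
  -- a moved vector
  obtain ⟨v₀, hv₀⟩ : ∃ v, (P * P) v ≠ v := by
    by_contra hcon
    push Not at hcon
    apply hzne
    ext v
    simpa using hcon v
  have hfv : ∀ v, f v = (P * P) v + v := sq_sub_id_apply P
  have hc0 : f v₀ ≠ 0 := by
    rw [hfv]
    intro h
    apply hv₀
    have : (P * P) v₀ = -v₀ := eq_neg_of_add_eq_zero_left h
    rw [this, ZModModule.neg_eq_self]
  refine ⟨f v₀, hzne, hzsq, ?_⟩
  intro v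
  by_cases hv : f v = 0
  · left
    rw [hfv] at hv
    have : (P * P) v = -v := eq_neg_of_add_eq_zero_left hv
    rw [this, ZModModule.neg_eq_self]
  · right
    have h1 : f v = f v₀ := huniq _ ⟨v, rfl⟩ _ ⟨v₀, rfl⟩ hv hc0
    rw [← h1, hfv]
    -- (P*P) v = v + ((P*P) v + v)
    rw [add_comm ((P * P) v) v, ← add_assoc, ZModModule.add_self, zero_add]

end Cfsg.Agent.Helper4.TransvSq
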