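import Mathlib

set_option autoImplicit false

namespace Cfsg.Agent.Helper4

open MulAction
open scoped Pointwise

section
variable {K : Type*} [Group K] {α : Type*} [DecidableEq α] [MulAction K α]

theorem twoHom_pair_map (h2 : IsPretransitive K (Set.powersetCard α 2))
    {a b c d : α} (hab : a ≠ b) (hcd : c ≠ d) :
    ∃ g : K, (g • a = c ∧ g • b = d) ∨ (g • a = d ∧ g • b = c) := by
  let s₀ : Set.powersetCard α 2 := ⟨{a, b}, Finset.card_pair hab⟩
  let s₁ : Set.powersetCard α 2 := ⟨{c, d}, Finset.card_pair hcd⟩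
  obtain ⟨g, hg⟩ := exists_smul_eq K s₀ s₁
  have h := congrArg Subtype.val hg
  rw [Set.powersetCard.coe_smul] at h
  have h' : g • ({a, b} : Finset α) = {c, d} := h
  have ha : g • a ∈ ({c, d} : Finset α) := by
    rw [← h']; exact Finset.smul_mem_smul_finset (Finset.mem_insert_self a _)
  have hb : g • b ∈ ({c, d} : Finset α) := by
    rw [← h']
    exact Finset.smul_mem_smul_finset (Finset.mem_insert_of_mem (Finset.mem_singleton_self b))
  have hne : g • a ≠ g • b := fun hh => hab (MulAction.injective g hh)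
  simp only [Finset.mem_insert, Finset.mem_singleton] at ha hb
  refine ⟨g, ?_⟩
  rcases ha with ha | ha <;> rcases hb with hb | hb
  · exact absurd (ha.trans hb.symm) hne
  · exact Or.inl ⟨ha, hb⟩
  · exact Or.inr ⟨ha, hb⟩
  · exact absurd (ha.trans hb.symm) hne

theorem twoHom_isPretransitive [Fintype α] (h2 : IsPretransitive K (Set.powersetCard α 2))
    (hα : 3 ≤ Fintype.card α) : IsPretransitive K α := by
  constructor
  intro x y
  by_cases hxy : x = y
  · exact ⟨1, by rw [one_smul, hxy]⟩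
  by_contra hno
  have hno' : ∀ g : K, g • x ≠ y := fun g hg => hno ⟨g, hg⟩
  -- a third point
  obtain ⟨z, hz⟩ : ∃ z, z ∉ ({x, y} : Finset α) := by
    by_contra hcon
    rw [not_exists] at hcon
    have : (Finset.univ : Finset α) ⊆ {x, y} := fun z _ => by
      have := hcon z; rwa [not_not] at this
    have h1 := Finset.card_le_card this
    rw [Finset.card_univ, Finset.card_pair hxy] at h1
    omega
  simp only [Finset.mem_insert, Finset.mem_singleton, not_or] at hz
  obtain ⟨hzx, hzy⟩ := hz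
  by_cases hzO : ∃ g : K, g • x = z
  · obtain ⟨g₀, hg₀⟩ := hzO
    obtain ⟨g, hg⟩ := twoHom_pair_map h2 (Ne.symm hzx) hxy
    rcases hg with ⟨_, h⟩ | ⟨h, _⟩
    · apply hno' (g * g₀)
      rw [mul_smul, hg₀, h]
    · exact hno' g h
  · have hzO' : ∀ g : K, g • x ≠ z := fun g hg => hzO ⟨g, hg⟩
    obtain ⟨g, hg⟩ := twoHom_pair_map h2 (Ne.symm hzy) hxy
    rcases hg with ⟨h, _⟩ | ⟨_, h⟩
    · apply hno' g⁻¹
      rw [inv_smul_eq_iff, h]
    · apply hzO' g⁻¹
      rw [inv_smul_eq_iff, h]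

theorem twoHom_isPreprimitive [Fintype α] (h2 : IsPretransitive K (Set.powersetCard α 2))
    (hα : 3 ≤ Fintype.card α) : IsPreprimitive K α := by
  haveI := twoHom_isPretransitive h2 hα
  refine ⟨?_⟩
  intro B hB
  by_contra hcon
  unfold IsTrivialBlock at hcon
  rw [not_or] at hcon
  obtain ⟨hsub, huniv⟩ := hcon
  rw [Set.not_subsingleton_iff] at hsub
  obtain ⟨a, ha, b, hb, hab⟩ := hsub
  obtain ⟨c, hc⟩ := (Set.ne_univ_iff_exists_notMem B).1 huniv
  have hac : a ≠ c := fun h => hc (h ▸ ha)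
  obtain ⟨g, hg⟩ := twoHom_pair_map h2 hab hac
  have key : ∀ u ∈ B, g • u = a → g • B = B := by
    intro u hu hgu
    exact hB.smul_eq_of_mem hu (hgu ▸ ha)
  rcases hg with ⟨h1, h3⟩ | ⟨h1, h3⟩
  · have hgB := key a ha h1
    apply hc
    rw [← hgB, ← h3]
    exact Set.smul_mem_smul_set hb
  · have hgB := key b hb h3
    apply hc
    rw [← hgB, ← h1]
    exact Set.smul_mem_smul_set ha

theorem twoHom_two_pretransitive_of_swap (h2 : IsPretransitive K (Set.powersetCard α 2))
    (t : K) (a b : α) (hab : a ≠ b) (hta : t • a = b) (htb : t • b = a) :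
    IsMultiplyPretransitive K α 2 := by
  rw [is_two_pretransitive_iff]
  have key : ∀ {c d : α}, c ≠ d → ∃ g : K, g • a = c ∧ g • b = d := by
    intro c d hcd
    obtain ⟨g, hg⟩ := twoHom_pair_map h2 hab hcd
    rcases hg with h | ⟨h1, h3⟩
    · exact ⟨g, h⟩
    · refine ⟨g * t, ?_, ?_⟩
      · rw [mul_smul, hta, h3]
      · rw [mul_smul, htb, h1]
  intro c d c' d' hcd hcd'
  obtain ⟨g₁, h1, h1'⟩ := key hcd
  obtain ⟨g₂, h2', h2''⟩ := key hcd'
  refine ⟨g₂ * g₁⁻¹, ?_, ?_⟩
  · rw [mul_smul, ← h1, inv_smul_smul, h2']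
  · rw [mul_smul, ← h1', inv_smul_smul, h2'']

end

end Cfsg.Agent.Helper4
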