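import Mathlib
import Cfsg.Agent.Helper5.GF9

/-!
# Enumeration of `SU₃(3)` with number-coded arithmetic

The field with nine elements is coded by the numbers `0, …, 8` (`n ↦ (n % 3) + (n / 3) i`) and
`3 × 3` matrices by numbers below `9⁹`, so that the kernel evaluates the enumeration of all 6048
unitary matrices of determinant one quickly.  Each of them has order dividing 7, 8 or 12.
-/

set_option autoImplicit false

namespace Cfsg.Agent.Helper4.U33E

/-- coded addition. -/
def addN (a b : ℕ) : ℕ := (a % 3 + b % 3) % 3 + 3 * ((a / 3 % 3 + b / 3 % 3) % 3)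

/-- coded multiplication. -/
def mulN (a b : ℕ) : ℕ :=
  (a % 3 * (b % 3) + 2 * (a / 3 % 3 * (b / 3 % 3))) % 3
    + 3 * ((a % 3 * (b / 3 % 3) + a / 3 % 3 * (b % 3)) % 3)

/-- coded negation. -/
def negN (a : ℕ) : ℕ := (3 - a % 3) % 3 + 3 * ((3 - a / 3 % 3) % 3)

/-- coded conjugation `x ↦ x³`. -/
def cjN (a : ℕ) : ℕ := a % 3 + 3 * ((3 - a / 3 % 3) % 3)

/-- coded subtraction. -/
def subN (a b : ℕ) : ℕ := addN a (negN b)

/-- the entry number `k` (row `k / 3`, column `k % 3`) of a coded matrix. -/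
def get (A k : ℕ) : ℕ := A / 9 ^ k % 9

/-- a coded matrix from its entries. -/
def mk9 (e0 e1 e2 e3 e4 e5 e6 e7 e8 : ℕ) : ℕ :=
  e0 + 9 * e1 + 81 * e2 + 729 * e3 + 6561 * e4 + 59049 * e5 + 531441 * e6 + 4782969 * e7
    + 43046721 * e8

/-- an entry of the product. -/
def ent (A B i j : ℕ) : ℕ :=
  addN (addN (mulN (get A (3 * i)) (get B j)) (mulN (get A (3 * i + 1)) (get B (3 + j))))
    (mulN (get A (3 * i + 2)) (get B (6 + j)))

/-- coded matrix multiplication. -/
def mulM (A B : ℕ) : ℕ :=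
  mk9 (ent A B 0 0) (ent A B 0 1) (ent A B 0 2) (ent A B 1 0) (ent A B 1 1) (ent A B 1 2)
    (ent A B 2 0) (ent A B 2 1) (ent A B 2 2)

/-- the coded identity matrix. -/
def one9 : ℕ := mk9 1 0 0 0 1 0 0 0 1

/-- evaluate a number before using it. -/
def withNat {α : Type} (x : ℕ) (f : ℕ → α) : α :=
  match x with
  | 0 => f 0
  | k + 1 => f (k + 1)

theorem withNat_eq {α : Type} (x : ℕ) (f : ℕ → α) : withNat x f = f x := by
  cases x <;> rfl

/-- the coded matrix has order dividing 7, 8 or 12. -/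
def powchk (A : ℕ) : Bool :=
  withNat (mulM A A) fun A2 => withNat (mulM A2 A2) fun A4 => withNat (mulM A4 A4) fun A8 =>
    withNat (mulM A4 A2) fun A6 =>
      (mulM A6 A == one9) || (A8 == one9) || (mulM A8 A4 == one9)

/-- the coded hermitian form. -/
def hmN (a0 a1 a2 b0 b1 b2 : ℕ) : ℕ :=
  addN (addN (mulN a0 (cjN b0)) (mulN a1 (cjN b1))) (mulN a2 (cjN b2))

/-- the coded matrix with columns `a`, `b` and the conjugate of their cross product. -/
def mkN (a0 a1 a2 b0 b1 b2 : ℕ) : ℕ :=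
  mk9 a0 b0 (cjN (subN (mulN a1 b2) (mulN a2 b1)))
    a1 b1 (cjN (subN (mulN a2 b0) (mulN a0 b2)))
    a2 b2 (cjN (subN (mulN a0 b1) (mulN a1 b0)))

/-- the check for a pair of columns. -/
def chk (a0 a1 a2 b0 b1 b2 : ℕ) : Bool :=
  if hmN a0 a1 a2 a0 a1 a2 == 1 then
    if hmN b0 b1 b2 a0 a1 a2 == 0 then
      if hmN b0 b1 b2 b0 b1 b2 == 1 then powchk (mkN a0 a1 a2 b0 b1 b2) else true
    else true
  else true

/-- the whole enumeration. -/
def chkAll : Bool :=
  (List.range 9).all fun a0 => (List.range 9).all fun a1 => (List.range 9).all fun a2 =>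
    if hmN a0 a1 a2 a0 a1 a2 == 1 then
      (List.range 9).all fun b0 => (List.range 9).all fun b1 => (List.range 9).all fun b2 =>
        chk a0 a1 a2 b0 b1 b2
    else true

set_option maxRecDepth 100000 in
set_option maxHeartbeats 4000000 in
theorem chkAll_true : chkAll = true := by decide +kernel

end Cfsg.Agent.Helper4.U33E
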