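import Mathlib
import Cfsg.Agent.Helper4.U33Enum

/-!
# Every unitary `3 × 3` matrix of determinant one over the field with nine elements has order
dividing 7, 8 or 12

Soundness of the number-coded enumeration of `Cfsg.Agent.Helper4.U33E`.
-/

set_option autoImplicit false

namespace Cfsg.Agent.Helper4.U33E

open Cfsg.Agent.Helper5.GF9 Matrix

/-- decoding of the numbers `0, …, 8`. -/
abbrev dc (n : ℕ) : F9 := F9.ofN n

theorem dc_addN0 : ∀ a b : Fin 9, dc (addN a b) = dc a + dc b := by decide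
theorem dc_mulN0 : ∀ a b : Fin 9, dc (mulN a b) = dc a * dc b := by decide
theorem dc_negN0 : ∀ a : Fin 9, dc (negN a) = - dc a := by decide
theorem dc_cjN0 : ∀ a : Fin 9, dc (cjN a) = dc a ^ 3 := by decide
theorem dc_inj0 : ∀ a b : Fin 9, dc a = dc b → a = b := by decide
theorem dc_surj0 : ∀ x : F9, ∃ a : Fin 9, dc a = x := by decide
theorem pow_nine : ∀ x : F9, (x ^ 3) ^ 3 = x := by decide

theorem dc_addN {a b : ℕ} (ha : a < 9) (hb : b < 9) : dc (addN a b) = dc a + dc b :=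
  dc_addN0 ⟨a, ha⟩ ⟨b, hb⟩

theorem dc_mulN {a b : ℕ} (ha : a < 9) (hb : b < 9) : dc (mulN a b) = dc a * dc b :=
  dc_mulN0 ⟨a, ha⟩ ⟨b, hb⟩

theorem dc_negN {a : ℕ} (ha : a < 9) : dc (negN a) = - dc a := dc_negN0 ⟨a, ha⟩

theorem dc_cjN {a : ℕ} (ha : a < 9) : dc (cjN a) = dc a ^ 3 := dc_cjN0 ⟨a, ha⟩

theorem dc_inj {a b : ℕ} (ha : a < 9) (hb : b < 9) (h : dc a = dc b) : a = b :=
  congrArg Fin.val (dc_inj0 ⟨a, ha⟩ ⟨b, hb⟩ h)

theorem addN_lt (a b : ℕ) : addN a b < 9 := by unfold addN; omega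

theorem mulN_lt (a b : ℕ) : mulN a b < 9 := by unfold mulN; omega

theorem negN_lt (a : ℕ) : negN a < 9 := by unfold negN; omega

theorem cjN_lt (a : ℕ) : cjN a < 9 := by unfold cjN; omega

theorem subN_lt (a b : ℕ) : subN a b < 9 := addN_lt _ _

theorem get_lt (A k : ℕ) : get A k < 9 := Nat.mod_lt _ (by norm_num)

theorem dc_subN {a b : ℕ} (ha : a < 9) (hb : b < 9) : dc (subN a b) = dc a - dc b := by
  unfold subN
  rw [dc_addN ha (negN_lt b), dc_negN hb, sub_eq_add_neg]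

section getmk
variable {e0 e1 e2 e3 e4 e5 e6 e7 e8 : ℕ}

theorem get_mk9 (h0 : e0 < 9) (h1 : e1 < 9) (h2 : e2 < 9) (h3 : e3 < 9) (h4 : e4 < 9) (h5 : e5 < 9)
    (h6 : e6 < 9) (h7 : e7 < 9) (h8 : e8 < 9) :
    get (mk9 e0 e1 e2 e3 e4 e5 e6 e7 e8) 0 = e0 ∧ get (mk9 e0 e1 e2 e3 e4 e5 e6 e7 e8) 1 = e1 ∧
    get (mk9 e0 e1 e2 e3 e4 e5 e6 e7 e8) 2 = e2 ∧ get (mk9 e0 e1 e2 e3 e4 e5 e6 e7 e8) 3 = e3 ∧
    get (mk9 e0 e1 e2 e3 e4 e5 e6 e7 e8) 4 = e4 ∧ get (mk9 e0 e1 e2 e3 e4 e5 e6 e7 e8) 5 = e5 ∧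
    get (mk9 e0 e1 e2 e3 e4 e5 e6 e7 e8) 6 = e6 ∧ get (mk9 e0 e1 e2 e3 e4 e5 e6 e7 e8) 7 = e7 ∧
    get (mk9 e0 e1 e2 e3 e4 e5 e6 e7 e8) 8 = e8 := by
  unfold get mk9
  norm_num
  refine ⟨?_, ?_, ?_, ?_, ?_, ?_, ?_, ?_, ?_⟩ <;> omega

end getmk

/-- decoding of matrices. -/
def dM (A : ℕ) : Matrix (Fin 3) (Fin 3) F9 := fun i j => dc (get A (3 * i.val + j.val))

theorem dM_mk9 {e0 e1 e2 e3 e4 e5 e6 e7 e8 : ℕ} (h0 : e0 < 9) (h1 : e1 < 9) (h2 : e2 < 9)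
    (h3 : e3 < 9) (h4 : e4 < 9) (h5 : e5 < 9) (h6 : e6 < 9) (h7 : e7 < 9) (h8 : e8 < 9) :
    dM (mk9 e0 e1 e2 e3 e4 e5 e6 e7 e8)
      = !![dc e0, dc e1, dc e2; dc e3, dc e4, dc e5; dc e6, dc e7, dc e8] := by
  obtain ⟨g0, g1, g2, g3, g4, g5, g6, g7, g8⟩ := get_mk9 h0 h1 h2 h3 h4 h5 h6 h7 h8
  ext i j
  fin_cases i <;> fin_cases j <;> simp [dM, g0, g1, g2, g3, g4, g5, g6, g7, g8]

theorem dc_ent (A B i j : ℕ) :
    dc (ent A B i j) = dc (get A (3 * i)) * dc (get B j)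
      + dc (get A (3 * i + 1)) * dc (get B (3 + j)) + dc (get A (3 * i + 2)) * dc (get B (6 + j)) := by
  unfold ent
  rw [dc_addN (addN_lt _ _) (mulN_lt _ _), dc_addN (mulN_lt _ _) (mulN_lt _ _),
    dc_mulN (get_lt _ _) (get_lt _ _), dc_mulN (get_lt _ _) (get_lt _ _),
    dc_mulN (get_lt _ _) (get_lt _ _)]

theorem ent_lt (A B i j : ℕ) : ent A B i j < 9 := addN_lt _ _

theorem dM_mulM (A B : ℕ) : dM (mulM A B) = dM A * dM B := by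
  unfold mulM
  rw [dM_mk9 (ent_lt _ _ _ _) (ent_lt _ _ _ _) (ent_lt _ _ _ _) (ent_lt _ _ _ _) (ent_lt _ _ _ _)
    (ent_lt _ _ _ _) (ent_lt _ _ _ _) (ent_lt _ _ _ _) (ent_lt _ _ _ _)]
  ext i j
  fin_cases i <;> fin_cases j <;>
    simp [dc_ent, dM, Matrix.mul_apply, Fin.sum_univ_three]

theorem dM_one9 : dM one9 = 1 := by decide

theorem powchk_sound {A : ℕ} (h : powchk A = true) :
    dM A ^ 7 = 1 ∨ dM A ^ 8 = 1 ∨ dM A ^ 12 = 1 := by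
  unfold powchk at h
  simp only [withNat_eq, Bool.or_eq_true, beq_iff_eq] at h
  rcases h with (h | h) | h
  · left
    have := congrArg dM h
    rw [dM_mulM, dM_mulM, dM_mulM, dM_mulM, dM_one9] at this
    rw [← this]
    simp only [pow_succ, pow_zero, one_mul, mul_assoc]
  · right; left
    have := congrArg dM h
    rw [dM_mulM, dM_mulM, dM_mulM, dM_one9] at this
    rw [← this]
    simp only [pow_succ, pow_zero, one_mul, mul_assoc]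
  · right; right
    have := congrArg dM h
    rw [dM_mulM, dM_mulM, dM_mulM, dM_mulM, dM_one9] at this
    rw [← this]
    simp only [pow_succ, pow_zero, one_mul, mul_assoc]

/-- the hermitian form. -/
def hm (a0 a1 a2 b0 b1 b2 : F9) : F9 := a0 * b0 ^ 3 + a1 * b1 ^ 3 + a2 * b2 ^ 3

/-- the matrix with columns `a`, `b` and the conjugate of their cross product. -/
def mkF (a0 a1 a2 b0 b1 b2 : F9) : Matrix (Fin 3) (Fin 3) F9 :=
  !![a0, b0, (a1 * b2 - a2 * b1) ^ 3; a1, b1, (a2 * b0 - a0 * b2) ^ 3;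
    a2, b2, (a0 * b1 - a1 * b0) ^ 3]

theorem dc_hmN {a0 a1 a2 b0 b1 b2 : ℕ} (ha0 : a0 < 9) (ha1 : a1 < 9) (ha2 : a2 < 9)
    (hb0 : b0 < 9) (hb1 : b1 < 9) (hb2 : b2 < 9) :
    dc (hmN a0 a1 a2 b0 b1 b2) = hm (dc a0) (dc a1) (dc a2) (dc b0) (dc b1) (dc b2) := by
  unfold hmN hm
  rw [dc_addN (addN_lt _ _) (mulN_lt _ _), dc_addN (mulN_lt _ _) (mulN_lt _ _),
    dc_mulN ha0 (cjN_lt _), dc_mulN ha1 (cjN_lt _), dc_mulN ha2 (cjN_lt _),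
    dc_cjN hb0, dc_cjN hb1, dc_cjN hb2]

theorem hmN_lt (a0 a1 a2 b0 b1 b2 : ℕ) : hmN a0 a1 a2 b0 b1 b2 < 9 := addN_lt _ _

theorem dM_mkN {a0 a1 a2 b0 b1 b2 : ℕ} (ha0 : a0 < 9) (ha1 : a1 < 9) (ha2 : a2 < 9)
    (hb0 : b0 < 9) (hb1 : b1 < 9) (hb2 : b2 < 9) :
    dM (mkN a0 a1 a2 b0 b1 b2) = mkF (dc a0) (dc a1) (dc a2) (dc b0) (dc b1) (dc b2) := by
  unfold mkN mkF
  rw [dM_mk9 ha0 hb0 (cjN_lt _) ha1 hb1 (cjN_lt _) ha2 hb2 (cjN_lt _),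
    dc_cjN (subN_lt _ _), dc_cjN (subN_lt _ _), dc_cjN (subN_lt _ _),
    dc_subN (mulN_lt _ _) (mulN_lt _ _), dc_subN (mulN_lt _ _) (mulN_lt _ _),
    dc_subN (mulN_lt _ _) (mulN_lt _ _),
    dc_mulN ha1 hb2, dc_mulN ha2 hb1, dc_mulN ha2 hb0, dc_mulN ha0 hb2, dc_mulN ha0 hb1,
    dc_mulN ha1 hb0]

/-- the enumeration, decoded. -/
theorem enum_F9 (a0 a1 a2 b0 b1 b2 : F9) (h1 : hm a0 a1 a2 a0 a1 a2 = 1)
    (h2 : hm b0 b1 b2 a0 a1 a2 = 0) (h3 : hm b0 b1 b2 b0 b1 b2 = 1) :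
    mkF a0 a1 a2 b0 b1 b2 ^ 7 = 1 ∨ mkF a0 a1 a2 b0 b1 b2 ^ 8 = 1 ∨
      mkF a0 a1 a2 b0 b1 b2 ^ 12 = 1 := by
  obtain ⟨⟨n0, hn0⟩, rfl⟩ := dc_surj0 a0
  obtain ⟨⟨n1, hn1⟩, rfl⟩ := dc_surj0 a1
  obtain ⟨⟨n2, hn2⟩, rfl⟩ := dc_surj0 a2
  obtain ⟨⟨m0, hm0⟩, rfl⟩ := dc_surj0 b0
  obtain ⟨⟨m1, hm1⟩, rfl⟩ := dc_surj0 b1
  obtain ⟨⟨m2, hm2⟩, rfl⟩ := dc_surj0 b2
  have key := chkAll_true
  unfold chkAll at key
  simp only [List.all_eq_true, List.mem_range] at key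
  have k1 := key n0 hn0 n1 hn1 n2 hn2
  have e1 : hmN n0 n1 n2 n0 n1 n2 = 1 := by
    apply dc_inj (hmN_lt _ _ _ _ _ _) (by norm_num)
    rw [dc_hmN hn0 hn1 hn2 hn0 hn1 hn2]
    exact h1
  have e2 : hmN m0 m1 m2 n0 n1 n2 = 0 := by
    apply dc_inj (hmN_lt _ _ _ _ _ _) (by norm_num)
    rw [dc_hmN hm0 hm1 hm2 hn0 hn1 hn2]
    exact h2
  have e3 : hmN m0 m1 m2 m0 m1 m2 = 1 := by
    apply dc_inj (hmN_lt _ _ _ _ _ _) (by norm_num)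
    rw [dc_hmN hm0 hm1 hm2 hm0 hm1 hm2]
    exact h3
  rw [e1] at k1
  simp only [beq_self_eq_true, if_true, List.all_eq_true, List.mem_range] at k1
  have k2 := k1 m0 hm0 m1 hm1 m2 hm2
  unfold chk at k2
  rw [e1, e2, e3] at k2
  simp only [beq_self_eq_true, if_true] at k2
  have := powchk_sound k2
  rw [dM_mkN hn0 hn1 hn2 hm0 hm1 hm2] at this
  exact this

/-- every unitary matrix of determinant one has order dividing 7, 8 or 12. -/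
theorem unitary_pow (M : Matrix (Fin 3) (Fin 3) F9) (hU : Mᵀ * M.map (· ^ 3) = 1)
    (hdet : M.det = 1) : M ^ 7 = 1 ∨ M ^ 8 = 1 ∨ M ^ 12 = 1 := by
  have hadj : M.map (· ^ 3) = (Matrix.adjugate M)ᵀ := by
    have h1 : (Matrix.adjugate M)ᵀ * Mᵀ = 1 := by
      rw [← Matrix.transpose_mul, Matrix.mul_adjugate, hdet, one_smul, Matrix.transpose_one]
    calc M.map (· ^ 3) = ((Matrix.adjugate M)ᵀ * Mᵀ) * M.map (· ^ 3) := by rw [h1, Matrix.one_mul]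
      _ = (Matrix.adjugate M)ᵀ := by rw [Matrix.mul_assoc, hU, Matrix.mul_one]
  have hM : M = mkF (M 0 0) (M 1 0) (M 2 0) (M 0 1) (M 1 1) (M 2 1) := by
    have c0 := congrFun (congrFun hadj 0) 2
    have c1 := congrFun (congrFun hadj 1) 2
    have c2 := congrFun (congrFun hadj 2) 2
    rw [Matrix.adjugate_fin_three] at c0 c1 c2
    simp only [Matrix.map_apply, Matrix.transpose_apply, Matrix.of_apply, Matrix.cons_val',
      Matrix.cons_val_zero, Matrix.cons_val_one, Matrix.cons_val_two, Matrix.empty_val',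
      Matrix.cons_val_fin_one, Matrix.head_cons, Matrix.tail_cons] at c0 c1 c2
    have c0' : M 0 2 ^ 3 = M 1 0 * M 2 1 - M 1 1 * M 2 0 := c0
    have c1' : M 1 2 ^ 3 = -(M 0 0 * M 2 1) + M 0 1 * M 2 0 := c1
    have c2' : M 2 2 ^ 3 = M 0 0 * M 1 1 - M 0 1 * M 1 0 := c2
    have e0 : M 0 2 = (M 1 0 * M 2 1 - M 2 0 * M 1 1) ^ 3 := by
      rw [← pow_nine (M 0 2), c0']
      ring
    have e1 : M 1 2 = (M 2 0 * M 0 1 - M 0 0 * M 2 1) ^ 3 := by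
      rw [← pow_nine (M 1 2), c1']
      ring
    have e2 : M 2 2 = (M 0 0 * M 1 1 - M 1 0 * M 0 1) ^ 3 := by
      rw [← pow_nine (M 2 2), c2']
      ring
    unfold mkF
    rw [← e0, ← e1, ← e2]
    exact Matrix.eta_fin_three M
  have u00 := congrFun (congrFun hU 0) 0
  have u10 := congrFun (congrFun hU 1) 0
  have u11 := congrFun (congrFun hU 1) 1
  rw [Matrix.mul_apply, Fin.sum_univ_three] at u00 u10 u11
  simp only [Matrix.transpose_apply, Matrix.map_apply, Matrix.one_apply_eq] at u00 u10 u11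
  rw [hM]
  apply enum_F9
  · exact u00
  · rw [Matrix.one_apply_ne (by decide)] at u10
    exact u10
  · exact u11

end Cfsg.Agent.Helper4.U33E
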