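import Mathlib
import Cfsg.Prelude.Def_Classical
import Cfsg.Agent.Helper4.U33Sound
import Cfsg.Agent.Helper4.SolvSpec
import Cfsg.Agent.Helper5.SUMap
import Cfsg.Agent.S0827

/-!
# The set of element orders of `PSU₃(3)` is `{1, 2, 3, 4, 6, 7, 8, 12}`
-/

set_option autoImplicit false

namespace Cfsg.Agent.Helper4.U33S

open Cfsg.Agent.Helper5.GF9 Matrix Cfsg.Agent.Helper8.SUCenter Cfsg.Agent.Helper4.SolvSpec

theorem hK9 : Fintype.card F9 = 3 ^ 2 := by decide

/-- the special unitary group over the model field. -/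
abbrev SU3 : Type := Cfsg.SU 3 F9 3

/-- the matrix of an element. -/
def mat (g : SU3) : Matrix (Fin 3) (Fin 3) F9 :=
  ((g : Matrix.SpecialLinearGroup (Fin 3) F9) : Matrix (Fin 3) (Fin 3) F9)

theorem mat_injective : Function.Injective mat := fun _ _ h => Subtype.ext (Subtype.ext h)

theorem mat_mul (a b : SU3) : mat (a * b) = mat a * mat b := rfl

theorem mat_one : mat 1 = 1 := rfl

theorem mat_pow (a : SU3) (n : ℕ) : mat (a ^ n) = mat a ^ n := by
  induction n with
  | zero => rfl
  | succ n ih => rw [pow_succ, pow_succ, mat_mul, ih]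

theorem mat_unitary (g : SU3) : (mat g)ᵀ * (mat g).map (· ^ 3) = 1 :=
  (mem_SU_iff hK9 g.1).mp g.2

theorem mat_det (g : SU3) : (mat g).det = 1 := g.1.2

theorem pow_eq_one_of_mat {s : SU3} {n : ℕ} (h : mat s ^ n = 1) : s ^ n = 1 := by
  apply mat_injective
  rw [mat_pow, h]
  rfl

theorem pow_ne_one_of_mat {s : SU3} {n : ℕ} (h : mat s ^ n ≠ 1) : s ^ n ≠ 1 := by
  intro h1
  apply h
  rw [← mat_pow, h1]
  rfl

/-- every element has order dividing 7, 8 or 12. -/
theorem SU3_pow (s : SU3) : s ^ 7 = 1 ∨ s ^ 8 = 1 ∨ s ^ 12 = 1 := by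
  rcases Cfsg.Agent.Helper4.U33E.unitary_pow (mat s) (mat_unitary s) (mat_det s) with h | h | h
  · exact Or.inl (pow_eq_one_of_mat h)
  · exact Or.inr (Or.inl (pow_eq_one_of_mat h))
  · exact Or.inr (Or.inr (pow_eq_one_of_mat h))

/-- a matrix over the field with nine elements from a table of numbers `0, …, 8`. -/
def mk3 (l : List (List ℕ)) : Matrix (Fin 3) (Fin 3) F9 :=
  fun i j => F9.ofN ((l.getD i.val []).getD j.val 0)

/-- a matrix of order 7. -/
def B7 : Matrix (Fin 3) (Fin 3) F9 := mk3 [[0, 4, 5], [0, 4, 7], [1, 0, 0]]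

/-- a matrix of order 8. -/
def B8 : Matrix (Fin 3) (Fin 3) F9 := mk3 [[0, 0, 3], [0, 3, 0], [1, 0, 0]]

/-- a matrix of order 12. -/
def B12 : Matrix (Fin 3) (Fin 3) F9 := mk3 [[0, 4, 4], [0, 5, 7], [1, 0, 0]]

set_option maxRecDepth 100000 in
theorem B7_unitary : B7ᵀ * B7.map (· ^ 3) = 1 := by decide +kernel

set_option maxRecDepth 100000 in
theorem B8_unitary : B8ᵀ * B8.map (· ^ 3) = 1 := by decide +kernel

set_option maxRecDepth 100000 in
theorem B12_unitary : B12ᵀ * B12.map (· ^ 3) = 1 := by decide +kernel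

set_option maxRecDepth 100000 in
theorem B7_det : B7.det = 1 := by rw [Matrix.det_fin_three]; decide +kernel

set_option maxRecDepth 100000 in
theorem B8_det : B8.det = 1 := by rw [Matrix.det_fin_three]; decide +kernel

set_option maxRecDepth 100000 in
theorem B12_det : B12.det = 1 := by rw [Matrix.det_fin_three]; decide +kernel

set_option maxRecDepth 100000 in
theorem B7_facts : B7 ^ 7 = 1 ∧ B7 ≠ 1 := by decide +kernel

set_option maxRecDepth 100000 in
theorem B8_facts : B8 ^ 8 = 1 ∧ B8 ^ 4 ≠ 1 := by decide +kernel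

set_option maxRecDepth 100000 in
theorem B12_facts : B12 ^ 12 = 1 ∧ B12 ^ 6 ≠ 1 ∧ B12 ^ 4 ≠ 1 := by decide +kernel

/-- an element of order 7. -/
def s7 : SU3 := mkSU hK9 B7 B7_unitary B7_det

/-- an element of order 8. -/
def s8 : SU3 := mkSU hK9 B8 B8_unitary B8_det

/-- an element of order 12. -/
def s12 : SU3 := mkSU hK9 B12 B12_unitary B12_det

theorem orderOf_s7 : orderOf s7 = 7 := by
  apply order_eq_seven
  · exact pow_eq_one_of_mat (s := s7) B7_facts.1
  · intro h
    exact B7_facts.2 (congrArg mat h)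

theorem orderOf_s8 : orderOf s8 = 8 :=
  order_eq_eight (pow_eq_one_of_mat (s := s8) B8_facts.1) (pow_ne_one_of_mat (s := s8) B8_facts.2)

theorem orderOf_s12 : orderOf s12 = 12 :=
  order_eq_twelve (pow_eq_one_of_mat (s := s12) B12_facts.1)
    (pow_ne_one_of_mat (s := s12) B12_facts.2.1) (pow_ne_one_of_mat (s := s12) B12_facts.2.2)

theorem center_eq_bot : Subgroup.center SU3 = ⊥ := by
  apply Subgroup.eq_bot_of_card_eq
  rw [card_center hK9 (by norm_num)]
  decide

section transfer

variable {F : Type*} [Field F] [Fintype F]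

/-- the model field is the given field with nine elements. -/
noncomputable def e9 (hF : Fintype.card F = 9) : F9 ≃+* F :=
  FiniteField.ringEquivOfCardEq (by rw [F9.card_eq, hF])

/-- the isomorphism from the special unitary group over the model field to the projective
special unitary group over the given field. -/
noncomputable def theta (hF : Fintype.card F = 9) : SU3 →* Cfsg.PSU 3 F 3 :=
  (Cfsg.Agent.S0827.psuEquiv (e9 hF) 3 3).toMonoidHom.comp
    (QuotientGroup.mk' (Subgroup.center SU3))

theorem theta_injective (hF : Fintype.card F = 9) : Function.Injective (theta hF) := by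
  have h1 : Function.Injective (QuotientGroup.mk' (Subgroup.center SU3)) := by
    rw [← MonoidHom.ker_eq_bot_iff, QuotientGroup.ker_mk', center_eq_bot]
  have h := Function.Injective.comp (Cfsg.Agent.S0827.psuEquiv (e9 hF) 3 3).injective h1
  exact h

theorem theta_surjective (hF : Fintype.card F = 9) : Function.Surjective (theta hF) := by
  have h := Function.Surjective.comp (Cfsg.Agent.S0827.psuEquiv (e9 hF) 3 3).surjective
    (QuotientGroup.mk'_surjective (Subgroup.center SU3))
  exact h

/-- the set of element orders of `PSU₃(3)`. -/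
theorem range_orderOf_PSU (hF : Fintype.card F = 9) :
    Set.range (orderOf : Cfsg.PSU 3 F 3 → ℕ) = {1, 2, 3, 4, 6, 7, 8, 12} := by
  apply range_orderOf (fun g => ?_) (theta hF s7) (theta hF s8) (theta hF s12)
  · rw [orderOf_injective _ (theta_injective hF), orderOf_s7]
  · rw [orderOf_injective _ (theta_injective hF), orderOf_s8]
  · rw [orderOf_injective _ (theta_injective hF), orderOf_s12]
  · obtain ⟨s, rfl⟩ := theta_surjective hF g
    rcases SU3_pow s with h | h | h
    · left; rw [← map_pow, h, map_one]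
    · right; left; rw [← map_pow, h, map_one]
    · right; right; rw [← map_pow, h, map_one]

end transfer

end Cfsg.Agent.Helper4.U33S
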