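import Mathlib

set_option autoImplicit false

namespace Cfsg.Agent.Helper4

open MulAction

section Witt

variable {X : Type*}

/-- an embedding with two prescribed values -/
theorem exists_embedding_two (k : ℕ) (hk : 2 ≤ k) (hkX : Nonempty (Fin k ↪ X)) (x z : X)
    (hxz : x ≠ z) : ∃ a : Fin k ↪ X, a ⟨0, by omega⟩ = x ∧ a ⟨1, by omega⟩ = z := by
  classical
  obtain ⟨e⟩ := hkX
  obtain ⟨σ₁, hσ₁⟩ : ∃ σ₁ : Equiv.Perm X, σ₁ = Equiv.swap (e ⟨0, by omega⟩) x := ⟨_, rfl⟩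
  have h01 : e ⟨0, by omega⟩ ≠ e ⟨1, by omega⟩ := by
    intro h
    have := e.injective h
    simp [Fin.ext_iff] at this
  have h1 : σ₁ (e ⟨0, by omega⟩) = x := by rw [hσ₁, Equiv.swap_apply_left]
  have h2 : σ₁ (e ⟨1, by omega⟩) ≠ x := by
    intro h
    rw [← h1] at h
    exact h01 (σ₁.injective h).symm
  obtain ⟨σ₂, hσ₂⟩ : ∃ σ₂ : Equiv.Perm X, σ₂ = Equiv.swap (σ₁ (e ⟨1, by omega⟩)) z := ⟨_, rfl⟩
  have h3 : σ₂ x = x := by
    rw [hσ₂]
    exact Equiv.swap_apply_of_ne_of_ne (Ne.symm h2) hxz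
  refine ⟨e.trans (σ₂ * σ₁).toEmbedding, ?_, ?_⟩
  · show σ₂ (σ₁ (e ⟨0, by omega⟩)) = x
    rw [h1, h3]
  · show σ₂ (σ₁ (e ⟨1, by omega⟩)) = z
    rw [hσ₂, Equiv.swap_apply_left]

variable (G : Subgroup (Equiv.Perm (Option X))) (hfix : ∀ f ∈ G, f none = none)
  (k : ℕ) (hk : 2 ≤ k) (hkX : Nonempty (Fin k ↪ X))
  (htrans : ∀ a b : Fin k ↪ X, ∃ f ∈ G, ∀ i, f (some (a i)) = some (b i))

include hfix in
theorem witt_some_some (f : Equiv.Perm (Option X)) (hf : f ∈ G) (z : X) :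
    ∃ w : X, f (some z) = some w := by
  rcases hfz : f (some z) with _ | w
  · exfalso
    have := f.injective (hfz.trans (hfix f hf).symm)
    exact Option.some_ne_none z this
  · exact ⟨w, rfl⟩

include hk hkX htrans in
/-- two-point transitivity of `G` on `X` -/
theorem witt_two_trans (x z w : X) (hz : x ≠ z) (hw : x ≠ w) :
    ∃ f ∈ G, f (some x) = some x ∧ f (some z) = some w := by
  obtain ⟨a, ha0, ha1⟩ := exists_embedding_two k hk hkX x z hz
  obtain ⟨b, hb0, hb1⟩ := exists_embedding_two k hk hkX x w hw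
  obtain ⟨f, hf, hfab⟩ := htrans a b
  refine ⟨f, hf, ?_, ?_⟩
  · have := hfab ⟨0, by omega⟩
    rwa [ha0, hb0] at this
  · have := hfab ⟨1, by omega⟩
    rwa [ha1, hb1] at this

include hk hkX htrans in
theorem witt_one_trans (z w : X) : ∃ f ∈ G, f (some z) = some w := by
  classical
  -- pick a third point if necessary
  obtain ⟨e⟩ := hkX
  by_cases hzw : z = w
  · exact ⟨1, G.one_mem, by rw [hzw]; rfl⟩
  · -- use an embedding with first value z and one with first value w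
    obtain ⟨a, ha0, -⟩ := exists_embedding_two k hk ⟨e⟩ z w hzw
    obtain ⟨b, hb0, -⟩ := exists_embedding_two k hk ⟨e⟩ w z (Ne.symm hzw)
    obtain ⟨f, hf, hfab⟩ := htrans a b
    refine ⟨f, hf, ?_⟩
    have := hfab ⟨0, by omega⟩
    rwa [ha0, hb0] at this

end Witt

end Cfsg.Agent.Helper4
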