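import Cfsg.Agent.Helper4.WittExtA

set_option autoImplicit false

namespace Cfsg.Agent.Helper4

open MulAction

section WittB

variable {X : Type*} (G : Subgroup (Equiv.Perm (Option X)))
  (h : Equiv.Perm (Option X))

/-- the double coset predicate `G ∪ G h G` -/
def WittT (f : Equiv.Perm (Option X)) : Prop := f ∈ G ∨ ∃ a ∈ G, ∃ b ∈ G, f = a * h * b

theorem wittT_of_mem {f : Equiv.Perm (Option X)} (hf : f ∈ G) : WittT G h f := Or.inl hf

theorem wittT_self : WittT G h h := Or.inr ⟨1, G.one_mem, 1, G.one_mem, by group⟩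

theorem wittT_mul_mem {f : Equiv.Perm (Option X)} (hf : WittT G h f)
    {a d : Equiv.Perm (Option X)} (ha : a ∈ G) (hd : d ∈ G) : WittT G h (a * f * d) := by
  rcases hf with hf | ⟨a', ha', b', hb', rfl⟩
  · exact Or.inl (G.mul_mem (G.mul_mem ha hf) hd)
  · exact Or.inr ⟨a * a', G.mul_mem ha ha', b' * d, G.mul_mem hb' hd, by group⟩

theorem wittT_inv (h7 : h ^ 2 ∈ G) {f : Equiv.Perm (Option X)} (hf : WittT G h f) :
    WittT G h f⁻¹ := by
  rcases hf with hf | ⟨a, ha, b, hb, rfl⟩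
  · exact Or.inl (G.inv_mem hf)
  · exact Or.inr ⟨b⁻¹, G.inv_mem hb, (h ^ 2)⁻¹ * a⁻¹, G.mul_mem (G.inv_mem h7) (G.inv_mem ha),
      by group⟩

theorem wittT_mul (hhfh : ∀ f ∈ G, WittT G h (h * f * h))
    {f₁ f₂ : Equiv.Perm (Option X)} (hf₁ : WittT G h f₁) (hf₂ : WittT G h f₂) :
    WittT G h (f₁ * f₂) := by
  rcases hf₁ with hf₁ | ⟨a, ha, b, hb, rfl⟩
  · have := wittT_mul_mem G h hf₂ hf₁ G.one_mem
    rwa [mul_one] at this
  · rcases hf₂ with hf₂ | ⟨c, hc, d, hd, rfl⟩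
    · exact Or.inr ⟨a, ha, b * f₂, G.mul_mem hb hf₂, by group⟩
    · have := wittT_mul_mem G h (hhfh (b * c) (G.mul_mem hb hc)) ha hd
      have e : a * h * b * (c * h * d) = a * (h * (b * c) * h) * d := by group
      rwa [e]

variable (hfix : ∀ f ∈ G, f none = none)
  (k : ℕ) (hk : 2 ≤ k) (hkX : Nonempty (Fin k ↪ X))
  (htrans : ∀ a b : Fin k ↪ X, ∃ f ∈ G, ∀ i, f (some (a i)) = some (b i))
  (g : Equiv.Perm (Option X)) (hg : g ∈ G) (x y : X)
  (h1 : h none = some x) (h2 : h (some x) = none) (h3 : h (some y) = some y)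
  (h4 : g (some x) = some y) (h5 : g (some y) = some x)
  (h6 : (g * h) ^ 3 ∈ G) (h7 : h ^ 2 ∈ G)
  (h8 : ∀ f ∈ G, f (some x) = some x → h * f * h ∈ G ∧ (h * f * h) (some x) = some x)

include hfix hk hkX htrans hg h2 h3 h4 h6 h7 h8 in
theorem wittT_hfh (f : Equiv.Perm (Option X)) (hf : f ∈ G) : WittT G h (h * f * h) := by
  obtain ⟨z, hz⟩ := witt_some_some G hfix f hf x
  by_cases hzx : z = x
  · rw [hzx] at hz
    exact Or.inl (h8 f hf hz).1
  · have hxy : x ≠ y := by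
      intro hxy
      rw [← hxy, h2] at h3
      exact Option.some_ne_none x h3.symm
    obtain ⟨a, ha, hax, hay⟩ := witt_two_trans G k hk hkX htrans x y z hxy (Ne.symm hzx)
    obtain ⟨b, hbdef⟩ : ∃ b, b = g⁻¹ * a⁻¹ * f := ⟨_, rfl⟩
    have hb : b ∈ G := by
      rw [hbdef]
      exact G.mul_mem (G.mul_mem (G.inv_mem hg) (G.inv_mem ha)) hf
    have hbx : b (some x) = some x := by
      rw [hbdef]
      show g.symm (a.symm (f (some x))) = some x
      rw [hz, ← hay, Equiv.symm_apply_apply, ← h4, Equiv.symm_apply_apply]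
    have hfab : f = a * g * b := by
      rw [hbdef]; group
    have e : h * (a * g * b) * h = ((h * a * h) * (h ^ 2)⁻¹ * g⁻¹ * (g * h) ^ 3) * h *
        ((h ^ 2)⁻¹ * g⁻¹ * (h ^ 2)⁻¹ * (h * b * h)) := by
      simp only [pow_succ, pow_zero, one_mul]
      group
    refine Or.inr ⟨(h * a * h) * (h ^ 2)⁻¹ * g⁻¹ * (g * h) ^ 3, ?_,
      (h ^ 2)⁻¹ * g⁻¹ * (h ^ 2)⁻¹ * (h * b * h), ?_, ?_⟩
    · exact G.mul_mem (G.mul_mem (G.mul_mem (h8 a ha hax).1 (G.inv_mem h7)) (G.inv_mem hg)) h6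
    · exact G.mul_mem (G.mul_mem (G.mul_mem (G.inv_mem h7) (G.inv_mem hg)) (G.inv_mem h7))
        (h8 b hb hbx).1
    · rw [hfab, e]

include hfix hk hkX htrans hg h2 h3 h4 h6 h7 h8 in
theorem witt_closure_le (f : Equiv.Perm (Option X))
    (hf : f ∈ Subgroup.closure ((G : Set (Equiv.Perm (Option X))) ∪ {h})) : WittT G h f := by
  have hhfh := wittT_hfh G h hfix k hk hkX htrans g hg x y h2 h3 h4 h6 h7 h8
  induction hf using Subgroup.closure_induction with
  | mem f hf =>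
    rcases hf with hf | hf
    · exact Or.inl hf
    · rw [Set.mem_singleton_iff] at hf
      rw [hf]
      exact wittT_self G h
  | one => exact Or.inl G.one_mem
  | mul f₁ f₂ _ _ ih₁ ih₂ => exact wittT_mul G h hhfh ih₁ ih₂
  | inv f _ ih => exact wittT_inv G h h7 ih

include hfix h1 in
theorem wittT_none {f : Equiv.Perm (Option X)} (hf : WittT G h f) (hfn : f none = none) :
    f ∈ G := by
  rcases hf with hf | ⟨a, ha, b, hb, rfl⟩
  · exact hf
  · exfalso
    have : a (h (b none)) = none := hfn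
    rw [hfix b hb, h1] at this
    obtain ⟨w, hw⟩ := witt_some_some G hfix a ha x
    rw [hw] at this
    exact Option.some_ne_none w this

end WittB

end Cfsg.Agent.Helper4
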