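import Mathlib

/-!
# Imprimitive wreath products: the fibre-preserving subgroup

`Pres f` : permutations of `Ω` preserving the partition into fibres of `f : Ω → ι`.
`Wev f = Pres f ⊓ alternatingGroup Ω`.
-/

set_option autoImplicit false
set_option linter.unusedSectionVars false

namespace Cfsg.Agent.Helper4.Wr

open Equiv

variable {Ω ι : Type*} [Fintype Ω] [DecidableEq Ω] (f : Ω → ι)

/-- The permutations preserving the fibre partition of `f`. -/
def Pres : Subgroup (Equiv.Perm Ω) where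
  carrier := {g | ∀ x y, f x = f y ↔ f (g x) = f (g y)}
  one_mem' := by intro x y; simp
  mul_mem' := by
    intro g h hg hh x y
    rw [hh x y, hg (h x) (h y)]
    simp [Equiv.Perm.mul_apply]
  inv_mem' := by
    intro g hg x y
    have h := hg (g⁻¹ x) (g⁻¹ y)
    simp only [Equiv.Perm.coe_inv, Equiv.apply_symm_apply] at h
    exact h.symm

theorem mem_Pres {g : Equiv.Perm Ω} :
    g ∈ Pres f ↔ ∀ x y, f x = f y ↔ f (g x) = f (g y) := Iff.rfl

theorem closure_eq_Pres :
    Subgroup.closure {g : Equiv.Perm Ω | ∀ x y : Ω, f x = f y ↔ f (g x) = f (g y)} = Pres f :=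
  Subgroup.closure_eq (Pres f)

/-- The even fibre-preserving permutations. -/
def Wev : Subgroup (Equiv.Perm Ω) := Pres f ⊓ alternatingGroup Ω

theorem mem_Wev {g : Equiv.Perm Ω} :
    g ∈ Wev f ↔ g ∈ Pres f ∧ Equiv.Perm.sign g = 1 := by
  unfold Wev
  rw [Subgroup.mem_inf, Equiv.Perm.mem_alternatingGroup]

theorem Wev_le_Pres : Wev f ≤ Pres f := inf_le_left

theorem Wev_le_alt : Wev f ≤ alternatingGroup Ω := inf_le_right

theorem mem_Pres_of_tau {g : Equiv.Perm Ω} (τ : Equiv.Perm ι)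
    (h : ∀ u, f (g u) = τ (f u)) : g ∈ Pres f := by
  intro x y
  rw [h, h]
  exact τ.injective.eq_iff.symm

theorem mem_Pres_of_fix {g : Equiv.Perm Ω}
    (h : ∀ u, f (g u) = f u) : g ∈ Pres f := by
  apply mem_Pres_of_tau f (1 : Equiv.Perm ι)
  intro u; simpa using h u

theorem swap_mem_Pres {u v : Ω} (h : f u = f v) : swap u v ∈ Pres f := by
  apply mem_Pres_of_fix
  intro z
  rw [Equiv.swap_apply_def]
  split_ifs with h1 h2
  · rw [h1, h]
  · rw [h2, h]
  · rfl

theorem Pres_apply_eq {g : Equiv.Perm Ω} (hg : g ∈ Pres f) {x y : Ω} (h : f x = f y) :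
    f (g x) = f (g y) := (hg x y).1 h

theorem Pres_apply_ne {g : Equiv.Perm Ω} (hg : g ∈ Pres f) {x y : Ω} (h : f x ≠ f y) :
    f (g x) ≠ f (g y) := fun h' => h ((hg x y).2 h')

/-- Product of two nontrivial same-fibre swaps is in `Wev`. -/
theorem swap_mul_swap_mem_Wev {u u₂ v v₂ : Ω} (hu : u ≠ u₂) (hfu : f u = f u₂)
    (hv : v ≠ v₂) (hfv : f v = f v₂) : swap u u₂ * swap v v₂ ∈ Wev f := by
  rw [mem_Wev]
  refine ⟨(Pres f).mul_mem (swap_mem_Pres f hfu) (swap_mem_Pres f hfv), ?_⟩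
  rw [map_mul, Equiv.Perm.sign_swap hu, Equiv.Perm.sign_swap hv]
  simp

/-- Parity fix: for `g ∈ Pres f` and a same-fibre pair `u ≠ v`, either `g` or `swap u v * g`
is in `Wev`. -/
theorem parity_fix {g : Equiv.Perm Ω} (hg : g ∈ Pres f) {u v : Ω} (huv : u ≠ v)
    (hf : f u = f v) : g ∈ Wev f ∨ swap u v * g ∈ Wev f := by
  rcases Int.units_eq_one_or (Equiv.Perm.sign g) with h | h
  · left; exact (mem_Wev f).2 ⟨hg, h⟩
  · right
    rw [mem_Wev]
    refine ⟨(Pres f).mul_mem (swap_mem_Pres f hf) hg, ?_⟩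
    rw [map_mul, Equiv.Perm.sign_swap huv, h]
    simp

/-- Parity fix, existential form: if the swap `u v` fixes `g x`-targets we keep the values. -/
theorem exists_Wev_of_Pres {g : Equiv.Perm Ω} (hg : g ∈ Pres f) {u v : Ω} (huv : u ≠ v)
    (hf : f u = f v) :
    ∃ g' ∈ Wev f, ∀ z, g z ≠ u → g z ≠ v → g' z = g z := by
  rcases parity_fix f hg huv hf with h | h
  · exact ⟨g, h, fun z _ _ => rfl⟩
  · refine ⟨swap u v * g, h, fun z h1 h2 => ?_⟩
    rw [Equiv.Perm.mul_apply, Equiv.swap_apply_of_ne_of_ne h1 h2]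

/-- A three-cycle inside a fibre lies in `Wev`. -/
theorem threeCycle_mem_Wev {x y z : Ω} (hxy : x ≠ y) (hxz : x ≠ z)
    (hfy : f x = f y) (hfz : f x = f z) : swap x y * swap x z ∈ Wev f :=
  swap_mul_swap_mem_Wev f hxy hfy hxz hfz

end Cfsg.Agent.Helper4.Wr
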