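import Cfsg.Agent.Helper4.WrA

/-!
# Coordinates on a uniform partition, transitivity of `Wev`, blocks of `Wev`
-/

set_option autoImplicit false
set_option linter.unusedSectionVars false

namespace Cfsg.Agent.Helper4.Wr

open Equiv
open scoped Pointwise

variable {Ω ι A : Type*} [Fintype Ω] [DecidableEq Ω] [DecidableEq ι] (f : Ω → ι)
  (Φ : Ω ≃ ι × A) (hΦ : ∀ x, (Φ x).1 = f x)

/-- lift a permutation of the index set to `Ω` through the coordinates `Φ`. -/
def liftP (τ : Equiv.Perm ι) : Equiv.Perm Ω :=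
  (Φ.trans (Equiv.prodCongr τ (Equiv.refl A))).trans Φ.symm

theorem liftP_apply (τ : Equiv.Perm ι) (x : Ω) :
    liftP Φ τ x = Φ.symm (τ (Φ x).1, (Φ x).2) := rfl

include hΦ in
theorem f_liftP (τ : Equiv.Perm ι) (x : Ω) : f (liftP Φ τ x) = τ (f x) := by
  rw [← hΦ, liftP_apply, Equiv.apply_symm_apply, hΦ]

include hΦ in
theorem liftP_fix (τ : Equiv.Perm ι) (x : Ω) (h : τ (f x) = f x) : liftP Φ τ x = x := by
  rw [liftP_apply, hΦ, h, ← hΦ]
  exact Φ.symm_apply_apply x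

include hΦ in
theorem liftP_mem (τ : Equiv.Perm ι) : liftP Φ τ ∈ Pres f :=
  mem_Pres_of_tau f τ (f_liftP f Φ hΦ τ)

include hΦ in
theorem exists_partner [Nontrivial A] (x : Ω) : ∃ x', x' ≠ x ∧ f x' = f x := by
  obtain ⟨c, hc⟩ := exists_ne (Φ x).2
  refine ⟨Φ.symm ((Φ x).1, c), ?_, ?_⟩
  · intro h
    apply hc
    have := congrArg Φ h
    rw [Equiv.apply_symm_apply] at this
    exact (congrArg Prod.snd this)
  · rw [← hΦ, Equiv.apply_symm_apply, hΦ]

include hΦ in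
theorem exists_in_fibre [Nonempty A] (i : ι) : ∃ x, f x = i := by
  obtain ⟨c⟩ := ‹Nonempty A›
  exact ⟨Φ.symm (i, c), by rw [← hΦ, Equiv.apply_symm_apply]⟩

include hΦ in
theorem exists_pair_in_fibre [Nontrivial A] (i : ι) :
    ∃ u v, u ≠ v ∧ f u = i ∧ f v = i := by
  obtain ⟨u, hu⟩ := exists_in_fibre f Φ hΦ i
  obtain ⟨v, hv, hfv⟩ := exists_partner f Φ hΦ u
  exact ⟨u, v, hv.symm, hu, hfv.trans hu⟩

include hΦ in
/-- `Wev` is transitive. -/
theorem Wev_trans [Nontrivial A] [Nontrivial ι] (x y : Ω) : ∃ g ∈ Wev f, g x = y := by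
  by_cases hxy : x = y
  · exact ⟨1, (Wev f).one_mem, by simp [hxy]⟩
  by_cases hf : f x = f y
  · obtain ⟨i, hi⟩ := exists_ne (f x)
    obtain ⟨u, v, huv, hu, hv⟩ := exists_pair_in_fibre f Φ hΦ i
    refine ⟨swap x y * swap u v, swap_mul_swap_mem_Wev f hxy hf huv (hu.trans hv.symm), ?_⟩
    have h1 : x ≠ u := fun h => hi (by rw [← hu, h])
    have h2 : x ≠ v := fun h => hi (by rw [← hv, h])
    rw [Equiv.Perm.mul_apply, Equiv.swap_apply_of_ne_of_ne h1 h2, Equiv.swap_apply_left]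
  · -- different fibres
    set g₀ := liftP Φ (swap (f x) (f y)) with hg₀
    have hg₀m : g₀ ∈ Pres f := liftP_mem f Φ hΦ _
    have hz : f (g₀ x) = f y := by
      rw [hg₀, f_liftP f Φ hΦ, Equiv.swap_apply_left]
    set g₁ := swap (g₀ x) y * g₀ with hg₁
    have hg₁m : g₁ ∈ Pres f := (Pres f).mul_mem (swap_mem_Pres f hz) hg₀m
    have hg₁x : g₁ x = y := by
      rw [hg₁, Equiv.Perm.mul_apply, Equiv.swap_apply_left]
    obtain ⟨u, v, huv, hu, hv⟩ := exists_pair_in_fibre f Φ hΦ (f x)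
    obtain ⟨g', hg', hval⟩ := exists_Wev_of_Pres f hg₁m huv (hu.trans hv.symm)
    refine ⟨g', hg', ?_⟩
    rw [hval x, hg₁x]
    · rw [hg₁x]; intro h; exact hf (by rw [← hu, h])
    · rw [hg₁x]; intro h; exact hf (by rw [← hv, h])

/-- bridging lemma: an element of `K` sending a point of the block `B` into `B` maps `B` to `B`. -/
theorem block_map {K : Subgroup (Equiv.Perm Ω)} {B : Set Ω} (hB : MulAction.IsBlock K B)
    {g : Equiv.Perm Ω} (hg : g ∈ K) {a : Ω} (ha : a ∈ B) (hga : g a ∈ B) {z : Ω} (hz : z ∈ B) :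
    g z ∈ B := by
  have h := hB.smul_eq_of_mem (g := ⟨g, hg⟩) ha hga
  have h2 : (⟨g, hg⟩ : K) • z ∈ (⟨g, hg⟩ : K) • B := Set.smul_mem_smul_set hz
  rw [h] at h2
  exact h2

/-- (i) a block containing two points of a fibre contains the whole fibre. -/
theorem blk_same {K : Subgroup (Equiv.Perm Ω)} (hWK : Wev f ≤ K) {B : Set Ω}
    (hB : MulAction.IsBlock K B) {x y : Ω} (hx : x ∈ B) (hy : y ∈ B) (hxy : x ≠ y)
    (hf : f x = f y) {z : Ω} (hz : f z = f x) : z ∈ B := by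
  by_cases hzx : z = x
  · rw [hzx]; exact hx
  by_cases hzy : z = y
  · rw [hzy]; exact hy
  have hc : swap x z * swap x y ∈ Wev f :=
    threeCycle_mem_Wev f (Ne.symm hzx) hxy hz.symm hf
  have h1 : (swap x z * swap x y) x = y := by
    rw [Equiv.Perm.mul_apply, Equiv.swap_apply_left,
      Equiv.swap_apply_of_ne_of_ne (Ne.symm hxy) (Ne.symm hzy)]
  have h2 : (swap x z * swap x y) y = z := by
    rw [Equiv.Perm.mul_apply, Equiv.swap_apply_right, Equiv.swap_apply_left]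
  have := block_map hB (hWK hc) hx (by rw [h1]; exact hy) hy
  rwa [h2] at this

end Cfsg.Agent.Helper4.Wr
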