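import Cfsg.Agent.Helper4.WrB

/-!
# Blocks of `Wev` are fibres; overgroups not preserving fibres are primitive
-/

set_option autoImplicit false
set_option linter.unusedSectionVars false

namespace Cfsg.Agent.Helper4.Wr

open Equiv
open scoped Pointwise

variable {Ω ι A : Type*} [Fintype Ω] [DecidableEq Ω] [DecidableEq ι] (f : Ω → ι)
  (Φ : Ω ≃ ι × A) (hΦ : ∀ x, (Φ x).1 = f x)

/-- The "avoiding pair" hypothesis, true unless all fibres have size two and there are
two of them. -/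
def Avoid : Prop :=
  ∀ x z : Ω, f x ≠ f z → ∃ u v, u ≠ v ∧ f u = f v ∧ u ≠ x ∧ v ≠ x ∧ u ≠ z ∧ v ≠ z

/-- (ii-a) -/
theorem blk_diff_a (hAV : Avoid f) {K : Subgroup (Equiv.Perm Ω)} (hWK : Wev f ≤ K) {B : Set Ω}
    (hB : MulAction.IsBlock K B) {x y : Ω} (hx : x ∈ B) (hy : y ∈ B)
    (hf : f y ≠ f x) {z : Ω} (hz : f z = f y) : z ∈ B := by
  by_cases hzy : z = y
  · rw [hzy]; exact hy
  have hxz : f x ≠ f z := fun h => hf (by rw [← hz, h])
  obtain ⟨u, v, huv, hfuv, hux, hvx, huz, hvz⟩ := hAV x z hxz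
  have hg : swap y z ∈ Pres f := swap_mem_Pres f hz.symm
  obtain ⟨g', hg', hval⟩ := exists_Wev_of_Pres f hg huv hfuv
  have hxy : x ≠ y := fun h => hf (by rw [h])
  have hxz' : x ≠ z := fun h => hxz (by rw [h])
  have h1 : swap y z x = x := Equiv.swap_apply_of_ne_of_ne hxy hxz'
  have h2 : swap y z y = z := Equiv.swap_apply_left y z
  have e1 : g' x = x := by
    rw [hval x, h1]
    · rw [h1]; exact Ne.symm hux
    · rw [h1]; exact Ne.symm hvx
  have e2 : g' y = z := by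
    rw [hval y, h2]
    · rw [h2]; exact Ne.symm huz
    · rw [h2]; exact Ne.symm hvz
  have := block_map hB (hWK hg') hx (by rw [e1]; exact hx) hy
  rwa [e2] at this

include hΦ in
/-- (ii-b) -/
theorem blk_diff_b [Nontrivial A] {K : Subgroup (Equiv.Perm Ω)} (hWK : Wev f ≤ K) {B : Set Ω}
    (hB : MulAction.IsBlock K B) {x y : Ω} (hx : x ∈ B) (hy : y ∈ B)
    (hf : f y ≠ f x) {i : ι} (hix : i ≠ f x) (hiy : i ≠ f y) : ∃ z₀ ∈ B, f z₀ = i := by
  set g₀ := liftP Φ (swap (f y) i) with hg₀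
  have hg₀m : g₀ ∈ Pres f := liftP_mem f Φ hΦ _
  have hg₀x : g₀ x = x := by
    apply liftP_fix f Φ hΦ
    exact Equiv.swap_apply_of_ne_of_ne (Ne.symm hf) (Ne.symm hix)
  have hg₀y : f (g₀ y) = i := by
    rw [hg₀, f_liftP f Φ hΦ, Equiv.swap_apply_left]
  obtain ⟨u, v, huv, hu, hv⟩ := exists_pair_in_fibre f Φ hΦ (f y)
  obtain ⟨g', hg', hval⟩ := exists_Wev_of_Pres f hg₀m huv (hu.trans hv.symm)
  have e1 : g' x = x := by
    rw [hval x, hg₀x]
    · rw [hg₀x]; intro h; exact hf (by rw [h, hu])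
    · rw [hg₀x]; intro h; exact hf (by rw [h, hv])
  have e2 : g' y = g₀ y := by
    apply hval y
    · intro h; exact hiy (by rw [← hg₀y, h, hu])
    · intro h; exact hiy (by rw [← hg₀y, h, hv])
  have := block_map hB (hWK hg') hx (by rw [e1]; exact hx) hy
  rw [e2] at this
  exact ⟨g₀ y, this, hg₀y⟩

include hΦ in
/-- (ii) -/
theorem blk_diff [Nontrivial A] (hAV : Avoid f) {K : Subgroup (Equiv.Perm Ω)}
    (hWK : Wev f ≤ K) {B : Set Ω}
    (hB : MulAction.IsBlock K B) {x y : Ω} (hx : x ∈ B) (hy : y ∈ B)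
    (hf : f y ≠ f x) {z : Ω} (hz : f z ≠ f x) : z ∈ B := by
  by_cases hzy : f z = f y
  · exact blk_diff_a f hAV hWK hB hx hy hf hzy
  · obtain ⟨z₀, hz₀, hfz₀⟩ := blk_diff_b f Φ hΦ hWK hB hx hy hf hz hzy
    exact blk_diff_a f hAV hWK hB hx hz₀ (by rw [hfz₀]; exact hz) hfz₀.symm

include hΦ in
/-- (iii) a nontrivial block of (an overgroup of) `Wev` is a fibre. -/
theorem blk_fibre [Nontrivial A] (hAV : Avoid f) {K : Subgroup (Equiv.Perm Ω)}
    (hWK : Wev f ≤ K) {B : Set Ω}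
    (hB : MulAction.IsBlock K B) (hnt : ¬ MulAction.IsTrivialBlock B) {x : Ω} (hx : x ∈ B)
    (z : Ω) : z ∈ B ↔ f z = f x := by
  have hall : ∀ y ∈ B, f y = f x := by
    intro y hy
    by_contra hf
    apply hnt
    right
    apply Set.eq_univ_of_forall
    intro z
    by_cases hz : f z = f x
    · have hzy : f z ≠ f y := fun h => hf (by rw [← h, hz])
      exact blk_diff f Φ hΦ hAV hWK hB hy hx (Ne.symm hf) hzy
    · exact blk_diff f Φ hΦ hAV hWK hB hx hy hf hz
  constructor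
  · exact hall z
  · intro hz
    have hns : ¬ B.Subsingleton := fun h => hnt (Or.inl h)
    rw [Set.not_subsingleton_iff] at hns
    obtain ⟨y, hy, hyx⟩ := hns.exists_ne x
    exact blk_same f hWK hB hx hy (Ne.symm hyx) (hall y hy).symm hz

include hΦ in
/-- (iv) an overgroup of `Wev` that does not preserve the fibres is primitive. -/
theorem prim_of_not_le [Nontrivial A] [Nontrivial ι] (hAV : Avoid f)
    {K : Subgroup (Equiv.Perm Ω)} (hWK : Wev f ≤ K) (hK : ¬ K ≤ Pres f) :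
    MulAction.IsPreprimitive K Ω := by
  have htr : MulAction.IsPretransitive K Ω := by
    constructor
    intro x y
    obtain ⟨g, hg, hgx⟩ := Wev_trans f Φ hΦ x y
    exact ⟨⟨g, hWK hg⟩, hgx⟩
  refine { toIsPretransitive := htr, isTrivialBlock_of_isBlock := ?_ }
  intro B hB
  by_contra hnt
  apply hK
  have hne : B.Nonempty := by
    by_contra h
    rw [Set.not_nonempty_iff_eq_empty] at h
    exact hnt (Or.inl (by rw [h]; exact Set.subsingleton_empty))
  obtain ⟨x, hx⟩ := hne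
  -- key: every `g ∈ K` maps fibres into fibres
  have key : ∀ g ∈ K, ∀ z u : Ω, f u = f z → f (g u) = f (g z) := by
    intro g hg z u huz
    obtain ⟨k, hk, hkx⟩ := Wev_trans f Φ hΦ x z
    have hkK : k ∈ K := hWK hk
    let h' : K := ⟨g * k, K.mul_mem hg hkK⟩
    have hB' : MulAction.IsBlock K (h' • B) := hB.translate h'
    have hnt' : ¬ MulAction.IsTrivialBlock (h' • B) := by
      rw [MulAction.IsTrivialBlock.smul_iff]; exact hnt
    have hgz : g z ∈ h' • B := by
      rw [Set.mem_smul_set]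
      exact ⟨x, hx, by change (g * k) x = g z; rw [Equiv.Perm.mul_apply, hkx]⟩
    have hkinv : k⁻¹ ∈ Pres f := (Pres f).inv_mem (Wev_le_Pres f hk)
    have h1 : f (k⁻¹ u) = f x := by
      have := Pres_apply_eq f hkinv huz
      rw [this, ← hkx]
      simp
    have h2 : k⁻¹ u ∈ B := (blk_fibre f Φ hΦ hAV hWK hB hnt hx _).2 h1
    have hgu : g u ∈ h' • B := by
      rw [Set.mem_smul_set]
      refine ⟨k⁻¹ u, h2, ?_⟩
      change (g * k) (k⁻¹ u) = g u
      rw [Equiv.Perm.mul_apply]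
      simp
    exact (blk_fibre f Φ hΦ hAV hWK hB' hnt' hgz _).1 hgu
  intro g hg x₁ y₁
  constructor
  · intro h
    exact key g hg y₁ x₁ h
  · intro h
    have := key g⁻¹ (K.inv_mem hg) (g y₁) (g x₁) h
    simpa using this

end Cfsg.Agent.Helper4.Wr
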