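import Cfsg.Agent.Helper4.WrC

/-!
# Fibres of size two: producing a three-cycle in a proper overgroup of `Wev`
-/

set_option autoImplicit false
set_option linter.unusedSectionVars false

namespace Cfsg.Agent.Helper4.Wr

open Equiv
open scoped Pointwise

variable {Ω ι : Type*} [Fintype Ω] [DecidableEq Ω] [DecidableEq ι] (f : Ω → ι)

/-- `p` is the partner map of a partition into pairs. -/
def IsPartner (p : Ω → Ω) : Prop :=
  ∀ x, p x ≠ x ∧ f (p x) = f x ∧ ∀ z, f z = f x → z = x ∨ z = p x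

variable {f}

theorem IsPartner.invol {p : Ω → Ω} (hp : IsPartner f p) (x : Ω) : p (p x) = x := by
  obtain ⟨h1, h2, h3⟩ := hp x
  obtain ⟨g1, g2, g3⟩ := hp (p x)
  rcases h3 (p (p x)) (g2.trans h2) with h | h
  · exact h
  · exact absurd h g1

theorem IsPartner.pair_mem {p : Ω → Ω} (hp : IsPartner f p) (z₁ z₂ : Ω) :
    swap z₁ (p z₁) * swap z₂ (p z₂) ∈ Wev f :=
  swap_mul_swap_mem_Wev f (hp z₁).1.symm (hp z₁).2.1.symm (hp z₂).1.symm (hp z₂).2.1.symm

/-- parallel swap of two fibres -/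
theorem IsPartner.par_mem {p : Ω → Ω} (hp : IsPartner f p) {x y : Ω} (hxy : f x ≠ f y) :
    swap x y * swap (p x) (p y) ∈ Wev f := by
  have hxy' : x ≠ y := fun h => hxy (by rw [h])
  have hpxy : p x ≠ p y := fun h => hxy (by rw [← (hp x).2.1, h, (hp y).2.1])
  rw [mem_Wev]
  constructor
  · apply mem_Pres_of_tau f (swap (f x) (f y))
    intro u
    by_cases hux : f u = f x
    · rw [hux, Equiv.swap_apply_left]
      rcases (hp x).2.2 u hux with h | h
      · rw [h, Equiv.Perm.mul_apply]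
        have h1 : x ≠ p x := (hp x).1.symm
        have h2 : x ≠ p y := fun h => hxy (by rw [h, (hp y).2.1])
        rw [Equiv.swap_apply_of_ne_of_ne h1 h2, Equiv.swap_apply_left]
      · rw [h, Equiv.Perm.mul_apply, Equiv.swap_apply_left]
        have h1 : p y ≠ x := fun h => hxy (by rw [← h, (hp y).2.1])
        have h2 : p y ≠ y := (hp y).1
        rw [Equiv.swap_apply_of_ne_of_ne h1 h2, (hp y).2.1]
    · by_cases huy : f u = f y
      · rw [huy, Equiv.swap_apply_right]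
        rcases (hp y).2.2 u huy with h | h
        · rw [h, Equiv.Perm.mul_apply]
          have h1 : y ≠ p x := fun h => hxy (by rw [h, (hp x).2.1])
          have h2 : y ≠ p y := (hp y).1.symm
          rw [Equiv.swap_apply_of_ne_of_ne h1 h2, Equiv.swap_apply_right]
        · rw [h, Equiv.Perm.mul_apply, Equiv.swap_apply_right]
          have h1 : p x ≠ x := (hp x).1
          have h2 : p x ≠ y := fun h => hxy (by rw [← h, (hp x).2.1])
          rw [Equiv.swap_apply_of_ne_of_ne h1 h2, (hp x).2.1]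
      · rw [Equiv.swap_apply_of_ne_of_ne hux huy, Equiv.Perm.mul_apply]
        have h1 : u ≠ p x := fun h => hux (by rw [h, (hp x).2.1])
        have h2 : u ≠ p y := fun h => huy (by rw [h, (hp y).2.1])
        have h3 : u ≠ x := fun h => hux (by rw [h])
        have h4 : u ≠ y := fun h => huy (by rw [h])
        rw [Equiv.swap_apply_of_ne_of_ne h1 h2, Equiv.swap_apply_of_ne_of_ne h3 h4]
  · rw [map_mul, Equiv.Perm.sign_swap hxy', Equiv.Perm.sign_swap hpxy]
    simp

/-- conjugated pair swaps lie in `K` -/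
theorem conj_pair_mem {p : Ω → Ω} (hp : IsPartner f p) {K : Subgroup (Equiv.Perm Ω)}
    (hWK : Wev f ≤ K) {k : Equiv.Perm Ω} (hk : k ∈ K) (z₁ z₂ : Ω) :
    swap z₁ (k (p (k⁻¹ z₁))) * swap z₂ (k (p (k⁻¹ z₂))) ∈ K := by
  have h1 : swap z₁ (k (p (k⁻¹ z₁))) = k * swap (k⁻¹ z₁) (p (k⁻¹ z₁)) * k⁻¹ := by
    rw [← Equiv.swap_apply_apply]; simp
  have h2 : swap z₂ (k (p (k⁻¹ z₂))) = k * swap (k⁻¹ z₂) (p (k⁻¹ z₂)) * k⁻¹ := by
    rw [← Equiv.swap_apply_apply]; simp
  have h3 : swap z₁ (k (p (k⁻¹ z₁))) * swap z₂ (k (p (k⁻¹ z₂)))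
      = k * (swap (k⁻¹ z₁) (p (k⁻¹ z₁)) * swap (k⁻¹ z₂) (p (k⁻¹ z₂))) * k⁻¹ := by
    rw [h1, h2]; group
  rw [h3]
  exact K.mul_mem (K.mul_mem hk (hWK (hp.pair_mem _ _))) (K.inv_mem hk)

end Cfsg.Agent.Helper4.Wr
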