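import Cfsg.Agent.Helper4.WrD

/-!
# Fibres of size two: the three-cycle
-/

set_option autoImplicit false
set_option linter.unusedSectionVars false

namespace Cfsg.Agent.Helper4.Wr

open Equiv
open scoped Pointwise

variable {Ω ι : Type*} [Fintype Ω] [DecidableEq Ω] [DecidableEq ι] {f : Ω → ι}

/-- the squaring trick -/
theorem sq_trick {x x' y z z' q₁ q₂ : Ω}
    (h1 : x ≠ z) (h2 : x ≠ z') (h3 : x' ≠ z) (h4 : x' ≠ z') (h5 : y ≠ z) (h6 : y ≠ z')
    (h7 : x ≠ q₁) (h8 : x ≠ q₂) (h9 : x' ≠ q₁) (h10 : x' ≠ q₂) (h11 : y ≠ q₁) (h12 : y ≠ q₂)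
    (h13 : z ≠ q₁) (h14 : z ≠ q₂) (h15 : z' ≠ q₁) (h16 : z' ≠ q₂)
    (hxx' : x ≠ x') (hxy : x ≠ y) (hzz' : z ≠ z') (hqq : q₁ ≠ q₂) :
    ((swap x x' * swap z z') * (swap x y * swap q₁ q₂)) ^ 2
      = (swap x x' * swap x y) * (swap x x' * swap x y) := by
  have d1 : Equiv.Perm.Disjoint (swap z z') (swap x x') :=
    Equiv.Perm.disjoint_swap_swap (by simp [*, Ne.symm h1, Ne.symm h2, Ne.symm h3, Ne.symm h4])
  have d2 : Equiv.Perm.Disjoint (swap z z') (swap x y) :=
    Equiv.Perm.disjoint_swap_swap (by simp [*, Ne.symm h1, Ne.symm h2, Ne.symm h5, Ne.symm h6])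
  have d3 : Equiv.Perm.Disjoint (swap z z') (swap q₁ q₂) :=
    Equiv.Perm.disjoint_swap_swap (by simp [*])
  have d4 : Equiv.Perm.Disjoint (swap q₁ q₂) (swap x x') :=
    Equiv.Perm.disjoint_swap_swap
      (by simp [*, Ne.symm h7, Ne.symm h8, Ne.symm h9, Ne.symm h10])
  have d5 : Equiv.Perm.Disjoint (swap q₁ q₂) (swap x y) :=
    Equiv.Perm.disjoint_swap_swap
      (by simp [*, Ne.symm h7, Ne.symm h8, Ne.symm h11, Ne.symm h12])
  have c2 : swap z z' * swap x y = swap x y * swap z z' := d2.commute.eq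
  have c3 : swap z z' * swap q₁ q₂ = swap q₁ q₂ * swap z z' := d3.commute.eq
  have dD : Equiv.Perm.Disjoint (swap z z' * swap q₁ q₂) (swap x x' * swap x y) :=
    (d1.mul_right d2).mul_left (d4.mul_right d5)
  have cD : (swap z z' * swap q₁ q₂) * (swap x x' * swap x y)
      = (swap x x' * swap x y) * (swap z z' * swap q₁ q₂) := dD.commute.eq
  have e1 : (swap x x' * swap z z') * (swap x y * swap q₁ q₂)
      = (swap x x' * swap x y) * (swap z z' * swap q₁ q₂) := by
    calc (swap x x' * swap z z') * (swap x y * swap q₁ q₂)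
        = swap x x' * (swap z z' * swap x y) * swap q₁ q₂ := by group
      _ = swap x x' * (swap x y * swap z z') * swap q₁ q₂ := by rw [c2]
      _ = (swap x x' * swap x y) * (swap z z' * swap q₁ q₂) := by group
  have e2 : (swap z z' * swap q₁ q₂) * (swap z z' * swap q₁ q₂) = 1 := by
    calc (swap z z' * swap q₁ q₂) * (swap z z' * swap q₁ q₂)
        = swap z z' * (swap q₁ q₂ * swap z z') * swap q₁ q₂ := by group
      _ = swap z z' * (swap z z' * swap q₁ q₂) * swap q₁ q₂ := by rw [c3]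
      _ = (swap z z' * swap z z') * (swap q₁ q₂ * swap q₁ q₂) := by group
      _ = 1 := by rw [Equiv.swap_mul_self, Equiv.swap_mul_self, one_mul]
  rw [e1, pow_two]
  calc (swap x x' * swap x y) * (swap z z' * swap q₁ q₂)
        * ((swap x x' * swap x y) * (swap z z' * swap q₁ q₂))
      = (swap x x' * swap x y) * ((swap z z' * swap q₁ q₂) * (swap x x' * swap x y))
          * (swap z z' * swap q₁ q₂) := by group
    _ = (swap x x' * swap x y) * ((swap x x' * swap x y) * (swap z z' * swap q₁ q₂))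
          * (swap z z' * swap q₁ q₂) := by rw [cD]
    _ = (swap x x' * swap x y) * (swap x x' * swap x y)
          * ((swap z z' * swap q₁ q₂) * (swap z z' * swap q₁ q₂)) := by group
    _ = (swap x x' * swap x y) * (swap x x' * swap x y) := by rw [e2, mul_one]

end Cfsg.Agent.Helper4.Wr
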