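import Cfsg.Agent.Helper4.WrE

/-!
# Fibres of size two: a proper overgroup of `Wev` contains a three-cycle
-/

set_option autoImplicit false
set_option linter.unusedSectionVars false

namespace Cfsg.Agent.Helper4.Wr

open Equiv
open scoped Pointwise

variable {Ω ι : Type*} [Fintype Ω] [DecidableEq Ω] [DecidableEq ι] {f : Ω → ι}

theorem exists_threeCycle_two {p : Ω → Ω} (hp : IsPartner f p)
    {K : Subgroup (Equiv.Perm Ω)} (hWK : Wev f ≤ K) {k : Equiv.Perm Ω} (hk : k ∈ K)
    {u v : Ω} (huv : f u = f v) (hkuv : f (k u) ≠ f (k v))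
    (hsurj : ∀ i, ∃ x, f x = i)
    (h3 : ∀ i j : ι, ∃ l, l ≠ i ∧ l ≠ j)
    (hb : (∀ i j l m : ι, i ≠ j → i ≠ l → j ≠ l → m = i ∨ m = j ∨ m = l) ∨
      (∀ i₁ i₂ i₃ i₄ : ι, ∃ i, i ≠ i₁ ∧ i ≠ i₂ ∧ i ≠ i₃ ∧ i ≠ i₄)) :
    ∃ c ∈ K, Equiv.Perm.IsThreeCycle c := by
  -- the conjugated partner map
  set p' : Ω → Ω := fun z => k (p (k⁻¹ z)) with hp'
  have p'_ne : ∀ z, p' z ≠ z := by
    intro z h
    have : p (k⁻¹ z) = k⁻¹ z := by
      have := congrArg (fun t => k⁻¹ t) h
      simpa [hp'] using this
    exact (hp _).1 this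
  have p'_invol : ∀ z, p' (p' z) = z := by
    intro z
    simp only [hp']
    rw [show k⁻¹ (k (p (k⁻¹ z))) = p (k⁻¹ z) by simp, hp.invol]
    simp
  have p'_inj : ∀ z₁ z₂, p' z₁ = p' z₂ → z₁ = z₂ := by
    intro z₁ z₂ h
    rw [← p'_invol z₁, h, p'_invol]
  have hK' : ∀ z₁ z₂, swap z₁ (p' z₁) * swap z₂ (p' z₂) ∈ K :=
    fun z₁ z₂ => conj_pair_mem hp hWK hk z₁ z₂
  -- the crossing pair
  have hv : v = p u := by
    rcases (hp u).2.2 v huv.symm with h | h
    · exfalso; apply hkuv; rw [h]
    · exact h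
  set x := k u with hx
  set y := k v with hy
  have hpx : p' x = y := by
    simp only [hp', hx, hy, hv]
    simp
  have hpy : p' y = x := by rw [← hpx, p'_invol]
  set x' := p x with hx'
  set y' := p y with hy'
  have hfx' : f x' = f x := (hp x).2.1
  have hfy' : f y' = f y := (hp y).2.1
  have hxy : f x ≠ f y := hkuv
  have n_xy : x ≠ y := fun h => hxy (by rw [h])
  have n_xx' : x ≠ x' := (hp x).1.symm
  have n_yy' : y ≠ y' := (hp y).1.symm
  have n_x'y : x' ≠ y := fun h => hxy (by rw [← hfx', h])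
  have n_x'y' : x' ≠ y' := fun h => hxy (by rw [← hfx', h, hfy'])
  have n_xy' : x ≠ y' := fun h => hxy (by rw [h, hfy'])
  by_cases hA : p' x' = y'
  swap
  · -- Case A
    set w := p' x' with hw
    have t_mem : swap x' y' * swap x y ∈ K := by
      have := hp.par_mem (x := x') (y := y') (by rw [hfx', hfy']; exact hxy)
      rw [hx', hy', hp.invol, hp.invol] at this
      exact hWK this
    have t'_mem : swap x y * swap x' w ∈ K := by
      have := hK' x x'
      rwa [hpx] at this
    refine ⟨swap x' y' * swap x' w, ?_, ?_⟩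
    · have e : swap x' y' * swap x' w = (swap x' y' * swap x y) * (swap x y * swap x' w) := by
        calc swap x' y' * swap x' w = swap x' y' * 1 * swap x' w := by group
          _ = swap x' y' * (swap x y * swap x y) * swap x' w := by rw [Equiv.swap_mul_self]
          _ = (swap x' y' * swap x y) * (swap x y * swap x' w) := by group
      rw [e]
      exact K.mul_mem t_mem t'_mem
    · exact Equiv.Perm.isThreeCycle_swap_mul_swap_same n_x'y' (p'_ne x').symm (Ne.symm hA)
  · -- Case B
    have hpy' : p' y' = x' := by rw [← hA, p'_invol]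
    rcases hb with hb3 | hb5
    · -- three fibres
      obtain ⟨l, hlx, hly⟩ := h3 (f x) (f y)
      obtain ⟨z, hz⟩ := hsurj l
      have hzz : p' z = p z := by
        have hcase := hb3 (f x) (f y) l (f (p' z)) hxy (Ne.symm hlx) (Ne.symm hly)
        rcases hcase with h | h | h
        · exfalso
          rcases (hp x).2.2 (p' z) h with h' | h'
          · have : z = y := p'_inj _ _ (h'.trans hpy.symm)
            apply hly; rw [← hz, this]
          · have : z = y' := p'_inj _ _ (h'.trans hpy'.symm)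
            apply hly; rw [← hz, this, hfy']
        · exfalso
          rcases (hp y).2.2 (p' z) h with h' | h'
          · have : z = x := p'_inj _ _ (h'.trans hpx.symm)
            apply hlx; rw [← hz, this]
          · have : z = x' := p'_inj _ _ (h'.trans hA.symm)
            apply hlx; rw [← hz, this, hfx']
        · rcases (hp z).2.2 (p' z) (h.trans hz.symm) with h' | h'
          · exact absurd h' (p'_ne z)
          · exact h'
      have t_mem : swap x x' * swap z (p z) ∈ K := hWK (hp.pair_mem x z)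
      have t'_mem : swap z (p z) * swap x y ∈ K := by
        have := hK' z x
        rwa [hpx, hzz] at this
      refine ⟨swap x x' * swap x y, ?_, ?_⟩
      · have e : swap x x' * swap x y
            = (swap x x' * swap z (p z)) * (swap z (p z) * swap x y) := by
          calc swap x x' * swap x y = swap x x' * 1 * swap x y := by group
            _ = swap x x' * (swap z (p z) * swap z (p z)) * swap x y := by
                rw [Equiv.swap_mul_self]
            _ = (swap x x' * swap z (p z)) * (swap z (p z) * swap x y) := by group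
        rw [e]
        exact K.mul_mem t_mem t'_mem
      · exact Equiv.Perm.isThreeCycle_swap_mul_swap_same n_xx' n_xy n_x'y
    · -- at least five fibres
      obtain ⟨i₁, a1, a2, a3, _⟩ := hb5 (f x) (f y) (f (p' x')) (f x)
      obtain ⟨q₁, hq₁⟩ := hsurj i₁
      set q₂ := p' q₁ with hq₂
      have n_xq₁ : x ≠ q₁ := fun h => a1 (by rw [← hq₁, ← h])
      have n_yq₁ : y ≠ q₁ := fun h => a2 (by rw [← hq₁, ← h])
      have n_x'q₁ : x' ≠ q₁ := fun h => a1 (by rw [← hq₁, ← h, hfx'])
      have n_q₁w : q₁ ≠ p' x' := fun h => a3 (by rw [← hq₁, h])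
      have n_xq₂ : x ≠ q₂ := by
        intro h
        apply n_yq₁
        rw [← hpx, h, hq₂, p'_invol]
      have n_yq₂ : y ≠ q₂ := by
        intro h
        apply n_xq₁
        rw [← hpy, h, hq₂, p'_invol]
      have n_x'q₂ : x' ≠ q₂ := by
        intro h
        apply n_q₁w
        rw [h, hq₂, p'_invol]
      have n_q₁q₂ : q₁ ≠ q₂ := (p'_ne q₁).symm
      obtain ⟨i₂, b1, b2, b3, b4⟩ := hb5 (f x) (f y) (f q₁) (f q₂)
      obtain ⟨z, hz⟩ := hsurj i₂
      set z' := p z with hz'
      have hfz' : f z' = i₂ := by rw [hz', (hp z).2.1, hz]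
      have n_zz' : z ≠ z' := (hp z).1.symm
      have t_mem : swap x x' * swap z z' ∈ K := hWK (hp.pair_mem x z)
      have t'_mem : swap x y * swap q₁ q₂ ∈ K := by
        have := hK' x q₁
        rwa [hpx] at this
      refine ⟨((swap x x' * swap z z') * (swap x y * swap q₁ q₂)) ^ 2,
        K.pow_mem (K.mul_mem t_mem t'_mem) 2, ?_⟩
      rw [sq_trick (x := x) (x' := x') (y := y) (z := z) (z' := z') (q₁ := q₁) (q₂ := q₂)
        (fun h => b1 (by rw [← hz, ← h]))
        (fun h => b1 (by rw [← hfz', ← h]))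
        (fun h => b1 (by rw [← hz, ← h, hfx']))
        (fun h => b1 (by rw [← hfz', ← h, hfx']))
        (fun h => b2 (by rw [← hz, ← h]))
        (fun h => b2 (by rw [← hfz', ← h]))
        n_xq₁ n_xq₂ n_x'q₁ n_x'q₂ n_yq₁ n_yq₂
        (fun h => b3 (by rw [← hz, h]))
        (fun h => b4 (by rw [← hz, h]))
        (fun h => b3 (by rw [← hfz', h]))
        (fun h => b4 (by rw [← hfz', h]))
        n_xx' n_xy n_zz' n_q₁q₂]
      exact Equiv.Perm.IsThreeCycle.isThreeCycle_sq
        (Equiv.Perm.isThreeCycle_swap_mul_swap_same n_xx' n_xy n_x'y)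

end Cfsg.Agent.Helper4.Wr
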