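import Cfsg.Agent.Helper4.WrF

/-!
# The four-point case, and the assembly: overgroups of `Wev` contain `Alt`
-/

set_option autoImplicit false
set_option linter.unusedSectionVars false

namespace Cfsg.Agent.Helper4.Wr

open Equiv
open scoped Pointwise

variable {Ω ι : Type*} [Fintype Ω] [DecidableEq Ω] [DecidableEq ι] {f : Ω → ι}

/-- On four points, a nontrivial even permutation with a fixed point is a three-cycle. -/
theorem isThreeCycle_of_card_four (hcard : Fintype.card Ω = 4) {g : Equiv.Perm Ω}
    (hg : g ∈ alternatingGroup Ω) (hg1 : g ≠ 1) {x : Ω} (hx : g x = x) :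
    g.IsThreeCycle ∧ g.support = Finset.univ.erase x := by
  have hsub : g.support ⊆ Finset.univ.erase x := by
    intro z hz
    rw [Finset.mem_erase]
    refine ⟨?_, Finset.mem_univ _⟩
    intro h
    rw [Equiv.Perm.mem_support, h] at hz
    exact hz hx
  have hc3 : (Finset.univ.erase x : Finset Ω).card = 3 := by
    rw [Finset.card_erase_of_mem (Finset.mem_univ _), Finset.card_univ, hcard]
  have hle : g.support.card ≤ 3 := hc3 ▸ Finset.card_le_card hsub
  have h0 : g.support.card ≠ 0 := by
    rw [Ne, Finset.card_eq_zero, Equiv.Perm.support_eq_empty_iff]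
    exact hg1
  have h1 : g.support.card ≠ 1 := Equiv.Perm.card_support_ne_one g
  have h2 : g.support.card ≠ 2 := by
    intro h
    rw [Equiv.Perm.card_support_eq_two] at h
    have hs := h.sign_eq
    rw [Equiv.Perm.mem_alternatingGroup] at hg
    rw [hg] at hs
    exact absurd hs (by decide)
  have h3 : g.support.card = 3 := by omega
  refine ⟨_root_.card_support_eq_three_iff.1 h3, ?_⟩
  exact Finset.eq_of_subset_of_card_le hsub (by rw [hc3, h3])

/-- The four-point case. -/
theorem alt_le_22 (hcard : Fintype.card Ω = 4) (htr : ∀ x y : Ω, ∃ g ∈ Wev f, g x = y)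
    {K : Subgroup (Equiv.Perm Ω)} (hWK : Wev f ≤ K) (hKalt : K ≤ alternatingGroup Ω)
    (hK : ¬ K ≤ Pres f) : alternatingGroup Ω ≤ K := by
  obtain ⟨k, hkK, hkP⟩ := SetLike.not_le_iff_exists.1 hK
  have hfix : ∀ x : Ω, ∃ g ∈ K, g x = x ∧ g ≠ 1 := by
    intro x
    obtain ⟨w, hw, hwx⟩ := htr x (k x)
    refine ⟨w⁻¹ * k, K.mul_mem (K.inv_mem (hWK hw)) hkK, ?_, ?_⟩
    · rw [Equiv.Perm.mul_apply, ← hwx]; simp
    · intro h
      apply hkP
      have : k = w := by
        have := congrArg (fun t => w * t) h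
        simpa using this
      rw [this]
      exact Wev_le_Pres f hw
  have hprim : MulAction.IsPreprimitive K Ω := by
    have htrK : MulAction.IsPretransitive K Ω := by
      constructor
      intro x y
      obtain ⟨g, hg, hgx⟩ := htr x y
      exact ⟨⟨g, hWK hg⟩, hgx⟩
    refine { toIsPretransitive := htrK, isTrivialBlock_of_isBlock := ?_ }
    intro B hB
    by_contra hnt
    have hns : ¬ B.Subsingleton := fun h => hnt (Or.inl h)
    rw [Set.not_subsingleton_iff] at hns
    obtain ⟨x, hx, y, hy, hxy⟩ := hns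
    obtain ⟨g, hgK, hgx, hg1⟩ := hfix x
    obtain ⟨h3, hsupp⟩ := isThreeCycle_of_card_four hcard (hKalt hgK) hg1 hgx
    apply hnt
    right
    apply Set.eq_univ_of_forall
    intro z
    by_cases hzx : z = x
    · rw [hzx]; exact hx
    have hzs : g z ≠ z := by
      rw [← Equiv.Perm.mem_support, hsupp, Finset.mem_erase]
      exact ⟨hzx, Finset.mem_univ _⟩
    have hys : g y ≠ y := by
      rw [← Equiv.Perm.mem_support, hsupp, Finset.mem_erase]
      exact ⟨Ne.symm hxy, Finset.mem_univ _⟩
    obtain ⟨i, hi⟩ := h3.isCycle.sameCycle hys hzs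
    have hgi : g ^ i ∈ K := K.zpow_mem hgK i
    have hgix : (g ^ i) x = x := by
      have : x ∈ Function.fixedPoints g := hgx
      exact Equiv.Perm.zpow_apply_eq_self_of_apply_eq_self hgx i
    have := block_map hB hgi hx (by rw [hgix]; exact hx) hy
    rwa [hi] at this
  obtain ⟨x⟩ : Nonempty Ω := by
    rw [← Fintype.card_pos_iff, hcard]; norm_num
  obtain ⟨g, hgK, hgx, hg1⟩ := hfix x
  obtain ⟨h3, _⟩ := isThreeCycle_of_card_four hcard (hKalt hgK) hg1 hgx
  exact Equiv.Perm.alternatingGroup_le_of_isPreprimitive_of_isThreeCycle_mem hprim h3 hgK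

theorem exists_avoid {α : Type*} [Fintype α] [DecidableEq α] (S : Finset α)
    (h : S.card < Fintype.card α) : ∃ x, x ∉ S := by
  by_contra hc
  push Not at hc
  have : S = Finset.univ := Finset.eq_univ_iff_forall.2 hc
  rw [this, Finset.card_univ] at h
  exact lt_irrefl _ h

end Cfsg.Agent.Helper4.Wr
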