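import Cfsg.Agent.Helper4.WrG

/-!
# Assembly: `(S_a ≀ S_b) ∩ Alt` is maximal in `Alt` (degree `≠ 8`)
-/

set_option autoImplicit false
set_option linter.unusedSectionVars false

namespace Cfsg.Agent.Helper4.Wr

open Equiv
open scoped Pointwise

variable {Ω : Type*} [Fintype Ω] [DecidableEq Ω]

/-- coordinates from uniform fibre cardinality -/
theorem exists_coord {a b : ℕ} (f : Ω → Fin b)
    (hf : ∀ i : Fin b, Nat.card {x : Ω // f x = i} = a) :
    ∃ Φ : Ω ≃ Fin b × Fin a, ∀ x, (Φ x).1 = f x := by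
  classical
  have e : ∀ i : Fin b, {x : Ω // f x = i} ≃ Fin a := fun i => Finite.equivFinOfCardEq (hf i)
  refine ⟨((Equiv.sigmaFiberEquiv f).symm.trans (Equiv.sigmaCongrRight e)).trans
    (Equiv.sigmaEquivProd (Fin b) (Fin a)), ?_⟩
  intro x
  rfl

theorem fin2_succ_ne : ∀ c : Fin 2, c + 1 ≠ c := by decide

theorem fin2_cases : ∀ c d : Fin 2, d = c ∨ d = c + 1 := by decide

theorem fin3_cases : ∀ i j l m : Fin 3, i ≠ j → i ≠ l → j ≠ l → m = i ∨ m = j ∨ m = l := by
  decide

theorem avoid_of {a b : ℕ} (ha : 2 ≤ a) (hb : 2 ≤ b) (h22 : ¬ (a = 2 ∧ b = 2))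
    (f : Ω → Fin b) (Φ : Ω ≃ Fin b × Fin a) (hΦ : ∀ x, (Φ x).1 = f x) : Avoid f := by
  have : Nontrivial (Fin a) := Fin.nontrivial_iff_two_le.2 ha
  intro x z hxz
  by_cases ha3 : 2 < a
  · have hS : 1 < (Finset.univ.erase (Φ x).2 : Finset (Fin a)).card := by
      rw [Finset.card_erase_of_mem (Finset.mem_univ _), Finset.card_univ, Fintype.card_fin]
      omega
    obtain ⟨c₁, hc₁, c₂, hc₂, hc⟩ := Finset.one_lt_card.1 hS
    rw [Finset.mem_erase] at hc₁ hc₂
    have fu : ∀ c, f (Φ.symm ((Φ x).1, c)) = f x := by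
      intro c
      rw [← hΦ, Equiv.apply_symm_apply, hΦ]
    have nx : ∀ c, c ≠ (Φ x).2 → Φ.symm ((Φ x).1, c) ≠ x := by
      intro c hc h
      apply hc
      have := congrArg Φ h
      rw [Equiv.apply_symm_apply] at this
      exact congrArg Prod.snd this
    refine ⟨Φ.symm ((Φ x).1, c₁), Φ.symm ((Φ x).1, c₂), ?_, ?_, nx _ hc₁.1, nx _ hc₂.1, ?_, ?_⟩
    · intro h
      apply hc
      have := Φ.symm.injective h
      exact congrArg Prod.snd this
    · rw [fu, fu]
    · intro h; apply hxz; rw [← h, fu]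
    · intro h; apply hxz; rw [← h, fu]
  · have hb3 : 2 < b := by omega
    have hS : ({f x, f z} : Finset (Fin b)).card < Fintype.card (Fin b) := by
      rw [Fintype.card_fin]
      exact lt_of_le_of_lt Finset.card_le_two hb3
    obtain ⟨i, hi⟩ := exists_avoid _ hS
    rw [Finset.mem_insert, Finset.mem_singleton, not_or] at hi
    obtain ⟨u, v, huv, hu, hv⟩ := exists_pair_in_fibre f Φ hΦ i
    refine ⟨u, v, huv, hu.trans hv.symm, ?_, ?_, ?_, ?_⟩
    · intro h; apply hi.1; rw [← hu, h]
    · intro h; apply hi.1; rw [← hv, h]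
    · intro h; apply hi.2; rw [← hu, h]
    · intro h; apply hi.2; rw [← hv, h]

theorem alt_le_of_overgroup (h8 : Fintype.card Ω ≠ 8) {a b : ℕ} (ha : 2 ≤ a) (hb : 2 ≤ b)
    (f : Ω → Fin b) (hf : ∀ i : Fin b, Nat.card {x : Ω // f x = i} = a)
    {K : Subgroup (Equiv.Perm Ω)} (hWK : Wev f ≤ K) (hKalt : K ≤ alternatingGroup Ω)
    (hK : ¬ K ≤ Pres f) : alternatingGroup Ω ≤ K := by
  obtain ⟨Φ, hΦ⟩ := exists_coord f hf
  have hcard : Fintype.card Ω = b * a := by
    rw [Fintype.card_congr Φ, Fintype.card_prod, Fintype.card_fin, Fintype.card_fin]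
  have : Nontrivial (Fin a) := Fin.nontrivial_iff_two_le.2 ha
  have : Nontrivial (Fin b) := Fin.nontrivial_iff_two_le.2 hb
  by_cases h22 : a = 2 ∧ b = 2
  · have hc4 : Fintype.card Ω = 4 := by rw [hcard, h22.1, h22.2]
    exact alt_le_22 hc4 (Wev_trans f Φ hΦ) hWK hKalt hK
  have hAV : Avoid f := avoid_of ha hb h22 f Φ hΦ
  have hprim := prim_of_not_le f Φ hΦ hAV hWK hK
  obtain ⟨c, hcK, hc3⟩ : ∃ c ∈ K, Equiv.Perm.IsThreeCycle c := by
    rcases Nat.lt_or_ge 2 a with ha3 | ha2
    · have h3 : 2 < Fintype.card (Fin a) := by rw [Fintype.card_fin]; exact ha3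
      obtain ⟨c₁, c₂, c₃, h12, h13, h23⟩ := Fintype.two_lt_card_iff.1 h3
      have i : Fin b := ⟨0, by omega⟩
      have fu : ∀ c, f (Φ.symm (i, c)) = i := by
        intro c
        rw [← hΦ, Equiv.apply_symm_apply]
      have inj : ∀ c c', c ≠ c' → Φ.symm (i, c) ≠ Φ.symm (i, c') := by
        intro c c' hc h
        apply hc
        exact congrArg Prod.snd (Φ.symm.injective h)
      refine ⟨swap (Φ.symm (i, c₁)) (Φ.symm (i, c₂)) * swap (Φ.symm (i, c₁)) (Φ.symm (i, c₃)),
        hWK (threeCycle_mem_Wev f (inj _ _ h12) (inj _ _ h13) ?_ ?_),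
        Equiv.Perm.isThreeCycle_swap_mul_swap_same (inj _ _ h12) (inj _ _ h13) (inj _ _ h23)⟩
      · rw [fu, fu]
      · rw [fu, fu]
    · have ha2' : a = 2 := le_antisymm ha2 ha
      subst ha2'
      have hb3 : 3 ≤ b := by
        by_contra h
        exact h22 ⟨rfl, by omega⟩
      have hb4 : b ≠ 4 := by
        intro h
        apply h8
        rw [hcard, h]
      -- the partner map
      set p : Ω → Ω := fun x => Φ.symm ((Φ x).1, (Φ x).2 + 1) with hp
      have hpart : IsPartner f p := by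
        intro x
        refine ⟨?_, ?_, ?_⟩
        · intro h
          have := congrArg Φ h
          simp only [hp, Equiv.apply_symm_apply] at this
          exact fin2_succ_ne _ (congrArg Prod.snd this)
        · simp only [hp]
          rw [← hΦ, Equiv.apply_symm_apply, hΦ]
        · intro z hz
          have h1 : (Φ z).1 = (Φ x).1 := by rw [hΦ, hΦ, hz]
          rcases fin2_cases (Φ x).2 (Φ z).2 with h2 | h2
          · left
            apply Φ.injective
            exact Prod.ext h1 h2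
          · right
            apply Φ.injective
            simp only [hp, Equiv.apply_symm_apply]
            exact Prod.ext h1 h2
      -- the witness
      obtain ⟨k, hkK, hkP⟩ := SetLike.not_le_iff_exists.1 hK
      have hkP' : ∃ u v, ¬ (f u = f v ↔ f (k u) = f (k v)) := by
        by_contra h
        push Not at h
        exact hkP h
      obtain ⟨u, v, huv⟩ := hkP'
      have hsurj : ∀ i, ∃ x, f x = i := exists_in_fibre f Φ hΦ
      have h3 : ∀ i j : Fin b, ∃ l, l ≠ i ∧ l ≠ j := by
        intro i j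
        have hS : ({i, j} : Finset (Fin b)).card < Fintype.card (Fin b) := by
          rw [Fintype.card_fin]
          exact lt_of_le_of_lt Finset.card_le_two (by omega)
        obtain ⟨l, hl⟩ := exists_avoid _ hS
        rw [Finset.mem_insert, Finset.mem_singleton, not_or] at hl
        exact ⟨l, hl.1, hl.2⟩
      have hbb : (∀ i j l m : Fin b, i ≠ j → i ≠ l → j ≠ l → m = i ∨ m = j ∨ m = l) ∨
          (∀ i₁ i₂ i₃ i₄ : Fin b, ∃ i, i ≠ i₁ ∧ i ≠ i₂ ∧ i ≠ i₃ ∧ i ≠ i₄) := by
        by_cases hb3' : b = 3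
        · left
          subst hb3'
          exact fin3_cases
        · right
          intro i₁ i₂ i₃ i₄
          have hS : ({i₁, i₂, i₃, i₄} : Finset (Fin b)).card < Fintype.card (Fin b) := by
            rw [Fintype.card_fin]
            exact lt_of_le_of_lt Finset.card_le_four (by omega)
          obtain ⟨l, hl⟩ := exists_avoid _ hS
          simp only [Finset.mem_insert, Finset.mem_singleton, not_or] at hl
          exact ⟨l, hl.1, hl.2.1, hl.2.2.1, hl.2.2.2⟩
      by_cases h1 : f u = f v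
      · have h2 : f (k u) ≠ f (k v) := fun h => huv ⟨fun _ => h, fun _ => h1⟩
        exact exists_threeCycle_two hpart hWK hkK h1 h2 hsurj h3 hbb
      · have h2 : f (k u) = f (k v) := by
          by_contra h
          exact huv ⟨fun h' => absurd h' h1, fun h' => absurd h' h⟩
        have h1' : f (k⁻¹ (k u)) ≠ f (k⁻¹ (k v)) := by simpa using h1
        exact exists_threeCycle_two hpart hWK (K.inv_mem hkK) h2 h1' hsurj h3 hbb
  exact Equiv.Perm.alternatingGroup_le_of_isPreprimitive_of_isThreeCycle_mem hprim hc3 hcK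

end Cfsg.Agent.Helper4.Wr
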