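import Cfsg.Agent.Helper4.WrH

/-!
# `(S_a ≀ S_b) ∩ Alt` is a coatom of the subgroup lattice of `Alt` (degree `≠ 8`)
-/

set_option autoImplicit false
set_option linter.unusedSectionVars false

namespace Cfsg.Agent.Helper4.Wr

open Equiv
open scoped Pointwise

variable {Ω : Type*} [Fintype Ω] [DecidableEq Ω]

theorem isCoatom_Wev (h8 : Fintype.card Ω ≠ 8) {a b : ℕ} (ha : 2 ≤ a) (hb : 2 ≤ b)
    (f : Ω → Fin b) (hf : ∀ i : Fin b, Nat.card {x : Ω // f x = i} = a) :
    IsCoatom ((Wev f).subgroupOf (alternatingGroup Ω)) := by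
  obtain ⟨Φ, hΦ⟩ := exists_coord f hf
  have : Nontrivial (Fin a) := Fin.nontrivial_iff_two_le.2 ha
  have : Nontrivial (Fin b) := Fin.nontrivial_iff_two_le.2 hb
  constructor
  · intro htop
    rw [Subgroup.subgroupOf_eq_top] at htop
    obtain ⟨i, j, hij⟩ := exists_pair_ne (Fin b)
    obtain ⟨x, hx⟩ := exists_in_fibre f Φ hΦ i
    obtain ⟨x', hx'x, hfx'⟩ := exists_partner f Φ hΦ x
    obtain ⟨y, hy⟩ := exists_in_fibre f Φ hΦ j
    have hxy : x ≠ y := fun h => hij (by rw [← hx, ← hy, h])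
    have hx'y : x' ≠ y := fun h => hij (by rw [← hx, ← hy, ← hfx', h])
    have h3 : (swap x x' * swap x y).IsThreeCycle :=
      Equiv.Perm.isThreeCycle_swap_mul_swap_same hx'x.symm hxy hx'y
    have hmem := htop h3.mem_alternatingGroup
    have hP := Wev_le_Pres f hmem
    have h := (hP x x').1 hfx'.symm
    have e1 : (swap x x' * swap x y) x = y := by
      rw [Equiv.Perm.mul_apply, Equiv.swap_apply_left,
        Equiv.swap_apply_of_ne_of_ne (Ne.symm hxy) (Ne.symm hx'y)]
    have e2 : (swap x x' * swap x y) x' = x := by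
      rw [Equiv.Perm.mul_apply, Equiv.swap_apply_of_ne_of_ne hx'x hx'y,
        Equiv.swap_apply_right]
    rw [e1, e2] at h
    exact hij (by rw [← hx, ← hy, h])
  · intro K hK
    rw [eq_top_iff]
    intro g _
    have hWK : Wev f ≤ K.map (alternatingGroup Ω).subtype := by
      intro w hw
      refine ⟨⟨w, Wev_le_alt f hw⟩, hK.le ?_, rfl⟩
      exact Subgroup.mem_subgroupOf.2 hw
    have hKalt : K.map (alternatingGroup Ω).subtype ≤ alternatingGroup Ω := by
      rintro _ ⟨k, _, rfl⟩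
      exact k.2
    have hKP : ¬ K.map (alternatingGroup Ω).subtype ≤ Pres f := by
      intro hle
      apply hK.not_ge
      intro k hk
      rw [Subgroup.mem_subgroupOf]
      exact Subgroup.mem_inf.2 ⟨hle ⟨k, hk, rfl⟩, k.2⟩
    have hmem := alt_le_of_overgroup h8 ha hb f hf hWK hKalt hKP g.2
    obtain ⟨k, hk, hkg⟩ := hmem
    have : k = g := Subtype.ext hkg
    rw [← this]
    exact hk

end Cfsg.Agent.Helper4.Wr
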