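import Mathlib
import Cfsg.Agent.Helper4.PermDLB

set_option autoImplicit false

/-!
The derived subgroup of a regular wreath product `D ≀ᵣ Q` with `Q` perfect is perfect.
-/

namespace Cfsg.Agent.Helper4.WreathPerf

open RegularWreathProduct
open scoped commutatorElement

variable {D Q : Type*} [Group D] [Group Q]

/-- the base group embedding -/
def baseHom : (Q → D) →* D ≀ᵣ Q where
  toFun f := ⟨f, 1⟩
  map_one' := rfl
  map_mul' f f' := by
    ext
    · simp [mul_left]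
    · simp

@[simp] theorem baseHom_left (f : Q → D) : (baseHom f : D ≀ᵣ Q).left = f := rfl
@[simp] theorem baseHom_right (f : Q → D) : (baseHom f : D ≀ᵣ Q).right = 1 := rfl

theorem eq_baseHom_mul_inl (w : D ≀ᵣ Q) : w = baseHom w.left * inl w.right := by
  ext
  · simp [mul_left]
  · simp

/-- `Q` perfect: all derived subgroups of `Q` are everything -/
theorem derivedSeries_eq_top_of_perfect (hQ : commutator Q = ⊤) (j : ℕ) : derivedSeries Q j = ⊤ := by
  induction j with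
  | zero => rfl
  | succ j ih => rw [derivedSeries_succ, ih]; exact hQ

theorem inl_mem_derivedSeries (hQ : commutator Q = ⊤) (j : ℕ) (q : Q) :
    (inl q : D ≀ᵣ Q) ∈ derivedSeries (D ≀ᵣ Q) j := by
  apply map_derivedSeries_le_derivedSeries (inl : Q →* D ≀ᵣ Q) j
  refine ⟨q, ?_, rfl⟩
  rw [derivedSeries_eq_top_of_perfect hQ]
  trivial

/-- conjugating a single-position element by `inl q` moves the position -/
theorem inl_conj_mulSingle [DecidableEq Q] (q x : Q) (d : D) :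
    (inl q : D ≀ᵣ Q) * baseHom (Pi.mulSingle x d) * (inl q)⁻¹ = baseHom (Pi.mulSingle (q * x) d) := by
  ext y
  · simp only [mul_left, inv_left, left_inl, right_inl, baseHom_left, baseHom_right, mul_right,
      Pi.mul_apply, Pi.one_apply, one_mul, mul_one, inv_one, Pi.inv_apply]
    by_cases h : y = q * x
    · subst h
      simp
    · have h' : q⁻¹ * y ≠ x := by
        intro h2
        apply h
        rw [← h2]; group
      rw [Pi.mulSingle_eq_of_ne h, Pi.mulSingle_eq_of_ne h']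
  · simp

theorem baseHom_mulSingle_commutator_mem [DecidableEq Q] [Nontrivial Q] (hQ : commutator Q = ⊤)
    (x : Q) (d e : D) :
    (baseHom (Pi.mulSingle x ⁅d, e⁆) : D ≀ᵣ Q) ∈ derivedSeries (D ≀ᵣ Q) 2 := by
  obtain ⟨K, hK⟩ : ∃ K, K = derivedSeries (D ≀ᵣ Q) 2 := ⟨_, rfl⟩
  rw [← hK]
  have hKn : K.Normal := hK ▸ derivedSeries_normal _ 2
  obtain ⟨q, hq⟩ := exists_ne (1 : Q)
  have hy : q * x ≠ x := by simpa using hq
  obtain ⟨a, ha⟩ : ∃ a : D ≀ᵣ Q, a = baseHom (Pi.mulSingle x d) := ⟨_, rfl⟩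
  obtain ⟨b, hb⟩ : ∃ b : D ≀ᵣ Q, b = baseHom (Pi.mulSingle x e) := ⟨_, rfl⟩
  obtain ⟨b', hb'⟩ : ∃ b' : D ≀ᵣ Q, b' = baseHom (Pi.mulSingle (q * x) e) := ⟨_, rfl⟩
  have hb'2 : b' = inl q * b * (inl q)⁻¹ := by rw [hb', hb, inl_conj_mulSingle]
  have h1 : (inl q : D ≀ᵣ Q) ∈ K := hK ▸ inl_mem_derivedSeries hQ 2 q
  -- k' = b'⁻¹ * b ∈ K
  have hk : b'⁻¹ * b ∈ K := by
    rw [hb'2]
    have h2 : b⁻¹ * (inl q)⁻¹ * b ∈ K := by
      have := hKn.conj_mem _ (K.inv_mem h1) b⁻¹
      simpa using this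
    have : (inl q * b * (inl q)⁻¹)⁻¹ * b = inl q * (b⁻¹ * (inl q)⁻¹ * b) := by group
    rw [this]
    exact K.mul_mem h1 h2
  have hcomm : a * b' = b' * a := by
    rw [ha, hb', ← map_mul, ← map_mul]
    congr 1
    exact (Pi.mulSingle_commute (f := fun _ : Q => D) (Ne.symm hy) d e).eq
  have hab : (baseHom (Pi.mulSingle x ⁅d, e⁆) : D ≀ᵣ Q) = ⁅a, b⁆ := by
    rw [ha, hb, ← map_commutatorElement]
    congr 1
    exact map_commutatorElement (MonoidHom.mulSingle (fun _ : Q => D) x) d e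
  rw [hab]
  obtain ⟨k, hkdef⟩ : ∃ k, k = b'⁻¹ * b := ⟨_, rfl⟩
  have hbk : b = b' * k := by rw [hkdef]; group
  have hkK : k ∈ K := hkdef ▸ hk
  have hcomm2 : ⁅a, b⁆ = b' * ⁅a, k⁆ * b'⁻¹ := by
    rw [hbk, commutatorElement_def, commutatorElement_def]
    have e1 : a * (b' * k) * a⁻¹ * (b' * k)⁻¹ = (a * b') * k * a⁻¹ * k⁻¹ * b'⁻¹ := by group
    rw [e1, hcomm]
    group
  rw [hcomm2]
  apply hKn.conj_mem
  rw [commutatorElement_def]
  exact K.mul_mem (hKn.conj_mem _ hkK a) (K.inv_mem hkK)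

theorem baseHom_mem_of_forall_mem_commutator [Finite Q] [Nontrivial Q] (hQ : commutator Q = ⊤)
    (g : Q → D) (hg : ∀ x, g x ∈ commutator D) :
    (baseHom g : D ≀ᵣ Q) ∈ derivedSeries (D ≀ᵣ Q) 2 := by
  classical
  have h1 : Subgroup.pi Set.univ (fun _ : Q => commutator D) ≤
      (derivedSeries (D ≀ᵣ Q) 2).comap (baseHom : (Q → D) →* D ≀ᵣ Q) := by
    rw [Subgroup.pi_le_iff]
    intro x
    rw [Subgroup.map_le_iff_le_comap, commutator_def, Subgroup.commutator_le]
    intro d _ e _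
    rw [Subgroup.mem_comap, Subgroup.mem_comap]
    exact baseHom_mulSingle_commutator_mem hQ x d e
  have h2 : g ∈ Subgroup.pi Set.univ (fun _ : Q => commutator D) := by
    rw [Subgroup.mem_pi]
    intro x _
    exact hg x
  exact h1 h2

/-- the second derived subgroup of `D ≀ᵣ Q` equals the first, when `Q` is perfect -/
theorem commutator_le_derivedSeries_two [Finite Q] [Nontrivial Q] (hQ : commutator Q = ⊤) :
    commutator (D ≀ᵣ Q) ≤ derivedSeries (D ≀ᵣ Q) 2 := by
  haveI hKn := derivedSeries_normal (D ≀ᵣ Q) 2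
  rw [← Subgroup.Normal.quotient_commutative_iff_commutator_le]
  have key : ∀ w : D ≀ᵣ Q, (QuotientGroup.mk w : (D ≀ᵣ Q) ⧸ derivedSeries (D ≀ᵣ Q) 2) =
      QuotientGroup.mk (baseHom w.left) := by
    intro w
    conv_lhs => rw [eq_baseHom_mul_inl w]
    rw [QuotientGroup.mk_mul, (QuotientGroup.eq_one_iff _).mpr (inl_mem_derivedSeries hQ 2 w.right),
      mul_one]
  refine ⟨⟨?_⟩⟩
  intro a b
  obtain ⟨a, rfl⟩ := QuotientGroup.mk_surjective a
  obtain ⟨b, rfl⟩ := QuotientGroup.mk_surjective b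
  rw [key a, key b, ← QuotientGroup.mk_mul, ← QuotientGroup.mk_mul, QuotientGroup.eq]
  have e1 : ((baseHom a.left : D ≀ᵣ Q) * baseHom b.left)⁻¹ * (baseHom b.left * baseHom a.left) =
      baseHom (⁅b.left⁻¹, a.left⁻¹⁆) := by
    rw [map_commutatorElement, commutatorElement_def, map_inv, map_inv]
    group
  rw [e1]
  apply baseHom_mem_of_forall_mem_commutator hQ
  intro x
  have : (⁅b.left⁻¹, a.left⁻¹⁆ : Q → D) x = ⁅(b.left x)⁻¹, (a.left x)⁻¹⁆ := by
    simp [commutatorElement_def]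
  rw [this, commutator_def]
  exact Subgroup.commutator_mem_commutator (Subgroup.mem_top _) (Subgroup.mem_top _)

/-- the derived subgroup of `D ≀ᵣ Q` is perfect when `Q` is perfect -/
theorem commutator_commutator_eq_top [Finite Q] [Nontrivial Q] (hQ : commutator Q = ⊤) :
    commutator ↥(commutator (D ≀ᵣ Q)) = ⊤ := by
  have h1 := commutator_le_derivedSeries_two (D := D) hQ
  have h2 : derivedSeries (D ≀ᵣ Q) 2 =
      (commutator ↥(commutator (D ≀ᵣ Q))).map (commutator (D ≀ᵣ Q)).subtype := by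
    rw [commutator_def ↥(commutator (D ≀ᵣ Q)), Subgroup.map_commutator, ← MonoidHom.range_eq_map,
      Subgroup.range_subtype, derivedSeries_succ, derivedSeries_one]
  rw [h2] at h1
  rw [eq_top_iff]
  intro w _
  obtain ⟨w', hw', hw'2⟩ := h1 w.2
  have : w' = w := Subtype.ext hw'2
  rwa [this] at hw'

end Cfsg.Agent.Helper4.WreathPerf
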