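import Mathlib
import Cfsg.Agent.Helper4.PermDLC
import Cfsg.Agent.Helper4.WreathPerfA

set_option autoImplicit false

/-!
Perfect groups with solvable maximal subgroups of large derived length.
-/

namespace Cfsg.Agent.Helper4.WreathPerf

open RegularWreathProduct
open scoped commutatorElement

variable {D Q : Type*} [Group D] [Group Q]

/-- the base group of the wreath product as functions -/
def leftHom : ↥((rightHom : D ≀ᵣ Q →* Q).ker) →* (Q → D) where
  toFun w := w.1.left
  map_one' := rfl
  map_mul' w w' := by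
    have h : w.1.right = 1 := w.2
    show (w.1 * w'.1).left = w.1.left * w'.1.left
    rw [mul_left, h]
    simp

theorem leftHom_injective : Function.Injective (leftHom : ↥((rightHom : D ≀ᵣ Q →* Q).ker) →* (Q → D)) := by
  intro w w' h
  apply Subtype.ext
  have h1 : w.1.right = 1 := w.2
  have h2 : w'.1.right = 1 := w'.2
  ext
  · exact congrFun h _
  · rw [h1, h2]

theorem isPGroup_ker [Finite D] [Finite Q] (p : ℕ) [Fact p.Prime] (hD : IsPGroup p D) :
    IsPGroup p ↥((rightHom : D ≀ᵣ Q →* Q).ker) := by
  obtain ⟨a, ha⟩ := IsPGroup.iff_card.mp hD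
  have h1 : IsPGroup p (Q → D) := by
    apply IsPGroup.of_card (n := a * Nat.card Q)
    rw [Nat.card_fun, ha, pow_mul]
  exact h1.of_injective leftHom leftHom_injective

/-- the preimage of a maximal subgroup under a surjective homomorphism is maximal -/
theorem isCoatom_comap_of_surjective {G' Q' : Type*} [Group G'] [Group Q'] (f : G' →* Q')
    (hf : Function.Surjective f) {M : Subgroup Q'} (hM : IsCoatom M) : IsCoatom (M.comap f) := by
  constructor
  · intro h
    apply hM.1
    rw [← Subgroup.map_comap_eq_self_of_surjective hf M, h, ← MonoidHom.range_eq_map,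
      MonoidHom.range_eq_top.mpr hf]
  · intro L hL
    have hker : f.ker ≤ L := le_trans (by
      intro x hx
      rw [Subgroup.mem_comap, MonoidHom.mem_ker.mp hx]
      exact M.one_mem) hL.le
    have h1 : M ≤ L.map f := by
      rw [← Subgroup.map_comap_eq_self_of_surjective hf M]
      exact Subgroup.map_mono hL.le
    have h3 : (L.map f).comap f = L := by
      rw [Subgroup.comap_map_eq, sup_eq_left.mpr hker]
    rcases eq_or_lt_of_le h1 with h4 | h4
    · exfalso
      have : L ≤ M.comap f := by rw [h4, h3]
      exact absurd hL (not_lt_of_ge this)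
    · have h5 := hM.2 _ h4
      rw [← h3, h5, Subgroup.comap_top]

/-- **Main construction**: for a finite `p`-group `D`, a finite perfect group `Q` and a solvable
maximal subgroup `M` of `Q`, the perfect group `(D ≀ᵣ Q)'` has a solvable maximal subgroup of
derived length at least that of `D`. -/
theorem exists_coatom [Finite D] [Finite Q] [Nontrivial Q] (p : ℕ) [Fact p.Prime]
    (hD : IsPGroup p D) (hQ : commutator Q = ⊤) (M : Subgroup Q) (hM : IsCoatom M)
    (hMs : Group.IsSolvable M) (d : ℕ) (hd : derivedSeries D d ≠ ⊥) :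
    ∃ H : Subgroup ↥(commutator (D ≀ᵣ Q)), IsCoatom H ∧ Group.IsSolvable H ∧
      derivedSeries H d ≠ ⊥ := by
  classical
  obtain ⟨W', hW'⟩ : ∃ W', W' = commutator (D ≀ᵣ Q) := ⟨_, rfl⟩
  rw [← hW']
  let πG : ↥W' →* Q := (rightHom : D ≀ᵣ Q →* Q).comp W'.subtype
  have hinl : ∀ q : Q, (inl q : D ≀ᵣ Q) ∈ W' := fun q => by
    have := inl_mem_derivedSeries (D := D) hQ 1 q
    rwa [derivedSeries_one, ← hW'] at this
  have hsurj : Function.Surjective πG := fun q => ⟨⟨inl q, hinl q⟩, rfl⟩
  refine ⟨M.comap πG, isCoatom_comap_of_surjective πG hsurj hM, ?_, ?_⟩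
  · -- solvable
    let ψ : ↥(M.comap πG) →* ↥M := (πG.comp (M.comap πG).subtype).codRestrict M (fun h => h.2)
    have hker : IsPGroup p ↥ψ.ker := by
      let ι : ↥ψ.ker →* ↥((rightHom : D ≀ᵣ Q →* Q).ker) :=
        { toFun := fun k => ⟨k.1.1.1, by
            have h1 : ψ k.1 = 1 := k.2
            have h2 := congrArg Subtype.val h1
            exact h2⟩
          map_one' := rfl
          map_mul' := fun _ _ => rfl }
      have hι : Function.Injective ι := by
        intro a b hab
        apply Subtype.ext
        apply Subtype.ext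
        apply Subtype.ext
        have h3 := congrArg Subtype.val hab
        exact h3
      exact (isPGroup_ker p hD).of_injective ι hι
    haveI : Group.IsSolvable ↥ψ.ker := by
      haveI := hker.isNilpotent
      exact IsNilpotent.to_isSolvable
    exact Group.isSolvable_of_ker_le_range ψ.ker.subtype ψ (by rw [Subgroup.range_subtype])
  · -- derived length
    have hLH : πG.ker ≤ M.comap πG := by
      intro x hx
      rw [Subgroup.mem_comap, MonoidHom.mem_ker.mp hx]
      exact M.one_mem
    let κ : ↥πG.ker →* ↥((rightHom : D ≀ᵣ Q →* Q).ker) :=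
      { toFun := fun k => ⟨k.1.1, k.2⟩
        map_one' := rfl
        map_mul' := fun _ _ => rfl }
    let ev : ↥πG.ker →* D := (Cfsg.Agent.Helper4.PermDL.evBase (1 : Q)).comp κ
    obtain ⟨q₀, hq₀⟩ := exists_ne (1 : Q)
    have hev : Function.Surjective ev := by
      intro s
      obtain ⟨w, hw, hws⟩ := Cfsg.Agent.Helper4.PermDL.derivedSeries_le_map_evBase (D := D) q₀ hq₀
        (1 : Q) 0 (by rw [derivedSeries_zero]; trivial : s ∈ derivedSeries D 0)
      have hw' : w ∈ (derivedSeries (D ≀ᵣ Q) (0 + 1)).subgroupOf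
          ((rightHom : D ≀ᵣ Q →* Q).ker) := hw
      rw [Subgroup.mem_subgroupOf, zero_add, derivedSeries_one, ← hW'] at hw'
      refine ⟨⟨⟨w.1, hw'⟩, w.2⟩, ?_⟩
      exact hws
    have h1 : (derivedSeries ↥πG.ker d).map ev = derivedSeries D d := map_derivedSeries_eq hev d
    have h2 : derivedSeries ↥πG.ker d ≠ ⊥ := fun h => hd (by rw [← h1, h, Subgroup.map_bot])
    exact Cfsg.Agent.Helper4.PermDL.derivedSeries_ne_bot_of_injective (Subgroup.inclusion hLH)
      (Subgroup.inclusion_injective hLH) d h2

end Cfsg.Agent.Helper4.WreathPerf
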