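import Mathlib
import Cfsg.Agent.Helper6.BurnsidePQ
import Cfsg.Agent.Helper4.WreathPerfB

set_option autoImplicit false

/-!
`A₅` is perfect and all its proper subgroups are solvable; the final construction of perfect
groups with solvable maximal subgroups of arbitrarily large derived length.
-/

namespace Cfsg.Agent.Helper4.WreathPerf

open scoped commutatorElement

theorem card_A5 : Nat.card ↥(alternatingGroup (Fin 5)) = 60 := by
  rw [nat_card_alternatingGroup, Nat.card_fin]
  decide

theorem isSimpleGroup_A5 : IsSimpleGroup ↥(alternatingGroup (Fin 5)) :=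
  alternatingGroup.isSimpleGroup (by rw [Nat.card_fin])

theorem commutator_A5 : commutator ↥(alternatingGroup (Fin 5)) = ⊤ := by
  haveI := isSimpleGroup_A5
  have hn : (commutator ↥(alternatingGroup (Fin 5))).Normal := inferInstance
  rcases hn.eq_bot_or_eq_top with h | h
  · exfalso
    have hcomm : ∀ a b : ↥(alternatingGroup (Fin 5)), a * b = b * a := by
      intro a b
      have h1 : ⁅a, b⁆ ∈ commutator ↥(alternatingGroup (Fin 5)) := by
        rw [commutator_def]
        exact Subgroup.commutator_mem_commutator (Subgroup.mem_top _) (Subgroup.mem_top _)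
      rw [h, Subgroup.mem_bot, commutatorElement_eq_one_iff_mul_comm] at h1
      exact h1
    letI : CommGroup ↥(alternatingGroup (Fin 5)) :=
      { (inferInstance : Group ↥(alternatingGroup (Fin 5))) with mul_comm := hcomm }
    have h2 := IsSimpleGroup.prime_card (α := ↥(alternatingGroup (Fin 5)))
    rw [card_A5] at h2
    exact absurd h2 (by decide)
  · exact h

theorem solvable_of_ne_top (M : Subgroup ↥(alternatingGroup (Fin 5))) (hM : M ≠ ⊤) :
    Group.IsSolvable M := by
  haveI := isSimpleGroup_A5
  have hdvd : Nat.card M ∣ 60 := card_A5 ▸ Subgroup.card_subgroup_dvd_card M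
  have h60 : Nat.card M ≠ 60 := by
    intro h
    apply hM
    exact (Subgroup.card_eq_iff_eq_top M).mp (h.trans card_A5.symm)
  have h30 : Nat.card M ≠ 30 := by
    intro h
    have hidx : M.index = 2 := by
      have := M.card_mul_index
      rw [h, card_A5] at this
      omega
    have hn : M.Normal := Subgroup.normal_of_index_eq_two hidx
    rcases hn.eq_bot_or_eq_top with h1 | h1
    · rw [h1] at h
      simp at h
    · exact hM h1
  have hmem : Nat.card M ∈ Nat.divisors 60 := Nat.mem_divisors.mpr ⟨hdvd, by norm_num⟩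
  have hdiv : Nat.divisors 60 = {1, 2, 3, 4, 5, 6, 10, 12, 15, 20, 30, 60} := by decide
  rw [hdiv] at hmem
  simp only [Finset.mem_insert, Finset.mem_singleton] at hmem
  rcases hmem with h | h | h | h | h | h | h | h | h | h | h | h
  · exact Cfsg.Agent.Helper6.burnside_pq 2 3 0 0 Nat.prime_two Nat.prime_three (by rw [h]; norm_num)
  · exact Cfsg.Agent.Helper6.burnside_pq 2 3 1 0 Nat.prime_two Nat.prime_three (by rw [h]; norm_num)
  · exact Cfsg.Agent.Helper6.burnside_pq 2 3 0 1 Nat.prime_two Nat.prime_three (by rw [h]; norm_num)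
  · exact Cfsg.Agent.Helper6.burnside_pq 2 3 2 0 Nat.prime_two Nat.prime_three (by rw [h]; norm_num)
  · exact Cfsg.Agent.Helper6.burnside_pq 2 5 0 1 Nat.prime_two Nat.prime_five (by rw [h]; norm_num)
  · exact Cfsg.Agent.Helper6.burnside_pq 2 3 1 1 Nat.prime_two Nat.prime_three (by rw [h]; norm_num)
  · exact Cfsg.Agent.Helper6.burnside_pq 2 5 1 1 Nat.prime_two Nat.prime_five (by rw [h]; norm_num)
  · exact Cfsg.Agent.Helper6.burnside_pq 2 3 2 1 Nat.prime_two Nat.prime_three (by rw [h]; norm_num)
  · exact Cfsg.Agent.Helper6.burnside_pq 3 5 1 1 Nat.prime_three Nat.prime_five (by rw [h]; norm_num)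
  · exact Cfsg.Agent.Helper6.burnside_pq 2 5 2 1 Nat.prime_two Nat.prime_five (by rw [h]; norm_num)
  · exact absurd h h30
  · exact absurd h h60

/-- **S5896**. -/
theorem exists_perfect_solvable_coatom (d : ℕ) :
    ∃ (G : Type) (_ : Group G) (_ : Finite G) (H : Subgroup G), commutator G = ⊤ ∧ IsCoatom H ∧
      Group.IsSolvable H ∧ derivedSeries H d ≠ ⊥ := by
  classical
  let C := Multiplicative (ZMod 2)
  have hCcard : Nat.card C = 2 := by
    show Nat.card (Multiplicative (ZMod 2)) = 2
    rw [Nat.card_eq_fintype_card, Fintype.card_multiplicative, ZMod.card]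
  haveI : Finite C := Nat.finite_of_card_ne_zero (by rw [hCcard]; norm_num)
  haveI hCnt : Nontrivial C := by
    rw [← Finite.one_lt_card_iff_nontrivial, hCcard]
    norm_num
  let D := IteratedWreathProduct C (d + 1)
  have hDd : derivedSeries D d ≠ ⊥ := Cfsg.Agent.Helper4.PermDL.derivedSeries_iterated_ne_bot C d
  haveI : Fact (Nat.Prime 2) := ⟨Nat.prime_two⟩
  have hDp : IsPGroup 2 D := by
    apply IsPGroup.of_card (n := ∑ i ∈ Finset.range (d + 1), 2 ^ i)
    rw [IteratedWreathProduct.card, hCcard]
  let Q := ↥(alternatingGroup (Fin 5))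
  haveI : Nontrivial Q := by
    rw [← Finite.one_lt_card_iff_nontrivial, card_A5]
    norm_num
  obtain ⟨M, hM⟩ := IsCoatomic.exists_coatom (Subgroup Q)
  have hMs : Group.IsSolvable M := solvable_of_ne_top M hM.1
  obtain ⟨H, hH1, hH2, hH3⟩ := exists_coatom (D := D) (Q := Q) 2 hDp commutator_A5 M hM hMs d hDd
  exact ⟨↥(commutator (RegularWreathProduct D Q)), inferInstance, inferInstance, H,
    commutator_commutator_eq_top commutator_A5, hH1, hH2, hH3⟩

end Cfsg.Agent.Helper4.WreathPerf
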