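import Mathlib
import Cfsg.Agent.Helper3.CharI

/-!
# Yoshida's theorem for fusion systems, part A: the transfer bridge

The transfer of a saturated fusion system `F` over `S` through its characteristic biset, presented
as an honest group-theoretic transfer: a finite group `G`, a subgroup `H` of index prime to `p`, an
injective homomorphism `ι : S →* G` and a homomorphism `φ : H →* A` such that
`transfer φ ∘ ι` is constant on the classes of the system, and such that for every `t : G` the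
conjugated restriction `a ↦ φ (t⁻¹ ι(a) t)` is `θ ∘ ψ` for some map `ψ` of the system.
-/

set_option autoImplicit false
set_option linter.style.haveILetI false

namespace Cfsg.Agent.Helper4.YoshFus

open Cfsg Cfsg.FusionSystem Cfsg.Agent.Lead Cfsg.Agent.Helper3.Marks Cfsg.Agent.Helper3.Park
  Cfsg.Agent.Helper3.Char

universe u

variable {Ω : Type u} [Group Ω] {S : Subgroup Ω}

/-- **The transfer bridge.** -/
theorem exists_park_transfer [Finite S] (p : ℕ) [Fact p.Prime] (hS : IsPGroup p S)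
    (F : FusionSystem S) (hF : F.IsSaturated p) {A : Type*} [CommGroup A] (θ : S →* A) :
    ∃ (G : Type u) (_ : Group G) (_ : Finite G) (H : Subgroup G) (ι : S →* G) (φ : H →* A),
      Function.Injective ι ∧ ¬ p ∣ H.index ∧
      (∀ (P : Subgroup Ω) (f : P →* Ω) (hf : f ∈ F.Hom P) (x : P),
        MonoidHom.transfer φ (ι ⟨f x, Fusion.map_mem F hf x⟩)
          = MonoidHom.transfer φ (ι ⟨x, Fusion.src_le F hf x.2⟩)) ∧
      (∀ t : G, ∃ (Q : Subgroup Ω) (ψ : Q →* Ω) (hψ : ψ ∈ F.Hom Q),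
        ∀ (a : S) (h : t⁻¹ * ι a * t ∈ H), ∃ ha : (a : Ω) ∈ Q,
          φ ⟨t⁻¹ * ι a * t, h⟩ = θ ⟨ψ ⟨(a : Ω), ha⟩, Fusion.map_mem F hψ _⟩) := by
  obtain ⟨X, hXf, hXa, hstab, ⟨x₀, hx₀⟩, hmarks, n, hn, hpn⟩ := exists_char_biset p hS F hF
  have hfree : ∀ (b : S) (x : X), mkT (1 : S) b • x = x → b = 1 := by
    intro b x hb
    obtain ⟨D, ⟨Q, ψ, hψ, hT⟩, hD⟩ := hstab x
    obtain ⟨h1, h2⟩ := hT (((1 : S) : Ω), (b : Ω)) ⟨mkT 1 b, (hD _).mp hb, rfl⟩
    have h3 : (⟨((1 : S) : Ω), h1⟩ : Q) = 1 := Subtype.ext rfl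
    change ψ ⟨((1 : S) : Ω), h1⟩ = (b : Ω) at h2
    rw [h3, map_one] at h2
    exact Subtype.ext h2.symm
  have hindex : (stabR S x₀).index = n := by
    have h1 := index_stabR hfree x₀
    rw [hn, mul_comm] at h1
    exact Nat.eq_of_mul_eq_mul_left Nat.card_pos h1
  haveI : Finite (autR S X) := inferInstance
  refine ⟨↥(autR S X), inferInstance, inferInstance, stabR S x₀, iotaR S X,
    phiR (fun b => hfree b x₀) θ, ?_, ?_, ?_, ?_⟩
  · -- injectivity
    rw [injective_iff_map_eq_one]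
    intro a ha
    have h1 : mkT a (1 : S) • x₀ = x₀ := by
      have := iotaR_apply (X := X) a x₀
      rw [ha] at this
      exact this.symm
    obtain ⟨D, ⟨Q, ψ, hψ, hT⟩, hD⟩ := hstab x₀
    obtain ⟨h2, h3⟩ := hT ((a : Ω), ((1 : S) : Ω)) ⟨mkT a 1, (hD _).mp h1, rfl⟩
    change ψ ⟨(a : Ω), h2⟩ = ((1 : S) : Ω) at h3
    have h4 : (⟨(a : Ω), h2⟩ : Q) = 1 := by
      apply F.injective_of_mem hψ
      rw [h3, map_one]
      rfl
    apply Subtype.ext
    have := congrArg (fun q : Q => (q : Ω)) h4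
    exact this
  · rw [hindex]; exact hpn
  · intro P f hf x
    have hP : P ≤ S := Fusion.src_le F hf
    obtain ⟨e, he⟩ := exists_perm_of_mem F hstab hmarks hP hf
    have heG : e ∈ autR S X := by
      rw [mem_autR]
      intro b w
      have h1 := he 1 b w
      have h2 : (⟨((1 : P) : Ω), hP (1 : P).2⟩ : S) = 1 := Subtype.ext rfl
      have h3 : (⟨f (1 : P), Fusion.map_mem F hf 1⟩ : S) = 1 := Subtype.ext (map_one f)
      rw [h2, h3] at h1
      exact h1
    have hconj : iotaR S X ⟨f x, Fusion.map_mem F hf x⟩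
        = (⟨e, heG⟩ : autR S X) * iotaR S X ⟨x, hP x.2⟩ * (⟨e, heG⟩ : autR S X)⁻¹ := by
      rw [eq_mul_inv_iff_mul_eq]
      apply Subtype.ext
      apply Equiv.ext
      intro y
      change ((iotaR S X ⟨f x, Fusion.map_mem F hf x⟩ : autR S X) : Equiv.Perm X) (e y)
        = e (((iotaR S X ⟨x, hP x.2⟩ : autR S X) : Equiv.Perm X) y)
      rw [iotaR_apply, iotaR_apply]
      exact (he x 1 y).symm
    rw [hconj, map_mul, map_mul, map_inv, mul_comm, ← mul_assoc, inv_mul_cancel, one_mul]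
  · intro t
    obtain ⟨D, ⟨Q, ψ, hψ, hT⟩, hD⟩ := hstab ((t : Equiv.Perm X) x₀)
    refine ⟨Q, ψ, hψ, ?_⟩
    intro a hh
    have h1 := smul_conj_eq t a hh
    obtain ⟨h2, h3⟩ := hT ((a : Ω), (((tauR x₀ ⟨_, hh⟩)⁻¹ : S) : Ω))
      ⟨mkT a (tauR x₀ ⟨_, hh⟩)⁻¹, (hD _).mp h1, rfl⟩
    change ψ ⟨(a : Ω), h2⟩ = (((tauR x₀ ⟨_, hh⟩)⁻¹ : S) : Ω) at h3
    refine ⟨h2, ?_⟩
    rw [phiR_apply]
    have h4 : (tauR x₀ ⟨_, hh⟩)⁻¹ = ⟨ψ ⟨(a : Ω), h2⟩, Fusion.map_mem F hψ _⟩ :=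
      Subtype.ext h3.symm
    rw [h4]

end Cfsg.Agent.Helper4.YoshFus
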