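import Mathlib
import Cfsg.Agent.Helper4.YoshFusA
import Cfsg.Agent.Helper1.HallWielandtD
import Cfsg.Agent.Helper1.YoshidaB

/-!
# Yoshida's theorem for fusion systems, part B: the induction

If `S` has no quotient isomorphic to `C_p ≀ C_p`, then every element of `S` killed by all
homomorphisms `S → Z/p` that are constant on the classes of the system is killed by all
homomorphisms `S → Z/p` that are invariant under `Aut_F(S)`.
-/

set_option autoImplicit false
set_option linter.style.haveILetI false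

namespace Cfsg.Agent.Helper4.YoshFus

open Cfsg Cfsg.FusionSystem Cfsg.Agent.Lead Cfsg.Agent.Helper1
open MonoidHom Subgroup MulAction

universe u

variable {Ω : Type u} [Group Ω] {S : Subgroup Ω}

/-- `θ` is constant on the classes of the system. -/
def FStable (F : FusionSystem S) {A : Type*} [CommGroup A] (θ : S →* A) : Prop :=
  ∀ (P : Subgroup Ω) (f : P →* Ω) (hf : f ∈ F.Hom P) (x : P),
    θ ⟨f x, Fusion.map_mem F hf x⟩ = θ ⟨x, Fusion.src_le F hf x.2⟩

/-- `θ` is invariant under the automorphisms of `S` in the system. -/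
def AutInv (F : FusionSystem S) {A : Type*} [CommGroup A] (θ : S →* A) : Prop :=
  ∀ (f : S →* Ω) (hf : f ∈ F.Hom S) (x : S), θ ⟨f x, Fusion.map_mem F hf x⟩ = θ x

/-- the number of orbits with full stabilizer is the number of fixed points -/
theorem card_filter_stabilizer_eq_top {G : Type*} [Group G] (H K : Subgroup G) [Finite G]
    [Fintype (orbitRel.Quotient K (G ⧸ H))]
    [DecidablePred fun ω : orbitRel.Quotient K (G ⧸ H) =>
      stabilizer K ((ω.out.out : G) : G ⧸ H) = ⊤] :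
    (Finset.univ.filter (fun ω : orbitRel.Quotient K (G ⧸ H) =>
      stabilizer K ((ω.out.out : G) : G ⧸ H) = ⊤)).card = Nat.card (fixedPoints K (G ⧸ H)) := by
  classical
  rw [← Fintype.card_subtype, ← Nat.card_eq_fintype_card]
  apply Nat.card_congr
  have hout : ∀ ω : orbitRel.Quotient K (G ⧸ H), ((ω.out.out : G) : G ⧸ H) = ω.out :=
    fun ω => QuotientGroup.out_eq' _
  refine Equiv.ofBijective (fun ω => ⟨ω.1.out, ?_⟩) ⟨?_, ?_⟩
  · intro c
    have h1 : c ∈ stabilizer K ((ω.1.out.out : G) : G ⧸ H) := by rw [ω.2]; trivial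
    rw [hout] at h1
    exact h1
  · intro ω ω' h
    have h1 : ω.1.out = ω'.1.out := congrArg Subtype.val h
    apply Subtype.ext
    rw [← Quotient.out_eq' ω.1, ← Quotient.out_eq' ω'.1, h1]
  · intro q
    have hq : ∀ c : K, c • (q : G ⧸ H) = q := q.2
    set ω : orbitRel.Quotient K (G ⧸ H) := Quotient.mk'' (q : G ⧸ H) with hω
    have h1 : ω.out = (q : G ⧸ H) := by
      have h2 : (Quotient.mk'' ω.out : orbitRel.Quotient K (G ⧸ H)) = Quotient.mk'' (q : G ⧸ H) :=
        Quotient.out_eq' ω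
      obtain ⟨c, hc⟩ : ∃ c : K, c • (q : G ⧸ H) = ω.out := Quotient.exact' h2
      rw [← hc, hq]
    refine ⟨⟨ω, ?_⟩, Subtype.ext h1⟩
    rw [eq_top_iff]
    intro c _
    show c • ((ω.out.out : G) : G ⧸ H) = ((ω.out.out : G) : G ⧸ H)
    rw [hout, h1, hq]

theorem eq_one_of_pow_eq_one_of_not_dvd {A : Type*} [Group A] {p m : ℕ} (hp : p.Prime)
    (a : A) (h1 : a ^ p = 1) (h2 : a ^ m = 1) (hm : ¬ p ∣ m) : a = 1 := by
  have d1 : orderOf a ∣ p := orderOf_dvd_of_pow_eq_one h1
  have d2 : orderOf a ∣ m := orderOf_dvd_of_pow_eq_one h2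
  rcases (Nat.dvd_prime hp).1 d1 with h | h
  · exact orderOf_eq_one_iff.1 h
  · exact absurd (h ▸ d2) hm

set_option maxHeartbeats 1600000 in
/-- **The induction.** -/
theorem yoshida_elem [Finite S] (p : ℕ) [hp : Fact p.Prime] (hS : IsPGroup p S)
    (F : FusionSystem S) (hF : F.IsSaturated p)
    (hnot : ¬ ∃ (W : Sylow p (Equiv.Perm (Fin (p ^ 2))))
      (f : ↥S →* ↥(W : Subgroup (Equiv.Perm (Fin (p ^ 2))))), Function.Surjective f) :
    ∀ (n : ℕ) (u : S), orderOf u ≤ n →
      (∀ Λ : S →* Multiplicative (ZMod p), FStable F Λ → Λ u = 1) →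
      ∀ μ : S →* Multiplicative (ZMod p), AutInv F μ → μ u = 1 := by
  classical
  have hA : ∀ a : Multiplicative (ZMod p), a ^ p = 1 := zmod_mul_pow_eq_one
  intro n
  induction n using Nat.strong_induction_on with
  | _ n ih =>
  intro u hn hΛ μ hμ
  by_cases hu1 : u = 1
  · subst hu1
    exact map_one μ
  obtain ⟨j₀, hj₀⟩ : ∃ j : ℕ, orderOf u = p ^ (j + 1) := by
    obtain ⟨j, hj⟩ := (IsPGroup.iff_orderOf.1 hS) u
    cases j with
    | zero =>
      rw [pow_zero, orderOf_eq_one_iff] at hj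
      exact absurd hj hu1
    | succ j => exact ⟨j, hj⟩
  -- K0
  have hK0 : ∀ (Q : Subgroup Ω) (ψ : Q →* Ω) (hψ : ψ ∈ F.Hom Q) (g : S) (m : ℕ)
      (hw : ((g⁻¹ * u ^ m * g : S) : Ω) ∈ Q), p ∣ m →
      μ ⟨ψ ⟨_, hw⟩, Fusion.map_mem F hψ _⟩ = 1 := by
    intro Q ψ hψ g m hw hm
    set v : S := ⟨ψ ⟨_, hw⟩, Fusion.map_mem F hψ _⟩ with hv
    have hord1 : orderOf v = orderOf (u ^ m) := by
      have e1 : orderOf v = orderOf (ψ ⟨_, hw⟩) := by
        rw [← Subgroup.orderOf_coe]
      have e2 : orderOf (ψ ⟨_, hw⟩) = orderOf (⟨_, hw⟩ : Q) :=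
        orderOf_injective ψ (F.injective_of_mem hψ) _
      have e3 : orderOf (⟨_, hw⟩ : Q) = orderOf ((g⁻¹ * u ^ m * g : S) : Ω) := by
        rw [← Subgroup.orderOf_coe]
      have e4 : orderOf ((g⁻¹ * u ^ m * g : S) : Ω) = orderOf (g⁻¹ * u ^ m * g : S) :=
        Subgroup.orderOf_coe _
      have e5 : orderOf (g⁻¹ * u ^ m * g : S) = orderOf (u ^ m) := by
        have h1 : g⁻¹ * u ^ m * g = MulAut.conj g⁻¹ (u ^ m) := by
          rw [MulAut.conj_apply, inv_inv]
        rw [h1, MulEquiv.orderOf_eq]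
      rw [e1, e2, e3, e4, e5]
    have hord2 : orderOf (u ^ m) < orderOf u := by
      rw [orderOf_pow]
      have hpos : 0 < orderOf u := orderOf_pos u
      have hd : p ∣ Nat.gcd (orderOf u) m := by
        apply Nat.dvd_gcd _ hm
        rw [hj₀, pow_succ]; exact dvd_mul_left _ _
      have hgpos : 0 < Nat.gcd (orderOf u) m := Nat.gcd_pos_of_pos_left _ hpos
      have h2 : 2 ≤ Nat.gcd (orderOf u) m :=
        le_trans hp.out.two_le (Nat.le_of_dvd hgpos hd)
      exact Nat.div_lt_self hpos h2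
    have hΛ' : ∀ Λ : S →* Multiplicative (ZMod p), FStable F Λ → Λ v = 1 := by
      intro Λ hΛs
      have h1 := hΛs Q ψ hψ ⟨_, hw⟩
      have h2 : Λ v = Λ (g⁻¹ * u ^ m * g) := h1
      rw [h2]
      simp only [map_mul, map_inv, map_pow, hΛ Λ hΛs, one_pow, mul_one]
      simp
    exact ih (orderOf v) (by rw [hord1]; exact lt_of_lt_of_le hord2 hn) v le_rfl hΛ' μ hμ
  obtain ⟨G, hGg, hGf, H, ι, φ, hιinj, hidx, hstable, htwist⟩ :=
    exists_park_transfer p hS F hF μ
  have hV : FStable F ((MonoidHom.transfer φ).comp ι) := fun P f hf x => hstable P f hf x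
  have hVu : MonoidHom.transfer φ (ι u) = 1 := hΛ _ hV
  set K : Subgroup G := ι.range with hKdef
  have hKp : IsPGroup p K := hS.of_surjective ι.rangeRestrict ι.rangeRestrict_surjective
  let k : K := ⟨ι u, ⟨u, rfl⟩⟩
  letI : Fintype (orbitRel.Quotient K (G ⧸ H)) := Fintype.ofFinite _
  have hmackey := transfer_mackey φ K k
  have hk : ((k : K) : G) = ι u := rfl
  rw [hk, hVu] at hmackey
  have hall : ∀ (t : G) (c : K), c ∈ stabilizer K ((t : G) : G ⧸ H) →
      t⁻¹ * (c : G) * t ∈ H := fun t c hc => conjStab_mem K t ⟨c, hc⟩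
  -- the terms
  have hterm : ∀ t : G, transfer (conjStabHom φ K t) k =
      if stabilizer K ((t : G) : G ⧸ H) = ⊤ then μ u else 1 := by
    intro t
    split_ifs with hst
    · rw [transfer_eq_of_eq_top hst, conjStabHom_apply]
      obtain ⟨Q, ψ, hψ, hQ⟩ := htwist t
      have hallS : ∀ a : S, t⁻¹ * ι a * t ∈ H := by
        intro a
        have h1 : (⟨ι a, ⟨a, rfl⟩⟩ : K) ∈ stabilizer K ((t : G) : G ⧸ H) := by
          rw [hst]; trivial
        exact hall t _ h1
      have hSQ : S ≤ Q := fun x hx => (hQ ⟨x, hx⟩ (hallS _)).1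
      have hQS : S = Q := le_antisymm hSQ (Fusion.src_le F hψ)
      subst hQS
      obtain ⟨ha, hval⟩ := hQ u (hallS u)
      have h2 : μ ⟨ψ ⟨(u : Ω), ha⟩, Fusion.map_mem F hψ _⟩ = μ u := hμ ψ hψ u
      rw [← h2, ← hval]
    · apply transfer_pgroup_step' hKp hA _ _ k ⊤
      · rw [sup_top_eq]
      · intro h
        exact hst (top_le_iff.1 h)
      · rintro c ⟨g, m, hm, hcg⟩
        obtain ⟨s, hs⟩ := g.2
        have hcι : (((c : K)) : G) = ι (s⁻¹ * u ^ m * s) := by
          rw [hcg]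
          simp only [Subgroup.coe_mul, Subgroup.coe_inv, Subgroup.coe_pow, map_mul, map_inv,
            map_pow, hs]
          rfl
        rw [conjStabHom_apply]
        obtain ⟨Q, ψ, hψ, hQ⟩ := htwist t
        have hh : t⁻¹ * ι (s⁻¹ * u ^ m * s) * t ∈ H := by
          rw [← hcι]; exact conjStab_mem K t c
        obtain ⟨ha, hval⟩ := hQ _ hh
        have h3 : (⟨t⁻¹ * ((c : K) : G) * t, conjStab_mem K t c⟩ : H) =
            ⟨t⁻¹ * ι (s⁻¹ * u ^ m * s) * t, hh⟩ := by
          apply Subtype.ext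
          show t⁻¹ * ((c : K) : G) * t = t⁻¹ * ι (s⁻¹ * u ^ m * s) * t
          rw [hcι]
        rw [h3, hval]
        exact hK0 Q ψ hψ s m ha hm
      · intro S₀ hSn hSidx hkS hWS
        have hne : S₀ ≠ ⊤ := fun h => hWS (h ▸ le_rfl)
        obtain ⟨z, hz⟩ : ∃ z : K, z ∉ S₀ := by
          by_contra hcon
          push Not at hcon
          exact hne (eq_top_iff.2 fun x _ => hcon x)
        refine ⟨z, Subgroup.mem_top z, hz, ?_⟩
        intro ρ c hc
        by_contra hρ
        apply hnot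
        haveI := hSn
        obtain ⟨P, f, hf⟩ := exists_wreath_quotient hKp S₀ hSidx k z hkS ρ c hc hρ
        exact ⟨P, f.comp ι.rangeRestrict, hf.comp ι.rangeRestrict_surjective⟩
  rw [Finset.prod_congr rfl (fun ω _ => hterm ω.out.out)] at hmackey
  rw [Finset.prod_ite, Finset.prod_const_one, mul_one, Finset.prod_const] at hmackey
  rw [card_filter_stabilizer_eq_top H K] at hmackey
  have hmod := hKp.card_modEq_card_fixedPoints (G ⧸ H)
  have hnd : ¬ p ∣ Nat.card (fixedPoints K (G ⧸ H)) := by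
    intro hd
    apply hidx
    rw [Subgroup.index_eq_card]
    exact (Nat.modEq_zero_iff_dvd.1 (hmod.trans (Nat.modEq_zero_iff_dvd.2 hd)))
  exact eq_one_of_pow_eq_one_of_not_dvd hp.out (μ u) (hA _) hmackey.symm hnd

end Cfsg.Agent.Helper4.YoshFus
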