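import Mathlib
import Cfsg.Agent.Helper4.YoshFusB
import Cfsg.Agent.Helper1.HallWielandtE
import Cfsg.Agent.Helper6.TateG
import Cfsg.Agent.Lead.KLa
import Cfsg.Agent.Lead.FusionKNorm6

/-!
# Yoshida's theorem for fusion systems, part C: the theorem

If the normalizer system `N_F(S)` does not control transfer in the saturated system `F` over `S`,
then `S` has a quotient isomorphic to `C_p ≀ C_p`.
-/

set_option autoImplicit false
set_option linter.style.haveILetI false

namespace Cfsg.Agent.Helper4.YoshFus

open Cfsg Cfsg.FusionSystem Cfsg.Agent.Lead Cfsg.Agent.Helper1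

universe u

theorem exists_dual_ne {p : ℕ} [hp : Fact p.Prime] {V : Type*} [AddCommGroup V]
    [Module (ZMod p) V] (v : V) (hv : v ≠ 0) : ∃ φ : V →ₗ[ZMod p] (ZMod p), φ v ≠ 0 := by
  by_contra hcon
  simp only [not_exists, not_not] at hcon
  exact hv ((Module.forall_dual_apply_eq_zero_iff (ZMod p) _).mp hcon)

theorem nsmul_additive_eq_zero {p : ℕ} {Y : Type*} [CommGroup Y] (hexp : ∀ y : Y, y ^ p = 1) :
    ∀ x : Additive Y, p • x = 0 := fun x => by
  change Additive.ofMul (x.toMul ^ p) = 0
  rw [hexp]; rfl

/-- in a commutative group of exponent `p`, a non-identity element lies outside the kernel of some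
homomorphism to `Z/p`. -/
theorem exists_hom_zmod_ne {p : ℕ} [hp : Fact p.Prime] {Y : Type*} [CommGroup Y]
    (hexp : ∀ y : Y, y ^ p = 1) (y₀ : Y) (hy₀ : y₀ ≠ 1) :
    ∃ f : Y →* Multiplicative (ZMod p), f y₀ ≠ 1 := by
  classical
  haveI : Module (ZMod p) (Additive Y) :=
    AddCommGroup.zmodModule (n := p) (nsmul_additive_eq_zero hexp)
  have hv : Additive.ofMul y₀ ≠ 0 := fun h0 => hy₀ (Additive.ofMul.injective h0)
  obtain ⟨φ, hφ⟩ := exists_dual_ne (p := p) (Additive.ofMul y₀) hv
  refine ⟨{ toFun := fun y => Multiplicative.ofAdd (φ (Additive.ofMul y))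
            map_one' := by
              show Multiplicative.ofAdd (φ (0 : Additive Y)) = 1
              rw [map_zero]; rfl
            map_mul' := fun a b => by
              show Multiplicative.ofAdd (φ (Additive.ofMul (a * b))) = _
              rw [ofMul_mul, map_add, ofAdd_add] }, ?_⟩
  intro h1
  apply hφ
  exact Multiplicative.ofAdd.injective h1

/-- in a finite `p`-group, an element outside a subgroup containing the Frattini subgroup lies
outside the kernel of a homomorphism to `Z/p` killing that subgroup. -/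
theorem exists_hom_of_not_mem {p : ℕ} [hp : Fact p.Prime] {P : Type*} [Group P] [Finite P]
    (hP : IsPGroup p P) (D : Subgroup P) (hD : frattini P ≤ D) (u : P) (hu : u ∉ D) :
    ∃ μ : P →* Multiplicative (ZMod p), D ≤ μ.ker ∧ μ u ≠ 1 := by
  classical
  have hcD : ∀ a b : P, a * b * a⁻¹ * b⁻¹ ∈ D := by
    intro a b
    apply hD
    apply IsPGroup.commutator_le_frattini hP
    rw [commutator_def, ← commutatorElement_def]
    exact Subgroup.commutator_mem_commutator (Subgroup.mem_top a) (Subgroup.mem_top b)
  haveI hDn : D.Normal := by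
    constructor
    intro d hd g
    have h1 := D.mul_mem (hcD g d) hd
    rwa [inv_mul_cancel_right] at h1
  let _ : CommGroup (P ⧸ D) :=
    { (inferInstance : Group (P ⧸ D)) with
      mul_comm := by
        intro a b
        induction a using QuotientGroup.induction_on with
        | H a =>
          induction b using QuotientGroup.induction_on with
          | H b =>
            rw [← QuotientGroup.mk_mul, ← QuotientGroup.mk_mul, QuotientGroup.eq]
            have h4 : (a * b)⁻¹ * (b * a) = b⁻¹ * a⁻¹ * b * a := by group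
            have h5 := hcD b⁻¹ a⁻¹
            rw [inv_inv, inv_inv] at h5
            rw [h4]
            exact h5 }
  have hexp : ∀ y : P ⧸ D, y ^ p = 1 := by
    intro y
    induction y using QuotientGroup.induction_on with
    | H a =>
      rw [← QuotientGroup.mk_pow, QuotientGroup.eq_one_iff]
      exact hD (IsPGroup.pow_mem_frattini hP a)
  have hne : ((u : P) : P ⧸ D) ≠ 1 := by
    intro h
    exact hu ((QuotientGroup.eq_one_iff u).1 h)
  obtain ⟨f, hf⟩ := exists_hom_zmod_ne hexp _ hne
  refine ⟨f.comp (QuotientGroup.mk' D), ?_, hf⟩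
  intro d hd
  rw [MonoidHom.mem_ker, MonoidHom.comp_apply, QuotientGroup.mk'_apply,
    (QuotientGroup.eq_one_iff d).2 hd, map_one]

variable {Ω : Type u} [Group Ω] {S : Subgroup Ω}

/-- transport of a fusion system along an equality of the underlying subgroups -/
theorem exists_transport {T : Subgroup Ω} (h : T = S) (N : FusionSystem T) (p : ℕ)
    (hN : N.IsSaturated p) :
    ∃ H : FusionSystem S, (∀ P : Subgroup Ω, H.Hom P = N.Hom P) ∧ H.IsSaturated p ∧
      H.focalSubgroup = N.focalSubgroup := by
  subst h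
  exact ⟨N, fun _ => rfl, hN, rfl⟩

/-- a map of the system with source `S` is onto `S` -/
theorem range_eq_of_mem_hom_self [Finite S] (F : FusionSystem S) {f : S →* Ω}
    (hf : f ∈ F.Hom S) : f.range = S := by
  apply Subgroup.eq_of_le_of_card_ge (Fusion.range_le F hf)
  rw [Nat.card_congr (Equiv.ofInjective f (F.injective_of_mem hf))]
  rfl

set_option maxHeartbeats 1600000 in
/-- **Yoshida's theorem for fusion systems.** -/
theorem yoshida [Finite S] (p : ℕ) [hp : Fact p.Prime] (hS : IsPGroup p S)
    (F : FusionSystem S) (hF : F.IsSaturated p) (N : FusionSystem (normalizerIn S S))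
    (hN : F.IsNormalizerSystem S N) (hne : N.focalSubgroup ≠ F.focalSubgroup) :
    ∃ (W : Sylow p (Equiv.Perm (Fin (p ^ 2))))
      (f : ↥S →* ↥(W : Subgroup (Equiv.Perm (Fin (p ^ 2))))), Function.Surjective f := by
  classical
  by_contra hnot
  apply hne
  have hA : ∀ a : Multiplicative (ZMod p), a ^ p = 1 := zmod_mul_pow_eq_one
  have hNS : normalizerIn S S = S := le_antisymm inf_le_left (le_inf le_rfl Subgroup.le_normalizer)
  have hSfn : F.IsFullyNormalized S := by
    refine ⟨le_rfl, fun U' _ => ?_⟩
    rw [hNS]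
    exact Subgroup.card_le_of_le inf_le_left
  have hNsat := Fusion.normalizerSystem_isSaturated p hS F hF S hSfn N hN
  obtain ⟨H, hHhom, hHsat, hHfoc⟩ := exists_transport hNS N p hNsat
  rw [← hHfoc]
  have hHF : H.IsSubsystemOf F := by
    intro P f hf
    rw [hHhom, hN P] at hf
    exact hf.1
  have htate := (Cfsg.Agent.Helper6.Tate.tate p hS F hF H hHsat hHF).1
  symm
  apply htate.1
  set Φ : Subgroup Ω := (frattini ↥S).map S.subtype with hΦ
  have hΦS : Φ ≤ S := by
    rintro _ ⟨s, -, rfl⟩
    exact s.2
  have hfocHF : H.focalSubgroup ≤ F.focalSubgroup := by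
    unfold FusionSystem.focalSubgroup
    apply Subgroup.closure_mono
    rintro y ⟨P, f, x, hf, rfl⟩
    exact ⟨P, f, x, hHF P hf, rfl⟩
  have hfocFS : F.focalSubgroup ≤ S := by
    unfold FusionSystem.focalSubgroup
    rw [Subgroup.closure_le]
    rintro y ⟨P, f, x, hf, rfl⟩
    exact S.mul_mem (S.inv_mem (Fusion.src_le F hf x.2)) (Fusion.map_mem F hf x)
  apply le_antisymm
  · apply sup_le le_sup_left
    intro y hy
    have hyS : y ∈ S := hfocFS hy
    set u : S := ⟨y, hyS⟩ with hu
    -- every stable homomorphism kills `u`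
    have hΛ : ∀ Λ : S →* Multiplicative (ZMod p), FStable F Λ → Λ u = 1 := by
      intro Λ hΛs
      have hle : F.focalSubgroup ≤ (Λ.ker).map S.subtype := by
        unfold FusionSystem.focalSubgroup
        rw [Subgroup.closure_le]
        rintro z ⟨P, f, x, hf, rfl⟩
        refine ⟨(⟨x, Fusion.src_le F hf x.2⟩ : S)⁻¹ * ⟨f x, Fusion.map_mem F hf x⟩, ?_, rfl⟩
        rw [SetLike.mem_coe, MonoidHom.mem_ker, map_mul, map_inv, hΛs P f hf x, inv_mul_cancel]
      obtain ⟨s, hs, hsy⟩ := hle hy
      have : s = u := Subtype.ext hsy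
      rw [← this]
      exact MonoidHom.mem_ker.1 hs
    have hμ := yoshida_elem p hS F hF hnot (orderOf u) u le_rfl hΛ
    -- the subgroup `D`
    set D : Subgroup S := (Φ ⊔ H.focalSubgroup).subgroupOf S with hD
    have hΦD : frattini ↥S ≤ D := by
      intro s hs
      rw [hD, Subgroup.mem_subgroupOf]
      exact le_sup_left (a := Φ) ⟨s, hs, rfl⟩
    by_contra hyD
    have huD : u ∉ D := by
      intro h
      exact hyD (Subgroup.mem_subgroupOf.1 h)
    obtain ⟨μ, hμD, hμu⟩ := exists_hom_of_not_mem hS D hΦD u huD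
    apply hμu
    apply hμ μ
    intro f hf x
    have hfN : f ∈ H.Hom S := by
      rw [hHhom, hN S]
      apply KL.mem_normalizerHom_of_le F le_rfl hNS.ge f hf
      have h1 : S.subgroupOf S = ⊤ := Subgroup.subgroupOf_self S
      rw [h1, ← MonoidHom.range_eq_map]
      exact range_eq_of_mem_hom_self F hf
    have h1 : (x : Ω)⁻¹ * f x ∈ H.focalSubgroup :=
      Subgroup.subset_closure ⟨S, f, x, hfN, rfl⟩
    have h2 : x⁻¹ * (⟨f x, Fusion.map_mem F hf x⟩ : S) ∈ D := by
      rw [hD, Subgroup.mem_subgroupOf]
      exact le_sup_right (a := Φ) h1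
    have h3 := MonoidHom.mem_ker.1 (hμD h2)
    rw [map_mul, map_inv, inv_mul_eq_one] at h3
    exact h3.symm
  · exact sup_le_sup_left hfocHF _

end Cfsg.Agent.Helper4.YoshFus
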